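/-
Helper lemmas (helper17): normalizers in finite groups, self-normalizing subgroups of p-groups.
-/
import Mathlib.GroupTheory.Sylow
import Mathlib.GroupTheory.Nilpotent
import Mathlib.GroupTheory.PGroup

set_option autoImplicit false

namespace Cfsg.Agent.Lib.Helper17

/-- In a finite group, `g H g⁻¹ ≤ H` already forces `g ∈ N_G(H)`. -/
theorem mem_normalizer_of_map_conj_le {G : Type*} [Group G] [Finite G] (H : Subgroup G) (g : G)
    (h : H.map (MulAut.conj g).toMonoidHom ≤ H) : g ∈ Subgroup.normalizer (H : Set G) := by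
  rw [Subgroup.mem_normalizer_iff_map_conj_eq]
  apply Subgroup.eq_of_le_of_card_ge h
  apply le_of_eq
  exact Nat.card_congr (Subgroup.equivMapOfInjective H (MulAut.conj g).toMonoidHom
    (MulAut.conj g).injective).toEquiv

/-- Elementwise version. -/
theorem mem_normalizer_of_forall_conj_mem {G : Type*} [Group G] [Finite G] (H : Subgroup G) (g : G)
    (h : ∀ x ∈ H, g * x * g⁻¹ ∈ H) : g ∈ Subgroup.normalizer (H : Set G) := by
  apply mem_normalizer_of_map_conj_le
  rintro _ ⟨x, hx, rfl⟩
  exact h x hx

theorem conj_mem_of_mem_normalizer {G : Type*} [Group G] {H : Subgroup G} {g x : G}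
    (hg : g ∈ Subgroup.normalizer (H : Set G)) (hx : x ∈ H) : g * x * g⁻¹ ∈ H :=
  (Subgroup.mem_normalizer_iff.1 hg x).1 hx

theorem conj_inv_mem_of_mem_normalizer {G : Type*} [Group G] {H : Subgroup G} {g x : G}
    (hg : g ∈ Subgroup.normalizer (H : Set G)) (hx : x ∈ H) : g⁻¹ * x * g ∈ H :=
  (Subgroup.mem_normalizer_iff''.1 hg x).1 hx

/-- A subgroup `H` of a finite `p`-subgroup `T` with `N_T(H) = H` is all of `T`. -/
theorem eq_of_normalizer_inf_le {G : Type*} [Group G] [Finite G] {p : ℕ} [Fact p.Prime]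
    (H T : Subgroup G) (hT : IsPGroup p T) (hHT : H ≤ T)
    (hN : Subgroup.normalizer (H : Set G) ⊓ T ≤ H) : H = T := by
  have : Group.IsNilpotent T := hT.isNilpotent
  have hnc : NormalizerCondition T := Group.normalizerCondition_of_isNilpotent
  rw [normalizerCondition_iff_only_full_group_self_normalizing] at hnc
  have h1 : Subgroup.normalizer ((H.subgroupOf T : Subgroup T) : Set T) = H.subgroupOf T := by
    rw [← Subgroup.subgroupOf_normalizer_eq hHT]
    apply le_antisymm
    · intro x hx
      rw [Subgroup.mem_subgroupOf] at hx ⊢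
      exact hN ⟨hx, x.2⟩
    · intro x hx
      rw [Subgroup.mem_subgroupOf] at hx ⊢
      exact Subgroup.le_normalizer hx
  have h2 := hnc _ h1
  rw [Subgroup.subgroupOf_eq_top] at h2
  exact le_antisymm hHT h2

end Cfsg.Agent.Lib.Helper17
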