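/-
Helper lemmas (helper17): the product inequality |H| |K| ≤ |H ⊔ K| |H ⊓ K|.
-/
import Mathlib.GroupTheory.Index
import Mathlib.GroupTheory.Coset.Card
import Mathlib.Tactic.Ring
import Mathlib.Tactic.GCongr
import Mathlib.Algebra.Group.Pointwise.Set.Basic

set_option autoImplicit false

namespace Cfsg.Agent.Lib.Helper17

open scoped Pointwise

/-- `|H| = |H : H ⊓ K| * |H ⊓ K|`. -/
@[to_additive add_card_eq_relIndex_mul_card_inf]
theorem card_eq_relIndex_mul_card_inf {G : Type*} [Group G] (H K : Subgroup G) :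
    Nat.card H = K.relIndex H * Nat.card ↥(H ⊓ K) := by
  have h1 : (H ⊓ K).relIndex H = K.relIndex H := by
    rw [inf_comm, Subgroup.inf_relIndex_right]
  have h2 : (⊥ : Subgroup G).relIndex (H ⊓ K) * (H ⊓ K).relIndex H = (⊥ : Subgroup G).relIndex H :=
    Subgroup.relIndex_mul_relIndex _ _ _ bot_le inf_le_left
  rw [Subgroup.relIndex_bot_left, Subgroup.relIndex_bot_left, h1] at h2
  rw [← h2, mul_comm]

/-- `|H ⊔ K| = |H ⊔ K : K| * |K|`. -/
@[to_additive add_card_sup_eq_relIndex_mul_card]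
theorem card_sup_eq_relIndex_mul_card {G : Type*} [Group G] (H K : Subgroup G) :
    Nat.card ↥(H ⊔ K) = K.relIndex (H ⊔ K) * Nat.card K := by
  have h2 : (⊥ : Subgroup G).relIndex K * K.relIndex (H ⊔ K) = (⊥ : Subgroup G).relIndex (H ⊔ K) :=
    Subgroup.relIndex_mul_relIndex _ _ _ bot_le le_sup_right
  rw [Subgroup.relIndex_bot_left, Subgroup.relIndex_bot_left] at h2
  rw [← h2, mul_comm]

/-- The product inequality `|H| |K| ≤ |H ⊔ K| |H ⊓ K|` in a finite group. -/
@[to_additive add_card_mul_card_le_card_sup_mul_card_inf]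
theorem card_mul_card_le_card_sup_mul_card_inf {G : Type*} [Group G] [Finite G] (H K : Subgroup G) :
    Nat.card H * Nat.card K ≤ Nat.card ↥(H ⊔ K) * Nat.card ↥(H ⊓ K) := by
  have h1 := card_eq_relIndex_mul_card_inf H K
  have h2 := card_sup_eq_relIndex_mul_card H K
  have h3 : K.relIndex H ≤ K.relIndex (H ⊔ K) := by
    apply Subgroup.relIndex_le_of_le_right le_sup_left
    intro h0
    rw [h0, zero_mul] at h2
    exact (Nat.card_pos (α := ↥(H ⊔ K))).ne' h2
  rw [h1, h2]
  calc K.relIndex H * Nat.card ↥(H ⊓ K) * Nat.card K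
      ≤ K.relIndex (H ⊔ K) * Nat.card ↥(H ⊓ K) * Nat.card K := by gcongr
    _ = K.relIndex (H ⊔ K) * Nat.card K * Nat.card ↥(H ⊓ K) := by ring

/-- Equality case of the product inequality: `H ⊔ K = H K` as sets. -/
theorem coe_sup_eq_mul_of_card_mul_card_eq {G : Type*} [Group G] [Finite G] (H K : Subgroup G)
    (h : Nat.card H * Nat.card K = Nat.card ↥(H ⊔ K) * Nat.card ↥(H ⊓ K)) :
    ((H ⊔ K : Subgroup G) : Set G) = (H : Set G) * (K : Set G) := by
  have h1 := card_eq_relIndex_mul_card_inf H K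
  have h2 := card_sup_eq_relIndex_mul_card H K
  have hK : 0 < Nat.card K := Nat.card_pos
  have hI : 0 < Nat.card ↥(H ⊓ K) := Nat.card_pos
  have h3 : K.relIndex H = K.relIndex (H ⊔ K) := by
    rw [h1, h2] at h
    have h4 : K.relIndex H * (Nat.card ↥(H ⊓ K) * Nat.card K)
        = K.relIndex (H ⊔ K) * (Nat.card ↥(H ⊓ K) * Nat.card K) := by
      calc K.relIndex H * (Nat.card ↥(H ⊓ K) * Nat.card K)
          = K.relIndex H * Nat.card ↥(H ⊓ K) * Nat.card K := by ring
        _ = K.relIndex (H ⊔ K) * Nat.card K * Nat.card ↥(H ⊓ K) := h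
        _ = K.relIndex (H ⊔ K) * (Nat.card ↥(H ⊓ K) * Nat.card K) := by ring
    exact Nat.eq_of_mul_eq_mul_right (Nat.mul_pos hI hK) h4
  have hle : H ≤ H ⊔ K := le_sup_left
  have hbij : Function.Bijective (Subgroup.quotientSubgroupOfEmbeddingOfLE K hle) := by
    apply (Subgroup.quotientSubgroupOfEmbeddingOfLE K hle).injective.bijective_of_nat_card_le
    exact le_of_eq h3.symm
  apply Set.Subset.antisymm
  · intro x hx
    obtain ⟨q, hq⟩ := hbij.2 (QuotientGroup.mk (⟨x, hx⟩ : ↥(H ⊔ K)))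
    induction q using QuotientGroup.induction_on with
    | H a =>
      rw [Subgroup.quotientSubgroupOfEmbeddingOfLE_apply_mk, QuotientGroup.eq,
        Subgroup.mem_subgroupOf] at hq
      refine ⟨a.1, a.2, _, hq, ?_⟩
      simp
  · rintro _ ⟨a, ha, b, hb, rfl⟩
    exact (H ⊔ K).mul_mem (hle ha) ((le_sup_right : K ≤ H ⊔ K) hb)

end Cfsg.Agent.Lib.Helper17
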