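/-
Helper lemmas (helper17): the Chermak–Delgado measure |H| |C_G(H)| in an arbitrary finite group.
-/
import Cfsg.Agent.Lib.Helper17.Card
import Mathlib.GroupTheory.Subgroup.Centralizer
import Mathlib.Tactic

set_option autoImplicit false

namespace Cfsg.Agent.Lib.Helper17

open scoped Pointwise

/-- The Chermak–Delgado measure `|H| |C_G(H)|`. -/
noncomputable def cdm {G : Type*} [Group G] (H : Subgroup G) : ℕ :=
  Nat.card H * Nat.card ↥(Subgroup.centralizer (H : Set G))

theorem cdm_def {G : Type*} [Group G] (H : Subgroup G) :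
    cdm H = Nat.card H * Nat.card ↥(Subgroup.centralizer (H : Set G)) := rfl

theorem cdm_pos {G : Type*} [Group G] [Finite G] (H : Subgroup G) : 0 < cdm H :=
  Nat.mul_pos Nat.card_pos Nat.card_pos

theorem centralizer_sup_eq {G : Type*} [Group G] (H K : Subgroup G) :
    Subgroup.centralizer ((H ⊔ K : Subgroup G) : Set G)
      = Subgroup.centralizer (H : Set G) ⊓ Subgroup.centralizer (K : Set G) := by
  apply le_antisymm
  · apply le_inf
    · exact Subgroup.centralizer_le (show (H : Set G) ⊆ ((H ⊔ K : Subgroup G) : Set G) from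
        fun x hx => (le_sup_left : H ≤ H ⊔ K) hx)
    · exact Subgroup.centralizer_le (show (K : Set G) ⊆ ((H ⊔ K : Subgroup G) : Set G) from
        fun x hx => (le_sup_right : K ≤ H ⊔ K) hx)
  · intro x hx
    have h1 : H ≤ Subgroup.centralizer ({x} : Set G) := by
      intro y hy
      rw [Subgroup.mem_centralizer_iff]
      intro z hz
      rw [Set.mem_singleton_iff] at hz
      subst hz
      exact ((Subgroup.mem_centralizer_iff.1 hx.1) y hy).symm
    have h2 : K ≤ Subgroup.centralizer ({x} : Set G) := by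
      intro y hy
      rw [Subgroup.mem_centralizer_iff]
      intro z hz
      rw [Set.mem_singleton_iff] at hz
      subst hz
      exact ((Subgroup.mem_centralizer_iff.1 hx.2) y hy).symm
    rw [Subgroup.mem_centralizer_iff]
    intro y hy
    have h3 := (sup_le h1 h2) hy
    rw [Subgroup.mem_centralizer_iff] at h3
    exact (h3 x rfl).symm

theorem centralizer_sup_le_centralizer_inf {G : Type*} [Group G] (H K : Subgroup G) :
    Subgroup.centralizer (H : Set G) ⊔ Subgroup.centralizer (K : Set G)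
      ≤ Subgroup.centralizer ((H ⊓ K : Subgroup G) : Set G) := by
  apply sup_le
  · exact Subgroup.centralizer_le (fun x hx => hx.1)
  · exact Subgroup.centralizer_le (fun x hx => hx.2)

theorem le_centralizer_centralizer' {G : Type*} [Group G] (H : Subgroup G) :
    H ≤ Subgroup.centralizer ((Subgroup.centralizer (H : Set G) : Subgroup G) : Set G) :=
  Subgroup.le_centralizer_iff.1 le_rfl

/-- The Chermak–Delgado inequality. -/
theorem cdm_mul_le {G : Type*} [Group G] [Finite G] (H K : Subgroup G) :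
    cdm H * cdm K ≤ cdm (H ⊔ K) * cdm (H ⊓ K) := by
  have ha := card_mul_card_le_card_sup_mul_card_inf H K
  have hb := card_mul_card_le_card_sup_mul_card_inf (Subgroup.centralizer (H : Set G))
    (Subgroup.centralizer (K : Set G))
  have hc : Nat.card ↥(Subgroup.centralizer (H : Set G) ⊔ Subgroup.centralizer (K : Set G))
      ≤ Nat.card ↥(Subgroup.centralizer ((H ⊓ K : Subgroup G) : Set G)) :=
    Subgroup.card_le_of_le (centralizer_sup_le_centralizer_inf H K)
  rw [← centralizer_sup_eq] at hb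
  unfold cdm
  calc Nat.card H * Nat.card ↥(Subgroup.centralizer (H : Set G))
        * (Nat.card K * Nat.card ↥(Subgroup.centralizer (K : Set G)))
      = (Nat.card H * Nat.card K) * (Nat.card ↥(Subgroup.centralizer (H : Set G))
        * Nat.card ↥(Subgroup.centralizer (K : Set G))) := by ring
    _ ≤ (Nat.card ↥(H ⊔ K) * Nat.card ↥(H ⊓ K)) *
        (Nat.card ↥(Subgroup.centralizer (H : Set G) ⊔ Subgroup.centralizer (K : Set G))
          * Nat.card ↥(Subgroup.centralizer ((H ⊔ K : Subgroup G) : Set G))) :=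
        Nat.mul_le_mul ha hb
    _ ≤ (Nat.card ↥(H ⊔ K) * Nat.card ↥(H ⊓ K)) *
        (Nat.card ↥(Subgroup.centralizer ((H ⊓ K : Subgroup G) : Set G))
          * Nat.card ↥(Subgroup.centralizer ((H ⊔ K : Subgroup G) : Set G))) := by gcongr
    _ = _ := by ring

/-- `H` has the largest possible Chermak–Delgado measure. -/
def IsCDMax {G : Type*} [Group G] (H : Subgroup G) : Prop := ∀ X : Subgroup G, cdm X ≤ cdm H

theorem IsCDMax.cdm_eq {G : Type*} [Group G] {H K : Subgroup G} (hH : IsCDMax H) (hK : IsCDMax K) :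
    cdm H = cdm K := le_antisymm (hK H) (hH K)

theorem IsCDMax.of_cdm_eq {G : Type*} [Group G] {H K : Subgroup G} (hH : IsCDMax H)
    (h : cdm K = cdm H) : IsCDMax K := fun X => h ▸ hH X

theorem IsCDMax.of_cdm_le {G : Type*} [Group G] {H K : Subgroup G} (hH : IsCDMax H)
    (h : cdm H ≤ cdm K) : IsCDMax K := fun X => (hH X).trans h

theorem exists_isCDMax (G : Type*) [Group G] [Finite G] : ∃ H : Subgroup G, IsCDMax H := by
  obtain ⟨H, hH⟩ := Finite.exists_max (fun H : Subgroup G => cdm H)
  exact ⟨H, hH⟩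

private theorem nat_eq_of_mul_le {a a' b b' : ℕ} (ha : a ≤ a') (hb : b ≤ b') (ha0 : 0 < a)
    (hb0 : 0 < b) (h : a' * b' ≤ a * b) : a = a' ∧ b = b' := by
  constructor
  · by_contra hne
    have hlt : a < a' := lt_of_le_of_ne ha hne
    have : a * b < a' * b' := Nat.mul_lt_mul_of_lt_of_le hlt hb (lt_of_lt_of_le hb0 hb)
    omega
  · by_contra hne
    have hlt : b < b' := lt_of_le_of_ne hb hne
    have : a * b < a' * b' := Nat.mul_lt_mul_of_le_of_lt ha hlt (lt_of_lt_of_le ha0 ha)
    omega

/-- Equality case of the Chermak–Delgado inequality for two subgroups of largest measure. -/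
theorem IsCDMax.sup_inf {G : Type*} [Group G] [Finite G] {H K : Subgroup G} (hH : IsCDMax H)
    (hK : IsCDMax K) :
    IsCDMax (H ⊔ K) ∧ IsCDMax (H ⊓ K) ∧
    ((H ⊔ K : Subgroup G) : Set G) = (H : Set G) * (K : Set G) ∧
    Subgroup.centralizer ((H ⊓ K : Subgroup G) : Set G)
      = Subgroup.centralizer (H : Set G) ⊔ Subgroup.centralizer (K : Set G) ∧
    ((Subgroup.centralizer (H : Set G) ⊔ Subgroup.centralizer (K : Set G) : Subgroup G) : Set G)
      = (Subgroup.centralizer (H : Set G) : Set G) * (Subgroup.centralizer (K : Set G) : Set G) := by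
  have hHK : cdm K = cdm H := hK.cdm_eq hH
  have hmain := cdm_mul_le H K
  rw [hHK] at hmain
  have h1 : cdm (H ⊔ K) ≤ cdm H := hH _
  have h2 : cdm (H ⊓ K) ≤ cdm H := hH _
  obtain ⟨e1, e2⟩ := nat_eq_of_mul_le h1 h2 (cdm_pos _) (cdm_pos _) hmain
  refine ⟨hH.of_cdm_eq e1, hH.of_cdm_eq e2, ?_⟩
  -- now the finer equalities
  have ha := card_mul_card_le_card_sup_mul_card_inf H K
  have hb := card_mul_card_le_card_sup_mul_card_inf (Subgroup.centralizer (H : Set G))
    (Subgroup.centralizer (K : Set G))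
  have hc : Nat.card ↥(Subgroup.centralizer (H : Set G) ⊔ Subgroup.centralizer (K : Set G))
      ≤ Nat.card ↥(Subgroup.centralizer ((H ⊓ K : Subgroup G) : Set G)) :=
    Subgroup.card_le_of_le (centralizer_sup_le_centralizer_inf H K)
  have hd := centralizer_sup_eq H K
  have hb2 : Nat.card ↥(Subgroup.centralizer (H : Set G)) * Nat.card ↥(Subgroup.centralizer (K : Set G))
      ≤ Nat.card ↥(Subgroup.centralizer ((H ⊓ K : Subgroup G) : Set G))
        * Nat.card ↥(Subgroup.centralizer ((H ⊔ K : Subgroup G) : Set G)) := by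
    rw [hd]
    exact hb.trans (Nat.mul_le_mul_right _ hc)
  have htot : (Nat.card ↥(H ⊔ K) * Nat.card ↥(H ⊓ K)) *
      (Nat.card ↥(Subgroup.centralizer ((H ⊓ K : Subgroup G) : Set G))
        * Nat.card ↥(Subgroup.centralizer ((H ⊔ K : Subgroup G) : Set G)))
      ≤ (Nat.card H * Nat.card K) * (Nat.card ↥(Subgroup.centralizer (H : Set G))
        * Nat.card ↥(Subgroup.centralizer (K : Set G))) := by
    have e3 : cdm (H ⊔ K) * cdm (H ⊓ K) = cdm H * cdm K := by rw [e1, e2, hHK]
    unfold cdm at e3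
    apply le_of_eq
    calc (Nat.card ↥(H ⊔ K) * Nat.card ↥(H ⊓ K)) *
          (Nat.card ↥(Subgroup.centralizer ((H ⊓ K : Subgroup G) : Set G))
            * Nat.card ↥(Subgroup.centralizer ((H ⊔ K : Subgroup G) : Set G)))
        = Nat.card ↥(H ⊔ K) * Nat.card ↥(Subgroup.centralizer ((H ⊔ K : Subgroup G) : Set G)) *
          (Nat.card ↥(H ⊓ K) * Nat.card ↥(Subgroup.centralizer ((H ⊓ K : Subgroup G) : Set G))) := by
            ring
      _ = Nat.card H * Nat.card ↥(Subgroup.centralizer (H : Set G))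
          * (Nat.card K * Nat.card ↥(Subgroup.centralizer (K : Set G))) := e3
      _ = (Nat.card H * Nat.card K) * (Nat.card ↥(Subgroup.centralizer (H : Set G))
          * Nat.card ↥(Subgroup.centralizer (K : Set G))) := by ring
  obtain ⟨e4, e5⟩ := nat_eq_of_mul_le ha hb2 (Nat.mul_pos Nat.card_pos Nat.card_pos)
    (Nat.mul_pos Nat.card_pos Nat.card_pos) htot
  -- e4 : |H||K| = |H ⊔ K||H ⊓ K|, e5 : |C H||C K| = |C(H ⊓ K)||C(H ⊔ K)|
  have e6 : Nat.card ↥(Subgroup.centralizer (H : Set G) ⊔ Subgroup.centralizer (K : Set G))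
      = Nat.card ↥(Subgroup.centralizer ((H ⊓ K : Subgroup G) : Set G)) := by
    apply le_antisymm hc
    rw [hd] at e5
    rw [e5] at hb
    exact Nat.le_of_mul_le_mul_right hb Nat.card_pos
  have e7 : Subgroup.centralizer ((H ⊓ K : Subgroup G) : Set G)
      = Subgroup.centralizer (H : Set G) ⊔ Subgroup.centralizer (K : Set G) :=
    (Subgroup.eq_of_le_of_card_ge (centralizer_sup_le_centralizer_inf H K) (le_of_eq e6.symm)).symm
  refine ⟨coe_sup_eq_mul_of_card_mul_card_eq H K e4, e7, ?_⟩
  apply coe_sup_eq_mul_of_card_mul_card_eq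
  rw [e5, ← hd, e7]

/-- The centralizer of a subgroup of largest measure has largest measure, and the double centralizer
returns the subgroup. -/
theorem IsCDMax.centralizer {G : Type*} [Group G] [Finite G] {H : Subgroup G} (hH : IsCDMax H) :
    IsCDMax (Subgroup.centralizer (H : Set G)) ∧
    H = Subgroup.centralizer ((Subgroup.centralizer (H : Set G) : Subgroup G) : Set G) := by
  have h1 : Nat.card H ≤ Nat.card ↥(Subgroup.centralizer
      ((Subgroup.centralizer (H : Set G) : Subgroup G) : Set G)) :=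
    Subgroup.card_le_of_le (le_centralizer_centralizer' H)
  have h2 : cdm H ≤ cdm (Subgroup.centralizer (H : Set G)) := by
    unfold cdm
    rw [mul_comm]
    exact Nat.mul_le_mul_left _ h1
  have h3 : cdm (Subgroup.centralizer (H : Set G)) = cdm H := le_antisymm (hH _) h2
  refine ⟨hH.of_cdm_le h2, ?_⟩
  apply Subgroup.eq_of_le_of_card_ge (le_centralizer_centralizer' H)
  unfold cdm at h3
  rw [mul_comm] at h3
  exact le_of_eq (Nat.eq_of_mul_eq_mul_right Nat.card_pos h3)

theorem centralizer_map_equiv {G : Type*} [Group G] (H : Subgroup G) (φ : G ≃* G) :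
    Subgroup.centralizer ((H.map φ.toMonoidHom : Subgroup G) : Set G)
      = (Subgroup.centralizer (H : Set G)).map φ.toMonoidHom := by
  apply le_antisymm
  · intro x hx
    refine ⟨φ.symm x, ?_, by simp⟩
    rw [SetLike.mem_coe, Subgroup.mem_centralizer_iff]
    intro h hh
    have h1 : φ h ∈ ((H.map φ.toMonoidHom : Subgroup G) : Set G) := ⟨h, hh, rfl⟩
    have h2 := (Subgroup.mem_centralizer_iff.1 hx) (φ h) h1
    apply φ.injective
    rw [map_mul, map_mul, MulEquiv.apply_symm_apply]
    exact h2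
  · have := Subgroup.map_centralizer_le_centralizer_image (H : Set G) φ.toMonoidHom
    rwa [← Subgroup.coe_map] at this

theorem card_map_equiv {G : Type*} [Group G] (H : Subgroup G) (φ : G ≃* G) :
    Nat.card ↥(H.map φ.toMonoidHom) = Nat.card H :=
  (Nat.card_congr (Subgroup.equivMapOfInjective H φ.toMonoidHom φ.injective).toEquiv).symm

theorem cdm_map_equiv {G : Type*} [Group G] (H : Subgroup G) (φ : G ≃* G) :
    cdm (H.map φ.toMonoidHom) = cdm H := by
  unfold cdm
  rw [centralizer_map_equiv, card_map_equiv, card_map_equiv]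

theorem IsCDMax.map_equiv {G : Type*} [Group G] {H : Subgroup G} (hH : IsCDMax H) (φ : G ≃* G) :
    IsCDMax (H.map φ.toMonoidHom) := hH.of_cdm_eq (cdm_map_equiv H φ)

theorem cdm_bot {G : Type*} [Group G] : cdm (⊥ : Subgroup G) = Nat.card G := by
  unfold cdm
  rw [Subgroup.card_bot, one_mul]
  have : Subgroup.centralizer (((⊥ : Subgroup G) : Subgroup G) : Set G) = ⊤ := by
    rw [Subgroup.centralizer_eq_top_iff_subset]
    intro x hx
    rw [SetLike.mem_coe, Subgroup.mem_bot] at hx
    subst hx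
    exact (Subgroup.center G).one_mem
  rw [this, Subgroup.card_top]

/-- If `G = X (g X g⁻¹)` as sets then `X = G`. -/
theorem eq_top_of_mul_conj_eq_univ {G : Type*} [Group G] (X : Subgroup G) (g : G)
    (h : ∀ y : G, ∃ a ∈ X, ∃ b ∈ X, y = a * (g * b * g⁻¹)) : X = ⊤ := by
  have hg : g ∈ X := by
    obtain ⟨a, ha, b, hb, hab⟩ := h g⁻¹
    have h1 : g = a⁻¹ * b⁻¹ := by
      have h2 : a * g * b = 1 := by
        have : g⁻¹ * g = a * (g * b * g⁻¹) * g := by rw [← hab]
        rw [inv_mul_cancel] at this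
        rw [this]; group
      calc g = a⁻¹ * (a * g * b) * b⁻¹ := by group
        _ = a⁻¹ * b⁻¹ := by rw [h2, mul_one]
    rw [h1]
    exact X.mul_mem (X.inv_mem ha) (X.inv_mem hb)
  rw [eq_top_iff]
  intro y _
  obtain ⟨a, ha, b, hb, hab⟩ := h y
  rw [hab]
  exact X.mul_mem ha (X.mul_mem (X.mul_mem hg hb) (X.inv_mem hg))

/-- For two subgroups of largest measure the product formula is an equality. -/
theorem IsCDMax.card_mul_card_eq {G : Type*} [Group G] [Finite G] {H K : Subgroup G} (hH : IsCDMax H)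
    (hK : IsCDMax K) : Nat.card H * Nat.card K = Nat.card ↥(H ⊔ K) * Nat.card ↥(H ⊓ K) := by
  have hHK : cdm K = cdm H := hK.cdm_eq hH
  obtain ⟨m1, m2, -⟩ := hH.sup_inf hK
  have e1 : cdm (H ⊔ K) = cdm H := m1.cdm_eq hH
  have e2 : cdm (H ⊓ K) = cdm H := m2.cdm_eq hH
  have ha := card_mul_card_le_card_sup_mul_card_inf H K
  have hb := card_mul_card_le_card_sup_mul_card_inf (Subgroup.centralizer (H : Set G))
    (Subgroup.centralizer (K : Set G))
  have hc : Nat.card ↥(Subgroup.centralizer (H : Set G) ⊔ Subgroup.centralizer (K : Set G))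
      ≤ Nat.card ↥(Subgroup.centralizer ((H ⊓ K : Subgroup G) : Set G)) :=
    Subgroup.card_le_of_le (centralizer_sup_le_centralizer_inf H K)
  have hd := centralizer_sup_eq H K
  have hb2 : Nat.card ↥(Subgroup.centralizer (H : Set G)) * Nat.card ↥(Subgroup.centralizer (K : Set G))
      ≤ Nat.card ↥(Subgroup.centralizer ((H ⊓ K : Subgroup G) : Set G))
        * Nat.card ↥(Subgroup.centralizer ((H ⊔ K : Subgroup G) : Set G)) := by
    rw [hd]
    exact hb.trans (Nat.mul_le_mul_right _ hc)
  have htot : (Nat.card ↥(H ⊔ K) * Nat.card ↥(H ⊓ K)) *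
      (Nat.card ↥(Subgroup.centralizer ((H ⊓ K : Subgroup G) : Set G))
        * Nat.card ↥(Subgroup.centralizer ((H ⊔ K : Subgroup G) : Set G)))
      ≤ (Nat.card H * Nat.card K) * (Nat.card ↥(Subgroup.centralizer (H : Set G))
        * Nat.card ↥(Subgroup.centralizer (K : Set G))) := by
    have e3 : cdm (H ⊔ K) * cdm (H ⊓ K) = cdm H * cdm K := by rw [e1, e2, hHK]
    unfold cdm at e3
    apply le_of_eq
    calc (Nat.card ↥(H ⊔ K) * Nat.card ↥(H ⊓ K)) *
          (Nat.card ↥(Subgroup.centralizer ((H ⊓ K : Subgroup G) : Set G))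
            * Nat.card ↥(Subgroup.centralizer ((H ⊔ K : Subgroup G) : Set G)))
        = Nat.card ↥(H ⊔ K) * Nat.card ↥(Subgroup.centralizer ((H ⊔ K : Subgroup G) : Set G)) *
          (Nat.card ↥(H ⊓ K) * Nat.card ↥(Subgroup.centralizer ((H ⊓ K : Subgroup G) : Set G))) := by
            ring
      _ = Nat.card H * Nat.card ↥(Subgroup.centralizer (H : Set G))
          * (Nat.card K * Nat.card ↥(Subgroup.centralizer (K : Set G))) := e3
      _ = (Nat.card H * Nat.card K) * (Nat.card ↥(Subgroup.centralizer (H : Set G))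
          * Nat.card ↥(Subgroup.centralizer (K : Set G))) := by ring
  exact (nat_eq_of_mul_le ha hb2 (Nat.mul_pos Nat.card_pos Nat.card_pos)
    (Nat.mul_pos Nat.card_pos Nat.card_pos) htot).1

end Cfsg.Agent.Lib.Helper17
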