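/-
Helper lemmas (helper17): bridge between `Cfsg.IsCentralizerLarge` and the Chermak–Delgado library.
-/
import Cfsg.Agent.Lib.Helper17.ChermakDelgado
import Cfsg.Prelude.Def_BaumannBlocks

set_option autoImplicit false

namespace Cfsg.Agent.Lib.Helper17

open scoped Pointwise

theorem maxCentralizerProduct_set_eq (S : Type*) [Group S] :
    {k : ℕ | ∃ R : Subgroup S, Nat.card ↥R * Nat.card ↥(Subgroup.centralizer (R : Set S)) = k}
      = Set.range (fun R : Subgroup S => cdm R) := by
  ext k
  simp [cdm, Set.mem_range]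

theorem maxCentralizerProduct_bddAbove (S : Type*) [Group S] [Finite S] :
    BddAbove {k : ℕ | ∃ R : Subgroup S, Nat.card ↥R * Nat.card ↥(Subgroup.centralizer (R : Set S)) = k} := by
  rw [maxCentralizerProduct_set_eq]
  exact (Set.finite_range _).bddAbove

theorem isCentralizerLarge_iff_isCDMax {S : Type*} [Group S] [Finite S] (R : Subgroup S) :
    Cfsg.IsCentralizerLarge R ↔ IsCDMax R := by
  unfold Cfsg.IsCentralizerLarge Cfsg.maxCentralizerProduct
  constructor
  · intro h X
    show cdm X ≤ Nat.card ↥R * Nat.card ↥(Subgroup.centralizer (R : Set S))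
    rw [h]
    exact le_csSup (maxCentralizerProduct_bddAbove S) ⟨X, rfl⟩
  · intro h
    symm
    apply IsGreatest.csSup_eq
    refine ⟨⟨R, rfl⟩, ?_⟩
    rintro k ⟨X, rfl⟩
    exact h X

/-- The centre of `↥R` is `C_G(R)` cut down to `R`. -/
theorem center_eq_centralizer_subgroupOf {G : Type*} [Group G] (R : Subgroup G) :
    Subgroup.center ↥R = (Subgroup.centralizer (R : Set G)).subgroupOf R := by
  ext x
  rw [Subgroup.mem_center_iff, Subgroup.mem_subgroupOf, Subgroup.mem_centralizer_iff]
  constructor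
  · intro h y hy
    have := h ⟨y, hy⟩
    exact congrArg Subtype.val this
  · intro h y
    apply Subtype.ext
    exact h y.1 y.2

theorem card_center_eq {G : Type*} [Group G] (R : Subgroup G) :
    Nat.card ↥(Subgroup.center ↥R) = Nat.card ↥(R ⊓ Subgroup.centralizer (R : Set G)) := by
  rw [center_eq_centralizer_subgroupOf, inf_comm, ← Subgroup.inf_subgroupOf_right]
  exact Nat.card_congr (Subgroup.subgroupOfEquivOfLe inf_le_right).toEquiv

/-- The "central" measure `|R| |Z(R)|`. -/
noncomputable def czm {G : Type*} [Group G] (R : Subgroup G) : ℕ :=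
  Nat.card R * Nat.card ↥(Subgroup.center ↥R)

theorem czm_le_cdm {G : Type*} [Group G] [Finite G] (R : Subgroup G) : czm R ≤ cdm R := by
  unfold czm cdm
  rw [card_center_eq]
  exact Nat.mul_le_mul_left _ (Subgroup.card_le_of_le inf_le_right)

theorem czm_eq_cdm_of_le {G : Type*} [Group G] (R : Subgroup G)
    (h : Subgroup.centralizer (R : Set G) ≤ R) : czm R = cdm R := by
  unfold czm cdm
  rw [card_center_eq, inf_eq_right.2 h]

/-- There is a subgroup of largest Chermak–Delgado measure containing its centralizer. -/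
theorem exists_isCDMax_centralizer_le (G : Type*) [Group G] [Finite G] :
    ∃ R : Subgroup G, IsCDMax R ∧ Subgroup.centralizer (R : Set G) ≤ R := by
  obtain ⟨Q, hQ⟩ := exists_isCDMax G
  obtain ⟨hC, hQC⟩ := hQ.centralizer
  obtain ⟨h1, -⟩ := hQ.sup_inf hC
  refine ⟨Q ⊔ Subgroup.centralizer (Q : Set G), h1, ?_⟩
  rw [centralizer_sup_eq, ← hQC]
  exact inf_le_right.trans le_sup_left

theorem maxCentralProduct_set_eq (S : Type*) [Group S] :
    {k : ℕ | ∃ R : Subgroup S, Nat.card ↥R * Nat.card ↥(Subgroup.center ↥R) = k}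
      = Set.range (fun R : Subgroup S => czm R) := by
  ext k
  simp [czm, Set.mem_range]

theorem maxCentralProduct_bddAbove (S : Type*) [Group S] [Finite S] :
    BddAbove {k : ℕ | ∃ R : Subgroup S, Nat.card ↥R * Nat.card ↥(Subgroup.center ↥R) = k} := by
  rw [maxCentralProduct_set_eq]
  exact (Set.finite_range _).bddAbove

theorem isCentrallyLarge_iff_forall {S : Type*} [Group S] [Finite S] (R : Subgroup S) :
    Cfsg.IsCentrallyLarge R ↔ ∀ X : Subgroup S, czm X ≤ czm R := by
  unfold Cfsg.IsCentrallyLarge Cfsg.maxCentralProduct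
  constructor
  · intro h X
    show czm X ≤ Nat.card ↥R * Nat.card ↥(Subgroup.center ↥R)
    rw [h]
    exact le_csSup (maxCentralProduct_bddAbove S) ⟨X, rfl⟩
  · intro h
    symm
    apply IsGreatest.csSup_eq
    refine ⟨⟨R, rfl⟩, ?_⟩
    rintro k ⟨X, rfl⟩
    exact h X

/-- Centrally large = largest Chermak–Delgado measure and contains its centralizer. -/
theorem isCentrallyLarge_iff {S : Type*} [Group S] [Finite S] (R : Subgroup S) :
    Cfsg.IsCentrallyLarge R ↔ IsCDMax R ∧ Subgroup.centralizer (R : Set S) ≤ R := by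
  rw [isCentrallyLarge_iff_forall]
  obtain ⟨R₀, hR₀, hR₀C⟩ := exists_isCDMax_centralizer_le S
  constructor
  · intro h
    have h1 : cdm R₀ ≤ czm R := (czm_eq_cdm_of_le R₀ hR₀C) ▸ h R₀
    have h2 : czm R ≤ cdm R := czm_le_cdm R
    have h3 : cdm R ≤ cdm R₀ := hR₀ R
    have h4 : czm R = cdm R := le_antisymm h2 (h3.trans h1)
    refine ⟨hR₀.of_cdm_le (h1.trans h2), ?_⟩
    unfold czm cdm at h4
    rw [card_center_eq] at h4
    have h5 := Nat.eq_of_mul_eq_mul_left Nat.card_pos h4
    have h6 : R ⊓ Subgroup.centralizer (R : Set S) = Subgroup.centralizer (R : Set S) :=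
      Subgroup.eq_of_le_of_card_ge inf_le_right (le_of_eq h5.symm)
    exact inf_eq_right.1 h6
  · rintro ⟨h1, h2⟩ X
    rw [czm_eq_cdm_of_le R h2]
    exact (czm_le_cdm X).trans (h1 X)

end Cfsg.Agent.Lib.Helper17
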