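/-
Helper lemmas (helper17): centrally large subgroups and abelian subgroups of largest order
(after Chermak–Delgado and Glauberman), valid in any finite group.
-/
import Cfsg.Agent.Lib.Helper17.CDBridge
import Cfsg.Prelude.Def_PLocal

set_option autoImplicit false

namespace Cfsg.Agent.Lib.Helper17

open scoped Pointwise

theorem cl_sup {P : Type*} [Group P] [Finite P] (Q R : Subgroup P) (hQ : Cfsg.IsCentrallyLarge Q)
    (hR : Cfsg.IsCentrallyLarge R) :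
    ((Q ⊔ R : Subgroup P) : Set P) = (Q : Set P) * (R : Set P) ∧ Cfsg.IsCentrallyLarge (Q ⊔ R) := by
  rw [isCentrallyLarge_iff] at hQ hR
  obtain ⟨h1, -, h3, -, -⟩ := hQ.1.sup_inf hR.1
  refine ⟨h3, ?_⟩
  rw [isCentrallyLarge_iff]
  refine ⟨h1, ?_⟩
  rw [centralizer_sup_eq]
  exact inf_le_left.trans (hQ.2.trans le_sup_left)

theorem cl_supClosed (P : Type*) [Group P] [Finite P] :
    SupClosed {R : Subgroup P | Cfsg.IsCentrallyLarge R} :=
  fun _ ha _ hb => (cl_sup _ _ ha hb).2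

theorem exists_cl (P : Type*) [Group P] [Finite P] : ∃ R : Subgroup P, Cfsg.IsCentrallyLarge R := by
  obtain ⟨R, h1, h2⟩ := exists_isCDMax_centralizer_le P
  exact ⟨R, (isCentrallyLarge_iff R).2 ⟨h1, h2⟩⟩

theorem exists_mcl_le {P : Type*} [Group P] [Finite P] (R₀ : Subgroup P)
    (hR₀ : Cfsg.IsCentrallyLarge R₀) :
    ∃ R : Subgroup P, Cfsg.IsMinimalCentrallyLarge R ∧ R ≤ R₀ := by
  have hne : Nonempty {R : Subgroup P // Cfsg.IsCentrallyLarge R ∧ R ≤ R₀} := ⟨⟨R₀, hR₀, le_rfl⟩⟩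
  obtain ⟨⟨R, hR, hle⟩, hmin⟩ := Finite.exists_min
    (fun R : {R : Subgroup P // Cfsg.IsCentrallyLarge R ∧ R ≤ R₀} => Nat.card R.1)
  refine ⟨R, ⟨hR, fun R' hle' hR' => ?_⟩, hle⟩
  exact Subgroup.eq_of_le_of_card_ge hle' (hmin ⟨R', hR', hle'.trans hle⟩)

theorem exists_mcl (P : Type*) [Group P] [Finite P] :
    ∃ R : Subgroup P, Cfsg.IsMinimalCentrallyLarge R := by
  obtain ⟨R₀, hR₀⟩ := exists_cl P
  obtain ⟨R, hR, -⟩ := exists_mcl_le R₀ hR₀
  exact ⟨R, hR⟩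

theorem centrallyLargeJoin_isCL (P : Type*) [Group P] [Finite P] :
    Cfsg.IsCentrallyLarge (Cfsg.centrallyLargeJoin P) := by
  unfold Cfsg.centrallyLargeJoin
  obtain ⟨R, hR⟩ := exists_cl P
  exact (cl_supClosed P).sSup_mem_of_nonempty (Set.toFinite _) ⟨R, hR⟩ (fun _ h => h)

theorem minimalCentrallyLargeJoin_isCL (P : Type*) [Group P] [Finite P] :
    Cfsg.IsCentrallyLarge (Cfsg.minimalCentrallyLargeJoin P) := by
  unfold Cfsg.minimalCentrallyLargeJoin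
  obtain ⟨R, hR⟩ := exists_mcl P
  exact (cl_supClosed P).sSup_mem_of_nonempty (Set.toFinite _) ⟨R, hR⟩ (fun _ h => h.1)

/-! ### Abelian subgroups of largest order -/

theorem exists_maxAbelian (P : Type*) [Group P] [Finite P] :
    ∃ A : Subgroup P, A ∈ Cfsg.maxAbelianSubgroups P := by
  have hne : Nonempty {A : Subgroup P // IsMulCommutative A} :=
    ⟨⟨⊥, by
      rw [← Subgroup.le_centralizer_iff_isMulCommutative]
      exact bot_le⟩⟩
  obtain ⟨⟨A, hA⟩, hmax⟩ := Finite.exists_max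
    (fun A : {A : Subgroup P // IsMulCommutative A} => Nat.card A.1)
  exact ⟨A, hA, fun B hB => hmax ⟨B, hB⟩⟩

/-- `A ⊔ B` is abelian when `A`, `B` are abelian and centralize each other. -/
theorem isMulCommutative_sup {P : Type*} [Group P] (A B : Subgroup P)
    (hA : IsMulCommutative A) (hB : IsMulCommutative B)
    (hAB : A ≤ Subgroup.centralizer (B : Set P)) : IsMulCommutative ↥(A ⊔ B) := by
  rw [← Subgroup.le_centralizer_iff_isMulCommutative, centralizer_sup_eq]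
  rw [← Subgroup.le_centralizer_iff_isMulCommutative] at hA hB
  exact sup_le (le_inf hA hAB) (le_inf (Subgroup.le_centralizer_iff.1 hAB) hB)

theorem centralizer_eq_of_mem_maxAbelian {P : Type*} [Group P] [Finite P] {A : Subgroup P}
    (hA : A ∈ Cfsg.maxAbelianSubgroups P) : Subgroup.centralizer (A : Set P) = A := by
  obtain ⟨hAc, hAmax⟩ := hA
  apply le_antisymm
  · intro x hx
    have hZ : Subgroup.zpowers x ≤ Subgroup.centralizer (A : Set P) := by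
      rw [Subgroup.zpowers_le]; exact hx
    have hB : IsMulCommutative ↥(A ⊔ Subgroup.zpowers x) :=
      isMulCommutative_sup A (Subgroup.zpowers x) hAc (Subgroup.zpowers_isMulCommutative x)
        (Subgroup.le_centralizer_iff.1 hZ)
    have h1 : A ⊔ Subgroup.zpowers x = A :=
      (Subgroup.eq_of_le_of_card_ge le_sup_left (hAmax _ hB)).symm
    rw [← h1]
    exact (le_sup_right : Subgroup.zpowers x ≤ A ⊔ Subgroup.zpowers x) (Subgroup.mem_zpowers x)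
  · exact Subgroup.le_centralizer_iff_isMulCommutative.2 hAc

/-- Glauberman: for `Q` centrally large and `A` abelian of largest order, `QA` is a centrally large
subgroup, `Z(Q)(Q ∩ A)` is an abelian subgroup of largest order and equals `Z(Q) * (Q ∩ A)` as a set. -/
theorem cl_sup_maxAbelian {P : Type*} [Group P] [Finite P] (Q A : Subgroup P)
    (hQ : Cfsg.IsCentrallyLarge Q) (hA : A ∈ Cfsg.maxAbelianSubgroups P) :
    ((Q ⊔ A : Subgroup P) : Set P) = (Q : Set P) * (A : Set P) ∧ Cfsg.IsCentrallyLarge (Q ⊔ A) ∧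
    (Subgroup.centralizer (Q : Set P) ⊔ (Q ⊓ A)) ∈ Cfsg.maxAbelianSubgroups P ∧
    ((Subgroup.centralizer (Q : Set P) ⊔ (Q ⊓ A) : Subgroup P) : Set P)
      = (Subgroup.centralizer (Q : Set P) : Set P) * ((Q ⊓ A : Subgroup P) : Set P) := by
  have hCA := centralizer_eq_of_mem_maxAbelian hA
  obtain ⟨hAc, hAmax⟩ := hA
  rw [isCentrallyLarge_iff] at hQ
  obtain ⟨hQmax, hZQ⟩ := hQ
  set Z := Subgroup.centralizer (Q : Set P) with hZ
  have hQCZ : Q ≤ Subgroup.centralizer (Z : Set P) := le_centralizer_centralizer' Q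
  have hAle : A ≤ Subgroup.centralizer (A : Set P) := Subgroup.le_centralizer_iff_isMulCommutative.2 hAc
  -- B = Z (Q ∩ A) is abelian
  have hZc : IsMulCommutative Z := by
    rw [← Subgroup.le_centralizer_iff_isMulCommutative]
    exact hZQ.trans hQCZ
  have hQAc : IsMulCommutative ↥(Q ⊓ A) := by
    rw [← Subgroup.le_centralizer_iff_isMulCommutative]
    exact inf_le_right.trans (hAle.trans (Subgroup.centralizer_le (fun x hx => hx.2)))
  have hBc : IsMulCommutative ↥(Z ⊔ (Q ⊓ A)) :=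
    isMulCommutative_sup Z (Q ⊓ A) hZc hQAc (Subgroup.centralizer_le (fun x hx => hx.1))
  have hBle : Nat.card ↥(Z ⊔ (Q ⊓ A)) ≤ Nat.card A := hAmax _ hBc
  have hZA : Z ⊓ (Q ⊓ A) = Z ⊓ A := by
    rw [← inf_assoc, inf_eq_left.2 hZQ]
  have hI := card_mul_card_le_card_sup_mul_card_inf Z (Q ⊓ A)
  rw [hZA] at hI
  have hII := card_mul_card_le_card_sup_mul_card_inf Q A
  have hCsup : Subgroup.centralizer ((Q ⊔ A : Subgroup P) : Set P) = Z ⊓ A := by
    rw [centralizer_sup_eq, hCA]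
  have hcdm : cdm (Q ⊔ A) ≤ cdm Q := hQmax _
  unfold cdm at hcdm
  rw [hCsup, ← hZ] at hcdm
  -- the chain of inequalities
  have c1 : Nat.card Q * Nat.card A * Nat.card ↥(Z ⊓ A)
      ≤ Nat.card ↥(Q ⊔ A) * Nat.card ↥(Z ⊓ A) * Nat.card ↥(Q ⊓ A) := by
    calc Nat.card Q * Nat.card A * Nat.card ↥(Z ⊓ A)
        ≤ Nat.card ↥(Q ⊔ A) * Nat.card ↥(Q ⊓ A) * Nat.card ↥(Z ⊓ A) :=
          Nat.mul_le_mul_right _ hII
      _ = _ := by ring
  have c2 : Nat.card ↥(Q ⊔ A) * Nat.card ↥(Z ⊓ A) * Nat.card ↥(Q ⊓ A)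
      ≤ Nat.card Q * (Nat.card Z * Nat.card ↥(Q ⊓ A)) := by
    calc Nat.card ↥(Q ⊔ A) * Nat.card ↥(Z ⊓ A) * Nat.card ↥(Q ⊓ A)
        ≤ Nat.card Q * Nat.card Z * Nat.card ↥(Q ⊓ A) := Nat.mul_le_mul_right _ hcdm
      _ = _ := by ring
  have c3 : Nat.card Q * (Nat.card Z * Nat.card ↥(Q ⊓ A))
      ≤ Nat.card Q * (Nat.card ↥(Z ⊔ (Q ⊓ A)) * Nat.card ↥(Z ⊓ A)) :=
    Nat.mul_le_mul_left _ hI
  have c4 : Nat.card Q * (Nat.card ↥(Z ⊔ (Q ⊓ A)) * Nat.card ↥(Z ⊓ A))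
      ≤ Nat.card Q * Nat.card A * Nat.card ↥(Z ⊓ A) := by
    calc Nat.card Q * (Nat.card ↥(Z ⊔ (Q ⊓ A)) * Nat.card ↥(Z ⊓ A))
        ≤ Nat.card Q * (Nat.card A * Nat.card ↥(Z ⊓ A)) :=
          Nat.mul_le_mul_left _ (Nat.mul_le_mul_right _ hBle)
      _ = _ := by ring
  have hQpos : 0 < Nat.card Q := Nat.card_pos
  have hZApos : 0 < Nat.card ↥(Z ⊓ A) := Nat.card_pos
  have hQApos : 0 < Nat.card ↥(Q ⊓ A) := Nat.card_pos
  -- equalities
  have e1 : Nat.card Q * Nat.card A * Nat.card ↥(Z ⊓ A)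
      = Nat.card ↥(Q ⊔ A) * Nat.card ↥(Z ⊓ A) * Nat.card ↥(Q ⊓ A) :=
    le_antisymm c1 (c2.trans (c3.trans c4))
  have e2 : Nat.card ↥(Q ⊔ A) * Nat.card ↥(Z ⊓ A) * Nat.card ↥(Q ⊓ A)
      = Nat.card Q * (Nat.card Z * Nat.card ↥(Q ⊓ A)) :=
    le_antisymm c2 (c3.trans (c4.trans c1))
  have e3 : Nat.card Q * (Nat.card Z * Nat.card ↥(Q ⊓ A))
      = Nat.card Q * (Nat.card ↥(Z ⊔ (Q ⊓ A)) * Nat.card ↥(Z ⊓ A)) :=
    le_antisymm c3 (c4.trans (c1.trans c2))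
  have e4 : Nat.card Q * (Nat.card ↥(Z ⊔ (Q ⊓ A)) * Nat.card ↥(Z ⊓ A))
      = Nat.card Q * Nat.card A * Nat.card ↥(Z ⊓ A) :=
    le_antisymm c4 (c1.trans (c2.trans c3))
  -- consequences
  have f1 : Nat.card Q * Nat.card A = Nat.card ↥(Q ⊔ A) * Nat.card ↥(Q ⊓ A) := by
    have : Nat.card Q * Nat.card A * Nat.card ↥(Z ⊓ A)
        = Nat.card ↥(Q ⊔ A) * Nat.card ↥(Q ⊓ A) * Nat.card ↥(Z ⊓ A) := by
      rw [e1]; ring
    exact Nat.eq_of_mul_eq_mul_right hZApos this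
  have f2 : Nat.card ↥(Q ⊔ A) * Nat.card ↥(Z ⊓ A) = Nat.card Q * Nat.card Z := by
    have : Nat.card ↥(Q ⊔ A) * Nat.card ↥(Z ⊓ A) * Nat.card ↥(Q ⊓ A)
        = Nat.card Q * Nat.card Z * Nat.card ↥(Q ⊓ A) := by
      rw [e2]; ring
    exact Nat.eq_of_mul_eq_mul_right hQApos this
  have f3 : Nat.card Z * Nat.card ↥(Q ⊓ A) = Nat.card ↥(Z ⊔ (Q ⊓ A)) * Nat.card ↥(Z ⊓ A) :=
    Nat.eq_of_mul_eq_mul_left hQpos e3
  have f4 : Nat.card ↥(Z ⊔ (Q ⊓ A)) = Nat.card A := by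
    have : Nat.card Q * (Nat.card ↥(Z ⊔ (Q ⊓ A)) * Nat.card ↥(Z ⊓ A))
        = Nat.card Q * (Nat.card A * Nat.card ↥(Z ⊓ A)) := by
      rw [e4]; ring
    exact Nat.eq_of_mul_eq_mul_right hZApos (Nat.eq_of_mul_eq_mul_left hQpos this)
  refine ⟨coe_sup_eq_mul_of_card_mul_card_eq Q A f1, ?_, ?_, ?_⟩
  · rw [isCentrallyLarge_iff]
    constructor
    · apply hQmax.of_cdm_eq
      unfold cdm
      rw [hCsup, ← hZ]
      exact f2
    · rw [hCsup]
      exact inf_le_right.trans le_sup_right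
  · exact ⟨hBc, fun B hB => (hAmax B hB).trans (le_of_eq f4.symm)⟩
  · apply coe_sup_eq_mul_of_card_mul_card_eq
    rw [hZA]
    exact f3

end Cfsg.Agent.Lib.Helper17
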