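/-
Helper lemmas (helper17): finite `p`-subgroups of `p`-rank one.  A `p`-subgroup with two different subgroups of
order `p` contains an elementary abelian subgroup of order `> p`; hence `p`-rank at most one forces a unique
subgroup of order `p`, and (via S0016) cyclic or generalized quaternion.
-/
import Mathlib
import Cfsg.Prelude.Def_CaseTheorems
import Cfsg.Agent.S0016
import Cfsg.Agent.Lib.Helper17.CentrallyLarge

set_option autoImplicit false
set_option linter.style.haveILetI false
open scoped Pointwise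

namespace Cfsg.Agent.Lib.Helper17

/-- Two commuting elements `z`, `a` with `z ^ p = a ^ p = 1`: every element of `⟨z⟩⟨a⟩` has `p`-th power one and
the join is commutative. -/
theorem elemAb_sup_zpowers {G : Type*} [Group G] {p : ℕ} (z a : G) (hz : z ^ p = 1) (ha : a ^ p = 1)
    (hza : z * a = a * z) :
    IsMulCommutative ↥(Subgroup.zpowers z ⊔ Subgroup.zpowers a) ∧
      ∀ e ∈ Subgroup.zpowers z ⊔ Subgroup.zpowers a, e ^ p = 1 := by
  have hcm : Commute z a := hza
  have hle : Subgroup.zpowers z ≤ Subgroup.centralizer ((Subgroup.zpowers a : Subgroup G) : Set G) := by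
    rw [Subgroup.zpowers_le, Subgroup.mem_centralizer_iff]
    intro y hy
    obtain ⟨k, rfl⟩ := Subgroup.mem_zpowers_iff.mp (SetLike.mem_coe.mp hy)
    exact ((hcm.symm.zpow_left k).eq)
  refine ⟨isMulCommutative_sup _ _ inferInstance inferInstance hle, ?_⟩
  intro e he
  have hnorm : Subgroup.zpowers z ≤ Subgroup.normalizer ((Subgroup.zpowers a : Subgroup G) : Set G) :=
    hle.trans (Subgroup.centralizer_le_normalizer _)
  have hmem : e ∈ ((Subgroup.zpowers z ⊔ Subgroup.zpowers a : Subgroup G) : Set G) := he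
  rw [Subgroup.coe_mul_of_left_le_normalizer_right _ _ hnorm] at hmem
  obtain ⟨u, hu, v, hv, huv⟩ := hmem
  have huv' : u * v = e := huv
  obtain ⟨i, hi⟩ := Subgroup.mem_zpowers_iff.mp (SetLike.mem_coe.mp hu)
  obtain ⟨j, hj⟩ := Subgroup.mem_zpowers_iff.mp (SetLike.mem_coe.mp hv)
  have hc2 : Commute (z ^ i) (a ^ j) := (hcm.zpow_left i).zpow_right j
  rw [← huv', ← hi, ← hj, hc2.mul_pow, ← zpow_natCast, ← zpow_mul, mul_comm i, zpow_mul, zpow_natCast, hz,
    one_zpow, ← zpow_natCast (a ^ j), ← zpow_mul, mul_comm j, zpow_mul, zpow_natCast, ha, one_zpow, one_mul]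

/-- A finite `p`-subgroup `S` with two different subgroups of order `p` contains a commutative subgroup of
exponent `p` and order larger than `p`. -/
theorem exists_elemAb_of_two_subgroups {G : Type*} [Group G] [Finite G] {p : ℕ} [Fact p.Prime]
    (S : Subgroup G) (hS : IsPGroup p ↥S) (A B : Subgroup ↥S) (hA : Nat.card A = p) (hB : Nat.card B = p)
    (hAB : A ≠ B) :
    ∃ E : Subgroup G, E ≤ S ∧ IsMulCommutative ↥E ∧ (∀ e ∈ E, e ^ p = 1) ∧ p < Nat.card ↥E := by
  have hp : p.Prime := Fact.out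
  haveI : Nontrivial ↥S := by
    rw [← Finite.one_lt_card_iff_nontrivial]
    have h1 : Nat.card ↥A ∣ Nat.card ↥S := Subgroup.card_subgroup_dvd_card A
    rw [hA] at h1
    exact lt_of_lt_of_le hp.one_lt (Nat.le_of_dvd Nat.card_pos h1)
  haveI : Nontrivial ↥(Subgroup.center ↥S) := hS.center_nontrivial
  have hcdvd : p ∣ Nat.card ↥(Subgroup.center ↥S) := by
    rcases (hS.to_subgroup (Subgroup.center ↥S)).card_eq_or_dvd with h1 | h1
    · exact absurd h1 (Finite.one_lt_card_iff_nontrivial.mpr inferInstance).ne'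
    · exact h1
  obtain ⟨z, hz⟩ := exists_prime_orderOf_dvd_card' p hcdvd
  obtain ⟨A', hA', hA'Z⟩ : ∃ A' : Subgroup ↥S, Nat.card A' = p ∧
      A' ≠ Subgroup.zpowers (z : ↥S) := by
    by_cases h : A = Subgroup.zpowers (z : ↥S)
    · exact ⟨B, hB, fun hB' => hAB (h.trans hB'.symm)⟩
    · exact ⟨A, hA, h⟩
  obtain ⟨a, ha⟩ := exists_prime_orderOf_dvd_card' p (show p ∣ Nat.card A' by rw [hA'])
  have hzo : orderOf (z : ↥S) = p := by rw [Subgroup.orderOf_coe]; exact hz
  have hao : orderOf (a : ↥S) = p := by rw [Subgroup.orderOf_coe]; exact ha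
  have hAeq : Subgroup.zpowers (a : ↥S) = A' :=
    Subgroup.eq_of_le_of_card_ge (by rw [Subgroup.zpowers_le]; exact a.2)
      (by rw [Nat.card_zpowers, hao, hA'])
  have hzo' : orderOf (((z : ↥S) : G)) = p := by rw [Subgroup.orderOf_coe]; exact hzo
  have hao' : orderOf (((a : ↥S) : G)) = p := by rw [Subgroup.orderOf_coe]; exact hao
  have hcomm : ((z : ↥S) : G) * ((a : ↥S) : G) = ((a : ↥S) : G) * ((z : ↥S) : G) := by
    have := Subgroup.mem_center_iff.mp z.2 (a : ↥S)
    exact (congrArg Subtype.val this).symm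
  have hne : Subgroup.zpowers (((z : ↥S) : G)) ≠ Subgroup.zpowers (((a : ↥S) : G)) := by
    intro h
    apply hA'Z
    rw [← hAeq]
    apply Subgroup.map_injective S.subtype_injective
    rw [MonoidHom.map_zpowers, MonoidHom.map_zpowers]
    exact h.symm
  obtain ⟨hc, hexp⟩ := elemAb_sup_zpowers (p := p) ((z : ↥S) : G) ((a : ↥S) : G)
    (by rw [← hzo']; exact pow_orderOf_eq_one _) (by rw [← hao']; exact pow_orderOf_eq_one _) hcomm
  refine ⟨_, sup_le (by rw [Subgroup.zpowers_le]; exact (z : ↥S).2)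
    (by rw [Subgroup.zpowers_le]; exact (a : ↥S).2), hc, hexp, ?_⟩
  -- strict containment gives bigger cardinality
  have hlt : Subgroup.zpowers (((z : ↥S) : G)) <
      Subgroup.zpowers (((z : ↥S) : G)) ⊔ Subgroup.zpowers (((a : ↥S) : G)) := by
    apply lt_of_le_of_ne le_sup_left
    intro h
    apply hne
    have h1 : Subgroup.zpowers (((a : ↥S) : G)) ≤ Subgroup.zpowers (((z : ↥S) : G)) := by
      rw [h]; exact le_sup_right
    exact (Subgroup.eq_of_le_of_card_ge h1
      (by rw [Nat.card_zpowers, Nat.card_zpowers, hzo', hao'])).symm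
  by_contra hcard
  push Not at hcard
  apply hlt.ne
  exact Subgroup.eq_of_le_of_card_ge le_sup_left (by rw [Nat.card_zpowers, hzo']; exact hcard)

/-- In a finite group of `p`-rank at most one, every `p`-subgroup has at most one subgroup of order `p`. -/
theorem unique_subgroup_of_pRankLE_one {G : Type*} [Group G] [Finite G] {p : ℕ} [Fact p.Prime]
    (hrk : Cfsg.PRankLE p 1 G) (S : Subgroup G) (hS : IsPGroup p ↥S) (A B : Subgroup ↥S)
    (hA : Nat.card A = p) (hB : Nat.card B = p) : A = B := by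
  by_contra hAB
  obtain ⟨E, -, hEc, hEexp, hEcard⟩ := exists_elemAb_of_two_subgroups S hS A B hA hB hAB
  have := hrk E hEc hEexp
  rw [pow_one] at this
  omega

/-- In a finite group of `p`-rank at most one, `p` odd, every `p`-subgroup is cyclic. -/
theorem isCyclic_of_pRankLE_one {G : Type*} [Group G] [Finite G] {p : ℕ} [Fact p.Prime] (hp : p ≠ 2)
    (hrk : Cfsg.PRankLE p 1 G) (S : Subgroup G) (hS : IsPGroup p ↥S) : IsCyclic ↥S := by
  rcases Cfsg.Agent.S0016.result p hS (unique_subgroup_of_pRankLE_one hrk S hS) with h | ⟨h2, -⟩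
  · exact h
  · exact absurd h2 hp

/-- In a finite group of `2`-rank at most one, every `2`-subgroup is cyclic or generalized quaternion. -/
theorem isCyclic_or_quaternion_of_pRankLE_one {G : Type*} [Group G] [Finite G] {p : ℕ} [Fact p.Prime]
    (hrk : Cfsg.PRankLE p 1 G) (S : Subgroup G) (hS : IsPGroup p ↥S) :
    IsCyclic ↥S ∨ (p = 2 ∧ ∃ n : ℕ, Nonempty (↥S ≃* QuaternionGroup (2 ^ n))) :=
  Cfsg.Agent.S0016.result p hS (unique_subgroup_of_pRankLE_one hrk S hS)

end Cfsg.Agent.Lib.Helper17
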