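/-
Helper lemmas (helper17): coprime action of an abelian group `A` on `K`, both inside an ambient finite group.
* `le_iSup_centralizer_pair`: generalization of S0058 where only the `q`-th powers of `a`, `b` centralize `K`.
* `le_centralizer_sup_commutator`: `K = C_K(A) [K, A]`.
-/
import Mathlib
import Cfsg.Agent.Lib.Helper1.Fitting
import Cfsg.Agent.Lib.Helper1.TraceIdentity
import Cfsg.Agent.Lib.Helper1.Coprime
import Cfsg.Agent.Lib.Helper1.Commutator
import Cfsg.Agent.S0023
import Cfsg.Agent.S0058

set_option autoImplicit false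
set_option linter.unusedSectionVars false
open scoped commutatorElement

namespace Cfsg.Agent.Lib.Helper17

open Cfsg.Agent.Lib.Helper1 Subgroup

/-- Generalized S0058: `A` abelian normalizing `K` with coprime orders, `a b ∈ A` whose `q`-th powers centralize `K`
(`q` a prime not dividing `|K|`). Then `K` is generated by the `C_K(a b^j)` and `C_K(b)`. -/
theorem le_iSup_centralizer_pair {G : Type*} [Group G] [Finite G] (A K : Subgroup G)
    [IsMulCommutative A] (hAK : A ≤ Subgroup.normalizer (K : Set G))
    (hcop : (Nat.card A).Coprime (Nat.card K)) (q : ℕ) [hqf : Fact q.Prime] (hqK : ¬ q ∣ Nat.card K)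
    (a b : G) (ha : a ∈ A) (hb : b ∈ A) (haq : a ^ q ∈ centralizer (K : Set G))
    (hbq : b ^ q ∈ centralizer (K : Set G)) :
    K ≤ (⨆ j : ℕ, K ⊓ centralizer {a * b ^ j}) ⊔ (K ⊓ centralizer {b}) := by
  classical
  have hq : q.Prime := hqf.out
  have hcomm : a * b = b * a := setLike_mul_comm ha hb
  set W : Subgroup G := (⨆ j : ℕ, K ⊓ centralizer {a * b ^ j}) ⊔ (K ⊓ centralizer {b}) with hW
  have hWj : ∀ j : ℕ, K ⊓ centralizer {a * b ^ j} ≤ W := fun j =>
    (le_iSup (fun j : ℕ => K ⊓ centralizer {a * b ^ j}) j).trans le_sup_left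
  have hWb : K ⊓ centralizer {b} ≤ W := le_sup_right
  have hsolv : Group.IsSolvable A ∨ Group.IsSolvable K := by
    left
    open scoped IsMulCommutative in exact inferInstance
  have key : W.subgroupOf K = ⊤ := by
    apply eq_top_of_forall_sylow_le
    intro p hp
    obtain ⟨P, hP⟩ := Cfsg.Agent.S0023.result A K hAK hcop hsolv p
    refine ⟨P, ?_⟩
    set P' : Subgroup G := (P : Subgroup K).map K.subtype with hP'
    have hP'K : P' ≤ K := Subgroup.map_subtype_le _
    suffices hsuff : P' ≤ W by
      intro x hx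
      rw [Subgroup.mem_subgroupOf]
      exact hsuff ⟨x, hx, rfl⟩
    have hP'p : IsPGroup p P' := P.2.map _
    by_cases hpq : q = p
    · subst hpq
      have h1 : Nat.card P' = 1 := by
        obtain ⟨m, hm⟩ := IsPGroup.iff_card.mp hP'p
        rcases Nat.eq_zero_or_pos m with h0 | hpos
        · rw [hm, h0, pow_zero]
        · exfalso
          apply hqK
          have h2 : Nat.card P' ∣ Nat.card K := Subgroup.card_dvd_of_le hP'K
          exact (dvd_pow_self q hpos.ne').trans (hm ▸ h2)
      rw [Subgroup.card_eq_one.mp h1]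
      exact bot_le
    · have haN : a ∈ normalizer (P' : Set G) := hP ha
      have hbN : b ∈ normalizer (P' : Set G) := hP hb
      set f := P'.normalizerMonoidHom with hf
      set α : MulAut P' := f ⟨a, haN⟩ with hα
      set β : MulAut P' := f ⟨b, hbN⟩ with hβ
      have hαβ : α * β = β * α := by
        rw [hα, hβ, ← map_mul, ← map_mul]
        congr 1
        apply Subtype.ext
        exact hcomm
      have hpow1 : ∀ (c : G) (hc : c ∈ normalizer (P' : Set G)), c ^ q ∈ centralizer (K : Set G) →
          (f ⟨c, hc⟩) ^ q = 1 := by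
        intro c hc hcq
        rw [← map_pow]
        apply MulEquiv.ext
        intro x
        apply Subtype.ext
        show (c ^ q) * (x : G) * (c ^ q)⁻¹ = x
        have h1 := (Subgroup.mem_centralizer_iff.mp hcq) (x : G) (hP'K x.2)
        rw [← h1, mul_inv_cancel_right]
      have hαq : α ^ q = 1 := hpow1 a haN haq
      have hβq : β ^ q = 1 := hpow1 b hbN hbq
      have htop := iSup_fixSub_eq_top (K := P') hP'p hpq α β hαβ hαq hβq
      have hmap : P' = ((⨆ j : ℕ, fixSub (α * β ^ j)) ⊔ fixSub β).map P'.subtype := by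
        rw [htop, ← MonoidHom.range_eq_map, Subgroup.range_subtype]
      rw [hmap, Subgroup.map_sup, Subgroup.map_iSup]
      apply sup_le
      · apply iSup_le
        intro j
        have hjN : a * b ^ j ∈ normalizer (P' : Set G) :=
          Subgroup.mul_mem _ haN (Subgroup.pow_mem _ hbN j)
        have hc : α * β ^ j = f ⟨a * b ^ j, hjN⟩ := by
          rw [hα, hβ, ← map_pow, ← map_mul]
          rfl
        rw [hc]
        exact (Cfsg.Agent.S0058.map_fixSub_le P' _ hjN).trans ((inf_le_inf_right _ hP'K).trans (hWj j))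
      · exact (Cfsg.Agent.S0058.map_fixSub_le P' _ hbN).trans ((inf_le_inf_right _ hP'K).trans hWb)
  exact Subgroup.subgroupOf_eq_top.mp key

/-- Coprime action: `K = C_K(A) [K, A]`. -/
theorem le_centralizer_sup_commutator {G : Type*} [Group G] [Finite G] (A K : Subgroup G)
    (hAK : A ≤ Subgroup.normalizer (K : Set G)) (hcop : (Nat.card A).Coprime (Nat.card K))
    (hsolv : Group.IsSolvable A ∨ Group.IsSolvable K) :
    K ≤ (K ⊓ centralizer (A : Set G)) ⊔ ⁅K, A⁆ := by
  have hNK : ⁅K, A⁆ ≤ K := commutator_le_of_le_normalizer hAK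
  have hAN : A ≤ normalizer ((⁅K, A⁆ : Subgroup G) : Set G) := le_normalizer_commutator_right K A
  have hcopN : (Nat.card A).Coprime (Nat.card ↥⁅K, A⁆) :=
    Nat.Coprime.coprime_dvd_right (Subgroup.card_dvd_of_le hNK) hcop
  have hsolvN : Group.IsSolvable A ∨ Group.IsSolvable ↥⁅K, A⁆ := by
    rcases hsolv with h | h
    · exact Or.inl h
    · right
      exact Group.isSolvable_of_isSolvable_injective (Subgroup.inclusion_injective hNK)
  intro x hx
  have hxc : ∀ a ∈ A, x⁻¹ * a * x * a⁻¹ ∈ ⁅K, A⁆ := by
    intro a ha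
    have := Subgroup.commutator_mem_commutator (K.inv_mem hx) ha
    rwa [commutatorElement_def, inv_inv] at this
  obtain ⟨n, hn, hxn⟩ := exists_mul_mem_centralizer hAN hcopN hsolvN x hxc
  have h1 : x * n ∈ K ⊓ centralizer (A : Set G) := ⟨K.mul_mem hx (hNK hn), hxn⟩
  have h2 : x = (x * n) * n⁻¹ := by group
  rw [h2]
  exact Subgroup.mul_mem _ ((le_sup_left : _ ≤ (K ⊓ centralizer (A : Set G)) ⊔ ⁅K, A⁆) h1)
    ((le_sup_right : ⁅K, A⁆ ≤ _) (Subgroup.inv_mem _ hn))

end Cfsg.Agent.Lib.Helper17
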