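import Mathlib
import Cfsg.Agent.S1463
import Cfsg.Agent.Lib.Helper13.SL2OddOrder
import Cfsg.Agent.Lib.Helper13.SL2Cyclic
import Cfsg.Agent.Lib.Helper13.GL2Unipotent

/-!
helper17: finite subgroups of odd order of `GL₂(F)`, `F` a field of odd characteristic `p`:
the derived subgroup has exponent dividing `p` (B&G Lemma 2.x / Theorem 4.17 input).
-/

set_option autoImplicit false
set_option linter.unusedSectionVars false
open scoped MatrixGroups

namespace Cfsg.Agent.Lib.Helper17

open Matrix Cfsg.Agent.Lib.Helper13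

section SL

variable {F : Type*} [Field F] {G : Type*} [Group G] [Finite G]
  (φ : G →* SpecialLinearGroup (Fin 2) F) (hinj : Function.Injective φ)
  (hodd : Odd (Nat.card G)) (h2 : (2 : F) ≠ 0) (p : ℕ) [Fact p.Prime] [CharP F p]

include hinj hodd h2 in
/-- in a `p'`-group of odd order inside `SL₂`, non-identity elements are semisimple. -/
theorem oddSL2_trace_sq_ne_four (hcop : ¬ p ∣ Nat.card G) (g : G) (hg : g ≠ 1) :
    trOf φ g ^ 2 ≠ 4 := by
  rcases trace_cases φ hinj hodd h2 g with h | h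
  · exact h
  · exfalso
    have h1 := pow_char_eq_one_of_trace_two φ hinj p g h
    have h3 : orderOf g ∣ p := orderOf_dvd_of_pow_eq_one h1
    have h4 : orderOf g ∣ Nat.card G := orderOf_dvd_natCard g
    rcases (Nat.dvd_prime (Fact.out : p.Prime)).mp h3 with h5 | h5
    · exact hg (orderOf_eq_one_iff.mp h5)
    · rw [h5] at h4
      exact hcop h4

include hinj hodd h2 in
theorem oddSL2_centralizer_eq_top (hcop : ¬ p ∣ Nat.card G) (s : G) (hs : s ≠ 1) :
    Subgroup.centralizer ({s} : Set G) = ⊤ := by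
  classical
  have hss := oddSL2_trace_sq_ne_four φ hinj hodd h2 p hcop
  obtain ⟨A, hA⟩ : ∃ A : Subgroup G, A = Subgroup.centralizer ({s} : Set G) := ⟨_, rfl⟩
  rw [← hA]
  have hTI : Cfsg.IsTISubset (A : Set G) := by rw [hA]; exact oddSL2_isTI φ hinj hodd s
  have hN : Subgroup.normalizer (A : Set G) = A := by
    rw [hA]; exact normalizer_centralizer_eq_of_trace φ hinj hodd s (hss s hs)
  obtain ⟨k, hk⟩ : ∃ k, Nat.card A = k + 1 := ⟨Nat.card A - 1, by
    have : 0 < Nat.card A := Nat.card_pos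
    omega⟩
  have hc := ti_count' A hTI k hk
  rw [hN, hk] at hc
  have hall : ∀ g : G, (g ≠ 1 ∧ ∃ x : G, x * g * x⁻¹ ∈ A) ↔ (g ∈ (⊤ : Subgroup G) ∧ g ≠ 1) := by
    intro g
    constructor
    · intro h
      exact ⟨Subgroup.mem_top g, h.1⟩
    · intro h
      refine ⟨h.2, ?_⟩
      rw [hA]
      exact exists_conj_mem_centralizer_semisimple φ hinj hodd h2 s g (hss s hs) (hss g h.2)
  have hcard : Nat.card {g : G // g ≠ 1 ∧ ∃ x : G, x * g * x⁻¹ ∈ A} + 1 = Nat.card G := by
    rw [Nat.card_congr (Equiv.subtypeEquivRight hall), card_ne_one_add_one (⊤ : Subgroup G),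
      Subgroup.card_top]
  have h3 : Nat.card A = Nat.card G := by
    obtain ⟨c, hc'⟩ : ∃ c, Nat.card {g : G // g ≠ 1 ∧ ∃ x : G, x * g * x⁻¹ ∈ A} = c := ⟨_, rfl⟩
    rw [hc'] at hc hcard
    rw [hk, ← hcard]
    have : c * (k + 1) = (c + 1) * k := by rw [hc, hcard]
    nlinarith
  exact (Subgroup.card_eq_iff_eq_top A).mp h3

include hinj hodd h2 in
/-- a `p'`-group of odd order inside `SL₂(F)`, `char F = p`, is abelian. -/
theorem oddSL2_comm_of_coprime (hcop : ¬ p ∣ Nat.card G) (a b : G) : a * b = b * a := by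
  by_cases ha : a = 1
  · subst ha; simp
  have h := oddSL2_centralizer_eq_top φ hinj hodd h2 p hcop a ha
  have hb : b ∈ Subgroup.centralizer ({a} : Set G) := by rw [h]; exact Subgroup.mem_top b
  exact ((mem_centralizer_singleton_comm _ _).mp hb).symm

omit [Finite G] in
theorem det_sub_one_fin_two (M : Matrix (Fin 2) (Fin 2) F) (hM : M.det = 1) :
    (M - 1).det = 2 - (M 0 0 + M 1 1) := by
  rw [Matrix.det_fin_two] at hM ⊢
  simp only [Matrix.sub_apply, Matrix.one_apply_eq]
  have h01 : (1 : Matrix (Fin 2) (Fin 2) F) 0 1 = 0 := by simp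
  have h10 : (1 : Matrix (Fin 2) (Fin 2) F) 1 0 = 0 := by simp
  rw [h01, h10]
  linear_combination hM

include hinj in
omit [Finite G] in
/-- commuting elements of the same trace, in a group all of whose non-identity elements have
trace `≠ 2`, are equal or inverse. -/
theorem eq_or_eq_inv_of_trace_eq (hss : ∀ g : G, g ≠ 1 → trOf φ g ≠ 2) (x y : G)
    (hxy : x * y = y * x) (htr : trOf φ x = trOf φ y) : y = x ∨ y = x⁻¹ := by
  by_cases ha : y * x⁻¹ = 1
  · left
    exact mul_inv_eq_one.mp ha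
  right
  obtain ⟨X, hX⟩ : ∃ X : Matrix (Fin 2) (Fin 2) F, X = (φ x : Matrix (Fin 2) (Fin 2) F) := ⟨_, rfl⟩
  obtain ⟨Y, hY⟩ : ∃ Y : Matrix (Fin 2) (Fin 2) F, Y = (φ y : Matrix (Fin 2) (Fin 2) F) := ⟨_, rfl⟩
  have hXdet : X.det = 1 := by rw [hX]; exact (φ x).2
  have hYdet : Y.det = 1 := by rw [hY]; exact (φ y).2
  have htr' : X 0 0 + X 1 1 = Y 0 0 + Y 1 1 := by
    have := htr
    unfold trOf at this
    rw [Matrix.trace_fin_two, Matrix.trace_fin_two, ← hX, ← hY] at this
    exact this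
  have hchY := cayley_hamilton_two Y hYdet
  -- matrices of a = y x⁻¹ and b = y x
  have hA : (φ (y * x⁻¹) : Matrix (Fin 2) (Fin 2) F) = Y * X.adjugate := by
    rw [coe_map_mul, map_inv, Matrix.SpecialLinearGroup.coe_inv, ← hX, ← hY]
  have hB : (φ (y * x) : Matrix (Fin 2) (Fin 2) F) = Y * X := by
    rw [coe_map_mul, ← hX, ← hY]
  have hAB : (φ (y * x⁻¹) : Matrix (Fin 2) (Fin 2) F) * (φ (y * x) : Matrix (Fin 2) (Fin 2) F) =
      Y * Y := by
    rw [← coe_map_mul, hY, ← coe_map_mul]
    congr 2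
    calc y * x⁻¹ * (y * x) = y * (x⁻¹ * (y * x)) := by group
      _ = y * (x⁻¹ * (x * y)) := by rw [hxy]
      _ = y * y := by group
  have hadj : X.adjugate + X = (X 0 0 + X 1 1) • (1 : Matrix (Fin 2) (Fin 2) F) := by
    rw [Matrix.adjugate_fin_two]
    ext i j
    fin_cases i <;> fin_cases j <;> simp <;> ring
  have hprod : ((φ (y * x⁻¹) : Matrix (Fin 2) (Fin 2) F) - 1) *
      ((φ (y * x) : Matrix (Fin 2) (Fin 2) F) - 1) = 0 := by
    obtain ⟨MA, hMA⟩ : ∃ MA : Matrix (Fin 2) (Fin 2) F,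
      MA = (φ (y * x⁻¹) : Matrix (Fin 2) (Fin 2) F) := ⟨_, rfl⟩
    obtain ⟨MB, hMB⟩ : ∃ MB : Matrix (Fin 2) (Fin 2) F,
      MB = (φ (y * x) : Matrix (Fin 2) (Fin 2) F) := ⟨_, rfl⟩
    rw [← hMA, ← hMB] at hAB ⊢
    rw [← hMA] at hA
    rw [← hMB] at hB
    have e : Y * X.adjugate + Y * X = (X 0 0 + X 1 1) • Y := by
      rw [← Matrix.mul_add, hadj, Matrix.mul_smul, Matrix.mul_one]
    calc (MA - 1) * (MB - 1) = MA * MB - (MA + MB) + 1 := by noncomm_ring
      _ = Y * Y - (X 0 0 + X 1 1) • Y + 1 := by rw [hAB, hA, hB, e]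
      _ = 0 := by rw [hchY, htr']; abel
  -- φ a - 1 is invertible
  have hdet : ((φ (y * x⁻¹) : Matrix (Fin 2) (Fin 2) F) - 1).det ≠ 0 := by
    have h1 := hss _ ha
    unfold trOf at h1
    rw [Matrix.trace_fin_two] at h1
    have hd : (φ (y * x⁻¹) : Matrix (Fin 2) (Fin 2) F).det = 1 := (φ (y * x⁻¹)).2
    rw [det_sub_one_fin_two _ hd]
    intro h0
    apply h1
    linear_combination -h0
  have hB1 : (φ (y * x) : Matrix (Fin 2) (Fin 2) F) - 1 = 0 := by
    have hu : IsUnit ((φ (y * x⁻¹) : Matrix (Fin 2) (Fin 2) F) - 1).det := isUnit_iff_ne_zero.mpr hdet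
    have h5 : ((φ (y * x⁻¹) : Matrix (Fin 2) (Fin 2) F) - 1)⁻¹ *
        (((φ (y * x⁻¹) : Matrix (Fin 2) (Fin 2) F) - 1) *
          ((φ (y * x) : Matrix (Fin 2) (Fin 2) F) - 1)) = 0 := by
      rw [hprod, Matrix.mul_zero]
    rwa [← Matrix.mul_assoc, Matrix.nonsing_inv_mul _ hu, Matrix.one_mul] at h5
  have hb1 : y * x = 1 := by
    apply hinj
    rw [map_one]
    apply Subtype.ext
    rw [Matrix.SpecialLinearGroup.coe_one]
    exact sub_eq_zero.mp hB1
  exact eq_inv_of_mul_eq_one_left hb1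

end SL

section GLsec

variable {F : Type*} [Field F] (p : ℕ) [Fact p.Prime] [CharP F p]

/-- elements of `GL₂` of determinant one fixing a non-zero vector have `p`-th power one. -/
theorem pow_char_eq_one_of_fixed_GL (g : GL (Fin 2) F) (hdet : (g : Matrix (Fin 2) (Fin 2) F).det = 1)
    (v : Fin 2 → F) (hv : v ≠ 0) (hgv : (g : Matrix (Fin 2) (Fin 2) F) *ᵥ v = v) : g ^ p = 1 := by
  obtain ⟨s, hs⟩ : ∃ s : SpecialLinearGroup (Fin 2) F,
      (s : Matrix (Fin 2) (Fin 2) F) = (g : Matrix (Fin 2) (Fin 2) F) := ⟨⟨_, hdet⟩, rfl⟩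
  have h1 := pow_char_eq_one_of_fixed p s v hv (by rw [hs]; exact hgv)
  apply Units.ext
  rw [Units.val_pow_eq_pow_val, Units.val_one, ← hs, ← Matrix.SpecialLinearGroup.coe_pow, h1,
    Matrix.SpecialLinearGroup.coe_one]

/-- the kernel of the determinant on `H`, mapped to `SL₂`. -/
def detKerToSL (H : Subgroup (GL (Fin 2) F)) :
    ((Matrix.GeneralLinearGroup.det (n := Fin 2) (R := F)).comp H.subtype).ker →*
      SpecialLinearGroup (Fin 2) F where
  toFun g := ⟨((g : H) : GL (Fin 2) F), by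
    have h := g.2
    rw [MonoidHom.mem_ker] at h
    have h3 := congrArg Units.val h
    simpa using h3⟩
  map_one' := by
    apply Subtype.ext
    simp
  map_mul' a b := by
    apply Subtype.ext
    rfl

theorem detKerToSL_coe (H : Subgroup (GL (Fin 2) F))
    (g : ((Matrix.GeneralLinearGroup.det (n := Fin 2) (R := F)).comp H.subtype).ker) :
    ((detKerToSL H g : SpecialLinearGroup (Fin 2) F) : Matrix (Fin 2) (Fin 2) F) =
      (((g : H) : GL (Fin 2) F) : Matrix (Fin 2) (Fin 2) F) := rfl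

theorem detKerToSL_injective (H : Subgroup (GL (Fin 2) F)) :
    Function.Injective (detKerToSL H) := by
  intro a b hab
  have h1 := congrArg (fun s : SpecialLinearGroup (Fin 2) F => (s : Matrix (Fin 2) (Fin 2) F)) hab
  simp only [detKerToSL_coe] at h1
  exact Subtype.ext (Subtype.ext (Units.ext h1))

/-- a finite `p'`-subgroup of odd order of `GL₂(F)`, `char F = p` odd, is abelian. -/
theorem oddGL2_comm_of_coprime (hp : p ≠ 2) (H : Subgroup (GL (Fin 2) F)) [Finite H]
    (hodd : Odd (Nat.card H)) (hcop : ¬ p ∣ Nat.card H) (a b : H) : a * b = b * a := by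
  classical
  have hpp : p.Prime := Fact.out
  have h2 : (2 : F) ≠ 0 := by
    intro h
    have h' : ((2 : ℕ) : F) = 0 := by exact_mod_cast h
    rw [CharP.cast_eq_zero_iff F p] at h'
    exact hp ((Nat.prime_dvd_prime_iff_eq hpp Nat.prime_two).mp h')
  obtain ⟨f, hf⟩ : ∃ f : H →* Fˣ, f = (Matrix.GeneralLinearGroup.det (n := Fin 2) (R := F)).comp
    H.subtype := ⟨_, rfl⟩
  obtain ⟨N, hN⟩ : ∃ N : Subgroup H, N = ((Matrix.GeneralLinearGroup.det (n := Fin 2)
    (R := F)).comp H.subtype).ker := ⟨_, rfl⟩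
  have hNn : N.Normal := by rw [hN]; infer_instance
  have hNodd : Odd (Nat.card N) := Odd.of_dvd_nat hodd (Subgroup.card_subgroup_dvd_card N)
  have hNcop : ¬ p ∣ Nat.card N := fun h => hcop (h.trans (Subgroup.card_subgroup_dvd_card N))
  subst hN
  set N := ((Matrix.GeneralLinearGroup.det (n := Fin 2) (R := F)).comp H.subtype).ker with hN
  have hinj := detKerToSL_injective H
  have hNcomm := oddSL2_comm_of_coprime (detKerToSL H) hinj hNodd h2 p hNcop
  have hss : ∀ g : N, g ≠ 1 → trOf (detKerToSL H) g ≠ 2 := by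
    intro g hg h
    have := oddSL2_trace_sq_ne_four (detKerToSL H) hinj hNodd h2 p hNcop g hg
    apply this
    rw [h]
    norm_num
  -- N is central in H
  have hcent : N ≤ Subgroup.center H := by
    intro x hx
    rw [Subgroup.mem_center_iff]
    intro h
    have hy : h * x * h⁻¹ ∈ N := hNn.conj_mem x hx h
    have hconj : ∀ (x : H) (hx : x ∈ N) (h : H) (hy : h * x * h⁻¹ ∈ N),
        (⟨h * x * h⁻¹, hy⟩ : N) = ⟨x, hx⟩ ∨ (⟨h * x * h⁻¹, hy⟩ : N) = (⟨x, hx⟩ : N)⁻¹ := by
      intro x hx h hy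
      apply eq_or_eq_inv_of_trace_eq (detKerToSL H) hinj hss
      · exact hNcomm _ _
      · unfold trOf
        rw [detKerToSL_coe, detKerToSL_coe]
        show _ = (((h * x * h⁻¹ : H) : GL (Fin 2) F) : Matrix (Fin 2) (Fin 2) F).trace
        rw [Subgroup.coe_mul, Subgroup.coe_mul, Units.val_mul, Units.val_mul,
          Matrix.trace_mul_comm, ← Matrix.mul_assoc, ← Units.val_mul, ← Subgroup.coe_mul,
          inv_mul_cancel]
        simp
    -- conjugation by h either fixes or inverts x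
    rcases hconj x hx h hy with h1 | h1
    · have h3 : h * x * h⁻¹ = x := congrArg Subtype.val h1
      calc h * x = h * x * h⁻¹ * h := by group
        _ = x * h := by rw [h3]
    · -- inverted: then x = 1
      have h3 : h * x * h⁻¹ = x⁻¹ := congrArg Subtype.val h1
      -- h² centralizes x, h odd order so h centralizes x
      have h4 : ∀ k : ℕ, h ^ (2 * k) * x * (h ^ (2 * k))⁻¹ = x := by
        intro k
        induction k with
        | zero => simp
        | succ k ih =>
          have e : h ^ (2 * (k + 1)) = h * h * h ^ (2 * k) := by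
            rw [show 2 * (k + 1) = 2 * k + 1 + 1 by ring, pow_succ', pow_succ', mul_assoc]
          rw [e]
          calc h * h * h ^ (2 * k) * x * (h * h * h ^ (2 * k))⁻¹
              = h * (h * (h ^ (2 * k) * x * (h ^ (2 * k))⁻¹) * h⁻¹) * h⁻¹ := by group
            _ = h * (h * x * h⁻¹) * h⁻¹ := by rw [ih]
            _ = h * x⁻¹ * h⁻¹ := by rw [h3]
            _ = (h * x * h⁻¹)⁻¹ := by group
            _ = x := by rw [h3, inv_inv]
      have hoh : Odd (orderOf h) := Odd.of_dvd_nat hodd (orderOf_dvd_natCard h)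
      obtain ⟨m, hm⟩ := hoh
      have h5 : h ^ (2 * (m + 1)) = h := by
        have : 2 * (m + 1) = orderOf h + 1 := by omega
        rw [this, pow_succ, pow_orderOf_eq_one, one_mul]
      have h6 := h4 (m + 1)
      rw [h5] at h6
      calc h * x = h * x * h⁻¹ * h := by group
        _ = x * h := by rw [h6]
  -- H / N is cyclic
  have hfin : Finite f.range := Finite.of_surjective f.rangeRestrict f.rangeRestrict_surjective
  have hcyc : IsCyclic f.range := inferInstance
  have hker : f.rangeRestrict.ker ≤ Subgroup.center H := by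
    rw [MonoidHom.ker_rangeRestrict, hf]
    exact hcent
  exact commutative_of_cyclic_center_quotient f.rangeRestrict hker a b

/-- **Main theorem**: the derived subgroup of a finite subgroup of odd order of `GL₂(F)`,
`char F = p` odd, has exponent dividing `p`. -/
theorem oddGL2_commutator_pow_char (hp : p ≠ 2) (H : Subgroup (GL (Fin 2) F)) [Finite H]
    (hodd : Odd (Nat.card H)) : ∀ h ∈ ⁅H, H⁆, h ^ p = 1 := by
  classical
  by_cases hred : ∃ v : Fin 2 → F, v ≠ 0 ∧ ∀ g ∈ H,
      (g : Matrix (Fin 2) (Fin 2) F).mulVec v ∈ Submodule.span F {v}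
  · obtain ⟨v, hv0, hv⟩ := hred
    -- the subgroup of determinant-one elements fixing v
    let T : Subgroup (GL (Fin 2) F) :=
      { carrier := {g | (g : Matrix (Fin 2) (Fin 2) F) *ᵥ v = v ∧
          (g : Matrix (Fin 2) (Fin 2) F).det = 1}
        one_mem' := ⟨by rw [Units.val_one, Matrix.one_mulVec], by rw [Units.val_one, Matrix.det_one]⟩
        mul_mem' := by
          rintro a b ⟨ha1, ha2⟩ ⟨hb1, hb2⟩
          refine ⟨?_, ?_⟩
          · rw [Units.val_mul, ← Matrix.mulVec_mulVec, hb1, ha1]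
          · rw [Units.val_mul, Matrix.det_mul, ha2, hb2, one_mul]
        inv_mem' := by
          rintro a ⟨ha1, ha2⟩
          refine ⟨?_, ?_⟩
          · have : ((a⁻¹ : GL (Fin 2) F) : Matrix (Fin 2) (Fin 2) F) *ᵥ
                ((a : Matrix (Fin 2) (Fin 2) F) *ᵥ v) = v := by
              rw [Matrix.mulVec_mulVec, ← Units.val_mul, inv_mul_cancel, Units.val_one,
                Matrix.one_mulVec]
            rwa [ha1] at this
          · have : ((a⁻¹ : GL (Fin 2) F) : Matrix (Fin 2) (Fin 2) F).det *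
                (a : Matrix (Fin 2) (Fin 2) F).det = 1 := by
              rw [← Matrix.det_mul, ← Units.val_mul, inv_mul_cancel, Units.val_one, Matrix.det_one]
            rwa [ha2, mul_one] at this }
    have hT : ∀ g ∈ T, g ^ p = 1 := by
      rintro g ⟨hg1, hg2⟩
      exact pow_char_eq_one_of_fixed_GL p g hg2 v hv0 hg1
    have hle : ⁅H, H⁆ ≤ T := by
      rw [Subgroup.commutator_le]
      intro a ha b hb
      obtain ⟨α, hα⟩ := Submodule.mem_span_singleton.mp (hv a ha)
      obtain ⟨β, hβ⟩ := Submodule.mem_span_singleton.mp (hv b hb)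
      have hmul : ∀ (c d : GL (Fin 2) F) (γ δ : F),
          (c : Matrix (Fin 2) (Fin 2) F) *ᵥ v = γ • v → (d : Matrix (Fin 2) (Fin 2) F) *ᵥ v = δ • v →
          ((c * d : GL (Fin 2) F) : Matrix (Fin 2) (Fin 2) F) *ᵥ v = (γ * δ) • v := by
        intro c d γ δ hc hd
        rw [Units.val_mul, ← Matrix.mulVec_mulVec, hd, Matrix.mulVec_smul, hc, smul_smul, mul_comm]
      have hcancel : ∀ (c : GL (Fin 2) F) (w : Fin 2 → F),
          ((c⁻¹ : GL (Fin 2) F) : Matrix (Fin 2) (Fin 2) F) *ᵥ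
            ((c : Matrix (Fin 2) (Fin 2) F) *ᵥ w) = w := by
        intro c w
        rw [Matrix.mulVec_mulVec, ← Units.val_mul, inv_mul_cancel, Units.val_one, Matrix.one_mulVec]
      have hne : ∀ (c : GL (Fin 2) F) (γ : F),
          (c : Matrix (Fin 2) (Fin 2) F) *ᵥ v = γ • v → γ ≠ 0 := by
        intro c γ hc h0
        have := hcancel c v
        rw [hc, h0, zero_smul, Matrix.mulVec_zero] at this
        exact hv0 this.symm
      have hinv : ∀ (c : GL (Fin 2) F) (γ : F),
          (c : Matrix (Fin 2) (Fin 2) F) *ᵥ v = γ • v →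
          ((c⁻¹ : GL (Fin 2) F) : Matrix (Fin 2) (Fin 2) F) *ᵥ v = γ⁻¹ • v := by
        intro c γ hc
        have hγ := hne c γ hc
        have h1 := hcancel c v
        rw [hc, Matrix.mulVec_smul] at h1
        calc ((c⁻¹ : GL (Fin 2) F) : Matrix (Fin 2) (Fin 2) F) *ᵥ v
            = γ⁻¹ • (γ • (((c⁻¹ : GL (Fin 2) F) : Matrix (Fin 2) (Fin 2) F) *ᵥ v)) := by
              rw [smul_smul, inv_mul_cancel₀ hγ, one_smul]
          _ = γ⁻¹ • v := by rw [h1]
      have hα0 := hne a α hα.symm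
      have hβ0 := hne b β hβ.symm
      refine ⟨?_, ?_⟩
      · rw [commutatorElement_def]
        have h1 := hmul _ _ _ _ (hmul _ _ _ _ (hmul _ _ _ _ hα.symm hβ.symm) (hinv a α hα.symm))
          (hinv b β hβ.symm)
        rw [h1]
        have : α * β * α⁻¹ * β⁻¹ = 1 := by field_simp
        rw [this, one_smul]
      · rw [commutatorElement_def]
        simp only [Units.val_mul, Matrix.det_mul]
        have ha' : ((a⁻¹ : GL (Fin 2) F) : Matrix (Fin 2) (Fin 2) F).det *
            (a : Matrix (Fin 2) (Fin 2) F).det = 1 := by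
          rw [← Matrix.det_mul, ← Units.val_mul, inv_mul_cancel, Units.val_one, Matrix.det_one]
        have hb' : ((b⁻¹ : GL (Fin 2) F) : Matrix (Fin 2) (Fin 2) F).det *
            (b : Matrix (Fin 2) (Fin 2) F).det = 1 := by
          rw [← Matrix.det_mul, ← Units.val_mul, inv_mul_cancel, Units.val_one, Matrix.det_one]
        linear_combination (((b⁻¹ : GL (Fin 2) F) : Matrix (Fin 2) (Fin 2) F).det *
          (b : Matrix (Fin 2) (Fin 2) F).det) * ha' + hb'
    intro h hh
    exact hT h (hle hh)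
  · -- irreducible: p ∤ |H|, hence H abelian
    have hirr : ∀ v : Fin 2 → F, v ≠ 0 → ∃ g ∈ H,
        (g : Matrix (Fin 2) (Fin 2) F).mulVec v ∉ Submodule.span F {v} := by
      intro v hv
      by_contra hno
      push Not at hno
      exact hred ⟨v, hv, hno⟩
    have hcop := Cfsg.Agent.S1463.result p hp H hodd hirr
    have hcomm := oddGL2_comm_of_coprime p hp H hodd hcop
    have hbot : ⁅H, H⁆ = ⊥ := by
      rw [Subgroup.commutator_eq_bot_iff_le_centralizer]
      intro a ha
      rw [Subgroup.mem_centralizer_iff]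
      intro b hb
      have := hcomm ⟨b, hb⟩ ⟨a, ha⟩
      exact congrArg Subtype.val this
    intro h hh
    rw [hbot, Subgroup.mem_bot] at hh
    rw [hh, one_pow]

end GLsec

end Cfsg.Agent.Lib.Helper17
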