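import Mathlib

/-!
Automorphisms acting on a section `M / N` of a group: the induced automorphism of the quotient,
cyclic sections of order dividing `p`, and the consequences for commutators and powers.
-/

set_option autoImplicit false

namespace Cfsg.Agent.Lib.Helper17

variable {G : Type*} [Group G]

/-- The automorphisms of `G` preserving both `M` and `N`. -/
def presSub (M N : Subgroup G) : Subgroup (MulAut G) where
  carrier := {u | (∀ x, x ∈ M ↔ u x ∈ M) ∧ (∀ x, x ∈ N ↔ u x ∈ N)}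
  one_mem' := ⟨fun _ => Iff.rfl, fun _ => Iff.rfl⟩
  mul_mem' := by
    rintro u v ⟨hu1, hu2⟩ ⟨hv1, hv2⟩
    exact ⟨fun x => by rw [MulAut.mul_apply, ← hu1, ← hv1],
      fun x => by rw [MulAut.mul_apply, ← hu2, ← hv2]⟩
  inv_mem' := by
    rintro u ⟨hu1, hu2⟩
    refine ⟨fun x => ?_, fun x => ?_⟩
    · rw [hu1 (u⁻¹ x)]; simp
    · rw [hu2 (u⁻¹ x)]; simp

theorem mem_presSub {M N : Subgroup G} {u : MulAut G} :
    u ∈ presSub M N ↔ (∀ x, x ∈ M ↔ u x ∈ M) ∧ (∀ x, x ∈ N ↔ u x ∈ N) := Iff.rfl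

/-- Restriction of an automorphism to an invariant subgroup. -/
def resAut (u : MulAut G) (M : Subgroup G) (h : ∀ x, x ∈ M ↔ u x ∈ M) : MulAut M where
  toFun x := ⟨u x, (h x).mp x.2⟩
  invFun x := ⟨u.symm x, (h _).mpr (by rw [MulEquiv.apply_symm_apply]; exact x.2)⟩
  left_inv x := Subtype.ext (by simp)
  right_inv x := Subtype.ext (by simp)
  map_mul' x y := Subtype.ext (by simp)

theorem resAut_map (u : MulAut G) (M N : Subgroup G) (hM : ∀ x, x ∈ M ↔ u x ∈ M)
    (hN : ∀ x, x ∈ N ↔ u x ∈ N) :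
    (N.subgroupOf M).map ((resAut u M hM : M ≃* M) : M →* M) = N.subgroupOf M := by
  ext ⟨x, hx⟩
  rw [Subgroup.mem_map, Subgroup.mem_subgroupOf]
  constructor
  · rintro ⟨⟨y, hy⟩, hyN, hyx⟩
    rw [Subgroup.mem_subgroupOf] at hyN
    have : u y = x := congrArg Subtype.val hyx
    show x ∈ N
    rw [← this]
    exact (hN y).mp hyN
  · intro hxN
    have hxN' : x ∈ N := hxN
    have h1 : u⁻¹ x ∈ N := by
      rw [hN, MulAut.apply_inv_self]
      exact hxN'
    have h2 : u⁻¹ x ∈ M := by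
      rw [hM, MulAut.apply_inv_self]
      exact hx
    refine ⟨⟨u⁻¹ x, h2⟩, ?_, ?_⟩
    · rw [Subgroup.mem_subgroupOf]
      exact h1
    · apply Subtype.ext
      show u (u⁻¹ x) = x
      rw [MulAut.apply_inv_self]

/-- The automorphism induced on the section `M / N`. -/
noncomputable def secHom (M N : Subgroup G) [hn : (N.subgroupOf M).Normal] :
    presSub M N →* MulAut (M ⧸ N.subgroupOf M) where
  toFun u := QuotientGroup.congr (N.subgroupOf M) (N.subgroupOf M) (resAut u.1 M u.2.1)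
    (resAut_map u.1 M N u.2.1 u.2.2)
  map_one' := by
    ext q
    induction q using QuotientGroup.induction_on with
    | H x => rfl
  map_mul' := by
    intro u v
    ext q
    induction q using QuotientGroup.induction_on with
    | H x => rfl

theorem secHom_mk (M N : Subgroup G) [hn : (N.subgroupOf M).Normal] (u : presSub M N) (m : M) :
    secHom M N u (QuotientGroup.mk m) = QuotientGroup.mk (resAut u.1 M u.2.1 m) := rfl

theorem secHom_eq_one_iff (M N : Subgroup G) [hn : (N.subgroupOf M).Normal] (u : presSub M N) :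
    secHom M N u = 1 ↔ ∀ m ∈ M, m⁻¹ * (u : MulAut G) m ∈ N := by
  constructor
  · intro h m hm
    have h1 := secHom_mk M N u ⟨m, hm⟩
    rw [h, MulAut.one_apply] at h1
    have h2 := QuotientGroup.eq.mp h1
    rw [Subgroup.mem_subgroupOf] at h2
    exact h2
  · intro h
    ext q
    induction q using QuotientGroup.induction_on with
    | H x =>
      rw [secHom_mk, MulAut.one_apply]
      symm
      rw [QuotientGroup.eq, Subgroup.mem_subgroupOf]
      exact h x x.2

/-- A cyclic step of order dividing `p`. -/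
def CycStep (p : ℕ) (N M : Subgroup G) : Prop :=
  N ≤ M ∧ ∃ x ∈ M, x ^ p ∈ N ∧ ∀ y ∈ M, ∃ k : ℤ, (x ^ k)⁻¹ * y ∈ N

theorem CycStep.refl (p : ℕ) (N : Subgroup G) : CycStep p N N :=
  ⟨le_rfl, 1, N.one_mem, by simp, fun y hy => ⟨0, by simpa using hy⟩⟩

theorem CycStep.forall_mem_zpowers {p : ℕ} {N M : Subgroup G} [hn : (N.subgroupOf M).Normal]
    (h : CycStep p N M) : ∃ g : M ⧸ N.subgroupOf M, g ^ p = 1 ∧ ∀ q, q ∈ Subgroup.zpowers g := by
  obtain ⟨-, x, hx, hxp, hgen⟩ := h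
  refine ⟨QuotientGroup.mk ⟨x, hx⟩, ?_, fun q => ?_⟩
  · rw [← QuotientGroup.mk_pow, QuotientGroup.eq_one_iff, Subgroup.mem_subgroupOf]
    exact hxp
  · induction q using QuotientGroup.induction_on with
    | H y =>
      obtain ⟨k, hk⟩ := hgen y y.2
      refine ⟨k, ?_⟩
      show (QuotientGroup.mk ⟨x, hx⟩ : M ⧸ N.subgroupOf M) ^ k = QuotientGroup.mk y
      rw [← QuotientGroup.mk_zpow, QuotientGroup.eq, Subgroup.mem_subgroupOf]
      exact hk

theorem CycStep.isCyclic {p : ℕ} {N M : Subgroup G} [hn : (N.subgroupOf M).Normal]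
    (h : CycStep p N M) : IsCyclic (M ⧸ N.subgroupOf M) := by
  obtain ⟨g, -, hg⟩ := h.forall_mem_zpowers
  exact ⟨⟨g, hg⟩⟩

theorem CycStep.card_dvd {p : ℕ} (_hp : 0 < p) {N M : Subgroup G} [hn : (N.subgroupOf M).Normal]
    (h : CycStep p N M) : Nat.card (M ⧸ N.subgroupOf M) ∣ p := by
  obtain ⟨g, hgp, hg⟩ := h.forall_mem_zpowers
  rw [← orderOf_eq_card_of_forall_mem_zpowers hg]
  exact orderOf_dvd_of_pow_eq_one hgp

theorem mulAut_comm_of_isCyclic {Q : Type*} [Group Q] [IsCyclic Q] (σ τ : MulAut Q) :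
    σ * τ = τ * σ := by
  obtain ⟨m, hm⟩ := MonoidHom.map_cyclic (σ : Q →* Q)
  obtain ⟨n, hn⟩ := MonoidHom.map_cyclic (τ : Q →* Q)
  ext q
  have h1 : σ (τ q) = (q ^ n) ^ m := by
    have := hm (τ q)
    have h2 := hn q
    change σ (τ q) = _ at this
    change τ q = _ at h2
    rw [this, h2]
  have h3 : τ (σ q) = (q ^ m) ^ n := by
    have := hn (σ q)
    have h2 := hm q
    change τ (σ q) = _ at this
    change σ q = _ at h2
    rw [this, h2]
  rw [MulAut.mul_apply, MulAut.mul_apply, h1, h3, ← zpow_mul, ← zpow_mul, mul_comm]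

theorem card_mulAut_dvd_pred {p : ℕ} (hp : p.Prime) {Q : Type*} [Group Q] [Finite Q] [IsCyclic Q]
    (h : Nat.card Q ∣ p) : Nat.card (MulAut Q) ∣ p - 1 := by
  rw [IsCyclic.card_mulAut]
  rcases (Nat.dvd_prime hp).mp h with h1 | h1
  · rw [h1, Nat.totient_one]
    exact one_dvd _
  · rw [h1, Nat.totient_prime hp]

section Facts

variable {p : ℕ} {N M : Subgroup G} [Finite M]

omit [Finite M] in
/-- Commutators of automorphisms act trivially on a cyclic section. -/
theorem commutator_triv_of_cycStep [hn : (N.subgroupOf M).Normal] (h : CycStep p N M)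
    {u v : MulAut G} (hu : u ∈ presSub M N) (hv : v ∈ presSub M N) :
    ∀ m ∈ M, m⁻¹ * (u * v * u⁻¹ * v⁻¹) m ∈ N := by
  have := h.isCyclic
  have hw : u * v * u⁻¹ * v⁻¹ ∈ presSub M N :=
    (presSub M N).mul_mem ((presSub M N).mul_mem ((presSub M N).mul_mem hu hv)
      ((presSub M N).inv_mem hu)) ((presSub M N).inv_mem hv)
  have h1 : secHom M N ⟨u * v * u⁻¹ * v⁻¹, hw⟩ = 1 := by
    have e : (⟨u * v * u⁻¹ * v⁻¹, hw⟩ : presSub M N) =
        ⟨u, hu⟩ * ⟨v, hv⟩ * ⟨u, hu⟩⁻¹ * ⟨v, hv⟩⁻¹ := rfl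
    rw [e, map_mul, map_mul, map_mul, map_inv, map_inv,
      mulAut_comm_of_isCyclic (secHom M N ⟨u, hu⟩) (secHom M N ⟨v, hv⟩)]
    group
  exact (secHom_eq_one_iff M N ⟨_, hw⟩).mp h1

/-- `(p-1)`-th powers of automorphisms act trivially on a cyclic section of order dividing `p`. -/
theorem pow_pred_triv_of_cycStep (hp : p.Prime) [hn : (N.subgroupOf M).Normal] (h : CycStep p N M)
    {u : MulAut G} (hu : u ∈ presSub M N) :
    ∀ m ∈ M, m⁻¹ * (u ^ (p - 1)) m ∈ N := by
  have := h.isCyclic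
  have hw : u ^ (p - 1) ∈ presSub M N := (presSub M N).pow_mem hu _
  have h1 : secHom M N ⟨u ^ (p - 1), hw⟩ = 1 := by
    have e : (⟨u ^ (p - 1), hw⟩ : presSub M N) = ⟨u, hu⟩ ^ (p - 1) := rfl
    rw [e, map_pow]
    obtain ⟨k, hk⟩ := card_mulAut_dvd_pred hp (h.card_dvd hp.pos)
    rw [hk, pow_mul, pow_card_eq_one', one_pow]
  exact (secHom_eq_one_iff M N ⟨_, hw⟩).mp h1

/-- Automorphisms of `p`-power order act trivially on a cyclic section of order dividing `p`. -/
theorem triv_of_cycStep_of_pow (hp : p.Prime) [hn : (N.subgroupOf M).Normal] (h : CycStep p N M)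
    {u : MulAut G} (hu : u ∈ presSub M N) {j : ℕ} (huj : u ^ (p ^ j) = 1) :
    ∀ m ∈ M, m⁻¹ * u m ∈ N := by
  have := h.isCyclic
  have h1 : secHom M N ⟨u, hu⟩ = 1 := by
    set σ := secHom M N ⟨u, hu⟩ with hσ
    have h2 : σ ^ (p ^ j) = 1 := by
      rw [hσ, ← map_pow]
      have : (⟨u, hu⟩ : presSub M N) ^ (p ^ j) = 1 := Subtype.ext huj
      rw [this, map_one]
    have h3 : orderOf σ ∣ p ^ j := orderOf_dvd_of_pow_eq_one h2
    have h4 : orderOf σ ∣ p - 1 :=
      (orderOf_dvd_natCard σ).trans (card_mulAut_dvd_pred hp (h.card_dvd hp.pos))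
    have h5 : orderOf σ ∣ Nat.gcd (p ^ j) (p - 1) := Nat.dvd_gcd h3 h4
    have h6 : Nat.gcd (p ^ j) (p - 1) = 1 := by
      have h2p := hp.two_le
      have : Nat.Coprime p (p - 1) := Nat.coprime_of_lt_prime (by omega) (by omega) hp
      exact Nat.Coprime.pow_left j this
    rw [h6, Nat.dvd_one, orderOf_eq_one_iff] at h5
    exact h5
  exact (secHom_eq_one_iff M N ⟨u, hu⟩).mp h1

end Facts

end Cfsg.Agent.Lib.Helper17
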