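import Mathlib
import Cfsg.Agent.Lib.Helper17.OddGL2
import Cfsg.Agent.Lib.Helper17.SecAut
import Cfsg.Agent.Lib.Helper26.ElemAbAut
import Cfsg.Agent.Lib.Helper13.GL2Sylow

/-!
helper17: odd-order groups of automorphisms of an elementary abelian `p`-group of order
dividing `p ^ 2`: derived subgroup of exponent dividing `p`, order of `Aut` divides
`p (p-1)^2 (p+1)`.
-/

set_option autoImplicit false
open scoped MatrixGroups

namespace Cfsg.Agent.Lib.Helper17

variable (p : ℕ) [Fact p.Prime]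

theorem card_GL2_zmod :
    Nat.card (GL (Fin 2) (ZMod p)) = p * (p - 1) ^ 2 * (p + 1) := by
  have := Cfsg.Agent.Lib.Helper13.card_GL2 (F := ZMod p)
  rw [ZMod.card] at this
  exact this

/-- `|Aut V|` divides `p (p-1)² (p+1)` for `V` elementary abelian of order dividing `p²`. -/
theorem card_mulAut_dvd_of_elemAb {V : Type*} [Group V] [Finite V]
    (hcomm : ∀ a b : V, a * b = b * a) (hexp : ∀ a : V, a ^ p = 1) (hcard : Nat.card V ∣ p ^ 2) :
    Nat.card (MulAut V) ∣ p * (p - 1) ^ 2 * (p + 1) := by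
  have hpp : p.Prime := Fact.out
  obtain ⟨m, hm, hVm⟩ := (Nat.dvd_prime_pow hpp).mp hcard
  interval_cases m
  · -- trivial group
    rw [pow_zero] at hVm
    have hsub : Subsingleton V := (Nat.card_eq_one_iff_unique.mp hVm).1
    have : Subsingleton (MulAut V) := ⟨fun a b => by ext x; exact Subsingleton.elim _ _⟩
    rw [Nat.card_eq_one_iff_unique.mpr ⟨this, ⟨1⟩⟩]
    exact one_dvd _
  · rw [pow_one] at hVm
    have hcyc : IsCyclic V := isCyclic_of_prime_card hVm
    have h1 := card_mulAut_dvd_pred hpp (Q := V) (by rw [hVm])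
    have h2 : p - 1 ∣ p * (p - 1) ^ 2 * (p + 1) := by
      refine Dvd.dvd.mul_right (Dvd.dvd.mul_left ?_ _) _
      exact dvd_pow_self _ (by norm_num)
    exact h1.trans h2
  · obtain ⟨e⟩ := Cfsg.Agent.Lib.Helper26.exists_mulEquiv_of_elemAb p hcomm hexp hVm
    have Ψ : MulAut V ≃* GL (Fin 2) (ZMod p) :=
      (MulAut.congr e).trans (Cfsg.Agent.Lib.Helper26.mulAutEquivGL p)
    rw [Nat.card_congr Ψ.toEquiv, card_GL2_zmod]

/-- odd-order subgroups of `Aut V`, `V` elementary abelian of order dividing `p²`: the derived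
subgroup has exponent dividing `p`. -/
theorem commutator_pow_of_odd_elemAb (hp : p ≠ 2) {V : Type*} [Group V] [Finite V]
    (hcomm : ∀ a b : V, a * b = b * a) (hexp : ∀ a : V, a ^ p = 1) (hcard : Nat.card V ∣ p ^ 2)
    (H : Subgroup (MulAut V)) (hodd : Odd (Nat.card H)) : ∀ h ∈ ⁅H, H⁆, h ^ p = 1 := by
  have hpp : p.Prime := Fact.out
  obtain ⟨m, hm, hVm⟩ := (Nat.dvd_prime_pow hpp).mp hcard
  interval_cases m
  · rw [pow_zero] at hVm
    have hsub : Subsingleton V := (Nat.card_eq_one_iff_unique.mp hVm).1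
    intro h _
    ext x
    exact Subsingleton.elim _ _
  · rw [pow_one] at hVm
    have hcyc : IsCyclic V := isCyclic_of_prime_card hVm
    have hbot : ⁅H, H⁆ = ⊥ := by
      rw [Subgroup.commutator_eq_bot_iff_le_centralizer]
      intro a _
      rw [Subgroup.mem_centralizer_iff]
      intro b _
      exact mulAut_comm_of_isCyclic b a
    intro h hh
    rw [hbot, Subgroup.mem_bot] at hh
    rw [hh, one_pow]
  · obtain ⟨e⟩ := Cfsg.Agent.Lib.Helper26.exists_mulEquiv_of_elemAb p hcomm hexp hVm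
    obtain ⟨Ψ⟩ : Nonempty (MulAut V ≃* GL (Fin 2) (ZMod p)) :=
      ⟨(MulAut.congr e).trans (Cfsg.Agent.Lib.Helper26.mulAutEquivGL p)⟩
    have hfin : Finite (H.map Ψ.toMonoidHom) := inferInstance
    have hcardH : Nat.card (H.map Ψ.toMonoidHom) = Nat.card H :=
      Subgroup.card_map_of_injective Ψ.injective
    have hodd' : Odd (Nat.card (H.map Ψ.toMonoidHom)) := by rw [hcardH]; exact hodd
    have key := oddGL2_commutator_pow_char (F := ZMod p) p hp (H.map Ψ.toMonoidHom) hodd'
    intro h hh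
    have h1 : Ψ.toMonoidHom h ∈ ⁅H.map Ψ.toMonoidHom, H.map Ψ.toMonoidHom⁆ := by
      rw [← Subgroup.map_commutator]
      exact Subgroup.mem_map_of_mem _ hh
    have h3 := key _ h1
    apply Ψ.injective
    rw [map_pow, map_one]
    exact h3

end Cfsg.Agent.Lib.Helper17
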