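import Mathlib
import Cfsg.Prelude.Def_CaseTheorems
import Cfsg.Agent.Lib.Helper17.OddAutElem
import Cfsg.Agent.Lib.Helper1.CritExtra

/-!
helper17: odd-order groups of automorphisms of a `p`-group of rank at most two (`p` odd):
the derived subgroup is a `p`-group and all prime divisors of the order are at most `p`
(B&G Theorem 4.17 / ingredients of 4.18).
-/

set_option autoImplicit false
open scoped commutatorElement

namespace Cfsg.Agent.Lib.Helper17

variable (p : ℕ) [Fact p.Prime]

section P2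

variable {D : Type*} [Group D] [Finite D]

omit [Finite D] in
theorem commutator_mul_right_of_central (hcl : ∀ x y z : D, ⁅x, y⁆ * z = z * ⁅x, y⁆) (x d d' : D) :
    ⁅x, d * d'⁆ = ⁅x, d⁆ * ⁅x, d'⁆ := by
  have h1 : ⁅x, d * d'⁆ = ⁅x, d⁆ * (d * ⁅x, d'⁆ * d⁻¹) := by
    simp only [commutatorElement_def]; group
  rw [h1, ← hcl x d' d, mul_assoc, mul_inv_cancel, mul_one]

/-- a finite `p`-group of exponent `p`, class at most two and rank at most two has centre of
index dividing `p²`. -/
theorem index_center_dvd_of_rank_two (hD : IsPGroup p D) (hexp : ∀ x : D, x ^ p = 1)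
    (hcl : ∀ x y z : D, ⁅x, y⁆ * z = z * ⁅x, y⁆) (hr : Cfsg.PRankLE p 2 D) :
    (Subgroup.center D).index ∣ p ^ 2 := by
  classical
  have hpp : p.Prime := Fact.out
  obtain ⟨n, hn⟩ := IsPGroup.index hD (Subgroup.center D)
  suffices h : (Subgroup.center D).index ≤ p ^ 2 by
    rw [hn] at h ⊢
    exact pow_dvd_pow p ((Nat.pow_le_pow_iff_right hpp.one_lt).mp h)
  by_cases hab : Subgroup.center D = ⊤
  · rw [hab, Subgroup.index_top]
    exact Nat.one_le_pow _ _ hpp.pos
  obtain ⟨x, hx⟩ : ∃ x : D, x ∉ Subgroup.center D := by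
    by_contra hno
    push Not at hno
    exact hab (eq_top_iff.mpr fun y _ => hno y)
  have hnt : Nontrivial D := by
    refine ⟨⟨x, 1, ?_⟩⟩
    rintro rfl
    exact hx (Subgroup.one_mem _)
  have hZnt : Nontrivial (Subgroup.center D) := hD.center_nontrivial
  have hZp : p ∣ Nat.card (Subgroup.center D) := by
    rcases (hD.to_subgroup (Subgroup.center D)).card_eq_or_dvd with h | h
    · exfalso
      rw [Subgroup.card_eq_one] at h
      have := (Subgroup.nontrivial_iff_ne_bot _).mp hZnt
      exact this h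
    · exact h
  -- abelian subgroups generated by the centre and commuting elements
  have hrank : ∀ S : Set D, (∀ a ∈ S, ∀ b ∈ S, a * b = b * a) →
      Nat.card (Subgroup.closure S) ≤ p ^ 2 := by
    intro S hS
    apply hr _ (Subgroup.isMulCommutative_closure hS)
    intro a _
    exact hexp a
  obtain ⟨M, hM⟩ : ∃ M : Subgroup D, M = Subgroup.closure ((Subgroup.center D : Set D) ∪ {x}) :=
    ⟨_, rfl⟩
  have hZM : Subgroup.center D ≤ M := by
    rw [hM]
    exact fun z hz => Subgroup.subset_closure (Or.inl hz)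
  have hxM : x ∈ M := by
    rw [hM]
    exact Subgroup.subset_closure (Or.inr rfl)
  have hMle : Nat.card M ≤ p ^ 2 := by
    rw [hM]
    apply hrank
    rintro a (ha | ha) b (hb | hb)
    · exact (Subgroup.mem_center_iff.mp hb a)
    · exact (Subgroup.mem_center_iff.mp ha b).symm
    · exact (Subgroup.mem_center_iff.mp hb a)
    · rw [Set.mem_singleton_iff] at ha hb
      rw [ha, hb]
  have hZltM : Subgroup.center D < M := lt_of_le_of_ne hZM (fun h => hx (h ▸ hxM))
  -- orders
  have hZM2 : Nat.card (Subgroup.center D) * p ≤ Nat.card M := by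
    have h1 : Nat.card (Subgroup.center D) ∣ Nat.card M := Subgroup.card_dvd_of_le hZM
    have h2 : Nat.card (Subgroup.center D) < Nat.card M := by
      rcases lt_or_ge (Nat.card (Subgroup.center D)) (Nat.card M) with h | h
      · exact h
      · exact absurd (Subgroup.eq_of_le_of_card_ge hZM h) hZltM.ne
    obtain ⟨a, ha⟩ := (hD.to_subgroup (Subgroup.center D)).exists_card_eq
    obtain ⟨b, hb⟩ := (hD.to_subgroup M).exists_card_eq
    rw [ha, hb] at h2 ⊢
    have hab' : a < b := (Nat.pow_lt_pow_iff_right hpp.one_lt).mp h2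
    rw [← pow_succ]
    exact Nat.pow_le_pow_right hpp.pos hab'
  have hZcard : Nat.card (Subgroup.center D) = p := by
    apply le_antisymm
    · have : Nat.card (Subgroup.center D) * p ≤ p * p := by
        rw [← pow_two]; exact hZM2.trans hMle
      exact Nat.le_of_mul_le_mul_right this hpp.pos
    · exact Nat.le_of_dvd Nat.card_pos hZp
  have hMcard : Nat.card M = p ^ 2 := by
    apply le_antisymm hMle
    rw [hZcard] at hZM2
    rw [pow_two]; exact hZM2
  -- centralizer of x is M
  have hCM : Subgroup.centralizer ({x} : Set D) ≤ M := by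
    intro y hy
    have hyx : y * x = x * y := (Cfsg.Agent.Lib.Helper13.mem_centralizer_singleton_comm x y).mp hy
    obtain ⟨M', hM'⟩ : ∃ M' : Subgroup D,
      M' = Subgroup.closure ((Subgroup.center D : Set D) ∪ {x, y}) := ⟨_, rfl⟩
    have hMM' : M ≤ M' := by
      rw [hM, hM']
      apply Subgroup.closure_mono
      rintro a (ha | ha)
      · exact Or.inl ha
      · right
        rw [Set.mem_singleton_iff] at ha
        rw [ha]
        exact Set.mem_insert _ _
    have hM'le : Nat.card M' ≤ p ^ 2 := by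
      rw [hM']
      apply hrank
      rintro a (ha | ha) b (hb | hb)
      · exact (Subgroup.mem_center_iff.mp hb a)
      · exact (Subgroup.mem_center_iff.mp ha b).symm
      · exact (Subgroup.mem_center_iff.mp hb a)
      · rcases ha with rfl | ha <;> rcases hb with rfl | hb
        · rfl
        · rw [Set.mem_singleton_iff] at hb
          rw [hb, hyx]
        · rw [Set.mem_singleton_iff] at ha
          rw [ha, hyx]
        · rw [Set.mem_singleton_iff] at ha hb
          rw [ha, hb]
    have heq : M = M' := Subgroup.eq_of_le_of_card_ge hMM' (by rw [hMcard]; exact hM'le)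
    rw [heq, hM']
    apply Subgroup.subset_closure
    right
    exact Set.mem_insert_of_mem _ rfl
  -- the commutator homomorphism
  let f : D →* Subgroup.center D :=
    { toFun := fun d => ⟨⁅x, d⁆, Subgroup.mem_center_iff.mpr fun g => (hcl x d g).symm⟩
      map_one' := by
        apply Subtype.ext
        simp
      map_mul' := fun d d' => by
        apply Subtype.ext
        exact commutator_mul_right_of_central hcl x d d' }
  have hker : f.ker ≤ Subgroup.centralizer ({x} : Set D) := by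
    intro d hd
    rw [MonoidHom.mem_ker] at hd
    have h1 : ⁅x, d⁆ = 1 := congrArg Subtype.val hd
    rw [commutatorElement_eq_one_iff_mul_comm] at h1
    exact (Cfsg.Agent.Lib.Helper13.mem_centralizer_singleton_comm x d).mpr h1.symm
  have hkercard : Nat.card f.ker ≤ p ^ 2 := by
    rw [← hMcard]
    exact Subgroup.card_le_of_le (hker.trans hCM)
  have hrange : Nat.card f.range ≤ p := by
    rw [← hZcard]
    exact Nat.le_of_dvd Nat.card_pos (Subgroup.card_subgroup_dvd_card f.range)
  have h1 : Nat.card f.ker * f.ker.index = Nat.card D := Subgroup.card_mul_index f.ker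
  have h2 : Nat.card (Subgroup.center D) * (Subgroup.center D).index = Nat.card D :=
    Subgroup.card_mul_index _
  rw [Subgroup.index_ker] at h1
  rw [hZcard] at h2
  have h3 : p * (Subgroup.center D).index ≤ p * p ^ 2 := by
    rw [h2, ← h1, mul_comm p]
    exact Nat.mul_le_mul hkercard hrange
  exact Nat.le_of_mul_le_mul_left h3 hpp.pos

end P2

section P1

variable {R : Type*} [Group R] [Finite R]

/-- `Ω₁` of a critical subgroup: characteristic, exponent `p`, class at most two, and faithful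
for `p'`-automorphisms. -/
theorem exists_omega_critical (hp : p ≠ 2) (hR : IsPGroup p R) :
    ∃ D : Subgroup R, (∀ α : MulAut R, ∀ x, x ∈ D ↔ α x ∈ D) ∧ (∀ x ∈ D, x ^ p = 1) ∧
      (∀ x ∈ D, ∀ y ∈ D, ∀ z ∈ D, ⁅x, y⁆ * z = z * ⁅x, y⁆) ∧
      (∀ α : MulAut R, (orderOf α).Coprime p → (∀ x ∈ D, α x = x) → α = 1) := by
  have hpp : p.Prime := Fact.out
  obtain ⟨C, hCchar, h1, h2, h3⟩ := Cfsg.Agent.S0093.result hR
  have hC := Cfsg.Agent.Lib.Helper1.CritExtra.critHyp_of_critical hR C h1 h2
  have hexpo : Cfsg.Agent.Lib.Helper1.CritExtra.expo p = p := by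
    unfold Cfsg.Agent.Lib.Helper1.CritExtra.expo
    rw [if_neg hp]
  have hCinv : ∀ α : MulAut R, ∀ x, x ∈ C ↔ α x ∈ C := by
    intro α x
    have h := Subgroup.characteristic_iff_comap_eq.mp hCchar α
    constructor
    · intro hx
      rw [← h] at hx
      exact hx
    · intro hx
      rw [← h]
      exact hx
  let D : Subgroup R :=
    { carrier := {x | x ∈ C ∧ x ^ p = 1}
      one_mem' := ⟨C.one_mem, one_pow _⟩
      mul_mem' := by
        rintro a b ⟨ha, ha'⟩ ⟨hb, hb'⟩
        refine ⟨C.mul_mem ha hb, ?_⟩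
        have := hC.mul_pow_expo hpp ha hb
        rw [hexpo] at this
        rw [this, ha', hb', one_mul]
      inv_mem' := by
        rintro a ⟨ha, ha'⟩
        exact ⟨C.inv_mem ha, by rw [inv_pow, ha', inv_one]⟩ }
  have hDmem : ∀ x, x ∈ D ↔ x ∈ C ∧ x ^ p = 1 := fun x => Iff.rfl
  refine ⟨D, ?_, ?_, ?_, ?_⟩
  · intro α x
    rw [hDmem, hDmem, ← hCinv α x, ← map_pow]
    constructor
    · rintro ⟨h, h'⟩
      exact ⟨h, by rw [h', map_one]⟩
    · rintro ⟨h, h'⟩
      refine ⟨h, ?_⟩
      apply α.injective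
      rw [h', map_one]
  · intro x hx
    exact hx.2
  · intro x hx y _ z hz
    exact hC.comm_cent x hx.1 y z hz.1
  · intro α hα hfix
    have hfixC : ∀ x ∈ C, α x = x := by
      apply Cfsg.Agent.Lib.Helper1.CritExtra.fixes_of_fixes_omega hR hC α hα (Nat.card C) C rfl
        le_rfl
      · intro x hx
        exact (hCinv α x).mp hx
      · intro x hx hxe
        rw [hexpo] at hxe
        exact hfix x ⟨hx, hxe⟩
    exact Cfsg.Agent.S0121.result hR C hCchar h1 h2 h3 α hα hfixC

end P1

theorem prime_le_of_dvd_card_GL2 {p q : ℕ} (hpp : p.Prime) (hp2 : p ≠ 2) (hq : q.Prime)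
    (hqodd : Odd q) (h : q ∣ p * (p - 1) ^ 2 * (p + 1)) : q ≤ p := by
  rcases (Nat.Prime.dvd_mul hq).mp h with h1 | h1
  · rcases (Nat.Prime.dvd_mul hq).mp h1 with h2 | h2
    · exact Nat.le_of_dvd hpp.pos h2
    · have h3 := hq.dvd_of_dvd_pow h2
      have h4 : q ≤ p - 1 := Nat.le_of_dvd (by have := hpp.two_le; omega) h3
      omega
  · have hpodd : Odd p := hpp.odd_of_ne_two hp2
    have h2 : 2 ∣ p + 1 := by
      obtain ⟨k, hk⟩ := hpodd
      omega
    have hcop : Nat.Coprime 2 q := Nat.coprime_two_left.mpr hqodd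
    have h3 := Nat.Coprime.mul_dvd_of_dvd_of_dvd hcop h2 h1
    have h4 := Nat.le_of_dvd (by omega) h3
    omega

section Main

variable {R : Type*} [Group R] [Finite R]

omit [Finite R] [Fact p.Prime] in
theorem pRankLE_subgroup {k : ℕ} (hr : Cfsg.PRankLE p k R) (D : Subgroup R) :
    Cfsg.PRankLE p k D := by
  intro A hA hAp
  have h1 : Nat.card (A.map D.subtype) = Nat.card A :=
    Subgroup.card_map_of_injective D.subtype_injective
  rw [← h1]
  apply hr
  · refine ⟨⟨?_⟩⟩
    rintro ⟨a, ha⟩ ⟨b, hb⟩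
    obtain ⟨a', ha', rfl⟩ := ha
    obtain ⟨b', hb', rfl⟩ := hb
    apply Subtype.ext
    have := hA.is_comm.comm ⟨a', ha'⟩ ⟨b', hb'⟩
    have h2 := congrArg (fun t : A => D.subtype (t : D)) this
    simpa using h2
  · rintro a ⟨a', ha', rfl⟩
    rw [← map_pow, hAp a' ha', map_one]

/-- all automorphisms, as elements of `presSub M N`, when `M`, `N` are invariant. -/
def toPres (M N : Subgroup R) (hM : ∀ α : MulAut R, ∀ x, x ∈ M ↔ α x ∈ M)
    (hN : ∀ α : MulAut R, ∀ x, x ∈ N ↔ α x ∈ N) : MulAut R →* presSub M N where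
  toFun α := ⟨α, hM α, hN α⟩
  map_one' := rfl
  map_mul' _ _ := rfl

/-- **Main theorem** (B&G 4.17 and part of 4.18): for a `p`-group `R` (`p` odd) of rank at most two
and a group `B` of automorphisms of odd order, `B'` is a `p`-group and every prime divisor of
`|B|` is at most `p`. -/
theorem odd_aut_rank_two (hp : p ≠ 2) (hR : IsPGroup p R) (hr : Cfsg.PRankLE p 2 R)
    (B : Subgroup (MulAut R)) (hodd : Odd (Nat.card B)) :
    (∀ β ∈ ⁅B, B⁆, ∃ k : ℕ, β ^ (p ^ k) = 1) ∧
      (∀ q : ℕ, q.Prime → q ∣ Nat.card B → q ≤ p) := by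
  classical
  have hpp : p.Prime := Fact.out
  obtain ⟨D, hDinv, hDexp, hDcl, hDfaith⟩ := exists_omega_critical p hp hR
  obtain ⟨Z, hZ⟩ : ∃ Z : Subgroup R, Z = D ⊓ Subgroup.centralizer (D : Set R) := ⟨_, rfl⟩
  have hZD : Z ≤ D := by rw [hZ]; exact inf_le_left
  have hZcent : ∀ z ∈ Z, ∀ d ∈ D, d * z = z * d := by
    intro z hz d hd
    rw [hZ] at hz
    exact Subgroup.mem_centralizer_iff.mp hz.2 d hd
  have hZinv : ∀ α : MulAut R, ∀ x, x ∈ Z ↔ α x ∈ Z := by
    intro α x
    rw [hZ, Subgroup.mem_inf, Subgroup.mem_inf, ← hDinv α x, Subgroup.mem_centralizer_iff,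
      Subgroup.mem_centralizer_iff]
    constructor
    · rintro ⟨h1, h2⟩
      refine ⟨h1, fun d hd => ?_⟩
      have hd' : α⁻¹ d ∈ D := by
        rw [hDinv α, MulAut.apply_inv_self]; exact hd
      have := congrArg α (h2 _ hd')
      rwa [map_mul, map_mul, MulAut.apply_inv_self] at this
    · rintro ⟨h1, h2⟩
      refine ⟨h1, fun d hd => ?_⟩
      have := h2 (α d) ((hDinv α d).mp hd)
      rw [← map_mul, ← map_mul] at this
      exact α.injective this
  have hbotinv : ∀ α : MulAut R, ∀ x, x ∈ (⊥ : Subgroup R) ↔ α x ∈ (⊥ : Subgroup R) := by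
    intro α x
    rw [Subgroup.mem_bot, Subgroup.mem_bot]
    constructor
    · intro h; rw [h, map_one]
    · intro h
      apply α.injective
      rw [h, map_one]
  have hn₁ : (Z.subgroupOf D).Normal := by
    refine ⟨fun n hn g => ?_⟩
    rw [Subgroup.mem_subgroupOf] at hn ⊢
    have h1 := hZcent _ hn _ g.2
    have : ((g * n * g⁻¹ : D) : R) = n := by
      push_cast
      rw [h1, mul_assoc, mul_inv_cancel, mul_one]
    rw [this]
    exact hn
  have hn₂ : ((⊥ : Subgroup R).subgroupOf Z).Normal := inferInstance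
  -- the two sections are elementary abelian of order dividing p²
  have hZmem : ∀ c : R, c ∈ D → (∀ d ∈ D, d * c = c * d) → c ∈ Z := by
    intro c hc h
    rw [hZ]
    exact ⟨hc, Subgroup.mem_centralizer_iff.mpr h⟩
  have hZcomm : IsMulCommutative Z :=
    ⟨⟨fun a b => Subtype.ext (hZcent b.1 b.2 a.1 (hZD a.2))⟩⟩
  have hcomm₁ : ∀ a b : D ⧸ Z.subgroupOf D, a * b = b * a := by
    intro a b
    induction a using QuotientGroup.induction_on with
    | H a =>
    induction b using QuotientGroup.induction_on with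
    | H b =>
    rw [← QuotientGroup.mk_mul, ← QuotientGroup.mk_mul, QuotientGroup.eq, Subgroup.mem_subgroupOf]
    have e : (((a * b)⁻¹ * (b * a) : D) : R) = ⁅(b : R)⁻¹, (a : R)⁻¹⁆ := by
      push_cast
      rw [commutatorElement_def]
      group
    rw [e]
    apply hZmem
    · rw [commutatorElement_def]
      exact D.mul_mem (D.mul_mem (D.mul_mem (D.inv_mem b.2) (D.inv_mem a.2))
        (D.inv_mem (D.inv_mem b.2))) (D.inv_mem (D.inv_mem a.2))
    · intro d hd
      exact (hDcl _ (D.inv_mem b.2) _ (D.inv_mem a.2) d hd).symm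
  have hexp₁ : ∀ a : D ⧸ Z.subgroupOf D, a ^ p = 1 := by
    intro a
    induction a using QuotientGroup.induction_on with
    | H a =>
    rw [← QuotientGroup.mk_pow]
    have : a ^ p = 1 := Subtype.ext (by push_cast; exact hDexp a a.2)
    rw [this, QuotientGroup.mk_one]
  have hcard₁ : Nat.card (D ⧸ Z.subgroupOf D) ∣ p ^ 2 := by
    have h1 : Z.subgroupOf D = Subgroup.center D := by
      ext ⟨x, hx⟩
      rw [Subgroup.mem_subgroupOf, Subgroup.mem_center_iff]
      constructor
      · intro hxZ g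
        apply Subtype.ext
        push_cast
        exact hZcent x hxZ g g.2
      · intro h
        apply hZmem x hx
        intro d hd
        exact congrArg Subtype.val (h ⟨d, hd⟩)
    rw [← Subgroup.index_eq_card, h1]
    apply index_center_dvd_of_rank_two p (hR.to_subgroup D)
    · intro x
      exact Subtype.ext (by push_cast; exact hDexp x x.2)
    · intro x y z
      apply Subtype.ext
      push_cast
      exact hDcl x x.2 y y.2 z z.2
    · exact pRankLE_subgroup p hr D
  have hcomm₂ : ∀ a b : Z ⧸ (⊥ : Subgroup R).subgroupOf Z, a * b = b * a := by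
    intro a b
    induction a using QuotientGroup.induction_on with
    | H a =>
    induction b using QuotientGroup.induction_on with
    | H b =>
    rw [← QuotientGroup.mk_mul, ← QuotientGroup.mk_mul, hZcomm.is_comm.comm a b]
  have hexp₂ : ∀ a : Z ⧸ (⊥ : Subgroup R).subgroupOf Z, a ^ p = 1 := by
    intro a
    induction a using QuotientGroup.induction_on with
    | H a =>
    rw [← QuotientGroup.mk_pow]
    have : a ^ p = 1 := Subtype.ext (by push_cast; exact hDexp a (hZD a.2))
    rw [this, QuotientGroup.mk_one]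
  have hcard₂ : Nat.card (Z ⧸ (⊥ : Subgroup R).subgroupOf Z) ∣ p ^ 2 := by
    rw [← Subgroup.index_eq_card, Subgroup.bot_subgroupOf, Subgroup.index_bot]
    obtain ⟨a, ha⟩ := (hR.to_subgroup Z).exists_card_eq
    have hle : Nat.card Z ≤ p ^ 2 := hr Z hZcomm (fun z hz => hDexp z (hZD hz))
    rw [ha] at hle ⊢
    exact pow_dvd_pow p ((Nat.pow_le_pow_iff_right hpp.one_lt).mp hle)
  -- the two actions
  obtain ⟨ψ₁, hψ₁⟩ : ∃ ψ₁ : MulAut R →* MulAut (D ⧸ Z.subgroupOf D),
      ψ₁ = (secHom D Z).comp (toPres D Z hDinv hZinv) := ⟨_, rfl⟩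
  obtain ⟨ψ₂, hψ₂⟩ : ∃ ψ₂ : MulAut R →* MulAut (Z ⧸ (⊥ : Subgroup R).subgroupOf Z),
      ψ₂ = (secHom Z ⊥).comp (toPres Z ⊥ hZinv hbotinv) := ⟨_, rfl⟩
  have hK : ∀ γ : MulAut R, (orderOf γ).Coprime p → ψ₁ γ = 1 → ψ₂ γ = 1 → γ = 1 := by
    intro γ hγ h1 h2
    rw [hψ₁, MonoidHom.comp_apply, secHom_eq_one_iff] at h1
    rw [hψ₂, MonoidHom.comp_apply, secHom_eq_one_iff] at h2
    apply hDfaith γ hγ
    intro x hx
    have hu : x⁻¹ * γ x ∈ Z := h1 x hx
    have hu2 := h2 _ hu
    rw [Subgroup.mem_bot] at hu2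
    have hu3 : γ (x⁻¹ * γ x) = x⁻¹ * γ x := (inv_mul_eq_one.mp hu2).symm
    have h4 := Cfsg.Agent.Lib.Helper1.CritExtra.eq_one_of_fixed_of_coprime hR γ hγ x
      (x⁻¹ * γ x) (by group) hu3
    exact (inv_mul_eq_one.mp h4).symm
  have hfinAut : Finite (MulAut R) :=
    Finite.of_injective (fun α : MulAut R => (α : R → R)) DFunLike.coe_injective
  have hcomm_pow : ∀ β ∈ ⁅B, B⁆, (ψ₁ β) ^ p = 1 ∧ (ψ₂ β) ^ p = 1 := by
    intro β hβ
    constructor
    · have hodd₁ : Odd (Nat.card (B.map ψ₁)) := Odd.of_dvd_nat hodd (Subgroup.card_map_dvd B ψ₁)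
      apply commutator_pow_of_odd_elemAb p hp hcomm₁ hexp₁ hcard₁ (B.map ψ₁) hodd₁
      rw [← Subgroup.map_commutator]
      exact Subgroup.mem_map_of_mem _ hβ
    · have hodd₂ : Odd (Nat.card (B.map ψ₂)) := Odd.of_dvd_nat hodd (Subgroup.card_map_dvd B ψ₂)
      apply commutator_pow_of_odd_elemAb p hp hcomm₂ hexp₂ hcard₂ (B.map ψ₂) hodd₂
      rw [← Subgroup.map_commutator]
      exact Subgroup.mem_map_of_mem _ hβ
  refine ⟨?_, ?_⟩
  · intro β hβ
    obtain ⟨h1, h2⟩ := hcomm_pow β hβ
    obtain ⟨k, m, hm, hn⟩ := Nat.exists_eq_pow_mul_and_not_dvd (orderOf_pos β).ne' p hpp.ne_one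
    refine ⟨k, ?_⟩
    have hcop : Nat.Coprime m p := ((Nat.Prime.coprime_iff_not_dvd hpp).mpr hm).symm
    have hγm : (β ^ (p ^ k)) ^ m = 1 := by rw [← pow_mul, ← hn, pow_orderOf_eq_one]
    have hγcop : (orderOf (β ^ (p ^ k))).Coprime p :=
      Nat.Coprime.coprime_dvd_left (orderOf_dvd_of_pow_eq_one hγm) hcop
    have hone : ∀ {W : Type _} [Group W] (w : W), w ^ p = 1 → (w ^ (p ^ k)) ^ m = 1 →
        w ^ (p ^ k) = 1 := by
      intro W _ w hw1 hw2
      have h3 : (w ^ (p ^ k)) ^ p = 1 := by rw [← pow_mul, mul_comm, pow_mul, hw1, one_pow]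
      have h4 : orderOf (w ^ (p ^ k)) ∣ Nat.gcd m p :=
        Nat.dvd_gcd (orderOf_dvd_of_pow_eq_one hw2) (orderOf_dvd_of_pow_eq_one h3)
      rw [hcop] at h4
      exact orderOf_eq_one_iff.mp (Nat.dvd_one.mp h4)
    apply hK _ hγcop
    · rw [map_pow]
      apply hone _ h1
      rw [← map_pow, ← map_pow, hγm, map_one]
    · rw [map_pow]
      apply hone _ h2
      rw [← map_pow, ← map_pow, hγm, map_one]
  · intro q hq hqB
    by_contra hlt
    push Not at hlt
    have hqp : q ≠ p := hlt.ne'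
    have hfq : Fact q.Prime := ⟨hq⟩
    have hBfin : Finite B := inferInstance
    obtain ⟨b, hb⟩ := exists_prime_orderOf_dvd_card' q hqB
    have hβ : orderOf (b : MulAut R) = q := by rw [Subgroup.orderOf_coe, hb]
    have hcop : (orderOf (b : MulAut R)).Coprime p := by
      rw [hβ]; exact (Nat.coprime_primes hq hpp).mpr hqp
    have hqodd : Odd q := Odd.of_dvd_nat hodd hqB
    have hkey : ∀ {W : Type _} [Group W] [Finite W] (ψ : MulAut R →* W), ψ (b : MulAut R) ≠ 1 →
        Nat.card W ∣ p * (p - 1) ^ 2 * (p + 1) → False := by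
      intro W _ _ ψ hne hW
      have h1 : orderOf (ψ (b : MulAut R)) ∣ q := by
        rw [← hβ]; exact orderOf_map_dvd ψ _
      have h2 : orderOf (ψ (b : MulAut R)) = q := by
        rcases (Nat.dvd_prime hq).mp h1 with h | h
        · exact absurd (orderOf_eq_one_iff.mp h) hne
        · exact h
      have h3 : q ∣ Nat.card W := by rw [← h2]; exact orderOf_dvd_natCard _
      have h4 := h3.trans hW
      have := prime_le_of_dvd_card_GL2 hpp hp hq hqodd h4
      omega
    by_cases h1 : ψ₁ (b : MulAut R) = 1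
    · by_cases h2 : ψ₂ (b : MulAut R) = 1
      · have := hK _ hcop h1 h2
        rw [this, orderOf_one] at hβ
        exact hq.one_lt.ne hβ
      · exact hkey ψ₂ h2 (card_mulAut_dvd_of_elemAb p hcomm₂ hexp₂ hcard₂)
    · exact hkey ψ₁ h1 (card_mulAut_dvd_of_elemAb p hcomm₁ hexp₁ hcard₁)

end Main

end Cfsg.Agent.Lib.Helper17
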