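/-
Helper lemmas (helper17) for S3754: in a `p`-soluble group `M`, a `p`-subgroup `A` with `Φ(A) ≤ O_p(M)`,
`A ≰ O_p(M)`: the subgroup `L = ⟨A, A^x⟩` for suitable `x ∈ O_{p,p'}(M)`.
-/
import Mathlib
import Cfsg.Prelude.Def_Transfer
import Cfsg.Prelude.Def_Local
import Cfsg.Prelude.Def_Solvable
import Cfsg.Prelude.Def_CaseTheorems
import Cfsg.Agent.Lib.Helper1.Fitting
import Cfsg.Agent.Lib.Helper1.PGroup
import Cfsg.Agent.Lib.Helper1.Commutator
import Cfsg.Agent.Lib.Helper8.Hyperplane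
import Cfsg.Agent.Lib.Helper8.DualHH
import Cfsg.Agent.Lib.Helper8.PResidual
import Cfsg.Agent.Lib.Helper24.PSolvable
import Cfsg.Agent.Lib.Helper21.Primary
import Cfsg.Agent.Lib.Helper17.Card

set_option autoImplicit false
open scoped commutatorElement

namespace Cfsg.Agent.Lib.Helper17

open Subgroup

/-- An element of `p`-power order in a subgroup of order prime to `p` is trivial. -/
theorem eq_one_of_orderOf_dvd_pow_of_mem_coprime {H : Type*} [Group H] [Finite H] {p : ℕ}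
    {R : Subgroup H} (hR : (Nat.card R).Coprime p)
    {g : H} {k : ℕ} (h1 : orderOf g ∣ p ^ k) (hgR : g ∈ R) : g = 1 := by
  have h2 : orderOf g ∣ Nat.card R := Subgroup.orderOf_dvd_natCard R hgR
  have h3 : (orderOf g).Coprime (orderOf g) :=
    Nat.Coprime.coprime_dvd_left h2 (Nat.Coprime.coprime_dvd_right h1 (Nat.Coprime.pow_right k hR))
  rw [Nat.coprime_self] at h3
  exact orderOf_eq_one_iff.mp h3

/-- An element lying both in a `p`-subgroup and in a subgroup of order prime to `p` is trivial. -/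
theorem eq_one_of_mem_isPGroup_of_mem_coprime {H : Type*} [Group H] [Finite H] {p : ℕ}
    {P R : Subgroup H} (hP : IsPGroup p P) (hR : (Nat.card R).Coprime p)
    {g : H} (hgP : g ∈ P) (hgR : g ∈ R) : g = 1 := by
  obtain ⟨k, hk⟩ := hP ⟨g, hgP⟩
  have hk' : g ^ (p ^ k) = 1 := by
    have := congrArg Subtype.val hk
    simpa using this
  exact eq_one_of_orderOf_dvd_pow_of_mem_coprime hR (orderOf_dvd_of_pow_eq_one hk') hgR

/-- If `y` lies in a `p'`-subgroup `R` normalized by the `p`-subgroup `A` and `⟨A, A^y⟩` is a `p`-group,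
then `y` centralizes `A`. -/
theorem mem_centralizer_of_isPGroup_sup_conj {H : Type*} [Group H] [Finite H] {p : ℕ}
    [hp : Fact p.Prime] (A R : Subgroup H) (hAR : A ≤ normalizer (R : Set H))
    (hR : (Nat.card R).Coprime p) (y : H) (hy : y ∈ R)
    (hP : IsPGroup p ↥(A ⊔ A.map (MulAut.conj y).toMonoidHom)) :
    y ∈ centralizer (A : Set H) := by
  rw [Subgroup.mem_centralizer_iff]
  intro a ha
  have h1 : a⁻¹ * (y * a * y⁻¹) ∈ A ⊔ A.map (MulAut.conj y).toMonoidHom := by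
    refine Subgroup.mul_mem _ (Subgroup.inv_mem _ (le_sup_left (a := A) ha)) ?_
    exact (le_sup_right : A.map (MulAut.conj y).toMonoidHom ≤ _) ⟨a, ha, by simp [MulAut.conj_apply]⟩
  have h2 : a⁻¹ * (y * a * y⁻¹) ∈ R := by
    have hn : a⁻¹ ∈ normalizer (R : Set H) := hAR (A.inv_mem ha)
    have h3 : a⁻¹ * y * a⁻¹⁻¹ ∈ R := (Subgroup.mem_normalizer_iff.mp hn y).mp hy
    have : a⁻¹ * (y * a * y⁻¹) = (a⁻¹ * y * a⁻¹⁻¹) * y⁻¹ := by group
    rw [this]
    exact R.mul_mem h3 (R.inv_mem hy)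
  have h3 := eq_one_of_mem_isPGroup_of_mem_coprime hP hR h1 h2
  have h4 : y * a * y⁻¹ = a := by
    have : y * a * y⁻¹ = a * (a⁻¹ * (y * a * y⁻¹)) := by group
    rw [this, h3, mul_one]
  calc a * y = (y * a * y⁻¹) * y := by rw [h4]
    _ = y * a := by group

/-- Existence of a hyperplane `B` of the elementary abelian `p`-group `A` and `y ∈ C_R(B)` with `⟨A, A^y⟩`
not a `p`-group, when `A` acts nontrivially on the `p'`-group `R`. -/
theorem exists_hyperplane_conj_not_isPGroup {H : Type*} [Group H] [Finite H] {p : ℕ}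
    [hp : Fact p.Prime] (A R : Subgroup H) (hA : Cfsg.IsElementaryAbelian p A)
    (hAR : A ≤ normalizer (R : Set H)) (hR : (Nat.card R).Coprime p)
    (hnc : ¬ R ≤ centralizer (A : Set H)) :
    ∃ B : Subgroup H, B ≤ A ∧ B.relIndex A = p ∧ ∃ y ∈ R, y ∈ centralizer (B : Set H) ∧
      ¬ IsPGroup p ↥(A ⊔ A.map (MulAut.conj y).toMonoidHom) := by
  have hA1 : A ≠ ⊥ := by
    rintro rfl
    apply hnc
    intro r _
    rw [Subgroup.mem_centralizer_iff]
    intro a ha
    rw [Subgroup.coe_bot, Set.mem_singleton_iff] at ha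
    subst ha; simp
  have hAp : IsPGroup p A := by
    rintro ⟨g, hg⟩
    exact ⟨1, Subtype.ext (by simpa using hA.2 g hg)⟩
  have hcop : (Nat.card A).Coprime (Nat.card R) := by
    obtain ⟨k, hk⟩ := IsPGroup.iff_card.mp hAp
    rw [hk]
    exact (Nat.Coprime.pow_right k hR).symm
  obtain ⟨B, hBA, hBi, hBn⟩ := Cfsg.Agent.Lib.Helper8.exists_index_p_centralizer_not_le p A R
    (centralizer (A : Set H)) hA hA1 hAR hcop hnc
  refine ⟨B, hBA, hBi, ?_⟩
  rw [SetLike.not_le_iff_exists] at hBn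
  obtain ⟨y, hy, hyn⟩ := hBn
  rw [Subgroup.mem_inf] at hy
  refine ⟨y, hy.1, hy.2, ?_⟩
  intro hP
  exact hyn (mem_centralizer_of_isPGroup_sup_conj A R hAR hR y hy.1 hP)


section Main

variable {M : Type*} [Group M] [Finite M] {p : ℕ} [hp : Fact p.Prime]

/-- `O_{p,p'}(M)`. -/
def oppSub (p : ℕ) (M : Type*) [Group M] : Subgroup M :=
  (Cfsg.pPrimeCore p (M ⧸ Cfsg.pCore p M)).comap (QuotientGroup.mk' (Cfsg.pCore p M))

instance oppSub_normal : (oppSub p M).Normal := by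
  haveI : (Cfsg.pPrimeCore p (M ⧸ Cfsg.pCore p M)).Normal :=
    Cfsg.Agent.Lib.Helper24.pPrimeCore_normal' p
  unfold oppSub
  infer_instance

theorem pCore_quot_eq_bot : Cfsg.pCore p (M ⧸ Cfsg.pCore p M) = ⊥ := by
  set O := Cfsg.pCore p M with hO
  set Nb := Cfsg.pCore p (M ⧸ O) with hNb
  haveI : Nb.Normal := Cfsg.Agent.Lib.Helper1.pCore_normal p _
  have hN : Nb.comap (QuotientGroup.mk' O) ≤ O := by
    apply Cfsg.Agent.Lib.Helper1.le_pCore
    · infer_instance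
    · intro ⟨g, hg⟩
      obtain ⟨k, hk⟩ := (Cfsg.Agent.Lib.Helper1.pCore_isPGroup p (M ⧸ O)) ⟨QuotientGroup.mk' O g, hg⟩
      have hk' : (QuotientGroup.mk' O g) ^ (p ^ k) = 1 := by
        have := congrArg Subtype.val hk
        simpa using this
      rw [← map_pow, QuotientGroup.mk'_apply, QuotientGroup.eq_one_iff] at hk'
      obtain ⟨m, hm⟩ := (Cfsg.Agent.Lib.Helper1.pCore_isPGroup p M) ⟨g ^ (p ^ k), hk'⟩
      have hm' : (g ^ (p ^ k)) ^ (p ^ m) = 1 := by
        have := congrArg Subtype.val hm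
        simpa using this
      refine ⟨k + m, Subtype.ext ?_⟩
      simp only [Subgroup.coe_pow, Subgroup.coe_one]
      rw [pow_add, pow_mul]
      exact hm'
  rw [eq_bot_iff]
  intro x hx
  obtain ⟨y, rfl⟩ := QuotientGroup.mk'_surjective O x
  have : y ∈ O := hN hx
  rw [Subgroup.mem_bot]
  exact (QuotientGroup.eq_one_iff y).mpr this

/-- A subgroup whose image modulo `O_p(M)` is a `p`-group is a `p`-group. -/
theorem isPGroup_of_map_mk (L : Subgroup M)
    (h : IsPGroup p ↥(L.map (QuotientGroup.mk' (Cfsg.pCore p M)))) : IsPGroup p L := by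
  intro ⟨g, hg⟩
  obtain ⟨k, hk⟩ := h ⟨QuotientGroup.mk' _ g, Subgroup.mem_map_of_mem _ hg⟩
  have hk' : (QuotientGroup.mk' (Cfsg.pCore p M) g) ^ (p ^ k) = 1 := by
    have := congrArg Subtype.val hk
    simpa using this
  rw [← map_pow, QuotientGroup.mk'_apply, QuotientGroup.eq_one_iff] at hk'
  obtain ⟨m, hm⟩ := (Cfsg.Agent.Lib.Helper1.pCore_isPGroup p M) ⟨g ^ (p ^ k), hk'⟩
  have hm' : (g ^ (p ^ k)) ^ (p ^ m) = 1 := by
    have := congrArg Subtype.val hm
    simpa using this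
  refine ⟨k + m, Subtype.ext ?_⟩
  simp only [Subgroup.coe_pow, Subgroup.coe_one]
  rw [pow_add, pow_mul]
  exact hm'

theorem map_sup_conj {M' : Type*} [Group M'] (f : M →* M') (A : Subgroup M) (x : M) :
    (A ⊔ A.map (MulAut.conj x).toMonoidHom).map f =
      A.map f ⊔ (A.map f).map (MulAut.conj (f x)).toMonoidHom := by
  rw [Subgroup.map_sup, Subgroup.map_map, Subgroup.map_map]
  congr 2
  ext a
  simp [MulAut.conj_apply]


/-- If the `p`-group `A` normalizes `C`, then every `p'`-element of `A ⊔ C` lies in `C`. -/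
theorem mem_of_mem_sup_of_coprime (A C : Subgroup M) (hA : IsPGroup p A)
    (hAC : A ≤ normalizer (C : Set M)) {l : M} (hl : l ∈ A ⊔ C) (hcop : (orderOf l).Coprime p) :
    l ∈ C := by
  rw [sup_comm] at hl
  obtain ⟨c, hc, a, ha, rfl⟩ := Cfsg.Agent.Lib.Helper8.mem_sup_of_le_normalizer hAC hl
  have key : ∀ k : ℕ, ∃ c' ∈ C, (c * a) ^ k = c' * a ^ k := by
    intro k
    induction k with
    | zero => exact ⟨1, C.one_mem, by simp⟩
    | succ k ih =>
      obtain ⟨c', hc', hk⟩ := ih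
      refine ⟨c' * (a ^ k * c * (a ^ k)⁻¹), C.mul_mem hc' ?_, ?_⟩
      · exact (Subgroup.mem_normalizer_iff.mp (hAC (A.pow_mem ha k)) c).mp hc
      · rw [pow_succ, hk, pow_succ]; group
  obtain ⟨m, hm⟩ := hA ⟨a, ha⟩
  have hm' : a ^ (p ^ m) = 1 := by
    have := congrArg Subtype.val hm
    simpa using this
  obtain ⟨c', hc', hk⟩ := key (p ^ m)
  rw [hm', mul_one] at hk
  apply Cfsg.Agent.Lib.Helper21.mem_of_pow_mem_of_coprime C (c * a) (p ^ m) (orderOf (c * a))
  · exact (Nat.Coprime.pow_right m hcop).symm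
  · rw [hk]; exact hc'
  · rw [pow_orderOf_eq_one]; exact C.one_mem

/-- The image of `A` modulo `O_p(M)` is elementary abelian when `Φ(A) ≤ O_p(M)`. -/
theorem isElementaryAbelian_map_mk (A : Subgroup M) (hA : IsPGroup p A)
    (hΦ : (frattini ↥A).map A.subtype ≤ Cfsg.pCore p M) :
    Cfsg.IsElementaryAbelian p (A.map (QuotientGroup.mk' (Cfsg.pCore p M))) := by
  have hcomm : ∀ a ∈ A, ∀ b ∈ A, ⁅a, b⁆ ∈ Cfsg.pCore p M := by
    intro a ha b hb
    apply hΦ
    refine ⟨⁅(⟨a, ha⟩ : A), ⟨b, hb⟩⁆, ?_, rfl⟩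
    apply Cfsg.Agent.Lib.Helper1.IsPGroup.commutator_le_frattini hA
    exact Subgroup.commutator_mem_commutator (Subgroup.mem_top _) (Subgroup.mem_top _)
  have hpow : ∀ a ∈ A, a ^ p ∈ Cfsg.pCore p M := by
    intro a ha
    apply hΦ
    exact ⟨(⟨a, ha⟩ : A) ^ p, Cfsg.Agent.Lib.Helper1.IsPGroup.pow_mem_frattini hA _, rfl⟩
  refine ⟨⟨⟨?_⟩⟩, ?_⟩
  · rintro ⟨_, a, ha, rfl⟩ ⟨_, b, hb, rfl⟩
    apply Subtype.ext
    show QuotientGroup.mk' _ a * QuotientGroup.mk' _ b = QuotientGroup.mk' _ b * QuotientGroup.mk' _ a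
    have h1 : QuotientGroup.mk' (Cfsg.pCore p M) ⁅a, b⁆ = 1 :=
      (QuotientGroup.eq_one_iff _).mpr (hcomm a ha b hb)
    rw [map_commutatorElement, commutatorElement_eq_one_iff_mul_comm] at h1
    exact h1
  · rintro _ ⟨a, ha, rfl⟩
    rw [← map_pow]
    exact (QuotientGroup.eq_one_iff _).mpr (hpow a ha)

theorem sup_conj_le_sup_normal (A N : Subgroup M) [N.Normal] {x : M} (hx : x ∈ N) :
    A ⊔ A.map (MulAut.conj x).toMonoidHom ≤ A ⊔ N := by
  refine sup_le le_sup_left ?_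
  rintro _ ⟨a, ha, rfl⟩
  have : (MulAut.conj x).toMonoidHom a = a * (a⁻¹ * x * a⁻¹⁻¹ * x⁻¹) := by
    simp [MulAut.conj_apply]; group
  rw [this]
  refine Subgroup.mul_mem _ (le_sup_left (a := A) ha) (le_sup_right (a := A) ?_)
  exact N.mul_mem (‹N.Normal›.conj_mem x hx a⁻¹) (N.inv_mem hx)


theorem pPrimeCore_quot_coprime :
    (Nat.card ↥(Cfsg.pPrimeCore p (M ⧸ Cfsg.pCore p M))).Coprime p :=
  Cfsg.Agent.Lib.Helper12.pPrimeCore_coprime p

theorem centralizer_pPrimeCore_quot_le (hM : Cfsg.IsPSolvable p M) :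
    centralizer ((Cfsg.pPrimeCore p (M ⧸ Cfsg.pCore p M) : Subgroup (M ⧸ Cfsg.pCore p M)) : Set _) ≤
      Cfsg.pPrimeCore p (M ⧸ Cfsg.pCore p M) := by
  apply Cfsg.Agent.Lib.Helper8.DualHH.centralizer_pPrimeCore_le p
  · exact Cfsg.Agent.Lib.Helper24.isPSolvable_of_surjective p (QuotientGroup.mk' (Cfsg.pCore p M))
      (QuotientGroup.mk'_surjective _) hM
  · exact pCore_quot_eq_bot

/-- Existence: some `x ∈ O_{p,p'}(M)` with `⟨A, A^x⟩` not a `p`-group. -/
theorem exists_conj_not_isPGroup (hM : Cfsg.IsPSolvable p M) (A : Subgroup M) (hA : IsPGroup p A)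
    (hΦ : (frattini ↥A).map A.subtype ≤ Cfsg.pCore p M) (hnot : ¬ A ≤ Cfsg.pCore p M) :
    ∃ x ∈ oppSub p M, ¬ IsPGroup p ↥(A ⊔ A.map (MulAut.conj x).toMonoidHom) := by
  set Q := Cfsg.pCore p M with hQ
  set π := QuotientGroup.mk' Q with hπ
  set Kb := Cfsg.pPrimeCore p (M ⧸ Q) with hKb
  haveI hKbn : Kb.Normal := Cfsg.Agent.Lib.Helper24.pPrimeCore_normal' p
  have hKbc : (Nat.card Kb).Coprime p := pPrimeCore_quot_coprime
  have hAb := isElementaryAbelian_map_mk A hA hΦ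
  have hAbp : IsPGroup p ↥(A.map π) := hA.map π
  have hnc : ¬ Kb ≤ centralizer ((A.map π : Subgroup (M ⧸ Q)) : Set (M ⧸ Q)) := by
    intro hc
    apply hnot
    intro a ha
    have h1 : π a ∈ A.map π := Subgroup.mem_map_of_mem _ ha
    have h2 : π a ∈ Kb := by
      apply centralizer_pPrimeCore_quot_le hM
      exact (Subgroup.le_centralizer_iff.mp hc) h1
    have h3 := eq_one_of_mem_isPGroup_of_mem_coprime hAbp hKbc h1 h2
    exact (QuotientGroup.eq_one_iff a).mp h3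
  obtain ⟨B, _, _, yb, hyb, _, hnp⟩ := exists_hyperplane_conj_not_isPGroup (A.map π) Kb hAb
    (by rw [Subgroup.normalizer_eq_top]; exact le_top) hKbc hnc
  obtain ⟨x, rfl⟩ := QuotientGroup.mk'_surjective Q yb
  refine ⟨x, hyb, ?_⟩
  intro hP
  apply hnp
  have := hP.map π
  rwa [map_sup_conj] at this


/-- Key step: if `L = ⟨A, A^x⟩` (`x ∈ O_{p,p'}(M)`) is not a `p`-group, there are a hyperplane `B` of `A`
(modulo `O_p(M)`) and `y ∈ O^p(L) ∩ O_{p,p'}(M)` centralizing `B` modulo `O_p(M)` with `⟨A, A^y⟩` not a `p`-group. -/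
theorem exists_good_conj (A : Subgroup M) (hA : IsPGroup p A)
    (hΦ : (frattini ↥A).map A.subtype ≤ Cfsg.pCore p M) (x : M) (hx : x ∈ oppSub p M)
    (hL : ¬ IsPGroup p ↥(A ⊔ A.map (MulAut.conj x).toMonoidHom)) :
    ∃ B : Subgroup M, B ≤ A ∧ B.relIndex A = p ∧
      ∃ y ∈ (Cfsg.pResidual p ↥(A ⊔ A.map (MulAut.conj x).toMonoidHom)).map
          (A ⊔ A.map (MulAut.conj x).toMonoidHom).subtype,
        y ∈ oppSub p M ∧ (∀ b ∈ B, ⁅b, y⁆ ∈ Cfsg.pCore p M) ∧
          ¬ IsPGroup p ↥(A ⊔ A.map (MulAut.conj y).toMonoidHom) := by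
  set Q := Cfsg.pCore p M with hQ
  set π := QuotientGroup.mk' Q with hπ
  set Kb := Cfsg.pPrimeCore p (M ⧸ Q) with hKb
  set N := oppSub p M with hN
  set L := A ⊔ A.map (MulAut.conj x).toMonoidHom with hLdef
  haveI hKbn : Kb.Normal := Cfsg.Agent.Lib.Helper24.pPrimeCore_normal' p
  have hKbc : (Nat.card Kb).Coprime p := pPrimeCore_quot_coprime
  have hAb := isElementaryAbelian_map_mk A hA hΦ
  have hAbp : IsPGroup p ↥(A.map π) := hA.map π
  have hAL : A ≤ L := le_sup_left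
  have hLAN : L ≤ A ⊔ N := sup_conj_le_sup_normal A N hx
  set Rb := (L ⊓ N).map π with hRb
  have hRbK : Rb ≤ Kb := by
    rintro _ ⟨g, hg, rfl⟩
    exact (Subgroup.mem_inf.mp hg).2
  have hRbc : (Nat.card Rb).Coprime p :=
    Nat.Coprime.coprime_dvd_left (Subgroup.card_dvd_of_le hRbK) hKbc
  have hAn : A ≤ normalizer ((L ⊓ N : Subgroup M) : Set M) := by
    refine le_trans ?_ (Subgroup.inf_normalizer_le_normalizer_inf)
    refine le_inf (hAL.trans Subgroup.le_normalizer) ?_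
    rw [Subgroup.normalizer_eq_top]; exact le_top
  have hAbn : A.map π ≤ normalizer (Rb : Set (M ⧸ Q)) :=
    (Subgroup.map_mono hAn).trans (Subgroup.le_normalizer_map π)
  have hLb : L.map π ≤ A.map π ⊔ Rb := by
    rintro _ ⟨l, hl, rfl⟩
    obtain ⟨n, hn, a, ha, rfl⟩ := Cfsg.Agent.Lib.Helper8.mem_sup_of_le_normalizer
      (X := N) (Y := A) (by rw [Subgroup.normalizer_eq_top]; exact le_top)
      (by rw [sup_comm]; exact hLAN hl)
    rw [map_mul]
    have hnL : n ∈ L := by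
      have : n = (n * a) * a⁻¹ := by group
      rw [this]
      exact L.mul_mem hl (L.inv_mem (hAL ha))
    rw [sup_comm]
    exact Subgroup.mul_mem_sup (Subgroup.mem_map_of_mem _ (Subgroup.mem_inf.mpr ⟨hnL, hn⟩))
      (Subgroup.mem_map_of_mem _ ha)
  have hnc : ¬ Rb ≤ centralizer ((A.map π : Subgroup (M ⧸ Q)) : Set (M ⧸ Q)) := by
    intro hc
    apply hL
    apply isPGroup_of_map_mk
    rw [hLdef, map_sup_conj]
    apply IsPGroup.to_sup_of_normal_left' hAbp (hAbp.map _)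
    have h1 : L.map π ≤ normalizer ((A.map π : Subgroup (M ⧸ Q)) : Set (M ⧸ Q)) := by
      refine hLb.trans (sup_le Subgroup.le_normalizer ?_)
      exact hc.trans (Subgroup.centralizer_le_normalizer _)
    refine le_trans ?_ h1
    rw [hLdef, map_sup_conj]
    exact le_sup_right
  obtain ⟨Bb, hBbA, hBbi, yb, hyb, hybc, hnp⟩ :=
    exists_hyperplane_conj_not_isPGroup (A.map π) Rb hAb hAbn hRbc hnc
  obtain ⟨y₀, hy₀, rfl⟩ := hyb
  obtain ⟨hy₀L, hy₀N⟩ := Subgroup.mem_inf.mp hy₀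
  obtain ⟨i, j, hdec, ⟨k, hk⟩, hcop⟩ := Cfsg.Agent.Lib.Helper8.exists_p_pprime_decomp p y₀
  have hπi : π (y₀ ^ i) = 1 := by
    have h1 : π (y₀ ^ i) ∈ Kb := by
      have : y₀ ^ i ∈ N := N.zpow_mem hy₀N i
      exact this
    have h2 : orderOf (π (y₀ ^ i)) ∣ p ^ k := hk ▸ orderOf_map_dvd π (y₀ ^ i)
    exact eq_one_of_orderOf_dvd_pow_of_mem_coprime hKbc h2 h1
  set y := y₀ ^ j with hy
  have hyL : y ∈ L := L.zpow_mem hy₀L j
  have hyN : y ∈ N := N.zpow_mem hy₀N j
  have hπy : π y = π y₀ := by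
    conv_rhs => rw [hdec, map_mul, hπi, one_mul]
  have hyR : y ∈ (Cfsg.pResidual p ↥L).map L.subtype := by
    refine ⟨⟨y, hyL⟩, Subgroup.subset_closure ?_, rfl⟩
    show (orderOf (⟨y, hyL⟩ : L)).Coprime p
    rw [Subgroup.orderOf_mk]
    exact hcop
  refine ⟨A ⊓ Bb.comap π, inf_le_left, ?_, y, hyR, hyN, ?_, ?_⟩
  · rw [Subgroup.inf_relIndex_left, Subgroup.relIndex_comap]
    exact hBbi
  · intro b hb
    obtain ⟨hbA, hbB⟩ := Subgroup.mem_inf.mp hb
    rw [Subgroup.mem_comap] at hbB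
    rw [← QuotientGroup.eq_one_iff]
    show π ⁅b, y⁆ = 1
    rw [map_commutatorElement, hπy, commutatorElement_eq_one_iff_mul_comm]
    exact (Subgroup.mem_centralizer_iff.mp hybc (π b) hbB)
  · intro hP
    apply hnp
    have := hP.map π
    rwa [map_sup_conj, hπy] at this


theorem le_normalizer_map_subtype_of_normal (L : Subgroup M) (C : Subgroup L) [C.Normal] :
    L ≤ normalizer ((C.map L.subtype : Subgroup M) : Set M) := by
  have h := Subgroup.le_normalizer_map (H := C) L.subtype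
  rw [Subgroup.normalizer_eq_top, ← MonoidHom.range_eq_map, Subgroup.range_subtype] at h
  exact h

theorem pResidual_map_le_of_forall (L C : Subgroup M)
    (h : ∀ g ∈ L, (orderOf g).Coprime p → g ∈ C) :
    (Cfsg.pResidual p ↥L).map L.subtype ≤ C := by
  unfold Cfsg.pResidual
  rw [MonoidHom.map_closure, Subgroup.closure_le]
  rintro _ ⟨g, hg, rfl⟩
  have hg' : (orderOf g).Coprime p := hg
  rw [← Subgroup.orderOf_coe] at hg'
  exact h _ g.2 hg'

/-- The remaining conclusions, once `y` and `B` are found with `L = ⟨A, A^y⟩`. -/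
theorem two_conj_aux (A L : Subgroup M) (hA : IsPGroup p A)
    (hΦ : (frattini ↥A).map A.subtype ≤ Cfsg.pCore p M)
    (B : Subgroup M) (hBA : B ≤ A) (hBi : B.relIndex A = p) (y : M)
    (hLy : L = A ⊔ A.map (MulAut.conj y).toMonoidHom)
    (hyR : y ∈ (Cfsg.pResidual p ↥L).map L.subtype) (hyN : y ∈ oppSub p M)
    (hBy : ∀ b ∈ B, ⁅b, y⁆ ∈ Cfsg.pCore p M) (hLP : ¬ IsPGroup p ↥L) :
    (Cfsg.pResidual p ↥L).map L.subtype ≤ oppSub p M ∧
    ⁅(Cfsg.pResidual p ↥L).map L.subtype, A⁆ = (Cfsg.pResidual p ↥L).map L.subtype ∧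
    (A ⊓ (Cfsg.pCore p ↥L).map L.subtype).relIndex A = p ∧
    ⁅A ⊓ (Cfsg.pCore p ↥L).map L.subtype, L⁆ ≤ Cfsg.pCore p M := by
  have hp' : p.Prime := hp.out
  set Q := Cfsg.pCore p M with hQ
  set π := QuotientGroup.mk' Q with hπ
  set N := oppSub p M with hN
  set R := (Cfsg.pResidual p ↥L).map L.subtype with hR
  set O := (Cfsg.pCore p ↥L).map L.subtype with hO
  have hAL : A ≤ L := hLy ▸ le_sup_left
  have hRL : R ≤ L := Subgroup.map_subtype_le _
  have hOL : O ≤ L := Subgroup.map_subtype_le _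
  have hyL : y ∈ L := hRL hyR
  haveI : (Cfsg.pResidual p ↥L).Normal := Cfsg.Agent.Lib.Helper8.pResidual_normal p _
  haveI : (Cfsg.pCore p ↥L).Normal := Cfsg.Agent.Lib.Helper1.pCore_normal p _
  have hLnR : L ≤ normalizer (R : Set M) := le_normalizer_map_subtype_of_normal L _
  have hLnO : L ≤ normalizer (O : Set M) := le_normalizer_map_subtype_of_normal L _
  have hOp : IsPGroup p O := (Cfsg.Agent.Lib.Helper1.pCore_isPGroup p ↥L).map _
  have hLAN : L ≤ A ⊔ N := hLy ▸ sup_conj_le_sup_normal A N hyN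
  -- (i)
  have h1 : R ≤ N := by
    apply pResidual_map_le_of_forall
    intro g hg hcop
    exact mem_of_mem_sup_of_coprime A N hA (by rw [Subgroup.normalizer_eq_top]; exact le_top)
      (hLAN hg) hcop
  -- (iii)
  have hAnC : A ≤ normalizer ((⁅R, A⁆ : Subgroup M) : Set M) :=
    Cfsg.Agent.Lib.Helper1.le_normalizer_commutator_right R A
  have hLAC : L ≤ A ⊔ ⁅R, A⁆ := by
    rw [hLy]
    refine sup_le le_sup_left ?_
    rintro _ ⟨a, ha, rfl⟩
    have : (MulAut.conj y).toMonoidHom a = ⁅y, a⁆ * a := by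
      simp [MulAut.conj_apply, commutatorElement_def]
    rw [this]
    exact Subgroup.mul_mem _
      (le_sup_right (a := A) (Subgroup.commutator_mem_commutator hyR ha)) (le_sup_left (a := A) ha)
  have h3 : ⁅R, A⁆ = R := by
    apply le_antisymm
    · exact Cfsg.Agent.Lib.Helper1.commutator_le_of_le_normalizer (hAL.trans hLnR)
    · apply pResidual_map_le_of_forall
      intro g hg hcop
      exact mem_of_mem_sup_of_coprime A _ hA hAnC (hLAC hg) hcop
  -- (iv)
  have hAb := isElementaryAbelian_map_mk A hA hΦ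
  set Z := (centralizer ((B.map π : Subgroup (M ⧸ Q)) : Set (M ⧸ Q))).comap π with hZ
  have hAZ : A ≤ Z := by
    intro a ha
    rw [hZ, Subgroup.mem_comap, Subgroup.mem_centralizer_iff]
    rintro _ ⟨b, hb, rfl⟩
    exact Cfsg.Agent.Lib.Helper8.elemAb_comm hAb (Subgroup.mem_map_of_mem _ (hBA hb))
      (Subgroup.mem_map_of_mem _ ha)
  have hyZ : y ∈ Z := by
    rw [hZ, Subgroup.mem_comap, Subgroup.mem_centralizer_iff]
    rintro _ ⟨b, hb, rfl⟩
    have : π ⁅b, y⁆ = 1 := (QuotientGroup.eq_one_iff _).mpr (hBy b hb)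
    rw [map_commutatorElement, commutatorElement_eq_one_iff_mul_comm] at this
    exact this
  have hLZ : L ≤ Z := by
    rw [hLy]
    refine sup_le hAZ ?_
    rintro _ ⟨a, ha, rfl⟩
    have : (MulAut.conj y).toMonoidHom a = y * a * y⁻¹ := by simp [MulAut.conj_apply]
    rw [this]
    exact Z.mul_mem (Z.mul_mem hyZ (hAZ ha)) (Z.inv_mem hyZ)
  have hZQ : ∀ l ∈ L, ∀ b ∈ B, ⁅b, l⁆ ∈ Q := by
    intro l hl b hb
    have h := hLZ hl
    rw [hZ, Subgroup.mem_comap, Subgroup.mem_centralizer_iff] at h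
    have h' := h (π b) (Subgroup.mem_map_of_mem _ hb)
    rw [← QuotientGroup.eq_one_iff]
    show π ⁅b, l⁆ = 1
    rw [map_commutatorElement, commutatorElement_eq_one_iff_mul_comm]
    exact h'
  -- (v)
  have hBL : B ≤ L := hBA.trans hAL
  have hQp : IsPGroup p Q := Cfsg.Agent.Lib.Helper1.pCore_isPGroup p M
  set P := B ⊔ (L ⊓ Q) with hP
  have hPL : P ≤ L := sup_le hBL inf_le_left
  have hLnLQ : L ≤ normalizer ((L ⊓ Q : Subgroup M) : Set M) := by
    refine le_trans ?_ (Subgroup.inf_normalizer_le_normalizer_inf)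
    refine le_inf Subgroup.le_normalizer ?_
    rw [Subgroup.normalizer_eq_top]; exact le_top
  have hPp : IsPGroup p P :=
    IsPGroup.to_sup_of_normal_right' (hA.to_le hBA) (hQp.to_le inf_le_right) (hBL.trans hLnLQ)
  have hLnP : L ≤ normalizer (P : Set M) := by
    intro l hl
    apply Cfsg.Agent.Lib.Helper1.mem_normalizer_of_forall_conj_mem
    have hmap : P.map (MulAut.conj l).toMonoidHom ≤ P := by
      rw [hP, Subgroup.map_sup]
      refine sup_le ?_ ?_
      · rintro _ ⟨b, hb, rfl⟩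
        have : (MulAut.conj l).toMonoidHom b = ⁅b, l⁆⁻¹ * b := by
          simp [MulAut.conj_apply, commutatorElement_def]; group
        rw [this]
        refine Subgroup.mul_mem _ (le_sup_right (a := B) ?_) (le_sup_left (a := B) hb)
        refine Subgroup.inv_mem _ (Subgroup.mem_inf.mpr ⟨?_, hZQ l hl b hb⟩)
        rw [commutatorElement_def]
        exact L.mul_mem (L.mul_mem (L.mul_mem (hBL hb) hl) (L.inv_mem (hBL hb))) (L.inv_mem hl)
      · rintro _ ⟨g, hg, rfl⟩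
        have : (MulAut.conj l).toMonoidHom g = l * g * l⁻¹ := by simp [MulAut.conj_apply]
        rw [this]
        exact le_sup_right (a := B) ((Subgroup.mem_normalizer_iff.mp (hLnLQ hl) g).mp hg)
    intro x hx
    have := hmap ⟨x, hx, rfl⟩
    simpa [MulAut.conj_apply] using this
  have hPO : P ≤ O := by
    haveI : (P.subgroupOf L).Normal :=
      (Subgroup.normal_subgroupOf_iff_le_normalizer hPL).mpr hLnP
    have h := Cfsg.Agent.Lib.Helper1.le_pCore (p := p) (N := P.subgroupOf L) inferInstance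
      (hPp.comap_subtype)
    have h' := Subgroup.map_mono (f := L.subtype) h
    rwa [Subgroup.map_subgroupOf_eq_of_le hPL] at h'
  have hBO : B ≤ A ⊓ O := le_inf hBA (le_sup_left.trans hPO)
  -- (vi)
  have h4 : (A ⊓ O).relIndex A = p := by
    have hdvd : (A ⊓ O).relIndex A ∣ p := hBi ▸ Subgroup.relIndex_dvd_of_le_left A hBO
    rcases (Nat.dvd_prime hp').mp hdvd with h | h
    · exfalso
      rw [Subgroup.relIndex_eq_one] at h
      have hAO : A ≤ O := h.trans inf_le_right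
      apply hLP
      apply hOp.to_le
      rw [hLy]
      refine sup_le hAO ?_
      rintro _ ⟨a, ha, rfl⟩
      have : (MulAut.conj y).toMonoidHom a = y * a * y⁻¹ := by simp [MulAut.conj_apply]
      rw [this]
      exact (Subgroup.mem_normalizer_iff.mp (hLnO hyL) a).mp (hAO ha)
    · exact h
  -- (vii)
  have hBeq : B = A ⊓ O := by
    apply Subgroup.eq_of_le_of_card_ge hBO
    have e1 := card_eq_relIndex_mul_card_inf A B
    have e2 := card_eq_relIndex_mul_card_inf A (A ⊓ O)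
    rw [hBi, inf_eq_right.mpr hBA] at e1
    rw [h4, inf_eq_right.mpr (inf_le_left : A ⊓ O ≤ A)] at e2
    have : p * Nat.card B = p * Nat.card ↥(A ⊓ O) := by rw [← e1, ← e2]
    exact (Nat.eq_of_mul_eq_mul_left hp'.pos this).ge
  refine ⟨h1, h3, h4, ?_⟩
  rw [← hBeq, Subgroup.commutator_le]
  intro b hb l hl
  exact hZQ l hl b hb


/-- Main theorem (S3754). -/
theorem two_conj_main (hM : Cfsg.IsPSolvable p M) (A : Subgroup M) (hA : IsPGroup p A)
    (hΦ : (frattini ↥A).map A.subtype ≤ Cfsg.pCore p M) (hnot : ¬ A ≤ Cfsg.pCore p M) :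
    ∃ x ∈ oppSub p M,
      x ∈ (Cfsg.pResidual p ↥(A ⊔ A.map (MulAut.conj x).toMonoidHom)).map
        (A ⊔ A.map (MulAut.conj x).toMonoidHom).subtype ∧
      (Cfsg.pResidual p ↥(A ⊔ A.map (MulAut.conj x).toMonoidHom)).map
        (A ⊔ A.map (MulAut.conj x).toMonoidHom).subtype ≤ oppSub p M ∧
      ⁅(Cfsg.pResidual p ↥(A ⊔ A.map (MulAut.conj x).toMonoidHom)).map
        (A ⊔ A.map (MulAut.conj x).toMonoidHom).subtype, A⁆ =
        (Cfsg.pResidual p ↥(A ⊔ A.map (MulAut.conj x).toMonoidHom)).map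
          (A ⊔ A.map (MulAut.conj x).toMonoidHom).subtype ∧
      (A ⊓ (Cfsg.pCore p ↥(A ⊔ A.map (MulAut.conj x).toMonoidHom)).map
        (A ⊔ A.map (MulAut.conj x).toMonoidHom).subtype).relIndex A = p ∧
      ⁅A ⊓ (Cfsg.pCore p ↥(A ⊔ A.map (MulAut.conj x).toMonoidHom)).map
        (A ⊔ A.map (MulAut.conj x).toMonoidHom).subtype,
        A ⊔ A.map (MulAut.conj x).toMonoidHom⁆ ≤ Cfsg.pCore p M := by
  classical
  let S : Set M := {x | x ∈ oppSub p M ∧ ¬ IsPGroup p ↥(A ⊔ A.map (MulAut.conj x).toMonoidHom)}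
  have hSne : S.Nonempty := by
    obtain ⟨x, hx1, hx2⟩ := exists_conj_not_isPGroup hM A hA hΦ hnot
    exact ⟨x, hx1, hx2⟩
  obtain ⟨x, hxS, hxmin⟩ := Set.exists_min_image S
    (fun x => Nat.card ↥(A ⊔ A.map (MulAut.conj x).toMonoidHom)) (Set.toFinite S) hSne
  obtain ⟨B, hBA, hBi, y, hyR, hyN, hBy, hyP⟩ := exists_good_conj A hA hΦ x hxS.1 hxS.2
  have hyLx : y ∈ A ⊔ A.map (MulAut.conj x).toMonoidHom := Subgroup.map_subtype_le _ hyR
  have hle : A ⊔ A.map (MulAut.conj y).toMonoidHom ≤ A ⊔ A.map (MulAut.conj x).toMonoidHom := by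
    refine sup_le le_sup_left ?_
    rintro _ ⟨a, ha, rfl⟩
    have : (MulAut.conj y).toMonoidHom a = y * a * y⁻¹ := by simp [MulAut.conj_apply]
    rw [this]
    exact Subgroup.mul_mem _ (Subgroup.mul_mem _ hyLx (le_sup_left (a := A) ha))
      (Subgroup.inv_mem _ hyLx)
  have heq : A ⊔ A.map (MulAut.conj y).toMonoidHom = A ⊔ A.map (MulAut.conj x).toMonoidHom :=
    Subgroup.eq_of_le_of_card_ge hle (hxmin y ⟨hyN, hyP⟩)
  have hyR' : y ∈ (Cfsg.pResidual p ↥(A ⊔ A.map (MulAut.conj y).toMonoidHom)).map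
      (A ⊔ A.map (MulAut.conj y).toMonoidHom).subtype := by
    rw [heq]; exact hyR
  obtain ⟨h1, h3, h4, h5⟩ := two_conj_aux A (A ⊔ A.map (MulAut.conj y).toMonoidHom) hA hΦ B hBA hBi
    y rfl hyR' hyN hBy hyP
  exact ⟨y, hyN, hyR', h1, h3, h4, h5⟩

end Main

end Cfsg.Agent.Lib.Helper17
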