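import Mathlib
import Cfsg.Prelude.Def_Local
import Cfsg.Prelude.Def_Solvable
import Cfsg.Prelude.Def_CaseTheorems
import Cfsg.Agent.Lib.Helper17.OddAutRank2
import Cfsg.Agent.Lib.Helper17.TwoConj
import Cfsg.Agent.Lib.Helper9.PLengthOne
import Cfsg.Agent.Lib.Helper9.PComponent
import Cfsg.Agent.Lib.Helper12.Cores
import Cfsg.Agent.Lib.Helper12.PPrimeP

/-!
helper17: solvable groups of odd order and `p`-rank at most two (B&G Theorem 4.18):
with `Q = G / O_{p'}(G)`, `Q' ≤ O_p(Q)`, `Q / O_p(Q)` is a `p'`-group and all primes dividing `|Q|`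
are at most `p`.
-/

set_option autoImplicit false
open scoped commutatorElement

namespace Cfsg.Agent.Lib.Helper17

/-- the `p`-rank does not grow in quotients by normal `p'`-subgroups. -/
theorem pRankLE_quotient_of_coprime {G : Type*} [Group G] [Finite G] (p k : ℕ) [Fact p.Prime]
    (K : Subgroup G) [K.Normal] (hK : (Nat.card K).Coprime p) (hr : Cfsg.PRankLE p k G) :
    Cfsg.PRankLE p k (G ⧸ K) := by
  classical
  have hpp : p.Prime := Fact.out
  intro Ab hAb hexp
  have hAbP : IsPGroup p Ab := fun a => ⟨1, by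
    rw [pow_one]
    exact Subtype.ext (by push_cast; exact hexp a a.2)⟩
  obtain ⟨a, ha⟩ := hAbP.exists_card_eq
  obtain ⟨f, hf⟩ : ∃ f : G →* G ⧸ K, f = QuotientGroup.mk' K := ⟨_, rfl⟩
  obtain ⟨H, hH⟩ : ∃ H : Subgroup G, H = Ab.comap f := ⟨_, rfl⟩
  have hHcard : Nat.card H = Nat.card K * Nat.card Ab := by
    rw [hH, hf]; exact Cfsg.Agent.Lib.Helper12.card_comap_mk' K Ab
  obtain ⟨P⟩ : Nonempty (Sylow p H) := inferInstance
  obtain ⟨P', hP'⟩ : ∃ P' : Subgroup G, P' = (P : Subgroup H).map H.subtype := ⟨_, rfl⟩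
  have hP'card : Nat.card P' = Nat.card P := by
    rw [hP']; exact Subgroup.card_map_of_injective H.subtype_injective
  have hP'P : IsPGroup p P' := by rw [hP']; exact P.2.map _
  have hP'H : P' ≤ H := by rw [hP']; exact Subgroup.map_subtype_le _
  have h1 : Nat.card P * (P : Subgroup H).index = Nat.card H := Subgroup.card_mul_index _
  have h2 : ¬ p ∣ (P : Subgroup H).index := P.not_dvd_index
  have h3 : p ^ a ∣ Nat.card P := by
    have h4 : p ^ a ∣ Nat.card P * (P : Subgroup H).index := by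
      rw [h1, hHcard, ha]; exact dvd_mul_left _ _
    exact (Nat.Coprime.pow_left a ((Nat.Prime.coprime_iff_not_dvd hpp).mpr h2)).dvd_of_dvd_mul_right
      h4
  have hinj : ∀ x ∈ P', f x = 1 → x = 1 := by
    intro x hx hfx
    have hxK : x ∈ K := by
      rw [hf] at hfx
      exact (QuotientGroup.eq_one_iff x).mp hfx
    have h5 := Cfsg.Agent.Lib.Helper12.inf_eq_bot_of_coprime_of_isPGroup hK hP'P
    have h6 : x ∈ K ⊓ P' := ⟨hxK, hx⟩
    rw [h5, Subgroup.mem_bot] at h6
    exact h6
  have hfmem : ∀ x ∈ P', f x ∈ Ab := by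
    intro x hx
    have := hP'H hx
    rw [hH] at this
    exact this
  have hcomm : IsMulCommutative P' := by
    refine ⟨⟨?_⟩⟩
    rintro ⟨x, hx⟩ ⟨y, hy⟩
    apply Subtype.ext
    show x * y = y * x
    have h7 : f (x * y * (y * x)⁻¹) = 1 := by
      have h8 := hAb.is_comm.comm ⟨f x, hfmem x hx⟩ ⟨f y, hfmem y hy⟩
      have h9 : f x * f y = f y * f x := congrArg Subtype.val h8
      rw [map_mul, map_inv, map_mul, map_mul, h9, mul_inv_cancel]
    have h10 := hinj _ (P'.mul_mem (P'.mul_mem hx hy) (P'.inv_mem (P'.mul_mem hy hx))) h7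
    exact mul_inv_eq_one.mp h10
  have hexp' : ∀ x ∈ P', x ^ p = 1 := by
    intro x hx
    apply hinj _ (P'.pow_mem hx p)
    rw [map_pow]
    exact hexp _ (hfmem x hx)
  have h11 := hr P' hcomm hexp'
  calc Nat.card Ab = p ^ a := ha
    _ ≤ Nat.card P := Nat.le_of_dvd Nat.card_pos h3
    _ = Nat.card P' := hP'card.symm
    _ ≤ p ^ k := h11

section Main

variable {Q : Type*} [Group Q] [Finite Q] [Group.IsSolvable Q]

/-- B&G Theorem 4.18, core: `Q` solvable of odd order, `O_{p'}(Q) = 1`, `p`-rank at most two. -/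
theorem rank_two_core (p : ℕ) [Fact p.Prime] (hp : p ≠ 2) (hodd : Odd (Nat.card Q))
    (hO : Cfsg.pPrimeCore p Q = ⊥) (hr : Cfsg.PRankLE p 2 Q) :
    commutator Q ≤ Cfsg.pCore p Q ∧ ((Cfsg.pCore p Q).index).Coprime p ∧
      ∀ q : ℕ, q.Prime → q ∣ Nat.card Q → q ≤ p := by
  classical
  have hpp : p.Prime := Fact.out
  obtain ⟨Rb, hRb⟩ : ∃ Rb : Subgroup Q, Rb = Cfsg.pCore p Q := ⟨_, rfl⟩
  have hRbn : Rb.Normal := by rw [hRb]; exact Cfsg.Agent.Lib.Helper1.pCore_normal p Q
  have hRbP : IsPGroup p Rb := by rw [hRb]; exact Cfsg.Agent.Lib.Helper12.pCore_isPGroup' p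
  have hCR : Subgroup.centralizer (Rb : Set Q) ≤ Rb := by
    rw [hRb]; exact Cfsg.Agent.Lib.Helper9.centralizer_pCore_le_of_isSolvable p hO
  have hrRb : Cfsg.PRankLE p 2 Rb := pRankLE_subgroup p hr Rb
  obtain ⟨g, hg⟩ : ∃ g : Q →* MulAut Rb, g = MulAut.conjNormal := ⟨_, rfl⟩
  have hgker : ∀ y : Q, g y = 1 → y ∈ Rb := by
    intro y hy
    apply hCR
    rw [Subgroup.mem_centralizer_iff]
    intro r hr'
    have h1 : g y ⟨r, hr'⟩ = ⟨r, hr'⟩ := by rw [hy]; rfl
    rw [hg] at h1
    have h2 : y * r * y⁻¹ = r := by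
      have := congrArg Subtype.val h1
      simpa [MulAut.conjNormal_apply] using this
    calc r * y = y * r * y⁻¹ * y := by rw [h2]
      _ = y * r := by group
  obtain ⟨B, hB⟩ : ∃ B : Subgroup (MulAut Rb), B = g.range := ⟨_, rfl⟩
  have hBcard : Nat.card B ∣ Nat.card Q := by
    rw [hB]; exact Subgroup.card_range_dvd g
  have hBodd : Odd (Nat.card B) := Odd.of_dvd_nat hodd hBcard
  obtain ⟨key1, key2⟩ := odd_aut_rank_two p hp hRbP hrRb B hBodd
  -- the derived subgroup is a p-group
  have hder : commutator Q ≤ Rb := by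
    have hP : IsPGroup p (commutator Q) := by
      rintro ⟨y, hy⟩
      have h1 : g y ∈ ⁅B, B⁆ := by
        have h2 : (commutator Q).map g = ⁅B, B⁆ := by
          rw [commutator_def, Subgroup.map_commutator, hB, MonoidHom.range_eq_map]
        rw [← h2]
        exact Subgroup.mem_map_of_mem _ hy
      obtain ⟨k, hk⟩ := key1 _ h1
      rw [← map_pow] at hk
      have h3 := hgker _ hk
      obtain ⟨j, hj⟩ := hRbP ⟨_, h3⟩
      refine ⟨k + j, ?_⟩
      apply Subtype.ext
      have h4 := congrArg Subtype.val hj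
      push_cast at h4 ⊢
      rw [pow_add, pow_mul]
      exact h4
    rw [hRb]
    exact Cfsg.Agent.Lib.Helper12.le_pCore' p _ inferInstance hP
  refine ⟨hRb ▸ hder, ?_, ?_⟩
  · -- Q / Rb is an abelian group with trivial O_p
    rw [← hRb]
    rw [Nat.coprime_comm, Nat.Prime.coprime_iff_not_dvd hpp]
    intro hdvd
    rw [Subgroup.index_eq_card] at hdvd
    obtain ⟨x, hx⟩ := exists_prime_orderOf_dvd_card' p hdvd
    have hcomm : ∀ a b : Q ⧸ Rb, a * b = b * a := by
      intro a b
      induction a using QuotientGroup.induction_on with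
      | H a =>
      induction b using QuotientGroup.induction_on with
      | H b =>
      rw [← QuotientGroup.mk_mul, ← QuotientGroup.mk_mul, QuotientGroup.eq]
      apply hder
      have : (a * b)⁻¹ * (b * a) = ⁅b⁻¹, a⁻¹⁆ := by
        rw [commutatorElement_def]; group
      rw [this]
      exact Subgroup.commutator_mem_commutator (Subgroup.mem_top _) (Subgroup.mem_top _)
    have hZn : (Subgroup.zpowers x).Normal := by
      refine ⟨fun n hn g => ?_⟩
      rw [hcomm g n, mul_assoc, mul_inv_cancel, mul_one]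
      exact hn
    have hZP : IsPGroup p (Subgroup.zpowers x) := by
      rw [IsPGroup.iff_card]
      exact ⟨1, by rw [Nat.card_zpowers, hx, pow_one]⟩
    have hle := Cfsg.Agent.Lib.Helper12.le_pCore' p _ hZn hZP
    have hbot : Cfsg.pCore p (Q ⧸ Rb) = ⊥ := by
      subst hRb
      exact pCore_quot_eq_bot
    rw [hbot] at hle
    have hx1 : x = 1 := by
      have := hle (Subgroup.mem_zpowers x)
      rwa [Subgroup.mem_bot] at this
    rw [hx1, orderOf_one] at hx
    exact hpp.one_lt.ne hx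
  · intro q hq hqQ
    by_cases hqp : q = p
    · exact hqp.le
    apply key2 q hq
    -- |Q| = |ker g| * |B|
    have h1 : Nat.card g.ker * g.ker.index = Nat.card Q := Subgroup.card_mul_index _
    rw [Subgroup.index_ker] at h1
    have h2 : Nat.card g.ker ∣ Nat.card Rb := by
      apply Subgroup.card_dvd_of_le
      intro y hy
      exact hgker y (MonoidHom.mem_ker.mp hy)
    obtain ⟨n, hn⟩ := hRbP.exists_card_eq
    rw [hn] at h2
    rw [hB]
    rw [← h1] at hqQ
    rcases (Nat.Prime.dvd_mul hq).mp hqQ with h3 | h3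
    · exfalso
      have h4 := hq.dvd_of_dvd_pow (h3.trans h2)
      exact hqp ((Nat.prime_dvd_prime_iff_eq hq hpp).mp h4)
    · exact h3

end Main

end Cfsg.Agent.Lib.Helper17
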