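/-
Helper lemmas (helper17): p-part / p'-part of an element, p'-elements acting on cyclic p-groups.
(`exists_p_pprime_decomp` follows helper8's proof in Lib/Helper8/PResidual.lean; copied here to keep
this file Mathlib-only apart from Helper9's Mathlib-only files.)
-/
import Cfsg.Agent.Lib.Helper17.Basic
import Cfsg.Agent.Lib.Helper9.Cyclic
import Cfsg.Agent.Lib.Helper9.Stability
import Mathlib.GroupTheory.Sylow
import Mathlib.GroupTheory.SpecificGroups.Cyclic
import Mathlib.Tactic

set_option autoImplicit false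

namespace Cfsg.Agent.Lib.Helper17

open scoped commutatorElement

/-- Decomposition of an element of a finite group into its `p`-part and `p'`-part (both powers). -/
theorem exists_p_pprime_decomp {G : Type*} [Group G] [Finite G] (p : ℕ) [hp : Fact p.Prime] (x : G) :
    ∃ i j : ℤ, x = x ^ i * x ^ j ∧ (∃ k : ℕ, orderOf (x ^ i) = p ^ k) ∧
      Nat.Coprime (orderOf (x ^ j)) p := by
  have hn : orderOf x ≠ 0 := (orderOf_pos x).ne'
  obtain ⟨a, m, hm, hnm⟩ := Nat.exists_eq_pow_mul_and_not_dvd hn p hp.out.ne_one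
  have hcop : Nat.Coprime (p ^ a) m :=
    Nat.Coprime.pow_left a ((Nat.Prime.coprime_iff_not_dvd hp.out).mpr hm)
  have hb : ((p ^ a : ℕ) : ℤ) * Nat.gcdA (p ^ a) m + (m : ℤ) * Nat.gcdB (p ^ a) m = 1 := by
    have := Nat.gcd_eq_gcd_ab (p ^ a) m
    rw [hcop.gcd_eq_one] at this
    exact_mod_cast this.symm
  set u := Nat.gcdA (p ^ a) m
  set v := Nat.gcdB (p ^ a) m
  refine ⟨(m : ℤ) * v, ((p ^ a : ℕ) : ℤ) * u, ?_, ?_, ?_⟩
  · rw [← zpow_add, add_comm, hb, zpow_one]
  · have h1 : (x ^ ((m : ℤ) * v)) ^ (p ^ a) = 1 := by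
      rw [← zpow_natCast, ← zpow_mul]
      have : (m : ℤ) * v * ((p ^ a : ℕ) : ℤ) = ((orderOf x : ℕ) : ℤ) * v := by
        rw [hnm]; push_cast; ring
      rw [this, zpow_mul, zpow_natCast, pow_orderOf_eq_one, one_zpow]
    have h2 := orderOf_dvd_of_pow_eq_one h1
    obtain ⟨k, _, hk⟩ := (Nat.dvd_prime_pow hp.out).mp h2
    exact ⟨k, hk⟩
  · have h1 : (x ^ (((p ^ a : ℕ) : ℤ) * u)) ^ m = 1 := by
      rw [← zpow_natCast, ← zpow_mul]
      have : ((p ^ a : ℕ) : ℤ) * u * (m : ℤ) = ((orderOf x : ℕ) : ℤ) * u := by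
        rw [hnm]; push_cast; ring
      rw [this, zpow_mul, zpow_natCast, pow_orderOf_eq_one, one_zpow]
    have h2 := orderOf_dvd_of_pow_eq_one h1
    exact Nat.Coprime.coprime_dvd_left h2 ((Nat.Prime.coprime_iff_not_dvd hp.out).mpr hm).symm

/-- A `p'`-element normalizing a cyclic `p`-subgroup `P` and centralizing a nontrivial element of `P`
centralizes `P`. -/
theorem comm_of_coprime_of_cyclic {G : Type*} [Group G] [Finite G] {p : ℕ} [Fact p.Prime]
    (P : Subgroup G) (hPc : IsCyclic ↥P) (hPp : IsPGroup p ↥P) (a : G)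
    (ha : a ∈ Subgroup.normalizer (P : Set G)) (hcop : (orderOf a).Coprime p)
    (x : G) (hxP : x ∈ P) (hx1 : x ≠ 1) (hax : a * x = x * a) : ∀ u ∈ P, a * u = u * a := by
  have hp : p.Prime := Fact.out
  have hcomm : ∀ u ∈ P, ∀ v ∈ P, u * v = v * u := by
    intro u hu v hv
    have hc : IsMulCommutative ↥P := IsCyclic.isMulCommutative
    have := hc.is_comm.comm ⟨u, hu⟩ ⟨v, hv⟩
    exact congrArg Subtype.val this
  -- the centralizer of `a` in `P`, as a subgroup of `↥P`
  set A : Subgroup ↥P := (Subgroup.centralizer ({a} : Set G)).subgroupOf P with hA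
  have hpA : p ∣ Nat.card A := by
    have hAp : IsPGroup p A := hPp.to_subgroup A
    rcases hAp.card_eq_or_dvd with h1 | h1
    · exfalso
      have hxA : (⟨x, hxP⟩ : ↥P) ∈ A := by
        rw [hA, Subgroup.mem_subgroupOf, Subgroup.mem_centralizer_singleton_iff]
        exact hax.symm
      have : A = ⊥ := Subgroup.card_eq_one.1 h1
      rw [this, Subgroup.mem_bot] at hxA
      exact hx1 (congrArg Subtype.val hxA)
    · exact h1
  have key : ∀ n : ℕ, ∀ u ∈ P, orderOf u = n → a * u = u * a := by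
    intro n
    induction n using Nat.strong_induction_on with
    | _ n ih =>
      intro u hu hn
      by_cases hu1 : u = 1
      · subst hu1; simp
      -- order of u is a positive power of p
      obtain ⟨k, hk⟩ := hPp ⟨u, hu⟩
      have hk' : u ^ (p ^ k) = 1 := by
        have := congrArg Subtype.val hk
        simpa using this
      obtain ⟨j, -, hj⟩ := (Nat.dvd_prime_pow hp).1 (orderOf_dvd_of_pow_eq_one hk')
      have hj0 : j ≠ 0 := by
        rintro rfl
        rw [pow_zero, orderOf_eq_one_iff] at hj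
        exact hu1 hj
      have hpu : p ∣ orderOf u := by
        rw [hj]; exact dvd_pow_self p hj0
      have hlt : orderOf (u ^ p) < n := by
        rw [orderOf_pow_of_dvd hp.ne_zero hpu, ← hn]
        exact Nat.div_lt_self (orderOf_pos u) hp.one_lt
      have hup : a * u ^ p = u ^ p * a := ih _ hlt (u ^ p) (P.pow_mem hu p) rfl
      -- z = ⁅u, a⁆
      have hwP : a * u⁻¹ * a⁻¹ ∈ P := conj_mem_of_mem_normalizer ha (P.inv_mem hu)
      have hz : ⁅u, a⁆ = u * (a * u⁻¹ * a⁻¹) := by
        rw [commutatorElement_def]; group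
      have hzP : ⁅u, a⁆ ∈ P := by rw [hz]; exact P.mul_mem hu hwP
      have hzp : ⁅u, a⁆ ^ p = 1 := by
        rw [hz, (show Commute u (a * u⁻¹ * a⁻¹) from hcomm u hu _ hwP).mul_pow]
        have h1 : (a * u⁻¹ * a⁻¹) ^ p = a * (u ^ p)⁻¹ * a⁻¹ := by
          rw [conj_pow, inv_pow]
        have h2 : a * (u ^ p)⁻¹ * a⁻¹ = (u ^ p)⁻¹ := by
          have h3 : a * (u ^ p)⁻¹ = (u ^ p)⁻¹ * a := by
            have : Commute a (u ^ p) := hup
            exact this.inv_right.eq
          rw [h3]; group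
        rw [h1, h2, mul_inv_cancel]
      -- z lies in the centralizer of a
      have hzA : (⟨⁅u, a⁆, hzP⟩ : ↥P) ∈ A := by
        rw [Cfsg.Agent.Lib.Helper9.mem_iff_pow_card_eq_one_of_isCyclic A]
        obtain ⟨t, ht⟩ := hpA
        rw [ht, pow_mul]
        have : (⟨⁅u, a⁆, hzP⟩ : ↥P) ^ p = 1 := by
          apply Subtype.ext
          simpa using hzp
        rw [this, one_pow]
      rw [hA, Subgroup.mem_subgroupOf, Subgroup.mem_centralizer_singleton_iff] at hzA
      have hcop' : (orderOf a).Coprime (orderOf ⁅u, a⁆) :=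
        Nat.Coprime.coprime_dvd_right (orderOf_dvd_of_pow_eq_one hzp) hcop
      exact Cfsg.Agent.Lib.Helper9.commute_of_commutator_centralized a u hzA.symm hcop'
  intro u hu
  exact key _ u hu rfl

/-- If a cyclic Sylow `p`-subgroup `P` contains a nontrivial element centralized by `N_G(P)`, then
`N_G(P) ≤ C_G(P)`. -/
theorem normalizer_le_centralizer_of_cyclic_sylow {G : Type*} [Group G] [Finite G] {p : ℕ}
    [Fact p.Prime] (P : Sylow p G) (hPc : IsCyclic ↥(P : Subgroup G)) (x : G)
    (hxP : x ∈ (P : Subgroup G)) (hx1 : x ≠ 1)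
    (hN : Subgroup.normalizer ((P : Subgroup G) : Set G) ≤ Subgroup.centralizer ({x} : Set G)) :
    Subgroup.normalizer ((P : Subgroup G) : Set G) ≤ Subgroup.centralizer ((P : Subgroup G) : Set G) := by
  have hcomm : ∀ u ∈ (P : Subgroup G), ∀ v ∈ (P : Subgroup G), u * v = v * u := by
    intro u hu v hv
    have hc : IsMulCommutative ↥(P : Subgroup G) := IsCyclic.isMulCommutative
    have := hc.is_comm.comm ⟨u, hu⟩ ⟨v, hv⟩
    exact congrArg Subtype.val this
  intro n hn
  obtain ⟨i, j, hdec, hi, hj⟩ := exists_p_pprime_decomp p n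
  have hni : n ^ i ∈ Subgroup.normalizer ((P : Subgroup G) : Set G) := Subgroup.zpow_mem _ hn i
  have hnj : n ^ j ∈ Subgroup.normalizer ((P : Subgroup G) : Set G) := Subgroup.zpow_mem _ hn j
  -- the p-part lies in P
  have hiP : n ^ i ∈ (P : Subgroup G) := by
    have hZ : IsPGroup p (Subgroup.zpowers (n ^ i)) := by
      obtain ⟨k, hk⟩ := hi
      apply IsPGroup.of_card (n := k)
      rw [Nat.card_zpowers, hk]
    have h1 := hZ.inf_normalizer_sylow P
    have h2 : n ^ i ∈ Subgroup.zpowers (n ^ i) ⊓ Subgroup.normalizer ((P : Subgroup G) : Set G) :=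
      ⟨Subgroup.mem_zpowers _, hni⟩
    exact (h1.le h2).2
  have h1 : n ^ i ∈ Subgroup.centralizer ((P : Subgroup G) : Set G) := by
    rw [Subgroup.mem_centralizer_iff]
    intro h hh
    exact hcomm h hh _ hiP
  have h2 : n ^ j ∈ Subgroup.centralizer ((P : Subgroup G) : Set G) := by
    rw [Subgroup.mem_centralizer_iff]
    intro h hh
    have hax : n ^ j * x = x * n ^ j := Subgroup.mem_centralizer_singleton_iff.1 (hN hnj)
    exact (comm_of_coprime_of_cyclic (P : Subgroup G) hPc P.isPGroup' (n ^ j) hnj hj x hxP hx1 hax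
      h hh).symm
  rw [hdec]
  exact Subgroup.mul_mem _ h1 h2

end Cfsg.Agent.Lib.Helper17
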