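/-
Helper lemmas (helper17): groups of characteristic p (`C_G(O_p(G)) ≤ O_p(G)`): p'-elements stabilizing
a chain in `O_p(G)` are trivial; subgroups all of whose p'-elements are trivial are p-groups.
-/
import Cfsg.Agent.Lib.Helper17.Coprime
import Cfsg.Prelude.Def_Solvable

set_option autoImplicit false

namespace Cfsg.Agent.Lib.Helper17

open scoped commutatorElement

theorem pCore_normal (p : ℕ) (G : Type*) [Group G] : (Cfsg.pCore p G).Normal :=
  Subgroup.sSup_normal _ (fun _ h => h.1)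

theorem pCore_isPGroup (p : ℕ) [Fact p.Prime] (G : Type*) [Group G] : IsPGroup p ↥(Cfsg.pCore p G) :=
  Sylow.sSup_of_normal _ (fun _ h => h.2) (fun _ h => h.1)

theorem le_pCore {p : ℕ} {G : Type*} [Group G] (N : Subgroup G) (hN : N.Normal)
    (h : IsPGroup p N) : N ≤ Cfsg.pCore p G :=
  le_sSup ⟨hN, h⟩

/-- A subgroup all of whose `p'`-elements are trivial is a `p`-group. -/
theorem isPGroup_of_pprime_trivial {G : Type*} [Group G] [Finite G] {p : ℕ} [Fact p.Prime]
    (X : Subgroup G) (h : ∀ a ∈ X, (orderOf a).Coprime p → a = 1) : IsPGroup p X := by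
  intro g
  obtain ⟨i, j, hdec, ⟨k, hk⟩, hj⟩ := exists_p_pprime_decomp p (g : G)
  have h1 : (g : G) ^ j = 1 := h _ (X.zpow_mem g.2 j) hj
  rw [h1, mul_one] at hdec
  refine ⟨k, ?_⟩
  apply Subtype.ext
  have h2 : (g : G) ^ (p ^ k) = 1 := by
    rw [hdec, ← hk]
    conv_lhs => rw [← hdec]
    rw [← hdec] at hk
    rw [hk]
    have := pow_orderOf_eq_one (g : G)
    rw [hk] at this
    exact this
  simpa using h2

/-- In a group of characteristic `p`, a `p'`-element stabilizing a chain `O_p(G) ≥ K ≥ 1` is trivial. -/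
theorem eq_one_of_stabilizes_pCore {G : Type*} [Group G] [Finite G] {p : ℕ} [Fact p.Prime]
    (hG : Subgroup.centralizer (Cfsg.pCore p G : Set G) ≤ Cfsg.pCore p G) (a : G)
    (hcop : (orderOf a).Coprime p) (K : Subgroup G) (hKR : K ≤ Cfsg.pCore p G)
    (hK : ∀ k ∈ K, a * k = k * a) (hN : ∀ h ∈ Cfsg.pCore p G, ⁅h, a⁆ ∈ K) : a = 1 := by
  have hRp := pCore_isPGroup p G
  obtain ⟨m, hm⟩ := IsPGroup.iff_card.1 hRp
  have hcop' : (orderOf a).Coprime (Nat.card ↥(Cfsg.pCore p G)) := by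
    rw [hm]; exact Nat.Coprime.pow_right m hcop
  have h1 := Cfsg.Agent.Lib.Helper9.mem_centralizer_of_stabilizes_pair (Cfsg.pCore p G) K hKR a
    hcop' hK hN
  have h2 : a ∈ Subgroup.centralizer (Cfsg.pCore p G : Set G) := by
    rw [Subgroup.mem_centralizer_iff]
    intro h hh
    exact (h1 h hh).symm
  have h3 : a ∈ Cfsg.pCore p G := hG h2
  have h4 : orderOf a ∣ Nat.card ↥(Cfsg.pCore p G) := Subgroup.orderOf_dvd_natCard _ h3
  have h5 : orderOf a = 1 := Nat.eq_one_of_dvd_coprimes hcop' (dvd_refl _) h4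
  exact orderOf_eq_one_iff.1 h5

end Cfsg.Agent.Lib.Helper17
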