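/-
Helper lemmas (helper17): the Glauberman–Solomon subgroup `D*(S)` of a finite `p`-group.
-/
import Cfsg.Agent.Lib.Helper17.CentrallyLarge
import Cfsg.Prelude.Def_DStar
import Mathlib.GroupTheory.Commutator.Basic
import Mathlib.GroupTheory.PGroup
import Mathlib.GroupTheory.QuotientGroup.Basic

set_option autoImplicit false

namespace Cfsg.Agent.Lib.Helper17

open scoped Pointwise

/-- If every member of a family centralizes `x`, so does the subgroup it generates. -/
theorem sSup_le_centralizer_singleton {S : Type*} [Group S] (𝒟 : Set (Subgroup S)) (x : S)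
    (h : ∀ A ∈ 𝒟, ∀ a ∈ A, a * x = x * a) : ∀ a ∈ sSup 𝒟, a * x = x * a := by
  have h1 : sSup 𝒟 ≤ Subgroup.centralizer ({x} : Set S) := by
    apply sSup_le
    intro A hA a ha
    rw [Subgroup.mem_centralizer_iff]
    intro y hy
    rw [Set.mem_singleton_iff] at hy
    subst hy
    exact (h A hA a ha).symm
  intro a ha
  have := h1 ha
  rw [Subgroup.mem_centralizer_iff] at this
  exact (this x rfl).symm

/-- Key step: an element of `D*` that is central modulo `Z(D*)` is central in `D*`. -/
theorem dStar_second_center {S : Type*} [Group S] (z : ↥(Cfsg.dStar S))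
    (hz : (QuotientGroup.mk' (Subgroup.center ↥(Cfsg.dStar S))) z
      ∈ Subgroup.center (↥(Cfsg.dStar S) ⧸ Subgroup.center ↥(Cfsg.dStar S))) :
    z ∈ Subgroup.center ↥(Cfsg.dStar S) := by
  have key : ∀ a ∈ Cfsg.dStar S, a * (z : S) = (z : S) * a := by
    apply sSup_le_centralizer_singleton
    intro A hA
    have hAD : A ≤ Cfsg.dStar S := le_sSup hA
    apply hA.2
    have hAc : IsMulCommutative A := hA.1
    have hmap : ((A.subgroupOf (Cfsg.dStar S)) ⊔ Subgroup.zpowers z).map (Cfsg.dStar S).subtype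
        = A ⊔ Subgroup.zpowers (z : S) := by
      rw [Subgroup.map_sup, Subgroup.map_subgroupOf_eq_of_le hAD, MonoidHom.map_zpowers]
      rfl
    rw [← hmap, ← Subgroup.map_commutator, ← Subgroup.map_commutator]
    have h1 : ⁅(A.subgroupOf (Cfsg.dStar S)) ⊔ Subgroup.zpowers z,
        (A.subgroupOf (Cfsg.dStar S)) ⊔ Subgroup.zpowers z⁆ ≤ Subgroup.center ↥(Cfsg.dStar S) := by
      rw [← QuotientGroup.ker_mk' (Subgroup.center ↥(Cfsg.dStar S)), ← Subgroup.map_eq_bot_iff,
        Subgroup.map_commutator, Subgroup.commutator_eq_bot_iff_le_centralizer,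
        Subgroup.le_centralizer_iff_isMulCommutative, Subgroup.map_sup, MonoidHom.map_zpowers]
      apply isMulCommutative_sup
      · exact Subgroup.map_isMulCommutative _ _
      · exact Subgroup.zpowers_isMulCommutative _
      · have : Subgroup.centralizer
            ((Subgroup.zpowers ((QuotientGroup.mk' (Subgroup.center ↥(Cfsg.dStar S))) z) :
              Subgroup (↥(Cfsg.dStar S) ⧸ Subgroup.center ↥(Cfsg.dStar S))) :
                Set (↥(Cfsg.dStar S) ⧸ Subgroup.center ↥(Cfsg.dStar S))) = ⊤ := by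
          rw [Subgroup.centralizer_eq_top_iff_subset]
          intro y hy
          have : Subgroup.zpowers ((QuotientGroup.mk' (Subgroup.center ↥(Cfsg.dStar S))) z)
              ≤ Subgroup.center (↥(Cfsg.dStar S) ⧸ Subgroup.center ↥(Cfsg.dStar S)) := by
            rw [Subgroup.zpowers_le]; exact hz
          exact this hy
        rw [this]
        exact le_top
    have h2 : ⁅⁅(A.subgroupOf (Cfsg.dStar S)) ⊔ Subgroup.zpowers z,
        (A.subgroupOf (Cfsg.dStar S)) ⊔ Subgroup.zpowers z⁆,
        (A.subgroupOf (Cfsg.dStar S)) ⊔ Subgroup.zpowers z⁆ = ⊥ := by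
      rw [Subgroup.commutator_eq_bot_iff_le_centralizer]
      exact h1.trans (Subgroup.center_le_centralizer _)
    rw [h2, Subgroup.map_bot]
  rw [Subgroup.mem_center_iff]
  intro y
  apply Subtype.ext
  exact key y.1 y.2

theorem dStar_isMulCommutative {S : Type*} [Group S] [Finite S] {p : ℕ} [Fact p.Prime]
    (hS : IsPGroup p S) : IsMulCommutative ↥(Cfsg.dStar S) := by
  by_contra hne
  have hcen : Subgroup.center ↥(Cfsg.dStar S) ≠ ⊤ := by
    intro h
    apply hne
    refine ⟨⟨fun a b => ?_⟩⟩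
    have ha : a ∈ Subgroup.center ↥(Cfsg.dStar S) := by rw [h]; exact Subgroup.mem_top a
    exact ((Subgroup.mem_center_iff.1 ha) b).symm
  have hQnt : Nontrivial (↥(Cfsg.dStar S) ⧸ Subgroup.center ↥(Cfsg.dStar S)) :=
    QuotientGroup.nontrivial_iff.2 hcen
  have hQp : IsPGroup p (↥(Cfsg.dStar S) ⧸ Subgroup.center ↥(Cfsg.dStar S)) :=
    (hS.to_subgroup (Cfsg.dStar S)).to_quotient _
  have hlt := hQp.bot_lt_center
  obtain ⟨q, hq, hq1⟩ := SetLike.exists_of_lt hlt
  obtain ⟨z, rfl⟩ := QuotientGroup.mk_surjective q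
  apply hq1
  rw [Subgroup.mem_bot, QuotientGroup.eq_one_iff]
  exact dStar_second_center z hq

theorem dStar_mem_dStarFamily {S : Type*} [Group S] [Finite S] {p : ℕ} [Fact p.Prime]
    (hS : IsPGroup p S) : Cfsg.dStar S ∈ Cfsg.dStarFamily S := by
  refine ⟨dStar_isMulCommutative hS, ?_⟩
  intro x hx
  apply sSup_le_centralizer_singleton
  intro A hA
  have hAD : A ≤ Cfsg.dStar S := le_sSup hA
  apply hA.2
  rw [eq_bot_iff, ← hx]
  have h1 : A ⊔ Subgroup.zpowers x ≤ Cfsg.dStar S ⊔ Subgroup.zpowers x := sup_le_sup_right hAD _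
  exact Subgroup.commutator_mono (Subgroup.commutator_mono h1 h1) h1

end Cfsg.Agent.Lib.Helper17
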