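/-
Helper lemmas (helper17): more on `D*(S)`: it is normal, lies in every abelian subgroup of largest
order and in every maximal normal abelian subgroup.
-/
import Cfsg.Agent.Lib.Helper17.DStar
import Cfsg.Agent.Lib.Helper17.Replacement
import Cfsg.Agent.Lib.Helper10.PGroupBasic

set_option autoImplicit false

namespace Cfsg.Agent.Lib.Helper17

open scoped Pointwise commutatorElement

/-- The defining family of `D*` is invariant under automorphisms. -/
theorem dStarFamily_map_equiv {S : Type*} [Group S] (φ : S ≃* S) (A : Subgroup S)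
    (hA : A ∈ Cfsg.dStarFamily S) : A.map φ.toMonoidHom ∈ Cfsg.dStarFamily S := by
  obtain ⟨hAc, hA2⟩ := hA
  refine ⟨Subgroup.map_isMulCommutative _ _, ?_⟩
  intro x hx a' ha'
  obtain ⟨a, ha, rfl⟩ := ha'
  have hmap : (A ⊔ Subgroup.zpowers (φ.symm x)).map φ.toMonoidHom
      = A.map φ.toMonoidHom ⊔ Subgroup.zpowers x := by
    rw [Subgroup.map_sup, MonoidHom.map_zpowers]
    simp
  rw [← hmap, ← Subgroup.map_commutator, ← Subgroup.map_commutator,
    Subgroup.map_eq_bot_iff_of_injective _ φ.injective] at hx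
  have h1 := hA2 (φ.symm x) hx a ha
  have h2 := congrArg φ h1
  simpa using h2

theorem dStar_normal (S : Type*) [Group S] : (Cfsg.dStar S).Normal := by
  refine ⟨fun n hn g => ?_⟩
  have hle : Cfsg.dStar S ≤ (Cfsg.dStar S).comap (MulAut.conj g).toMonoidHom := by
    apply sSup_le
    intro A hA
    rw [← Subgroup.map_le_iff_le_comap]
    exact le_sSup (dStarFamily_map_equiv (MulAut.conj g) A hA)
  have := hle hn
  rw [Subgroup.mem_comap] at this
  simpa using this

/-- `D*(S)` lies in every abelian subgroup of largest order (via Thompson replacement). -/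
theorem dStar_le_of_mem_maxAbelian {S : Type*} [Group S] [Finite S] {p : ℕ} [Fact p.Prime]
    (hS : IsPGroup p S) (A : Subgroup S) (hA : A ∈ Cfsg.maxAbelianSubgroups S) :
    Cfsg.dStar S ≤ A := by
  have hDn : (Cfsg.dStar S).Normal := dStar_normal S
  have hDmem := dStar_mem_dStarFamily hS
  have hDc : IsMulCommutative ↥(Cfsg.dStar S) := hDmem.1
  -- the case where D normalizes A
  have case1 : ∀ A' : Subgroup S, A' ∈ Cfsg.maxAbelianSubgroups S →
      Cfsg.dStar S ≤ Subgroup.normalizer (A' : Set S) → Cfsg.dStar S ≤ A' := by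
    intro A' hA' hN
    have hA'c : IsMulCommutative A' := hA'.1
    have hcen : ∀ a ∈ A', ∀ d ∈ Cfsg.dStar S, d * a = a * d := by
      intro a ha
      apply hDmem.2
      apply class_two_sup_zpowers (Cfsg.dStar S) hDc a (Cfsg.dStar S ⊓ A')
      · exact (Subgroup.le_centralizer_iff_isMulCommutative.2 hDc).trans
          (Subgroup.centralizer_le (fun y hy => hy.1))
      · exact ((Subgroup.le_centralizer_iff_isMulCommutative.2 hA'c).trans
          (Subgroup.centralizer_le (fun y hy => hy.2))) ha
      · intro d hd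
        constructor
        · have h1 : a * d⁻¹ * a⁻¹ ∈ Cfsg.dStar S := hDn.conj_mem _ (Subgroup.inv_mem _ hd) a
          have h2 : ⁅d, a⁆ = d * (a * d⁻¹ * a⁻¹) := by rw [commutatorElement_def]; group
          rw [h2]; exact Subgroup.mul_mem _ hd h1
        · have h1 : d * a * d⁻¹ ∈ A' := conj_mem_of_mem_normalizer (hN hd) ha
          rw [commutatorElement_def]
          exact A'.mul_mem h1 (A'.inv_mem ha)
    rw [← centralizer_eq_of_mem_maxAbelian hA']
    intro d hd
    rw [Subgroup.mem_centralizer_iff]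
    intro a ha
    exact (hcen a ha d hd).symm
  by_contra hcon
  have hne : Nonempty {A' : Subgroup S // A' ∈ Cfsg.maxAbelianSubgroups S ∧ ¬ Cfsg.dStar S ≤ A'} :=
    ⟨⟨A, hA, hcon⟩⟩
  obtain ⟨⟨A₀, hA₀, hA₀D⟩, hmax⟩ := Finite.exists_max
    (fun A' : {A' : Subgroup S // A' ∈ Cfsg.maxAbelianSubgroups S ∧ ¬ Cfsg.dStar S ≤ A'} =>
      Nat.card ↥(A'.1 ⊓ Cfsg.dStar S))
  have hN : ¬ Cfsg.dStar S ≤ Subgroup.normalizer (A₀ : Set S) := fun h => hA₀D (case1 A₀ hA₀ h)
  obtain ⟨A', hA', hlt, hA'N⟩ := thompson_replacement hS A₀ hA₀ (Cfsg.dStar S) hDc hN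
  have hcardlt : Nat.card ↥(A₀ ⊓ Cfsg.dStar S) < Nat.card ↥(A' ⊓ Cfsg.dStar S) := by
    by_contra hge
    push Not at hge
    exact hlt.ne (Subgroup.eq_of_le_of_card_ge hlt.le hge)
  by_cases hA'D : Cfsg.dStar S ≤ A'
  · exact hN (hA'D.trans hA'N)
  · have := hmax ⟨A', hA', hA'D⟩
    simp only at this
    omega

/-- A maximal normal abelian subgroup of a finite `p`-group is self-centralizing
(adapted from helper10's `exists_normal_abelian_self_centralizing`). -/
theorem centralizer_eq_of_maximal_normal_abelian {R : Type*} [Group R] [Finite R] {p : ℕ}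
    [Fact p.Prime] (hR : IsPGroup p R) (A : Subgroup R) (hAn : A.Normal) (hAc : IsMulCommutative A)
    (hmax : ∀ B : Subgroup R, B.Normal → IsMulCommutative B → A ≤ B → B = A) :
    Subgroup.centralizer (A : Set R) = A := by
  have hAle : A ≤ Subgroup.centralizer (A : Set R) := Subgroup.le_centralizer_iff_isMulCommutative.2 hAc
  apply le_antisymm _ hAle
  by_contra hCA
  set C := Subgroup.centralizer (A : Set R) with hC
  have hCn : C.Normal := Subgroup.normal_centralizer
  let π := QuotientGroup.mk' A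
  have hCbar_n : (C.map π).Normal := Subgroup.Normal.map hCn π (QuotientGroup.mk'_surjective A)
  have hCbar_ne : C.map π ≠ ⊥ := by
    intro h
    apply hCA
    intro c hc
    have : π c ∈ C.map π := Subgroup.mem_map_of_mem π hc
    rw [h, Subgroup.mem_bot] at this
    exact (QuotientGroup.eq_one_iff c).mp this
  obtain ⟨xb, hxC, hxZ, hx1⟩ := Cfsg.Agent.Lib.Helper10.exists_mem_center_of_normal_ne_bot p
    (hR.to_quotient A) (C.map π) hCbar_ne
  obtain ⟨x, hxC', rfl⟩ := hxC
  have hxA : x ∉ A := fun h => hx1 ((QuotientGroup.eq_one_iff x).mpr h)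
  have hBn : (A ⊔ Subgroup.zpowers x).Normal := by
    have hzn : (Subgroup.zpowers (π x)).Normal := by
      constructor
      intro y hy g
      have hyZ : y ∈ Subgroup.center (R ⧸ A) := (Subgroup.zpowers_le.mpr hxZ) hy
      have : g * y * g⁻¹ = y := by
        rw [(Subgroup.mem_center_iff.mp hyZ) g]; group
      rw [this]; exact hy
    have : A ⊔ Subgroup.zpowers x = (Subgroup.zpowers (π x)).comap π := by
      rw [← MonoidHom.map_zpowers, QuotientGroup.comap_map_mk']
    rw [this]
    exact hzn.comap π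
  have hBc : IsMulCommutative ↥(A ⊔ Subgroup.zpowers x) := by
    apply isMulCommutative_sup A (Subgroup.zpowers x) hAc (Subgroup.zpowers_isMulCommutative x)
    rw [Subgroup.le_centralizer_iff, Subgroup.zpowers_le]
    exact hxC'
  have := hmax _ hBn hBc le_sup_left
  apply hxA
  rw [← this]
  exact (le_sup_right : Subgroup.zpowers x ≤ A ⊔ Subgroup.zpowers x) (Subgroup.mem_zpowers x)

/-- `D*(S)` lies in every maximal normal abelian subgroup. -/
theorem dStar_le_of_maximal_normal_abelian {S : Type*} [Group S] [Finite S] {p : ℕ} [Fact p.Prime]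
    (hS : IsPGroup p S) (A : Subgroup S) (hAn : A.Normal) (hAc : IsMulCommutative A)
    (hmax : ∀ B : Subgroup S, B.Normal → IsMulCommutative B → A ≤ B → B = A) :
    Cfsg.dStar S ≤ A := by
  have hDn : (Cfsg.dStar S).Normal := dStar_normal S
  have hDmem := dStar_mem_dStarFamily hS
  have hDc : IsMulCommutative ↥(Cfsg.dStar S) := hDmem.1
  have hcen : ∀ a ∈ A, ∀ d ∈ Cfsg.dStar S, d * a = a * d := by
    intro a ha
    apply hDmem.2
    apply class_two_sup_zpowers (Cfsg.dStar S) hDc a (Cfsg.dStar S ⊓ A)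
    · exact (Subgroup.le_centralizer_iff_isMulCommutative.2 hDc).trans
        (Subgroup.centralizer_le (fun y hy => hy.1))
    · exact ((Subgroup.le_centralizer_iff_isMulCommutative.2 hAc).trans
        (Subgroup.centralizer_le (fun y hy => hy.2))) ha
    · intro d hd
      constructor
      · have h1 : a * d⁻¹ * a⁻¹ ∈ Cfsg.dStar S := hDn.conj_mem _ (Subgroup.inv_mem _ hd) a
        have h2 : ⁅d, a⁆ = d * (a * d⁻¹ * a⁻¹) := by rw [commutatorElement_def]; group
        rw [h2]; exact Subgroup.mul_mem _ hd h1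
      · have h1 : d * a * d⁻¹ ∈ A := hAn.conj_mem _ ha d
        rw [commutatorElement_def]
        exact A.mul_mem h1 (A.inv_mem ha)
  rw [← centralizer_eq_of_maximal_normal_abelian hS A hAn hAc hmax]
  intro d hd
  rw [Subgroup.mem_centralizer_iff]
  intro a ha
  exact (hcen a ha d hd).symm

end Cfsg.Agent.Lib.Helper17
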