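/-
Helper lemmas (helper17): the `D*`-theorem of Glauberman–Solomon: in a `p`-stable group of
characteristic `p`, `D*(S)` is normal.
-/
import Cfsg.Agent.Lib.Helper17.DStar2
import Cfsg.Agent.Lib.Helper17.CharP
import Cfsg.Prelude.Def_PLocal
import Mathlib

set_option autoImplicit false

namespace Cfsg.Agent.Lib.Helper17

open scoped Pointwise commutatorElement

/-- Transport of the class-two commutator condition from a subgroup to the ambient group. -/
theorem gamma3_subgroupOf_iff {G : Type*} [Group G] (S A : Subgroup G) (hAS : A ≤ S) (x : ↥S) :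
    ⁅⁅A.subgroupOf S ⊔ Subgroup.zpowers x, A.subgroupOf S ⊔ Subgroup.zpowers x⁆,
        A.subgroupOf S ⊔ Subgroup.zpowers x⁆ = ⊥ ↔
      ⁅⁅A ⊔ Subgroup.zpowers (x : G), A ⊔ Subgroup.zpowers (x : G)⁆,
        A ⊔ Subgroup.zpowers (x : G)⁆ = ⊥ := by
  have hmap : (A.subgroupOf S ⊔ Subgroup.zpowers x).map S.subtype
      = A ⊔ Subgroup.zpowers (x : G) := by
    rw [Subgroup.map_sup, Subgroup.map_subgroupOf_eq_of_le hAS, MonoidHom.map_zpowers]
    rfl
  rw [← hmap, ← Subgroup.map_commutator, ← Subgroup.map_commutator,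
    Subgroup.map_eq_bot_iff_of_injective _ S.subtype_injective]

/-- Membership in the `D*`-family of a subgroup `S`, in ambient terms. -/
theorem subgroupOf_mem_dStarFamily_iff {G : Type*} [Group G] (S A : Subgroup G) (hAS : A ≤ S) :
    A.subgroupOf S ∈ Cfsg.dStarFamily ↥S ↔
      IsMulCommutative A ∧ ∀ x ∈ S,
        ⁅⁅A ⊔ Subgroup.zpowers x, A ⊔ Subgroup.zpowers x⁆, A ⊔ Subgroup.zpowers x⁆ = ⊥ →
          ∀ a ∈ A, a * x = x * a := by
  constructor
  · rintro ⟨h1, h2⟩
    refine ⟨?_, ?_⟩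
    · have := Subgroup.map_isMulCommutative (A.subgroupOf S) S.subtype
      rwa [Subgroup.map_subgroupOf_eq_of_le hAS] at this
    · intro x hx hg a ha
      have h3 := h2 ⟨x, hx⟩ ((gamma3_subgroupOf_iff S A hAS ⟨x, hx⟩).2 hg) ⟨a, hAS ha⟩
        (by rw [Subgroup.mem_subgroupOf]; exact ha)
      exact congrArg Subtype.val h3
  · rintro ⟨h1, h2⟩
    refine ⟨?_, ?_⟩
    · refine ⟨⟨fun a b => ?_⟩⟩
      apply Subtype.ext
      apply Subtype.ext
      have ha : ((a : ↥S) : G) ∈ A := a.2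
      have hb : ((b : ↥S) : G) ∈ A := b.2
      have := h1.is_comm.comm ⟨_, ha⟩ ⟨_, hb⟩
      have h4 := congrArg Subtype.val this
      simpa using h4
    · intro x hx a ha
      apply Subtype.ext
      rw [Subgroup.mem_subgroupOf] at ha
      exact h2 x x.2 ((gamma3_subgroupOf_iff S A hAS x).1 hx) a ha

theorem dStarOf_le {G : Type*} [Group G] (S : Subgroup G) : Cfsg.dStarOf S ≤ S := by
  unfold Cfsg.dStarOf
  exact Subgroup.map_subtype_le _

theorem dStarOf_subgroupOf {G : Type*} [Group G] (S : Subgroup G) :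
    (Cfsg.dStarOf S).subgroupOf S = Cfsg.dStar ↥S := by
  unfold Cfsg.dStarOf
  ext x
  rw [Subgroup.mem_subgroupOf]
  constructor
  · rintro ⟨y, hy, hxy⟩
    have : y = x := Subtype.ext hxy
    rwa [← this]
  · intro hx
    exact ⟨x, hx, rfl⟩

theorem le_normalizer_dStarOf {G : Type*} [Group G] (S : Subgroup G) :
    S ≤ Subgroup.normalizer (Cfsg.dStarOf S : Set G) := by
  have hn := dStar_normal ↥S
  intro s hs
  rw [Subgroup.mem_normalizer_iff]
  have key : ∀ t ∈ S, ∀ d ∈ Cfsg.dStarOf S, t * d * t⁻¹ ∈ Cfsg.dStarOf S := by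
    intro t ht d hd
    obtain ⟨d', hd', rfl⟩ := hd
    exact ⟨⟨t, ht⟩ * d' * ⟨t, ht⟩⁻¹, hn.conj_mem d' hd' ⟨t, ht⟩, rfl⟩
  intro d
  constructor
  · exact key s hs d
  · intro h
    have := key s⁻¹ (S.inv_mem hs) _ h
    simpa [mul_assoc] using this

/-- The properties of `D*(S)` in ambient terms, for a finite `p`-subgroup `S`. -/
theorem dStarOf_spec {G : Type*} [Group G] [Finite G] {p : ℕ} [Fact p.Prime] (S : Subgroup G)
    (hS : IsPGroup p S) :
    IsMulCommutative (Cfsg.dStarOf S) ∧ ∀ x ∈ S,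
      ⁅⁅Cfsg.dStarOf S ⊔ Subgroup.zpowers x, Cfsg.dStarOf S ⊔ Subgroup.zpowers x⁆,
        Cfsg.dStarOf S ⊔ Subgroup.zpowers x⁆ = ⊥ → ∀ a ∈ Cfsg.dStarOf S, a * x = x * a := by
  have h := dStar_mem_dStarFamily (S := ↥S) hS
  rw [← dStarOf_subgroupOf S] at h
  exact (subgroupOf_mem_dStarFamily_iff S (Cfsg.dStarOf S) (dStarOf_le S)).1 h

/-- Maximality of `D*(S)`. -/
theorem le_dStarOf {G : Type*} [Group G] (S A : Subgroup G) (hAS : A ≤ S)
    (hA : IsMulCommutative A) (h : ∀ x ∈ S,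
        ⁅⁅A ⊔ Subgroup.zpowers x, A ⊔ Subgroup.zpowers x⁆, A ⊔ Subgroup.zpowers x⁆ = ⊥ →
          ∀ a ∈ A, a * x = x * a) : A ≤ Cfsg.dStarOf S := by
  have h1 : A.subgroupOf S ∈ Cfsg.dStarFamily ↥S :=
    (subgroupOf_mem_dStarFamily_iff S A hAS).2 ⟨hA, h⟩
  have h2 : A.subgroupOf S ≤ Cfsg.dStar ↥S := le_sSup h1
  intro a ha
  exact ⟨⟨a, hAS ha⟩, h2 (by rw [Subgroup.mem_subgroupOf]; exact ha), rfl⟩

/-- `p`-stability: every conjugate of an element acting quadratically on a normal subgroup `V` is a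
product of an element of a given Sylow `p`-subgroup and an element centralizing `V`. -/
theorem exists_sylow_mul_centralizer_of_quadratic {G : Type*} [Group G] [Finite G] {p : ℕ}
    [Fact p.Prime] (V : Subgroup G) [V.Normal] (hV : Cfsg.IsPStableOn p V) (S : Sylow p G) (a g : G)
    (hquad : ⁅⁅V, Subgroup.zpowers a⁆, Subgroup.zpowers a⁆ = ⊥) :
    ∃ s ∈ (S : Subgroup G), ∃ c ∈ Subgroup.centralizer (V : Set G), g⁻¹ * a * g = s * c := by
  have h1 := hV a hquad
  have hsurj : Function.Surjective (QuotientGroup.mk' (Subgroup.centralizer (V : Set G))) :=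
    QuotientGroup.mk'_surjective _
  have h2 : Cfsg.pCore p (G ⧸ Subgroup.centralizer (V : Set G)) ≤
      ((S.mapSurjective hsurj : Sylow p (G ⧸ Subgroup.centralizer (V : Set G))) :
        Subgroup (G ⧸ Subgroup.centralizer (V : Set G))) := by
    apply sSup_le
    rintro N ⟨hN, hNp⟩
    have := hN
    exact hNp.le_sylow_of_normal _
  have hn := pCore_normal p (G ⧸ Subgroup.centralizer (V : Set G))
  have h3 := hn.conj_mem _ h1 ((g : G ⧸ Subgroup.centralizer (V : Set G)))⁻¹
  have h4 := h2 h3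
  rw [Sylow.coe_mapSurjective] at h4
  obtain ⟨s, hs, hsa⟩ := h4
  refine ⟨s, hs, s⁻¹ * (g⁻¹ * a * g), ?_, by group⟩
  apply QuotientGroup.eq.1
  rw [QuotientGroup.mk'_apply] at hsa
  rw [hsa]
  simp

/-- In a group of characteristic `p` whose action on `O_p(G)` is `p`-stable, an element acting
quadratically on `O_p(G)` lies in `O_p(G)`. -/
theorem mem_pCore_of_quadratic {G : Type*} [Group G] [Finite G] {p : ℕ} [Fact p.Prime]
    (hc : Subgroup.centralizer (Cfsg.pCore p G : Set G) ≤ Cfsg.pCore p G)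
    (hst : ∀ (P : Subgroup G) [P.Normal], IsPGroup p P → Cfsg.IsPStableOn p P) (a : G)
    (hquad : ⁅⁅Cfsg.pCore p G, Subgroup.zpowers a⁆, Subgroup.zpowers a⁆ = ⊥) :
    a ∈ Cfsg.pCore p G := by
  have hQn : (Cfsg.pCore p G).Normal := pCore_normal p G
  have hQp : IsPGroup p (Cfsg.pCore p G) := pCore_isPGroup p G
  have h1 := hst (Cfsg.pCore p G) hQp a hquad
  set C := Subgroup.centralizer (Cfsg.pCore p G : Set G) with hC
  have hn := pCore_normal p (G ⧸ C)
  have hp' := pCore_isPGroup p (G ⧸ C)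
  set T := (Cfsg.pCore p (G ⧸ C)).comap (QuotientGroup.mk' C) with hT
  have hTn : T.Normal := hn.comap _
  have hTp : IsPGroup p T := by
    rintro ⟨t, ht⟩
    rw [hT, Subgroup.mem_comap] at ht
    obtain ⟨k, hk⟩ := hp' ⟨_, ht⟩
    have hk' : ((QuotientGroup.mk' C) t) ^ (p ^ k) = 1 := by
      have := congrArg Subtype.val hk
      simpa using this
    rw [← map_pow, QuotientGroup.mk'_apply, QuotientGroup.eq_one_iff] at hk'
    obtain ⟨m, hm⟩ := hQp ⟨_, hc hk'⟩
    have hm' : (t ^ (p ^ k)) ^ (p ^ m) = 1 := by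
      have := congrArg Subtype.val hm
      simpa using this
    refine ⟨k + m, ?_⟩
    apply Subtype.ext
    show t ^ (p ^ (k + m)) = 1
    rw [pow_add, pow_mul]
    exact hm'
  exact le_pCore T hTn hTp (by rw [hT, Subgroup.mem_comap]; exact h1)

/-- **The `D*`-theorem** (Glauberman–Solomon). -/
theorem dStarOf_normal_of_pstable {G : Type*} [Group G] [Finite G] {p : ℕ} [Fact p.Prime]
    (hc : Subgroup.centralizer (Cfsg.pCore p G : Set G) ≤ Cfsg.pCore p G)
    (hst : ∀ (P : Subgroup G) [P.Normal], IsPGroup p P → Cfsg.IsPStableOn p P) (S : Sylow p G) :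
    (Cfsg.dStarOf (S : Subgroup G)).Normal := by
  set Q := Cfsg.pCore p G with hQdef
  have hQn : Q.Normal := pCore_normal p G
  have hQp : IsPGroup p Q := pCore_isPGroup p G
  have hQS : Q ≤ (S : Subgroup G) := hQp.le_sylow_of_normal S
  set D := Cfsg.dStarOf (S : Subgroup G) with hDdef
  have hDS : D ≤ (S : Subgroup G) := dStarOf_le _
  obtain ⟨hDab, hDstar⟩ := dStarOf_spec (S : Subgroup G) S.isPGroup'
  have hDn : (S : Subgroup G) ≤ Subgroup.normalizer (D : Set G) := le_normalizer_dStarOf _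
  have hDcen : D ≤ Subgroup.centralizer (D : Set G) :=
    Subgroup.le_centralizer_iff_isMulCommutative.2 hDab
  -- Step 1: `D ≤ Q`
  have hDQ : D ≤ Q := by
    intro a ha
    apply mem_pCore_of_quadratic hc hst
    have hza : Subgroup.zpowers a ≤ D := (Subgroup.zpowers_le).2 ha
    have h1 : ⁅Q, Subgroup.zpowers a⁆ ≤ D :=
      (Subgroup.commutator_mono hQS hza).trans
        ((Subgroup.le_normalizer_iff_commutator_le_right).1 hDn)
    rw [eq_bot_iff]
    calc ⁅⁅Q, Subgroup.zpowers a⁆, Subgroup.zpowers a⁆ ≤ ⁅D, D⁆ := Subgroup.commutator_mono h1 hza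
      _ = ⊥ := Subgroup.commutator_self_eq_bot_iff.2 hDab
  have hconjQ : ∀ g : G, D.map (MulAut.conj g).toMonoidHom ≤ Q := by
    intro g y hy
    obtain ⟨d, hd, rfl⟩ := hy
    exact hQn.conj_mem d (hDQ hd) g
  -- Step 2: `D` commutes with its conjugates
  have hstep2 : ∀ g : G, ∀ y ∈ D.map (MulAut.conj g).toMonoidHom, ∀ d ∈ D, d * y = y * d := by
    intro g y hy
    have hyS : y ∈ (S : Subgroup G) := hQS (hconjQ g hy)
    apply hDstar y hyS
    have hD'ab : IsMulCommutative (D.map (MulAut.conj g).toMonoidHom) :=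
      Subgroup.map_isMulCommutative D _
    apply class_two_sup_zpowers D hDab y (D ⊓ D.map (MulAut.conj g).toMonoidHom)
    · exact hDcen.trans (Subgroup.centralizer_le (fun z hz => hz.1))
    · exact ((Subgroup.le_centralizer_iff_isMulCommutative.2 hD'ab).trans
        (Subgroup.centralizer_le (fun z hz => hz.2))) hy
    · intro d hd
      refine Subgroup.mem_inf.mpr ⟨?_, ?_⟩
      · have h1 : y * d⁻¹ * y⁻¹ ∈ D := conj_mem_of_mem_normalizer (hDn hyS) (D.inv_mem hd)
        have h2 : ⁅d, y⁆ = d * (y * d⁻¹ * y⁻¹) := by rw [commutatorElement_def]; group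
        rw [h2]
        exact D.mul_mem hd h1
      · obtain ⟨y₀, hy₀, rfl⟩ := hy
        have hd' : g⁻¹ * d * g ∈ (S : Subgroup G) := by
          have := hQn.conj_mem d (hDQ hd) g⁻¹
          rw [inv_inv] at this
          exact hQS this
        have h1 : (g⁻¹ * d * g) * y₀ * (g⁻¹ * d * g)⁻¹ ∈ D :=
          conj_mem_of_mem_normalizer (hDn hd') hy₀
        have h3 : (g⁻¹ * d * g) * y₀ * (g⁻¹ * d * g)⁻¹ * y₀⁻¹ ∈ D := D.mul_mem h1 (D.inv_mem hy₀)
        refine ⟨_, h3, ?_⟩
        simp only [MulEquiv.coe_toMonoidHom, MulAut.conj_apply, commutatorElement_def]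
        group
  -- Step 3: the normal closure `E` of `D`
  set E : Subgroup G := ⨆ g : G, D.map (MulAut.conj g).toMonoidHom with hEdef
  have hEmap : ∀ h : G, E.map (MulAut.conj h).toMonoidHom ≤ E := by
    intro h
    rw [hEdef, Subgroup.map_iSup]
    apply iSup_le
    intro g
    rw [Subgroup.map_map]
    have : (MulAut.conj h).toMonoidHom.comp (MulAut.conj g).toMonoidHom
        = (MulAut.conj (h * g)).toMonoidHom := by
      ext z
      simp [mul_assoc]
    rw [this]
    exact le_iSup (fun g : G => D.map (MulAut.conj g).toMonoidHom) (h * g)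
  have hEn : E.Normal := ⟨fun n hn h => hEmap h ⟨n, hn, by simp⟩⟩
  have hDE : D ≤ E := by
    intro d hd
    exact (le_iSup (fun g : G => D.map (MulAut.conj g).toMonoidHom) 1) ⟨d, hd, by simp⟩
  have hEQ : E ≤ Q := iSup_le hconjQ
  have hES : E ≤ (S : Subgroup G) := hEQ.trans hQS
  have hEp : IsPGroup p E := hQp.to_le hEQ
  have hEcen : E ≤ Subgroup.centralizer (E : Set G) := by
    apply iSup_le
    intro g
    rw [Subgroup.le_centralizer_iff]
    apply iSup_le
    intro g' y' hy'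
    rw [Subgroup.mem_centralizer_iff]
    rintro y hy
    obtain ⟨d, hd, rfl⟩ := hy
    obtain ⟨d', hd', rfl⟩ := hy'
    have h1 : (MulAut.conj (g⁻¹ * g')).toMonoidHom d' ∈
        D.map (MulAut.conj (g⁻¹ * g')).toMonoidHom := ⟨d', hd', rfl⟩
    have h2 := hstep2 (g⁻¹ * g') _ h1 d hd
    simp only [MulEquiv.coe_toMonoidHom, MulAut.conj_apply] at h2 ⊢
    have h3 : g * (d * (g⁻¹ * g' * d' * (g⁻¹ * g')⁻¹)) * g⁻¹
        = g * ((g⁻¹ * g' * d' * (g⁻¹ * g')⁻¹) * d) * g⁻¹ := by rw [h2]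
    calc g * d * g⁻¹ * (g' * d' * g'⁻¹)
        = g * (d * (g⁻¹ * g' * d' * (g⁻¹ * g')⁻¹)) * g⁻¹ := by group
      _ = g * ((g⁻¹ * g' * d' * (g⁻¹ * g')⁻¹) * d) * g⁻¹ := h3
      _ = g' * d' * g'⁻¹ * (g * d * g⁻¹) := by group
  have hEab : IsMulCommutative E := Subgroup.le_centralizer_iff_isMulCommutative.1 hEcen
  -- Step 4: `E` has the defining property
  have hEstar : ∀ x ∈ (S : Subgroup G),
      ⁅⁅E ⊔ Subgroup.zpowers x, E ⊔ Subgroup.zpowers x⁆, E ⊔ Subgroup.zpowers x⁆ = ⊥ →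
        ∀ e ∈ E, e * x = x * e := by
    intro x hxS hx3
    have hquad : ⁅⁅E, Subgroup.zpowers x⁆, Subgroup.zpowers x⁆ = ⊥ := by
      rw [eq_bot_iff, ← hx3]
      exact Subgroup.commutator_mono (Subgroup.commutator_mono le_sup_left le_sup_right)
        le_sup_right
    have hq1 : ∀ e ∈ E, x * ⁅e, x⁆ = ⁅e, x⁆ * x := by
      intro e he
      have h1 : ⁅e, x⁆ ∈ ⁅E, Subgroup.zpowers x⁆ :=
        Subgroup.commutator_mem_commutator he (Subgroup.mem_zpowers x)
      have h2 : ⁅⁅e, x⁆, x⁆ ∈ ⁅⁅E, Subgroup.zpowers x⁆, Subgroup.zpowers x⁆ :=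
        Subgroup.commutator_mem_commutator h1 (Subgroup.mem_zpowers x)
      rw [hquad, Subgroup.mem_bot, commutatorElement_eq_one_iff_mul_comm] at h2
      exact h2.symm
    suffices h : ∀ g : G, D.map (MulAut.conj g).toMonoidHom ≤
        Subgroup.centralizer ({x} : Set G) by
      have h' : E ≤ Subgroup.centralizer ({x} : Set G) := iSup_le h
      intro e he
      have := h' he
      rw [Subgroup.mem_centralizer_iff] at this
      exact (this x rfl).symm
    intro g y hy
    obtain ⟨d, hd, rfl⟩ := hy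
    obtain ⟨s, hs, c, hcC, hx'⟩ :=
      exists_sylow_mul_centralizer_of_quadratic E (hst E hEp) S x g hquad
    rw [Subgroup.mem_centralizer_iff] at hcC
    -- the conjugate `x' = g⁻¹ x g` acts quadratically, too
    have hq2 : ∀ e ∈ E, (g⁻¹ * x * g) * ⁅e, g⁻¹ * x * g⁆ = ⁅e, g⁻¹ * x * g⁆ * (g⁻¹ * x * g) := by
      intro e he
      have he' : g * e * g⁻¹ ∈ E := hEn.conj_mem e he g
      have hw := hq1 _ he'
      have h1 : ⁅e, g⁻¹ * x * g⁆ = g⁻¹ * ⁅g * e * g⁻¹, x⁆ * g := by
        simp only [commutatorElement_def]; group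
      rw [h1]
      calc g⁻¹ * x * g * (g⁻¹ * ⁅g * e * g⁻¹, x⁆ * g)
          = g⁻¹ * (x * ⁅g * e * g⁻¹, x⁆) * g := by group
        _ = g⁻¹ * (⁅g * e * g⁻¹, x⁆ * x) * g := by rw [hw]
        _ = g⁻¹ * ⁅g * e * g⁻¹, x⁆ * g * (g⁻¹ * x * g) := by group
    -- `s` centralizes `D`
    have hsD : ∀ d ∈ D, d * s = s * d := by
      apply hDstar s hs
      apply class_two_sup_zpowers D hDab s (E ⊓ Subgroup.centralizer ({g⁻¹ * x * g} : Set G))
      · exact (hDE.trans hEcen).trans (Subgroup.centralizer_le (fun z hz => hz.1))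
      · rw [Subgroup.mem_centralizer_iff]
        intro m hm
        have hm1 : m ∈ E := hm.1
        have hm2 : m ∈ Subgroup.centralizer ({g⁻¹ * x * g} : Set G) := hm.2
        rw [Subgroup.mem_centralizer_iff] at hm2
        have hm3 : g⁻¹ * x * g * m = m * (g⁻¹ * x * g) := hm2 _ rfl
        have hm4 : m * c = c * m := hcC m hm1
        rw [hx'] at hm3
        -- s * c * m = m * (s * c)
        have : (m * s) * c = (s * m) * c := by
          calc (m * s) * c = m * (s * c) := by group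
            _ = s * c * m := hm3.symm
            _ = s * (c * m) := by group
            _ = s * (m * c) := by rw [hm4]
            _ = (s * m) * c := by group
        exact mul_right_cancel this
      · intro d hd
        have hdE : d ∈ E := hDE hd
        have h1 : ⁅d, s⁆ = ⁅d, g⁻¹ * x * g⁆ := by
          rw [hx']
          have hc1 : d⁻¹ * c = c * d⁻¹ := hcC _ (E.inv_mem hdE)
          simp only [commutatorElement_def]
          symm
          calc d * (s * c) * d⁻¹ * (s * c)⁻¹ = d * s * (c * d⁻¹) * c⁻¹ * s⁻¹ := by group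
            _ = d * s * (d⁻¹ * c) * c⁻¹ * s⁻¹ := by rw [hc1]
            _ = d * s * d⁻¹ * s⁻¹ := by group
        rw [h1]
        refine Subgroup.mem_inf.mpr ⟨?_, ?_⟩
        · have h2 : (g⁻¹ * x * g) * d⁻¹ * (g⁻¹ * x * g)⁻¹ ∈ E :=
            hEn.conj_mem _ (E.inv_mem hdE) _
          have h3 : ⁅d, g⁻¹ * x * g⁆ = d * ((g⁻¹ * x * g) * d⁻¹ * (g⁻¹ * x * g)⁻¹) := by
            rw [commutatorElement_def]; group
          rw [h3]
          exact E.mul_mem hdE h2
        · rw [Subgroup.mem_centralizer_iff]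
          intro z hz
          rw [Set.mem_singleton_iff] at hz
          subst hz
          exact hq2 d hdE
    -- hence `x' = s c` centralizes `D`
    have hx'd : d * (g⁻¹ * x * g) = (g⁻¹ * x * g) * d := by
      rw [hx']
      have h1 := hsD d hd
      have h2 : d * c = c * d := hcC d (hDE hd)
      calc d * (s * c) = (d * s) * c := by group
        _ = (s * d) * c := by rw [h1]
        _ = s * (d * c) := by group
        _ = s * (c * d) := by rw [h2]
        _ = s * c * d := by group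
    rw [Subgroup.mem_centralizer_iff]
    intro z hz
    rw [Set.mem_singleton_iff] at hz
    subst hz
    simp only [MulEquiv.coe_toMonoidHom, MulAut.conj_apply]
    calc z * (g * d * g⁻¹) = g * ((g⁻¹ * z * g) * d) * g⁻¹ := by group
      _ = g * (d * (g⁻¹ * z * g)) * g⁻¹ := by rw [hx'd]
      _ = g * d * g⁻¹ * z := by group
  -- Step 5: conclusion
  have hED : E ≤ D := le_dStarOf (S : Subgroup G) E hES hEab hEstar
  have : D = E := le_antisymm hDE hED
  rw [this]
  exact hEn

end Cfsg.Agent.Lib.Helper17
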