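/-
Helper lemmas (helper17): the stable normal closure `W(S)` (Def_PLocal): `W(S)` belongs to its own
defining family; no element of `S` acts quadratically and nontrivially on `W(S)`.
-/
import Cfsg.Agent.Lib.Helper17.DStar3
import Cfsg.Agent.Lib.Helper4.StableNC4

set_option autoImplicit false

namespace Cfsg.Agent.Lib.Helper17

open scoped commutatorElement
open Cfsg.Agent.Lib.Helper4

universe u

/-- Elementwise form of quadratic action. -/
theorem quad_elementwise {G : Type*} [Group G] (V : Subgroup G) (z : G) :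
    ⁅⁅V, Subgroup.zpowers z⁆, Subgroup.zpowers z⁆ = ⊥ ↔ ∀ v ∈ V, z * ⁅v, z⁆ = ⁅v, z⁆ * z := by
  constructor
  · intro h v hv
    have h1 : ⁅v, z⁆ ∈ ⁅V, Subgroup.zpowers z⁆ :=
      Subgroup.commutator_mem_commutator hv (Subgroup.mem_zpowers z)
    have h2 : ⁅⁅v, z⁆, z⁆ ∈ ⁅⁅V, Subgroup.zpowers z⁆, Subgroup.zpowers z⁆ :=
      Subgroup.commutator_mem_commutator h1 (Subgroup.mem_zpowers z)
    rw [h, Subgroup.mem_bot, commutatorElement_eq_one_iff_mul_comm] at h2
    exact h2.symm
  · intro h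
    rw [Subgroup.commutator_eq_bot_iff_le_centralizer]
    have hK : Subgroup.centralizer ((Subgroup.zpowers z : Subgroup G) : Set G)
        = Subgroup.centralizer ({z} : Set G) := by
      rw [Subgroup.zpowers_eq_closure, Subgroup.centralizer_closure]
    rw [hK]
    -- elements of `zpowers z` commute with the centralizer of `z`
    have hzK : ∀ y ∈ Subgroup.zpowers z, ∀ k ∈ Subgroup.centralizer ({z} : Set G),
        y * k * y⁻¹ = k := by
      intro y hy k hk
      have h1 : Subgroup.zpowers z ≤ Subgroup.centralizer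
          ((Subgroup.centralizer ({z} : Set G) : Subgroup G) : Set G) := by
        rw [Subgroup.zpowers_le, Subgroup.mem_centralizer_iff]
        intro k' hk'
        rw [SetLike.mem_coe, Subgroup.mem_centralizer_iff] at hk'
        exact (hk' z rfl).symm
      have h2 := h1 hy
      rw [Subgroup.mem_centralizer_iff] at h2
      have h3 := h2 k hk
      rw [← h3]; group
    rw [Subgroup.commutator_le]
    intro v hv y hy
    rw [Subgroup.zpowers_eq_closure] at hy
    induction hy using Subgroup.closure_induction with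
    | mem y hy =>
      rw [Set.mem_singleton_iff] at hy
      subst hy
      rw [Subgroup.mem_centralizer_iff]
      intro w hw
      rw [Set.mem_singleton_iff] at hw
      subst hw
      exact h v hv
    | one => rw [commutatorElement_one_right]; exact Subgroup.one_mem _
    | mul y₁ y₂ hy₁ hy₂ ih₁ ih₂ =>
      rw [← Subgroup.zpowers_eq_closure] at hy₁
      rw [commutatorElement_mul_right_eq_mul_conj]
      have : ⁅v, y₁⁆ * y₁ * ⁅v, y₂⁆ * y₁⁻¹ = ⁅v, y₁⁆ * (y₁ * ⁅v, y₂⁆ * y₁⁻¹) := by group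
      rw [this, hzK y₁ hy₁ _ ih₂]
      exact Subgroup.mul_mem _ ih₁ ih₂
    | inv y hy ih =>
      rw [← Subgroup.zpowers_eq_closure] at hy
      rw [commutatorElement_inv_right, ← commutatorElement_inv]
      have h1 := hzK y⁻¹ (Subgroup.inv_mem _ hy) _ (Subgroup.inv_mem _ ih)
      rw [inv_inv] at h1
      rw [h1]
      exact Subgroup.inv_mem _ ih

/-- `W(S)` belongs to its own defining family. -/
theorem stableNormalClosure_mem_stableFamily {S : Type u} [Group S] [Finite S] (p : ℕ) :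
    Cfsg.stableNormalClosure p S ∈ stableFamily p S := by
  refine ⟨omegaOne_center_le_stableNormalClosure, ?_⟩
  intro H _ τ hτ
  refine ⟨fun n hn h => ?_⟩
  obtain ⟨w, hw, rfl⟩ := hn
  have h0 := (omegaCenterThompson_mem_stableFamily (p := p) (S := S)).2 H τ hτ
  have hw0 : w ∈ Cfsg.omegaCenterThompson p S := stableNormalClosure_le_omegaCenterThompson hw
  obtain ⟨w₀, -, hw₀⟩ := h0.conj_mem _ ⟨w, hw0, rfl⟩ h
  have hw' : w ∈ Cfsg.stableNormalClosure p S := hw
  have hgoal : w₀ ∈ Cfsg.stableNormalClosure p S := ?_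
  · exact ⟨w₀, hgoal, hw₀⟩
  rw [stableNormalClosure_eq, Subgroup.mem_sInf]
  intro W' hW'
  have hwW' : w ∈ W' := by
    have := hw'
    rw [stableNormalClosure_eq, Subgroup.mem_sInf] at this
    exact this W' hW'
  obtain ⟨w', hw', hw'eq⟩ := (hW'.2 H τ hτ).conj_mem _ ⟨w, hwW', rfl⟩ h
  have : w' = w₀ := hτ.1 (hw'eq.trans hw₀.symm)
  rw [← this]; exact hw'

/-- Elementwise quadratic action on a normal subgroup passes to conjugates of the acting element. -/
theorem quad_conj {G : Type*} [Group G] (V : Subgroup G) [hVn : V.Normal] (x g : G)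
    (h : ∀ v ∈ V, x * ⁅v, x⁆ = ⁅v, x⁆ * x) :
    ∀ v ∈ V, (g⁻¹ * x * g) * ⁅v, g⁻¹ * x * g⁆ = ⁅v, g⁻¹ * x * g⁆ * (g⁻¹ * x * g) := by
  intro e he
  have he' : g * e * g⁻¹ ∈ V := hVn.conj_mem e he g
  have hw := h _ he'
  have h1 : ⁅e, g⁻¹ * x * g⁆ = g⁻¹ * ⁅g * e * g⁻¹, x⁆ * g := by
    simp only [commutatorElement_def]; group
  rw [h1]
  calc g⁻¹ * x * g * (g⁻¹ * ⁅g * e * g⁻¹, x⁆ * g)
      = g⁻¹ * (x * ⁅g * e * g⁻¹, x⁆) * g := by group
    _ = g⁻¹ * (⁅g * e * g⁻¹, x⁆ * x) * g := by rw [hw]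
    _ = g⁻¹ * ⁅g * e * g⁻¹, x⁆ * g * (g⁻¹ * x * g) := by group

/-- If `z = s * c` with `c` centralizing the normal subgroup `V` and `z` acts quadratically on `V`,
then `s` induces the same commutators and acts quadratically. -/
theorem quad_of_mul_centralizer {G : Type*} [Group G] (V : Subgroup G) [hVn : V.Normal]
    (z s c : G) (hz : z = s * c) (hc : ∀ v ∈ V, v * c = c * v)
    (hquad : ∀ v ∈ V, z * ⁅v, z⁆ = ⁅v, z⁆ * z) :
    ∀ v ∈ V, ⁅v, s⁆ = ⁅v, z⁆ ∧ s * ⁅v, s⁆ = ⁅v, s⁆ * s := by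
  intro d hd
  have h1 : ⁅d, s⁆ = ⁅d, z⁆ := by
    rw [hz]
    have hc1 : d⁻¹ * c = c * d⁻¹ := hc _ (V.inv_mem hd)
    simp only [commutatorElement_def]
    symm
    calc d * (s * c) * d⁻¹ * (s * c)⁻¹ = d * s * (c * d⁻¹) * c⁻¹ * s⁻¹ := by group
      _ = d * s * (d⁻¹ * c) * c⁻¹ * s⁻¹ := by rw [hc1]
      _ = d * s * d⁻¹ * s⁻¹ := by group
  refine ⟨h1, ?_⟩
  rw [h1]
  have h2 : ⁅d, z⁆ ∈ V := by
    have h3 : z * d⁻¹ * z⁻¹ ∈ V := hVn.conj_mem _ (V.inv_mem hd) _
    have h4 : ⁅d, z⁆ = d * (z * d⁻¹ * z⁻¹) := by rw [commutatorElement_def]; group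
    rw [h4]; exact V.mul_mem hd h3
  have h5 : ⁅d, z⁆ * c = c * ⁅d, z⁆ := hc _ h2
  have h6 := hquad d hd
  have hs : s = z * c⁻¹ := by rw [hz]; group
  rw [hs]
  have h7 : c⁻¹ * ⁅d, z⁆ = ⁅d, z⁆ * c⁻¹ := by
    calc c⁻¹ * ⁅d, z⁆ = c⁻¹ * (⁅d, z⁆ * c) * c⁻¹ := by group
      _ = c⁻¹ * (c * ⁅d, z⁆) * c⁻¹ := by rw [h5]
      _ = ⁅d, z⁆ * c⁻¹ := by group
  calc z * c⁻¹ * ⁅d, z⁆ = z * (c⁻¹ * ⁅d, z⁆) := by group
    _ = z * (⁅d, z⁆ * c⁻¹) := by rw [h7]
    _ = (z * ⁅d, z⁆) * c⁻¹ := by group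
    _ = (⁅d, z⁆ * z) * c⁻¹ := by rw [h6]
    _ = ⁅d, z⁆ * (z * c⁻¹) := by group

/-- Quadratic action implies trivial action. -/
def QuadTriv {S : Type*} [Group S] (U : Subgroup S) : Prop :=
  ∀ y : S, (∀ u ∈ U, y * ⁅u, y⁆ = ⁅u, y⁆ * y) → ∀ u ∈ U, u * y = y * u

/-- No element of a finite `p`-group acts quadratically and nontrivially on `W(S)`. -/
theorem quadTriv_stableNormalClosure {S : Type u} [Group S] [Finite S] {p : ℕ} [Fact p.Prime]
    (hS : IsPGroup p S) : QuadTriv (Cfsg.stableNormalClosure p S) := by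
  classical
  set W := Cfsg.stableNormalClosure p S with hWdef
  let 𝒯 : Set (Subgroup S) :=
    {U | Cfsg.omegaOne p (Subgroup.center S) ≤ U ∧ U ≤ W ∧ QuadTriv U}
  have h0 : Cfsg.omegaOne p (Subgroup.center S) ∈ 𝒯 := by
    refine ⟨le_rfl, omegaOne_center_le_stableNormalClosure, ?_⟩
    intro y _ u hu
    have hle : Cfsg.omegaOne p (Subgroup.center S) ≤ Subgroup.center S := by
      unfold Cfsg.omegaOne
      rw [Subgroup.closure_le]
      intro z hz
      exact hz.1
    have := hle hu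
    rw [Subgroup.mem_center_iff] at this
    exact (this y).symm
  obtain ⟨U, hU, hmax⟩ := Set.exists_max_image 𝒯 (fun U => Nat.card U) (Set.toFinite 𝒯) ⟨_, h0⟩
  have hUfam : U ∈ stableFamily p S := by
    refine ⟨hU.1, ?_⟩
    intro H _ τ hτ
    by_contra hnn
    have hHfin : Finite H := hτ.2.1
    set V := Subgroup.normalClosure ((U.map τ : Subgroup H) : Set H) with hVdef
    have hVn : V.Normal := Subgroup.normalClosure_normal
    have hWn : (W.map τ).Normal := (stableNormalClosure_mem_stableFamily p).2 H τ hτ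
    have hUV : U.map τ ≤ V := Subgroup.le_normalClosure
    have hVW : V ≤ W.map τ := Subgroup.normalClosure_le_normal (Subgroup.map_mono hU.2.1)
    set U' := V.comap τ with hU'def
    have hU'map : U'.map τ = V := by
      rw [hU'def, Subgroup.map_comap_eq, inf_eq_right]
      exact hVW.trans (Subgroup.map_le_range τ W)
    have hUU' : U ≤ U' := by rw [hU'def, ← Subgroup.map_le_iff_le_comap]; exact hUV
    have hU'W : U' ≤ W := by
      intro u hu
      obtain ⟨w, hw, hwu⟩ := hVW hu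
      rw [← hτ.1 hwu]; exact hw
    have hU'Q : QuadTriv U' := by
      intro y hy
      have hq1 : ∀ v ∈ V, τ y * ⁅v, τ y⁆ = ⁅v, τ y⁆ * τ y := by
        intro v hv
        rw [← hU'map] at hv
        obtain ⟨u, hu, rfl⟩ := hv
        have h1 := congrArg τ (hy u hu)
        simpa [map_commutatorElement] using h1
      have hquadV : ⁅⁅V, Subgroup.zpowers (τ y)⁆, Subgroup.zpowers (τ y)⁆ = ⊥ :=
        (quad_elementwise V (τ y)).2 hq1
      have hstab : Cfsg.IsPStableOn p V :=
        hτ.2.2.2.2.2 V (hVW.trans (Subgroup.map_mono stableNormalClosure_le_omegaCenterThompson))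
      obtain ⟨P, hP⟩ := hτ.2.2.1
      have key : ∀ g : H, ∀ u ∈ U, (g * τ u * g⁻¹) * τ y = τ y * (g * τ u * g⁻¹) := by
        intro g u hu
        obtain ⟨s, hs, c, hcC, hsc⟩ :=
          exists_sylow_mul_centralizer_of_quadratic V hstab P (τ y) g hquadV
        rw [hP] at hs
        obtain ⟨y', rfl⟩ := hs
        rw [Subgroup.mem_centralizer_iff] at hcC
        have hz := quad_conj V (τ y) g hq1
        have hsq := quad_of_mul_centralizer V (g⁻¹ * τ y * g) (τ y') c hsc hcC hz
        have hy' : ∀ u ∈ U, y' * ⁅u, y'⁆ = ⁅u, y'⁆ * y' := by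
          intro u hu
          apply hτ.1
          have := (hsq (τ u) (hUV ⟨u, hu, rfl⟩)).2
          simpa [map_commutatorElement] using this
        have hcent : u * y' = y' * u := hU.2.2 y' hy' u hu
        have h1 : τ u * τ y' = τ y' * τ u := by rw [← map_mul, hcent, map_mul]
        have h2 : τ u * c = c * τ u := hcC _ (hUV ⟨u, hu, rfl⟩)
        have h3 : τ u * (g⁻¹ * τ y * g) = (g⁻¹ * τ y * g) * τ u := by
          rw [hsc]
          calc τ u * (τ y' * c) = (τ u * τ y') * c := by group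
            _ = (τ y' * τ u) * c := by rw [h1]
            _ = τ y' * (τ u * c) := by group
            _ = τ y' * (c * τ u) := by rw [h2]
            _ = τ y' * c * τ u := by group
        calc g * τ u * g⁻¹ * τ y = g * (τ u * (g⁻¹ * τ y * g)) * g⁻¹ := by group
          _ = g * ((g⁻¹ * τ y * g) * τ u) * g⁻¹ := by rw [h3]
          _ = τ y * (g * τ u * g⁻¹) := by group
      have hVc : V ≤ Subgroup.centralizer ({τ y} : Set H) := by
        rw [hVdef, Subgroup.normalClosure, Subgroup.closure_le]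
        intro a ha
        rw [Group.mem_conjugatesOfSet_iff] at ha
        obtain ⟨b, hb, hba⟩ := ha
        obtain ⟨u, hu, rfl⟩ := hb
        rw [isConj_iff] at hba
        obtain ⟨g, rfl⟩ := hba
        rw [SetLike.mem_coe, Subgroup.mem_centralizer_iff]
        intro w hw
        rw [Set.mem_singleton_iff] at hw
        subst hw
        exact (key g u hu).symm
      intro u hu
      apply hτ.1
      rw [map_mul, map_mul]
      have h1 : τ u ∈ V := hu
      have h2 := hVc h1
      rw [Subgroup.mem_centralizer_iff] at h2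
      exact (h2 (τ y) rfl).symm
    have hU'mem : U' ∈ 𝒯 := ⟨hU.1.trans hUU', hU'W, hU'Q⟩
    have hcard : Nat.card U' ≤ Nat.card U := hmax U' hU'mem
    have hEq : U = U' := Subgroup.eq_of_le_of_card_ge hUU' hcard
    apply hnn
    rw [hEq, hU'map]
    exact hVn
  have hWU : W ≤ U := by
    rw [hWdef, stableNormalClosure_eq]
    exact sInf_le hUfam
  have hUW : U = W := le_antisymm hU.2.1 hWU
  rw [← hUW]
  exact hU.2.2

end Cfsg.Agent.Lib.Helper17
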