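import Mathlib
import Cfsg.Agent.Lib.Helper17.Basic
import Cfsg.Agent.Lib.Helper17.Card
import Cfsg.Agent.Lib.Helper17.ChermakDelgado

/-!
helper17: a Chermak–Delgado style measure with real exponent, for subgroups `B` acting on a subgroup `V`:
`wcd V α B = |B|^α * |C_V(B)|`.
-/

set_option autoImplicit false

namespace Cfsg.Agent.Lib.Helper17

/-- The weighted measure `|B|^α * |C_V(B)|`. -/
noncomputable def wcd {X : Type*} [Group X] (V : Subgroup X) (α : ℝ) (B : Subgroup X) : ℝ :=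
  (Nat.card B : ℝ) ^ α * (Nat.card ↥(V ⊓ Subgroup.centralizer (B : Set X)) : ℝ)

theorem wcd_pos {X : Type*} [Group X] [Finite X] (V : Subgroup X) (α : ℝ) (B : Subgroup X) :
    0 < wcd V α B := by
  unfold wcd
  have h1 : (0 : ℝ) < (Nat.card B : ℝ) := by exact_mod_cast Nat.card_pos
  have h2 : (0 : ℝ) < (Nat.card ↥(V ⊓ Subgroup.centralizer (B : Set X)) : ℝ) := by
    exact_mod_cast Nat.card_pos
  exact mul_pos (Real.rpow_pos_of_pos h1 α) h2

theorem wcd_bot {X : Type*} [Group X] (V : Subgroup X) (α : ℝ) :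
    wcd V α ⊥ = (Nat.card V : ℝ) := by
  unfold wcd
  have : Subgroup.centralizer (((⊥ : Subgroup X) : Subgroup X) : Set X) = ⊤ := by
    rw [Subgroup.centralizer_eq_top_iff_subset]
    intro x hx
    have hx1 : x = 1 := by simpa using hx
    rw [hx1]
    exact Subgroup.one_mem _
  rw [this, inf_top_eq, Subgroup.card_bot, Nat.cast_one, Real.one_rpow, one_mul]

/-- The Chermak–Delgado inequality for the weighted measure. -/
theorem wcd_mul_le {X : Type*} [Group X] [Finite X] (V : Subgroup X) {α : ℝ} (hα : 0 ≤ α)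
    (B C : Subgroup X) :
    wcd V α B * wcd V α C ≤ wcd V α (B ⊔ C) * wcd V α (B ⊓ C) := by
  have h1 : (Nat.card B : ℝ) * (Nat.card C : ℝ) ≤
      (Nat.card ↥(B ⊔ C) : ℝ) * (Nat.card ↥(B ⊓ C) : ℝ) := by
    exact_mod_cast card_mul_card_le_card_sup_mul_card_inf B C
  have h1' : (Nat.card B : ℝ) ^ α * (Nat.card C : ℝ) ^ α ≤
      (Nat.card ↥(B ⊔ C) : ℝ) ^ α * (Nat.card ↥(B ⊓ C) : ℝ) ^ α := by
    rw [← Real.mul_rpow (Nat.cast_nonneg _) (Nat.cast_nonneg _),
      ← Real.mul_rpow (Nat.cast_nonneg _) (Nat.cast_nonneg _)]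
    exact Real.rpow_le_rpow (by positivity) h1 hα
  have h2 : (Nat.card ↥(V ⊓ Subgroup.centralizer (B : Set X)) : ℝ) *
      (Nat.card ↥(V ⊓ Subgroup.centralizer (C : Set X)) : ℝ) ≤
      (Nat.card ↥(V ⊓ Subgroup.centralizer ((B ⊔ C : Subgroup X) : Set X)) : ℝ) *
      (Nat.card ↥(V ⊓ Subgroup.centralizer ((B ⊓ C : Subgroup X) : Set X)) : ℝ) := by
    have h := card_mul_card_le_card_sup_mul_card_inf (V ⊓ Subgroup.centralizer (B : Set X))
      (V ⊓ Subgroup.centralizer (C : Set X))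
    have e1 : (V ⊓ Subgroup.centralizer (B : Set X)) ⊓ (V ⊓ Subgroup.centralizer (C : Set X)) =
        V ⊓ Subgroup.centralizer ((B ⊔ C : Subgroup X) : Set X) := by
      rw [centralizer_sup_eq]
      exact (inf_inf_distrib_left _ _ _).symm
    have e2 : (V ⊓ Subgroup.centralizer (B : Set X)) ⊔ (V ⊓ Subgroup.centralizer (C : Set X)) ≤
        V ⊓ Subgroup.centralizer ((B ⊓ C : Subgroup X) : Set X) :=
      sup_le (inf_le_inf_left _ (Subgroup.centralizer_le (fun x hx => hx.1)))
        (inf_le_inf_left _ (Subgroup.centralizer_le (fun x hx => hx.2)))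
    rw [e1] at h
    have h' := h.trans (Nat.mul_le_mul_right _ (Subgroup.card_le_of_le e2))
    have h'' : Nat.card ↥(V ⊓ Subgroup.centralizer (B : Set X)) *
        Nat.card ↥(V ⊓ Subgroup.centralizer (C : Set X)) ≤
        Nat.card ↥(V ⊓ Subgroup.centralizer ((B ⊔ C : Subgroup X) : Set X)) *
        Nat.card ↥(V ⊓ Subgroup.centralizer ((B ⊓ C : Subgroup X) : Set X)) := by
      rw [mul_comm (Nat.card ↥(V ⊓ Subgroup.centralizer ((B ⊔ C : Subgroup X) : Set X)))]
      exact h'
    exact_mod_cast h''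
  unfold wcd
  have h3 := mul_le_mul h1' h2 (by positivity) (by positivity)
  calc (Nat.card B : ℝ) ^ α * (Nat.card ↥(V ⊓ Subgroup.centralizer (B : Set X)) : ℝ) *
        ((Nat.card C : ℝ) ^ α * (Nat.card ↥(V ⊓ Subgroup.centralizer (C : Set X)) : ℝ))
      = (Nat.card B : ℝ) ^ α * (Nat.card C : ℝ) ^ α *
        ((Nat.card ↥(V ⊓ Subgroup.centralizer (B : Set X)) : ℝ) *
          (Nat.card ↥(V ⊓ Subgroup.centralizer (C : Set X)) : ℝ)) := by ring
    _ ≤ _ := h3
    _ = _ := by ring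

/-- The weighted measure is invariant under conjugation by elements normalizing `V`. -/
theorem wcd_map_conj {X : Type*} [Group X] [Finite X] (V : Subgroup X) (α : ℝ) (B : Subgroup X)
    {g : X} (hg : g ∈ Subgroup.normalizer (V : Set X)) :
    wcd V α (B.map (MulAut.conj g).toMonoidHom) = wcd V α B := by
  unfold wcd
  have hV : V.map (MulAut.conj g).toMonoidHom = V :=
    (Subgroup.mem_normalizer_iff_map_conj_eq.mp hg)
  have e : V ⊓ Subgroup.centralizer ((B.map (MulAut.conj g).toMonoidHom : Subgroup X) : Set X) =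
      (V ⊓ Subgroup.centralizer (B : Set X)).map (MulAut.conj g).toMonoidHom := by
    rw [Subgroup.map_inf _ _ _ (MulAut.conj g).injective, hV, centralizer_map_equiv]
  rw [e, card_map_equiv, card_map_equiv]

end Cfsg.Agent.Lib.Helper17
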