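/-
Helper lemmas (helper17): the Timmesfeld replacement theorem.  For `A` acting (by conjugation, with
abelian image) on an abelian subgroup `V`, the measure `tm V B = |B| * |C_V(B)|`; if no subgroup of `A`
has larger measure than `A` then for every `U ≤ V`, `A* = C_A([U, A])` has the same measure and
`C_V(A*) = [U, A] C_V(A)`.
-/
import Cfsg.Agent.Lib.Helper17.RealCD

set_option autoImplicit false

namespace Cfsg.Agent.Lib.Helper17

open scoped commutatorElement

/-- The measure `|B| * |C_V(B)|`. -/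
noncomputable def tm {G : Type*} [Group G] (V B : Subgroup G) : ℕ :=
  Nat.card B * Nat.card ↥(V ⊓ Subgroup.centralizer (B : Set G))

theorem tm_pos {G : Type*} [Group G] [Finite G] (V B : Subgroup G) : 0 < tm V B :=
  Nat.mul_pos Nat.card_pos Nat.card_pos

theorem tm_cent_mul_le {G : Type*} [Group G] [Finite G] (V B C : Subgroup G) :
    Nat.card ↥(V ⊓ Subgroup.centralizer (B : Set G)) *
        Nat.card ↥(V ⊓ Subgroup.centralizer (C : Set G)) ≤
      Nat.card ↥((V ⊓ Subgroup.centralizer (B : Set G)) ⊔ (V ⊓ Subgroup.centralizer (C : Set G))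
        : Subgroup G) *
      Nat.card ↥(V ⊓ Subgroup.centralizer ((B ⊔ C : Subgroup G) : Set G)) := by
  have h := card_mul_card_le_card_sup_mul_card_inf (V ⊓ Subgroup.centralizer (B : Set G))
    (V ⊓ Subgroup.centralizer (C : Set G))
  have e1 : (V ⊓ Subgroup.centralizer (B : Set G)) ⊓ (V ⊓ Subgroup.centralizer (C : Set G)) =
      V ⊓ Subgroup.centralizer ((B ⊔ C : Subgroup G) : Set G) := by
    rw [centralizer_sup_eq]
    exact (inf_inf_distrib_left _ _ _).symm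
  rw [e1] at h
  exact h

theorem tm_cent_sup_le {G : Type*} [Group G] (V B C : Subgroup G) :
    (V ⊓ Subgroup.centralizer (B : Set G)) ⊔ (V ⊓ Subgroup.centralizer (C : Set G)) ≤
      V ⊓ Subgroup.centralizer ((B ⊓ C : Subgroup G) : Set G) :=
  sup_le (inf_le_inf_left _ (Subgroup.centralizer_le (fun x hx => hx.1)))
    (inf_le_inf_left _ (Subgroup.centralizer_le (fun x hx => hx.2)))

/-- Subgroups of maximal measure are closed under intersection, and `C_V` turns the intersection into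
the join. -/
theorem tm_inf_of_best {G : Type*} [Group G] [Finite G] (V A B C : Subgroup G) (M : ℕ)
    (hbest : ∀ X : Subgroup G, X ≤ A → tm V X ≤ M) (hB : B ≤ A) (hC : C ≤ A)
    (hBM : tm V B = M) (hCM : tm V C = M) :
    tm V (B ⊓ C) = M ∧ V ⊓ Subgroup.centralizer ((B ⊓ C : Subgroup G) : Set G) =
      (V ⊓ Subgroup.centralizer (B : Set G)) ⊔ (V ⊓ Subgroup.centralizer (C : Set G)) := by
  have h1 := card_mul_card_le_card_sup_mul_card_inf B C
  have h2 := tm_cent_mul_le V B C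
  have h3 : Nat.card ↥((V ⊓ Subgroup.centralizer (B : Set G)) ⊔
      (V ⊓ Subgroup.centralizer (C : Set G)) : Subgroup G) ≤
      Nat.card ↥(V ⊓ Subgroup.centralizer ((B ⊓ C : Subgroup G) : Set G)) :=
    Subgroup.card_le_of_le (tm_cent_sup_le V B C)
  have hs : tm V (B ⊔ C) ≤ M := hbest _ (sup_le hB hC)
  have hi : tm V (B ⊓ C) ≤ M := hbest _ (inf_le_left.trans hB)
  have hMpos : 0 < M := by rw [← hBM]; exact tm_pos V B
  unfold tm at hBM hCM hs hi ⊢
  set b := Nat.card B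
  set c := Nat.card C
  set s := Nat.card ↥(B ⊔ C : Subgroup G)
  set i := Nat.card ↥(B ⊓ C : Subgroup G)
  set cb := Nat.card ↥(V ⊓ Subgroup.centralizer (B : Set G))
  set cc := Nat.card ↥(V ⊓ Subgroup.centralizer (C : Set G))
  set cs := Nat.card ↥(V ⊓ Subgroup.centralizer ((B ⊔ C : Subgroup G) : Set G))
  set ci := Nat.card ↥(V ⊓ Subgroup.centralizer ((B ⊓ C : Subgroup G) : Set G))
  set cj := Nat.card ↥((V ⊓ Subgroup.centralizer (B : Set G)) ⊔
      (V ⊓ Subgroup.centralizer (C : Set G)) : Subgroup G)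
  have hspos : 0 < s := Nat.card_pos
  have hipos : 0 < i := Nat.card_pos
  have hcspos : 0 < cs := Nat.card_pos
  have hcipos : 0 < ci := Nat.card_pos
  -- M * M = (b*cb)*(c*cc) ≤ (s*i)*(cj*cs) ≤ (s*i)*(ci*cs) = (s*cs)*(i*ci) ≤ M*M
  have e1 : M * M = (b * c) * (cb * cc) := by
    calc M * M = (b * cb) * (c * cc) := by rw [hBM, hCM]
      _ = _ := by ring
  have e2 : (b * c) * (cb * cc) ≤ (s * i) * (cj * cs) := Nat.mul_le_mul h1 h2
  have e3 : (s * i) * (cj * cs) ≤ (s * i) * (ci * cs) :=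
    Nat.mul_le_mul_left _ (Nat.mul_le_mul_right _ h3)
  have e4 : (s * i) * (ci * cs) = (s * cs) * (i * ci) := by ring
  have e5 : (s * cs) * (i * ci) ≤ M * M := Nat.mul_le_mul hs hi
  have e6 : (s * cs) * (i * ci) = M * M := by
    apply le_antisymm e5
    rw [e1, ← e4]; exact e2.trans e3
  have e7 : (s * i) * (cj * cs) = (s * i) * (ci * cs) := by
    apply le_antisymm e3
    rw [e4, e6, e1]; exact e2
  constructor
  · by_contra hne
    have hlt : i * ci < M := lt_of_le_of_ne hi hne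
    have : (s * cs) * (i * ci) < M * M := by
      calc (s * cs) * (i * ci) ≤ M * (i * ci) := Nat.mul_le_mul_right _ hs
        _ < M * M := Nat.mul_lt_mul_of_pos_left hlt hMpos
    omega
  · symm
    apply Subgroup.eq_of_le_of_card_ge (tm_cent_sup_le V B C)
    have e8 : cj * cs = ci * cs := Nat.eq_of_mul_eq_mul_left (Nat.mul_pos hspos hipos) e7
    have e9 : cj = ci := Nat.eq_of_mul_eq_mul_right hcspos e8
    exact e9.ge

/-- Fibre counting: if `f` maps `A` into `W` and `f a ≡ f b mod W₀` forces `a ≡ b mod A₀`, then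
`|A : A₀| ≤ |W : W₀|`, in the form `|A| |W₀| ≤ |A₀| |W|`. -/
theorem card_mul_le_of_fibres {G : Type*} [Group G] [Finite G] (A A₀ W W₀ : Subgroup G)
    (hA : A₀ ≤ A) (hW : W₀ ≤ W) (f : G → G) (hf : ∀ a ∈ A, f a ∈ W)
    (hfib : ∀ a ∈ A, ∀ b ∈ A, (f a)⁻¹ * f b ∈ W₀ → a⁻¹ * b ∈ A₀) :
    Nat.card A * Nat.card W₀ ≤ Nat.card A₀ * Nat.card W := by
  have hinj : Function.Injective (fun q : ↥A ⧸ A₀.subgroupOf A =>
      (QuotientGroup.mk (⟨f (q.out : G), hf _ q.out.2⟩ : ↥W) : ↥W ⧸ W₀.subgroupOf W)) := by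
    intro q q' h
    simp only at h
    rw [QuotientGroup.eq] at h
    have h1 : (f (q.out : G))⁻¹ * f (q'.out : G) ∈ W₀ := by
      simpa [Subgroup.mem_subgroupOf] using h
    have h2 := hfib _ q.out.2 _ q'.out.2 h1
    have h3 : (QuotientGroup.mk q.out : ↥A ⧸ A₀.subgroupOf A) = QuotientGroup.mk q'.out := by
      rw [QuotientGroup.eq, Subgroup.mem_subgroupOf]; simpa using h2
    rwa [QuotientGroup.out_eq', QuotientGroup.out_eq'] at h3
  have hle := Nat.card_le_card_of_injective _ hinj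
  have e1 : Nat.card A = Nat.card (↥A ⧸ A₀.subgroupOf A) * Nat.card (A₀.subgroupOf A) :=
    Subgroup.card_eq_card_quotient_mul_card_subgroup _
  have e2 : Nat.card W = Nat.card (↥W ⧸ W₀.subgroupOf W) * Nat.card (W₀.subgroupOf W) :=
    Subgroup.card_eq_card_quotient_mul_card_subgroup _
  have e3 : Nat.card (A₀.subgroupOf A) = Nat.card A₀ :=
    Nat.card_congr (Subgroup.subgroupOfEquivOfLe hA).toEquiv
  have e4 : Nat.card (W₀.subgroupOf W) = Nat.card W₀ :=
    Nat.card_congr (Subgroup.subgroupOfEquivOfLe hW).toEquiv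
  rw [e1, e2, e3, e4]
  calc Nat.card (↥A ⧸ A₀.subgroupOf A) * Nat.card A₀ * Nat.card W₀
      ≤ Nat.card (↥W ⧸ W₀.subgroupOf W) * Nat.card A₀ * Nat.card W₀ := by gcongr
    _ = Nat.card A₀ * (Nat.card (↥W ⧸ W₀.subgroupOf W) * Nat.card W₀) := by ring

/-- `A` acts by conjugation on the abelian subgroup `V`, with abelian image. -/
structure AbAct {G : Type*} [Group G] (V A : Subgroup G) : Prop where
  comm : ∀ x ∈ V, ∀ y ∈ V, x * y = y * x
  norm : A ≤ Subgroup.normalizer (V : Set G)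
  ab : ⁅A, A⁆ ≤ Subgroup.centralizer (V : Set G)

namespace AbAct

variable {G : Type*} [Group G] {V A : Subgroup G}

theorem conj_mem (h : AbAct V A) {a v : G} (ha : a ∈ A) (hv : v ∈ V) : a * v * a⁻¹ ∈ V :=
  conj_mem_of_mem_normalizer (h.norm ha) hv

theorem comm_mem (h : AbAct V A) {a v : G} (ha : a ∈ A) (hv : v ∈ V) : ⁅v, a⁆ ∈ V := by
  have h1 : ⁅v, a⁆ = v * (a * v⁻¹ * a⁻¹) := by rw [commutatorElement_def]; group
  rw [h1]
  exact V.mul_mem hv (h.conj_mem ha (V.inv_mem hv))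

theorem comm_mul (h : AbAct V A) {a x y : G} (ha : a ∈ A) (hx : x ∈ V) (hy : y ∈ V) :
    ⁅x * y, a⁆ = ⁅x, a⁆ * ⁅y, a⁆ := by
  have h1 : a * x⁻¹ * a⁻¹ ∈ V := h.conj_mem ha (V.inv_mem hx)
  have h2 : ⁅y, a⁆ ∈ V := h.comm_mem ha hy
  have h3 := h.comm _ h2 _ h1
  calc ⁅x * y, a⁆ = x * (⁅y, a⁆ * (a * x⁻¹ * a⁻¹)) := by
        simp only [commutatorElement_def]; group
    _ = x * ((a * x⁻¹ * a⁻¹) * ⁅y, a⁆) := by rw [h3]
    _ = ⁅x, a⁆ * ⁅y, a⁆ := by simp only [commutatorElement_def]; group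

theorem conj_conj (h : AbAct V A) {a b v : G} (ha : a ∈ A) (hb : b ∈ A) (hv : v ∈ V) :
    (a * b) * v * (a * b)⁻¹ = (b * a) * v * (b * a)⁻¹ := by
  have hw : (b * a) * v * (b * a)⁻¹ ∈ V := h.conj_mem (A.mul_mem hb ha) hv
  have hc : ⁅a, b⁆ ∈ Subgroup.centralizer (V : Set G) :=
    h.ab (Subgroup.commutator_mem_commutator ha hb)
  have h1 := Subgroup.mem_centralizer_iff.mp hc _ hw
  calc (a * b) * v * (a * b)⁻¹ = ⁅a, b⁆ * ((b * a) * v * (b * a)⁻¹) * ⁅a, b⁆⁻¹ := by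
        simp only [commutatorElement_def]; group
    _ = ((b * a) * v * (b * a)⁻¹) * ⁅a, b⁆ * ⁅a, b⁆⁻¹ := by rw [h1]
    _ = (b * a) * v * (b * a)⁻¹ := by group

theorem conj_comm (h : AbAct V A) {d a u : G} (hd : d ∈ A) (ha : a ∈ A) (hu : u ∈ V) :
    d * ⁅u, a⁆ * d⁻¹ = ⁅d * u * d⁻¹, a⁆ := by
  have h1 := h.conj_conj hd ha (V.inv_mem hu)
  calc d * ⁅u, a⁆ * d⁻¹ = d * u * d⁻¹ * ((d * a) * u⁻¹ * (d * a)⁻¹) := by
        simp only [commutatorElement_def]; group
    _ = d * u * d⁻¹ * ((a * d) * u⁻¹ * (a * d)⁻¹) := by rw [h1]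
    _ = ⁅d * u * d⁻¹, a⁆ := by simp only [commutatorElement_def]; group

/-- If `⁅u, d⁆ ∈ C_V(A)` then `d` centralizes every `⁅u, a⁆`. -/
theorem conj_comm_eq_of_comm_mem (h : AbAct V A) {d u : G} (hd : d ∈ A) (hu : u ∈ V)
    (hc : ⁅u, d⁆ ∈ V ⊓ Subgroup.centralizer (A : Set G)) {a : G} (ha : a ∈ A) :
    d * ⁅u, a⁆ * d⁻¹ = ⁅u, a⁆ := by
  obtain ⟨c, hcdef⟩ : ∃ c, c = ⁅u, d⁆ := ⟨_, rfl⟩
  rw [← hcdef] at hc
  have hcV : c ∈ V := hc.1
  have hca : a * c = c * a := Subgroup.mem_centralizer_iff.mp hc.2 a ha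
  have h1 : d * u * d⁻¹ = c⁻¹ * u := by rw [hcdef, commutatorElement_def]; group
  have h2 : ⁅c⁻¹, a⁆ = 1 := by
    rw [commutatorElement_def, inv_inv]
    calc c⁻¹ * a * c * a⁻¹ = c⁻¹ * (a * c) * a⁻¹ := by group
      _ = 1 := by rw [hca]; group
  rw [h.conj_comm hd ha hu, h1, h.comm_mul ha (V.inv_mem hcV) hu, h2, one_mul]

/-- The fibre condition. -/
theorem comm_inv_mul_mem (h : AbAct V A) {a b u : G} (ha : a ∈ A)
    (hc : (⁅u, a⁆)⁻¹ * ⁅u, b⁆ ∈ V ⊓ Subgroup.centralizer (A : Set G)) :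
    ⁅u, a⁻¹ * b⁆ ∈ V ⊓ Subgroup.centralizer (A : Set G) := by
  obtain ⟨c, hcdef⟩ : ∃ c, c = (⁅u, a⁆)⁻¹ * ⁅u, b⁆ := ⟨_, rfl⟩
  rw [← hcdef] at hc
  have hca : a * c = c * a := Subgroup.mem_centralizer_iff.mp hc.2 a ha
  have h1 : ⁅u, a⁻¹ * b⁆ = a⁻¹ * c * a := by
    rw [hcdef]; simp only [commutatorElement_def]; group
  have h2 : a⁻¹ * c * a = c := by
    calc a⁻¹ * c * a = a⁻¹ * (c * a) := by group
      _ = c := by rw [← hca]; group
  rw [h1, h2]
  exact hc

end AbAct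

/-- The generating set of `[T, A]` for a set `T`. -/
def commSet {G : Type*} [Group G] (T : Set G) (A : Subgroup G) : Set G :=
  {g | ∃ u ∈ T, ∃ a ∈ A, ⁅u, a⁆ = g}

theorem commSet_subset {G : Type*} [Group G] {V A : Subgroup G} (h : AbAct V A) {T : Set G}
    (hT : T ⊆ V) : commSet T A ⊆ V := by
  rintro _ ⟨u, hu, a, ha, rfl⟩
  exact h.comm_mem ha (hT hu)

/-- Single element step of the Timmesfeld replacement theorem. -/
theorem tm_step {G : Type*} [Group G] [Finite G] {V A : Subgroup G} (h : AbAct V A)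
    (hbest : ∀ X : Subgroup G, X ≤ A → tm V X ≤ tm V A) {u : G} (hu : u ∈ V) :
    tm V (A ⊓ Subgroup.centralizer (Subgroup.closure (commSet {u} A) : Set G)) = tm V A ∧
    V ⊓ Subgroup.centralizer
        ((A ⊓ Subgroup.centralizer (Subgroup.closure (commSet {u} A) : Set G) : Subgroup G) : Set G) =
      Subgroup.closure (commSet {u} A) ⊔ (V ⊓ Subgroup.centralizer (A : Set G)) := by
  obtain ⟨Xu, hXu⟩ : ∃ Xu, Xu = Subgroup.closure (commSet {u} A) := ⟨_, rfl⟩
  rw [← hXu]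
  obtain ⟨Au, hAu⟩ : ∃ Au, Au = A ⊓ Subgroup.centralizer (Xu : Set G) := ⟨_, rfl⟩
  rw [← hAu]
  obtain ⟨CA, hCA⟩ : ∃ CA, CA = V ⊓ Subgroup.centralizer (A : Set G) := ⟨_, rfl⟩
  rw [← hCA]
  have hgen : ∀ a ∈ A, ⁅u, a⁆ ∈ Xu := by
    intro a ha
    rw [hXu]
    exact Subgroup.subset_closure ⟨u, rfl, a, ha, rfl⟩
  have hXuV : Xu ≤ V := by
    rw [hXu, Subgroup.closure_le]
    exact commSet_subset h (by simpa using hu)
  -- membership in `Au`
  have hmemAu : ∀ d ∈ A, ⁅u, d⁆ ∈ CA → d ∈ Au := by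
    intro d hd hc
    rw [hAu]
    refine Subgroup.mem_inf.mpr ⟨hd, ?_⟩
    rw [Subgroup.mem_centralizer_iff]
    have hle : Xu ≤ Subgroup.centralizer ({d} : Set G) := by
      rw [hXu, Subgroup.closure_le]
      rintro _ ⟨u', hu', a, ha, rfl⟩
      have hu'' : u' = u := by simpa using hu'
      rw [hu'']
      rw [SetLike.mem_coe, Subgroup.mem_centralizer_singleton_iff]
      have := h.conj_comm_eq_of_comm_mem hd hu (by rw [← hCA]; exact hc) ha
      calc ⁅u, a⁆ * d = (d * ⁅u, a⁆ * d⁻¹)* d := by rw [this]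
        _ = d * ⁅u, a⁆ := by group
    intro x hx
    have := Subgroup.mem_centralizer_singleton_iff.mp (hle hx)
    exact this
  have h1 : Nat.card A * Nat.card CA ≤ Nat.card Au * Nat.card ↥(Xu ⊔ CA : Subgroup G) := by
    apply card_mul_le_of_fibres A Au (Xu ⊔ CA) CA (by rw [hAu]; exact inf_le_left) le_sup_right
      (fun a => ⁅u, a⁆)
    · intro a ha
      exact Subgroup.mem_sup_left (hgen a ha)
    · intro a ha b hb hc
      apply hmemAu _ (A.mul_mem (A.inv_mem ha) hb)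
      rw [hCA]
      exact h.comm_inv_mul_mem ha (by rw [← hCA]; exact hc)
  have h2 : Xu ⊔ CA ≤ V ⊓ Subgroup.centralizer (Au : Set G) := by
    apply sup_le
    · apply le_inf hXuV
      rw [Subgroup.le_centralizer_iff, hAu]
      exact inf_le_right
    · rw [hCA]
      apply inf_le_inf_left
      apply Subgroup.centralizer_le
      rw [hAu]
      exact fun x hx => hx.1
  have h3 : Nat.card ↥(Xu ⊔ CA : Subgroup G) ≤
      Nat.card ↥(V ⊓ Subgroup.centralizer (Au : Set G)) := Subgroup.card_le_of_le h2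
  have h4 : tm V Au ≤ tm V A := hbest Au (by rw [hAu]; exact inf_le_left)
  have hpos : 0 < Nat.card Au := Nat.card_pos
  unfold tm at h4 ⊢
  rw [← hCA] at h4 ⊢
  have h5 : Nat.card Au * Nat.card ↥(Xu ⊔ CA : Subgroup G) ≤
      Nat.card Au * Nat.card ↥(V ⊓ Subgroup.centralizer (Au : Set G)) :=
    Nat.mul_le_mul_left _ h3
  constructor
  · omega
  · symm
    apply Subgroup.eq_of_le_of_card_ge h2
    have h6 : Nat.card Au * Nat.card ↥(V ⊓ Subgroup.centralizer (Au : Set G)) ≤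
        Nat.card Au * Nat.card ↥(Xu ⊔ CA : Subgroup G) := by omega
    exact Nat.le_of_mul_le_mul_left h6 hpos

theorem commSet_insert {G : Type*} [Group G] (u : G) (T : Set G) (A : Subgroup G) :
    commSet (insert u T) A = commSet {u} A ∪ commSet T A := by
  ext g
  constructor
  · rintro ⟨v, hv, a, ha, rfl⟩
    rcases hv with rfl | hv
    · left; exact ⟨v, rfl, a, ha, rfl⟩
    · right; exact ⟨v, hv, a, ha, rfl⟩
  · rintro (⟨v, hv, a, ha, rfl⟩ | ⟨v, hv, a, ha, rfl⟩)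
    · exact ⟨v, Or.inl hv, a, ha, rfl⟩
    · exact ⟨v, Or.inr hv, a, ha, rfl⟩

theorem centralizer_bot_eq_top {G : Type*} [Group G] :
    Subgroup.centralizer (((⊥ : Subgroup G) : Subgroup G) : Set G) = ⊤ := by
  rw [Subgroup.centralizer_eq_top_iff_subset]
  intro x hx
  have hx1 : x = 1 := by simpa using hx
  rw [hx1]
  exact Subgroup.one_mem _

/-- The Timmesfeld replacement theorem for a finite set of elements of `V`. -/
theorem tm_finset {G : Type*} [Group G] [Finite G] {V A : Subgroup G} (h : AbAct V A)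
    (hbest : ∀ X : Subgroup G, X ≤ A → tm V X ≤ tm V A) (T : Finset G) (hT : ∀ u ∈ T, u ∈ V) :
    tm V (A ⊓ Subgroup.centralizer (Subgroup.closure (commSet (↑T) A) : Set G)) = tm V A ∧
    V ⊓ Subgroup.centralizer
        ((A ⊓ Subgroup.centralizer (Subgroup.closure (commSet (↑T) A) : Set G) : Subgroup G) : Set G) =
      Subgroup.closure (commSet (↑T) A) ⊔ (V ⊓ Subgroup.centralizer (A : Set G)) := by
  classical
  induction T using Finset.induction_on with
  | empty =>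
    have he : commSet (↑(∅ : Finset G)) A = ∅ := by
      ext g; simp [commSet]
    rw [he, Subgroup.closure_empty, centralizer_bot_eq_top, inf_top_eq, bot_sup_eq]
    exact ⟨rfl, rfl⟩
  | insert u T hu ih =>
    have ih' := ih (fun v hv => hT v (Finset.mem_insert_of_mem hv))
    have hu' := hT u (Finset.mem_insert_self u T)
    have hstep := tm_step h hbest hu'
    rw [Finset.coe_insert, commSet_insert, Subgroup.closure_union, centralizer_sup_eq,
      inf_inf_distrib_left]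
    obtain ⟨r1, r2⟩ := tm_inf_of_best V A _ _ (tm V A) hbest inf_le_left inf_le_left hstep.1 ih'.1
    refine ⟨r1, ?_⟩
    rw [r2, hstep.2, ih'.2, ← sup_sup_distrib_right]

/-- The Timmesfeld replacement theorem. -/
theorem timmesfeld_replacement {G : Type*} [Group G] [Finite G] {V A : Subgroup G} (h : AbAct V A)
    (hbest : ∀ X : Subgroup G, X ≤ A → tm V X ≤ tm V A) (U : Subgroup G) (hU : U ≤ V) :
    tm V (A ⊓ Subgroup.centralizer ((⁅U, A⁆ : Subgroup G) : Set G)) = tm V A ∧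
    V ⊓ Subgroup.centralizer
        ((A ⊓ Subgroup.centralizer ((⁅U, A⁆ : Subgroup G) : Set G) : Subgroup G) : Set G) =
      ⁅U, A⁆ ⊔ (V ⊓ Subgroup.centralizer (A : Set G)) := by
  classical
  have hfin : (U : Set G).Finite := Set.toFinite _
  have key := tm_finset h hbest hfin.toFinset (fun u hu => hU (by simpa using hu))
  have hX : Subgroup.closure (commSet (↑hfin.toFinset) A) = ⁅U, A⁆ := by
    rw [Subgroup.commutator_def]
    congr 1
    ext g
    simp [commSet]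
  rw [hX] at key
  exact key

/-- If `d ∈ A` centralizes every `⁅v, a⁆` (`a ∈ A`) then `⁅v, d⁆ ∈ C_V(A)`. -/
theorem AbAct.comm_mem_of_conj_comm_eq {G : Type*} [Group G] {V A : Subgroup G} (h : AbAct V A)
    {d v : G} (hd : d ∈ A) (hv : v ∈ V) (hc : ∀ a ∈ A, d * ⁅v, a⁆ * d⁻¹ = ⁅v, a⁆) :
    ⁅v, d⁆ ∈ V ⊓ Subgroup.centralizer (A : Set G) := by
  obtain ⟨w, hw⟩ : ∃ w, w = (d * v * d⁻¹) * v⁻¹ := ⟨_, rfl⟩
  have hwV : w ∈ V := by rw [hw]; exact V.mul_mem (h.conj_mem hd hv) (V.inv_mem hv)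
  have h1 : d * v * d⁻¹ = w * v := by rw [hw]; group
  have h2 : ⁅v, d⁆ = w⁻¹ := by rw [hw, commutatorElement_def]; group
  rw [h2]
  refine Subgroup.mem_inf.mpr ⟨V.inv_mem hwV, ?_⟩
  apply Subgroup.inv_mem
  rw [Subgroup.mem_centralizer_iff]
  intro a ha
  have h3 := hc a ha
  rw [h.conj_comm hd ha hv, h1, h.comm_mul ha hwV hv] at h3
  have h4 : ⁅w, a⁆ = 1 := mul_right_cancel (b := ⁅v, a⁆) (by rw [h3, one_mul])
  rw [commutatorElement_def] at h4
  calc a * w = (w * a * w⁻¹ * a⁻¹)⁻¹ * (w * a) := by group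
    _ = w * a := by rw [h4]; group

/-- A `p`-group `A` normalizing a `p`-group `X` with `X ≤ [X, A]` forces `X = 1`. -/
theorem eq_bot_of_le_commutator {G : Type*} [Group G] [Finite G] {p : ℕ} [Fact p.Prime]
    (X A : Subgroup G) (hX : IsPGroup p X) (hA : IsPGroup p A)
    (hAX : A ≤ Subgroup.normalizer (X : Set G)) (h : X ≤ ⁅X, A⁆) : X = ⊥ := by
  have hP : IsPGroup p (X ⊔ A : Subgroup G) := IsPGroup.to_sup_of_normal_left' hX hA hAX
  have hnil : Group.IsNilpotent ↥(X ⊔ A) := hP.isNilpotent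
  obtain ⟨n, H, ⟨hH0, hH⟩, hn⟩ := (Subgroup.nilpotent_iff_finite_descending_central_series _).mp hnil
  have key : ∀ k : ℕ, ∀ x (hx : x ∈ X),
      (⟨x, (le_sup_left : X ≤ X ⊔ A) hx⟩ : ↥(X ⊔ A)) ∈ H k := by
    intro k
    induction k with
    | zero => intro x hx; rw [hH0]; exact Subgroup.mem_top _
    | succ k ih =>
      have hle : X ≤ (H (k + 1)).map (X ⊔ A).subtype := by
        refine h.trans ?_
        rw [Subgroup.commutator_le]
        intro x hx a ha
        refine ⟨⁅(⟨x, (le_sup_left : X ≤ X ⊔ A) hx⟩ : ↥(X ⊔ A)),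
          ⟨a, (le_sup_right : A ≤ X ⊔ A) ha⟩⁆, hH _ k (ih x hx) _, ?_⟩
        simp [commutatorElement_def]
      intro x hx
      obtain ⟨y, hy, hyx⟩ := hle hx
      have : y = ⟨x, (le_sup_left : X ≤ X ⊔ A) hx⟩ := Subtype.ext hyx
      rw [← this]; exact hy
  rw [eq_bot_iff]
  intro x hx
  have h1 := key n x hx
  rw [hn, Subgroup.mem_bot] at h1
  rw [Subgroup.mem_bot]
  exact congrArg Subtype.val h1

end Cfsg.Agent.Lib.Helper17
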