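/-
Helper lemmas (helper17): towards the `W(S)`-analogue of the ZJ-theorem for action-`p`-stable groups.
Part 1: Burnside's lemma on `Q/Φ(Q)`; the kernel of the action on `O_p(G)/Φ(O_p(G))` is a `p`-group
in a group of characteristic `p`; elements acting quadratically on `O_p(G)` lie in `O_p(G)`.
-/
import Cfsg.Agent.Lib.Helper17.StableNC
import Cfsg.Agent.Lib.Helper17.CoprimeGen
import Cfsg.Agent.Lib.Helper17.Timmesfeld
import Cfsg.Agent.Lib.Helper27.ZJ3

set_option autoImplicit false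

namespace Cfsg.Agent.Lib.Helper17

open scoped commutatorElement

/-- Membership in the kernel of the action on a section, elementwise. -/
theorem mem_sectionKernel_iff {G : Type*} [Group G] (K N : Subgroup G) [hN : N.Normal] (g : G) :
    g ∈ Cfsg.sectionKernel K N ↔ ∀ k ∈ K, ⁅k, g⁆ ∈ N := by
  unfold Cfsg.sectionKernel
  rw [Subgroup.mem_comap, Subgroup.mem_centralizer_iff]
  constructor
  · intro h k hk
    have h1 := h _ (Subgroup.mem_map_of_mem (QuotientGroup.mk' N) hk)
    rw [← QuotientGroup.eq_one_iff, commutatorElement_def]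
    simp only [QuotientGroup.mk'_apply] at h1
    simp only [QuotientGroup.mk_mul, QuotientGroup.mk_inv]
    rw [h1]; group
  · rintro h _ ⟨k, hk, rfl⟩
    have h1 := h k hk
    rw [← QuotientGroup.eq_one_iff, commutatorElement_def] at h1
    simp only [QuotientGroup.mk_mul, QuotientGroup.mk_inv] at h1
    simp only [QuotientGroup.mk'_apply]
    calc (k : G ⧸ N) * (g : G ⧸ N)
        = ((k : G ⧸ N) * (g : G ⧸ N) * (k : G ⧸ N)⁻¹ * (g : G ⧸ N)⁻¹) * ((g : G ⧸ N) * (k : G ⧸ N)) := by
          group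
      _ = (g : G ⧸ N) * (k : G ⧸ N) := by rw [h1, one_mul]

/-- **Burnside**: a subgroup `A` of order prime to `|Q|` normalizing `Q` and acting trivially on
`Q/Φ(Q)` centralizes `Q`. -/
theorem le_centralizer_of_commutator_le_frattini {G : Type*} [Group G] [Finite G] (Q A : Subgroup G)
    (hAQ : A ≤ Subgroup.normalizer (Q : Set G)) (hcop : (Nat.card A).Coprime (Nat.card Q))
    (hsolv : Group.IsSolvable A ∨ Group.IsSolvable Q)
    (h : ⁅Q, A⁆ ≤ (frattini ↥Q).map Q.subtype) : Q ≤ Subgroup.centralizer (A : Set G) := by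
  have h1 := le_centralizer_sup_commutator A Q hAQ hcop hsolv
  have h2 : Q ≤ (Q ⊓ Subgroup.centralizer (A : Set G)) ⊔ (frattini ↥Q).map Q.subtype :=
    h1.trans (sup_le_sup_left h _)
  have h3 : (Q ⊓ Subgroup.centralizer (A : Set G)).subgroupOf Q ⊔ frattini ↥Q = ⊤ := by
    rw [eq_top_iff]
    intro x _
    have hx := h2 x.2
    have hmap : ((Q ⊓ Subgroup.centralizer (A : Set G)).subgroupOf Q ⊔ frattini ↥Q).map Q.subtype
        = (Q ⊓ Subgroup.centralizer (A : Set G)) ⊔ (frattini ↥Q).map Q.subtype := by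
      rw [Subgroup.map_sup, Subgroup.map_subgroupOf_eq_of_le inf_le_left]
    rw [← hmap] at hx
    obtain ⟨y, hy, hyx⟩ := hx
    have : y = x := Subtype.ext hyx
    rwa [← this]
  have h4 := frattini_nongenerating h3
  intro x hx
  have h5 : (⟨x, hx⟩ : ↥Q) ∈ (Q ⊓ Subgroup.centralizer (A : Set G)).subgroupOf Q := by
    rw [h4]; exact Subgroup.mem_top _
  rw [Subgroup.mem_subgroupOf] at h5
  exact h5.2

/-- In a group of characteristic `p`, the kernel of the action on `O_p(G)/Φ(O_p(G))` is a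
`p`-group. -/
theorem isPGroup_sectionKernel_frattini {G : Type*} [Group G] [Finite G] {p : ℕ} [Fact p.Prime]
    (hc : Subgroup.centralizer (Cfsg.pCore p G : Set G) ≤ Cfsg.pCore p G) :
    IsPGroup p (Cfsg.sectionKernel (Cfsg.pCore p G)
      ((frattini ↥(Cfsg.pCore p G)).map (Cfsg.pCore p G).subtype)) := by
  have hQp : IsPGroup p (Cfsg.pCore p G) := pCore_isPGroup p G
  apply isPGroup_of_pprime_trivial
  intro a ha hcop
  -- `A = ⟨a⟩` acts trivially on `Q/Φ(Q)`
  have hA : Subgroup.zpowers a ≤ Cfsg.sectionKernel (Cfsg.pCore p G)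
      ((frattini ↥(Cfsg.pCore p G)).map (Cfsg.pCore p G).subtype) := by
    rw [Subgroup.zpowers_le]; exact ha
  have hcomm : ⁅Cfsg.pCore p G, Subgroup.zpowers a⁆ ≤
      (frattini ↥(Cfsg.pCore p G)).map (Cfsg.pCore p G).subtype := by
    rw [Subgroup.commutator_le]
    intro k hk y hy
    exact (mem_sectionKernel_iff _ _ y).1 (hA hy) k hk
  have hnorm : Subgroup.zpowers a ≤ Subgroup.normalizer ((Cfsg.pCore p G : Subgroup G) : Set G) := by
    rw [Subgroup.normalizer_eq_top]; exact le_top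
  obtain ⟨m, hm⟩ := IsPGroup.iff_card.1 hQp
  have hcop' : (Nat.card (Subgroup.zpowers a)).Coprime (Nat.card (Cfsg.pCore p G)) := by
    rw [Nat.card_zpowers, hm]
    exact Nat.Coprime.pow_right m hcop
  have hsolv : Group.IsSolvable (Subgroup.zpowers a) ∨ Group.IsSolvable (Cfsg.pCore p G) :=
    Or.inl inferInstance
  have h1 := le_centralizer_of_commutator_le_frattini (Cfsg.pCore p G) (Subgroup.zpowers a) hnorm
    hcop' hsolv hcomm
  have h2 : a ∈ Subgroup.centralizer (Cfsg.pCore p G : Set G) := by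
    have := Subgroup.le_centralizer_iff.1 h1 (Subgroup.mem_zpowers a)
    exact this
  have h3 : a ∈ Cfsg.pCore p G := hc h2
  have h4 : orderOf a ∣ Nat.card ↥(Cfsg.pCore p G) := Subgroup.orderOf_dvd_natCard _ h3
  rw [hm] at h4
  have h5 : orderOf a = 1 :=
    Nat.eq_one_of_dvd_coprimes (Nat.Coprime.pow_right m hcop) (dvd_refl _) h4
  exact orderOf_eq_one_iff.mp h5

/-- If the action on `O_p(G)/Φ(O_p(G))` is `p`-stable in a group of characteristic `p`, every
element acting quadratically on `O_p(G)` lies in `O_p(G)`. -/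
theorem mem_pCore_of_quadratic_section {G : Type*} [Group G] [Finite G] {p : ℕ} [Fact p.Prime]
    (hc : Subgroup.centralizer (Cfsg.pCore p G : Set G) ≤ Cfsg.pCore p G)
    (hst : Cfsg.IsPStableOnSection p (Cfsg.pCore p G)
      ((frattini ↥(Cfsg.pCore p G)).map (Cfsg.pCore p G).subtype)) (w : G)
    (hquad : ⁅⁅Cfsg.pCore p G, Subgroup.zpowers w⁆, Subgroup.zpowers w⁆ = ⊥) :
    w ∈ Cfsg.pCore p G := by
  obtain ⟨D, hDn, hKD, ⟨k, hk⟩, hwD⟩ := hst w (by rw [hquad]; exact bot_le)
  have hKp := isPGroup_sectionKernel_frattini (p := p) hc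
  have hDp : IsPGroup p D := by
    obtain ⟨m, hm⟩ := IsPGroup.iff_card.1 hKp
    apply IsPGroup.of_card (n := m + k)
    have h1 := card_eq_relIndex_mul_card_inf D (Cfsg.sectionKernel (Cfsg.pCore p G)
      ((frattini ↥(Cfsg.pCore p G)).map (Cfsg.pCore p G).subtype))
    rw [inf_eq_right.2 hKD, hk, hm] at h1
    rw [h1, pow_add, mul_comm]
  exact le_pCore D hDn hDp hwD

end Cfsg.Agent.Lib.Helper17
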