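/-
Helper lemmas (helper17): tools for the Uniqueness Theorem chain (Bender–Glauberman §8–§9).
Part A: invariant `p'`-subgroups under a Sylow `p`-subgroup, Frattini factorisations
`H = O_{p'}(H) N_H(Q)`, at the level of subgroups of an ambient group.
-/
import Mathlib
import Cfsg.Prelude.Def_OddOrderLocal
import Cfsg.Prelude.Def_Local
import Cfsg.Agent.Lib.Helper8.SylIn
import Cfsg.Agent.Lib.Helper12.CoreControl
import Cfsg.Agent.Lib.Helper12.PPrimeP
import Cfsg.Agent.Lib.Helper9.PLengthOne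
import Cfsg.Agent.Lib.Helper24.PSolvable
import Cfsg.Agent.Lib.Helper1.Fitting
import Cfsg.Agent.Lib.Helper27.ZJ2
import Cfsg.Agent.S1457
import Cfsg.Agent.S1450

set_option autoImplicit false
open scoped Pointwise

namespace Cfsg.Agent.Lib.Helper17.BGU

open Cfsg.Agent.Lib.Helper8 (IsSylIn)
open Cfsg.Agent.Lib.Helper12.CoreControl (coreQ coreQ_le coreQ_coprime le_coreQ normalizer_le_normalizer_coreQ)

/-- In a finite solvable group, a `p'`-subgroup normalized by a Sylow `p`-subgroup lies in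
`O_{p'}`. -/
theorem le_pPrimeCore_of_sylow_invariant {X : Type*} [Group X] [Finite X] [Group.IsSolvable X]
    (p : ℕ) [Fact p.Prime] (P : Sylow p X) (L : Subgroup X) (hL : (Nat.card L).Coprime p)
    (hPL : (P : Subgroup X) ≤ Subgroup.normalizer (L : Set X)) :
    L ≤ Cfsg.pPrimeCore p X := by
  have : (Cfsg.pPrimeCore p X).Normal := Cfsg.Agent.Lib.Helper12.pPrimeCore_normal' p
  set O := Cfsg.pPrimeCore p X with hO
  set π := QuotientGroup.mk' O with hπ
  have hπs : Function.Surjective π := QuotientGroup.mk'_surjective O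
  have hObot : Cfsg.pPrimeCore p (X ⧸ O) = ⊥ :=
    Cfsg.Agent.Lib.Helper24.pPrimeCore_quotient_eq_bot' p
  have : (Cfsg.pCore p (X ⧸ O)).Normal := Cfsg.Agent.Lib.Helper12.pCore_normal'' p
  have hQP : Cfsg.pCore p (X ⧸ O) ≤ (P : Subgroup X).map π := by
    have := Cfsg.Agent.Lib.Helper1.pCore_le_sylow (Sylow.mapSurjective hπs P)
    rwa [Sylow.coe_mapSurjective] at this
  have hQp : IsPGroup p ↥(Cfsg.pCore p (X ⧸ O)) := Cfsg.Agent.Lib.Helper12.pCore_isPGroup' p
  obtain ⟨kP, hkP⟩ := IsPGroup.iff_card.mp hQp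
  have hLbcop : (Nat.card ↥(L.map π)).Coprime p :=
    Nat.Coprime.coprime_dvd_left (Subgroup.card_map_dvd _ _) hL
  have hdisj : Disjoint (L.map π) (Cfsg.pCore p (X ⧸ O)) := by
    apply Subgroup.disjoint_of_coprime_natCard
    rw [hkP]
    exact Nat.Coprime.pow_right kP hLbcop
  have hQN : Cfsg.pCore p (X ⧸ O) ≤ Subgroup.normalizer ((L.map π : Subgroup (X ⧸ O)) : Set (X ⧸ O)) :=
    hQP.trans ((Subgroup.map_mono hPL).trans (Subgroup.le_normalizer_map _))
  have hcomm : ⁅L.map π, Cfsg.pCore p (X ⧸ O)⁆ = ⊥ := by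
    rw [eq_bot_iff]
    have h1 : ⁅L.map π, Cfsg.pCore p (X ⧸ O)⁆ ≤ L.map π := by
      rw [← Subgroup.le_normalizer_iff_commutator_le_left]
      exact hQN
    have h2 : ⁅L.map π, Cfsg.pCore p (X ⧸ O)⁆ ≤ Cfsg.pCore p (X ⧸ O) :=
      Subgroup.commutator_le_right _ _
    exact (le_inf h1 h2).trans (disjoint_iff.mp hdisj).le
  rw [Subgroup.commutator_eq_bot_iff_le_centralizer] at hcomm
  have h5 : L.map π ≤ Cfsg.pCore p (X ⧸ O) :=
    hcomm.trans (Cfsg.Agent.Lib.Helper9.centralizer_pCore_le_of_isSolvable p hObot)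
  have h6 : L.map π = ⊥ := eq_bot_iff.mpr ((le_inf le_rfl h5).trans (disjoint_iff.mp hdisj).le)
  intro l hl
  have : π l ∈ L.map π := ⟨l, hl, rfl⟩
  rw [h6, Subgroup.mem_bot, hπ, QuotientGroup.mk'_apply, QuotientGroup.eq_one_iff] at this
  exact this

/-- Frattini factorisation `X = O_{p'}(X) N_X(Q)`, `Q = P ∩ O_{p',p}(X)`, for a solvable group of
odd order; `Q` contains every abelian normal subgroup of `P`, and `Q = P` when the `p`-rank is at
most two. -/
theorem exists_frattini_core {X : Type*} [Group X] [Finite X] [Group.IsSolvable X]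
    (hodd : Odd (Nat.card X)) (p : ℕ) [Fact p.Prime] (P : Sylow p X) :
    ∃ Q : Subgroup X, Q ≤ (P : Subgroup X) ∧
      (P : Subgroup X) ≤ Subgroup.normalizer (Q : Set X) ∧
      (∀ A : Subgroup X, A ≤ (P : Subgroup X) → IsMulCommutative A →
        (P : Subgroup X) ≤ Subgroup.normalizer (A : Set X) → A ≤ Q) ∧
      (∀ x : X, ∃ k ∈ Cfsg.pPrimeCore p X, ∃ n ∈ Subgroup.normalizer (Q : Set X), x = k * n) ∧
      (Cfsg.PRankLE p 2 X → Q = (P : Subgroup X)) := by
  have hOn : (Cfsg.pPrimeCore p X).Normal := Cfsg.Agent.Lib.Helper12.pPrimeCore_normal' p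
  have hNn : (Cfsg.pPrimePCore p X).Normal := Cfsg.Agent.Lib.Helper12.pPrimePCore_normal' p
  refine ⟨(P : Subgroup X) ⊓ Cfsg.pPrimePCore p X, inf_le_left,
    Cfsg.Agent.Lib.Helper12.sylow_le_normalizer_inf_pPrimePCore P, ?_, ?_, ?_⟩
  · intro A hAP hAc hAn
    exact le_inf hAP (Cfsg.Agent.S1457.result hodd p P A hAP hAc hAn)
  · intro x
    have h1 := Cfsg.Agent.Lib.Helper27.frattini_inf P (Cfsg.pPrimePCore p X)
    have h2 := Cfsg.Agent.Lib.Helper12.pPrimeCore_sup_sylow_inf P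
    have h3 : Cfsg.pPrimeCore p X ⊔
        Subgroup.normalizer ((((P : Subgroup X) ⊓ Cfsg.pPrimePCore p X : Subgroup X)) : Set X) = ⊤ := by
      rw [eq_top_iff, ← h1]
      apply sup_le le_sup_right
      refine h2.symm.le.trans ?_
      exact sup_le le_sup_left (Subgroup.le_normalizer.trans le_sup_right)
    have hx : x ∈ ((Cfsg.pPrimeCore p X ⊔
        Subgroup.normalizer ((((P : Subgroup X) ⊓ Cfsg.pPrimePCore p X : Subgroup X)) : Set X) :
          Subgroup X) : Set X) := by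
      rw [h3]; exact Subgroup.mem_top x
    rw [Subgroup.normal_mul] at hx
    obtain ⟨k, hk, n, hn, rfl⟩ := Set.mem_mul.mp hx
    exact ⟨k, hk, n, hn, rfl⟩
  · intro hr
    apply le_antisymm inf_le_left
    apply le_inf le_rfl
    by_cases hpX : p ∣ Nat.card X
    · have h := (Cfsg.Agent.S1450.result hodd p hpX hr).2.2.2.2.2
      rw [← Subgroup.relIndex_eq_one]
      have h1 : (Cfsg.pPrimePCore p X).relIndex P ∣ (Cfsg.pPrimePCore p X).index :=
        Subgroup.relIndex_dvd_index_of_normal _ _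
      have h2 : (Cfsg.pPrimePCore p X).relIndex P ∣ Nat.card (P : Subgroup X) :=
        Subgroup.relIndex_dvd_card _ _
      obtain ⟨n, hn⟩ := IsPGroup.iff_card.mp P.isPGroup'
      rw [hn] at h2
      exact Nat.eq_one_of_dvd_coprimes (h.pow_right n) h1 h2
    · have hP1 : (P : Subgroup X) = ⊥ := by
        rw [← Subgroup.card_eq_one]
        obtain ⟨n, hn⟩ := IsPGroup.iff_card.mp P.isPGroup'
        rcases Nat.eq_zero_or_pos n with rfl | hnpos
        · rw [hn, pow_zero]
        · exfalso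
          apply hpX
          have : p ∣ Nat.card (P : Subgroup X) := by
            rw [hn]; exact dvd_pow_self p hnpos.ne'
          exact this.trans (Subgroup.card_subgroup_dvd_card _)
      rw [hP1]; exact bot_le

/-- `p`-rank bound for a group from the bound for (subgroups of) a Sylow `p`-subgroup. -/
theorem pRankLE_of_sylow {X : Type*} [Group X] [Finite X] {p k : ℕ} [Fact p.Prime] (P : Sylow p X)
    (hr : ∀ E : Subgroup X, E ≤ (P : Subgroup X) → IsMulCommutative E → (∀ a ∈ E, a ^ p = 1) →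
      Nat.card E ≤ p ^ k) : Cfsg.PRankLE p k X := by
  intro E hEc hEp
  have hEpg : IsPGroup p E := by
    intro x
    refine ⟨1, ?_⟩
    rw [pow_one]
    exact Subtype.ext (by simpa using hEp x.1 x.2)
  obtain ⟨Q, hQ⟩ := hEpg.exists_le_sylow
  obtain ⟨g, hg⟩ := MulAction.exists_smul_eq X Q P
  have hcard : Nat.card (E.map (MulAut.conj g).toMonoidHom) = Nat.card E :=
    Subgroup.card_map_of_injective (MulAut.conj g).injective
  rw [← hcard]
  apply hr
  · rintro _ ⟨e, he, rfl⟩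
    have h1 : e ∈ (Q : Subgroup X) := hQ he
    have h2 : (MulAut.conj g) e ∈ ((g • Q : Sylow p X) : Subgroup X) := by
      rw [Sylow.coe_subgroup_smul]
      exact Subgroup.smul_mem_pointwise_smul e (MulAut.conj g) (Q : Subgroup X) h1
    rw [hg] at h2
    exact h2
  · refine ⟨⟨?_⟩⟩
    rintro ⟨_, ⟨a, ha, rfl⟩⟩ ⟨_, ⟨b, hb, rfl⟩⟩
    apply Subtype.ext
    show (MulAut.conj g).toMonoidHom a * (MulAut.conj g).toMonoidHom b =
      (MulAut.conj g).toMonoidHom b * (MulAut.conj g).toMonoidHom a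
    rw [← map_mul, ← map_mul]
    congr 1
    have := hEc.is_comm.comm (⟨a, ha⟩ : E) ⟨b, hb⟩
    exact congrArg Subtype.val this
  · rintro _ ⟨a, ha, rfl⟩
    rw [← map_pow, hEp a ha, map_one]

variable {G : Type*} [Group G]

theorem subgroupOf_le_normalizer_subgroupOf {H S K : Subgroup G}
    (hSK : S ≤ Subgroup.normalizer (K : Set G)) :
    S.subgroupOf H ≤ Subgroup.normalizer ((K.subgroupOf H : Subgroup ↥H) : Set ↥H) := by
  intro s hs
  rw [Subgroup.mem_subgroupOf] at hs
  rw [Subgroup.mem_normalizer_iff]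
  intro k
  rw [Subgroup.mem_subgroupOf, Subgroup.mem_subgroupOf]
  have := (Subgroup.mem_normalizer_iff.mp (hSK hs)) (k : G)
  simpa using this

/-- `O_{p'}(H)` contains every `p'`-subgroup of the solvable subgroup `H` normalized by a Sylow
`p`-subgroup of `H`. -/
theorem le_coreQ_of_isSylIn [Finite G] {p : ℕ} [Fact p.Prime] {H S K : Subgroup G}
    (hsol : Group.IsSolvable ↥H) (hS : IsSylIn p S H) (hKH : K ≤ H)
    (hK : (Nat.card K).Coprime p) (hSK : S ≤ Subgroup.normalizer (K : Set G)) :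
    K ≤ coreQ p H := by
  have h1 : K.subgroupOf H ≤ Cfsg.pPrimeCore p ↥H := by
    apply le_pPrimeCore_of_sylow_invariant p hS.toSylow (K.subgroupOf H)
    · rw [Cfsg.Agent.Lib.Helper1.card_subgroupOf_of_le hKH]; exact hK
    · exact subgroupOf_le_normalizer_subgroupOf hSK
  intro k hk
  exact ⟨⟨k, hKH hk⟩, h1 (Subgroup.mem_subgroupOf.mpr hk), rfl⟩

theorem isMulCommutative_subgroupOf {A H : Subgroup G}
    (hAc : ∀ a ∈ A, ∀ b ∈ A, a * b = b * a) : IsMulCommutative (A.subgroupOf H) := by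
  refine ⟨⟨?_⟩⟩
  rintro ⟨a, ha⟩ ⟨b, hb⟩
  rw [Subgroup.mem_subgroupOf] at ha hb
  apply Subtype.ext
  apply Subtype.ext
  exact hAc _ ha _ hb

/-- `G`-level form of `exists_frattini_core` for a solvable subgroup `H` of odd order with Sylow
`p`-subgroup `S`. -/
theorem exists_frattini_core_in [Finite G] {p : ℕ} [Fact p.Prime] {H S : Subgroup G}
    (hsol : Group.IsSolvable ↥H) (hodd : Odd (Nat.card H)) (hS : IsSylIn p S H) :
    ∃ Q : Subgroup G, Q ≤ S ∧ S ≤ Subgroup.normalizer (Q : Set G) ∧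
      (∀ A : Subgroup G, A ≤ S → (∀ a ∈ A, ∀ b ∈ A, a * b = b * a) →
        S ≤ Subgroup.normalizer (A : Set G) → A ≤ Q) ∧
      (∀ h ∈ H, ∃ k ∈ coreQ p H, ∃ n ∈ H, n ∈ Subgroup.normalizer (Q : Set G) ∧ h = k * n) ∧
      ((∀ E : Subgroup G, E ≤ S → (∀ a ∈ E, ∀ b ∈ E, a * b = b * a) → (∀ a ∈ E, a ^ p = 1) →
        Nat.card E ≤ p ^ 2) → Q = S) := by
  obtain ⟨Q', hQP, hPQ, hAb, hfr, hrk⟩ := exists_frattini_core hodd p hS.toSylow
  have hSH : S ≤ H := hS.1
  have hPcoe : ((hS.toSylow : Sylow p ↥H) : Subgroup ↥H) = S.subgroupOf H := rfl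
  have hmapP : (S.subgroupOf H).map H.subtype = S := Subgroup.map_subgroupOf_eq_of_le hSH
  refine ⟨Q'.map H.subtype, ?_, ?_, ?_, ?_, ?_⟩
  · rw [← hmapP]; exact Subgroup.map_mono hQP
  · intro s hs
    have h1 : (⟨s, hSH hs⟩ : ↥H) ∈ Subgroup.normalizer (Q' : Set ↥H) :=
      hPQ (show (⟨s, hSH hs⟩ : ↥H) ∈ S.subgroupOf H from Subgroup.mem_subgroupOf.mpr hs)
    have h2 := Subgroup.le_normalizer_map H.subtype (Subgroup.mem_map_of_mem H.subtype h1)
    exact h2
  · intro A hAS hAc hAn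
    have h1 : A.subgroupOf H ≤ Q' := by
      apply hAb
      · rw [hPcoe]
        intro a ha
        rw [Subgroup.mem_subgroupOf] at ha ⊢
        exact hAS ha
      · exact isMulCommutative_subgroupOf hAc
      · rw [hPcoe]; exact subgroupOf_le_normalizer_subgroupOf hAn
    rw [← Subgroup.map_subgroupOf_eq_of_le (hAS.trans hSH)]
    exact Subgroup.map_mono h1
  · intro h hh
    obtain ⟨k, hk, n, hn, hkn⟩ := hfr ⟨h, hh⟩
    refine ⟨k, ⟨k, hk, rfl⟩, n, n.2, ?_, ?_⟩
    · exact Subgroup.le_normalizer_map H.subtype (Subgroup.mem_map_of_mem H.subtype hn)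
    · have := congrArg Subtype.val hkn
      simpa using this
  · intro hr
    have h1 : Cfsg.PRankLE p 2 ↥H := by
      apply pRankLE_of_sylow hS.toSylow
      intro E hE hEc hEp
      have hcard : Nat.card (E.map H.subtype) = Nat.card E :=
        Subgroup.card_map_of_injective H.subtype_injective
      rw [← hcard]
      apply hr
      · rw [← hmapP]; exact Subgroup.map_mono hE
      · rintro _ ⟨a, ha, rfl⟩ _ ⟨b, hb, rfl⟩
        have := hEc.is_comm.comm (⟨a, ha⟩ : E) ⟨b, hb⟩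
        have h2 : a * b = b * a := congrArg Subtype.val this
        show (a : G) * (b : G) = (b : G) * (a : G)
        exact_mod_cast congrArg Subtype.val h2
      · rintro _ ⟨a, ha, rfl⟩
        have := hEp a ha
        show (a : G) ^ p = 1
        exact_mod_cast congrArg Subtype.val this
    rw [hrk h1, hPcoe, hmapP]

end Cfsg.Agent.Lib.Helper17.BGU
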