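/-
Helper lemmas (helper17): tools for the Uniqueness Theorem chain (Bender–Glauberman §8–§9).
Part B: the centre of the Puig subgroup `Z(L(S))` at the level of subgroups of an ambient group,
Puig's factorisation `H = O_{p'}(H) N_H(Z(L(S)))`.
-/
import Mathlib
import Cfsg.Agent.Lib.Helper17.BGUniqA
import Cfsg.Agent.Lib.Helper27.PuigOdd

set_option autoImplicit false
open scoped Pointwise

namespace Cfsg.Agent.Lib.Helper17.BGU

open Cfsg.Agent.Lib.Helper8 (IsSylIn)
open Cfsg.Agent.Lib.Helper12.CoreControl (coreQ coreQ_le coreQ_coprime le_coreQ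
  normalizer_le_normalizer_coreQ)
open Cfsg.Agent.Lib.Helper27.PuigRel (LU LU_le normalizer_le_normalizer_LU inf_centralizer_LU_le)
open Cfsg.Agent.Lib.Helper27.PuigOdd (zOf normalizer_le_normalizer_zOf LU_map_of_injOn)

universe u
variable {G : Type u} [Group G]

/-- `Z(L(S))` as a subgroup of the ambient group. -/
abbrev zl (S : Subgroup G) : Subgroup G := zOf (LU S)

theorem zl_le (S : Subgroup G) : zl S ≤ S := inf_le_left.trans (LU_le S)

theorem normalizer_le_normalizer_zl [Finite G] (S : Subgroup G) :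
    Subgroup.normalizer (S : Set G) ≤ Subgroup.normalizer (zl S : Set G) :=
  (normalizer_le_normalizer_LU S).trans (normalizer_le_normalizer_zOf _)

theorem zl_ne_bot [Finite G] {p : ℕ} [Fact p.Prime] {S : Subgroup G} (hS : IsPGroup p S)
    (hne : S ≠ ⊥) : zl S ≠ ⊥ := by
  have : Nontrivial ↥S := (Subgroup.nontrivial_iff_ne_bot S).mpr hne
  have hZ : Subgroup.center ↥S ≠ ⊥ := by
    have := hS.center_nontrivial
    exact (Subgroup.nontrivial_iff_ne_bot _).mp this
  obtain ⟨⟨z, hz⟩, hz1'⟩ := (Subgroup.ne_bot_iff_exists_ne_one).mp hZ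
  have hz1 : z ≠ 1 := fun h => hz1' (Subtype.ext h)
  intro hbot
  apply hz1
  have hzS : (z : G) ∈ S := z.2
  have hzC : (z : G) ∈ Subgroup.centralizer (S : Set G) := by
    rw [Subgroup.mem_centralizer_iff]
    intro s hs
    have := (Subgroup.mem_center_iff.mp hz) ⟨s, hs⟩
    exact congrArg Subtype.val this
  have h1 : (z : G) ∈ LU S :=
    inf_centralizer_LU_le S hS ⟨hzS, Subgroup.centralizer_le (LU_le S) hzC⟩
  have h2 : (z : G) ∈ zl S := ⟨h1, Subgroup.centralizer_le (LU_le S) hzC⟩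
  rw [hbot, Subgroup.mem_bot] at h2
  exact Subtype.ext h2

theorem zOf_map_of_injective {G' : Type*} [Group G'] (f : G →* G') (hf : Function.Injective f)
    (L : Subgroup G) : zOf (L.map f) = (zOf L).map f := by
  ext x
  constructor
  · rintro ⟨⟨l, hl, rfl⟩, hC⟩
    refine ⟨l, ⟨hl, ?_⟩, rfl⟩
    show l ∈ Subgroup.centralizer (L : Set G)
    rw [Subgroup.mem_centralizer_iff]
    intro m hm
    apply hf
    rw [map_mul, map_mul]
    exact (Subgroup.mem_centralizer_iff.mp hC) (f m) ⟨m, hm, rfl⟩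
  · rintro ⟨l, ⟨hl, hC⟩, rfl⟩
    refine ⟨⟨l, hl, rfl⟩, ?_⟩
    show f l ∈ Subgroup.centralizer ((L.map f : Subgroup G') : Set G')
    rw [Subgroup.mem_centralizer_iff]
    rintro _ ⟨m, hm, rfl⟩
    rw [← map_mul, ← map_mul, (Subgroup.mem_centralizer_iff.mp hC) m hm]

/-- Puig's factorisation for a solvable subgroup `H` of odd order of an ambient group. -/
theorem puig_factor_in [Finite G] {p : ℕ} [Fact p.Prime] (hp : p ≠ 2) {H S : Subgroup G}
    (hsol : Group.IsSolvable ↥H) (hodd : Odd (Nat.card H)) (hS : IsSylIn p S H) :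
    (∀ h ∈ H, ∃ k ∈ coreQ p H, ∃ n ∈ H, n ∈ Subgroup.normalizer (zl S : Set G) ∧ h = k * n) ∧
      (coreQ p H = ⊥ → H ≤ Subgroup.normalizer (zl S : Set G)) := by
  have hSH : S ≤ H := hS.1
  have hmapP : (S.subgroupOf H).map H.subtype = S := Subgroup.map_subgroupOf_eq_of_le hSH
  have hOn : (Cfsg.pPrimeCore p ↥H).Normal := Cfsg.Agent.Lib.Helper12.pPrimeCore_normal' p
  have h0 := Cfsg.Agent.Lib.Helper27.PuigOdd.pPrimeCore_sup_normalizer_zOf_LU hodd hp hS.toSylow
  have hPcoe : ((hS.toSylow : Sylow p ↥H) : Subgroup ↥H) = S.subgroupOf H := rfl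
  rw [hPcoe] at h0
  have hzl : (zOf (LU (S.subgroupOf H))).map H.subtype = zl S := by
    rw [← zOf_map_of_injective H.subtype H.subtype_injective,
      ← LU_map_of_injOn H.subtype (S.subgroupOf H)
        (fun x _ y _ hxy => H.subtype_injective hxy), hmapP]
  have hnorm : ∀ n : ↥H, n ∈ Subgroup.normalizer ((zOf (LU (S.subgroupOf H)) : Subgroup ↥H) : Set ↥H) →
      (n : G) ∈ Subgroup.normalizer (zl S : Set G) := by
    intro n hn
    have := Subgroup.le_normalizer_map H.subtype (Subgroup.mem_map_of_mem H.subtype hn)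
    rw [hzl] at this
    exact this
  constructor
  · intro h hh
    have hx : (⟨h, hh⟩ : ↥H) ∈ ((Cfsg.pPrimeCore p ↥H ⊔
        Subgroup.normalizer ((zOf (LU (S.subgroupOf H)) : Subgroup ↥H) : Set ↥H) : Subgroup ↥H) :
          Set ↥H) := by
      rw [h0]; exact Subgroup.mem_top _
    rw [Subgroup.normal_mul] at hx
    obtain ⟨k, hk, n, hn, hkn⟩ := Set.mem_mul.mp hx
    refine ⟨k, ⟨k, hk, rfl⟩, n, n.2, hnorm n hn, ?_⟩
    have := congrArg Subtype.val hkn
    simpa using this.symm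
  · intro hbot
    have h1 : Cfsg.pPrimeCore p ↥H = ⊥ :=
      (Subgroup.map_eq_bot_iff_of_injective _ H.subtype_injective).mp hbot
    rw [h1, bot_sup_eq] at h0
    intro h hh
    apply hnorm ⟨h, hh⟩
    rw [h0]; exact Subgroup.mem_top _

end Cfsg.Agent.Lib.Helper17.BGU
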