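/-
Helper lemmas (helper17): tools for the Uniqueness Theorem chain (Bender–Glauberman §8–§9).
Part C: maximal subgroups of a simple group, Sylow subgroups of subgroups.
-/
import Mathlib
import Cfsg.Agent.Lib.Helper17.BGUniqB

set_option autoImplicit false
open scoped Pointwise

namespace Cfsg.Agent.Lib.Helper17.BGU

open Cfsg.Agent.Lib.Helper8 (IsSylIn)

variable {G : Type*} [Group G]

theorem exists_coatom_ge [Finite G] {X : Subgroup G} (hX : X ≠ ⊤) : ∃ M, IsCoatom M ∧ X ≤ M :=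
  (eq_top_or_exists_le_coatom X).resolve_left hX

theorem normalizer_ne_top [IsSimpleGroup G] {N : Subgroup G} (hN : N ≠ ⊥) (hN' : N ≠ ⊤) :
    Subgroup.normalizer (N : Set G) ≠ ⊤ := by
  intro h
  have hn : N.Normal := Subgroup.normalizer_eq_top_iff.mp h
  rcases hn.eq_bot_or_eq_top with h1 | h1
  exacts [hN h1, hN' h1]

theorem normalizer_eq_of_coatom [IsSimpleGroup G] {M N : Subgroup G} (hM : IsCoatom M)
    (hNM : N ≤ M) (hN : N ≠ ⊥) (hMN : M ≤ Subgroup.normalizer (N : Set G)) :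
    Subgroup.normalizer (N : Set G) = M := by
  have hNtop : N ≠ ⊤ := fun h => hM.1 (top_le_iff.mp (h ▸ hNM))
  by_contra hne
  exact normalizer_ne_top hN hNtop (hM.2 _ (lt_of_le_of_ne hMN (Ne.symm hne)))

theorem coatom_eq_of_le {M D : Subgroup G} (hM : IsCoatom M) (hD : IsCoatom D) (h : M ≤ D) :
    M = D := by
  by_contra hne
  exact hD.1 (hM.2 D (lt_of_le_of_ne h hne))

theorem exists_isSylIn_ge [Finite G] {p : ℕ} [Fact p.Prime] {T L : Subgroup G} (hTL : T ≤ L)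
    (hT : IsPGroup p T) : ∃ S, IsSylIn p S L ∧ T ≤ S := by
  have hT' : IsPGroup p ↥(T.subgroupOf L) := hT.comap_subtype
  obtain ⟨Q, hQ⟩ := hT'.exists_le_sylow
  refine ⟨_, Cfsg.Agent.Lib.Helper8.sylow_map_subtype_isSylIn Q, ?_⟩
  intro t ht
  exact ⟨⟨t, hTL ht⟩, hQ (Subgroup.mem_subgroupOf.mpr ht), rfl⟩

theorem lt_inf_normalizer [Finite G] {p : ℕ} [Fact p.Prime] {R P : Subgroup G}
    (hP : IsPGroup p P) (hRP : R < P) : R < P ⊓ Subgroup.normalizer (R : Set G) := by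
  have hnil : Group.IsNilpotent ↥P := hP.isNilpotent
  have hlt : R.subgroupOf P < ⊤ := by
    rw [lt_top_iff_ne_top]
    intro h
    rw [Subgroup.subgroupOf_eq_top] at h
    exact (not_le_of_gt hRP) h
  have h1 := Group.normalizerCondition_of_isNilpotent (G := ↥P) (R.subgroupOf P) hlt
  obtain ⟨x, hxN, hxR⟩ := SetLike.exists_of_lt h1
  refine lt_of_le_of_ne (le_inf hRP.le Subgroup.le_normalizer) ?_
  intro heq
  apply hxR
  rw [Subgroup.mem_subgroupOf]
  rw [heq]
  refine ⟨x.2, ?_⟩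
  apply Cfsg.Agent.Lib.Helper1.mem_normalizer_of_forall_conj_mem
  intro r hr
  have h2 := (Subgroup.mem_normalizer_iff.mp hxN ⟨r, hRP.le hr⟩).mp
    (Subgroup.mem_subgroupOf.mpr hr)
  rw [Subgroup.mem_subgroupOf] at h2
  simpa using h2

/-- A Sylow `p`-subgroup `P` of `K ≤ H` with `N_H(P) ≤ K` is a Sylow `p`-subgroup of `H`. -/
theorem isSylIn_of_inf_normalizer_le [Finite G] {p : ℕ} [Fact p.Prime] {P K H : Subgroup G}
    (hP : IsSylIn p P K) (hKH : K ≤ H) (hN : H ⊓ Subgroup.normalizer (P : Set G) ≤ K) :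
    IsSylIn p P H := by
  obtain ⟨Ps, hPs, hle⟩ := exists_isSylIn_ge (hP.1.trans hKH) hP.isPGroup
  rcases eq_or_lt_of_le hle with h | h
  · rw [h]; exact hPs
  · exfalso
    have h1 := lt_inf_normalizer hPs.isPGroup h
    have h2 : Ps ⊓ Subgroup.normalizer (P : Set G) ≤ K :=
      (inf_le_inf_right _ hPs.1).trans hN
    have h3 := hP.eq_of_le (hPs.isPGroup.to_le inf_le_left) h1.le h2
    exact (ne_of_gt h1) h3

end Cfsg.Agent.Lib.Helper17.BGU
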