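/-
Helper lemmas (helper17): the transitivity theorems of the local analysis of a minimal simple
group (Bender–Glauberman §7).  `A` satisfies `Cfsg.TransitivityHypothesis`, `K = O_{π(A)'}(C_G(A))`.
-/
import Mathlib
import Cfsg.Prelude.Def_OddOrderLocal
import Cfsg.Agent.Lib.Helper8.Conj
import Cfsg.Agent.Lib.Helper12.Cores
import Cfsg.Agent.Lib.Helper17.Basic
import Cfsg.Agent.S0024
import Cfsg.Agent.S0025

set_option autoImplicit false
open scoped Pointwise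

namespace Cfsg.Agent.Lib.Helper17

open Cfsg.Agent.Lib.Helper8 (mem_map_conj conj_mem_map_conj map_conj_map_conj map_conj_one
  map_conj_le_iff map_conj_eq_iff card_map_conj mem_normalizer_iff_map_conj)

variable {G : Type*} [Group G]

/-- `K = O_{π(A)'}(C_G(A))`. -/
abbrev bgK (A : Subgroup G) : Subgroup G :=
  Cfsg.piCoreOf (Cfsg.primesNotDvd (Nat.card A)) (Subgroup.centralizer (A : Set G))

theorem isPGroup_of_primes [Finite G] {q : ℕ} (_hq : q.Prime) {Y : Subgroup G}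
    (h : ∀ p : ℕ, p.Prime → p ∣ Nat.card Y → p ∈ ({q} : Set ℕ)) : IsPGroup q Y := by
  haveI : Fact q.Prime := ⟨_hq⟩
  have h1 : Nat.card Y = q ^ (Nat.card Y).primeFactorsList.length :=
    Nat.eq_prime_pow_of_unique_prime_dvd Nat.card_pos.ne' (fun {d} hd hdvd => h d hd hdvd)
  exact IsPGroup.of_card h1

theorem primes_of_isPGroup [Finite G] {q : ℕ} (hq : q.Prime) {Y : Subgroup G} (h : IsPGroup q Y) :
    ∀ p : ℕ, p.Prime → p ∣ Nat.card Y → p ∈ ({q} : Set ℕ) := by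
  haveI : Fact q.Prime := ⟨hq⟩
  intro p hp hdvd
  obtain ⟨k, hk⟩ := IsPGroup.iff_card.mp h
  rw [hk] at hdvd
  exact (Nat.prime_dvd_prime_iff_eq hp hq).1 (hp.dvd_of_dvd_pow hdvd)

theorem mem_invq_iff [Finite G] {q : ℕ} (hq : q.Prime) {A Y : Subgroup G} :
    Y ∈ Cfsg.invSubgroups ⊤ A {q} ↔ IsPGroup q Y ∧ A ≤ Subgroup.normalizer (Y : Set G) :=
  ⟨fun h => ⟨isPGroup_of_primes hq h.2.1, h.2.2⟩,
    fun h => ⟨le_top, primes_of_isPGroup hq h.1, h.2⟩⟩

theorem exists_maxInv_ge [Finite G] {A T : Subgroup G} {π : Set ℕ}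
    (hT : T ∈ Cfsg.invSubgroups ⊤ A π) : ∃ Q ∈ Cfsg.maxInvSubgroups ⊤ A π, T ≤ Q := by
  classical
  let S : Set (Subgroup G) := {R | R ∈ Cfsg.invSubgroups ⊤ A π ∧ T ≤ R}
  obtain ⟨Q, hQS, hQmax⟩ := Set.exists_max_image S (fun R => Nat.card R) (Set.toFinite S)
    ⟨T, hT, le_rfl⟩
  refine ⟨Q, ⟨hQS.1, fun R hR hQR => ?_⟩, hQS.2⟩
  have := hQmax R ⟨hR, hQS.2.trans hQR⟩
  exact (Subgroup.eq_of_le_of_card_ge hQR this).symm

theorem le_normalizer_map_conj_of_mem_centralizer {A Y : Subgroup G} {k : G}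
    (hk : k ∈ Subgroup.centralizer (A : Set G)) (hAY : A ≤ Subgroup.normalizer (Y : Set G)) :
    A ≤ Subgroup.normalizer ((Y.map (MulAut.conj k).toMonoidHom : Subgroup G) : Set G) := by
  intro a ha
  rw [mem_normalizer_iff_map_conj, map_conj_map_conj]
  have hak : a * k = k * a := (Subgroup.mem_centralizer_iff.1 hk a ha)
  rw [hak, ← map_conj_map_conj, mem_normalizer_iff_map_conj.1 (hAY ha)]

theorem bgK_le_centralizer (A : Subgroup G) : bgK A ≤ Subgroup.centralizer (A : Set G) :=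
  Subgroup.map_subtype_le _

theorem invq_map_conj [Finite G] {q : ℕ} {A Y : Subgroup G} {k : G}
    (hk : k ∈ Subgroup.centralizer (A : Set G)) (hY : Y ∈ Cfsg.invSubgroups ⊤ A {q}) :
    Y.map (MulAut.conj k).toMonoidHom ∈ Cfsg.invSubgroups ⊤ A {q} := by
  refine ⟨le_top, ?_, le_normalizer_map_conj_of_mem_centralizer hk hY.2.2⟩
  rw [card_map_conj]
  exact hY.2.1

theorem maxInv_map_conj [Finite G] {q : ℕ} {A Q : Subgroup G} {k : G}
    (hk : k ∈ Subgroup.centralizer (A : Set G)) (hQ : Q ∈ Cfsg.maxInvSubgroups ⊤ A {q}) :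
    Q.map (MulAut.conj k).toMonoidHom ∈ Cfsg.maxInvSubgroups ⊤ A {q} := by
  refine ⟨invq_map_conj hk hQ.1, fun R hR hle => ?_⟩
  have h1 : Q ≤ R.map (MulAut.conj k⁻¹).toMonoidHom := map_conj_le_iff.mp hle
  have hk' : k⁻¹ ∈ Subgroup.centralizer (A : Set G) := inv_mem hk
  have h2 := hQ.2 _ (invq_map_conj hk' hR) h1
  have h3 := (map_conj_eq_iff (g := k⁻¹)).mp h2
  rw [inv_inv] at h3
  exact h3

/-- Conjugacy under `K`. -/
def KConj (A Q₁ Q₂ : Subgroup G) : Prop :=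
  ∃ k ∈ bgK A, Q₂ = Q₁.map (MulAut.conj k).toMonoidHom

theorem KConj.refl (A Q : Subgroup G) : KConj A Q Q := ⟨1, one_mem _, (map_conj_one Q).symm⟩

theorem KConj.symm {A Q₁ Q₂ : Subgroup G} (h : KConj A Q₁ Q₂) : KConj A Q₂ Q₁ := by
  obtain ⟨c, hc, rfl⟩ := h
  refine ⟨c⁻¹, inv_mem hc, ?_⟩
  rw [map_conj_map_conj, inv_mul_cancel, map_conj_one]

theorem KConj.trans {A Q₁ Q₂ Q₃ : Subgroup G} (h : KConj A Q₁ Q₂) (h' : KConj A Q₂ Q₃) :
    KConj A Q₁ Q₃ := by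
  obtain ⟨c, hc, rfl⟩ := h
  obtain ⟨d, hd, rfl⟩ := h'
  exact ⟨d * c, mul_mem hd hc, map_conj_map_conj _ _ _⟩

/-- Under the transitivity hypothesis, an `A`-invariant `q`-subgroup of a proper subgroup `X ≥ A`
lies in `O_{π(A)'}(X)`. -/
theorem le_piCoreOf_of_inv [Finite G] {A : Subgroup G} (hA : Cfsg.TransitivityHypothesis A)
    {q : ℕ} (hq : q.Prime) (hqA : ¬ q ∣ Nat.card A) {X : Subgroup G} (hX : X ≠ ⊤) (hAX : A ≤ X)
    {Y : Subgroup G} (hYX : Y ≤ X) (hYq : IsPGroup q Y)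
    (hAY : A ≤ Subgroup.normalizer (Y : Set G)) :
    Y ≤ Cfsg.piCoreOf (Cfsg.primesNotDvd (Nat.card A)) X := by
  rw [← hA.2.2 X hX hAX]
  apply le_sSup
  refine ⟨hYX, fun p hp hdvd => ?_, hAY⟩
  have : p = q := primes_of_isPGroup hq hYq p hp hdvd
  subst this
  exact ⟨hp, hqA⟩

theorem piCoreOf_le {π : Set ℕ} (X : Subgroup G) : Cfsg.piCoreOf π X ≤ X :=
  Subgroup.map_subtype_le _

theorem le_normalizer_piCoreOf {π : Set ℕ} (X : Subgroup G) :
    X ≤ Subgroup.normalizer ((Cfsg.piCoreOf π X : Subgroup G) : Set G) := by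
  have h := Subgroup.le_normalizer_map (H := Cfsg.piCore π ↥X) X.subtype
  rw [Subgroup.normalizer_eq_top, ← MonoidHom.range_eq_map, Subgroup.range_subtype] at h
  exact h

theorem card_piCoreOf {π : Set ℕ} (X : Subgroup G) :
    Nat.card (Cfsg.piCoreOf π X) = Nat.card (Cfsg.piCore π ↥X) :=
  Subgroup.card_map_of_injective X.subtype_injective

theorem coprime_card_piCoreOf [Finite G] (A X : Subgroup G) :
    (Nat.card A).Coprime (Nat.card (Cfsg.piCoreOf (Cfsg.primesNotDvd (Nat.card A)) X)) := by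
  apply Nat.coprime_of_dvd
  intro r hr hrA hrL
  rw [card_piCoreOf] at hrL
  exact (Cfsg.Agent.Lib.Helper12.piCore_mem _ r hr hrL).2 hrA

/-- A normal `π`-subgroup of `X` (given inside `G`) lies in `O_π(X)`. -/
theorem le_piCoreOf {π : Set ℕ} {X W : Subgroup G} (hWX : W ≤ X)
    (hn : X ≤ Subgroup.normalizer (W : Set G))
    (hW : ∀ p : ℕ, p.Prime → p ∣ Nat.card W → p ∈ π) : W ≤ Cfsg.piCoreOf π X := by
  have hnorm : (W.subgroupOf X).Normal := by
    rw [← Subgroup.normalizer_eq_top_iff, ← Subgroup.subgroupOf_normalizer_eq hWX]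
    exact Subgroup.subgroupOf_eq_top.2 hn
  have hcard : Nat.card (W.subgroupOf X) = Nat.card W :=
    Nat.card_congr (Subgroup.subgroupOfEquivOfLe hWX).toEquiv
  have h1 : W.subgroupOf X ≤ Cfsg.piCore π ↥X :=
    Cfsg.Agent.Lib.Helper12.le_piCore π _ hnorm (by rw [hcard]; exact hW)
  have h2 := Subgroup.map_mono (f := X.subtype) h1
  rw [Subgroup.map_subgroupOf_eq_of_le hWX] at h2
  exact h2

theorem conj_mem_centralizer_iff {A : Subgroup G} {a : G} (ha : a ∈ A) (x : G) :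
    a⁻¹ * x * a ∈ Subgroup.centralizer (A : Set G) ↔ x ∈ Subgroup.centralizer (A : Set G) := by
  constructor
  · intro h
    rw [Subgroup.mem_centralizer_iff] at h ⊢
    intro b hb
    have hb' : a⁻¹ * b * a ∈ A := A.mul_mem (A.mul_mem (A.inv_mem ha) hb) ha
    have := h _ hb'
    have e1 : b * x = a * ((a⁻¹ * b * a) * (a⁻¹ * x * a)) * a⁻¹ := by group
    have e2 : x * b = a * ((a⁻¹ * x * a) * (a⁻¹ * b * a)) * a⁻¹ := by group
    rw [e1, e2, this]
  · intro h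
    rw [Subgroup.mem_centralizer_iff] at h ⊢
    intro b hb
    have hb' : a * b * a⁻¹ ∈ A := A.mul_mem (A.mul_mem ha hb) (A.inv_mem ha)
    have := h _ hb'
    have e1 : b * (a⁻¹ * x * a) = a⁻¹ * ((a * b * a⁻¹) * x) * a := by group
    have e2 : a⁻¹ * x * a * b = a⁻¹ * (x * (a * b * a⁻¹)) * a := by group
    rw [e1, e2, this]

/-- `C_L(A) ≤ K` for every `A`-invariant `π(A)'`-subgroup `L`, when `G` is simple. -/
theorem inf_centralizer_le_bgK [Finite G] [IsSimpleGroup G] {A : Subgroup G}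
    (hA : Cfsg.TransitivityHypothesis A) (L : Subgroup G)
    (hL : ∀ p : ℕ, p.Prime → p ∣ Nat.card L → p ∈ Cfsg.primesNotDvd (Nat.card A)) :
    L ⊓ Subgroup.centralizer (A : Set G) ≤ bgK A := by
  set π' := Cfsg.primesNotDvd (Nat.card A) with hπ'
  set N := Subgroup.normalizer (A : Set G) with hN
  have hNtop : N ≠ ⊤ := by
    intro h
    have hnorm : A.Normal := Subgroup.normalizer_eq_top_iff.1 h
    rcases hnorm.eq_bot_or_eq_top with h1 | h1
    · exact hA.1 h1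
    · exact hA.2.1 h1
  have hAN : A ≤ N := Subgroup.le_normalizer
  have hCN : Subgroup.centralizer (A : Set G) ≤ N := Subgroup.centralizer_le_normalizer _
  set W := Cfsg.piCoreOf π' N with hW
  -- `C_L(A) ≤ W`
  have h1 : L ⊓ Subgroup.centralizer (A : Set G) ≤ W := by
    rw [hW, ← hA.2.2 N hNtop hAN]
    apply le_sSup
    refine ⟨inf_le_right.trans hCN, fun p hp hdvd => ?_, ?_⟩
    · exact hL p hp (dvd_trans hdvd (Subgroup.card_dvd_of_le inf_le_left))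
    · intro a ha
      rw [Subgroup.mem_normalizer_iff'']
      intro x
      have hcomm : ∀ y : G, y ∈ Subgroup.centralizer (A : Set G) → a⁻¹ * y * a = y := by
        intro y hy
        have := Subgroup.mem_centralizer_iff.1 hy a ha
        rw [mul_assoc, ← this, ← mul_assoc, inv_mul_cancel, one_mul]
      constructor
      · intro hx
        rw [hcomm x hx.2]; exact hx
      · intro hx
        have hxc : x ∈ Subgroup.centralizer (A : Set G) := (conj_mem_centralizer_iff ha x).1 hx.2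
        rw [hcomm x hxc] at hx; exact hx
  -- `W ≤ C(A)`
  have hWN : W ≤ N := piCoreOf_le N
  have hNW : N ≤ Subgroup.normalizer (W : Set G) := le_normalizer_piCoreOf N
  have hcop : (Nat.card A).Coprime (Nat.card W) := coprime_card_piCoreOf A N
  have hAW : A ⊓ W = ⊥ := (Subgroup.disjoint_of_coprime_natCard hcop).eq_bot
  have hWC : W ≤ Subgroup.centralizer (A : Set G) := by
    intro w hw
    rw [Subgroup.mem_centralizer_iff]
    intro a ha
    have h2 : a * w * a⁻¹ * w⁻¹ ∈ A ⊓ W := by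
      refine Subgroup.mem_inf.2 ⟨?_, ?_⟩
      · have : w * a⁻¹ * w⁻¹ ∈ A := by
          have hwN : w ∈ N := hWN hw
          exact (Subgroup.mem_normalizer_iff.1 hwN a⁻¹).1 (A.inv_mem ha)
        have e : a * w * a⁻¹ * w⁻¹ = a * (w * a⁻¹ * w⁻¹) := by group
        rw [e]; exact A.mul_mem ha this
      · have : a * w * a⁻¹ ∈ W := (Subgroup.mem_normalizer_iff.1 (hNW (hAN ha)) w).1 hw
        exact W.mul_mem this (W.inv_mem hw)
    rw [hAW, Subgroup.mem_bot] at h2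
    have e : a * w = (a * w * a⁻¹ * w⁻¹) * (w * a) := by group
    rw [e, h2, one_mul]
  -- `W ≤ K`
  have hWK : W ≤ bgK A := by
    apply le_piCoreOf hWC (hCN.trans hNW)
    intro p hp hdvd
    rw [hW, card_piCoreOf] at hdvd
    exact Cfsg.Agent.Lib.Helper12.piCore_mem _ p hp hdvd
  exact h1.trans hWK

/-- conjugating a Sylow subgroup of a subgroup `H` by an element of `H`, seen in `G` -/
theorem map_subtype_conj_smul_sylow {H : Subgroup G} {q : ℕ} (c : ↥H) (P : Sylow q ↥H) :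
    ((MulAut.conj c • P : Sylow q ↥H) : Subgroup ↥H).map H.subtype =
      ((P : Subgroup ↥H).map H.subtype).map (MulAut.conj (c : G)).toMonoidHom := by
  ext x
  constructor
  · rintro ⟨y, hy, rfl⟩
    rw [mem_map_conj]
    have hy' : y ∈ MulAut.conj c • (P : Subgroup ↥H) := hy
    rw [Subgroup.mem_pointwise_smul_iff_inv_smul_mem] at hy'
    refine ⟨(MulAut.conj c)⁻¹ • y, hy', ?_⟩
    simp [MulAut.smul_def]
  · intro hx
    rw [mem_map_conj] at hx
    obtain ⟨y, hy, hyx⟩ := hx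
    refine ⟨c * y * c⁻¹, ?_, ?_⟩
    · show c * y * c⁻¹ ∈ MulAut.conj c • (P : Subgroup ↥H)
      exact ⟨y, hy, rfl⟩
    · have : (H.subtype (c * y * c⁻¹) : G) = (c : G) * (H.subtype y) * (c : G)⁻¹ := rfl
      rw [this, hyx]; group

/-- The Sylow step: two `A`-invariant `q`-subgroups of a proper subgroup `H ≥ A` can be put,
after conjugating the first by an element of `K`, into a common `A`-invariant `q`-subgroup. -/
theorem sylow_step [Finite G] [IsSimpleGroup G]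
    (hsolv : ∀ H : Subgroup G, H ≠ ⊤ → Group.IsSolvable H) {A : Subgroup G}
    (hA : Cfsg.TransitivityHypothesis A) {q : ℕ} (hq : q.Prime) (hqA : ¬ q ∣ Nat.card A)
    {H : Subgroup G} (hH : H ≠ ⊤) (hAH : A ≤ H) {T₁ T₂ : Subgroup G}
    (h₁ : T₁ ≤ H) (h₁q : IsPGroup q T₁) (h₁A : A ≤ Subgroup.normalizer (T₁ : Set G))
    (h₂ : T₂ ≤ H) (h₂q : IsPGroup q T₂) (h₂A : A ≤ Subgroup.normalizer (T₂ : Set G)) :
    ∃ c ∈ bgK A, ∃ R : Subgroup G, R ∈ Cfsg.invSubgroups ⊤ A {q} ∧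
      T₁.map (MulAut.conj c).toMonoidHom ≤ R ∧ T₂ ≤ R := by
  haveI : Fact q.Prime := ⟨hq⟩
  set L := Cfsg.piCoreOf (Cfsg.primesNotDvd (Nat.card A)) H with hL
  have hLH : L ≤ H := piCoreOf_le H
  have hAL : A ≤ Subgroup.normalizer (L : Set G) := hAH.trans (le_normalizer_piCoreOf H)
  have hcop : (Nat.card A).Coprime (Nat.card L) := coprime_card_piCoreOf A H
  have hLtop : L ≠ ⊤ := fun h => hH (top_le_iff.1 (h ▸ hLH))
  have hLsolv : Group.IsSolvable L := hsolv L hLtop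
  have hT₁L : T₁ ≤ L := le_piCoreOf_of_inv hA hq hqA hH hAH h₁ h₁q h₁A
  have hT₂L : T₂ ≤ L := le_piCoreOf_of_inv hA hq hqA hH hAH h₂ h₂q h₂A
  obtain ⟨P₁, hTP₁, hAP₁⟩ := Cfsg.Agent.S0025.result A L hAL hcop (Or.inr hLsolv) q T₁ hT₁L h₁q h₁A
  obtain ⟨P₂, hTP₂, hAP₂⟩ := Cfsg.Agent.S0025.result A L hAL hcop (Or.inr hLsolv) q T₂ hT₂L h₂q h₂A
  obtain ⟨c, hcA, hcP⟩ := Cfsg.Agent.S0024.result A L hAL hcop (Or.inr hLsolv) q P₁ P₂ hAP₁ hAP₂
  have hcK : (c : G) ∈ bgK A := by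
    apply inf_centralizer_le_bgK hA L
    · intro p hp hdvd
      rw [hL, card_piCoreOf] at hdvd
      exact Cfsg.Agent.Lib.Helper12.piCore_mem _ p hp hdvd
    · exact ⟨c.2, hcA⟩
  refine ⟨(c : G), hcK, (P₂ : Subgroup L).map L.subtype, ?_, ?_, hTP₂⟩
  · exact (mem_invq_iff hq).2 ⟨P₂.isPGroup'.map _, hAP₂⟩
  · rw [← hcP, map_subtype_conj_smul_sylow]
    exact Subgroup.map_mono hTP₁

/-- Two maximal `A`-invariant `q`-subgroups with nontrivial intersection are `K`-conjugate. -/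
theorem kconj_of_inf_ne_bot [Finite G] [IsSimpleGroup G]
    (hsolv : ∀ H : Subgroup G, H ≠ ⊤ → Group.IsSolvable H) {A : Subgroup G}
    (hA : Cfsg.TransitivityHypothesis A) {q : ℕ} (hq : q.Prime) (hqA : ¬ q ∣ Nat.card A)
    {Q₁ Q₂ : Subgroup G} (h₁ : Q₁ ∈ Cfsg.maxInvSubgroups ⊤ A {q})
    (h₂ : Q₂ ∈ Cfsg.maxInvSubgroups ⊤ A {q}) (hne : Q₁ ⊓ Q₂ ≠ ⊥) : KConj A Q₁ Q₂ := by
  classical
  haveI : Fact q.Prime := ⟨hq⟩
  by_contra hbad
  let S : Set (Subgroup G × Subgroup G) :=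
    {P | P.1 ∈ Cfsg.maxInvSubgroups ⊤ A {q} ∧ P.2 ∈ Cfsg.maxInvSubgroups ⊤ A {q} ∧
      P.1 ⊓ P.2 ≠ ⊥ ∧ ¬ KConj A P.1 P.2}
  obtain ⟨⟨R₁, R₂⟩, hRS, hRmax⟩ := Set.exists_max_image S
    (fun P => Nat.card ↥(P.1 ⊓ P.2)) (Set.toFinite S) ⟨(Q₁, Q₂), h₁, h₂, hne, hbad⟩
  obtain ⟨hR₁, hR₂, hRne, hRbad⟩ := hRS
  simp only at hR₁ hR₂ hRne hRbad
  set D := R₁ ⊓ R₂ with hD
  have hDpos : 1 < Nat.card D := by
    rcases Nat.lt_or_ge 1 (Nat.card D) with h | h
    · exact h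
    · exfalso
      have : Nat.card D = 1 := le_antisymm h Nat.card_pos
      exact hRne (Subgroup.card_eq_one.1 this)
  have hgood : ∀ P₁ P₂ : Subgroup G, P₁ ∈ Cfsg.maxInvSubgroups ⊤ A {q} →
      P₂ ∈ Cfsg.maxInvSubgroups ⊤ A {q} → Nat.card D < Nat.card ↥(P₁ ⊓ P₂) → KConj A P₁ P₂ := by
    intro P₁ P₂ hP₁ hP₂ hlt
    by_contra hb
    have hne' : P₁ ⊓ P₂ ≠ ⊥ := by
      intro h
      rw [h, Subgroup.card_bot] at hlt
      omega
    have := hRmax (P₁, P₂) ⟨hP₁, hP₂, hne', hb⟩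
    simp only at this
    omega
  have hR₁q : IsPGroup q R₁ := ((mem_invq_iff hq).1 hR₁.1).1
  have hR₂q : IsPGroup q R₂ := ((mem_invq_iff hq).1 hR₂.1).1
  have hAR₁ : A ≤ Subgroup.normalizer (R₁ : Set G) := hR₁.1.2.2
  have hAR₂ : A ≤ Subgroup.normalizer (R₂ : Set G) := hR₂.1.2.2
  have hD₁ : D ≠ R₁ := by
    intro h
    have hle : R₁ ≤ R₂ := h ▸ inf_le_right
    have := hR₁.2 R₂ hR₂.1 hle
    exact hRbad (this ▸ KConj.refl A R₂)
  have hD₂ : D ≠ R₂ := by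
    intro h
    have hle : R₂ ≤ R₁ := h ▸ inf_le_left
    have := hR₂.2 R₁ hR₁.1 hle
    exact hRbad (this ▸ KConj.refl A R₂)
  have hAD : A ≤ Subgroup.normalizer (D : Set G) := by
    intro a ha
    rw [mem_normalizer_iff_map_conj, hD, Subgroup.map_inf _ _ _ (MulAut.conj a).injective,
      mem_normalizer_iff_map_conj.1 (hAR₁ ha), mem_normalizer_iff_map_conj.1 (hAR₂ ha)]
  set H := Subgroup.normalizer (D : Set G) with hH
  have hHtop : H ≠ ⊤ := by
    intro h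
    have hnorm : D.Normal := Subgroup.normalizer_eq_top_iff.1 h
    rcases hnorm.eq_bot_or_eq_top with h1 | h1
    · exact hRne h1
    · have e1 : R₁ = ⊤ := top_le_iff.1 (h1 ▸ (inf_le_left : D ≤ R₁))
      exact hD₁ (h1.trans e1.symm)
  -- the normalizers of `D` in `R₁`, `R₂` are strictly larger
  have hgrow : ∀ R : Subgroup G, IsPGroup q R → D ≤ R → D ≠ R →
      Nat.card D < Nat.card ↥(H ⊓ R) := by
    intro R hRq hDR hDne
    have hle : D ≤ H ⊓ R := le_inf Subgroup.le_normalizer hDR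
    apply lt_of_le_of_ne (Subgroup.card_le_of_le hle)
    intro hcard
    have h1 : D = H ⊓ R := Subgroup.eq_of_le_of_card_ge hle hcard.ge
    exact hDne (eq_of_normalizer_inf_le D R hRq hDR (le_of_eq h1.symm))
  have hlt₁ := hgrow R₁ hR₁q inf_le_left hD₁
  have hlt₂ := hgrow R₂ hR₂q inf_le_right hD₂
  have hinvT : ∀ R : Subgroup G, A ≤ Subgroup.normalizer (R : Set G) →
      A ≤ Subgroup.normalizer ((H ⊓ R : Subgroup G) : Set G) := by
    intro R hAR a ha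
    have haH : a ∈ Subgroup.normalizer ((H : Subgroup G) : Set G) := Subgroup.le_normalizer (hAD ha)
    rw [mem_normalizer_iff_map_conj, Subgroup.map_inf _ _ _ (MulAut.conj a).injective,
      mem_normalizer_iff_map_conj.1 haH, mem_normalizer_iff_map_conj.1 (hAR ha)]
  obtain ⟨c, hcK, R, hR, hT₁R, hT₂R⟩ := sylow_step hsolv hA hq hqA hHtop hAD
    (T₁ := H ⊓ R₁) (T₂ := H ⊓ R₂) inf_le_left (hR₁q.to_le inf_le_right) (hinvT R₁ hAR₁)
    inf_le_left (hR₂q.to_le inf_le_right) (hinvT R₂ hAR₂)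
  obtain ⟨Q'', hQ'', hRQ''⟩ := exists_maxInv_ge hR
  have hcC : c ∈ Subgroup.centralizer (A : Set G) := bgK_le_centralizer A hcK
  have hR₁c := maxInv_map_conj hcC hR₁
  -- `Q'' ~ R₂`
  have hc₂ : KConj A Q'' R₂ := by
    apply hgood _ _ hQ'' hR₂
    exact lt_of_lt_of_le hlt₂ (Subgroup.card_le_of_le (le_inf (hT₂R.trans hRQ'') inf_le_right))
  -- `R₁^c ~ Q''`
  have hc₁ : KConj A (R₁.map (MulAut.conj c).toMonoidHom) Q'' := by
    apply hgood _ _ hR₁c hQ''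
    have hle : (H ⊓ R₁).map (MulAut.conj c).toMonoidHom ≤
        R₁.map (MulAut.conj c).toMonoidHom ⊓ Q'' :=
      le_inf (Subgroup.map_mono inf_le_right) (hT₁R.trans hRQ'')
    have := Subgroup.card_le_of_le hle
    rw [card_map_conj] at this
    exact lt_of_lt_of_le hlt₁ this
  have hc₀ : KConj A R₁ (R₁.map (MulAut.conj c).toMonoidHom) := ⟨c, hcK, rfl⟩
  exact hRbad (hc₀.trans (hc₁.trans hc₂))

/-- **Theorem 7.2**: two maximal `A`-invariant `q`-subgroups both meeting a proper subgroup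
`H ≥ A` nontrivially are `K`-conjugate. -/
theorem kconj_of_common_proper [Finite G] [IsSimpleGroup G]
    (hsolv : ∀ H : Subgroup G, H ≠ ⊤ → Group.IsSolvable H) {A : Subgroup G}
    (hA : Cfsg.TransitivityHypothesis A) {q : ℕ} (hq : q.Prime) (hqA : ¬ q ∣ Nat.card A)
    {Q₁ Q₂ : Subgroup G} (h₁ : Q₁ ∈ Cfsg.maxInvSubgroups ⊤ A {q})
    (h₂ : Q₂ ∈ Cfsg.maxInvSubgroups ⊤ A {q}) {H : Subgroup G} (hH : H ≠ ⊤) (hAH : A ≤ H)
    (hH₁ : H ⊓ Q₁ ≠ ⊥) (hH₂ : H ⊓ Q₂ ≠ ⊥) : KConj A Q₁ Q₂ := by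
  have hQ₁q : IsPGroup q Q₁ := ((mem_invq_iff hq).1 h₁.1).1
  have hQ₂q : IsPGroup q Q₂ := ((mem_invq_iff hq).1 h₂.1).1
  have hAQ₁ : A ≤ Subgroup.normalizer (Q₁ : Set G) := h₁.1.2.2
  have hAQ₂ : A ≤ Subgroup.normalizer (Q₂ : Set G) := h₂.1.2.2
  have hinvT : ∀ R : Subgroup G, A ≤ Subgroup.normalizer (R : Set G) →
      A ≤ Subgroup.normalizer ((H ⊓ R : Subgroup G) : Set G) := by
    intro R hAR a ha
    have haH : a ∈ Subgroup.normalizer ((H : Subgroup G) : Set G) := Subgroup.le_normalizer (hAH ha)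
    rw [mem_normalizer_iff_map_conj, Subgroup.map_inf _ _ _ (MulAut.conj a).injective,
      mem_normalizer_iff_map_conj.1 haH, mem_normalizer_iff_map_conj.1 (hAR ha)]
  obtain ⟨c, hcK, R, hR, hT₁R, hT₂R⟩ := sylow_step hsolv hA hq hqA hH hAH
    (T₁ := H ⊓ Q₁) (T₂ := H ⊓ Q₂) inf_le_left (hQ₁q.to_le inf_le_right) (hinvT Q₁ hAQ₁)
    inf_le_left (hQ₂q.to_le inf_le_right) (hinvT Q₂ hAQ₂)
  obtain ⟨Q₃, hQ₃, hRQ₃⟩ := exists_maxInv_ge hR
  have hcC : c ∈ Subgroup.centralizer (A : Set G) := bgK_le_centralizer A hcK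
  have hQ₁c := maxInv_map_conj hcC h₁
  have hc₂ : KConj A Q₃ Q₂ := by
    apply kconj_of_inf_ne_bot hsolv hA hq hqA hQ₃ h₂
    intro hb
    apply hH₂
    rw [eq_bot_iff, ← hb]
    exact le_inf (hT₂R.trans hRQ₃) inf_le_right
  have hc₁ : KConj A (Q₁.map (MulAut.conj c).toMonoidHom) Q₃ := by
    apply kconj_of_inf_ne_bot hsolv hA hq hqA hQ₁c hQ₃
    intro hb
    have hle : (H ⊓ Q₁).map (MulAut.conj c).toMonoidHom ≤
        Q₁.map (MulAut.conj c).toMonoidHom ⊓ Q₃ :=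
      le_inf (Subgroup.map_mono inf_le_right) (hT₁R.trans hRQ₃)
    rw [hb, le_bot_iff] at hle
    apply hH₁
    have hcard := card_map_conj (H ⊓ Q₁) c
    rw [hle, Subgroup.card_bot] at hcard
    exact Subgroup.card_eq_one.1 hcard.symm
  exact (KConj.trans ⟨c, hcK, rfl⟩ hc₁).trans hc₂

end Cfsg.Agent.Lib.Helper17
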