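/-
Helper lemmas (helper17): transitivity theorems 7.3 and 7.4 of Bender–Glauberman
(`Z(A)` of rank at least 3, resp. of rank at least 2 with `q ∣ |C_G(A)|`).
-/
import Mathlib
import Cfsg.Agent.Lib.Helper17.BGTrans
import Cfsg.Agent.S0058
import Cfsg.Agent.S1324

set_option autoImplicit false
open scoped Pointwise

namespace Cfsg.Agent.Lib.Helper17

variable {G : Type*} [Group G]

/-- From "`Z(A)` has `p`-rank more than `k`" extract an elementary abelian `p`-subgroup of `G`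
inside `Z(A)` of order more than `p ^ k`. -/
theorem exists_elemAb_of_not_rankLE {A : Subgroup G} {k : ℕ}
    (hZ : ¬ Cfsg.RankLE k ↥(A ⊓ Subgroup.centralizer (A : Set G))) :
    ∃ p : ℕ, p.Prime ∧ ∃ E : Subgroup G, E ≤ A ⊓ Subgroup.centralizer (A : Set G) ∧
      Cfsg.IsElementaryAbelian p E ∧ p ^ k < Nat.card E := by
  unfold Cfsg.RankLE Cfsg.PRankLE at hZ
  push Not at hZ
  obtain ⟨p, hp, E, hEc, hEp, hcard⟩ := hZ
  refine ⟨p, hp, E.map (Subgroup.subtype _), Subgroup.map_subtype_le _, ⟨?_, ?_⟩, ?_⟩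
  · refine ⟨⟨fun x y => ?_⟩⟩
    obtain ⟨x, ⟨x', hx', rfl⟩⟩ := x
    obtain ⟨y, ⟨y', hy', rfl⟩⟩ := y
    apply Subtype.ext
    have := hEc.is_comm.comm ⟨x', hx'⟩ ⟨y', hy'⟩
    have h2 := congrArg (fun z : E => ((z : ↥(A ⊓ Subgroup.centralizer (A : Set G))) : G)) this
    simpa using h2
  · rintro _ ⟨a, ha, rfl⟩
    have := hEp a ha
    simpa using congrArg (fun z : ↥(A ⊓ Subgroup.centralizer (A : Set G)) => (z : G)) this
  · rw [Subgroup.card_map_of_injective (Subgroup.subtype_injective _)]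
    exact hcard

theorem centralizer_singleton_ne_top {e : G} (hne : e ≠ 1) [IsSimpleGroup G]
    (hnc : ¬ IsMulCommutative G) : Subgroup.centralizer ({e} : Set G) ≠ ⊤ := by
  intro h
  have hec : e ∈ Subgroup.center G := by
    rw [Subgroup.mem_center_iff]
    intro g
    have hg : g ∈ Subgroup.centralizer ({e} : Set G) := h ▸ Subgroup.mem_top g
    exact (Subgroup.mem_centralizer_iff.1 hg e rfl).symm
  rcases (inferInstance : (Subgroup.center G).Normal).eq_bot_or_eq_top with h1 | h1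
  · rw [h1, Subgroup.mem_bot] at hec; exact hne hec
  · apply hnc
    refine ⟨⟨fun a b => ?_⟩⟩
    have ha : a ∈ Subgroup.center G := h1 ▸ Subgroup.mem_top a
    exact ((Subgroup.mem_center_iff.1 ha) b).symm

theorem le_centralizer_singleton_of_mem_center {A : Subgroup G} {e : G}
    (he : e ∈ A ⊓ Subgroup.centralizer (A : Set G)) : A ≤ Subgroup.centralizer ({e} : Set G) := by
  intro a ha
  rw [Subgroup.mem_centralizer_iff]
  intro x hx
  rw [Set.mem_singleton_iff] at hx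
  subst hx
  exact (Subgroup.mem_centralizer_iff.1 he.2 a ha).symm

/-- if `⊥` is a maximal `A`-invariant `q`-subgroup, it is the only one -/
theorem eq_bot_of_maxInv_bot {A Q : Subgroup G} {π : Set ℕ}
    (h : (⊥ : Subgroup G) ∈ Cfsg.maxInvSubgroups ⊤ A π) (hQ : Q ∈ Cfsg.invSubgroups ⊤ A π) :
    Q = ⊥ := h.2 Q hQ bot_le

/-- **Theorem 7.3**. -/
theorem kconj_of_rank_three [Finite G] [IsSimpleGroup G] (hnc : ¬ IsMulCommutative G)
    (hsolv : ∀ H : Subgroup G, H ≠ ⊤ → Group.IsSolvable H) {A : Subgroup G}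
    (hA : Cfsg.TransitivityHypothesis A)
    (hZ : ¬ Cfsg.RankLE 2 ↥(A ⊓ Subgroup.centralizer (A : Set G)))
    {q : ℕ} (hq : q.Prime) (hqA : ¬ q ∣ Nat.card A)
    {Q₁ Q₂ : Subgroup G} (h₁ : Q₁ ∈ Cfsg.maxInvSubgroups ⊤ A {q})
    (h₂ : Q₂ ∈ Cfsg.maxInvSubgroups ⊤ A {q}) : KConj A Q₁ Q₂ := by
  by_cases hb₁ : Q₁ = ⊥
  · have : Q₂ = ⊥ := eq_bot_of_maxInv_bot (hb₁ ▸ h₁) h₂.1
    rw [hb₁, this]; exact KConj.refl A ⊥
  by_cases hb₂ : Q₂ = ⊥
  · exact absurd (eq_bot_of_maxInv_bot (hb₂ ▸ h₂) h₁.1) hb₁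
  obtain ⟨p, hp, E, hEZ, hEel, hEcard⟩ := exists_elemAb_of_not_rankLE hZ
  haveI : Fact p.Prime := ⟨hp⟩
  have hEA : E ≤ A := hEZ.trans inf_le_left
  have hQ₁q : IsPGroup q Q₁ := ((mem_invq_iff hq).1 h₁.1).1
  have hQ₂q : IsPGroup q Q₂ := ((mem_invq_iff hq).1 h₂.1).1
  have hAQ₁ : A ≤ Subgroup.normalizer (Q₁ : Set G) := h₁.1.2.2
  have hAQ₂ : A ≤ Subgroup.normalizer (Q₂ : Set G) := h₂.1.2.2
  -- `p ∣ |A|`, so `p ≠ q`
  have hpE : p ∣ Nat.card E := by
    have hEp : IsPGroup p E := by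
      rintro ⟨g, hg⟩
      exact ⟨1, Subtype.ext (by simpa using hEel.2 g hg)⟩
    obtain ⟨n, hn⟩ := IsPGroup.iff_card.mp hEp
    rcases Nat.eq_zero_or_pos n with h0 | h0
    · rw [h0, pow_zero] at hn
      rw [hn] at hEcard
      have : 1 ≤ p ^ 2 := Nat.one_le_pow _ _ hp.pos
      omega
    · rw [hn]; exact dvd_pow_self p h0.ne'
  have hpA : p ∣ Nat.card A := dvd_trans hpE (Subgroup.card_dvd_of_le hEA)
  have hndvd : ∀ Q : Subgroup G, IsPGroup q Q → ¬ p ∣ Nat.card Q := by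
    intro Q hQ hdvd
    haveI : Fact q.Prime := ⟨hq⟩
    obtain ⟨n, hn⟩ := IsPGroup.iff_card.mp hQ
    rw [hn] at hdvd
    have := (Nat.prime_dvd_prime_iff_eq hp hq).1 (hp.dvd_of_dvd_pow hdvd)
    exact hqA (this ▸ hpA)
  have hE2 : p ^ 2 ≤ Nat.card E := hEcard.le
  -- hyperplanes with nontrivial fixed points
  have hhyp : ∀ Q : Subgroup G, IsPGroup q Q → A ≤ Subgroup.normalizer (Q : Set G) → Q ≠ ⊥ →
      ∃ B : Subgroup G, B ≤ E ∧ B.relIndex E ≤ p ∧ Q ⊓ Subgroup.centralizer (B : Set G) ≠ ⊥ := by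
    intro Q hQq hAQ hQne
    have hgen := Cfsg.Agent.S1324.result p E Q hEel hE2 (hndvd Q hQq) (hEA.trans hAQ)
    by_contra hcon
    push Not at hcon
    apply hQne
    rw [hgen]
    apply iSup_eq_bot.2
    rintro ⟨B, hBE, hBi⟩
    exact hcon B hBE hBi
  obtain ⟨B₁, hB₁E, hB₁i, hB₁Q⟩ := hhyp Q₁ hQ₁q hAQ₁ hb₁
  obtain ⟨B₂, hB₂E, hB₂i, hB₂Q⟩ := hhyp Q₂ hQ₂q hAQ₂ hb₂
  -- `B₁ ⊓ B₂ ≠ ⊥`
  have hBne : B₁ ⊓ B₂ ≠ ⊥ := by
    intro hb
    have h1 : (B₁ ⊓ B₂).relIndex E ≤ B₁.relIndex E * B₂.relIndex E := Subgroup.relIndex_inf_le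
    rw [hb, Subgroup.relIndex_bot_left] at h1
    have : Nat.card E ≤ p * p := h1.trans (Nat.mul_le_mul hB₁i hB₂i)
    rw [← pow_two] at this
    omega
  obtain ⟨e, heB, he1⟩ := (Subgroup.ne_bot_iff_exists_ne_one).1 hBne |> fun ⟨e, h⟩ =>
    (⟨(e : G), e.2, fun h1 => h (Subtype.ext h1)⟩ : ∃ e : G, e ∈ B₁ ⊓ B₂ ∧ e ≠ 1)
  have heZ : e ∈ A ⊓ Subgroup.centralizer (A : Set G) := hEZ (hB₁E heB.1)
  have hcent : ∀ B : Subgroup G, e ∈ B →
      Subgroup.centralizer (B : Set G) ≤ Subgroup.centralizer ({e} : Set G) := by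
    intro B heB
    apply Subgroup.centralizer_le
    intro x hx
    rw [Set.mem_singleton_iff] at hx
    subst hx
    exact heB
  refine kconj_of_common_proper hsolv hA hq hqA h₁ h₂
    (centralizer_singleton_ne_top he1 hnc) (le_centralizer_singleton_of_mem_center heZ) ?_ ?_
  · intro hb
    apply hB₁Q
    rw [eq_bot_iff, ← hb]
    exact le_inf (inf_le_right.trans (hcent B₁ heB.1)) inf_le_left
  · intro hb
    apply hB₂Q
    rw [eq_bot_iff, ← hb]
    exact le_inf (inf_le_right.trans (hcent B₂ heB.2)) inf_le_left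

/-- **Theorem 7.4**. -/
theorem kconj_of_rank_two [Finite G] [IsSimpleGroup G] (hnc : ¬ IsMulCommutative G)
    (hsolv : ∀ H : Subgroup G, H ≠ ⊤ → Group.IsSolvable H) {A : Subgroup G}
    (hA : Cfsg.TransitivityHypothesis A)
    (hZ : ¬ Cfsg.RankLE 1 ↥(A ⊓ Subgroup.centralizer (A : Set G)))
    {q : ℕ} (hq : q.Prime) (hqA : ¬ q ∣ Nat.card A)
    (hqC : q ∣ Nat.card (Subgroup.centralizer (A : Set G)))
    {Q₁ Q₂ : Subgroup G} (h₁ : Q₁ ∈ Cfsg.maxInvSubgroups ⊤ A {q})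
    (h₂ : Q₂ ∈ Cfsg.maxInvSubgroups ⊤ A {q}) : KConj A Q₁ Q₂ := by
  haveI : Fact q.Prime := ⟨hq⟩
  obtain ⟨p, hp, E, hEZ, hEel, hEcard⟩ := exists_elemAb_of_not_rankLE hZ
  haveI : Fact p.Prime := ⟨hp⟩
  have hEA : E ≤ A := hEZ.trans inf_le_left
  -- a subgroup of order `q` centralized by `A`
  obtain ⟨t', ht'⟩ := exists_prime_orderOf_dvd_card' q hqC
  set t : G := (t' : G) with ht
  have htC : t ∈ Subgroup.centralizer (A : Set G) := t'.2
  have hto : orderOf t = q := by rw [ht, Subgroup.orderOf_coe]; exact ht'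
  have ht1 : t ≠ 1 := by
    intro h
    rw [h, orderOf_one] at hto
    exact hq.one_lt.ne hto
  set T := Subgroup.zpowers t with hT
  have hTq : IsPGroup q T := by
    apply IsPGroup.of_card (n := 1)
    rw [pow_one, hT, Nat.card_zpowers, hto]
  have hTC : T ≤ Subgroup.centralizer (A : Set G) := by
    rw [hT, Subgroup.zpowers_le]; exact htC
  have hAT : A ≤ Subgroup.normalizer (T : Set G) := by
    intro a ha
    rw [Subgroup.mem_normalizer_iff'']
    intro x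
    have hcomm : ∀ y : G, y ∈ T → a⁻¹ * y * a = y := by
      intro y hy
      have := Subgroup.mem_centralizer_iff.1 (hTC hy) a ha
      rw [mul_assoc, ← this, ← mul_assoc, inv_mul_cancel, one_mul]
    constructor
    · intro hx; rw [hcomm x hx]; exact hx
    · intro hx
      have h2 := hcomm _ hx
      have hx' : x = a * (a⁻¹ * x * a) * a⁻¹ := by group
      have h3 : a * (a⁻¹ * x * a) * a⁻¹ = a⁻¹ * x * a := by
        have hc := Subgroup.mem_centralizer_iff.1 (hTC hx) a ha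
        have hc' : a * (a⁻¹ * x * a) = (a⁻¹ * x * a) * a := hc
        rw [hc']; group
      rw [hx', h3]; exact hx
  have hTne : T ≠ ⊥ := by
    intro h
    have : t ∈ T := Subgroup.mem_zpowers t
    rw [h, Subgroup.mem_bot] at this
    exact ht1 this
  have hTinv : T ∈ Cfsg.invSubgroups ⊤ A {q} := (mem_invq_iff hq).2 ⟨hTq, hAT⟩
  obtain ⟨Qs, hQs, hTQs⟩ := exists_maxInv_ge hTinv
  -- `p ∣ |A|`, so `p ≠ q`
  have hEp : IsPGroup p E := by
    rintro ⟨g, hg⟩
    exact ⟨1, Subtype.ext (by simpa using hEel.2 g hg)⟩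
  have hpE : p ∣ Nat.card E := by
    obtain ⟨n, hn⟩ := IsPGroup.iff_card.mp hEp
    rcases Nat.eq_zero_or_pos n with h0 | h0
    · rw [h0, pow_zero] at hn
      rw [hn, pow_one] at hEcard
      have := hp.one_lt
      omega
    · rw [hn]; exact dvd_pow_self p h0.ne'
  have hpA : p ∣ Nat.card A := dvd_trans hpE (Subgroup.card_dvd_of_le hEA)
  -- `E` is not cyclic
  haveI hEcomm : IsMulCommutative E := hEel.1
  have hEnc : ¬ IsCyclic E := by
    intro hc
    obtain ⟨g, hg⟩ := hc.exists_generator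
    have h1 : Nat.card E = orderOf g := by
      rw [← Nat.card_zpowers g]
      have : Subgroup.zpowers g = ⊤ := by
        rw [Subgroup.eq_top_iff']; exact hg
      rw [this, Subgroup.card_top]
    have h2 : g ^ p = 1 := Subtype.ext (by simpa using hEel.2 g g.2)
    have h3 : orderOf g ≤ p := Nat.le_of_dvd hp.pos (orderOf_dvd_of_pow_eq_one h2)
    rw [pow_one] at hEcard
    omega
  -- every maximal element is conjugate to `Qs`
  have key : ∀ Q : Subgroup G, Q ∈ Cfsg.maxInvSubgroups ⊤ A {q} → KConj A Q Qs := by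
    intro Q hQ
    have hQq : IsPGroup q Q := ((mem_invq_iff hq).1 hQ.1).1
    have hAQ : A ≤ Subgroup.normalizer (Q : Set G) := hQ.1.2.2
    have hQne : Q ≠ ⊥ := by
      intro hb
      exact hTne (eq_bot_of_maxInv_bot (hb ▸ hQ) hTinv)
    have hcop : (Nat.card E).Coprime (Nat.card Q) := by
      obtain ⟨n, hn⟩ := IsPGroup.iff_card.mp hEp
      obtain ⟨m, hm⟩ := IsPGroup.iff_card.mp hQq
      rw [hn, hm]
      apply Nat.Coprime.pow
      rw [Nat.coprime_primes hp hq]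
      intro hpq
      exact hqA (hpq ▸ hpA)
    have hgen := Cfsg.Agent.S0058.result E Q hEnc (hEA.trans hAQ) hcop
    obtain ⟨e, heE, he1, heQ⟩ : ∃ e : G, e ∈ E ∧ e ≠ 1 ∧
        Q ⊓ Subgroup.centralizer ({e} : Set G) ≠ ⊥ := by
      by_contra hcon
      push Not at hcon
      apply hQne
      rw [← hgen]
      apply iSup_eq_bot.2
      intro e
      apply iSup_eq_bot.2
      rintro ⟨heE, he1⟩
      exact hcon e heE he1
    have heZ : e ∈ A ⊓ Subgroup.centralizer (A : Set G) := hEZ heE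
    refine kconj_of_common_proper hsolv hA hq hqA hQ hQs
      (centralizer_singleton_ne_top he1 hnc) (le_centralizer_singleton_of_mem_center heZ) ?_ ?_
    · rw [inf_comm]; exact heQ
    · intro hb
      apply hTne
      rw [eq_bot_iff, ← hb]
      refine le_inf ?_ hTQs
      refine hTC.trans (Subgroup.centralizer_le ?_)
      intro x hx
      rw [Set.mem_singleton_iff] at hx
      subst hx
      exact heZ.1
  exact (key Q₁ h₁).trans (key Q₂ h₂).symm

end Cfsg.Agent.Lib.Helper17
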