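import Mathlib
import Cfsg.Prelude.Def_SylowChains

/-!
helper17: the graph on the Sylow `p`-subgroups (edges: distinct, nontrivial intersection),
connectivity via `Relation.ReflTransGen`, bridge to `Cfsg.IsSylowChainConnected`, and the stabilizer of a
connected component.
-/

set_option autoImplicit false
open scoped Pointwise

namespace Cfsg.Agent.Lib.Helper17

/-- Adjacency in the Sylow graph. -/
def SylAdj {G : Type*} [Group G] (p : ℕ) (S T : Sylow p G) : Prop :=
  S ≠ T ∧ (S : Subgroup G) ⊓ (T : Subgroup G) ≠ ⊥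

theorem mem_sylow_smul_iff {G : Type*} [Group G] {p : ℕ} (g x : G) (S : Sylow p G) :
    x ∈ ((g • S : Sylow p G) : Subgroup G) ↔ g⁻¹ * x * g ∈ (S : Subgroup G) := by
  rw [Sylow.coe_subgroup_smul, Subgroup.mem_pointwise_smul_iff_inv_smul_mem]
  simp [MulAut.smul_def]

theorem SylAdj.symm {G : Type*} [Group G] {p : ℕ} {S T : Sylow p G} (h : SylAdj p S T) :
    SylAdj p T S := ⟨h.1.symm, by rw [inf_comm]; exact h.2⟩

theorem SylAdj.smul {G : Type*} [Group G] {p : ℕ} {S T : Sylow p G} (h : SylAdj p S T) (g : G) :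
    SylAdj p (g • S) (g • T) := by
  refine ⟨fun he => h.1 (MulAction.injective g he), ?_⟩
  intro hb
  apply h.2
  rw [eq_bot_iff]
  intro x hx
  have h1 : g * x * g⁻¹ ∈ ((g • S : Sylow p G) : Subgroup G) ⊓ ((g • T : Sylow p G) : Subgroup G) := by
    refine Subgroup.mem_inf.mpr ⟨?_, ?_⟩
    · rw [mem_sylow_smul_iff]
      have : g⁻¹ * (g * x * g⁻¹) * g = x := by group
      rw [this]; exact hx.1
    · rw [mem_sylow_smul_iff]
      have : g⁻¹ * (g * x * g⁻¹) * g = x := by group
      rw [this]; exact hx.2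
  rw [hb, Subgroup.mem_bot] at h1
  rw [Subgroup.mem_bot]
  have : x = g⁻¹ * (g * x * g⁻¹) * g := by group
  rw [this, h1]; group

/-- Connectivity in the Sylow graph. -/
def SylConn {G : Type*} [Group G] (p : ℕ) (S T : Sylow p G) : Prop :=
  Relation.ReflTransGen (SylAdj p) S T

theorem SylConn.refl {G : Type*} [Group G] {p : ℕ} (S : Sylow p G) : SylConn p S S :=
  Relation.ReflTransGen.refl

theorem SylConn.trans {G : Type*} [Group G] {p : ℕ} {S T U : Sylow p G} (h1 : SylConn p S T)
    (h2 : SylConn p T U) : SylConn p S U := Relation.ReflTransGen.trans h1 h2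

theorem SylConn.symm {G : Type*} [Group G] {p : ℕ} {S T : Sylow p G} (h : SylConn p S T) :
    SylConn p T S := by
  unfold SylConn at h ⊢
  induction h with
  | refl => exact Relation.ReflTransGen.refl
  | tail _ hbc ih => exact Relation.ReflTransGen.head (SylAdj.symm hbc) ih

theorem SylConn.smul {G : Type*} [Group G] {p : ℕ} {S T : Sylow p G} (h : SylConn p S T) (g : G) :
    SylConn p (g • S) (g • T) := by
  unfold SylConn at h ⊢
  induction h with
  | refl => exact Relation.ReflTransGen.refl
  | tail _ hbc ih => exact ih.tail (SylAdj.smul hbc g)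

theorem SylConn.of_adj {G : Type*} [Group G] {p : ℕ} {S T : Sylow p G} (h : SylAdj p S T) :
    SylConn p S T := Relation.ReflTransGen.single h

/-- Two Sylow subgroups with a common nontrivial element are connected. -/
theorem SylConn.of_mem {G : Type*} [Group G] {p : ℕ} {S T : Sylow p G} {x : G}
    (hxS : x ∈ (S : Subgroup G)) (hxT : x ∈ (T : Subgroup G)) (hx : x ≠ 1) : SylConn p S T := by
  by_cases hST : S = T
  · rw [hST]; exact SylConn.refl T
  · refine SylConn.of_adj ⟨hST, ?_⟩
    intro hb
    have : x ∈ (S : Subgroup G) ⊓ (T : Subgroup G) := ⟨hxS, hxT⟩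
    rw [hb, Subgroup.mem_bot] at this
    exact hx this

/-- A connected pair is joined by a chain indexed by `Fin (n+1)`. -/
theorem SylConn.exists_chain {G : Type*} [Group G] {p : ℕ} {S T : Sylow p G} (h : SylConn p S T) :
    ∃ (n : ℕ) (c : Fin (n + 1) → Sylow p G), c 0 = S ∧ c (Fin.last n) = T ∧
      ∀ i : Fin n, SylAdj p (c i.castSucc) (c i.succ) := by
  unfold SylConn at h
  induction h using Relation.ReflTransGen.head_induction_on with
  | refl => exact ⟨0, fun _ => T, rfl, rfl, fun i => i.elim0⟩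
  | @head a b hab _ ih =>
    obtain ⟨n, c, h0, hl, hc⟩ := ih
    refine ⟨n + 1, Fin.cons a c, ?_, ?_, ?_⟩
    · rfl
    · rw [← Fin.succ_last, Fin.cons_succ]; exact hl
    · intro i
      refine Fin.cases ?_ (fun j => ?_) i
      · rw [Fin.castSucc_zero, Fin.cons_zero, Fin.cons_succ, h0]; exact hab
      · rw [← Fin.succ_castSucc, Fin.cons_succ, Fin.cons_succ]; exact hc j

/-- If all pairs of Sylow subgroups are connected, the Sylow subgroups are chain-connected. -/
theorem isSylowChainConnected_of_sylConn {G : Type*} [Group G] {p : ℕ}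
    (h : ∀ S T : Sylow p G, SylConn p S T) : Cfsg.IsSylowChainConnected p G := by
  intro S T
  by_cases hST : S = T
  · refine ⟨0, fun _ => S, rfl, hST, fun _ => inf_le_left, fun i => i.elim0⟩
  by_cases hI : (S : Subgroup G) ⊓ (T : Subgroup G) = ⊥
  · obtain ⟨n, c, h0, hl, hc⟩ := (h S T).exists_chain
    exact ⟨n, c, h0, hl, fun i => by rw [hI]; exact bot_le, hc⟩
  · refine ⟨1, Fin.cons S (fun _ => T), rfl, rfl, ?_, ?_⟩
    · intro i
      refine Fin.cases ?_ (fun j => ?_) i
      · rw [Fin.cons_zero]; exact inf_le_left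
      · rw [Fin.cons_succ]; exact inf_le_right
    · intro i
      have hi : i = 0 := Subsingleton.elim _ _
      subst hi
      exact ⟨hST, hI⟩

/-- A chain gives connectivity. -/
theorem sylConn_of_isSylowChainConnected {G : Type*} [Group G] {p : ℕ}
    (h : Cfsg.IsSylowChainConnected p G) (S T : Sylow p G) : SylConn p S T := by
  obtain ⟨n, c, h0, hl, -, hc⟩ := h S T
  have key : ∀ i : Fin (n + 1), SylConn p S (c i) := by
    intro i
    induction i using Fin.induction with
    | zero => rw [h0]; exact SylConn.refl S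
    | succ j ih => exact ih.trans (SylConn.of_adj (hc j))
  rw [← hl]; exact key _

/-- The stabilizer of the connected component of `S₀`. -/
def compStab {G : Type*} [Group G] (p : ℕ) (S₀ : Sylow p G) : Subgroup G where
  carrier := {g | SylConn p S₀ (g • S₀)}
  one_mem' := by
    show SylConn p S₀ ((1 : G) • S₀)
    rw [one_smul]; exact SylConn.refl S₀
  mul_mem' := by
    intro a b ha hb
    show SylConn p S₀ ((a * b) • S₀)
    rw [mul_smul]
    exact SylConn.trans ha (SylConn.smul hb a)
  inv_mem' := by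
    intro a ha
    show SylConn p S₀ (a⁻¹ • S₀)
    have h1 : SylConn p (a⁻¹ • S₀) (a⁻¹ • a • S₀) := SylConn.smul ha a⁻¹
    rw [inv_smul_smul] at h1
    exact h1.symm

theorem mem_compStab {G : Type*} [Group G] {p : ℕ} {S₀ : Sylow p G} {g : G} :
    g ∈ compStab p S₀ ↔ SylConn p S₀ (g • S₀) := Iff.rfl

theorem le_compStab {G : Type*} [Group G] {p : ℕ} (S₀ : Sylow p G) :
    (S₀ : Subgroup G) ≤ compStab p S₀ := by
  intro s hs
  rw [mem_compStab]
  have : s • S₀ = S₀ := Sylow.smul_eq_iff_mem_normalizer.mpr (Subgroup.le_normalizer hs)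
  rw [this]; exact SylConn.refl S₀

end Cfsg.Agent.Lib.Helper17
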