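import Mathlib
import Cfsg.Prelude.Def_SylowControl
import Cfsg.Agent.Lib.Helper17.SylowGraph

/-!
helper17: transport of `Cfsg.sylowMembers` under conjugation.
-/

set_option autoImplicit false
open scoped Pointwise

namespace Cfsg.Agent.Lib.Helper17

theorem mem_subgroupConjRight_iff {G : Type*} [Group G] (g x : G) (X : Subgroup G) :
    x ∈ Cfsg.subgroupConjRight g X ↔ g * x * g⁻¹ ∈ X := by
  unfold Cfsg.subgroupConjRight
  constructor
  · rintro ⟨q, hq, rfl⟩
    have : g * ((MulAut.conj g⁻¹).toMonoidHom q) * g⁻¹ = q := by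
      simp [mul_assoc]
    rw [this]; exact hq
  · intro h
    exact ⟨g * x * g⁻¹, h, by simp [mul_assoc]⟩

/-- `(l • S)^l = S`. -/
theorem subgroupConjRight_smul_sylow {G : Type*} [Group G] {p : ℕ} (l : G) (S : Sylow p G) :
    Cfsg.subgroupConjRight l ((l • S : Sylow p G) : Subgroup G) = (S : Subgroup G) := by
  ext z
  rw [mem_subgroupConjRight_iff, mem_sylow_smul_iff]
  have : l⁻¹ * (l * z * l⁻¹) * l = z := by group
  rw [this]

/-- If `X ∈ 𝓕(l • S)` then `X^l ∈ 𝓕(S)` for a conjugation-closed family `𝓕`. -/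
theorem sylowMembers_conj {G : Type*} [Group G] [Finite G] {p : ℕ} [Fact p.Prime]
    {𝓕 : Set (Subgroup G)} (h𝓕 : Cfsg.IsNormalSet 𝓕) {S : Sylow p G} {l : G} {X : Subgroup G}
    (hX : X ∈ Cfsg.sylowMembers p 𝓕 ((l • S : Sylow p G) : Subgroup G)) :
    Cfsg.subgroupConjRight l X ∈ Cfsg.sylowMembers p 𝓕 (S : Subgroup G) := by
  obtain ⟨hXF, P, hP⟩ := hX
  refine ⟨h𝓕 X hXF l, ?_⟩
  have hS := subgroupConjRight_smul_sylow l S
  unfold Cfsg.subgroupConjRight at hS ⊢
  have hinj : Function.Injective (MulAut.conj l⁻¹).toMonoidHom := (MulAut.conj l⁻¹).injective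
  have hsurj : Function.Surjective
      (X.equivMapOfInjective (MulAut.conj l⁻¹).toMonoidHom hinj).toMonoidHom :=
    (X.equivMapOfInjective (MulAut.conj l⁻¹).toMonoidHom hinj).surjective
  refine ⟨P.mapSurjective hsurj, ?_⟩
  rw [Sylow.coe_mapSurjective, Subgroup.map_map]
  have hcomp : (X.map (MulAut.conj l⁻¹).toMonoidHom).subtype.comp
      (X.equivMapOfInjective (MulAut.conj l⁻¹).toMonoidHom hinj).toMonoidHom =
      (MulAut.conj l⁻¹).toMonoidHom.comp X.subtype := by
    ext z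
    rfl
  rw [hcomp, ← Subgroup.map_map, hP, Subgroup.map_inf _ _ _ hinj, hS]

end Cfsg.Agent.Lib.Helper17
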