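/-
Helper lemmas (helper17): Sylow subgroups of subgroups, viewed in the ambient group (`IsSylIn`),
for the Alperin–Gorenstein theory of control of Sylow intersections by normalizer functors.
-/
import Mathlib
import Cfsg.Prelude.Def_SylowChains
import Cfsg.Agent.Lib.Helper17.SylowControl
import Cfsg.Agent.Lib.Helper17.Basic

set_option autoImplicit false
open scoped Pointwise

namespace Cfsg.Agent.Lib.Helper17

/-- `R` is (the image in `G` of) a Sylow `p`-subgroup of `H`. -/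
def IsSylIn {G : Type*} [Group G] (p : ℕ) (R H : Subgroup G) : Prop :=
  ∃ P : Sylow p ↥H, (P : Subgroup ↥H).map H.subtype = R

theorem mem_sylowMembers_iff {G : Type*} [Group G] {p : ℕ} {𝓕 : Set (Subgroup G)}
    {S X : Subgroup G} : X ∈ Cfsg.sylowMembers p 𝓕 S ↔ X ∈ 𝓕 ∧ IsSylIn p (S ⊓ X) X := Iff.rfl

theorem coe_smul_eq_map {G : Type*} [Group G] {p : ℕ} (a : G) (P : Sylow p G) :
    ((a • P : Sylow p G) : Subgroup G) = (P : Subgroup G).map (MulAut.conj a).toMonoidHom := by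
  ext z
  rw [mem_sylow_smul_iff, Subgroup.mem_map]
  constructor
  · intro h
    exact ⟨_, h, by simp [mul_assoc]⟩
  · rintro ⟨w, hw, rfl⟩
    have : a⁻¹ * (MulAut.conj a).toMonoidHom w * a = w := by simp [mul_assoc]
    rw [this]; exact hw

namespace IsSylIn

variable {G : Type*} [Group G] {p : ℕ} {R H : Subgroup G}

theorem le (h : IsSylIn p R H) : R ≤ H := by
  obtain ⟨P, rfl⟩ := h
  exact Subgroup.map_subtype_le _

theorem isPGroup (h : IsSylIn p R H) : IsPGroup p R := by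
  obtain ⟨P, rfl⟩ := h
  exact P.isPGroup'.map _

/-- A Sylow subgroup of `H` is a maximal `p`-subgroup of `H`. -/
theorem eq_of_le (h : IsSylIn p R H) {Q : Subgroup G} (hQ : IsPGroup p Q) (hQH : Q ≤ H)
    (hRQ : R ≤ Q) : Q = R := by
  obtain ⟨P, rfl⟩ := h
  have h1 : (P : Subgroup ↥H) ≤ Q.subgroupOf H := by
    intro x hx
    rw [Subgroup.mem_subgroupOf]
    exact hRQ ⟨x, hx, rfl⟩
  have h2 : Q.subgroupOf H = (P : Subgroup ↥H) := P.is_maximal' (hQ.comap_subtype) h1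
  rw [← h2, Subgroup.map_subgroupOf_eq_of_le hQH]

theorem conj (h : IsSylIn p R H) {y : G} (hy : y ∈ H) :
    IsSylIn p (R.map (MulAut.conj y).toMonoidHom) H := by
  obtain ⟨P, rfl⟩ := h
  refine ⟨(⟨y, hy⟩ : ↥H) • P, ?_⟩
  rw [coe_smul_eq_map, Subgroup.map_map, Subgroup.map_map]
  congr 1

theorem exists_conj [Finite G] [Fact p.Prime] {R₁ R₂ : Subgroup G} (h₁ : IsSylIn p R₁ H)
    (h₂ : IsSylIn p R₂ H) : ∃ y ∈ H, R₂ = R₁.map (MulAut.conj y).toMonoidHom := by
  obtain ⟨P₁, rfl⟩ := h₁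
  obtain ⟨P₂, rfl⟩ := h₂
  obtain ⟨y, hy⟩ := MulAction.exists_smul_eq ↥H P₁ P₂
  refine ⟨y, y.2, ?_⟩
  rw [← hy, coe_smul_eq_map, Subgroup.map_map, Subgroup.map_map]
  congr 1

theorem card [Finite G] [Fact p.Prime] (h : IsSylIn p R H) :
    Nat.card R = p ^ (Nat.card H).factorization p := by
  obtain ⟨P, rfl⟩ := h
  rw [Subgroup.card_map_of_injective H.subtype_injective]
  exact P.card_eq_multiplicity

end IsSylIn

/-- A maximal `p`-subgroup of `H` is a Sylow subgroup of `H`. -/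
theorem isSylIn_of_maximal {G : Type*} [Group G] {p : ℕ} {R H : Subgroup G} (hRH : R ≤ H)
    (hR : IsPGroup p R)
    (hmax : ∀ Q : Subgroup G, IsPGroup p Q → Q ≤ H → R ≤ Q → Q = R) : IsSylIn p R H := by
  refine ⟨⟨R.subgroupOf H, hR.comap_subtype, ?_⟩, Subgroup.map_subgroupOf_eq_of_le hRH⟩
  intro Q hQ hle
  have h1 : IsPGroup p (Q.map H.subtype) := hQ.map _
  have h2 : R ≤ Q.map H.subtype := by
    intro r hr
    exact ⟨⟨r, hRH hr⟩, hle (by rw [Subgroup.mem_subgroupOf]; exact hr), rfl⟩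
  have h3 := hmax _ h1 (Subgroup.map_subtype_le _) h2
  ext x
  rw [Subgroup.mem_subgroupOf, ← h3]
  constructor
  · intro hx; exact ⟨x, hx, rfl⟩
  · rintro ⟨x', hx', hxx⟩
    have : x' = x := Subtype.ext hxx
    rw [← this]; exact hx'

theorem exists_isSylIn_ge {G : Type*} [Group G] [Finite G] {p : ℕ} [Fact p.Prime]
    {Q H : Subgroup G} (hQ : IsPGroup p Q) (hQH : Q ≤ H) : ∃ R, IsSylIn p R H ∧ Q ≤ R := by
  have hQ' : IsPGroup p (Q.subgroupOf H) := hQ.comap_subtype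
  obtain ⟨P, hP⟩ := IsPGroup.exists_le_sylow hQ'
  refine ⟨_, ⟨P, rfl⟩, ?_⟩
  intro q hq
  exact ⟨⟨q, hQH hq⟩, hP (by rw [Subgroup.mem_subgroupOf]; exact hq), rfl⟩

theorem IsSylIn.mono {G : Type*} [Group G] {p : ℕ} {R H K : Subgroup G} (h : IsSylIn p R H)
    (hRK : R ≤ K) (hKH : K ≤ H) : IsSylIn p R K :=
  isSylIn_of_maximal hRK h.isPGroup (fun _ hQ hQK hRQ => h.eq_of_le hQ (hQK.trans hKH) hRQ)

theorem isSylIn_sylow {G : Type*} [Group G] {p : ℕ} (S : Sylow p G) {H : Subgroup G}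
    (hSH : (S : Subgroup G) ≤ H) : IsSylIn p (S : Subgroup G) H :=
  isSylIn_of_maximal hSH S.isPGroup' (fun _ hQ _ hSQ => S.is_maximal' hQ hSQ)

/-- If a Sylow subgroup `S` of `G` contains a Sylow subgroup `R` of `H` then `S ∩ H = R`. -/
theorem IsSylIn.inf_eq {G : Type*} [Group G] {p : ℕ} {R H : Subgroup G} (h : IsSylIn p R H)
    (S : Sylow p G) (hRS : R ≤ (S : Subgroup G)) : (S : Subgroup G) ⊓ H = R :=
  h.eq_of_le (S.isPGroup'.to_le inf_le_left) inf_le_right (le_inf hRS h.le)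

/-- A `p`-subgroup of `H` has order at most that of a Sylow subgroup of `H`. -/
theorem card_le_of_isPGroup {G : Type*} [Group G] [Finite G] {p : ℕ} [Fact p.Prime]
    {Q H : Subgroup G} (hQ : IsPGroup p Q) (hQH : Q ≤ H) :
    Nat.card Q ≤ p ^ (Nat.card H).factorization p := by
  obtain ⟨R, hR, hQR⟩ := exists_isSylIn_ge hQ hQH
  rw [← hR.card]
  exact Subgroup.card_le_of_le hQR

/-- A `p`-subgroup of `H` of the order of a Sylow subgroup of `H` is one. -/
theorem isSylIn_of_card {G : Type*} [Group G] [Finite G] {p : ℕ} [Fact p.Prime]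
    {Q H : Subgroup G} (hQ : IsPGroup p Q) (hQH : Q ≤ H)
    (hc : Nat.card Q = p ^ (Nat.card H).factorization p) : IsSylIn p Q H := by
  obtain ⟨R, hR, hQR⟩ := exists_isSylIn_ge hQ hQH
  have : Q = R := Subgroup.eq_of_le_of_card_ge hQR (by rw [hc, hR.card])
  rw [this]; exact hR

end Cfsg.Agent.Lib.Helper17
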