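/-
Helper lemmas (helper17): Bender–Glauberman Theorem 7.5, the step `B ⊲ C`.
-/
import Mathlib
import Cfsg.Agent.Lib.Helper17.BGTrans
import Cfsg.Agent.Lib.Helper17.AG1
import Cfsg.Agent.Lib.Helper1.Coprime

set_option autoImplicit false
open scoped Pointwise

namespace Cfsg.Agent.Lib.Helper17

open Cfsg.Agent.Lib.Helper8 (mem_map_conj conj_mem_map_conj map_conj_map_conj map_conj_one
  map_conj_le_iff map_conj_eq_iff card_map_conj mem_normalizer_iff_map_conj map_conj_eq_of_le)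

variable {G : Type*} [Group G]

theorem le_normalizer_map_conj_of_mem_normalizer {B Y : Subgroup G} {n : G}
    (hn : n ∈ Subgroup.normalizer (B : Set G)) (hBY : B ≤ Subgroup.normalizer (Y : Set G)) :
    B ≤ Subgroup.normalizer ((Y.map (MulAut.conj n).toMonoidHom : Subgroup G) : Set G) := by
  intro b hb
  rw [mem_normalizer_iff_map_conj, map_conj_map_conj]
  have hb' : n⁻¹ * b * n ∈ B := by
    have := (Subgroup.mem_normalizer_iff''.1 hn b).1 hb
    exact this
  have e : b * n = n * (n⁻¹ * b * n) := by group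
  rw [e, ← map_conj_map_conj, mem_normalizer_iff_map_conj.1 (hBY hb')]

theorem inv_mem_normalizer' {B : Subgroup G} {n : G}
    (hn : n ∈ Subgroup.normalizer (B : Set G)) : n⁻¹ ∈ Subgroup.normalizer (B : Set G) :=
  inv_mem hn

theorem inv_map_conj_of_mem_normalizer [Finite G] {q : ℕ} {B Y : Subgroup G} {n : G}
    (hn : n ∈ Subgroup.normalizer (B : Set G)) (hY : Y ∈ Cfsg.invSubgroups ⊤ B {q}) :
    Y.map (MulAut.conj n).toMonoidHom ∈ Cfsg.invSubgroups ⊤ B {q} := by
  refine ⟨le_top, ?_, le_normalizer_map_conj_of_mem_normalizer hn hY.2.2⟩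
  rw [card_map_conj]
  exact hY.2.1

theorem maxInv_map_conj_of_mem_normalizer [Finite G] {q : ℕ} {B Q : Subgroup G} {n : G}
    (hn : n ∈ Subgroup.normalizer (B : Set G)) (hQ : Q ∈ Cfsg.maxInvSubgroups ⊤ B {q}) :
    Q.map (MulAut.conj n).toMonoidHom ∈ Cfsg.maxInvSubgroups ⊤ B {q} := by
  refine ⟨inv_map_conj_of_mem_normalizer hn hQ.1, fun R hR hle => ?_⟩
  have h1 : Q ≤ R.map (MulAut.conj n⁻¹).toMonoidHom := map_conj_le_iff.mp hle
  have h2 := hQ.2 _ (inv_map_conj_of_mem_normalizer (inv_mem hn) hR) h1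
  have h3 := (map_conj_eq_iff (g := n⁻¹)).mp h2
  rw [inv_inv] at h3
  exact h3

/-- `N_G(X)` normalizes `O_π(X)`. -/
theorem normalizer_le_normalizer_piCoreOf [Finite G] (π : Set ℕ) (X : Subgroup G) :
    Subgroup.normalizer (X : Set G) ≤
      Subgroup.normalizer ((Cfsg.piCoreOf π X : Subgroup G) : Set G) := by
  intro n hn
  rw [mem_normalizer_iff_map_conj]
  apply map_conj_eq_of_le
  have hX : X.map (MulAut.conj n).toMonoidHom = X := mem_normalizer_iff_map_conj.1 hn
  apply le_piCoreOf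
  · calc (Cfsg.piCoreOf π X).map (MulAut.conj n).toMonoidHom
        ≤ X.map (MulAut.conj n).toMonoidHom := Subgroup.map_mono (piCoreOf_le X)
      _ = X := hX
  · calc X = X.map (MulAut.conj n).toMonoidHom := hX.symm
      _ ≤ (Subgroup.normalizer ((Cfsg.piCoreOf π X : Subgroup G) : Set G)).map
            (MulAut.conj n).toMonoidHom := Subgroup.map_mono (le_normalizer_piCoreOf X)
      _ ≤ _ := Subgroup.le_normalizer_map _
  · intro p hp hdvd
    rw [card_map_conj, card_piCoreOf] at hdvd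
    exact Cfsg.Agent.Lib.Helper12.piCore_mem _ p hp hdvd

theorem normalizer_le_normalizer_centralizer' (B : Subgroup G) :
    Subgroup.normalizer (B : Set G) ≤
      Subgroup.normalizer ((Subgroup.centralizer (B : Set G) : Subgroup G) : Set G) := by
  intro n hn
  rw [Subgroup.mem_normalizer_iff]
  intro x
  constructor
  · intro hx
    rw [Subgroup.mem_centralizer_iff] at hx ⊢
    intro b hb
    have hb' : n⁻¹ * b * n ∈ B := (Subgroup.mem_normalizer_iff''.1 hn b).1 hb
    have := hx _ hb'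
    have e1 : b * (n * x * n⁻¹) = n * ((n⁻¹ * b * n) * x) * n⁻¹ := by group
    have e2 : n * x * n⁻¹ * b = n * (x * (n⁻¹ * b * n)) * n⁻¹ := by group
    rw [e1, e2, this]
  · intro hx
    rw [Subgroup.mem_centralizer_iff] at hx ⊢
    intro b hb
    have hb' : n * b * n⁻¹ ∈ B := (Subgroup.mem_normalizer_iff.1 hn b).1 hb
    have := hx _ hb'
    have e1 : b * x = n⁻¹ * ((n * b * n⁻¹) * (n * x * n⁻¹)) * n := by group
    have e2 : x * b = n⁻¹ * ((n * x * n⁻¹) * (n * b * n⁻¹)) * n := by group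
    rw [e1, e2, this]

/-- `N_G(B)` normalizes `K = O_{π'}(C_G(B))`. -/
theorem normalizer_le_normalizer_piCoreOf_centralizer [Finite G] (π : Set ℕ) (B : Subgroup G) :
    Subgroup.normalizer (B : Set G) ≤
      Subgroup.normalizer ((Cfsg.piCoreOf π (Subgroup.centralizer (B : Set G)) : Subgroup G) : Set G) :=
  (normalizer_le_normalizer_centralizer' B).trans (normalizer_le_normalizer_piCoreOf π _)

theorem mem_normalizer_map_conj_iff {Q : Subgroup G} {k x : G} :
    x ∈ Subgroup.normalizer ((Q.map (MulAut.conj k).toMonoidHom : Subgroup G) : Set G) ↔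
      k⁻¹ * x * k ∈ Subgroup.normalizer (Q : Set G) := by
  rw [mem_normalizer_iff_map_conj, mem_normalizer_iff_map_conj, map_conj_map_conj]
  constructor
  · intro h
    have e : k⁻¹ * x * k = k⁻¹ * (x * k) := by group
    rw [e, ← map_conj_map_conj, h, map_conj_map_conj, inv_mul_cancel, map_conj_one]
  · intro h
    have e : x * k = k * (k⁻¹ * x * k) := by group
    rw [e, ← map_conj_map_conj, h]

/-- The transitivity hypothesis passes to larger proper subgroups with the same primes. -/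
theorem transitivityHypothesis_of_le {B C : Subgroup G} (hB : Cfsg.TransitivityHypothesis B)
    (hBC : B ≤ C) (hC : C ≠ ⊤)
    (hπ : Cfsg.primesNotDvd (Nat.card C) = Cfsg.primesNotDvd (Nat.card B)) [Finite G] :
    Cfsg.TransitivityHypothesis C := by
  refine ⟨fun h => hB.1 (le_bot_iff.1 (h ▸ hBC)), hC, fun X hX hCX => ?_⟩
  rw [hπ]
  apply le_antisymm
  · rw [← hB.2.2 X hX (hBC.trans hCX)]
    apply sSup_le_sSup
    intro Y hY
    exact ⟨hY.1, hY.2.1, hBC.trans hY.2.2⟩
  · apply le_sSup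
    refine ⟨piCoreOf_le X, fun p hp hdvd => ?_, hCX.trans (le_normalizer_piCoreOf X)⟩
    rw [card_piCoreOf] at hdvd
    exact Cfsg.Agent.Lib.Helper12.piCore_mem _ p hp hdvd

theorem bot_mem_invSubgroups (B : Subgroup G) (π : Set ℕ) :
    (⊥ : Subgroup G) ∈ Cfsg.invSubgroups ⊤ B π := by
  refine ⟨le_top, fun p hp hdvd => ?_, ?_⟩
  · rw [Subgroup.card_bot] at hdvd
    exact absurd (Nat.dvd_one.mp hdvd) hp.ne_one
  · intro b _
    rw [Subgroup.mem_normalizer_iff]
    intro x
    simp [Subgroup.mem_bot]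

/-- The step `B ⊲ C` of Theorem 7.5. -/
theorem normal_step [Finite G] [IsSimpleGroup G]
    (hsolv : ∀ H : Subgroup G, H ≠ ⊤ → Group.IsSolvable H) {B C : Subgroup G}
    (hB : Cfsg.TransitivityHypothesis B) (hBC : B ≤ C)
    (hCB : C ≤ Subgroup.normalizer (B : Set G)) (hC : C ≠ ⊤)
    (hπ : Cfsg.primesNotDvd (Nat.card C) = Cfsg.primesNotDvd (Nat.card B))
    {q : ℕ} (hq : q.Prime) (hqB : ¬ q ∣ Nat.card B)
    (htr : ∀ Q₁ ∈ Cfsg.maxInvSubgroups ⊤ B {q}, ∀ Q₂ ∈ Cfsg.maxInvSubgroups ⊤ B {q},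
      KConj B Q₁ Q₂) :
    bgK B ⊓ Subgroup.centralizer (C : Set G) =
        Cfsg.piCoreOf (Cfsg.primesNotDvd (Nat.card B)) (Subgroup.centralizer (C : Set G)) ∧
      (∀ Q₁ ∈ Cfsg.maxInvSubgroups ⊤ C {q}, ∀ Q₂ ∈ Cfsg.maxInvSubgroups ⊤ C {q},
        ∃ k ∈ Cfsg.piCoreOf (Cfsg.primesNotDvd (Nat.card B)) (Subgroup.centralizer (C : Set G)),
          Q₂ = Q₁.map (MulAut.conj k).toMonoidHom) ∧
      Cfsg.maxInvSubgroups ⊤ C {q} ⊆ Cfsg.maxInvSubgroups ⊤ B {q} := by
  classical
  haveI : Fact q.Prime := ⟨hq⟩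
  set π' := Cfsg.primesNotDvd (Nat.card B) with hπ'
  set K := bgK B with hK
  have hKC : K ≤ Subgroup.centralizer (B : Set G) := bgK_le_centralizer B
  have hNK : Subgroup.normalizer (B : Set G) ≤ Subgroup.normalizer (K : Set G) :=
    normalizer_le_normalizer_piCoreOf_centralizer π' B
  have hCK : C ≤ Subgroup.normalizer (K : Set G) := hCB.trans hNK
  have hKprimes : ∀ p : ℕ, p.Prime → p ∣ Nat.card K → p ∈ π' := by
    intro p hp hdvd
    rw [hK, card_piCoreOf] at hdvd
    exact Cfsg.Agent.Lib.Helper12.piCore_mem _ p hp hdvd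
  have hcop : (Nat.card C).Coprime (Nat.card K) := by
    have := coprime_card_piCoreOf C (Subgroup.centralizer (B : Set G))
    rw [hπ] at this
    exact this
  have hCsolv : Group.IsSolvable C := hsolv C hC
  set Γ := K ⊔ C with hΓ
  have hΓB : Γ ≤ Subgroup.normalizer (B : Set G) :=
    sup_le (hKC.trans (Subgroup.centralizer_le_normalizer _)) hCB
  have hCCB : Subgroup.centralizer (C : Set G) ≤ Subgroup.centralizer (B : Set G) :=
    Subgroup.centralizer_le hBC
  set KC := Cfsg.piCoreOf π' (Subgroup.centralizer (C : Set G)) with hKCdef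
  have hKCprimes : ∀ p : ℕ, p.Prime → p ∣ Nat.card KC → p ∈ π' := by
    intro p hp hdvd
    rw [hKCdef, card_piCoreOf] at hdvd
    exact Cfsg.Agent.Lib.Helper12.piCore_mem _ p hp hdvd
  -- (a)
  have ha : K ⊓ Subgroup.centralizer (C : Set G) = KC := by
    apply le_antisymm
    · apply le_piCoreOf inf_le_right
      · have h1 : Subgroup.centralizer (C : Set G) ≤ Subgroup.normalizer (K : Set G) :=
          (hCCB.trans (Subgroup.centralizer_le_normalizer _)).trans hNK
        exact (le_inf h1 Subgroup.le_normalizer).trans Subgroup.inf_normalizer_le_normalizer_inf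
      · intro p hp hdvd
        exact hKprimes p hp (dvd_trans hdvd (Subgroup.card_dvd_of_le inf_le_left))
    · apply le_inf _ (piCoreOf_le _)
      have h1 : KC ⊓ Subgroup.centralizer (B : Set G) ≤ bgK B :=
        inf_centralizer_le_bgK hB KC hKCprimes
      have h2 : KC ≤ Subgroup.centralizer (B : Set G) := (piCoreOf_le _).trans hCCB
      exact (le_inf le_rfl h2).trans h1
  -- existence of a `C`-invariant member of `Ω`
  have hex : ∃ Q' ∈ Cfsg.maxInvSubgroups ⊤ B {q}, C ≤ Subgroup.normalizer (Q' : Set G) := by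
    obtain ⟨Q₀, hQ₀, -⟩ := exists_maxInv_ge (bot_mem_invSubgroups B {q})
    set U := Γ ⊓ Subgroup.normalizer (Q₀ : Set G) with hU
    have hKU : ∀ γ ∈ K ⊔ C, ∃ k ∈ K, ∃ u ∈ U, γ = k * u := by
      intro γ hγ
      have hγB : γ ∈ Subgroup.normalizer (B : Set G) := hΓB hγ
      obtain ⟨k, hk, hkeq⟩ := htr Q₀ hQ₀ _ (maxInv_map_conj_of_mem_normalizer hγB hQ₀)
      refine ⟨k, hk, k⁻¹ * γ, Subgroup.mem_inf.2 ⟨?_, ?_⟩, by group⟩
      · exact Γ.mul_mem (Γ.inv_mem (le_sup_left (a := K) hk)) hγ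
      · rw [mem_normalizer_iff_map_conj, ← map_conj_map_conj, hkeq, map_conj_map_conj,
          inv_mul_cancel, map_conj_one]
    obtain ⟨k, hk, hCk⟩ := Cfsg.Agent.Lib.Helper1.exists_le_conj_smul_of_coprime hCK hcop
      (Or.inl hCsolv) (inf_le_left : U ≤ K ⊔ C) hKU
    refine ⟨Q₀.map (MulAut.conj k).toMonoidHom, maxInv_map_conj (hKC hk) hQ₀, ?_⟩
    intro x hx
    rw [mem_normalizer_map_conj_iff]
    exact ((Cfsg.Agent.Lib.Helper1.mem_conj_smul_iff U k x).1 (hCk hx)).2
  -- conjugacy of the `C`-invariant members of `Ω`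
  have hconj : ∀ Q' ∈ Cfsg.maxInvSubgroups ⊤ B {q}, ∀ Q'' ∈ Cfsg.maxInvSubgroups ⊤ B {q},
      C ≤ Subgroup.normalizer (Q' : Set G) → C ≤ Subgroup.normalizer (Q'' : Set G) →
      ∃ c ∈ K ⊓ Subgroup.centralizer (C : Set G), Q'' = Q'.map (MulAut.conj c).toMonoidHom := by
    intro Q' hQ' Q'' hQ'' hCQ' hCQ''
    obtain ⟨k, hk, hkeq⟩ := htr Q' hQ' Q'' hQ''
    set U := Γ ⊓ Subgroup.normalizer (Q' : Set G) with hU
    have hCU : C ≤ U := le_inf le_sup_right hCQ'
    have hCkU : C ≤ MulAut.conj k • U := by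
      intro x hx
      rw [Cfsg.Agent.Lib.Helper1.mem_conj_smul_iff]
      refine Subgroup.mem_inf.2 ⟨?_, ?_⟩
      · have hkΓ : k ∈ Γ := le_sup_left (a := K) hk
        have hxΓ : x ∈ Γ := le_sup_right (a := K) hx
        exact Γ.mul_mem (Γ.mul_mem (Γ.inv_mem hkΓ) hxΓ) hkΓ
      · rw [← mem_normalizer_map_conj_iff, ← hkeq]
        exact hCQ'' hx
    obtain ⟨c, hc, hcU⟩ := Cfsg.Agent.Lib.Helper1.exists_mem_centralizer_of_le_conj_smul hCK hcop
      (Or.inl hCsolv) hCU k hk hCkU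
    refine ⟨c, hc, ?_⟩
    have e : c = k * (k⁻¹ * c) := by group
    rw [e, ← map_conj_map_conj, mem_normalizer_iff_map_conj.1 hcU.2, hkeq]
  -- (c)
  have hiii : ∀ Q ∈ Cfsg.maxInvSubgroups ⊤ C {q}, Q ∈ Cfsg.maxInvSubgroups ⊤ B {q} := by
    intro Q hQ
    have hQq : IsPGroup q Q := ((mem_invq_iff hq).1 hQ.1).1
    have hCQ : C ≤ Subgroup.normalizer (Q : Set G) := hQ.1.2.2
    have hQB : Q ∈ Cfsg.invSubgroups ⊤ B {q} := (mem_invq_iff hq).2 ⟨hQq, hBC.trans hCQ⟩
    by_cases hQbot : Q = ⊥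
    · obtain ⟨Q', hQ', hCQ'⟩ := hex
      have hQ'C : Q' ∈ Cfsg.invSubgroups ⊤ C {q} :=
        (mem_invq_iff hq).2 ⟨((mem_invq_iff hq).1 hQ'.1).1, hCQ'⟩
      have : Q' = Q := hQ.2 Q' hQ'C (hQbot ▸ bot_le)
      rw [← this]; exact hQ'
    · by_contra hnot
      obtain ⟨R, hR, hQR⟩ := exists_maxInv_ge hQB
      have hRne : Q ≠ R := fun h => hnot (h ▸ hR)
      have hRq : IsPGroup q R := ((mem_invq_iff hq).1 hR.1).1
      have hBR : B ≤ Subgroup.normalizer (R : Set G) := hR.1.2.2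
      set H := Subgroup.normalizer (Q : Set G) with hH
      have hHtop : H ≠ ⊤ := by
        intro h
        have hnorm : Q.Normal := Subgroup.normalizer_eq_top_iff.1 h
        rcases hnorm.eq_bot_or_eq_top with h1 | h1
        · exact hQbot h1
        · exact hRne (h1.trans (top_le_iff.1 (h1 ▸ hQR)).symm)
      have hBH : B ≤ H := hBC.trans hCQ
      set T := H ⊓ R with hT
      have hQT : Q ≤ T := le_inf Subgroup.le_normalizer hQR
      have hlt : Nat.card Q < Nat.card T := by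
        apply lt_of_le_of_ne (Subgroup.card_le_of_le hQT)
        intro hcard
        have h1 : Q = T := Subgroup.eq_of_le_of_card_ge hQT hcard.ge
        exact hRne (eq_of_normalizer_inf_le Q R hRq hQR (le_of_eq h1.symm))
      have hTq : IsPGroup q T := hRq.to_le inf_le_right
      have hBT : B ≤ Subgroup.normalizer (T : Set G) := by
        intro b hb
        have hbH : b ∈ Subgroup.normalizer ((H : Subgroup G) : Set G) :=
          Subgroup.le_normalizer (hBH hb)
        rw [mem_normalizer_iff_map_conj, hT, Subgroup.map_inf _ _ _ (MulAut.conj b).injective,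
          mem_normalizer_iff_map_conj.1 hbH, mem_normalizer_iff_map_conj.1 (hBR hb)]
      set L := Cfsg.piCoreOf π' H with hL
      have hTL : T ≤ L := le_piCoreOf_of_inv hB hq hqB hHtop hBH inf_le_left hTq hBT
      have hQL : Q ≤ L := hQT.trans hTL
      have hCL : C ≤ Subgroup.normalizer (L : Set G) := hCQ.trans (le_normalizer_piCoreOf H)
      have hcopL : (Nat.card C).Coprime (Nat.card L) := by
        have := coprime_card_piCoreOf C H
        rw [hπ] at this
        exact this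
      obtain ⟨S, hQS, hCS⟩ := Cfsg.Agent.S0025.result C L hCL hcopL (Or.inl hCsolv) q Q hQL hQq hCQ
      have hSinv : (S : Subgroup L).map L.subtype ∈ Cfsg.invSubgroups ⊤ C {q} :=
        (mem_invq_iff hq).2 ⟨S.isPGroup'.map _, hCS⟩
      have hSQ : (S : Subgroup L).map L.subtype = Q := hQ.2 _ hSinv hQS
      have hcardQ : Nat.card Q = q ^ (Nat.card L).factorization q := by
        rw [← hSQ, Subgroup.card_map_of_injective L.subtype_injective]
        exact S.card_eq_multiplicity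
      have := card_le_of_isPGroup hTq hTL
      omega
  refine ⟨ha, ?_, hiii⟩
  intro Q₁ hQ₁ Q₂ hQ₂
  obtain ⟨c, hc, hceq⟩ := hconj Q₁ (hiii Q₁ hQ₁) Q₂ (hiii Q₂ hQ₂) hQ₁.1.2.2 hQ₂.1.2.2
  exact ⟨c, ha ▸ hc, hceq⟩

end Cfsg.Agent.Lib.Helper17
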