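/-
Helper lemmas (helper17): Bender–Glauberman Theorem 7.5: induction along a subnormal chain and
the Frattini-type part (d).
-/
import Mathlib
import Cfsg.Agent.Lib.Helper17.BGTrans3

set_option autoImplicit false
open scoped Pointwise
open scoped commutatorElement

namespace Cfsg.Agent.Lib.Helper17

open Cfsg.Agent.Lib.Helper8 (mem_map_conj conj_mem_map_conj map_conj_map_conj map_conj_one
  map_conj_le_iff map_conj_eq_iff card_map_conj mem_normalizer_iff_map_conj map_conj_eq_of_le)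

variable {G : Type*} [Group G]

theorem primesNotDvd_eq_of_le [Finite G] {A B P : Subgroup G} (hAB : A ≤ B) (hBP : B ≤ P)
    (hPπ : ∀ r : ℕ, r.Prime → r ∣ Nat.card P → r ∣ Nat.card A) :
    Cfsg.primesNotDvd (Nat.card B) = Cfsg.primesNotDvd (Nat.card A) := by
  ext r
  constructor
  · rintro ⟨hr, hnd⟩
    exact ⟨hr, fun h => hnd (dvd_trans h (Subgroup.card_dvd_of_le hAB))⟩
  · rintro ⟨hr, hnd⟩
    exact ⟨hr, fun h => hnd (hPπ r hr (dvd_trans h (Subgroup.card_dvd_of_le hBP)))⟩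

/-- Parts (a), (b), (c) of Theorem 7.5, by induction along the subnormal chain. -/
theorem chain_step [Finite G] [IsSimpleGroup G]
    (hsolv : ∀ H : Subgroup G, H ≠ ⊤ → Group.IsSolvable H) {A P : Subgroup G}
    (hA : Cfsg.TransitivityHypothesis A) (hP : P ≠ ⊤)
    (hPπ : ∀ r : ℕ, r.Prime → r ∣ Nat.card P → r ∣ Nat.card A)
    {q : ℕ} (hq : q.Prime) (hqA : ¬ q ∣ Nat.card A) :
    ∀ B' : Subgroup ↥P, B'.IsSubnormal → A ≤ B'.map P.subtype →
      (∀ Q₁ ∈ Cfsg.maxInvSubgroups ⊤ (B'.map P.subtype) {q},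
        ∀ Q₂ ∈ Cfsg.maxInvSubgroups ⊤ (B'.map P.subtype) {q},
        ∃ k ∈ Cfsg.piCoreOf (Cfsg.primesNotDvd (Nat.card A))
          (Subgroup.centralizer ((B'.map P.subtype : Subgroup G) : Set G)),
          Q₂ = Q₁.map (MulAut.conj k).toMonoidHom) →
      Cfsg.piCoreOf (Cfsg.primesNotDvd (Nat.card A))
          (Subgroup.centralizer ((B'.map P.subtype : Subgroup G) : Set G)) ⊓
          Subgroup.centralizer (P : Set G) =
        Cfsg.piCoreOf (Cfsg.primesNotDvd (Nat.card A)) (Subgroup.centralizer (P : Set G)) ∧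
      (∀ Q₁ ∈ Cfsg.maxInvSubgroups ⊤ P {q}, ∀ Q₂ ∈ Cfsg.maxInvSubgroups ⊤ P {q},
        ∃ k ∈ Cfsg.piCoreOf (Cfsg.primesNotDvd (Nat.card A)) (Subgroup.centralizer (P : Set G)),
          Q₂ = Q₁.map (MulAut.conj k).toMonoidHom) ∧
      Cfsg.maxInvSubgroups ⊤ P {q} ⊆ Cfsg.maxInvSubgroups ⊤ (B'.map P.subtype) {q} := by
  intro B' hsn
  induction hsn with
  | top =>
    intro _ htr
    have hmap : (⊤ : Subgroup ↥P).map P.subtype = P := by
      rw [← MonoidHom.range_eq_map, Subgroup.range_subtype]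
    rw [hmap] at htr ⊢
    exact ⟨inf_eq_left.2 (piCoreOf_le _), htr, subset_rfl⟩
  | step H K h_le hSubn hN ih =>
    intro hAB htr
    set B := H.map P.subtype with hBdef
    set C := K.map P.subtype with hCdef
    have hBC : B ≤ C := Subgroup.map_mono h_le
    have hCP : C ≤ P := Subgroup.map_subtype_le _
    have hC : C ≠ ⊤ := fun h => hP (top_le_iff.1 (h ▸ hCP))
    have hBtop : B ≠ ⊤ := fun h => hC (top_le_iff.1 (h ▸ hBC))
    have hCB : C ≤ Subgroup.normalizer (B : Set G) := by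
      have h1 : K ≤ Subgroup.normalizer (H : Set ↥P) :=
        (Subgroup.normal_subgroupOf_iff_le_normalizer h_le).1 hN
      exact (Subgroup.map_mono h1).trans (Subgroup.le_normalizer_map _)
    have hπB : Cfsg.primesNotDvd (Nat.card B) = Cfsg.primesNotDvd (Nat.card A) :=
      primesNotDvd_eq_of_le hAB (hBC.trans hCP) hPπ
    have hπC : Cfsg.primesNotDvd (Nat.card C) = Cfsg.primesNotDvd (Nat.card A) :=
      primesNotDvd_eq_of_le (hAB.trans hBC) hCP hPπ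
    have hBhyp : Cfsg.TransitivityHypothesis B := transitivityHypothesis_of_le hA hAB hBtop hπB
    have hqB : ¬ q ∣ Nat.card B := fun h =>
      hqA (hPπ q hq (dvd_trans h (Subgroup.card_dvd_of_le (hBC.trans hCP))))
    have htr' : ∀ Q₁ ∈ Cfsg.maxInvSubgroups ⊤ B {q}, ∀ Q₂ ∈ Cfsg.maxInvSubgroups ⊤ B {q},
        KConj B Q₁ Q₂ := by
      intro Q₁ h₁ Q₂ h₂
      obtain ⟨k, hk, hkeq⟩ := htr Q₁ h₁ Q₂ h₂
      refine ⟨k, ?_, hkeq⟩
      show k ∈ Cfsg.piCoreOf (Cfsg.primesNotDvd (Nat.card B)) (Subgroup.centralizer (B : Set G))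
      rw [hπB]; exact hk
    obtain ⟨ha, hb, hc⟩ := normal_step hsolv hBhyp hBC hCB hC (hπC.trans hπB.symm) hq hqB htr'
    have ha' : Cfsg.piCoreOf (Cfsg.primesNotDvd (Nat.card A)) (Subgroup.centralizer (B : Set G)) ⊓
        Subgroup.centralizer (C : Set G) =
        Cfsg.piCoreOf (Cfsg.primesNotDvd (Nat.card A)) (Subgroup.centralizer (C : Set G)) := by
      have := ha
      unfold bgK at this
      rw [hπB] at this
      exact this
    rw [hπB] at hb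
    obtain ⟨ha2, hb2, hc2⟩ := ih (hAB.trans hBC) hb
    refine ⟨?_, hb2, hc2.trans hc⟩
    have hCPC : Subgroup.centralizer (P : Set G) ≤ Subgroup.centralizer (C : Set G) :=
      Subgroup.centralizer_le hCP
    calc Cfsg.piCoreOf (Cfsg.primesNotDvd (Nat.card A)) (Subgroup.centralizer (B : Set G)) ⊓
          Subgroup.centralizer (P : Set G)
        = Cfsg.piCoreOf (Cfsg.primesNotDvd (Nat.card A)) (Subgroup.centralizer (B : Set G)) ⊓
          (Subgroup.centralizer (C : Set G) ⊓ Subgroup.centralizer (P : Set G)) := by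
            rw [inf_eq_right.2 hCPC]
      _ = Cfsg.piCoreOf (Cfsg.primesNotDvd (Nat.card A)) (Subgroup.centralizer (C : Set G)) ⊓
          Subgroup.centralizer (P : Set G) := by rw [← inf_assoc, ha']
      _ = _ := ha2

/-- Part (d) of Theorem 7.5. -/
theorem part_d [Finite G] {π : Set ℕ} {P Q : Subgroup G} {q : ℕ}
    (hcop : (Nat.card P).Coprime
      (Nat.card (Cfsg.piCoreOf π (Subgroup.centralizer (P : Set G)))))
    (hQ : Q ∈ Cfsg.maxInvSubgroups ⊤ P {q})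
    (htr : ∀ Q₂ ∈ Cfsg.maxInvSubgroups ⊤ P {q},
      ∃ k ∈ Cfsg.piCoreOf π (Subgroup.centralizer (P : Set G)),
        Q₂ = Q.map (MulAut.conj k).toMonoidHom) :
    P ⊓ ⁅Subgroup.normalizer (P : Set G), Subgroup.normalizer (P : Set G)⁆ ≤
        ⁅Subgroup.normalizer (Q : Set G), Subgroup.normalizer (Q : Set G)⁆ ∧
      Subgroup.normalizer (P : Set G) =
        Cfsg.piCoreOf π (Subgroup.centralizer (P : Set G)) ⊔
          (Subgroup.normalizer (P : Set G) ⊓ Subgroup.normalizer (Q : Set G)) := by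
  set N := Subgroup.normalizer (P : Set G) with hN
  set L := Cfsg.piCoreOf π (Subgroup.centralizer (P : Set G)) with hL
  set N₁ := N ⊓ Subgroup.normalizer (Q : Set G) with hN₁
  have hLN : L ≤ N := (piCoreOf_le _).trans (Subgroup.centralizer_le_normalizer _)
  have hNL : N ≤ Subgroup.normalizer (L : Set G) :=
    normalizer_le_normalizer_piCoreOf_centralizer π P
  have hPN₁ : P ≤ N₁ := le_inf Subgroup.le_normalizer hQ.1.2.2
  -- elementwise Frattini decomposition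
  have hdec : ∀ n ∈ N, ∃ c ∈ L, c⁻¹ * n ∈ N₁ := by
    intro n hn
    obtain ⟨c, hc, hceq⟩ := htr _ (maxInv_map_conj_of_mem_normalizer hn hQ)
    refine ⟨c, hc, Subgroup.mem_inf.2 ⟨N.mul_mem (N.inv_mem (hLN hc)) hn, ?_⟩⟩
    rw [mem_normalizer_iff_map_conj, ← map_conj_map_conj, hceq, map_conj_map_conj,
      inv_mul_cancel, map_conj_one]
  have hd1 : N = L ⊔ N₁ := by
    apply le_antisymm
    · intro n hn
      obtain ⟨c, hc, hcn⟩ := hdec n hn
      have e : n = c * (c⁻¹ * n) := by group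
      rw [e]
      exact Subgroup.mul_mem_sup hc hcn
    · exact sup_le hLN inf_le_left
  refine ⟨?_, hd1⟩
  -- `N' ≤ L ⊔ N₁'`
  set M := L ⊔ ⁅N₁, N₁⁆ with hM
  have hconjL : ∀ n ∈ N, ∀ l ∈ L, n * l * n⁻¹ ∈ L := by
    intro n hn l hl
    exact (Subgroup.mem_normalizer_iff.1 (hNL hn) l).1 hl
  have hNM : ⁅N, N⁆ ≤ M := by
    rw [Subgroup.commutator_le]
    intro g₁ hg₁ g₂ hg₂
    obtain ⟨l₁, hl₁, hn₁⟩ := hdec g₁ hg₁
    obtain ⟨l₂, hl₂, hn₂⟩ := hdec g₂ hg₂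
    set n₁ := l₁⁻¹ * g₁ with hn₁def
    set n₂ := l₂⁻¹ * g₂ with hn₂def
    have hg₁eq : g₁ = l₁ * n₁ := by rw [hn₁def]; group
    have hg₂eq : g₂ = l₂ * n₂ := by rw [hn₂def]; group
    have hn₁N : n₁ ∈ N := (Subgroup.mem_inf.1 hn₁).1
    have hn₂N : n₂ ∈ N := (Subgroup.mem_inf.1 hn₂).1
    have key : ⁅g₁, g₂⁆ = (l₁ * (n₁ * l₂ * n₁⁻¹) *
        ((n₁ * n₂ * n₁⁻¹) * l₁⁻¹ * (n₁ * n₂ * n₁⁻¹)⁻¹)) * ⁅n₁, n₂⁆ * l₂⁻¹ := by
      rw [hg₁eq, hg₂eq, commutatorElement_def, commutatorElement_def]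
      group
    rw [key]
    have h1 : l₁ * (n₁ * l₂ * n₁⁻¹) * ((n₁ * n₂ * n₁⁻¹) * l₁⁻¹ * (n₁ * n₂ * n₁⁻¹)⁻¹) ∈ L := by
      refine L.mul_mem (L.mul_mem hl₁ (hconjL n₁ hn₁N l₂ hl₂)) ?_
      exact hconjL _ (N.mul_mem (N.mul_mem hn₁N hn₂N) (N.inv_mem hn₁N)) _ (L.inv_mem hl₁)
    have h2 : ⁅n₁, n₂⁆ ∈ ⁅N₁, N₁⁆ := Subgroup.commutator_mem_commutator hn₁ hn₂
    exact M.mul_mem (M.mul_mem (le_sup_left (a := L) h1) (le_sup_right (a := L) h2))
      (le_sup_left (a := L) (L.inv_mem hl₂))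
  have hN₁' : ⁅N₁, N₁⁆ ≤ N₁ := Subgroup.commutator_le_self N₁
  have hN₁'L : ⁅N₁, N₁⁆ ≤ Subgroup.normalizer (L : Set G) :=
    (hN₁'.trans inf_le_left).trans hNL
  intro x hx
  obtain ⟨hxP, hxN'⟩ := Subgroup.mem_inf.1 hx
  have hxM : x ∈ M := hNM hxN'
  rw [hM, ← SetLike.mem_coe, Subgroup.coe_mul_of_right_le_normalizer_left L _ hN₁'L,
    Set.mem_mul] at hxM
  obtain ⟨l, hl, m, hm, hlm⟩ := hxM
  have hxN₁ : x ∈ N₁ := hPN₁ hxP
  have hmN₁ : m ∈ N₁ := hN₁' hm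
  have hlN₁ : l ∈ N₁ := by
    have e : l = x * m⁻¹ := by rw [← hlm]; group
    rw [e]; exact N₁.mul_mem hxN₁ (N₁.inv_mem hmN₁)
  -- pass to the abelianization of `N₁`
  set φ : ↥N₁ →* Abelianization ↥N₁ := Abelianization.of with hφ
  have hker : ∀ y : ↥N₁, φ y = 1 ↔ (y : G) ∈ ⁅N₁, N₁⁆ := by
    intro y
    rw [← MonoidHom.mem_ker, hφ, Abelianization.ker_of, ← Subgroup.map_subtype_commutator]
    constructor
    · intro h; exact ⟨y, h, rfl⟩
    · rintro ⟨z, hz, hzy⟩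
      have : z = y := Subtype.ext hzy
      rw [← this]; exact hz
  have hφm : φ ⟨m, hmN₁⟩ = 1 := (hker _).2 hm
  have hφx : φ ⟨x, hxN₁⟩ = φ ⟨l, hlN₁⟩ := by
    have e : (⟨x, hxN₁⟩ : ↥N₁) = ⟨l, hlN₁⟩ * ⟨m, hmN₁⟩ := Subtype.ext hlm.symm
    rw [e, map_mul, hφm, mul_one]
  have ho1 : orderOf (φ ⟨x, hxN₁⟩) ∣ Nat.card P := by
    have h1 : orderOf (φ ⟨x, hxN₁⟩) ∣ orderOf (⟨x, hxN₁⟩ : ↥N₁) := orderOf_map_dvd φ _
    have h2 : orderOf (⟨x, hxN₁⟩ : ↥N₁) = orderOf x := Subgroup.orderOf_mk x hxN₁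
    have h3 : orderOf x ∣ Nat.card P := by
      have := orderOf_dvd_natCard (⟨x, hxP⟩ : ↥P)
      rwa [Subgroup.orderOf_mk] at this
    exact h1.trans (h2 ▸ h3)
  have ho2 : orderOf (φ ⟨x, hxN₁⟩) ∣ Nat.card L := by
    rw [hφx]
    have h1 : orderOf (φ ⟨l, hlN₁⟩) ∣ orderOf (⟨l, hlN₁⟩ : ↥N₁) := orderOf_map_dvd φ _
    have h2 : orderOf (⟨l, hlN₁⟩ : ↥N₁) = orderOf l := Subgroup.orderOf_mk l hlN₁
    have h3 : orderOf l ∣ Nat.card L := by
      have := orderOf_dvd_natCard (⟨l, hl⟩ : ↥L)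
      rwa [Subgroup.orderOf_mk] at this
    exact h1.trans (h2 ▸ h3)
  have ho : orderOf (φ ⟨x, hxN₁⟩) = 1 := Nat.eq_one_of_dvd_coprimes hcop ho1 ho2
  have hx1 : φ ⟨x, hxN₁⟩ = 1 := orderOf_eq_one_iff.1 ho
  have hxN₁' : x ∈ ⁅N₁, N₁⁆ := (hker ⟨x, hxN₁⟩).1 hx1
  exact Subgroup.commutator_mono inf_le_right inf_le_right hxN₁'

end Cfsg.Agent.Lib.Helper17
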