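import Mathlib
import Cfsg.Prelude.Def_Local
import Cfsg.Agent.Lib.Helper1.Fitting
import Cfsg.Agent.Lib.Helper8.Components
import Cfsg.Agent.Lib.Helper8.FStar
import Cfsg.Agent.Lib.Helper8.PResidual
import Cfsg.Agent.Lib.Helper21.Primary
import Cfsg.Agent.S0028

/-!
Bender's lemma, abstract part (helper17): a subgroup `S` of `F*(H)`, subnormal in `F*(H)` with
`C_{F*(H)}(S) ≤ S`, and `q`-subgroups `D` of `H` normalized by `S`.
-/

set_option autoImplicit false

namespace Cfsg.Agent.Lib.Helper17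

open Cfsg.Agent.Lib.Helper1 Cfsg.Agent.Lib.Helper8 Cfsg.Agent.Lib.Helper21
open scoped commutatorElement

theorem isPGroup_zpowers_of_pow_eq_one {G : Type*} [Group G] {p : ℕ} {g : G} {k : ℕ}
    (h : g ^ (p ^ k) = 1) : IsPGroup p (Subgroup.zpowers g) := by
  rintro ⟨x, hx⟩
  obtain ⟨n, rfl⟩ := Subgroup.mem_zpowers_iff.mp hx
  refine ⟨k, ?_⟩
  apply Subtype.ext
  show (g ^ n) ^ (p ^ k) = 1
  rw [← zpow_natCast, ← zpow_mul, mul_comm, zpow_mul, zpow_natCast, h, one_zpow]

section
variable {H : Type*} [Group H] [Finite H]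

/-- A `t`-element of the Fitting subgroup lies in `O_t`. -/
theorem mem_pCore_of_mem_fitting (t : ℕ) [ht : Fact t.Prime] {f : H}
    (hf : f ∈ Cfsg.fittingSubgroup H) {k : ℕ} (hk : f ^ (t ^ k) = 1) : f ∈ Cfsg.pCore t H := by
  have hnil : Group.IsNilpotent ↥(Cfsg.fittingSubgroup H) := fittingSubgroup_isNilpotent H
  have hN : (Cfsg.fittingSubgroup H).Normal := fittingSubgroup_normal H
  obtain ⟨P⟩ : Nonempty (Sylow t ↥(Cfsg.fittingSubgroup H)) := inferInstance
  have hPn : (P : Subgroup ↥(Cfsg.fittingSubgroup H)).Normal := inferInstance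
  have hchar : (P : Subgroup ↥(Cfsg.fittingSubgroup H)).Characteristic :=
    Sylow.characteristic_of_normal P hPn
  have h1 : ((P : Subgroup ↥(Cfsg.fittingSubgroup H)).map (Cfsg.fittingSubgroup H).subtype).Normal :=
    inferInstance
  have h2 : IsPGroup t ((P : Subgroup ↥(Cfsg.fittingSubgroup H)).map (Cfsg.fittingSubgroup H).subtype) :=
    P.isPGroup'.map _
  have h3 := le_pCore h1 h2
  apply h3
  -- `⟨f, hf⟩ ∈ P`
  have hz : IsPGroup t (Subgroup.zpowers (⟨f, hf⟩ : ↥(Cfsg.fittingSubgroup H))) := by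
    apply isPGroup_zpowers_of_pow_eq_one (k := k)
    apply Subtype.ext
    simpa using hk
  obtain ⟨Q, hQ⟩ := hz.exists_le_sylow
  have := Sylow.unique_of_normal P hPn
  have hQP : Q = P := Subsingleton.elim _ _
  refine ⟨⟨f, hf⟩, ?_, rfl⟩
  rw [← hQP]
  exact hQ (Subgroup.mem_zpowers _)

/-- If `t` divides `|F(H)|` then `O_t(H) ≠ 1`. -/
theorem pCore_ne_bot_of_dvd_card_fitting (t : ℕ) [ht : Fact t.Prime]
    (h : t ∣ Nat.card ↥(Cfsg.fittingSubgroup H)) : Cfsg.pCore t H ≠ ⊥ := by
  obtain ⟨f, hf⟩ := exists_prime_orderOf_dvd_card' t h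
  have h1 : (f : H) ∈ Cfsg.pCore t H := by
    apply mem_pCore_of_mem_fitting t f.2 (k := 1)
    rw [pow_one, ← Subgroup.orderOf_coe, ← hf] at *
    rw [← hf]
    exact pow_orderOf_eq_one _
  intro hbot
  rw [hbot, Subgroup.mem_bot] at h1
  have : f = 1 := Subtype.ext h1
  rw [this, orderOf_one] at hf
  exact ht.out.one_lt.ne hf

theorem eq_bot_of_isPGroup_of_le_of_not_dvd {q : ℕ} [hq : Fact q.Prime] {D N : Subgroup H}
    (hDN : D ≤ N) (hD : IsPGroup q D) (hN : ¬ q ∣ Nat.card ↥N) : D = ⊥ := by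
  obtain ⟨n, hn⟩ := IsPGroup.iff_card.mp hD
  have h2 : Nat.card D ∣ Nat.card N := Subgroup.card_dvd_of_le hDN
  rw [hn] at h2
  rcases Nat.eq_zero_or_pos n with h0 | hpos
  · rw [h0, pow_zero] at hn
    exact Subgroup.card_eq_one.mp hn
  · exact absurd (dvd_trans (dvd_pow_self q hpos.ne') h2) hN

theorem pCore_le_fitting (t : ℕ) [Fact t.Prime] : Cfsg.pCore t H ≤ Cfsg.fittingSubgroup H :=
  le_fittingSubgroup (pCore_normal t H) (pCore_isPGroup t H).isNilpotent

theorem pCore_le_fstar (t : ℕ) [Fact t.Prime] :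
    Cfsg.pCore t H ≤ Cfsg.generalizedFittingSubgroup H :=
  (pCore_le_fitting t).trans le_sup_right

/-- the layer centralizes `O_t`. -/
theorem layer_le_centralizer_pCore' (t : ℕ) [Fact t.Prime] :
    Cfsg.layer H ≤ Subgroup.centralizer (Cfsg.pCore t H : Set H) := by
  apply sSup_le
  intro L hL
  have hn := pCore_normal t H
  have hsolv : Group.IsSolvable ↥(Cfsg.pCore t H) := by
    have := (pCore_isPGroup t H).isNilpotent
    infer_instance
  have h := component_commutator_solvable_eq_bot L (Cfsg.pCore t H) hL hsolv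
    (by rw [Subgroup.normalizer_eq_top_iff.mpr hn]; exact le_top)
  exact Subgroup.commutator_eq_bot_iff_le_centralizer.mp h

/-- to show `F*(H) ≤ K` it is enough to have the layer and all `O_r(H)` in `K`. -/
theorem fstar_le_of {K : Subgroup H} (hE : Cfsg.layer H ≤ K)
    (hO : ∀ r : ℕ, ∀ _ : Fact r.Prime, Cfsg.pCore r H ≤ K) :
    Cfsg.generalizedFittingSubgroup H ≤ K := by
  unfold Cfsg.generalizedFittingSubgroup
  rw [fittingSubgroup_eq_iSup_pCore]
  refine sup_le hE (iSup_le ?_)
  intro r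
  exact hO r ⟨r.2⟩

/-- `benderC p H = E(H) O_{p'}(F(H))`. -/
def benderC (p : ℕ) (H : Type*) [Group H] : Subgroup H :=
  Cfsg.layer H ⊔ ⨆ r : {r : Nat.Primes // (r : ℕ) ≠ p}, Cfsg.pCore ((r : Nat.Primes) : ℕ) H

theorem benderC_normal (p : ℕ) : (benderC p H).Normal := by
  have h1 := layer_normal H
  have h2 : ∀ r : {r : Nat.Primes // (r : ℕ) ≠ p},
      (Cfsg.pCore ((r : Nat.Primes) : ℕ) H).Normal := fun r => pCore_normal _ H
  unfold benderC
  infer_instance

theorem layer_le_benderC (p : ℕ) : Cfsg.layer H ≤ benderC p H := le_sup_left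

theorem pCore_le_benderC {p r : ℕ} [hr : Fact r.Prime] (hrp : r ≠ p) :
    Cfsg.pCore r H ≤ benderC p H := by
  refine le_trans ?_ le_sup_right
  exact le_iSup (fun r : {r : Nat.Primes // (r : ℕ) ≠ p} => Cfsg.pCore ((r : Nat.Primes) : ℕ) H)
    ⟨⟨r, hr.out⟩, hrp⟩

theorem benderC_le {p : ℕ} {K : Subgroup H} (hE : Cfsg.layer H ≤ K)
    (hO : ∀ r : ℕ, ∀ _ : Fact r.Prime, r ≠ p → Cfsg.pCore r H ≤ K) : benderC p H ≤ K := by
  refine sup_le hE (iSup_le ?_)
  rintro ⟨r, hr⟩
  exact hO r ⟨r.2⟩ hr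

theorem benderC_le_centralizer_pCore (p : ℕ) [Fact p.Prime] :
    benderC p H ≤ Subgroup.centralizer (Cfsg.pCore p H : Set H) := by
  apply benderC_le (layer_le_centralizer_pCore' p)
  intro r hr hrp x hx
  rw [Subgroup.mem_centralizer_iff]
  intro y hy
  exact (pCore_commute hrp x y hx hy).eq.symm

theorem fstar_le_benderC_sup (p : ℕ) [Fact p.Prime] :
    Cfsg.generalizedFittingSubgroup H ≤ benderC p H ⊔ Cfsg.pCore p H := by
  apply fstar_le_of ((layer_le_benderC p).trans le_sup_left)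
  intro r hr
  by_cases hrp : r = p
  · subst hrp; exact le_sup_right
  · exact (pCore_le_benderC hrp).trans le_sup_left

/-- a `p'`-element of `F*(H)` lies in `E(H) O_{p'}(F(H))`. -/
theorem mem_benderC_of_coprime (p : ℕ) [hp : Fact p.Prime] {y : H}
    (hy : y ∈ Cfsg.generalizedFittingSubgroup H) (hcop : (orderOf y).Coprime p) :
    y ∈ benderC p H := by
  have hn := benderC_normal (H := H) p
  have h1 := fstar_le_benderC_sup p hy
  rw [← SetLike.mem_coe, Subgroup.normal_mul] at h1
  obtain ⟨n, hn', u, hu, rfl⟩ := Set.mem_mul.mp h1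
  obtain ⟨k, hk⟩ := (pCore_isPGroup p H) ⟨u, hu⟩
  have hk' : u ^ (p ^ k) = 1 := by simpa using congrArg Subtype.val hk
  have hcomm : Commute n u := by
    have := benderC_le_centralizer_pCore p hn'
    rw [Subgroup.mem_centralizer_iff] at this
    exact (this u hu).symm
  apply mem_of_pow_mem_of_coprime (benderC p H) (n * u) (p ^ k) (orderOf (n * u))
  · exact (Nat.Coprime.pow_left k hcop.symm)
  · rw [hcomm.mul_pow, hk', mul_one]
    exact Subgroup.pow_mem _ hn' _
  · rw [pow_orderOf_eq_one]; exact Subgroup.one_mem _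

theorem center_pCore_normal (t : ℕ) :
    (Cfsg.pCore t H ⊓ Subgroup.centralizer (Cfsg.pCore t H : Set H)).Normal := by
  have h1 := pCore_normal t H
  have h2 : (Subgroup.centralizer (Cfsg.pCore t H : Set H)).Normal := Subgroup.normal_centralizer
  infer_instance

theorem center_pCore_ne_bot (t : ℕ) [ht : Fact t.Prime] (h : Cfsg.pCore t H ≠ ⊥) :
    Cfsg.pCore t H ⊓ Subgroup.centralizer (Cfsg.pCore t H : Set H) ≠ ⊥ := by
  have hnt : Nontrivial ↥(Cfsg.pCore t H) := (Subgroup.nontrivial_iff_ne_bot _).mpr h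
  have hc := (pCore_isPGroup t H).center_nontrivial
  obtain ⟨z, hz⟩ := exists_ne (1 : ↥(Subgroup.center ↥(Cfsg.pCore t H)))
  intro hbot
  have hmem : ((z : ↥(Cfsg.pCore t H)) : H) ∈
      Cfsg.pCore t H ⊓ Subgroup.centralizer (Cfsg.pCore t H : Set H) := by
    refine Subgroup.mem_inf.2 ⟨(z : ↥(Cfsg.pCore t H)).2, ?_⟩
    rw [Subgroup.mem_centralizer_iff]
    intro x hx
    have := Subgroup.mem_center_iff.mp z.2 ⟨x, hx⟩
    exact congrArg Subtype.val this
  rw [hbot, Subgroup.mem_bot] at hmem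
  apply hz
  apply Subtype.ext
  apply Subtype.ext
  simpa using hmem

/-! ### The Bender hypothesis -/

/-- `S ≤ F*(H)`, subnormal in `F*(H)`, with `C_{F*(H)}(S) ≤ S`. -/
structure BenderHyp (S : Subgroup H) : Prop where
  le : S ≤ Cfsg.generalizedFittingSubgroup H
  sn : (S.subgroupOf (Cfsg.generalizedFittingSubgroup H)).IsSubnormal
  cent : Cfsg.generalizedFittingSubgroup H ⊓ Subgroup.centralizer (S : Set H) ≤ S

variable {S : Subgroup H}

theorem BenderHyp.layer_le (hS : BenderHyp S) : Cfsg.layer H ≤ S := by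
  apply sSup_le
  intro L hL
  have hLF : L ≤ Cfsg.generalizedFittingSubgroup H := (component_le_layer hL).trans le_sup_left
  rcases component_le_or_commutator_eq_bot (L.subgroupOf (Cfsg.generalizedFittingSubgroup H))
    (S.subgroupOf (Cfsg.generalizedFittingSubgroup H)) (isComponent_subgroupOf hLF hL) hS.sn
    with h | h
  · intro l hl
    have h1 : (⟨l, hLF hl⟩ : ↥(Cfsg.generalizedFittingSubgroup H)) ∈
        L.subgroupOf (Cfsg.generalizedFittingSubgroup H) := by
      rw [Subgroup.mem_subgroupOf]; exact hl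
    have h2 := h h1
    rw [Subgroup.mem_subgroupOf] at h2
    exact h2
  · have h1 := commutator_subgroupOf_eq_bot hLF hS.le h
    rw [Subgroup.commutator_eq_bot_iff_le_centralizer] at h1
    exact (le_inf hLF h1).trans hS.cent

/-- an element of `F*(H)` centralizing `F*(H)` lies in `S`. -/
theorem BenderHyp.mem_of_centralizes (hS : BenderHyp S) {z : H}
    (hz : z ∈ Cfsg.generalizedFittingSubgroup H)
    (hE : Cfsg.layer H ≤ Subgroup.centralizer ({z} : Set H))
    (hO : ∀ r : ℕ, ∀ _ : Fact r.Prime, Cfsg.pCore r H ≤ Subgroup.centralizer ({z} : Set H)) :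
    z ∈ S := by
  apply hS.cent
  refine Subgroup.mem_inf.2 ⟨hz, ?_⟩
  rw [Subgroup.mem_centralizer_iff]
  intro s hs
  have := (fstar_le_of hE hO) (hS.le hs)
  rw [Subgroup.mem_centralizer_singleton_iff] at this
  exact this

/-- `Z(O_t(H)) ≤ S`. -/
theorem BenderHyp.center_pCore_le (hS : BenderHyp S) (t : ℕ) [ht : Fact t.Prime] :
    Cfsg.pCore t H ⊓ Subgroup.centralizer (Cfsg.pCore t H : Set H) ≤ S := by
  intro z hz
  obtain ⟨hz1, hz2⟩ := Subgroup.mem_inf.1 hz
  apply hS.mem_of_centralizes (pCore_le_fstar t hz1)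
  · intro e he
    rw [Subgroup.mem_centralizer_singleton_iff]
    have := layer_le_centralizer_pCore' t he
    rw [Subgroup.mem_centralizer_iff] at this
    exact (this z hz1).symm
  · intro r hr x hx
    rw [Subgroup.mem_centralizer_singleton_iff]
    by_cases hrt : r = t
    · subst hrt
      rw [Subgroup.mem_centralizer_iff] at hz2
      exact hz2 x hx
    · exact (pCore_commute hrt x z hx hz1).eq

/-- `C_{O_r(H)}(S ∩ O_r(H)) ≤ S`. -/
theorem BenderHyp.centralizer_inf_pCore_le (hS : BenderHyp S) (r : ℕ) [hr : Fact r.Prime] :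
    Cfsg.pCore r H ⊓ Subgroup.centralizer ((S ⊓ Cfsg.pCore r H : Subgroup H) : Set H) ≤ S := by
  intro x hx
  obtain ⟨hx1, hx2⟩ := Subgroup.mem_inf.1 hx
  rw [Subgroup.mem_centralizer_iff] at hx2
  apply hS.cent
  refine Subgroup.mem_inf.2 ⟨pCore_le_fstar r hx1, ?_⟩
  rw [Subgroup.mem_centralizer_iff]
  intro s hs
  -- decompose `s = e * f`
  have hEn := layer_normal H
  have h1 : s ∈ Cfsg.layer H ⊔ Cfsg.fittingSubgroup H := hS.le hs
  rw [← SetLike.mem_coe, Subgroup.normal_mul] at h1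
  obtain ⟨e, he, f, hf, rfl⟩ := Set.mem_mul.mp h1
  have hfS : f ∈ S := by
    have : f = e⁻¹ * (e * f) := by group
    rw [this]
    exact S.mul_mem (S.inv_mem (hS.layer_le he)) hs
  have hex : e * x = x * e := by
    have := layer_le_centralizer_pCore' r he
    rw [Subgroup.mem_centralizer_iff] at this
    exact (this x hx1).symm
  have hfx : f ∈ Subgroup.centralizer ({x} : Set H) := by
    apply mem_of_primary_parts_mem _ (orderOf f) f rfl (orderOf_pos f).ne'
    intro q hq hqn
    have hqf : Fact q.Prime := ⟨hq⟩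
    set g := f ^ (orderOf f / q ^ (orderOf f).factorization q) with hg
    have hgq : g ^ (q ^ (orderOf f).factorization q) = 1 := by
      rw [hg, ← pow_mul, Nat.div_mul_cancel (Nat.ordProj_dvd _ _), pow_orderOf_eq_one]
    have hgO : g ∈ Cfsg.pCore q H :=
      mem_pCore_of_mem_fitting q (Subgroup.pow_mem _ hf _) hgq
    rw [Subgroup.mem_centralizer_singleton_iff]
    by_cases hqr : q = r
    · subst hqr
      exact (hx2 g (Subgroup.mem_inf.2 ⟨Subgroup.pow_mem _ hfS _, hgO⟩))
    · exact (pCore_commute hqr g x hgO hx1).eq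
  rw [Subgroup.mem_centralizer_singleton_iff] at hfx
  calc e * f * x = e * (f * x) := by group
    _ = e * (x * f) := by rw [hfx]
    _ = (e * x) * f := by group
    _ = (x * e) * f := by rw [hex]
    _ = x * (e * f) := by group

/-- Lemma K, part 1: a `q`-subgroup normalized by `S` centralizes the layer. -/
theorem BenderHyp.le_centralizer_layer (hS : BenderHyp S) (q : ℕ) [hq : Fact q.Prime]
    (D : Subgroup H) (hD : IsPGroup q D) (hSD : S ≤ Subgroup.normalizer (D : Set H)) :
    D ≤ Subgroup.centralizer (Cfsg.layer H : Set H) := by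
  rw [Subgroup.le_centralizer_iff]
  apply sSup_le
  intro L hL
  have hEn := layer_normal H
  have hLE : L ≤ Cfsg.layer H := component_le_layer hL
  have hLD : L ≤ Subgroup.normalizer (D : Set H) := (hLE.trans hS.layer_le).trans hSD
  set X := D ⊓ Cfsg.layer H with hX
  have ha : ⁅D, L⁆ ≤ X := by
    rw [Subgroup.commutator_le]
    intro d hd l hl
    refine Subgroup.mem_inf.2 ⟨?_, ?_⟩
    · have h1 : l * d⁻¹ * l⁻¹ ∈ D :=
        (Subgroup.mem_normalizer_iff.mp (hLD hl) d⁻¹).mp (D.inv_mem hd)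
      have : ⁅d, l⁆ = d * (l * d⁻¹ * l⁻¹) := by rw [commutatorElement_def]; group
      rw [this]; exact D.mul_mem hd h1
    · have h1 : d * l * d⁻¹ ∈ Cfsg.layer H := hEn.conj_mem l (hLE hl) d
      have : ⁅d, l⁆ = (d * l * d⁻¹) * l⁻¹ := by rw [commutatorElement_def]
      rw [this]; exact Subgroup.mul_mem _ h1 (Subgroup.inv_mem _ (hLE hl))
  have hb : ⁅X, L⁆ = ⊥ := by
    rw [Subgroup.commutator_comm]
    apply component_commutator_solvable_eq_bot L X hL
    · have : IsPGroup q X := hD.to_le inf_le_left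
      have := this.isNilpotent
      infer_instance
    · intro l hl
      rw [Subgroup.mem_normalizer_iff]
      intro x
      have h1 := Subgroup.mem_normalizer_iff.mp (hLD hl) x
      have h2 : x ∈ Cfsg.layer H ↔ l * x * l⁻¹ ∈ Cfsg.layer H := by
        constructor
        · intro h; exact hEn.conj_mem x h l
        · intro h
          have := hEn.conj_mem _ h l⁻¹
          simpa [mul_assoc] using this
      rw [hX, Subgroup.mem_inf, Subgroup.mem_inf, h1, h2]
  have hc : ⁅⁅D, L⁆, L⁆ = ⊥ := by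
    rw [eq_bot_iff, ← hb]
    exact Subgroup.commutator_mono ha le_rfl
  have hd := commutator_eq_bot_of_perfect L D (isComponent_perfect hL) hc
  rw [Subgroup.commutator_eq_bot_iff_le_centralizer] at hd
  rw [Subgroup.le_centralizer_iff]
  exact hd

/-- Lemma K, part 2: a `q`-subgroup normalized by `S` centralizes `O_r(H)`, `r ≠ q`. -/
theorem BenderHyp.le_centralizer_pCore (hS : BenderHyp S) (q : ℕ) [hq : Fact q.Prime]
    (D : Subgroup H) (hD : IsPGroup q D) (hSD : S ≤ Subgroup.normalizer (D : Set H))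
    (r : ℕ) [hr : Fact r.Prime] (hrq : r ≠ q) :
    D ≤ Subgroup.centralizer (Cfsg.pCore r H : Set H) := by
  have hRn := pCore_normal r H
  have hRp := pCore_isPGroup r H
  have hcop : (Nat.card D).Coprime (Nat.card ↥(Cfsg.pCore r H)) := by
    obtain ⟨n, hn⟩ := IsPGroup.iff_card.mp hD
    obtain ⟨m, hm⟩ := IsPGroup.iff_card.mp hRp
    rw [hn, hm]
    exact Nat.Coprime.pow _ _ ((Nat.coprime_primes hq.out hr.out).mpr (Ne.symm hrq))
  have hdisj : D ⊓ Cfsg.pCore r H = ⊥ := by
    rw [← disjoint_iff]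
    exact Subgroup.disjoint_of_coprime_natCard hcop
  have hPQ : S ⊓ Cfsg.pCore r H ≤ Subgroup.centralizer (D : Set H) := by
    intro s hs
    obtain ⟨hs1, hs2⟩ := Subgroup.mem_inf.1 hs
    rw [Subgroup.mem_centralizer_iff]
    intro d hd
    have h1 : s * d * s⁻¹ * d⁻¹ ∈ D ⊓ Cfsg.pCore r H := by
      refine Subgroup.mem_inf.2 ⟨?_, ?_⟩
      · exact D.mul_mem ((Subgroup.mem_normalizer_iff.mp (hSD hs1) d).mp hd) (D.inv_mem hd)
      · have h2 : d * s⁻¹ * d⁻¹ ∈ Cfsg.pCore r H :=
          hRn.conj_mem _ (Subgroup.inv_mem _ hs2) d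
        have : s * d * s⁻¹ * d⁻¹ = s * (d * s⁻¹ * d⁻¹) := by group
        rw [this]; exact Subgroup.mul_mem _ hs2 h2
    rw [hdisj, Subgroup.mem_bot] at h1
    have : s * d = d * s := by
      calc s * d = (s * d * s⁻¹ * d⁻¹) * (d * s) := by group
        _ = d * s := by rw [h1, one_mul]
    exact this.symm
  have htop : Subgroup.normalizer (Cfsg.pCore r H : Set H) = ⊤ :=
    Subgroup.normalizer_eq_top_iff.mpr hRn
  apply Cfsg.Agent.S0028.result r (S ⊓ Cfsg.pCore r H) D (Cfsg.pCore r H)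
    (hRp.to_le inf_le_right) ?_ hRp hPQ (by rw [htop]; exact le_top) (by rw [htop]; exact le_top)
  · intro x hx
    have h1 := hS.centralizer_inf_pCore_le r hx
    exact hPQ (Subgroup.mem_inf.2 ⟨h1, (Subgroup.mem_inf.1 hx).1⟩)
  · obtain ⟨n, hn⟩ := IsPGroup.iff_card.mp hD
    rw [hn]
    exact Nat.Coprime.pow_left _ ((Nat.coprime_primes hq.out hr.out).mpr (Ne.symm hrq))

theorem BenderHyp.le_centralizer_benderC (hS : BenderHyp S) (q : ℕ) [hq : Fact q.Prime]
    (D : Subgroup H) (hD : IsPGroup q D) (hSD : S ≤ Subgroup.normalizer (D : Set H)) :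
    D ≤ Subgroup.centralizer (benderC q H : Set H) := by
  rw [Subgroup.le_centralizer_iff]
  apply benderC_le
  · rw [Subgroup.le_centralizer_iff]
    exact hS.le_centralizer_layer q D hD hSD
  · intro r hr hrq
    rw [Subgroup.le_centralizer_iff]
    exact hS.le_centralizer_pCore q D hD hSD r hrq

/-- part (a), abstractly: if `q ∤ |F(H)|`, a `q`-subgroup normalized by `S` is trivial. -/
theorem BenderHyp.eq_bot_of_not_dvd (hS : BenderHyp S) (q : ℕ) [hq : Fact q.Prime]
    (D : Subgroup H) (hD : IsPGroup q D) (hSD : S ≤ Subgroup.normalizer (D : Set H))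
    (hq' : ¬ q ∣ Nat.card ↥(Cfsg.fittingSubgroup H)) : D = ⊥ := by
  have hOq : Cfsg.pCore q H = ⊥ :=
    eq_bot_of_isPGroup_of_le_of_not_dvd (pCore_le_fitting q) (pCore_isPGroup q H) hq'
  have h1 : Cfsg.generalizedFittingSubgroup H ≤ Subgroup.centralizer (D : Set H) := by
    apply fstar_le_of
    · rw [Subgroup.le_centralizer_iff]
      exact hS.le_centralizer_layer q D hD hSD
    · intro r hr
      by_cases hrq : r = q
      · subst hrq; rw [hOq]; exact bot_le
      · rw [Subgroup.le_centralizer_iff]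
        exact hS.le_centralizer_pCore q D hD hSD r hrq
  rw [Subgroup.le_centralizer_iff] at h1
  have hFn := generalizedFittingSubgroup_normal H
  set ZF := Cfsg.generalizedFittingSubgroup H ⊓
    Subgroup.centralizer (Cfsg.generalizedFittingSubgroup H : Set H) with hZF
  have hDZ : D ≤ ZF := le_inf (h1.trans centralizer_fstar_le) h1
  have hZn : ZF.Normal := by
    have : (Subgroup.centralizer (Cfsg.generalizedFittingSubgroup H : Set H)).Normal :=
      Subgroup.normal_centralizer
    rw [hZF]; infer_instance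
  have hZab : ⁅ZF, ZF⁆ = ⊥ := by
    rw [Subgroup.commutator_eq_bot_iff_le_centralizer]
    exact inf_le_right.trans (Subgroup.centralizer_le (by exact_mod_cast (inf_le_left : ZF ≤ _)))
  have hZnil : Group.IsNilpotent ↥ZF := by
    apply isNilpotent_of_commutator_commutator_eq_bot
    rw [hZab, Subgroup.commutator_bot_left]
  have hZF' : ZF ≤ Cfsg.fittingSubgroup H := le_fittingSubgroup hZn hZnil
  exact eq_bot_of_isPGroup_of_le_of_not_dvd (hDZ.trans hZF') hD hq'

/-- a component is generated by its `p'`-elements. -/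
theorem component_le_of_coprime_mem (p : ℕ) [hp : Fact p.Prime] {L K : Subgroup H}
    (hL : Cfsg.IsComponent L) (h : ∀ y ∈ L, (orderOf y).Coprime p → y ∈ K) : L ≤ K := by
  have hperf : Group.IsPerfect ↥L := hL.2.1
  have h1 : Cfsg.pResidual p ↥L = ⊤ := by
    apply pResidual_eq_top_of_sup_commutator
    rw [hperf.commutator_eq_top, sup_top_eq]
  have h2 : Cfsg.pResidual p ↥L ≤ K.subgroupOf L := by
    unfold Cfsg.pResidual
    rw [Subgroup.closure_le]
    intro g hg
    rw [SetLike.mem_coe, Subgroup.mem_subgroupOf]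
    apply h _ g.2
    rw [Subgroup.orderOf_coe]; exact hg
  intro l hl
  have : (⟨l, hl⟩ : ↥L) ∈ K.subgroupOf L := h2 (by rw [h1]; exact Subgroup.mem_top _)
  rw [Subgroup.mem_subgroupOf] at this
  exact this

end

end Cfsg.Agent.Lib.Helper17
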