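import Mathlib
import Cfsg.Prelude.Def_Local
import Cfsg.Prelude.Def_Solvable
import Cfsg.Prelude.Def_CaseTheorems
import Cfsg.Prelude.Def_OddOrderLocal
import Cfsg.Agent.Lib.Helper17.Rank2Solv
import Cfsg.Agent.Lib.Helper8.HallSCN1
import Cfsg.Agent.Lib.Helper9.Transport
import Cfsg.Agent.Lib.Helper16.StabChain

/-!
helper17: solvable groups of odd order whose Fitting subgroup has rank at most two
(B&G Theorem 4.20): `G' ≤ F(G)`, characteristic subgroups of Sylow subgroups inside the derived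
subgroup are normal, Sylow tower with the large primes at the bottom.
-/

set_option autoImplicit false
open scoped commutatorElement

namespace Cfsg.Agent.Lib.Helper17

section Basic

variable {G : Type*} [Group G]

theorem pRankLE_of_le {p k : ℕ} {F R : Subgroup G} (hRF : R ≤ F) (h : Cfsg.PRankLE p k F) :
    Cfsg.PRankLE p k R := by
  intro A hA hAp
  have hle : A.map R.subtype ≤ F := le_trans (Subgroup.map_subtype_le A) hRF
  have h1 : Nat.card ((A.map R.subtype).subgroupOf F) = Nat.card A := by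
    rw [Nat.card_congr (Subgroup.subgroupOfEquivOfLe hle).toEquiv]
    exact Subgroup.card_map_of_injective R.subtype_injective
  rw [← h1]
  apply h
  · refine ⟨⟨?_⟩⟩
    rintro ⟨a, ha⟩ ⟨b, hb⟩
    rw [Subgroup.mem_subgroupOf] at ha hb
    obtain ⟨a', ha', hae⟩ := ha
    obtain ⟨b', hb', hbe⟩ := hb
    apply Subtype.ext
    apply Subtype.ext
    show (a : G) * (b : G) = (b : G) * (a : G)
    rw [← hae, ← hbe]
    have := hA.is_comm.comm ⟨a', ha'⟩ ⟨b', hb'⟩
    have h2 := congrArg (fun t : A => R.subtype (t : R)) this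
    simpa using h2
  · rintro a ha
    rw [Subgroup.mem_subgroupOf] at ha
    obtain ⟨a', ha', hae⟩ := ha
    apply Subtype.ext
    show (a : G) ^ p = 1
    rw [← hae, ← map_pow, hAp a' ha', map_one]

variable [Finite G]

/-- the action of `G` on `O_p(G)` of rank at most two, `|G|` odd. -/
theorem aut_pCore_facts (hodd : Odd (Nat.card G)) (p : ℕ) [Fact p.Prime]
    (hr : Cfsg.PRankLE p 2 (Cfsg.pCore p G)) :
    (∀ x ∈ commutator G, ∃ k : ℕ,
        x ^ (p ^ k) ∈ Subgroup.centralizer (Cfsg.pCore p G : Set G)) ∧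
      (∀ r : ℕ, r.Prime → p < r → ∀ x : G, (∃ j : ℕ, x ^ (r ^ j) = 1) →
        x ∈ Subgroup.centralizer (Cfsg.pCore p G : Set G)) := by
  classical
  have hpp : p.Prime := Fact.out
  by_cases hp2 : p = 2
  · have hbot : Cfsg.pCore p G = ⊥ := by
      apply Cfsg.Agent.Lib.Helper1.pCore_eq_bot_of_not_dvd
      rw [hp2]
      intro h
      exact (Nat.not_even_iff_odd.mpr hodd) (even_iff_two_dvd.mpr h)
    have htop : Subgroup.centralizer (Cfsg.pCore p G : Set G) = ⊤ := by
      rw [hbot]
      simp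
    rw [htop]
    exact ⟨fun x _ => ⟨0, Subgroup.mem_top _⟩, fun _ _ _ x _ => Subgroup.mem_top _⟩
  obtain ⟨R, hR⟩ : ∃ R : Subgroup G, R = Cfsg.pCore p G := ⟨_, rfl⟩
  rw [← hR] at hr ⊢
  have hRn : R.Normal := by rw [hR]; exact Cfsg.Agent.Lib.Helper1.pCore_normal p G
  have hRP : IsPGroup p R := by rw [hR]; exact Cfsg.Agent.Lib.Helper12.pCore_isPGroup' p
  obtain ⟨g, hg⟩ : ∃ g : G →* MulAut R, g = MulAut.conjNormal := ⟨_, rfl⟩
  have hgker : ∀ y : G, g y = 1 → y ∈ Subgroup.centralizer (R : Set G) := by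
    intro y hy
    rw [Subgroup.mem_centralizer_iff]
    intro r hr'
    have h1 : g y ⟨r, hr'⟩ = ⟨r, hr'⟩ := by rw [hy]; rfl
    rw [hg] at h1
    have h2 : y * r * y⁻¹ = r := by
      have := congrArg Subtype.val h1
      simpa [MulAut.conjNormal_apply] using this
    calc r * y = y * r * y⁻¹ * y := by rw [h2]
      _ = y * r := by group
  obtain ⟨B, hB⟩ : ∃ B : Subgroup (MulAut R), B = g.range := ⟨_, rfl⟩
  have hBcard : Nat.card B ∣ Nat.card G := by
    rw [hB]; exact Subgroup.card_range_dvd g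
  have hBodd : Odd (Nat.card B) := Odd.of_dvd_nat hodd hBcard
  obtain ⟨key1, key2⟩ := odd_aut_rank_two p hp2 hRP hr B hBodd
  refine ⟨?_, ?_⟩
  · intro x hx
    have h1 : g x ∈ ⁅B, B⁆ := by
      have h2 : (commutator G).map g = ⁅B, B⁆ := by
        rw [commutator_def, Subgroup.map_commutator, hB, MonoidHom.range_eq_map]
      rw [← h2]
      exact Subgroup.mem_map_of_mem _ hx
    obtain ⟨k, hk⟩ := key1 _ h1
    rw [← map_pow] at hk
    exact ⟨k, hgker _ hk⟩
  · intro r hrp hlt x hx
    obtain ⟨j, hj⟩ := hx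
    apply hgker
    by_contra hne
    have h1 : orderOf (g x) ∣ r ^ j := by
      apply orderOf_dvd_of_pow_eq_one
      rw [← map_pow, hj, map_one]
    obtain ⟨i, -, hi⟩ := (Nat.dvd_prime_pow hrp).mp h1
    have hi0 : i ≠ 0 := by
      rintro rfl
      rw [pow_zero] at hi
      exact hne (orderOf_eq_one_iff.mp hi)
    have h2 : r ∣ orderOf (g x) := by rw [hi]; exact dvd_pow_self r hi0
    have hfin : Finite B := by
      rw [hB]
      exact Finite.of_surjective g.rangeRestrict g.rangeRestrict_surjective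
    have h3 : orderOf (g x) ∣ Nat.card B := by
      have hmem : g x ∈ B := by rw [hB]; exact ⟨x, rfl⟩
      have := orderOf_dvd_natCard (⟨g x, hmem⟩ : B)
      rwa [Subgroup.orderOf_mk] at this
    have := key2 r hrp (h2.trans h3)
    omega

end Basic

section Fit

variable {G : Type*} [Group G] [Finite G] [Group.IsSolvable G]

/-- B&G 4.20(a): `G' ≤ F(G)`. -/
theorem commutator_le_fitting_of_rank_two (hodd : Odd (Nat.card G))
    (hF : ∀ p : ℕ, p.Prime → Cfsg.PRankLE p 2 (Cfsg.fittingSubgroup G)) :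
    commutator G ≤ Cfsg.fittingSubgroup G := by
  classical
  have hfacts : ∀ (p : ℕ) [Fact p.Prime], _ := fun p _ =>
    aut_pCore_facts hodd p (pRankLE_of_le (pCore_le_fitting p) (hF p Fact.out))
  -- prime power elements of the derived subgroup lie in the Fitting subgroup
  have hkey : ∀ (q : ℕ) [Fact q.Prime] (x : G), x ∈ commutator G → (∃ j : ℕ, x ^ (q ^ j) = 1) →
      x ∈ Cfsg.pCore q G := by
    intro q hq x hx hxq
    have hqp : q.Prime := Fact.out
    obtain ⟨j, hj⟩ := hxq
    apply Cfsg.Agent.Lib.Helper8.HallSCN.mem_pCore_of_mem_pCore_quotient q x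
    · intro p hp hpq
      have : Fact p.Prime := ⟨hp⟩
      obtain ⟨k, hk⟩ := (hfacts p).1 x hx
      have hcop : (p ^ k).Coprime (orderOf x) := by
        apply Nat.Coprime.coprime_dvd_right (orderOf_dvd_of_pow_eq_one hj)
        exact Nat.Coprime.pow _ _ ((Nat.coprime_primes hp hqp).mpr hpq)
      obtain ⟨s, hs⟩ := exists_pow_eq_self_of_coprime hcop
      rw [← hs]
      exact Subgroup.pow_mem _ hk _
    · -- the derived subgroup of the quotient is a normal q-subgroup
      obtain ⟨C, hC⟩ : ∃ C : Subgroup G, C = Subgroup.centralizer (Cfsg.pCore q G : Set G) :=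
        ⟨_, rfl⟩
      have hCn : C.Normal := by rw [hC]; infer_instance
      have hP : IsPGroup q (commutator (G ⧸ C)) := by
        rintro ⟨yb, hyb⟩
        have h2 : (commutator G).map (QuotientGroup.mk' C) = commutator (G ⧸ C) := by
          rw [commutator_def, commutator_def, Subgroup.map_commutator,
            ← MonoidHom.range_eq_map, MonoidHom.range_eq_top.mpr (QuotientGroup.mk'_surjective C)]
        rw [← h2] at hyb
        obtain ⟨y, hy, rfl⟩ := hyb
        obtain ⟨k, hk⟩ := (hfacts q).1 y hy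
        refine ⟨k, ?_⟩
        apply Subtype.ext
        push_cast
        rw [← map_pow]
        rw [← hC] at hk
        exact (QuotientGroup.eq_one_iff _).mpr hk
      have hle := Cfsg.Agent.Lib.Helper12.le_pCore' q _ inferInstance hP
      subst hC
      apply hle
      have : (QuotientGroup.mk x : G ⧸ Subgroup.centralizer (Cfsg.pCore q G : Set G)) =
          QuotientGroup.mk' _ x := rfl
      rw [this]
      have h3 : QuotientGroup.mk' (Subgroup.centralizer (Cfsg.pCore q G : Set G)) x ∈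
          (commutator G).map (QuotientGroup.mk' _) := Subgroup.mem_map_of_mem _ hx
      rw [commutator_def, Subgroup.map_commutator] at h3
      rw [commutator_def]
      exact Subgroup.commutator_mono le_top le_top h3
    · exact ⟨j, hj⟩
  -- Sylow subgroups of the derived subgroup
  have htop : (Cfsg.fittingSubgroup G).subgroupOf (commutator G) = ⊤ := by
    apply Cfsg.Agent.Lib.Helper1.eq_top_of_forall_sylow_le
    intro q hq
    obtain ⟨Q⟩ : Nonempty (Sylow q (commutator G)) := inferInstance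
    refine ⟨Q, ?_⟩
    intro y hy
    rw [Subgroup.mem_subgroupOf]
    obtain ⟨j, hj⟩ := Q.2 ⟨y, hy⟩
    have hj' : (y : G) ^ (q ^ j) = 1 := by
      have := congrArg (fun t : Q => ((t : commutator G) : G)) hj
      simpa using this
    exact pCore_le_fitting q (hkey q (y : G) y.2 ⟨j, hj'⟩)
  intro x hx
  have : (⟨x, hx⟩ : commutator G) ∈ (Cfsg.fittingSubgroup G).subgroupOf (commutator G) := by
    rw [htop]; exact Subgroup.mem_top _
  exact this

omit [Finite G] [Group.IsSolvable G] in
theorem le_normalizer_of_forall_conj_mem {K H : Subgroup G}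
    (h : ∀ k ∈ K, ∀ x ∈ H, k * x * k⁻¹ ∈ H) : K ≤ Subgroup.normalizer (H : Set G) := by
  intro k hk
  rw [Subgroup.mem_normalizer_iff]
  intro x
  constructor
  · exact h k hk x
  · intro hx
    have := h k⁻¹ (K.inv_mem hk) _ hx
    simpa [mul_assoc] using this

omit [Finite G] [Group.IsSolvable G] in
theorem normal_of_commutator_le {N : Subgroup G} (h : commutator G ≤ N) : N.Normal := by
  refine ⟨fun n hn g => ?_⟩
  have e : g * n * g⁻¹ = ⁅g, n⁆ * n := by
    rw [commutatorElement_def]; group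
  rw [e]
  apply N.mul_mem _ hn
  apply h
  rw [commutator_def]
  exact Subgroup.commutator_mem_commutator (Subgroup.mem_top _) (Subgroup.mem_top _)

/-- B&G 4.20(b): characteristic subgroups of a Sylow subgroup inside its derived subgroup are
normal in `G`. -/
theorem char_sylow_normal_of_rank_two (hodd : Odd (Nat.card G))
    (hF : ∀ p : ℕ, p.Prime → Cfsg.PRankLE p 2 (Cfsg.fittingSubgroup G))
    (q : ℕ) [Fact q.Prime] (S : Sylow q G) (T : Subgroup ↥(S : Subgroup G)) (hT : T.Characteristic)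
    (hTS : T.map (S : Subgroup G).subtype ≤ ⁅(S : Subgroup G), (S : Subgroup G)⁆) :
    (T.map (S : Subgroup G).subtype).Normal := by
  classical
  have hqp : q.Prime := Fact.out
  have hder := commutator_le_fitting_of_rank_two hodd hF
  obtain ⟨T', hT'⟩ : ∃ T' : Subgroup G, T' = T.map (S : Subgroup G).subtype := ⟨_, rfl⟩
  rw [← hT'] at hTS ⊢
  have hT'S : T' ≤ (S : Subgroup G) := by rw [hT']; exact Subgroup.map_subtype_le T
  have hT'R : T' ≤ Cfsg.pCore q G := by
    intro t ht
    have h1 : t ∈ Cfsg.fittingSubgroup G := by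
      apply hder
      rw [commutator_def]
      exact Subgroup.commutator_mono le_top le_top (hTS ht)
    obtain ⟨j, hj⟩ := S.2 ⟨t, hT'S ht⟩
    have hj' : t ^ (q ^ j) = 1 := by
      have := congrArg Subtype.val hj
      simpa using this
    exact mem_pCore_of_mem_fitting q h1 hj'
  have hNS : Subgroup.normalizer ((S : Subgroup G) : Set G) ≤ Subgroup.normalizer (T' : Set G) := by
    apply le_normalizer_of_forall_conj_mem
    intro k hk x hx
    rw [hT'] at hx ⊢
    exact Cfsg.Agent.Lib.Helper16.conj_mem_map_of_characteristic T hk hx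
  have hFN : Cfsg.fittingSubgroup G ≤ Subgroup.normalizer (T' : Set G) := by
    rw [Cfsg.Agent.Lib.Helper1.fittingSubgroup_eq_iSup_pCore]
    apply iSup_le
    intro p
    have hpf : Fact (p : ℕ).Prime := ⟨p.2⟩
    by_cases hpq : (p : ℕ) = q
    · rw [hpq]
      exact (Cfsg.Agent.Lib.Helper1.pCore_le_sylow S).trans (Subgroup.le_normalizer.trans hNS)
    · refine le_trans ?_ (Subgroup.centralizer_le_normalizer (T' : Set G))
      intro x hx
      rw [Subgroup.mem_centralizer_iff]
      intro t ht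
      exact ((Cfsg.Agent.Lib.Helper1.pCore_commute hpq x t hx (hT'R ht)).eq).symm
  obtain ⟨N, hN⟩ : ∃ N : Subgroup G, N = (S : Subgroup G) ⊔ Cfsg.fittingSubgroup G := ⟨_, rfl⟩
  have hNn : N.Normal := by
    apply normal_of_commutator_le
    rw [hN]
    exact hder.trans le_sup_right
  have hSN : (S : Subgroup G) ≤ N := by rw [hN]; exact le_sup_left
  have hfr := Sylow.normalizer_sup_eq_top' S hSN
  have htop : Subgroup.normalizer (T' : Set G) = ⊤ := by
    rw [eq_top_iff, ← hfr, hN]
    apply sup_le hNS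
    apply sup_le _ hFN
    exact Subgroup.le_normalizer.trans hNS
  exact Subgroup.normalizer_eq_top_iff.mp htop

/-- B&G 4.20 (d'): the primes dividing `|G : O_{p'}(G)|` are at most `p`. -/
theorem prime_le_of_dvd_index_pPrimeCore (hodd : Odd (Nat.card G))
    (hF : ∀ p : ℕ, p.Prime → Cfsg.PRankLE p 2 (Cfsg.fittingSubgroup G))
    (p : ℕ) [Fact p.Prime] :
    ∀ r : ℕ, r.Prime → r ∣ (Cfsg.pPrimeCore p G).index → r ≤ p := by
  classical
  have hpp : p.Prime := Fact.out
  intro r hr hrd
  by_contra hlt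
  push Not at hlt
  have hrf : Fact r.Prime := ⟨hr⟩
  have hder := commutator_le_fitting_of_rank_two hodd hF
  obtain ⟨K, hK⟩ : ∃ K : Subgroup G, K = Cfsg.pPrimeCore p G := ⟨_, rfl⟩
  rw [← hK] at hrd
  have hKn : K.Normal := by rw [hK]; exact Cfsg.Agent.Lib.Helper1.pPrimeCore_normal p G
  have hO : Cfsg.pPrimeCore p (G ⧸ K) = ⊥ := by
    subst hK
    exact Cfsg.Agent.Lib.Helper9.pPrimeCore_quotient_eq_bot p
  obtain ⟨f, hf⟩ : ∃ f : G →* G ⧸ K, f = QuotientGroup.mk' K := ⟨_, rfl⟩
  have hfsurj : Function.Surjective f := by rw [hf]; exact QuotientGroup.mk'_surjective K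
  have hfker : ∀ x : G, f x = 1 ↔ x ∈ K := by
    intro x; rw [hf]; exact QuotientGroup.eq_one_iff x
  obtain ⟨Rb, hRb⟩ : ∃ Rb : Subgroup (G ⧸ K), Rb = Cfsg.pCore p (G ⧸ K) := ⟨_, rfl⟩
  have hRbn : Rb.Normal := by rw [hRb]; exact Cfsg.Agent.Lib.Helper1.pCore_normal p _
  have hRbP : IsPGroup p Rb := by rw [hRb]; exact Cfsg.Agent.Lib.Helper12.pCore_isPGroup' p
  have hCR : Subgroup.centralizer (Rb : Set (G ⧸ K)) ≤ Rb := by
    rw [hRb]; exact Cfsg.Agent.Lib.Helper9.centralizer_pCore_le_of_isSolvable p hO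
  -- an r-element y of G with nontrivial image
  rw [Subgroup.index_eq_card] at hrd
  obtain ⟨xb, hxb⟩ := exists_prime_orderOf_dvd_card' r hrd
  obtain ⟨x₀, hx₀⟩ := hfsurj xb
  obtain ⟨a, m, hm, hn⟩ := Nat.exists_eq_pow_mul_and_not_dvd (orderOf_pos x₀).ne' r hr.ne_one
  obtain ⟨y, hy⟩ : ∃ y : G, y = x₀ ^ m := ⟨_, rfl⟩
  have hyr : y ^ (r ^ a) = 1 := by
    rw [hy, ← pow_mul, mul_comm, ← hn, pow_orderOf_eq_one]
  have hfy : f y ≠ 1 := by
    rw [hy, map_pow, hx₀]
    intro h
    have := orderOf_dvd_of_pow_eq_one h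
    rw [hxb] at this
    exact hm this
  have hyC : y ∈ Subgroup.centralizer (Cfsg.pCore p G : Set G) :=
    (aut_pCore_facts hodd p (pRankLE_of_le (pCore_le_fitting p) (hF p hpp))).2 r hr hlt y ⟨a, hyr⟩
  -- images of the Fitting subgroup
  have hfF : ∀ z ∈ Cfsg.fittingSubgroup G, ∃ z' ∈ Cfsg.pCore p G, f z' = f z := by
    intro z hz
    have h1 : f z ∈ (Cfsg.fittingSubgroup G).map f := Subgroup.mem_map_of_mem f hz
    have h2 : (Cfsg.fittingSubgroup G).map f ≤ (Cfsg.pCore p G).map f := by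
      rw [Cfsg.Agent.Lib.Helper1.fittingSubgroup_eq_iSup_pCore, Subgroup.map_iSup]
      apply iSup_le
      intro t
      have htf : Fact (t : ℕ).Prime := ⟨t.2⟩
      by_cases htp : (t : ℕ) = p
      · rw [htp]
      · have hle : Cfsg.pCore (t : ℕ) G ≤ K := by
          rw [hK]
          apply Cfsg.Agent.Lib.Helper12.le_pPrimeCore p _
            (Cfsg.Agent.Lib.Helper1.pCore_normal (t : ℕ) G)
          obtain ⟨e, he⟩ := (Cfsg.Agent.Lib.Helper12.pCore_isPGroup' (X := G) (t : ℕ)).exists_card_eq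
          rw [he]
          exact Nat.Coprime.pow_left e ((Nat.coprime_primes t.2 hpp).mpr htp)
        rintro _ ⟨w, hw, rfl⟩
        rw [(hfker w).mpr (hle hw)]
        exact Subgroup.one_mem _
    obtain ⟨z', hz', hzz⟩ := h2 h1
    exact ⟨z', hz', hzz⟩
  -- f y centralizes Rb
  have hcent : f y ∈ Subgroup.centralizer (Rb : Set (G ⧸ K)) := by
    rw [Subgroup.mem_centralizer_iff]
    intro b hb
    obtain ⟨α, hα⟩ : ∃ α : MulAut Rb, α = MulAut.conjNormal (f y) := ⟨_, rfl⟩
    have hαapp : ∀ c : Rb, ((α c : Rb) : G ⧸ K) = f y * c * (f y)⁻¹ := by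
      intro c; rw [hα]; rfl
    have hαord : (orderOf α).Coprime p := by
      have h1 : α ^ (r ^ a) = 1 := by
        rw [hα, ← map_pow, ← map_pow, hyr, map_one, map_one]
      have h2 : orderOf α ∣ r ^ a := orderOf_dvd_of_pow_eq_one h1
      apply Nat.Coprime.coprime_dvd_left h2
      exact Nat.Coprime.pow_left a ((Nat.coprime_primes hr hpp).mpr hlt.ne')
    obtain ⟨u, hu⟩ : ∃ u : Rb, u = (⟨b, hb⟩ : Rb)⁻¹ * α ⟨b, hb⟩ := ⟨_, rfl⟩
    have huval : (u : G ⧸ K) = b⁻¹ * (f y * b * (f y)⁻¹) := by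
      rw [hu]
      push_cast
      rw [hαapp]
    have hufix : α u = u := by
      apply Subtype.ext
      rw [hαapp]
      -- u lies in the image of O_p(G)
      have h1 : (u : G ⧸ K) ∈ commutator (G ⧸ K) := by
        rw [huval, commutator_def]
        have e : b⁻¹ * (f y * b * (f y)⁻¹) = ⁅b⁻¹, f y⁆ := by
          rw [commutatorElement_def]; group
        rw [e]
        exact Subgroup.commutator_mem_commutator (Subgroup.mem_top _) (Subgroup.mem_top _)
      have h2 : commutator (G ⧸ K) = (commutator G).map f := by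
        rw [commutator_def, commutator_def, Subgroup.map_commutator,
          ← MonoidHom.range_eq_map, MonoidHom.range_eq_top.mpr hfsurj]
      rw [h2] at h1
      obtain ⟨z, hz, hzu⟩ := h1
      obtain ⟨z', hz', hzz⟩ := hfF z (hder hz)
      rw [← hzu, ← hzz, ← map_inv, ← map_mul, ← map_mul]
      congr 1
      have := Subgroup.mem_centralizer_iff.mp hyC z' hz'
      calc y * z' * y⁻¹ = z' * y * y⁻¹ := by rw [this]
        _ = z' := by group
    have h3 := Cfsg.Agent.Lib.Helper1.CritExtra.eq_one_of_fixed_of_coprime hRbP α hαord ⟨b, hb⟩ u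
      (by rw [hu]; group) hufix
    have h4 : (u : G ⧸ K) = 1 := by rw [h3]; rfl
    rw [huval] at h4
    have h5 : f y * b * (f y)⁻¹ = b := by
      have := inv_mul_eq_one.mp h4
      exact this.symm
    calc b * f y = f y * b * (f y)⁻¹ * f y := by rw [h5]
      _ = f y * b := by group
  have hyRb : f y ∈ Rb := hCR hcent
  obtain ⟨j, hj⟩ := hRbP ⟨f y, hyRb⟩
  have hj' : f y ^ (p ^ j) = 1 := by
    have := congrArg Subtype.val hj
    simpa using this
  have hr' : f y ^ (r ^ a) = 1 := by rw [← map_pow, hyr, map_one]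
  have h6 : orderOf (f y) ∣ Nat.gcd (r ^ a) (p ^ j) :=
    Nat.dvd_gcd (orderOf_dvd_of_pow_eq_one hr') (orderOf_dvd_of_pow_eq_one hj')
  have h7 : Nat.gcd (r ^ a) (p ^ j) = 1 :=
    Nat.Coprime.pow _ _ ((Nat.coprime_primes hr hpp).mpr hlt.ne')
  rw [h7] at h6
  exact hfy (orderOf_eq_one_iff.mp (Nat.dvd_one.mp h6))

end Fit

section Hall

universe u

/-- the rank hypothesis on the Fitting subgroup passes to characteristic subgroups. -/
theorem pRankLE_fitting_of_characteristic {G : Type*} [Group G] [Finite G] (K : Subgroup G)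
    [hK : K.Characteristic] (t k : ℕ) (hF : Cfsg.PRankLE t k (Cfsg.fittingSubgroup G)) :
    Cfsg.PRankLE t k (Cfsg.fittingSubgroup K) := by
  have hFc : (Cfsg.fittingSubgroup K).Characteristic :=
    Cfsg.Agent.Lib.Helper9.fittingSubgroup_characteristic
  have hchar : ((Cfsg.fittingSubgroup K).map K.subtype).Characteristic := inferInstance
  have hn : ((Cfsg.fittingSubgroup K).map K.subtype).Normal := inferInstance
  have hnil : Group.IsNilpotent ((Cfsg.fittingSubgroup K).map K.subtype) := by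
    have := Cfsg.Agent.Lib.Helper1.fittingSubgroup_isNilpotent K
    exact Group.nilpotent_of_mulEquiv
      ((Cfsg.fittingSubgroup K).equivMapOfInjective K.subtype K.subtype_injective)
  have hle : (Cfsg.fittingSubgroup K).map K.subtype ≤ Cfsg.fittingSubgroup G :=
    Cfsg.Agent.Lib.Helper1.le_fittingSubgroup hn hnil
  have h1 : Cfsg.PRankLE t k ((Cfsg.fittingSubgroup K).map K.subtype) := pRankLE_of_le hle hF
  intro A hA hAp
  -- transport A to the image
  obtain ⟨e, he⟩ : ∃ e : Cfsg.fittingSubgroup K ≃* (Cfsg.fittingSubgroup K).map K.subtype,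
      e = (Cfsg.fittingSubgroup K).equivMapOfInjective K.subtype K.subtype_injective := ⟨_, rfl⟩
  have h2 : Nat.card (A.map e.toMonoidHom) = Nat.card A :=
    Subgroup.card_map_of_injective e.injective
  rw [← h2]
  apply h1
  · refine ⟨⟨?_⟩⟩
    rintro ⟨a, ha⟩ ⟨b, hb⟩
    obtain ⟨a', ha', rfl⟩ := ha
    obtain ⟨b', hb', rfl⟩ := hb
    apply Subtype.ext
    have := hA.is_comm.comm ⟨a', ha'⟩ ⟨b', hb'⟩
    have h3 : a' * b' = b' * a' := congrArg Subtype.val this
    show e.toMonoidHom a' * e.toMonoidHom b' = e.toMonoidHom b' * e.toMonoidHom a'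
    rw [← map_mul, ← map_mul, h3]
  · rintro a ⟨a', ha', rfl⟩
    rw [← map_pow, hAp a' ha', map_one]

/-- B&G 4.20(d): characteristic Hall subgroups for the primes greater than `p₀`. -/
theorem exists_char_hall_of_rank_two : ∀ (n : ℕ) (G : Type u) [Group G] [Finite G]
    [Group.IsSolvable G], Nat.card G = n → Odd (Nat.card G) →
    (∀ p : ℕ, p.Prime → Cfsg.PRankLE p 2 (Cfsg.fittingSubgroup G)) →
    ∀ p₀ : ℕ, ∃ N : Subgroup G, N.Characteristic ∧ Cfsg.IsPiHall {q | q.Prime ∧ p₀ < q} N := by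
  intro n
  induction n using Nat.strong_induction_on with
  | _ n IH =>
  intro G _ _ _ hn hodd hF p₀
  classical
  have htopcase : (∀ q : ℕ, q.Prime → q ∣ Nat.card G → p₀ < q) →
      ∃ N : Subgroup G, N.Characteristic ∧ Cfsg.IsPiHall {q | q.Prime ∧ p₀ < q} N := by
    intro h
    refine ⟨⊤, inferInstance, ?_, ?_⟩
    · intro q hq hqd
      rw [Subgroup.card_top] at hqd
      exact ⟨hq, h q hq hqd⟩
    · intro q hq _ hqd
      rw [Subgroup.index_top] at hqd
      exact hq.one_lt.ne' (Nat.dvd_one.mp hqd)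
  by_cases h1 : Nat.card G = 1
  · apply htopcase
    intro q hq hqd
    rw [h1] at hqd
    exact absurd (Nat.dvd_one.mp hqd) hq.one_lt.ne'
  obtain ⟨p, hp⟩ : ∃ p : ℕ, p = (Nat.card G).minFac := ⟨_, rfl⟩
  have hpp : p.Prime := by rw [hp]; exact Nat.minFac_prime h1
  have hpf : Fact p.Prime := ⟨hpp⟩
  have hpG : p ∣ Nat.card G := by rw [hp]; exact Nat.minFac_dvd _
  have hpmin : ∀ q : ℕ, q.Prime → q ∣ Nat.card G → p ≤ q := by
    intro q hq hqd
    rw [hp]
    exact Nat.minFac_le_of_dvd hq.two_le hqd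
  by_cases hlt : p₀ < p
  · apply htopcase
    intro q hq hqd
    exact lt_of_lt_of_le hlt (hpmin q hq hqd)
  push Not at hlt
  obtain ⟨K, hK⟩ : ∃ K : Subgroup G, K = Cfsg.pPrimeCore p G := ⟨_, rfl⟩
  have hKchar : K.Characteristic := by
    rw [hK]; exact Cfsg.Agent.Lib.Helper12.pPrimeCore_characteristic p
  have hKcop : (Nat.card K).Coprime p := by
    rw [hK]; exact Cfsg.Agent.Lib.Helper12.pPrimeCore_coprime p
  have hKidx : ∃ a : ℕ, K.index = p ^ a := by
    refine ⟨_, Nat.eq_prime_pow_of_unique_prime_dvd Subgroup.index_ne_zero_of_finite ?_⟩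
    intro r hr hrd
    have h2 : r ≤ p := by
      rw [hK] at hrd
      exact prime_le_of_dvd_index_pPrimeCore hodd hF p r hr hrd
    exact le_antisymm h2 (hpmin r hr (hrd.trans (Subgroup.index_dvd_card K)))
  have hKlt : Nat.card K < n := by
    rw [← hn]
    have h2 : Nat.card K ∣ Nat.card G := Subgroup.card_subgroup_dvd_card K
    rcases lt_or_eq_of_le (Nat.le_of_dvd Nat.card_pos h2) with h3 | h3
    · exact h3
    · exfalso
      rw [h3] at hKcop
      exact (Nat.Prime.coprime_iff_not_dvd hpp).mp hKcop.symm hpG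
  have hKodd : Odd (Nat.card K) := Odd.of_dvd_nat hodd (Subgroup.card_subgroup_dvd_card K)
  have hKF : ∀ t : ℕ, t.Prime → Cfsg.PRankLE t 2 (Cfsg.fittingSubgroup K) := fun t ht =>
    pRankLE_fitting_of_characteristic K t 2 (hF t ht)
  obtain ⟨NK, hNKchar, hNK1, hNK2⟩ := IH (Nat.card K) hKlt K rfl hKodd hKF p₀
  refine ⟨NK.map K.subtype, inferInstance, ?_, ?_⟩
  · intro q hq hqd
    rw [Subgroup.card_map_of_injective K.subtype_injective] at hqd
    exact hNK1 q hq hqd
  · intro q hq hqπ hqd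
    rw [Subgroup.index_map_subtype] at hqd
    rcases (Nat.Prime.dvd_mul hq).mp hqd with h2 | h2
    · exact hNK2 q hq hqπ h2
    · obtain ⟨a, ha⟩ := hKidx
      rw [ha] at h2
      have h3 := hq.dvd_of_dvd_pow h2
      have h4 : q = p := (Nat.prime_dvd_prime_iff_eq hq hpp).mp h3
      have h5 : p₀ < q := hqπ.2
      omega

end Hall

end Cfsg.Agent.Lib.Helper17
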