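/-
Helper lemmas (helper17): tools for the Uniqueness Theorem chain (Bender–Glauberman §8–§9).
Part D: existence of `A ∈ SCN_3(S)`; in a minimal simple group of odd order, if `T` contains every
`P`-invariant `p'`-subgroup (`P` a Sylow `p`-subgroup) and `A ∈ SCN_3(P)`, then `T` contains every
`A`-invariant `p'`-subgroup.
-/
import Mathlib
import Cfsg.Agent.Lib.Helper17.BGUniqC
import Cfsg.Agent.Lib.Helper17.BGTrans4
import Cfsg.Agent.Lib.Helper17.Rank2Fitting
import Cfsg.Agent.Lib.Helper20.NormalRankTwo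
import Cfsg.Agent.Lib.Helper1.NormalRankThree
import Cfsg.Agent.Lib.Helper8.Factorization
import Cfsg.Agent.Lib.Helper22.TIHall2
import Cfsg.Agent.S1393
import Cfsg.Agent.S1395
import Cfsg.Agent.S1396

set_option autoImplicit false
open scoped Pointwise

namespace Cfsg.Agent.Lib.Helper17.BGU

open Cfsg.Agent.Lib.Helper8 (IsSylIn)
open Cfsg.Agent.Lib.Helper8 (mem_map_conj conj_mem_map_conj map_conj_map_conj map_conj_one
  map_conj_le_iff map_conj_eq_iff card_map_conj mem_normalizer_iff_map_conj)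

variable {G : Type*} [Group G]

/-- Existence of `A ∈ SCN_3(S)` for an odd `p`-group `S` of rank at least three. -/
theorem exists_scn_three [Finite G] {p : ℕ} [Fact p.Prime] (hp : p ≠ 2) {S : Subgroup G}
    (hS : IsPGroup p S) {E₀ : Subgroup G} (hE₀S : E₀ ≤ S)
    (hE₀c : ∀ a ∈ E₀, ∀ b ∈ E₀, a * b = b * a) (hE₀e : ∀ a ∈ E₀, a ^ p = 1)
    (hE₀card : p ^ 2 < Nat.card E₀) :
    ∃ A : Subgroup G, Cfsg.IsSCN S A ∧ ¬ Cfsg.PRankLE p 2 ↥A := by
  have hpp : p.Prime := Fact.out
  -- the subgroup `E₀` inside `↥S`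
  have hc' : IsMulCommutative (E₀.subgroupOf S) := isMulCommutative_subgroupOf hE₀c
  have he' : ∀ a ∈ E₀.subgroupOf S, a ^ p = 1 := by
    intro a ha
    rw [Subgroup.mem_subgroupOf] at ha
    apply Subtype.ext
    simpa using hE₀e _ ha
  have hcard' : p ^ 2 < Nat.card (E₀.subgroupOf S) := by
    rw [Cfsg.Agent.Lib.Helper1.card_subgroupOf_of_le hE₀S]; exact hE₀card
  have hnc : ¬ IsCyclic ↥S := by
    intro hcyc
    have h1 : ¬ IsCyclic ↥(E₀.subgroupOf S) :=
      Cfsg.Agent.Lib.Helper8.not_isCyclic_of_elemAb hpp ⟨hc', he'⟩ hcard'.le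
    exact h1 inferInstance
  obtain ⟨E, hEn, hEc, hEe, hE2⟩ :=
    Cfsg.Agent.Lib.Helper20.exists_normal_elemAb_of_not_isCyclic hp hS hnc
  obtain ⟨A', -, hA'n, hA'c, A₀, hA₀A, hA₀c, hA₀e, hA₀card⟩ :=
    Cfsg.Agent.Lib.Helper1.exists_self_centralizing_normal_rank_three hp hS
      (E₀.subgroupOf S) hc' he' hcard' E hEc hEe hE2
  refine ⟨A'.map S.subtype, ⟨Subgroup.map_subtype_le _, ?_, ?_⟩, ?_⟩
  · intro s hs
    have h1 : (⟨s, hs⟩ : ↥S) ∈ Subgroup.normalizer (A' : Set ↥S) := by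
      rw [Subgroup.normalizer_eq_top_iff.mpr hA'n]; exact Subgroup.mem_top _
    exact Subgroup.le_normalizer_map S.subtype (Subgroup.mem_map_of_mem S.subtype h1)
  · apply le_antisymm
    · rintro x ⟨hxS, hxC⟩
      have h1 : (⟨x, hxS⟩ : ↥S) ∈ Subgroup.centralizer (A' : Set ↥S) := by
        rw [Subgroup.mem_centralizer_iff]
        intro a ha
        apply Subtype.ext
        exact (Subgroup.mem_centralizer_iff.mp hxC) (a : G) ⟨a, ha, rfl⟩
      rw [hA'c] at h1
      exact ⟨⟨x, hxS⟩, h1, rfl⟩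
    · rintro _ ⟨a, ha, rfl⟩
      refine ⟨a.2, ?_⟩
      have h1 : a ∈ Subgroup.centralizer (A' : Set ↥S) := by rw [hA'c]; exact ha
      show (a : G) ∈ Subgroup.centralizer ((A'.map S.subtype : Subgroup G) : Set G)
      rw [Subgroup.mem_centralizer_iff]
      rintro _ ⟨b, hb, rfl⟩
      have := (Subgroup.mem_centralizer_iff.mp h1) b hb
      exact congrArg Subtype.val this
  · intro hr
    have hle : A₀.map S.subtype ≤ A'.map S.subtype := Subgroup.map_mono hA₀A
    have h1 := hr ((A₀.map S.subtype).subgroupOf (A'.map S.subtype))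
      (isMulCommutative_subgroupOf (by
        rintro _ ⟨a, ha, rfl⟩ _ ⟨b, hb, rfl⟩
        have := hA₀c.is_comm.comm (⟨a, ha⟩ : A₀) ⟨b, hb⟩
        have h2 : a * b = b * a := congrArg Subtype.val this
        exact congrArg Subtype.val h2))
      (by
        intro a ha
        rw [Subgroup.mem_subgroupOf] at ha
        obtain ⟨b, hb, hba⟩ := ha
        apply Subtype.ext
        have h2 := hA₀e b hb
        have h3 : ((b : ↥S) : G) ^ p = 1 := by
          have := congrArg Subtype.val h2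
          simpa using this
        rw [Subgroup.coe_pow, ← hba]
        exact h3)
    rw [Cfsg.Agent.Lib.Helper1.card_subgroupOf_of_le hle,
      Subgroup.card_map_of_injective S.subtype_injective] at h1
    exact absurd h1 (not_le.mpr hA₀card)

theorem not_isPGroup_top_of_simple [Finite G] [IsSimpleGroup G] (hnc : ¬ IsMulCommutative G)
    {p : ℕ} [Fact p.Prime] (P : Sylow p G) : (P : Subgroup G) ≠ ⊤ := by
  intro h
  have hG : IsPGroup p G := by
    intro g
    obtain ⟨k, hk⟩ := P.isPGroup' ⟨g, h ▸ Subgroup.mem_top g⟩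
    exact ⟨k, by simpa using congrArg Subtype.val hk⟩
  have hnil : Group.IsNilpotent G := hG.isNilpotent
  have hsol : Group.IsSolvable G := inferInstance
  exact hnc ⟨⟨IsSimpleGroup.comm_iff_isSolvable.mpr hsol⟩⟩

/-- In a minimal simple group of odd order: if `T` contains every `p'`-subgroup normalized by the
Sylow `p`-subgroup `P`, and `A ∈ SCN_3(P)`, then `T` contains every `p'`-subgroup normalized by
`A`. -/
theorem le_of_scn_invariant [Finite G] (hG : Cfsg.IsMinSimpleOddOrder G) {p : ℕ} [Fact p.Prime]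
    (P : Sylow p G) {A : Subgroup G} (hA : Cfsg.IsSCN (P : Subgroup G) A)
    (hA3 : ¬ Cfsg.PRankLE p 2 ↥A) {T : Subgroup G}
    (hT : ∀ Y : Subgroup G, (Nat.card Y).Coprime p →
      (P : Subgroup G) ≤ Subgroup.normalizer (Y : Set G) → Y ≤ T) :
    ∀ Y : Subgroup G, (Nat.card Y).Coprime p → A ≤ Subgroup.normalizer (Y : Set G) → Y ≤ T := by
  have hsimple : IsSimpleGroup G := hG.2.1
  have hnc := hG.2.2.1
  have hpp : p.Prime := Fact.out
  have hA' := hA
  obtain ⟨hAP, hPN, hCA⟩ := hA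
  have hAp : IsPGroup p A := P.isPGroup'.to_le hAP
  have hAcent : A ≤ Subgroup.centralizer (A : Set G) := by
    intro a ha
    have : a ∈ (P : Subgroup G) ⊓ Subgroup.centralizer (A : Set G) := by rw [hCA]; exact ha
    exact this.2
  have hAc : ∀ a ∈ A, ∀ b ∈ A, a * b = b * a := fun a ha b hb =>
    ((Subgroup.mem_centralizer_iff.mp (hAcent ha)) b hb).symm
  have hAcI : IsMulCommutative A := by
    refine ⟨⟨?_⟩⟩
    rintro ⟨a, ha⟩ ⟨b, hb⟩
    exact Subtype.ext (hAc a ha b hb)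
  have hA1 : ¬ Cfsg.PRankLE p 1 ↥A := by
    intro h
    apply hA3
    intro E hEc hEe
    exact (h E hEc hEe).trans (Nat.pow_le_pow_right hpp.pos (by norm_num))
  have hAne : A ≠ ⊥ := by
    intro h
    apply hA3
    intro E _ _
    have h1 : Nat.card E ≤ Nat.card A := Nat.le_of_dvd Nat.card_pos (Subgroup.card_subgroup_dvd_card E)
    have h2 : Nat.card A = 1 := Subgroup.card_eq_one.mpr h
    rw [h2] at h1
    exact h1.trans (Nat.one_le_pow _ _ hpp.pos)
  obtain ⟨kA, hkA⟩ := IsPGroup.iff_card.mp hAp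
  have hkApos : 0 < kA := by
    rcases Nat.eq_zero_or_pos kA with h | h
    · exfalso
      apply hAne
      rw [← Subgroup.card_eq_one, hkA, h, pow_zero]
    · exact h
  have hpA : p ∣ Nat.card A := by rw [hkA]; exact dvd_pow_self p hkApos.ne'
  have hpG : p ∣ Nat.card G := hpA.trans (Subgroup.card_subgroup_dvd_card A)
  have hAtr : Cfsg.TransitivityHypothesis A :=
    Cfsg.Agent.S1396.result hG p hpG A hAp hAcI (Or.inr ⟨P, hA', hA1⟩)
  have hZ : ¬ Cfsg.RankLE 2 ↥(A ⊓ Subgroup.centralizer (A : Set G)) := by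
    intro h
    apply hA3
    exact pRankLE_of_le (le_inf le_rfl hAcent) (h p hpp)
  have hPtop : (P : Subgroup G) ≠ ⊤ := not_isPGroup_top_of_simple hnc P
  obtain ⟨kP, hkP⟩ := IsPGroup.iff_card.mp P.isPGroup'
  have hPπ : ∀ r : ℕ, r.Prime → r ∣ Nat.card (P : Subgroup G) → r ∣ Nat.card A := by
    intro r hr hdvd
    rw [hkP] at hdvd
    have : r = p := (Nat.prime_dvd_prime_iff_eq hr hpp).mp (hr.dvd_of_dvd_pow hdvd)
    rw [this]; exact hpA
  have hsn : (A.subgroupOf (P : Subgroup G)).IsSubnormal :=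
    ((Subgroup.normal_subgroupOf_iff_le_normalizer hAP).mpr hPN).isSubnormal
  -- the `q`-group case
  have hqcase : ∀ q : ℕ, q.Prime → q ≠ p → ∀ Y : Subgroup G, IsPGroup q Y →
      A ≤ Subgroup.normalizer (Y : Set G) → Y ≤ T := by
    intro q hq hqp Y hYq hAY
    have : Fact q.Prime := ⟨hq⟩
    have hqA : ¬ q ∣ Nat.card A := by
      rw [hkA]
      intro h
      exact hqp ((Nat.prime_dvd_prime_iff_eq hq hpp).mp (hq.dvd_of_dvd_pow h))
    have hcopq : ∀ Q : Subgroup G, IsPGroup q Q → (Nat.card Q).Coprime p := by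
      intro Q hQ
      obtain ⟨k, hk⟩ := IsPGroup.iff_card.mp hQ
      rw [hk]
      exact Nat.Coprime.pow_left k ((Nat.coprime_primes hq hpp).mpr hqp)
    have htr := Cfsg.Agent.S1393.result hG A hAtr hZ q hq hqA
    have h95 := Cfsg.Agent.S1395.result hG A hAtr q hq hqA (P : Subgroup G) hPtop hPπ hAP hsn htr
    have hsub := h95.2.2.1
    obtain ⟨Q₀, hQ₀, -⟩ := exists_maxInv_ge (bot_mem_invSubgroups (P : Subgroup G) {q})
    have hQ₀q : IsPGroup q Q₀ := ((mem_invq_iff hq).mp hQ₀.1).1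
    have hQ₀T : Q₀ ≤ T := hT Q₀ (hcopq Q₀ hQ₀q) hQ₀.1.2.2
    have hKT : bgK A ≤ T := by
      apply hT
      · have h1 := coprime_card_piCoreOf A (Subgroup.centralizer (A : Set G))
        exact (Nat.Coprime.coprime_dvd_left hpA h1).symm
      · exact hPN.trans (normalizer_le_normalizer_piCoreOf_centralizer _ A)
    obtain ⟨Q₁, hQ₁, hYQ₁⟩ := exists_maxInv_ge ((mem_invq_iff hq).mpr ⟨hYq, hAY⟩)
    obtain ⟨k, hk, hQ₁eq⟩ := htr Q₀ (hsub hQ₀) Q₁ hQ₁
    refine hYQ₁.trans ?_
    rw [hQ₁eq]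
    rintro _ ⟨y, hy, rfl⟩
    show k * y * k⁻¹ ∈ T
    exact T.mul_mem (T.mul_mem (hKT hk) (hQ₀T hy)) (T.inv_mem (hKT hk))
  -- the general case
  intro Y hY hAY
  apply Cfsg.Agent.Lib.Helper22.TIHall.le_of_forall_sylow_le
  intro r hrF
  have hr : r.Prime := hrF.out
  have hcop : (Nat.card A).Coprime (Nat.card Y) := by
    rw [hkA]; exact Nat.Coprime.pow_left kA hY.symm
  have hAsol : Group.IsSolvable ↥A := by
    have : Group.IsNilpotent ↥A := hAp.isNilpotent
    infer_instance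
  obtain ⟨S, hS, -, hAS⟩ := Cfsg.Agent.Lib.Helper8.exists_invariant_isSylIn_ge hAY hcop
    (Or.inl hAsol) r ⊥ bot_le (IsPGroup.of_bot) (by
      intro a _
      rw [Subgroup.mem_normalizer_iff]
      intro x
      simp [Subgroup.mem_bot])
  refine ⟨hS.toSylow, ?_⟩
  rw [hS.toSylow_map]
  by_cases hrp : r = p
  · have h1 : Nat.card S = 1 := by
      have hd1 : Nat.card S ∣ Nat.card Y := Subgroup.card_dvd_of_le hS.1
      obtain ⟨k, hk⟩ := IsPGroup.iff_card.mp hS.isPGroup
      rw [hrp] at hk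
      rw [hk] at hd1 ⊢
      have : (p ^ k).Coprime (p ^ k) := Nat.Coprime.coprime_dvd_left hd1 (Nat.Coprime.pow_right k hY)
      exact (Nat.coprime_self _).mp this
    rw [Subgroup.card_eq_one.mp h1]; exact bot_le
  · exact hqcase r hr hrp S hS.isPGroup hAS

end Cfsg.Agent.Lib.Helper17.BGU
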