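/-
Helper lemmas (helper17): Bender–Glauberman Theorem 9.1: in a minimal simple group of odd order,
a noncyclic elementary abelian `p`-subgroup `B` of a maximal subgroup `M` such that every
`B`-invariant `p'`-subgroup lies in `M` is contained in no other maximal subgroup.
-/
import Mathlib
import Cfsg.Agent.Lib.Helper17.BGUniqD

set_option autoImplicit false
open scoped Pointwise

namespace Cfsg.Agent.Lib.Helper17.BGU

open Cfsg.Agent.Lib.Helper8 (IsSylIn)
open Cfsg.Agent.Lib.Helper8 (mem_map_conj conj_mem_map_conj map_conj_map_conj map_conj_one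
  map_conj_le_iff map_conj_eq_iff card_map_conj mem_normalizer_iff_map_conj map_conj_eq_of_le)
open Cfsg.Agent.Lib.Helper12.CoreControl (coreQ coreQ_le coreQ_coprime le_coreQ
  normalizer_le_normalizer_coreQ)

universe u
variable {G : Type u} [Group G]

theorem card_lt_of_lt [Finite G] {A B : Subgroup G} (h : A < B) : Nat.card A < Nat.card B := by
  refine lt_of_le_of_ne (Subgroup.card_le_of_le h.le) ?_
  intro heq
  exact (ne_of_lt h) (Subgroup.eq_of_le_of_card_ge h.le heq.ge)

theorem scn_comm {P A : Subgroup G} (hA : Cfsg.IsSCN P A) : ∀ a ∈ A, ∀ b ∈ A, a * b = b * a := by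
  intro a ha b hb
  have h1 : a ∈ P ⊓ Subgroup.centralizer (A : Set G) := by rw [hA.2.2]; exact ha
  exact ((Subgroup.mem_centralizer_iff.mp h1.2) b hb).symm

/-- **B & G, Theorem 9.1(b)**, for an arbitrary nontrivial `p`-subgroup `B`. -/
theorem uniq_of_inv_pgroup [Finite G] (hG : Cfsg.IsMinSimpleOddOrder G) {M : Subgroup G}
    (hM : IsCoatom M) {p : ℕ} [Fact p.Prime] {B : Subgroup G} (hBM : B ≤ M)
    (hBp : IsPGroup p B) (hBne : B ≠ ⊥)
    (hb : ∀ Y : Subgroup G, (Nat.card Y).Coprime p → B ≤ Subgroup.normalizer (Y : Set G) → Y ≤ M) :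
    ∀ H : Subgroup G, IsCoatom H → B ≤ H → H = M := by
  have hsimple : IsSimpleGroup G := hG.2.1
  have hnc := hG.2.2.1
  have hsolv := hG.2.2.2
  have hpp : p.Prime := Fact.out
  have hoddH : ∀ H : Subgroup G, Odd (Nat.card H) :=
    fun H => Odd.of_dvd_nat hG.1 (Subgroup.card_subgroup_dvd_card H)
  obtain ⟨kB, hkB⟩ := IsPGroup.iff_card.mp hBp
  have hpB : p ∣ Nat.card B := by
    rcases Nat.eq_zero_or_pos kB with h | h
    · exfalso
      apply hBne
      rw [← Subgroup.card_eq_one, hkB, h, pow_zero]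
    · rw [hkB]; exact dvd_pow_self p h.ne'
  have hpodd : p ≠ 2 := by
    rintro rfl
    have h2 : 2 ∣ Nat.card G := hpB.trans (Subgroup.card_subgroup_dvd_card B)
    exact (Nat.not_even_iff_odd.mpr hG.1) (even_iff_two_dvd.mpr h2)
  by_contra hcon
  push Not at hcon
  obtain ⟨H₀, hH₀co, hBH₀, hH₀M⟩ := hcon
  classical
  let f : Subgroup G → ℕ := fun H => (Nat.card ↥(H ⊓ M)).factorization p
  let 𝒮 : Set (Subgroup G) := {H | IsCoatom H ∧ B ≤ H ∧ H ≠ M}
  obtain ⟨H, hH𝒮, hHmax⟩ := Set.exists_max_image 𝒮 f (Set.toFinite 𝒮) ⟨H₀, hH₀co, hBH₀, hH₀M⟩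
  obtain ⟨hHco, hBH, hHM⟩ := hH𝒮
  -- Sylow subgroups `R ≤ P`
  obtain ⟨R, hR, hBR⟩ := exists_isSylIn_ge (le_inf hBH hBM) hBp
  have hRM : R ≤ M := hR.1.trans inf_le_right
  have hRH : R ≤ H := hR.1.trans inf_le_left
  obtain ⟨P, hP, hRP⟩ := exists_isSylIn_ge hRM hR.isPGroup
  have hPp : IsPGroup p P := hP.isPGroup
  have hBP : B ≤ P := hBR.trans hRP
  have hRne : R ≠ ⊥ := fun h => hBne (le_bot_iff.mp (h ▸ hBR))
  have hPne : P ≠ ⊥ := fun h => hBne (le_bot_iff.mp (h ▸ hBP))
  have hRtop : R ≠ ⊤ := fun h => hM.1 (top_le_iff.mp (h ▸ hRM))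
  have hMsol : Group.IsSolvable ↥M := hsolv M hM.1
  have hHsol : Group.IsSolvable ↥H := hsolv H hHco.1
  -- maximality
  have hstar : ∀ D : Subgroup G, IsCoatom D → B ≤ D → ∀ R' : Subgroup G, IsPGroup p R' →
      R' ≤ D → R' ≤ M → Nat.card R < Nat.card R' → D = M := by
    intro D hD hBD R' hR'p hR'D hR'M hlt
    by_contra hne
    have h1 : f D ≤ f H := hHmax D ⟨hD, hBD, hne⟩
    have h2 : Nat.card R' ∣ p ^ f D :=
      Cfsg.Agent.Lib.Helper8.card_dvd_of_isPGroup_le hR'p (le_inf hR'D hR'M)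
    have h3 : Nat.card R = p ^ f H := hR.2
    have h4 := Nat.le_of_dvd (pow_pos hpp.pos _) h2
    have h5 := Nat.pow_le_pow_right hpp.pos h1
    omega
  -- `T = O_{p'}(M)`
  set T := coreQ p M with hTdef
  have hTM : T ≤ M := coreQ_le p M
  have hTcop : (Nat.card T).Coprime p := coreQ_coprime p M
  have hMT : M ≤ Subgroup.normalizer (T : Set G) :=
    Subgroup.le_normalizer.trans (normalizer_le_normalizer_coreQ p M)
  have hC1 : ∀ Y : Subgroup G, (Nat.card Y).Coprime p →
      P ≤ Subgroup.normalizer (Y : Set G) → Y ≤ T := fun Y hY hPY =>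
    le_coreQ_of_isSylIn hMsol hP (hb Y hY (hBP.trans hPY)) hY hPY
  have hzlP : zl P ≠ ⊥ := zl_ne_bot hPp hPne
  -- `N_G(P) ≤ M`
  have hNP : Subgroup.normalizer (P : Set G) ≤ M := by
    by_cases hT1 : T = ⊥
    · have h1 := (puig_factor_in hpodd hMsol (hoddH M) hP).2 hT1
      have h2 := normalizer_eq_of_coatom hM ((zl_le P).trans hP.1) hzlP h1
      rw [← h2]
      exact normalizer_le_normalizer_zl P
    · have h2 := normalizer_eq_of_coatom hM hTM hT1 hMT
      rw [← h2]
      intro x hx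
      rw [mem_normalizer_iff_map_conj]
      apply map_conj_eq_of_le
      apply hC1
      · rw [card_map_conj]; exact hTcop
      · exact le_normalizer_map_conj_of_mem_normalizer hx (hP.1.trans hMT)
  -- `N_G(R) ≤ M`
  have hNR : Subgroup.normalizer (R : Set G) ≤ M := by
    rcases eq_or_lt_of_le hRP with h | h
    · rw [h]; exact hNP
    · obtain ⟨D, hD, hND⟩ := exists_coatom_ge (normalizer_ne_top hRne hRtop)
      have h1 := lt_inf_normalizer hPp h
      have hDM : D = M := hstar D hD (hBR.trans (Subgroup.le_normalizer.trans hND))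
        (P ⊓ Subgroup.normalizer (R : Set G)) (hPp.to_le inf_le_left) (inf_le_right.trans hND)
        (inf_le_left.trans hP.1) (card_lt_of_lt h1)
      rw [← hDM]; exact hND
  have hRsylH : Cfsg.Agent.Lib.Helper8.IsSylIn p R H :=
    isSylIn_of_inf_normalizer_le hR inf_le_left (le_inf inf_le_left (inf_le_right.trans hNR))
  have hcoreH : coreQ p H ≤ M :=
    hb _ (coreQ_coprime p H)
      (hBH.trans (Subgroup.le_normalizer.trans (normalizer_le_normalizer_coreQ p H)))
  rcases eq_or_lt_of_le hRP with hRPeq | hRPlt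
  · -- `R = P`
    subst hRPeq
    have hTH : coreQ p H ≤ T :=
      hC1 _ (coreQ_coprime p H)
        (hRH.trans (Subgroup.le_normalizer.trans (normalizer_le_normalizer_coreQ p H)))
    by_cases hT1 : T = ⊥
    · have hcoreHbot : coreQ p H = ⊥ := le_bot_iff.mp (hT1 ▸ hTH)
      have h1 := (puig_factor_in hpodd hMsol (hoddH M) hP).2 hT1
      have h2 := (puig_factor_in hpodd hHsol (hoddH H) hRsylH).2 hcoreHbot
      have e1 := normalizer_eq_of_coatom hM ((zl_le _).trans hP.1) hzlP h1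
      have e2 := normalizer_eq_of_coatom hHco ((zl_le _).trans hRH) hzlP h2
      exact hHM (e2.symm.trans e1)
    · have hNT := normalizer_eq_of_coatom hM hTM hT1 hMT
      have hPG : Cfsg.Agent.Lib.Helper8.IsSylIn p R ⊤ := isSylIn_of_inf_normalizer_le hP le_top (inf_le_right.trans hNP)
      obtain ⟨Q, hQP, hPQ, hQab, hQfac, hQrk⟩ := exists_frattini_core_in hHsol (hoddH H) hRsylH
      have hkey : ∀ n ∈ H, n ∈ Subgroup.normalizer (Q : Set G) → n ∈ M := by
        by_cases hrk : ∀ E : Subgroup G, E ≤ R → (∀ a ∈ E, ∀ b ∈ E, a * b = b * a) →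
            (∀ a ∈ E, a ^ p = 1) → Nat.card E ≤ p ^ 2
        · intro n _ hn
          rw [hQrk hrk] at hn
          exact hNP hn
        · push Not at hrk
          obtain ⟨E₀, hE₀P, hE₀c, hE₀e, hE₀card⟩ := hrk
          obtain ⟨A, hAscn, hA3⟩ := exists_scn_three hpodd hPp hE₀P hE₀c hE₀e hE₀card
          have hcardP : Nat.card R = p ^ (Nat.card G).factorization p := by
            rw [hPG.2, Subgroup.card_top]
          have hinv := le_of_scn_invariant hG (Sylow.ofCard R hcardP) (A := A)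
            (by rw [Sylow.coe_ofCard]; exact hAscn) hA3 (T := T)
            (by rw [Sylow.coe_ofCard]; exact hC1)
          have hAQ : A ≤ Q := hQab A hAscn.1 (scn_comm hAscn) hAscn.2.1
          intro n _ hn
          have hninv : n⁻¹ ∈ Subgroup.normalizer (T : Set G) := by
            rw [mem_normalizer_iff_map_conj]
            apply map_conj_eq_of_le
            apply hinv
            · rw [card_map_conj]; exact hTcop
            · intro a ha
              rw [mem_normalizer_map_conj_iff, inv_inv]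
              have h1 : n * a * n⁻¹ ∈ Q :=
                ((Subgroup.mem_normalizer_iff.mp hn) a).mp (hAQ ha)
              exact (hP.1.trans hMT) (hQP h1)
          have := inv_mem hninv
          rw [inv_inv, hNT] at this
          exact this
      apply hHM
      apply coatom_eq_of_le hHco hM
      intro h hh
      obtain ⟨k, hk, n, hnH, hnN, rfl⟩ := hQfac h hh
      exact M.mul_mem (hcoreH hk) (hkey n hnH hnN)
  · -- `R < P`
    have hzlR : zl R ≠ ⊥ := zl_ne_bot hR.isPGroup hRne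
    have hzlRtop : zl R ≠ ⊤ := fun h => hRtop (top_le_iff.mp (h ▸ zl_le R))
    obtain ⟨D, hD, hND⟩ := exists_coatom_ge (normalizer_ne_top hzlR hzlRtop)
    have hNRD : Subgroup.normalizer (R : Set G) ≤ D := (normalizer_le_normalizer_zl R).trans hND
    have h1 := lt_inf_normalizer hPp hRPlt
    have hDM : D = M := hstar D hD (hBR.trans (Subgroup.le_normalizer.trans hNRD))
      (P ⊓ Subgroup.normalizer (R : Set G)) (hPp.to_le inf_le_left) (inf_le_right.trans hNRD)
      (inf_le_left.trans hP.1) (card_lt_of_lt h1)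
    have hfac := (puig_factor_in hpodd hHsol (hoddH H) hRsylH).1
    apply hHM
    apply coatom_eq_of_le hHco hM
    intro h hh
    obtain ⟨k, hk, n, hnH, hnN, rfl⟩ := hfac h hh
    exact M.mul_mem (hcoreH hk) (hDM ▸ hND hnN)

/-- **B & G, Theorem 9.1(b)**. -/
theorem uniq_of_inv [Finite G] (hG : Cfsg.IsMinSimpleOddOrder G) {M : Subgroup G}
    (hM : IsCoatom M) {p : ℕ} [Fact p.Prime] {B : Subgroup G} (hBM : B ≤ M)
    (hBe : Cfsg.IsElementaryAbelian p B) (hBnc : ¬ IsCyclic B)
    (hb : ∀ Y : Subgroup G, (Nat.card Y).Coprime p → B ≤ Subgroup.normalizer (Y : Set G) → Y ≤ M) :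
    ∀ H : Subgroup G, IsCoatom H → B ≤ H → H = M := by
  have hBp : IsPGroup p B := by
    intro b
    refine ⟨1, ?_⟩
    rw [pow_one]
    exact Subtype.ext (by simpa using hBe.2 b.1 b.2)
  have hBne : B ≠ ⊥ := by
    intro h
    apply hBnc
    rw [h]
    infer_instance
  exact uniq_of_inv_pgroup hG hM hBM hBp hBne hb

theorem sq_le_card_of_not_isCyclic [Finite G] {p : ℕ} [Fact p.Prime] {B : Subgroup G}
    (hBp : IsPGroup p B) (hBnc : ¬ IsCyclic B) : p ^ 2 ≤ Nat.card B := by
  have hpp : p.Prime := Fact.out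
  obtain ⟨k, hk⟩ := IsPGroup.iff_card.mp hBp
  rw [hk]
  apply Nat.pow_le_pow_right hpp.pos
  by_contra hlt
  push Not at hlt
  apply hBnc
  interval_cases k
  · have : Subsingleton ↥B := by
      rw [← Finite.card_le_one_iff_subsingleton, hk, pow_zero]
    infer_instance
  · rw [pow_one] at hk
    exact isCyclic_of_prime_card hk

/-- **B & G, Theorem 9.1**, both forms of the hypothesis. -/
theorem uniq_of_cent_or_inv [Finite G] (hG : Cfsg.IsMinSimpleOddOrder G) {M : Subgroup G}
    (hM : IsCoatom M) {p : ℕ} [Fact p.Prime] {B : Subgroup G} (hBM : B ≤ M)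
    (hBe : Cfsg.IsElementaryAbelian p B) (hBnc : ¬ IsCyclic B)
    (h : (∀ b ∈ B, b ≠ 1 → Subgroup.centralizer ({b} : Set G) ≤ M) ∨
      ∀ Y ∈ Cfsg.invSubgroups ⊤ B (Cfsg.primesNotDvd p), Y ≤ M) :
    ∀ H : Subgroup G, IsCoatom H → B ≤ H → H = M := by
  have hpp : p.Prime := Fact.out
  have hBp : IsPGroup p B := by
    intro b
    refine ⟨1, ?_⟩
    rw [pow_one]
    exact Subtype.ext (by simpa using hBe.2 b.1 b.2)
  apply uniq_of_inv hG hM hBM hBe hBnc
  intro Y hY hBY
  rcases h with h | h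
  · have h2 := sq_le_card_of_not_isCyclic hBp hBnc
    obtain ⟨k, hk⟩ := IsPGroup.iff_card.mp hBp
    have hcop : (Nat.card B).Coprime (Nat.card Y) := by
      rw [hk]; exact Nat.Coprime.pow_left k hY.symm
    exact Cfsg.Agent.Lib.Helper8.le_of_forall_inf_centralizer_le hBe h2 hBY hcop
      (fun a ha ha1 => inf_le_right.trans (h a ha ha1))
  · apply h
    refine ⟨le_top, fun q hq hdvd => ⟨hq, fun hqp => ?_⟩, hBY⟩
    have h1 : q ∣ Nat.gcd (Nat.card Y) p := Nat.dvd_gcd hdvd hqp
    rw [hY.gcd_eq_one] at h1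
    exact hq.one_lt.ne' (Nat.dvd_one.mp h1)

end Cfsg.Agent.Lib.Helper17.BGU
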