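/-
Helper lemmas (helper17): Bender–Glauberman Corollary 9.2: if `L` lies in a unique maximal subgroup
and `K ≤ C_G(L)` has rank at least two then `K` lies in a unique maximal subgroup.
-/
import Mathlib
import Cfsg.Agent.Lib.Helper17.BGUniqE
import Cfsg.Agent.Lib.Helper17.BGTrans2

set_option autoImplicit false
open scoped Pointwise

namespace Cfsg.Agent.Lib.Helper17.BGU

universe u
variable {G : Type u} [Group G]

/-- The bottom subgroup of a non-abelian finite simple group lies in several maximal subgroups. -/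
theorem not_inUniqueMaximal_bot [Finite G] (hnc : ¬ IsMulCommutative G) :
    ¬ Cfsg.InUniqueMaximal (⊥ : Subgroup G) := by
  rintro ⟨M, ⟨hM, -⟩, hMuniq⟩
  obtain ⟨g, -, hgM⟩ := SetLike.exists_of_lt (lt_top_iff_ne_top.mpr hM.1)
  have hz : Subgroup.zpowers g ≠ ⊤ := by
    intro h
    apply hnc
    refine ⟨⟨fun a b => ?_⟩⟩
    obtain ⟨i, rfl⟩ := Subgroup.mem_zpowers_iff.mp (h ▸ Subgroup.mem_top a)
    obtain ⟨j, rfl⟩ := Subgroup.mem_zpowers_iff.mp (h ▸ Subgroup.mem_top b)
    rw [← zpow_add, ← zpow_add, add_comm]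
  obtain ⟨D, hD, hgD⟩ := exists_coatom_ge hz
  have hDM : D = M := hMuniq D ⟨hD, bot_le⟩
  exact hgM (hDM ▸ hgD (Subgroup.mem_zpowers g))

/-- In terms of a unique maximal subgroup `M`: `X ≤ M` and every maximal subgroup containing `X` is
`M`. -/
theorem inUniqueMaximal_of {X M : Subgroup G} (hM : IsCoatom M) (hXM : X ≤ M)
    (h : ∀ H : Subgroup G, IsCoatom H → X ≤ H → H = M) : Cfsg.InUniqueMaximal X :=
  ⟨M, ⟨hM, hXM⟩, fun H hH => h H hH.1 hH.2⟩

/-- A noncyclic elementary abelian `p`-subgroup extracted from `¬ RankLE 1 K`. -/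
theorem exists_elemAb_of_not_rankLE_one [Finite G] {K : Subgroup G} (hKr : ¬ Cfsg.RankLE 1 K) :
    ∃ (p : ℕ) (_ : Fact p.Prime) (B : Subgroup G), B ≤ K ∧ Cfsg.IsElementaryAbelian p B ∧
      ¬ IsCyclic B := by
  unfold Cfsg.RankLE at hKr
  push Not at hKr
  obtain ⟨p, hpp, hKp⟩ := hKr
  unfold Cfsg.PRankLE at hKp
  push Not at hKp
  obtain ⟨E, hEc, hEe, hEcard⟩ := hKp
  have : Fact p.Prime := ⟨hpp⟩
  have hBe : Cfsg.IsElementaryAbelian p (E.map K.subtype) := by
    constructor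
    · refine ⟨⟨?_⟩⟩
      rintro ⟨_, ⟨a, ha, rfl⟩⟩ ⟨_, ⟨b, hb, rfl⟩⟩
      apply Subtype.ext
      have := hEc.is_comm.comm (⟨a, ha⟩ : E) ⟨b, hb⟩
      have h2 : a * b = b * a := congrArg Subtype.val this
      show ((a : ↥K) : G) * ((b : ↥K) : G) = ((b : ↥K) : G) * ((a : ↥K) : G)
      exact congrArg Subtype.val h2
    · rintro _ ⟨a, ha, rfl⟩
      have := hEe a ha
      have h3 : ((a : ↥K) : G) ^ p = 1 := by
        have := congrArg Subtype.val this
        simpa using this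
      exact h3
  have hBp : IsPGroup p ↥(E.map K.subtype) := by
    intro b
    refine ⟨1, ?_⟩
    rw [pow_one]
    exact Subtype.ext (by simpa using hBe.2 b.1 b.2)
  have hcard : Nat.card (E.map K.subtype) = Nat.card E :=
    Subgroup.card_map_of_injective K.subtype_injective
  refine ⟨p, ⟨hpp⟩, E.map K.subtype, Subgroup.map_subtype_le _, hBe, ?_⟩
  apply Cfsg.Agent.Lib.Helper8.not_isCyclic_of_elemAb hpp hBe
  obtain ⟨k, hk⟩ := IsPGroup.iff_card.mp hBp
  rw [hk]
  apply Nat.pow_le_pow_right hpp.pos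
  by_contra hlt
  push Not at hlt
  rw [pow_one, ← hcard, hk] at hEcard
  have : p ^ k ≤ p ^ 1 := Nat.pow_le_pow_right hpp.pos (by omega)
  rw [pow_one] at this
  omega

/-- **B & G, Corollary 9.2**. -/
theorem uniq_of_le_centralizer [Finite G] (hG : Cfsg.IsMinSimpleOddOrder G) {L K : Subgroup G}
    (hL : Cfsg.InUniqueMaximal L) (hK : K ≤ Subgroup.centralizer (L : Set G))
    (hKr : ¬ Cfsg.RankLE 1 K) : Cfsg.InUniqueMaximal K := by
  have hsimple : IsSimpleGroup G := hG.2.1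
  have hnc := hG.2.2.1
  have hLne : L ≠ ⊥ := fun h => not_inUniqueMaximal_bot hnc (h ▸ hL)
  obtain ⟨M, ⟨hM, hLM⟩, hMuniq⟩ := hL
  obtain ⟨p, hpF, B, hBK, hBe, hBnc⟩ := exists_elemAb_of_not_rankLE_one hKr
  have hBne : B ≠ ⊥ := by
    intro h
    apply hBnc
    rw [h]
    infer_instance
  -- centralizers of nonidentity elements of `B` lie in `M`
  have hcent : ∀ b ∈ B, b ≠ 1 → Subgroup.centralizer ({b} : Set G) ≤ M := by
    intro b hb hb1
    obtain ⟨D, hD, hCD⟩ := exists_coatom_ge (centralizer_singleton_ne_top hb1 hnc)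
    have hLD : L ≤ D := by
      intro l hl
      apply hCD
      rw [Subgroup.mem_centralizer_iff]
      intro x hx
      rw [Set.mem_singleton_iff] at hx
      subst hx
      exact ((Subgroup.mem_centralizer_iff.mp (hK (hBK hb))) l hl).symm
    rw [← hMuniq D ⟨hD, hLD⟩]
    exact hCD
  obtain ⟨⟨b, hb⟩, hb1'⟩ := (Subgroup.ne_bot_iff_exists_ne_one).mp hBne
  have hb1 : b ≠ 1 := fun h => hb1' (Subtype.ext h)
  have hBM : B ≤ M := by
    refine le_trans ?_ (hcent b hb hb1)
    intro a ha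
    rw [Subgroup.mem_centralizer_iff]
    intro x hx
    rw [Set.mem_singleton_iff] at hx
    subst hx
    have := hBe.1.is_comm.comm (⟨x, hb⟩ : B) ⟨a, ha⟩
    exact congrArg Subtype.val this
  have huniq := uniq_of_cent_or_inv hG hM hBM hBe hBnc (Or.inl hcent)
  -- `K` is proper
  obtain ⟨⟨l, hl⟩, hl1'⟩ := (Subgroup.ne_bot_iff_exists_ne_one).mp hLne
  have hl1 : l ≠ 1 := fun h => hl1' (Subtype.ext h)
  have hKtop : K ≠ ⊤ := by
    intro h
    apply centralizer_singleton_ne_top hl1 hnc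
    rw [eq_top_iff, ← h]
    refine hK.trans (Subgroup.centralizer_le ?_)
    intro x hx
    rw [Set.mem_singleton_iff] at hx
    subst hx
    exact hl
  obtain ⟨D, hD, hKD⟩ := exists_coatom_ge hKtop
  have hDM : D = M := huniq D hD (hBK.trans hKD)
  exact inUniqueMaximal_of hM (hDM ▸ hKD) (fun H hH hKH => huniq H hH (hBK.trans hKH))

end Cfsg.Agent.Lib.Helper17.BGU
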