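/-
Helper lemmas (helper17): Bender–Glauberman Corollary 9.3: if some abelian `p`-subgroup of rank at
least three lies in a unique maximal subgroup, then so does every noncyclic `p`-subgroup whose
centralizer has `p`-rank at least three.
-/
import Mathlib
import Cfsg.Agent.Lib.Helper17.BGUniqF
import Cfsg.Agent.Lib.Helper1.MaxNormalAbelian
import Cfsg.Agent.Lib.Helper20.NormalRankTwoB

set_option autoImplicit false
open scoped Pointwise

namespace Cfsg.Agent.Lib.Helper17.BGU

open Cfsg.Agent.Lib.Helper8 (mem_map_conj conj_mem_map_conj map_conj_map_conj map_conj_one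
  map_conj_le_iff map_conj_eq_iff card_map_conj mem_normalizer_iff_map_conj)

universe u
variable {G : Type u} [Group G]

theorem isCoatom_map_conj {M : Subgroup G} (g : G) (hM : IsCoatom M) :
    IsCoatom (M.map (MulAut.conj g).toMonoidHom) := by
  have := (OrderIso.isCoatom_iff (MulEquiv.mapSubgroup (MulAut.conj g)) M).mpr hM
  exact this

/-- Conjugates of uniqueness subgroups are uniqueness subgroups. -/
theorem inUniqueMaximal_map_conj {A : Subgroup G} (g : G) (h : Cfsg.InUniqueMaximal A) :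
    Cfsg.InUniqueMaximal (A.map (MulAut.conj g).toMonoidHom) := by
  obtain ⟨M, ⟨hM, hAM⟩, hMuniq⟩ := h
  refine ⟨M.map (MulAut.conj g).toMonoidHom, ⟨isCoatom_map_conj g hM, Subgroup.map_mono hAM⟩, ?_⟩
  rintro H ⟨hH, hAH⟩
  have h1 := hMuniq (H.map (MulAut.conj g⁻¹).toMonoidHom)
    ⟨isCoatom_map_conj g⁻¹ hH, map_conj_le_iff.mp hAH⟩
  rw [← h1, map_conj_map_conj, mul_inv_cancel, map_conj_one]

/-- `G`-level extraction from `¬ PRankLE p n ↥K`. -/
theorem exists_elemAb_of_not_pRankLE {p n : ℕ} {K : Subgroup G} (h : ¬ Cfsg.PRankLE p n ↥K) :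
    ∃ E : Subgroup G, E ≤ K ∧ (∀ a ∈ E, ∀ b ∈ E, a * b = b * a) ∧ (∀ a ∈ E, a ^ p = 1) ∧
      p ^ n < Nat.card E := by
  unfold Cfsg.PRankLE at h
  push Not at h
  obtain ⟨E, hEc, hEe, hEcard⟩ := h
  refine ⟨E.map K.subtype, Subgroup.map_subtype_le _, ?_, ?_, ?_⟩
  · rintro _ ⟨a, ha, rfl⟩ _ ⟨b, hb, rfl⟩
    have := hEc.is_comm.comm (⟨a, ha⟩ : E) ⟨b, hb⟩
    have h2 : a * b = b * a := congrArg Subtype.val this
    exact congrArg Subtype.val h2
  · rintro _ ⟨a, ha, rfl⟩
    have := congrArg Subtype.val (hEe a ha)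
    simpa using this
  · rw [Subgroup.card_map_of_injective K.subtype_injective]; exact hEcard

theorem not_pRankLE_of_elemAb {p n : ℕ} {K E : Subgroup G} (hEK : E ≤ K)
    (hEc : ∀ a ∈ E, ∀ b ∈ E, a * b = b * a) (hEe : ∀ a ∈ E, a ^ p = 1)
    (hcard : p ^ n < Nat.card E) : ¬ Cfsg.PRankLE p n ↥K := by
  intro hr
  have h1 := hr (E.subgroupOf K) (isMulCommutative_subgroupOf hEc) (by
    intro a ha
    rw [Subgroup.mem_subgroupOf] at ha
    apply Subtype.ext
    simpa using hEe _ ha)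
  rw [Cfsg.Agent.Lib.Helper1.card_subgroupOf_of_le hEK] at h1
  omega

theorem not_rankLE_one_of_elemAb {p : ℕ} (hp : p.Prime) {K E : Subgroup G} (hEK : E ≤ K)
    (hEc : ∀ a ∈ E, ∀ b ∈ E, a * b = b * a) (hEe : ∀ a ∈ E, a ^ p = 1)
    (hcard : p < Nat.card E) : ¬ Cfsg.RankLE 1 K := by
  intro hr
  exact not_pRankLE_of_elemAb hEK hEc hEe (by rw [pow_one]; exact hcard) (hr p hp)

/-- A noncyclic `p`-subgroup (`p` odd) has a normal elementary abelian subgroup of order `p ^ 2`. -/
theorem exists_normal_elemAb_sq_in [Finite G] {p : ℕ} [Fact p.Prime] (hp : p ≠ 2) {P : Subgroup G}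
    (hP : IsPGroup p P) (hnc : ¬ IsCyclic ↥P) :
    ∃ E : Subgroup G, E ≤ P ∧ P ≤ Subgroup.normalizer (E : Set G) ∧
      (∀ a ∈ E, ∀ b ∈ E, a * b = b * a) ∧ (∀ a ∈ E, a ^ p = 1) ∧ Nat.card E = p ^ 2 := by
  obtain ⟨E, hEn, hEc, hEe, hE2⟩ :=
    Cfsg.Agent.Lib.Helper20.exists_normal_elemAb_of_not_isCyclic hp hP hnc
  refine ⟨E.map P.subtype, Subgroup.map_subtype_le _, ?_, ?_, ?_, ?_⟩
  · intro s hs
    have h1 : (⟨s, hs⟩ : ↥P) ∈ Subgroup.normalizer (E : Set ↥P) := by
      rw [Subgroup.normalizer_eq_top_iff.mpr hEn]; exact Subgroup.mem_top _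
    exact Subgroup.le_normalizer_map P.subtype (Subgroup.mem_map_of_mem P.subtype h1)
  · rintro _ ⟨a, ha, rfl⟩ _ ⟨b, hb, rfl⟩
    have := hEc.is_comm.comm (⟨a, ha⟩ : E) ⟨b, hb⟩
    have h2 : a * b = b * a := congrArg Subtype.val this
    exact congrArg Subtype.val h2
  · rintro _ ⟨a, ha, rfl⟩
    have := congrArg Subtype.val (hEe a ha)
    simpa using this
  · rw [Subgroup.card_map_of_injective P.subtype_injective]; exact hE2

/-- If `E` is a normal abelian subgroup of order `p ^ 2` of the `p`-group `P` and `Y ≤ P`, then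
`C_Y(E)` has index at most `p` in `Y`. -/
theorem card_le_mul_card_inf_centralizer [Finite G] {p : ℕ} [Fact p.Prime] {P E Y : Subgroup G}
    (hP : IsPGroup p P) (hEP : E ≤ P) (hEn : P ≤ Subgroup.normalizer (E : Set G))
    (hEc : ∀ a ∈ E, ∀ b ∈ E, a * b = b * a) (hEcard : Nat.card E = p ^ 2) (hYP : Y ≤ P) :
    Nat.card Y ≤ Nat.card ↥(Y ⊓ Subgroup.centralizer (E : Set G)) * p := by
  have hE'n : (E.subgroupOf P).Normal := by
    constructor
    intro n hn g
    rw [Subgroup.mem_subgroupOf] at hn ⊢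
    have := (Subgroup.mem_normalizer_iff.mp (hEn g.2) (n : G)).mp hn
    simpa using this
  have hE'c : IsMulCommutative (E.subgroupOf P) := isMulCommutative_subgroupOf hEc
  have hE'card : Nat.card (E.subgroupOf P) = p ^ 2 := by
    rw [Cfsg.Agent.Lib.Helper1.card_subgroupOf_of_le hEP]; exact hEcard
  have h1 := Cfsg.Agent.Lib.Helper1.card_le_card_centralizer_mul hP (E.subgroupOf P) hE'c 2
    (E.subgroupOf P) hE'n le_rfl hE'card
  have hch : Nat.choose 2 2 = 1 := rfl
  rw [hch, pow_one] at h1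
  set C' := Subgroup.centralizer ((E.subgroupOf P : Subgroup ↥P) : Set ↥P) with hC'
  have hidx : C'.index ≤ p := by
    have h2 := C'.card_mul_index
    rw [← h2] at h1
    exact Nat.le_of_mul_le_mul_left h1 Nat.card_pos
  have h3 : C'.relIndex (Y.subgroupOf P) ≤ C'.index := by
    rw [← Subgroup.relIndex_top_right]
    apply Subgroup.relIndex_le_of_le_right le_top
    rw [Subgroup.relIndex_top_right]
    exact Subgroup.index_ne_zero_of_finite
  have h4 : Nat.card (Y.subgroupOf P) =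
      Nat.card ↥(C' ⊓ Y.subgroupOf P) * (C' ⊓ Y.subgroupOf P).relIndex (Y.subgroupOf P) := by
    rw [Subgroup.relIndex, ← (( C' ⊓ Y.subgroupOf P).subgroupOf (Y.subgroupOf P)).card_mul_index,
      Cfsg.Agent.Lib.Helper1.card_subgroupOf_of_le inf_le_right]
  rw [Subgroup.inf_relIndex_right, Cfsg.Agent.Lib.Helper1.card_subgroupOf_of_le hYP] at h4
  have h5 : (C' ⊓ Y.subgroupOf P).map P.subtype = Y ⊓ Subgroup.centralizer (E : Set G) := by
    ext x
    constructor
    · rintro ⟨y, ⟨hyC, hyY⟩, rfl⟩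
      refine ⟨hyY, ?_⟩
      show (y : G) ∈ Subgroup.centralizer (E : Set G)
      rw [Subgroup.mem_centralizer_iff]
      intro e he
      have := (Subgroup.mem_centralizer_iff.mp hyC) ⟨e, hEP he⟩ (by
        show (⟨e, hEP he⟩ : ↥P) ∈ E.subgroupOf P
        rw [Subgroup.mem_subgroupOf]; exact he)
      exact congrArg Subtype.val this
    · rintro ⟨hxY, hxC⟩
      refine ⟨⟨x, hYP hxY⟩, ⟨?_, ?_⟩, rfl⟩
      · show (⟨x, hYP hxY⟩ : ↥P) ∈ Subgroup.centralizer ((E.subgroupOf P : Subgroup ↥P) : Set ↥P)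
        rw [Subgroup.mem_centralizer_iff]
        intro e he
        apply Subtype.ext
        exact (Subgroup.mem_centralizer_iff.mp hxC) (e : G) (Subgroup.mem_subgroupOf.mp he)
      · show (⟨x, hYP hxY⟩ : ↥P) ∈ Y.subgroupOf P
        rw [Subgroup.mem_subgroupOf]; exact hxY
  have h6 : Nat.card ↥(Y ⊓ Subgroup.centralizer (E : Set G)) = Nat.card ↥(C' ⊓ Y.subgroupOf P) := by
    rw [← h5, Subgroup.card_map_of_injective P.subtype_injective]
  rw [h6, h4]
  exact Nat.mul_le_mul_left _ (h3.trans hidx)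

/-- **B & G, Corollary 9.3**. -/
theorem uniq_of_rank_three [Finite G] (hG : Cfsg.IsMinSimpleOddOrder G) {p : ℕ} [Fact p.Prime]
    {A B : Subgroup G} (hAp : IsPGroup p A) (hAc : IsMulCommutative A)
    (hA3 : ¬ Cfsg.PRankLE p 2 ↥A) (hAU : Cfsg.InUniqueMaximal A) (hBp : IsPGroup p B)
    (hBnc : ¬ IsCyclic B)
    (hB3 : ¬ Cfsg.PRankLE p 2 ↥(Subgroup.centralizer (B : Set G))) :
    Cfsg.InUniqueMaximal B := by
  have hpp : p.Prime := Fact.out
  obtain ⟨EA, hEAA, hEAc, hEAe, hEAcard⟩ := exists_elemAb_of_not_pRankLE hA3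
  obtain ⟨X, hXB, hXc, hXe, hXcard⟩ := exists_elemAb_of_not_pRankLE hB3
  have hp2 : 1 < p ^ 2 := Nat.one_lt_pow (by norm_num) hpp.one_lt
  have hppow : p < p ^ 2 := by
    calc p = p ^ 1 := (pow_one p).symm
      _ < p ^ 2 := Nat.pow_lt_pow_right hpp.one_lt (by norm_num)
  -- `p` is odd
  have hpodd : p ≠ 2 := by
    rintro rfl
    have hAne : A ≠ ⊥ := by
      intro h
      have h1 : Nat.card EA ≤ Nat.card A := Subgroup.card_le_of_le hEAA
      rw [h, Subgroup.card_bot] at h1
      omega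
    obtain ⟨k, hk⟩ := IsPGroup.iff_card.mp hAp
    have hk0 : k ≠ 0 := by
      rintro rfl
      rw [pow_zero] at hk
      exact hAne (Subgroup.card_eq_one.mp hk)
    have h2 : 2 ∣ Nat.card G :=
      (hk ▸ dvd_pow_self 2 hk0 : 2 ∣ Nat.card A).trans (Subgroup.card_subgroup_dvd_card A)
    exact (Nat.not_even_iff_odd.mpr hG.1) (even_iff_two_dvd.mpr h2)
  have hXp : IsPGroup p X := by
    intro x
    refine ⟨1, ?_⟩
    rw [pow_one]
    exact Subtype.ext (by simpa using hXe x.1 x.2)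
  -- `B ⊔ X` is a `p`-group
  have hBcX : ∀ b ∈ B, ∀ x ∈ X, x * b = b * x := fun b hb x hx =>
    ((Subgroup.mem_centralizer_iff.mp (hXB hx)) b hb).symm
  have hBX : IsPGroup p ↥(B ⊔ X) := by
    apply IsPGroup.to_sup_of_normal_right' hBp hXp
    intro b hb
    apply Subgroup.centralizer_le_normalizer
    rw [Subgroup.mem_centralizer_iff]
    intro x hx
    exact hBcX b hb x hx
  obtain ⟨P, hBXP⟩ := hBX.exists_le_sylow
  have hBP : B ≤ (P : Subgroup G) := le_sup_left.trans hBXP
  have hXP : X ≤ (P : Subgroup G) := le_sup_right.trans hBXP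
  obtain ⟨PA, hAPA⟩ := hAp.exists_le_sylow
  obtain ⟨g, hg⟩ := MulAction.exists_smul_eq G PA P
  have hgP : ((PA : Subgroup G).map (MulAut.conj g).toMonoidHom) = (P : Subgroup G) := by
    rw [← Cfsg.Agent.Lib.Helper8.sylow_smul_coe, hg]
  -- the conjugates of `A` and `EA` inside `P`
  set A' := A.map (MulAut.conj g).toMonoidHom with hA'def
  set EA' := EA.map (MulAut.conj g).toMonoidHom with hEA'def
  have hA'P : A' ≤ (P : Subgroup G) := by
    rw [← hgP]; exact Subgroup.map_mono hAPA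
  have hA'U : Cfsg.InUniqueMaximal A' := inUniqueMaximal_map_conj g hAU
  have hEA'A' : EA' ≤ A' := Subgroup.map_mono hEAA
  have hA'c : ∀ a ∈ A', ∀ b ∈ A', a * b = b * a := by
    rintro _ ⟨a, ha, rfl⟩ _ ⟨b, hb, rfl⟩
    have := hAc.is_comm.comm (⟨a, ha⟩ : A) ⟨b, hb⟩
    have h2 : a * b = b * a := congrArg Subtype.val this
    rw [← map_mul, ← map_mul, h2]
  have hEA'c : ∀ a ∈ EA', ∀ b ∈ EA', a * b = b * a := fun a ha b hb =>
    hA'c a (hEA'A' ha) b (hEA'A' hb)
  have hEA'e : ∀ a ∈ EA', a ^ p = 1 := by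
    rintro _ ⟨a, ha, rfl⟩
    rw [← map_pow, hEAe a ha, map_one]
  have hEA'card : p ^ 2 < Nat.card EA' := by
    rw [hEA'def, card_map_conj]; exact hEAcard
  -- a normal elementary abelian subgroup `E` of order `p ^ 2` of `P`
  have hPnc : ¬ IsCyclic ↥(P : Subgroup G) := by
    intro hcyc
    have h1 : ¬ IsCyclic ↥(X.subgroupOf (P : Subgroup G)) := by
      apply Cfsg.Agent.Lib.Helper8.not_isCyclic_of_elemAb hpp
        (A := X.subgroupOf (P : Subgroup G))
      · refine ⟨isMulCommutative_subgroupOf hXc, ?_⟩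
        intro a ha
        rw [Subgroup.mem_subgroupOf] at ha
        apply Subtype.ext
        simpa using hXe _ ha
      · rw [Cfsg.Agent.Lib.Helper1.card_subgroupOf_of_le hXP]; exact hXcard.le
    exact h1 inferInstance
  obtain ⟨E, hEP, hEn, hEc, hEe, hEcard⟩ := exists_normal_elemAb_sq_in hpodd P.isPGroup' hPnc
  -- step 1: `C_{A'}(E)` is a uniqueness subgroup
  have h1U : Cfsg.InUniqueMaximal (A' ⊓ Subgroup.centralizer (E : Set G)) := by
    apply uniq_of_le_centralizer hG hA'U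
    · intro x hx
      rw [Subgroup.mem_centralizer_iff]
      intro a ha
      exact hA'c a ha x hx.1
    · have hc := card_le_mul_card_inf_centralizer P.isPGroup' hEP hEn hEc hEcard
        (hEA'A'.trans hA'P)
      apply not_rankLE_one_of_elemAb hpp (E := EA' ⊓ Subgroup.centralizer (E : Set G))
        (inf_le_inf_right _ hEA'A')
        (fun a ha b hb => hEA'c a ha.1 b hb.1) (fun a ha => hEA'e a ha.1)
      by_contra hle
      push Not at hle
      have : Nat.card ↥(EA' ⊓ Subgroup.centralizer (E : Set G)) * p ≤ p * p :=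
        Nat.mul_le_mul_right p hle
      rw [← sq] at this
      omega
  -- step 2: `E` is a uniqueness subgroup
  have h2U : Cfsg.InUniqueMaximal E := by
    apply uniq_of_le_centralizer hG h1U
    · intro e he
      rw [Subgroup.mem_centralizer_iff]
      intro x hx
      exact ((Subgroup.mem_centralizer_iff.mp hx.2) e he).symm
    · apply not_rankLE_one_of_elemAb hpp (le_refl E) hEc hEe
      rw [hEcard]; exact hppow
  -- step 3: `C_X(E)` is a uniqueness subgroup
  have h3U : Cfsg.InUniqueMaximal (X ⊓ Subgroup.centralizer (E : Set G)) := by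
    apply uniq_of_le_centralizer hG h2U inf_le_right
    have hc := card_le_mul_card_inf_centralizer P.isPGroup' hEP hEn hEc hEcard hXP
    apply not_rankLE_one_of_elemAb hpp (E := X ⊓ Subgroup.centralizer (E : Set G)) (le_refl _)
      (fun a ha b hb => hXc a ha.1 b hb.1) (fun a ha => hXe a ha.1)
    by_contra hle
    push Not at hle
    have : Nat.card ↥(X ⊓ Subgroup.centralizer (E : Set G)) * p ≤ p * p :=
      Nat.mul_le_mul_right p hle
    rw [← sq] at this
    omega
  -- step 4: `B` is a uniqueness subgroup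
  apply uniq_of_le_centralizer hG h3U
  · intro b hb
    rw [Subgroup.mem_centralizer_iff]
    intro x hx
    exact hBcX b hb x hx.1
  · intro hr
    obtain ⟨M, -, hMc, hMe, hM2⟩ :=
      Cfsg.Agent.Lib.Helper20.exists_normal_elemAb_of_not_isCyclic hpodd hBp hBnc
    have := hr p hpp M hMc hMe
    rw [hM2, pow_one] at this
    omega

end Cfsg.Agent.Lib.Helper17.BGU
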