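import Mathlib

/-!
# Linear algebra for finite-order endomorphisms: eigenspaces and the commutant
-/

set_option autoImplicit false

namespace Cfsg.Agent.Lib.Helper17
namespace ESMod

open Module

section Comm

variable {K : Type*} [Field K] {V : Type*} [AddCommGroup V] [Module K V]

/-- the commutant of an endomorphism. -/
def commutant (f : Module.End K V) : Submodule K (Module.End K V) where
  carrier := {e | e * f = f * e}
  add_mem' := by
    intro a b ha hb
    simp only [Set.mem_ofPred_eq] at *
    rw [add_mul, mul_add, ha, hb]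
  zero_mem' := by simp
  smul_mem' := by
    intro c a ha
    simp only [Set.mem_ofPred_eq] at *
    rw [smul_mul_assoc, mul_smul_comm, ha]

theorem mem_commutant {f e : Module.End K V} : e ∈ commutant f ↔ e * f = f * e := Iff.rfl

/-- eigenvalues of an endomorphism of finite order are roots of unity. -/
theorem eigenspace_eq_bot_of_pow_ne (f : Module.End K V) {r : ℕ} (hf : f ^ r = 1) (μ : K)
    (hμ : μ ^ r ≠ 1) : f.eigenspace μ = ⊥ := by
  rw [eq_bot_iff]
  intro v hv
  rw [Module.End.mem_eigenspace_iff] at hv
  have h1 : ∀ n : ℕ, (f ^ n) v = μ ^ n • v := by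
    intro n
    induction n with
    | zero => simp
    | succ n ih =>
      rw [pow_succ, Module.End.mul_apply, hv, map_smul, ih, smul_smul, pow_succ, mul_comm]
  have h2 := h1 r
  rw [hf, Module.End.one_apply] at h2
  have h3 : (μ ^ r - 1) • v = 0 := by rw [sub_smul, one_smul, ← h2, sub_self]
  rcases smul_eq_zero.mp h3 with h | h
  · exact absurd (sub_eq_zero.mp h) hμ
  · rw [h]; exact Submodule.zero_mem _

variable [IsAlgClosed K] [FiniteDimensional K V]

theorem iSup_eigenspace_eq_top (f : Module.End K V) {r : ℕ} (hf : f ^ r = 1)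
    (hrK : (r : K) ≠ 0) : ⨆ μ : K, f.eigenspace μ = ⊤ := by
  have hss : f.IsSemisimple := by
    apply Module.End.isSemisimple_of_squarefree_aeval_eq_zero
      (p := (Polynomial.X ^ r - 1 : Polynomial K))
    · exact (Polynomial.X_pow_sub_one_separable_iff.mpr hrK).squarefree
    · simp [hf]
  have hfs : f.IsFinitelySemisimple := Module.End.isFinitelySemisimple_iff_isSemisimple.mpr hss
  have h1 := Module.End.iSup_maxGenEigenspace_eq_top f
  rw [eq_top_iff, ← h1]
  apply iSup_le
  intro μ
  rw [hfs.maxGenEigenspace_eq_eigenspace]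
  exact le_iSup (fun μ : K => f.eigenspace μ) μ

theorem iSup_eigenspace_roots (f : Module.End K V) {r : ℕ} (hr : 0 < r) (hf : f ^ r = 1)
    (hrK : (r : K) ≠ 0) :
    ⨆ l : ↥(Polynomial.nthRootsFinset r (1 : K)), f.eigenspace (l : K) = ⊤ := by
  classical
  have hss : f.IsSemisimple := by
    apply Module.End.isSemisimple_of_squarefree_aeval_eq_zero
      (p := (Polynomial.X ^ r - 1 : Polynomial K))
    · exact (Polynomial.X_pow_sub_one_separable_iff.mpr hrK).squarefree
    · simp [hf]
  have hfs : f.IsFinitelySemisimple := Module.End.isFinitelySemisimple_iff_isSemisimple.mpr hss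
  have h1 := Module.End.iSup_maxGenEigenspace_eq_top f
  rw [eq_top_iff, ← h1]
  apply iSup_le
  intro μ
  rw [hfs.maxGenEigenspace_eq_eigenspace]
  by_cases hμ : μ ^ r = 1
  · have hmem : μ ∈ Polynomial.nthRootsFinset r (1 : K) :=
      (Polynomial.mem_nthRootsFinset hr (1 : K)).mpr hμ
    exact le_iSup (fun l : ↥(Polynomial.nthRootsFinset r (1 : K)) => f.eigenspace (l : K))
      ⟨μ, hmem⟩
  · rw [eigenspace_eq_bot_of_pow_ne f hf μ hμ]
    exact bot_le

open scoped Classical in
theorem isInternal_eigenspace_roots (f : Module.End K V) {r : ℕ} (hr : 0 < r) (hf : f ^ r = 1)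
    (hrK : (r : K) ≠ 0) :
    DirectSum.IsInternal
      (fun l : ↥(Polynomial.nthRootsFinset r (1 : K)) => f.eigenspace (l : K)) := by
  classical
  apply DirectSum.isInternal_submodule_of_iSupIndep_of_iSup_eq_top
  · exact (Module.End.eigenspaces_iSupIndep f).comp Subtype.val_injective
  · exact iSup_eigenspace_roots f hr hf hrK

theorem finrank_commutant (f : Module.End K V) {r : ℕ} (hr : 0 < r) (hf : f ^ r = 1)
    (hrK : (r : K) ≠ 0) :
    ∑ l : ↥(Polynomial.nthRootsFinset r (1 : K)), finrank K (f.eigenspace (l : K)) = finrank K V ∧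
    finrank K (commutant f)
      = ∑ l : ↥(Polynomial.nthRootsFinset r (1 : K)), (finrank K (f.eigenspace (l : K))) ^ 2 := by
  classical
  let Λ := ↥(Polynomial.nthRootsFinset r (1 : K))
  have hint : DirectSum.IsInternal
      (fun l : Λ => f.eigenspace (l : K)) := isInternal_eigenspace_roots f hr hf hrK
  let v : Λ → ℕ := fun l => finrank K (f.eigenspace (l : K))
  let b : ∀ l : Λ, Basis (Fin (v l)) K (f.eigenspace (l : K)) := fun l => Module.finBasis K _
  let B : Basis (Σ l : Λ, Fin (v l)) K V := hint.collectedBasis b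
  have hB : ∀ a : (Σ l : Λ, Fin (v l)), f (B a) = (a.1 : K) • B a := by
    intro a
    have := hint.collectedBasis_mem b a
    exact Module.End.mem_eigenspace_iff.mp this
  have hdim : ∑ l : Λ, v l = finrank K V := by
    rw [Module.finrank_eq_card_basis B, Fintype.card_sigma]
    simp
  refine ⟨hdim, ?_⟩
  -- the matrix of f is diagonal
  let ι := (Σ l : Λ, Fin (v l))
  let D : Matrix ι ι K := Matrix.diagonal (fun i => ((i.1 : Λ) : K))
  have hfD : LinearMap.toMatrix B B f = D := by
    ext i j
    rw [LinearMap.toMatrix_apply, hB, map_smul, Finsupp.smul_apply, Basis.repr_self]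
    show _ = Matrix.diagonal (fun i : ι => ((i.1 : Λ) : K)) i j
    rw [Matrix.diagonal_apply]
    by_cases h : i = j
    · subst h; simp
    · rw [if_neg h, Finsupp.single_apply, if_neg (Ne.symm h)]; simp
  -- commutation in matrix terms
  have hcomm : ∀ e : Module.End K V, e ∈ commutant f ↔
      ∀ i j : ι, (i.1 : K) ≠ (j.1 : K) → LinearMap.toMatrix B B e i j = 0 := by
    intro e
    rw [mem_commutant]
    constructor
    · intro h i j hij
      have h1 := congrArg (LinearMap.toMatrix B B) h
      rw [Module.End.mul_eq_comp, Module.End.mul_eq_comp, LinearMap.toMatrix_comp B B B,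
        LinearMap.toMatrix_comp B B B, hfD] at h1
      have h2 := congrFun (congrFun h1 i) j
      rw [Matrix.mul_diagonal, Matrix.diagonal_mul] at h2
      have h3 : ((j.1 : K) - (i.1 : K)) * LinearMap.toMatrix B B e i j = 0 := by
        rw [sub_mul, mul_comm, h2, sub_self]
      rcases mul_eq_zero.mp h3 with h4 | h4
      · exact absurd (sub_eq_zero.mp h4).symm hij
      · exact h4
    · intro h
      apply (LinearMap.toMatrix B B).injective
      rw [Module.End.mul_eq_comp, Module.End.mul_eq_comp, LinearMap.toMatrix_comp B B B,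
        LinearMap.toMatrix_comp B B B, hfD]
      ext i j
      rw [Matrix.mul_diagonal, Matrix.diagonal_mul]
      by_cases hij : (i.1 : K) = (j.1 : K)
      · rw [hij, mul_comm]
      · rw [h i j hij, zero_mul, mul_zero]
  -- the index set of allowed entries
  let T := {p : ι × ι // (p.1.1 : K) = (p.2.1 : K)}
  let Φ : ↥(commutant f) →ₗ[K] (T → K) :=
    { toFun := fun e t => LinearMap.toMatrix B B e.1 t.1.1 t.1.2
      map_add' := fun a b => by ext t; simp
      map_smul' := fun c a => by ext t; simp }
  have hΦinj : Function.Injective Φ := by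
    rw [← LinearMap.ker_eq_bot, eq_bot_iff]
    intro e he
    rw [LinearMap.mem_ker] at he
    rw [Submodule.mem_bot]
    apply Subtype.ext
    apply (LinearMap.toMatrix B B).injective
    rw [Submodule.coe_zero, map_zero]
    ext i j
    by_cases hij : (i.1 : K) = (j.1 : K)
    · exact congrFun he ⟨(i, j), hij⟩
    · exact (hcomm e.1).mp e.2 i j hij
  have hΦsurj : Function.Surjective Φ := by
    intro g
    let M : Matrix ι ι K := fun i j => if h : (i.1 : K) = (j.1 : K) then g ⟨(i, j), h⟩ else 0
    have hM : (LinearMap.toMatrix B B).symm M ∈ commutant f := by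
      rw [hcomm]
      intro i j hij
      rw [LinearEquiv.apply_symm_apply]
      show (if h : (i.1 : K) = (j.1 : K) then g ⟨(i, j), h⟩ else 0) = 0
      rw [dif_neg hij]
    refine ⟨⟨_, hM⟩, ?_⟩
    ext t
    show LinearMap.toMatrix B B ((LinearMap.toMatrix B B).symm M) t.1.1 t.1.2 = g t
    rw [LinearEquiv.apply_symm_apply]
    show (if h : (t.1.1.1 : K) = (t.1.2.1 : K) then g ⟨(t.1.1, t.1.2), h⟩ else 0) = g t
    rw [dif_pos t.2]
  have hfin : finrank K ↥(commutant f) = Fintype.card T := by
    rw [← Module.finrank_fintype_fun_eq_card (R := K) (η := T)]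
    exact LinearEquiv.finrank_eq (LinearEquiv.ofBijective Φ ⟨hΦinj, hΦsurj⟩)
  rw [hfin]
  -- count T
  have hcard : Fintype.card T = ∑ i : ι, ∑ j : ι, if (i.1 : K) = (j.1 : K) then 1 else 0 := by
    rw [Fintype.card_subtype, Finset.card_filter, Fintype.sum_prod_type]
  rw [hcard]
  have hinner : ∀ i : ι, (∑ j : ι, if (i.1 : K) = (j.1 : K) then 1 else 0) = v i.1 := by
    intro i
    rw [Fintype.sum_sigma]
    have : ∀ l : Λ, (∑ _k : Fin (v l), if (i.1 : K) = (l : K) then 1 else 0)
        = if i.1 = l then v l else 0 := by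
      intro l
      by_cases h : i.1 = l
      · rw [if_pos h, Finset.sum_congr rfl (fun _ _ => if_pos (congrArg Subtype.val h))]
        simp
      · rw [if_neg h]
        apply Finset.sum_eq_zero
        intro _ _
        rw [if_neg]
        intro h'
        exact h (Subtype.ext h')
    rw [Finset.sum_congr rfl (fun l _ => this l)]
    rw [Finset.sum_ite_eq Finset.univ i.1 v, if_pos (Finset.mem_univ _)]
  rw [Finset.sum_congr rfl (fun i _ => hinner i), Fintype.sum_sigma]
  apply Finset.sum_congr rfl
  intro l _
  show ∑ _y : Fin (v l), v l = (v l) ^ 2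
  rw [Finset.sum_const, Finset.card_univ, Fintype.card_fin, smul_eq_mul, pow_two]

end Comm

end ESMod
end Cfsg.Agent.Lib.Helper17
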