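import Mathlib
import Cfsg.Agent.Lib.Helper17.ESMod1

/-!
# Schur's lemma and `End_Q(V) = K` for `Γ = Q⟨x⟩` with `C_V(x) = 0`
-/

set_option autoImplicit false

namespace Cfsg.Agent.Lib.Helper17
namespace ESMod

open Module

section Schur

variable {K : Type*} [Field K] {Γ : Type*} [Group Γ]
  {V : Type*} [AddCommGroup V] [Module K V]

/-- invariance under `Q` and `x` gives invariance under `Γ = Q⟨x⟩`. -/
theorem inv_of_gen (ρ : Representation K Γ V) (Q : Subgroup Γ) (x : Γ)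
    (hgen : ∀ g : Γ, ∃ s ∈ Q, ∃ j : ℕ, g = s * x ^ j) (U : Submodule K V)
    (hQ : ∀ s ∈ Q, ∀ u ∈ U, ρ s u ∈ U) (hx : ∀ u ∈ U, ρ x u ∈ U) :
    ∀ g : Γ, ∀ u ∈ U, ρ g u ∈ U := by
  intro g u hu
  obtain ⟨s, hs, j, rfl⟩ := hgen g
  rw [map_mul, Module.End.mul_apply]
  apply hQ s hs
  rw [map_pow]
  clear hs
  induction j with
  | zero => simpa using hu
  | succ j ih =>
    rw [pow_succ', Module.End.mul_apply]
    exact hx _ ih

/-- commuting with `Q` and `x` gives commuting with `Γ = Q⟨x⟩`. -/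
theorem comm_of_gen (ρ : Representation K Γ V) (Q : Subgroup Γ) (x : Γ)
    (hgen : ∀ g : Γ, ∃ s ∈ Q, ∃ j : ℕ, g = s * x ^ j) (e : Module.End K V)
    (hQ : ∀ s ∈ Q, e * ρ s = ρ s * e) (hx : e * ρ x = ρ x * e) :
    ∀ g : Γ, e * ρ g = ρ g * e := by
  intro g
  obtain ⟨s, hs, j, rfl⟩ := hgen g
  have hj : e * ρ (x ^ j) = ρ (x ^ j) * e := by
    rw [map_pow]
    induction j with
    | zero => simp
    | succ j ih =>
      rw [pow_succ, ← mul_assoc, ih, mul_assoc, hx, ← mul_assoc]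
  rw [map_mul, ← mul_assoc, hQ s hs, mul_assoc, hj, ← mul_assoc]

variable [IsAlgClosed K] [FiniteDimensional K V] [Nontrivial V]

/-- Schur's lemma over an algebraically closed field. -/
theorem schur (ρ : Representation K Γ V)
    (hirr : ∀ U : Submodule K V, (∀ g : Γ, ∀ u ∈ U, ρ g u ∈ U) → U = ⊥ ∨ U = ⊤)
    (e : Module.End K V) (he : ∀ g : Γ, e * ρ g = ρ g * e) : ∃ c : K, e = c • 1 := by
  obtain ⟨c, hc⟩ := Module.End.exists_eigenvalue e
  refine ⟨c, ?_⟩
  have hinv : ∀ g : Γ, ∀ u ∈ e.eigenspace c, ρ g u ∈ e.eigenspace c := by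
    intro g u hu
    rw [Module.End.mem_eigenspace_iff] at hu ⊢
    have := congrArg (fun f => f u) (he g)
    simp only [Module.End.mul_apply] at this
    rw [this, hu, map_smul]
  rcases hirr _ hinv with h | h
  · exact absurd h hc
  · apply LinearMap.ext
    intro v
    have : v ∈ e.eigenspace c := by rw [h]; trivial
    rw [Module.End.mem_eigenspace_iff] at this
    rw [this]
    simp

theorem twisted_zero (ρ : Representation K Γ V) (Q : Subgroup Γ) (x : Γ) {r : ℕ}
    (hr : r.Prime) (hx : x ^ r = 1)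
    (hgen : ∀ g : Γ, ∃ s ∈ Q, ∃ j : ℕ, g = s * x ^ j)
    (hirr : ∀ U : Submodule K V, (∀ g : Γ, ∀ u ∈ U, ρ g u ∈ U) → U = ⊥ ∨ U = ⊤)
    (hfix : ∀ v, ρ x v = v → v = 0)
    (b : Module.End K V) (hbQ : ∀ s ∈ Q, b * ρ s = ρ s * b) (μ : K) (hμ1 : μ ≠ 1)
    (hμr : μ ^ r = 1) (hb : ρ x * b = μ • (b * ρ x)) : b = 0 := by
  have hμ0 : μ ≠ 0 := by
    rintro rfl
    rw [zero_pow hr.ne_zero] at hμr
    exact zero_ne_one hμr
  have hgr : (ρ x) ^ r = 1 := by rw [← map_pow, hx, map_one]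
  -- b g = μ⁻¹ g b
  have hbg : ∀ v, b (ρ x v) = μ⁻¹ • ρ x (b v) := by
    intro v
    have := congrArg (fun f => f v) hb
    simp only [Module.End.mul_apply, LinearMap.smul_apply] at this
    rw [this, smul_smul, inv_mul_cancel₀ hμ0, one_smul]
  have hbgj : ∀ (j : ℕ) (w : V) (β : K), b w = β • w →
      b (((ρ x) ^ j) w) = ((μ⁻¹) ^ j * β) • ((ρ x) ^ j) w := by
    intro j w β hw
    induction j with
    | zero => simpa using hw
    | succ j ih =>
      rw [pow_succ', Module.End.mul_apply, hbg, ih, map_smul, smul_smul, pow_succ']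
      congr 1
      ring
  have hprim : IsPrimitiveRoot μ⁻¹ r := by
    have h1 : (μ⁻¹) ^ r = 1 := by rw [inv_pow, hμr, inv_one]
    have h2 : orderOf μ⁻¹ ∣ r := orderOf_dvd_of_pow_eq_one h1
    rcases (Nat.dvd_prime hr).mp h2 with h3 | h3
    · exfalso
      rw [orderOf_eq_one_iff, inv_eq_one] at h3
      exact hμ1 h3
    · rw [← h3]
      exact IsPrimitiveRoot.orderOf _
  -- no nonzero eigenvalue
  have hclaim : ∀ β : K, β ≠ 0 → ∀ w, b w = β • w → w = 0 := by
    intro β hβ w hw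
    by_contra hw0
    let vec : Fin r → V := fun j => ((ρ x) ^ (j : ℕ)) w
    let ev : Fin r → K := fun j => (μ⁻¹) ^ (j : ℕ) * β
    have hev : Function.Injective ev := by
      intro i j hij
      have h1 : (μ⁻¹) ^ (i : ℕ) = (μ⁻¹) ^ (j : ℕ) := mul_right_cancel₀ hβ hij
      exact Fin.ext (hprim.pow_inj i.2 j.2 h1)
    have hvec : ∀ j : Fin r, b.HasEigenvector (ev j) (vec j) := by
      intro j
      refine ⟨?_, ?_⟩
      · rw [Module.End.mem_eigenspace_iff]
        exact hbgj j w β hw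
      · intro h0
        apply hw0
        have h1 : (ρ ((x ^ (j : ℕ))⁻¹)) (((ρ x) ^ (j : ℕ)) w) = w := by
          rw [← map_pow, ← Module.End.mul_apply, ← map_mul, inv_mul_cancel, map_one,
            Module.End.one_apply]
        rw [← h1]
        show (ρ ((x ^ (j : ℕ))⁻¹)) (vec j) = 0
        rw [h0, map_zero]
    have hli := b.eigenvectors_linearIndependent' ev hev vec hvec
    have hsum : ρ x (∑ j : Fin r, vec j) = ∑ j : Fin r, vec j := by
      rw [Fin.sum_univ_eq_sum_range (fun j => ((ρ x) ^ j) w) r, map_sum]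
      have h1 : ∀ j ∈ Finset.range r, ρ x (((ρ x) ^ j) w) = ((ρ x) ^ (j + 1)) w := by
        intro j _
        rw [pow_succ', Module.End.mul_apply]
      rw [Finset.sum_congr rfl h1]
      have h2 := Finset.sum_range_succ' (fun j => ((ρ x) ^ j) w) r
      have h3 := Finset.sum_range_succ (fun j => ((ρ x) ^ j) w) r
      rw [h3] at h2
      simp only [hgr, pow_zero] at h2
      exact add_right_cancel h2.symm
    have h0 := hfix _ hsum
    have h1 := Fintype.linearIndependent_iff.mp hli (fun _ => (1 : K))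
      (by simpa using h0) ⟨0, hr.pos⟩
    exact one_ne_zero h1
  -- 0 is an eigenvalue
  obtain ⟨c, hc⟩ := Module.End.exists_eigenvalue b
  have hc0 : c = 0 := by
    by_contra hc0
    obtain ⟨w, hw⟩ := hc.exists_hasEigenvector
    exact hw.2 (hclaim c hc0 w (Module.End.mem_eigenspace_iff.mp hw.1))
  subst hc0
  have hker : LinearMap.ker b ≠ ⊥ := by
    intro h
    apply hc
    show b.eigenspace 0 = ⊥
    rw [Module.End.eigenspace_zero]
    exact h
  have hinv : ∀ g : Γ, ∀ u ∈ LinearMap.ker b, ρ g u ∈ LinearMap.ker b := by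
    apply inv_of_gen ρ Q x hgen
    · intro s hs u hu
      rw [LinearMap.mem_ker] at hu ⊢
      have := congrArg (fun f => f u) (hbQ s hs)
      simp only [Module.End.mul_apply] at this
      rw [this, hu, map_zero]
    · intro u hu
      rw [LinearMap.mem_ker] at hu ⊢
      rw [hbg, hu, map_zero, smul_zero]
  rcases hirr _ hinv with h | h
  · exact absurd h hker
  · exact LinearMap.ker_eq_top.mp h

/-- `End_Q(V) = K` when `Γ = Q⟨x⟩` is irreducible on `V` and `C_V(x) = 0`. -/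
theorem endQ_scalar (ρ : Representation K Γ V) (Q : Subgroup Γ) [Q.Normal] (x : Γ) {r : ℕ}
    (hr : r.Prime) (hx : x ^ r = 1) (hrK : (r : K) ≠ 0)
    (hgen : ∀ g : Γ, ∃ s ∈ Q, ∃ j : ℕ, g = s * x ^ j)
    (hirr : ∀ U : Submodule K V, (∀ g : Γ, ∀ u ∈ U, ρ g u ∈ U) → U = ⊥ ∨ U = ⊤)
    (hfix : ∀ v, ρ x v = v → v = 0)
    (b : Module.End K V) (hbQ : ∀ s ∈ Q, b * ρ s = ρ s * b) : ∃ c : K, b = c • 1 := by
  let C : Module.End K (V →ₗ[K] V) := Representation.linHom ρ ρ x
  have hCr : C ^ r = 1 := by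
    show (Representation.linHom ρ ρ x) ^ r = 1
    rw [← map_pow, hx, map_one]
  have hsup := iSup_eigenspace_eq_top C hCr hrK
  let Bsub : Submodule K (V →ₗ[K] V) :=
    { carrier := {b | ∀ s ∈ Q, b * ρ s = ρ s * b}
      add_mem' := by
        intro a b ha hb s hs
        rw [add_mul, mul_add, ha s hs, hb s hs]
      zero_mem' := by
        intro s _
        simp
      smul_mem' := by
        intro c a ha s hs
        rw [smul_mul_assoc, mul_smul_comm, ha s hs] }
  have hxinv : ρ x * ρ x⁻¹ = 1 := by rw [← map_mul, mul_inv_cancel, map_one]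
  have hxinv' : ρ x⁻¹ * ρ x = 1 := by rw [← map_mul, inv_mul_cancel, map_one]
  have hCapply : ∀ e : V →ₗ[K] V, C e = ρ x * e * ρ x⁻¹ := by
    intro e
    show ρ x ∘ₗ e ∘ₗ ρ x⁻¹ = ρ x * e * ρ x⁻¹
    rw [Module.End.mul_eq_comp, Module.End.mul_eq_comp, LinearMap.comp_assoc]
  have hBinv : ∀ e ∈ Bsub, C e ∈ Bsub := by
    intro e he s hs
    rw [hCapply]
    have hs' : x⁻¹ * s * x ∈ Q := by
      have := ‹Q.Normal›.conj_mem s hs x⁻¹
      simpa using this
    have h1 : ρ x⁻¹ * ρ s = ρ (x⁻¹ * s * x) * ρ x⁻¹ := by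
      rw [← map_mul, ← map_mul]
      congr 1
      group
    have h2 : ρ s * ρ x = ρ x * ρ (x⁻¹ * s * x) := by
      rw [← map_mul, ← map_mul]
      congr 1
      group
    calc ρ x * e * ρ x⁻¹ * ρ s = ρ x * e * (ρ x⁻¹ * ρ s) := by rw [mul_assoc]
      _ = ρ x * (e * ρ (x⁻¹ * s * x)) * ρ x⁻¹ := by rw [h1]; simp only [mul_assoc]
      _ = ρ x * (ρ (x⁻¹ * s * x) * e) * ρ x⁻¹ := by rw [he _ hs']
      _ = (ρ x * ρ (x⁻¹ * s * x)) * e * ρ x⁻¹ := by simp only [mul_assoc]
      _ = ρ s * (ρ x * e * ρ x⁻¹) := by rw [← h2]; simp only [mul_assoc]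
  let S : Submodule K (V →ₗ[K] V) := Submodule.span K {(1 : V →ₗ[K] V)}
  have hpiece : ∀ μ : K, Bsub ⊓ C.genEigenspace μ 1 ≤ S := by
    intro μ e he
    obtain ⟨he1, he2⟩ := Submodule.mem_inf.mp he
    have he3 : C e = μ • e := Module.End.mem_eigenspace_iff.mp he2
    rw [hCapply] at he3
    have he4 : ρ x * e = μ • (e * ρ x) := by
      calc ρ x * e = ρ x * e * (ρ x⁻¹ * ρ x) := by rw [hxinv', mul_one]
        _ = (ρ x * e * ρ x⁻¹) * ρ x := by simp only [mul_assoc]
        _ = μ • (e * ρ x) := by rw [he3, smul_mul_assoc]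
    by_cases hμ1 : μ = 1
    · subst hμ1
      rw [one_smul] at he4
      obtain ⟨c, hc⟩ := schur ρ hirr e (comm_of_gen ρ Q x hgen e he1 he4.symm)
      rw [hc]
      exact Submodule.smul_mem _ _ (Submodule.subset_span rfl)
    · by_cases hμr : μ ^ r = 1
      · have := twisted_zero ρ Q x hr hx hgen hirr hfix e he1 μ hμ1 hμr he4
        rw [this]
        exact Submodule.zero_mem _
      · have h0 := eigenspace_eq_bot_of_pow_ne C hCr μ hμr
        have : e ∈ C.eigenspace μ := he2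
        rw [h0, Submodule.mem_bot] at this
        rw [this]
        exact Submodule.zero_mem _
  have hB : Bsub ≤ S := by
    have h1 : Bsub = Bsub ⊓ ⨆ μ : K, C.genEigenspace μ 1 := by
      have : (⨆ μ : K, C.genEigenspace μ 1) = ⊤ := hsup
      rw [this, inf_top_eq]
    rw [h1, Submodule.inf_iSup_genEigenspace hBinv 1]
    exact iSup_le hpiece
  have hb : b ∈ S := hB hbQ
  obtain ⟨c, hc⟩ := Submodule.mem_span_singleton.mp hb
  exact ⟨c, hc.symm⟩

end Schur

end ESMod
end Cfsg.Agent.Lib.Helper17
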