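import Mathlib

/-!
# Heisenberg-type representations: `End(V)` is spanned by `R(Q)` and has dimension `|Q : Z|`
-/

set_option autoImplicit false

namespace Cfsg.Agent.Lib.Helper17
namespace ESMod

open Module
open scoped commutatorElement

section Heis

variable {K : Type*} [Field K] {Q : Type*} [Group Q] [Finite Q]
  {V : Type*} [AddCommGroup V] [Module K V] [FiniteDimensional K V] [Nontrivial V]

theorem finrank_sq_mul_card (R : Representation K Q V)
    (hB : ∀ b : Module.End K V, (∀ s : Q, b * R s = R s * b) → ∃ c : K, b = c • 1)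
    (hcl : ∀ s t u : Q, ⁅s, t⁆ * u = u * ⁅s, t⁆)
    (hQK : (Nat.card Q : K) ≠ 0)
    (Z : Subgroup Q) (hZ : ∀ s, s ∈ Z ↔ ∀ t : Q, R s * R t = R t * R s) :
    Nat.card Q = (finrank K V) ^ 2 * Nat.card Z := by
  classical
  have : Fintype Q := Fintype.ofFinite Q
  have hinj : ∀ a b : K, a • (1 : Module.End K V) = b • 1 → a = b := by
    intro a b h
    exact smul_left_injective K (one_ne_zero (α := Module.End K V)) h
  have hRinv : ∀ g : Q, R g * R g⁻¹ = 1 := fun g => by rw [← map_mul, mul_inv_cancel, map_one]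
  have hRinv' : ∀ g : Q, R g⁻¹ * R g = 1 := fun g => by rw [← map_mul, inv_mul_cancel, map_one]
  have hRne : ∀ g : Q, R g ≠ 0 := by
    intro g h
    have := hRinv g
    rw [h, zero_mul] at this
    exact zero_ne_one this
  -- the commutator pairing
  have hsc : ∀ s t : Q, ∃ c : K, R ⁅s, t⁆ = c • 1 := by
    intro s t
    apply hB
    intro u
    rw [← map_mul, ← map_mul, hcl]
  choose χ hχ using hsc
  have hcomm : ∀ s t : Q, R s * R t = χ s t • (R t * R s) := by
    intro s t
    have h1 : s * t = ⁅s, t⁆ * (t * s) := by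
      rw [commutatorElement_def]; group
    rw [← map_mul, h1, map_mul, hχ, smul_mul_assoc, one_mul, map_mul]
  have hmulL : ∀ s u t : Q, χ (s * u) t = χ s t * χ u t := by
    intro s u t
    apply hinj
    have h1 : ⁅s * u, t⁆ = ⁅u, t⁆ * ⁅s, t⁆ := by
      have h2 : ⁅s * u, t⁆ = s * ⁅u, t⁆ * s⁻¹ * ⁅s, t⁆ := by
        simp only [commutatorElement_def]; group
      rw [h2, ← hcl u t s, mul_inv_cancel_right]
    rw [← hχ, h1, map_mul, hχ, hχ, smul_mul_smul_comm, one_mul, mul_comm]
  have hanti : ∀ s t : Q, χ s t * χ t s = 1 := by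
    intro s t
    apply hinj
    have h1 : ⁅s, t⁆ * ⁅t, s⁆ = 1 := by
      rw [← commutatorElement_inv s t, mul_inv_cancel]
    have h2 := congrArg R h1
    rw [map_mul, hχ, hχ, smul_mul_smul_comm, one_mul, map_one] at h2
    rw [h2, one_smul]
  have hχne : ∀ s t : Q, χ s t ≠ 0 := by
    intro s t h
    have := hanti s t
    rw [h, zero_mul] at this
    exact zero_ne_one this
  have hχswap : ∀ s t : Q, χ s t = (χ t s)⁻¹ := by
    intro s t
    exact eq_inv_of_mul_eq_one_left (hanti s t)
  have hmulR : ∀ s t u : Q, χ s (t * u) = χ s t * χ s u := by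
    intro s t u
    rw [hχswap s (t * u), hmulL, mul_inv, ← hχswap, ← hχswap]
  have hone : ∀ t : Q, χ 1 t = 1 := by
    intro t
    have := hmulL 1 1 t
    rw [mul_one] at this
    have h2 : χ 1 t * 1 = χ 1 t * χ 1 t := by rw [mul_one]; exact this
    exact (mul_left_cancel₀ (hχne 1 t) h2).symm
  have hone' : ∀ s : Q, χ s 1 = 1 := by
    intro s
    rw [hχswap, hone, inv_one]
  have hinvR : ∀ s t : Q, χ s t⁻¹ = (χ s t)⁻¹ := by
    intro s t
    have := hmulR s t t⁻¹
    rw [mul_inv_cancel, hone'] at this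
    exact eq_inv_of_mul_eq_one_right this.symm
  -- elements of Z
  have hZsc : ∀ z ∈ Z, ∃ c : K, R z = c • 1 := by
    intro z hz
    apply hB
    intro s
    exact (hZ z).mp hz s
  have hZχ : ∀ z ∈ Z, ∀ t : Q, χ z t = 1 := by
    intro z hz t
    have h1 := hcomm z t
    rw [(hZ z).mp hz t] at h1
    have h2 : (χ z t - 1) • (R t * R z) = 0 := by
      rw [sub_smul, one_smul, ← h1, sub_self]
    rcases smul_eq_zero.mp h2 with h3 | h3
    · exact sub_eq_zero.mp h3
    · rw [← map_mul] at h3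
      exact absurd h3 (hRne _)
  have hnZχ : ∀ s : Q, s ∉ Z → ∃ t : Q, χ s t ≠ 1 := by
    intro s hs
    rw [hZ] at hs
    push Not at hs
    obtain ⟨t, ht⟩ := hs
    refine ⟨t, fun h => ht ?_⟩
    rw [hcomm s t, h, one_smul]
  -- character sums
  have hsum0 : ∀ s : Q, s ∉ Z → ∑ t : Q, (χ s t)⁻¹ = 0 := by
    intro s hs
    obtain ⟨t₀, ht₀⟩ := hnZχ s hs
    have h1 : ∑ t : Q, (χ s t)⁻¹ = ∑ t : Q, (χ s (t₀ * t))⁻¹ :=
      (Equiv.sum_comp (Equiv.mulLeft t₀) (fun t => (χ s t)⁻¹)).symm
    have h2 : ∑ t : Q, (χ s (t₀ * t))⁻¹ = (χ s t₀)⁻¹ * ∑ t : Q, (χ s t)⁻¹ := by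
      rw [Finset.mul_sum]
      apply Finset.sum_congr rfl
      intro t _
      rw [hmulR, mul_inv]
    rw [h2] at h1
    have h3 : (1 - (χ s t₀)⁻¹) * ∑ t : Q, (χ s t)⁻¹ = 0 := by
      rw [sub_mul, one_mul, ← h1, sub_self]
    rcases mul_eq_zero.mp h3 with h4 | h4
    · exfalso
      apply ht₀
      have : (χ s t₀)⁻¹ = 1 := (sub_eq_zero.mp h4).symm
      rw [inv_eq_one] at this
      exact this
    · exact h4
  have hsum0' : ∀ w : Q, w ∉ Z → ∑ s : Q, χ s w = 0 := by
    intro w hw
    have := hsum0 w hw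
    rw [← this]
    apply Finset.sum_congr rfl
    intro s _
    exact hχswap s w
  -- the conjugation operators
  have hAd : ∀ (s : Q) (e : V →ₗ[K] V), Representation.linHom R R s e = R s * e * R s⁻¹ := by
    intro s e
    show R s ∘ₗ e ∘ₗ R s⁻¹ = R s * e * R s⁻¹
    rw [Module.End.mul_eq_comp, Module.End.mul_eq_comp, LinearMap.comp_assoc]
  let T : Q → Module.End K (V →ₗ[K] V) := fun t => ∑ s : Q, (χ s t)⁻¹ • Representation.linHom R R s
  have hTapp : ∀ (t : Q) (e : V →ₗ[K] V), T t e = ∑ s : Q, (χ s t)⁻¹ • (R s * e * R s⁻¹) := by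
    intro t e
    show (∑ s : Q, (χ s t)⁻¹ • Representation.linHom R R s) e = _
    rw [LinearMap.sum_apply]
    apply Finset.sum_congr rfl
    intro s _
    rw [LinearMap.smul_apply, hAd]
  -- (1) twisted invariance
  have hT1 : ∀ (t u : Q) (e : V →ₗ[K] V), R u * T t e * R u⁻¹ = χ u t • T t e := by
    intro t u e
    rw [hTapp, Finset.mul_sum, Finset.sum_mul, Finset.smul_sum]
    have h1 : ∀ s : Q, R u * ((χ s t)⁻¹ • (R s * e * R s⁻¹)) * R u⁻¹
        = χ u t • ((χ (u * s) t)⁻¹ • (R (u * s) * e * R (u * s)⁻¹)) := by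
      intro s
      rw [hmulL, mul_inv, smul_smul, ← mul_assoc, mul_inv_cancel₀ (hχne u t), one_mul,
        mul_smul_comm, smul_mul_assoc, mul_inv_rev, map_mul, map_mul]
      simp only [mul_assoc]
    rw [Finset.sum_congr rfl (fun s _ => h1 s)]
    exact Equiv.sum_comp (Equiv.mulLeft u) (fun s => χ u t • ((χ s t)⁻¹ • (R s * e * R s⁻¹)))
  -- (2) T t e is a multiple of R t
  have hT2 : ∀ (t : Q) (e : V →ₗ[K] V), ∃ c : K, T t e = c • R t := by
    intro t e
    have hb : ∀ u : Q, (R t⁻¹ * T t e) * R u = R u * (R t⁻¹ * T t e) := by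
      intro u
      have h1 : R u * T t e = χ u t • (T t e * R u) := by
        calc R u * T t e = R u * T t e * (R u⁻¹ * R u) := by rw [hRinv', mul_one]
          _ = (R u * T t e * R u⁻¹) * R u := by simp only [mul_assoc]
          _ = χ u t • (T t e * R u) := by rw [hT1, smul_mul_assoc]
      have h2 : R u * R t⁻¹ = (χ u t)⁻¹ • (R t⁻¹ * R u) := by
        rw [hcomm u t⁻¹, hinvR]
      calc (R t⁻¹ * T t e) * R u = R t⁻¹ * (T t e * R u) := by rw [mul_assoc]
        _ = (χ u t)⁻¹ • (R t⁻¹ * (χ u t • (T t e * R u))) := by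
            rw [mul_smul_comm, smul_smul, inv_mul_cancel₀ (hχne u t), one_smul]
        _ = (χ u t)⁻¹ • (R t⁻¹ * (R u * T t e)) := by rw [h1]
        _ = ((χ u t)⁻¹ • (R t⁻¹ * R u)) * T t e := by rw [smul_mul_assoc, mul_assoc]
        _ = R u * (R t⁻¹ * T t e) := by rw [← h2, mul_assoc]
    obtain ⟨c, hc⟩ := hB _ hb
    refine ⟨c, ?_⟩
    calc T t e = R t * (R t⁻¹ * T t e) := by rw [← mul_assoc, hRinv, one_mul]
      _ = c • R t := by rw [hc, mul_smul_comm, mul_one]
  -- (3) sum over t
  have hT3 : ∀ e : V →ₗ[K] V, ∑ t : Q, T t e = ((Nat.card Q : K) * (Nat.card Z : K)) • e := by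
    intro e
    have h1 : ∑ t : Q, T t e = ∑ s : Q, (∑ t : Q, (χ s t)⁻¹) • (R s * e * R s⁻¹) := by
      rw [Finset.sum_congr rfl (fun t _ => hTapp t e), Finset.sum_comm]
      apply Finset.sum_congr rfl
      intro s _
      rw [Finset.sum_smul]
    rw [h1]
    have h2 : ∀ s : Q, (∑ t : Q, (χ s t)⁻¹) • (R s * e * R s⁻¹)
        = if s ∈ Z then (Nat.card Q : K) • e else 0 := by
      intro s
      by_cases hs : s ∈ Z
      · rw [if_pos hs]
        have h3 : ∑ t : Q, (χ s t)⁻¹ = (Nat.card Q : K) := by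
          rw [Finset.sum_congr rfl (fun t _ => by rw [hZχ s hs t, inv_one])]
          rw [Finset.sum_const, Finset.card_univ, Nat.card_eq_fintype_card, nsmul_eq_mul, mul_one]
        obtain ⟨c, hc⟩ := hZsc s hs
        have h4 : R s * e * R s⁻¹ = e := by
          have : R s * e = e * R s := by
            rw [hc, smul_mul_assoc, one_mul, mul_smul_comm, mul_one]
          rw [this, mul_assoc, hRinv, mul_one]
        rw [h3, h4]
      · rw [if_neg hs, hsum0 s hs, zero_smul]
    rw [Finset.sum_congr rfl (fun s _ => h2 s), ← Finset.sum_filter, Finset.sum_const, mul_comm,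
      mul_smul]
    rw [Nat.card_eq_fintype_card (α := ↥Z), Fintype.card_subtype]
    rw [← Nat.cast_smul_eq_nsmul K]
  have hZK : (Nat.card Z : K) ≠ 0 := by
    intro h
    apply hQK
    rw [Subgroup.card_eq_card_quotient_mul_card_subgroup Z, Nat.cast_mul, h, mul_zero]
  -- (7) spanning
  let f : Q ⧸ Z → (V →ₗ[K] V) := fun q => R q.out
  have hspan : ⊤ ≤ Submodule.span K (Set.range f) := by
    intro e _
    have hRt : ∀ t : Q, R t ∈ Submodule.span K (Set.range f) := by
      intro t
      obtain ⟨h, hh⟩ := QuotientGroup.mk_out_eq_mul Z t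
      have h1 : t = (QuotientGroup.mk t : Q ⧸ Z).out * (h : Q)⁻¹ := by
        rw [hh, mul_inv_cancel_right]
      obtain ⟨c, hc⟩ := hZsc _ (Z.inv_mem h.2)
      rw [h1, map_mul, hc, mul_smul_comm, mul_one]
      exact Submodule.smul_mem _ _ (Submodule.subset_span ⟨_, rfl⟩)
    have h2 : ((Nat.card Q : K) * (Nat.card Z : K)) • e ∈ Submodule.span K (Set.range f) := by
      rw [← hT3]
      apply Submodule.sum_mem
      intro t _
      obtain ⟨c, hc⟩ := hT2 t e
      rw [hc]
      exact Submodule.smul_mem _ _ (hRt t)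
    have h3 := Submodule.smul_mem _ ((Nat.card Q : K) * (Nat.card Z : K))⁻¹ h2
    rw [smul_smul, inv_mul_cancel₀ (mul_ne_zero hQK hZK), one_smul] at h3
    exact h3
  -- (8) independence
  have hTR : ∀ t t' : Q, T t (R t') = (∑ s : Q, χ s (t⁻¹ * t')) • R t' := by
    intro t t'
    rw [hTapp, Finset.sum_smul]
    apply Finset.sum_congr rfl
    intro s _
    rw [hcomm s t', smul_mul_assoc, mul_assoc, hRinv, mul_one, smul_smul, hmulR, hinvR]
  have hli : LinearIndependent K f := by
    rw [Fintype.linearIndependent_iff]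
    intro c hc q₀
    have h1 := congrArg (T q₀.out) hc
    rw [map_sum, map_zero] at h1
    have h2 : ∀ q : Q ⧸ Z, T q₀.out (c q • f q)
        = if q = q₀ then (c q₀ * (Nat.card Q : K)) • R q₀.out else 0 := by
      intro q
      rw [map_smul]
      show c q • T q₀.out (R q.out) = _
      rw [hTR]
      by_cases hq : q = q₀
      · subst hq
        rw [if_pos rfl, inv_mul_cancel, smul_smul]
        congr 2
        rw [Finset.sum_congr rfl (fun s _ => hone' s), Finset.sum_const, Finset.card_univ,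
          Nat.card_eq_fintype_card, nsmul_eq_mul, mul_one]
      · rw [if_neg hq]
        have hw : q₀.out⁻¹ * q.out ∉ Z := by
          intro hmem
          apply hq
          have := (QuotientGroup.eq (s := Z) (a := q₀.out) (b := q.out)).mpr hmem
          rw [QuotientGroup.out_eq', QuotientGroup.out_eq'] at this
          exact this.symm
        rw [hsum0' _ hw, zero_smul, smul_zero]
    rw [Finset.sum_congr rfl (fun q _ => h2 q), Finset.sum_ite_eq' Finset.univ q₀,
      if_pos (Finset.mem_univ _)] at h1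
    rcases smul_eq_zero.mp h1 with h3 | h3
    · rcases mul_eq_zero.mp h3 with h4 | h4
      · exact h4
      · exact absurd h4 hQK
    · exact absurd h3 (hRne _)
  -- (9) conclusion
  let bas : Basis (Q ⧸ Z) K (V →ₗ[K] V) := Basis.mk hli hspan
  have hfin : finrank K (V →ₗ[K] V) = Nat.card (Q ⧸ Z) := by
    rw [Module.finrank_eq_card_basis bas, Nat.card_eq_fintype_card]
  have hfin2 : finrank K (V →ₗ[K] V) = finrank K V * finrank K V :=
    Module.finrank_linearMap K K V V
  rw [Subgroup.card_eq_card_quotient_mul_card_subgroup Z, ← hfin, hfin2, pow_two]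

end Heis

end ESMod
end Cfsg.Agent.Lib.Helper17
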