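import Cfsg.Agent.Lib.Helper17.FreeMod8

/-!
# Fixed points of the complement in a Frobenius action: dimension formula
-/

set_option autoImplicit false

namespace Cfsg.Agent.Lib.Helper17
namespace FreeMod

open scoped BigOperators
open Module

section Fixed

variable {k V : Type*} [Field k] [AddCommGroup V] [Module k V]
variable {H : Type*} [Group H]

/-- the space of vectors fixed by all `σ h`. -/
def fixSub (σ : Representation k H V) : Submodule k V where
  carrier := {v | ∀ h, σ h v = v}
  add_mem' := fun {a b} ha hb h => by rw [map_add, ha h, hb h]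
  zero_mem' := fun h => map_zero _
  smul_mem' := fun c v hv h => by rw [map_smul, hv h]

theorem mem_fixSub {σ : Representation k H V} {v : V} : v ∈ fixSub σ ↔ ∀ h, σ h v = v := Iff.rfl

variable [FiniteDimensional k V] [Fintype H]

/-- the sum map `(H → W) → V`. -/
def sumMap (σ : Representation k H V) (W : Submodule k V) : (H → ↥W) →ₗ[k] V :=
  ∑ h, (σ h ∘ₗ W.subtype) ∘ₗ LinearMap.proj h

omit [FiniteDimensional k V] in
theorem sumMap_apply (σ : Representation k H V) (W : Submodule k V) (w : H → ↥W) :
    sumMap σ W w = ∑ h, σ h (w h).1 := by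
  simp [sumMap, LinearMap.sum_apply]

theorem FreeGen.sumMap_bijective {σ : Representation k H V} {W : Submodule k V}
    (hW : FreeGen σ ⊤ W) : Function.Bijective (sumMap σ W) := by
  classical
  have hsurj : Function.Surjective (sumMap σ W) := by
    rw [← LinearMap.range_eq_top, eq_top_iff, ← hW.1]
    apply iSup_le
    rintro h _ ⟨w, hw, rfl⟩
    refine ⟨Pi.single h ⟨w, hw⟩, ?_⟩
    rw [sumMap_apply, Finset.sum_eq_single h]
    · simp
    · intro j _ hj
      simp [Pi.single_eq_of_ne hj]
    · intro hh; exact absurd (Finset.mem_univ h) hh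
  have hfr : finrank k (H → ↥W) = finrank k V := by
    rw [Module.finrank_pi_fintype, Finset.sum_const, Finset.card_univ, smul_eq_mul,
      ← Nat.card_eq_fintype_card, hW.2, finrank_top]
  exact ⟨(LinearMap.injective_iff_surjective_of_finrank_eq_finrank hfr).mpr hsurj, hsurj⟩

theorem FreeGen.finrank_fixSub {σ : Representation k H V} {W : Submodule k V}
    (hW : FreeGen σ ⊤ W) : finrank k (fixSub σ) = finrank k W := by
  classical
  have hbij := hW.sumMap_bijective
  let T : ↥W →ₗ[k] V := sumMap σ W ∘ₗ LinearMap.pi (fun _ => LinearMap.id)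
  have hT : ∀ w : ↥W, T w = ∑ h, σ h w.1 := by
    intro w
    show sumMap σ W (fun _ => w) = _
    rw [sumMap_apply]
  have hTinj : Function.Injective T := by
    intro a b hab
    have : (fun _ : H => a) = fun _ => b := hbij.1 hab
    exact congrFun this 1
  have hrange : LinearMap.range T = fixSub σ := by
    apply le_antisymm
    · rintro _ ⟨w, rfl⟩ g
      rw [hT, map_sum]
      refine Fintype.sum_equiv (Equiv.mulLeft g) _ _ fun x => ?_
      show σ g (σ x w.1) = σ (g * x) w.1
      rw [map_mul]; rfl
    · intro v hv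
      obtain ⟨w', hw'⟩ := hbij.2 v
      have hconst : ∀ g : H, (fun h => w' (g⁻¹ * h)) = w' := by
        intro g
        apply hbij.1
        rw [hw', sumMap_apply]
        have h1 : σ g v = v := hv g
        rw [← h1, ← hw', sumMap_apply, map_sum]
        refine (Fintype.sum_equiv (Equiv.mulLeft g) _ _ fun x => ?_).symm
        show σ g (σ x (w' x).1) = σ (g * x) (w' (g⁻¹ * (g * x))).1
        rw [inv_mul_cancel_left, map_mul]; rfl
      have hc : ∀ h, w' h = w' 1 := by
        intro h
        have := congrFun (hconst h) h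
        simp only [inv_mul_cancel] at this
        exact this.symm
      refine ⟨w' 1, ?_⟩
      rw [hT, ← hw', sumMap_apply]
      refine Finset.sum_congr rfl fun h _ => ?_
      rw [hc h]
  rw [← hrange, LinearMap.finrank_range_of_inj hTinj]

end Fixed

section Formula

universe u

variable {k : Type*} [Field k] {A : Type*} [Group A] [Finite A]
variable {V : Type u} [AddCommGroup V] [Module k V] [FiniteDimensional k V]

/-- vectors fixed by a subgroup. -/
def fixOn (ρ : Representation k A V) (S : Subgroup A) : Submodule k V :=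
  fixSub ((ρ.comp S.subtype : Representation k ↥S V))

omit [Finite A] [FiniteDimensional k V] in
theorem mem_fixOn {ρ : Representation k A V} {S : Subgroup A} {v : V} :
    v ∈ fixOn ρ S ↔ ∀ s ∈ S, ρ s v = v :=
  ⟨fun h s hs => h ⟨s, hs⟩, fun h s => h s.1 s.2⟩

omit [Finite A] [FiniteDimensional k V] in
theorem fixOn_sup (ρ : Representation k A V) (S T : Subgroup A) :
    fixOn ρ (S ⊔ T) = fixOn ρ S ⊓ fixOn ρ T := by
  apply le_antisymm
  · intro v hv
    rw [mem_fixOn] at hv
    exact ⟨mem_fixOn.mpr fun s hs => hv s (Subgroup.mem_sup_left hs),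
      mem_fixOn.mpr fun s hs => hv s (Subgroup.mem_sup_right hs)⟩
  · rintro v ⟨h1', h2'⟩
    have h1 := mem_fixOn.mp h1'
    have h2 := mem_fixOn.mp h2'
    apply mem_fixOn.mpr
    let St : Subgroup A :=
      { carrier := {a | ρ a v = v}
        mul_mem' := fun {a b} ha hb => by
          show ρ (a * b) v = v
          rw [map_mul]
          show ρ a (ρ b v) = v
          rw [hb, ha]
        one_mem' := by show ρ 1 v = v; rw [map_one]; rfl
        inv_mem' := fun {a} ha => by
          show ρ a⁻¹ v = v
          have h : ρ a v = v := ha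
          conv_lhs => rw [← h]
          exact rep_inv_apply ρ a v }
    have : S ⊔ T ≤ St := sup_le (fun s hs => h1 s hs) (fun s hs => h2 s hs)
    exact fun s hs => this hs

/-- **dimension formula** for a Frobenius-type action with nilpotent kernel of order prime to
the characteristic. -/
theorem frobenius_dim_formula (ρ : Representation k A V) (F H : Subgroup A) [F.Normal]
    (hnil : Group.IsNilpotent ↥F) (hchar : (Nat.card ↥F : k) ≠ 0)
    (hfpf : ∀ h ∈ H, h ≠ 1 → ∀ f ∈ F, h * f * h⁻¹ = f → f = 1) :
    Nat.card ↥H * finrank k (fixOn ρ (F ⊔ H)) + finrank k V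
      = Nat.card ↥H * finrank k (fixOn ρ H) + finrank k (fixOn ρ F) := by
  classical
  have : Fintype ↥F := Fintype.ofFinite _
  have : Fintype ↥H := Fintype.ofFinite _
  have hcharF : (Fintype.card ↥F : k) ≠ 0 := by rwa [← Nat.card_eq_fintype_card]
  set NF : Module.End k V := ∑ f : ↥F, ρ f with hNF
  have hNF_left : ∀ g ∈ F, ρ g * NF = NF := by
    intro g hg
    rw [hNF, Finset.mul_sum]
    refine Fintype.sum_equiv (Equiv.mulLeft (⟨g, hg⟩ : ↥F)) _ _ fun x => ?_
    rw [← map_mul]; rfl
  have hNF_conj : ∀ a : A, ρ a * NF = NF * ρ a := by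
    intro a
    rw [hNF, Finset.mul_sum, Finset.sum_mul]
    refine Fintype.sum_equiv (MulAut.conjNormal a : ↥F ≃* ↥F).toEquiv _ _ fun x => ?_
    rw [← map_mul, ← map_mul]
    congr 1
    show a * x.1 = ((MulAut.conjNormal a : MulAut ↥F) x : A) * a
    rw [MulAut.conjNormal_apply]; group
  have hNF_fix : ∀ v ∈ fixOn ρ F, NF v = (Fintype.card ↥F : k) • v := by
    intro v hv
    rw [hNF, LinearMap.sum_apply]
    have : ∀ f : ↥F, ρ f v = v := fun f => hv f
    simp_rw [this]
    rw [Finset.sum_const, Finset.card_univ, Nat.cast_smul_eq_nsmul]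
  set V₁ := fixOn ρ F with hV₁
  set V₂ : Submodule k V := LinearMap.ker NF with hV₂
  have hrange : LinearMap.range NF = V₁ := by
    apply le_antisymm
    · rintro _ ⟨v, rfl⟩
      rw [hV₁, mem_fixOn]
      intro g hg
      calc ρ g (NF v) = (ρ g * NF) v := rfl
        _ = NF v := by rw [hNF_left g hg]
    · intro v hv
      refine ⟨(Fintype.card ↥F : k)⁻¹ • v, ?_⟩
      rw [map_smul, hNF_fix v hv, smul_smul, inv_mul_cancel₀ hcharF, one_smul]
  have hdim : finrank k V₁ + finrank k V₂ = finrank k V := by
    rw [← hrange]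
    exact LinearMap.finrank_range_add_finrank_ker NF
  have hdisj : V₁ ⊓ V₂ = ⊥ := by
    rw [eq_bot_iff]
    rintro v ⟨h1, h2⟩
    have h3 : NF v = 0 := h2
    rw [hNF_fix v h1] at h3
    rcases smul_eq_zero.mp h3 with h | h
    · exact absurd h hcharF
    · rw [h]; exact Submodule.zero_mem _
  have hV₂inv : ∀ a, V₂ ≤ V₂.comap (ρ a) := by
    intro a v hv
    show NF (ρ a v) = 0
    have h1 : NF v = 0 := hv
    calc NF (ρ a v) = (NF * ρ a) v := rfl
      _ = (ρ a * NF) v := by rw [hNF_conj]
      _ = ρ a (NF v) := rfl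
      _ = 0 := by rw [h1, map_zero]
  set ρ₂ : Representation k A ↥V₂ := ρ.subrepresentation V₂ hV₂inv with hρ₂
  have hCF₂ : ∀ v : ↥V₂, (∀ f ∈ F, ρ₂ f v = v) → v = 0 := by
    intro v hv
    have h1 : v.1 ∈ V₁ ⊓ V₂ := by
      refine ⟨?_, v.2⟩
      apply mem_fixOn.mpr
      intro f hf
      exact congrArg Subtype.val (hv f hf)
    rw [hdisj, Submodule.mem_bot] at h1
    exact Subtype.ext h1
  obtain ⟨W, hW⟩ := frobenius_free ρ₂ F H hnil hfpf hCF₂
  have hW2 : Nat.card ↥H * finrank k W = finrank k V₂ := by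
    rw [hW.2, finrank_top]
  have hWfix := hW.finrank_fixSub
  -- the fixed space of H inside V₂
  have hfix₂ : finrank k ↥(fixOn ρ H ⊓ V₂) = finrank k W := by
    rw [← hWfix]
    have : fixOn ρ H ⊓ V₂
        = (fixSub ((ρ₂.comp H.subtype : Representation k ↥H ↥V₂))).map V₂.subtype := by
      ext v
      constructor
      · rintro ⟨h1, h2⟩
        refine ⟨⟨v, h2⟩, ?_, rfl⟩
        intro h
        apply Subtype.ext
        exact h1 h
      · rintro ⟨w, hw, rfl⟩
        refine ⟨?_, w.2⟩
        intro h
        exact congrArg Subtype.val (hw h)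
    rw [this, Submodule.finrank_map_subtype_eq]
  have hfix₁ : fixOn ρ H ⊓ V₁ = fixOn ρ (F ⊔ H) := by
    rw [fixOn_sup, inf_comm]
  -- decomposition of the fixed space of H
  have hdecomp : fixOn ρ H = (fixOn ρ H ⊓ V₁) ⊔ (fixOn ρ H ⊓ V₂) := by
    apply le_antisymm
    · intro v hv
      have hv' := mem_fixOn.mp hv
      set e : V := (Fintype.card ↥F : k)⁻¹ • NF v with he
      have heV₁ : e ∈ V₁ := by
        rw [he]
        apply Submodule.smul_mem
        rw [← hrange]
        exact ⟨v, rfl⟩
      have heH : e ∈ fixOn ρ H := by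
        rw [mem_fixOn]
        intro h hh
        rw [he, map_smul]
        congr 1
        calc ρ h (NF v) = (ρ h * NF) v := rfl
          _ = (NF * ρ h) v := by rw [hNF_conj]
          _ = NF (ρ h v) := rfl
          _ = NF v := by rw [hv' h hh]
      have hdV₂ : v - e ∈ V₂ := by
        show NF (v - e) = 0
        rw [map_sub, he, map_smul, hNF_fix (NF v) (hrange ▸ ⟨v, rfl⟩), smul_smul,
          inv_mul_cancel₀ hcharF, one_smul, sub_self]
      have hdH : v - e ∈ fixOn ρ H := Submodule.sub_mem _ hv heH
      have : v = e + (v - e) := by abel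
      rw [this]
      exact Submodule.add_mem _ (Submodule.mem_sup_left ⟨heH, heV₁⟩)
        (Submodule.mem_sup_right ⟨hdH, hdV₂⟩)
    · exact sup_le inf_le_left inf_le_left
  have hfixH : finrank k (fixOn ρ H) = finrank k (fixOn ρ (F ⊔ H)) + finrank k W := by
    have h1 := Submodule.finrank_sup_add_finrank_inf_eq (fixOn ρ H ⊓ V₁) (fixOn ρ H ⊓ V₂)
    have h2 : (fixOn ρ H ⊓ V₁) ⊓ (fixOn ρ H ⊓ V₂) = ⊥ := by
      rw [eq_bot_iff, ← hdisj]
      exact inf_le_inf inf_le_right inf_le_right
    rw [h2, finrank_bot, add_zero, ← hdecomp, hfix₁, hfix₂] at h1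
    exact h1
  rw [hfixH, ← hdim, ← hW2]
  ring

end Formula

end FreeMod
end Cfsg.Agent.Lib.Helper17
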