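import Mathlib
import Cfsg.Agent.Lib.Helper17.ESMod1
import Cfsg.Agent.Lib.Helper17.ESMod2
import Cfsg.Agent.Lib.Helper17.ESMod3
import Cfsg.Agent.Lib.Helper17.FreeMod9
import Cfsg.Agent.Lib.Helper2.GlaubFrobComb

/-!
# The core theorem on irreducible modules for `Q⟨x⟩`, `Q` of class two, `C_V(x) = 0`
-/

set_option autoImplicit false

namespace Cfsg.Agent.Lib.Helper17
namespace ESMod

open Module
open scoped commutatorElement

/-- an element of prime order is a power of each of its nontrivial powers. -/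
theorem gen_of_prime {G : Type*} [Group G] (a : G) {r : ℕ} (hr : r.Prime) (har : a ^ r = 1)
    (j : ℕ) (hj : a ^ j ≠ 1) : ∃ m : ℕ, (a ^ j) ^ m = a := by
  have hnd : ¬ r ∣ j := by
    rintro ⟨k, rfl⟩
    apply hj
    rw [pow_mul, har, one_pow]
  have hcop : Nat.Coprime j r := ((Nat.Prime.coprime_iff_not_dvd hr).mpr hnd).symm
  obtain ⟨m, -, hm⟩ := Nat.exists_mul_mod_eq_one_of_coprime hcop hr.one_lt
  refine ⟨m, ?_⟩
  rw [← pow_mul, pow_eq_pow_mod (j * m) har, hm, pow_one]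

/-- elements of `zpowers x` are natural powers when `x` has finite order. -/
theorem exists_pow_of_mem_zpowers {G : Type*} [Group G] (x : G) {r : ℕ} (hr : 0 < r)
    (hx : x ^ r = 1) (y : G) (hy : y ∈ Subgroup.zpowers x) : ∃ j : ℕ, y = x ^ j := by
  obtain ⟨k, rfl⟩ := Subgroup.mem_zpowers_iff.mp hy
  refine ⟨(k % (r : ℤ)).toNat, ?_⟩
  rw [zpow_eq_zpow_emod' k hx]
  have h0 : 0 ≤ k % (r : ℤ) := Int.emod_nonneg _ (by exact_mod_cast hr.ne')
  conv_lhs => rw [← Int.toNat_of_nonneg h0]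
  rw [zpow_natCast]

/-- the arithmetic of multiplicities. -/
theorem arith_two {ι : Type*} [Fintype ι] [DecidableEq ι] (v : ι → ℕ) (i₁ : ι) (hv1 : v i₁ = 0)
    (r d : ℕ) (hcard : Fintype.card ι = r) (hsum : ∑ l, v l = d) (hd : 0 < d)
    (hform : r + d * d = r * ∑ l, (v l) ^ 2 + 1) : d = 1 ∨ d = r - 1 := by
  have hsumZ : ∑ k, (v k : ℤ) = (d : ℤ) := by exact_mod_cast hsum
  have hformZ : (r : ℤ) + (d : ℤ) * d = r * ∑ l, ((v l : ℤ)) ^ 2 + 1 := by exact_mod_cast hform
  have h : (Fintype.card ι : ℤ) * ∑ k, (v k : ℤ) ^ 2 + 1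
      ≤ (∑ k, (v k : ℤ)) ^ 2 + Fintype.card ι := by
    rw [hcard, hsumZ]
    nlinarith
  rcases Cfsg.Agent.Lib.Helper2.Glaub.two_values v h with ⟨q, hq⟩ | ⟨ε, hε, i₀, q, hq⟩
  · exfalso
    have hq0 : q = 0 := by rw [← hq i₁, hv1]
    have : ∑ l, v l = 0 := Finset.sum_eq_zero (fun k _ => by rw [hq k, hq0])
    omega
  · have hsum2 : (d : ℤ) = r * q + ε := by
      rw [← hsumZ, Finset.sum_congr rfl (fun k _ => hq k), Finset.sum_add_distrib,
        Finset.sum_const, Finset.card_univ, hcard, Finset.sum_ite_eq' Finset.univ i₀,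
        if_pos (Finset.mem_univ _)]
      simp
    by_cases hi : i₁ = i₀
    · have h1 := hq i₁
      rw [hv1, if_pos hi] at h1
      right
      rcases hε with rfl | rfl
      · exfalso
        have : (0 : ℤ) ≤ q := Int.natCast_nonneg q
        push_cast at h1
        omega
      · have hq1 : (q : ℤ) = 1 := by push_cast at h1; omega
        rw [hq1] at hsum2
        omega
    · have h1 := hq i₁
      rw [hv1, if_neg hi] at h1
      have hq0 : (q : ℤ) = 0 := by push_cast at h1; omega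
      have h2 := hq i₀
      rw [if_pos rfl, hq0] at h2
      left
      rcases hε with rfl | rfl
      · rw [hq0] at hsum2
        omega
      · exfalso
        have : (0 : ℤ) ≤ v i₀ := Int.natCast_nonneg _
        omega

section Core

universe u

variable {K : Type*} [Field K] [IsAlgClosed K] {Γ : Type*} [Group Γ] [Finite Γ]
  {V : Type u} [AddCommGroup V] [Module K V] [FiniteDimensional K V] [Nontrivial V]

theorem core_irr (ρ : Representation K Γ V) (Q : Subgroup Γ) [hQn : Q.Normal] (x : Γ) {r : ℕ}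
    (hr : r.Prime) (hx : x ^ r = 1) (hxQ : x ∉ Q)
    (hrK : (r : K) ≠ 0) (hQK : (Nat.card Q : K) ≠ 0)
    (hgen : ∀ g : Γ, ∃ s ∈ Q, ∃ j : ℕ, g = s * x ^ j)
    (hirr : ∀ U : Submodule K V, (∀ g : Γ, ∀ u ∈ U, ρ g u ∈ U) → U = ⊥ ∨ U = ⊤)
    (hfix : ∀ v, ρ x v = v → v = 0)
    (hcl : ∀ s ∈ Q, ∀ t ∈ Q, ∀ u ∈ Q, ⁅s, t⁆ * u = u * ⁅s, t⁆)
    (Z : Subgroup Γ) (hZ : ∀ g, g ∈ Z ↔ g ∈ Q ∧ ∀ t ∈ Q, ρ g * ρ t = ρ t * ρ g)
    (hfpf : ∀ f ∈ Q, ⁅x, f⁆ ∈ Z → f ∈ Z) :
    Nat.card Q = (finrank K V) ^ 2 * Nat.card Z ∧ (finrank K V = 1 ∨ finrank K V = r - 1) := by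
  classical
  have hB : ∀ b : Module.End K V, (∀ s ∈ Q, b * ρ s = ρ s * b) → ∃ c : K, b = c • 1 :=
    fun b hb => endQ_scalar ρ Q x hr hx hrK hgen hirr hfix b hb
  have hZQ : Z ≤ Q := fun g hg => ((hZ g).mp hg).1
  -- part 1
  have hcard : Nat.card Q = (finrank K V) ^ 2 * Nat.card Z := by
    let R : Representation K ↥Q V := ρ.comp Q.subtype
    have h1 := finrank_sq_mul_card R (fun b hb => hB b (fun s hs => hb ⟨s, hs⟩))
      (fun s t u => by
        apply Subtype.ext
        have := hcl s s.2 t t.2 u u.2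
        simpa [commutatorElement_def] using this)
      hQK (Z.subgroupOf Q) (fun s => by
        rw [Subgroup.mem_subgroupOf, hZ]
        constructor
        · intro h t
          exact h.2 t t.2
        · intro h
          exact ⟨s.2, fun t ht => h ⟨t, ht⟩⟩)
    rw [h1, Nat.card_congr (Subgroup.subgroupOfEquivOfLe hZQ).toEquiv]
  refine ⟨hcard, ?_⟩
  -- Z is scalar and normal
  have hZsc : ∀ z ∈ Z, ∃ c : K, ρ z = c • 1 := by
    intro z hz
    apply hB
    intro s hs
    exact ((hZ z).mp hz).2 s hs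
  have hscomm : ∀ (c : K) (e : Module.End K V), (c • (1 : Module.End K V)) * e = e * (c • 1) := by
    intro c e
    rw [smul_mul_assoc, one_mul, mul_smul_comm, mul_one]
  have hinvr : ∀ g : Γ, ρ g * ρ g⁻¹ = 1 := fun g => by rw [← map_mul, mul_inv_cancel, map_one]
  have hinvl : ∀ g : Γ, ρ g⁻¹ * ρ g = 1 := fun g => by rw [← map_mul, inv_mul_cancel, map_one]
  have hZn : Z.Normal := by
    constructor
    intro z hz g
    obtain ⟨c, hc⟩ := hZsc z hz
    have h1 : ρ (g * z * g⁻¹) = c • 1 := by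
      rw [map_mul, map_mul, hc, ← hscomm, mul_assoc, hinvr, mul_one]
    rw [hZ]
    refine ⟨hQn.conj_mem z (hZQ hz) g, fun t _ => ?_⟩
    rw [h1, hscomm]
  have hcommZ : ∀ s ∈ Q, ∀ t ∈ Q, ⁅s, t⁆ ∈ Z := by
    intro s hs t ht
    rw [hZ]
    refine ⟨?_, fun u hu => ?_⟩
    · rw [commutatorElement_def]
      exact Q.mul_mem (Q.mul_mem (Q.mul_mem hs ht) (Q.inv_mem hs)) (Q.inv_mem ht)
    · rw [← map_mul, ← map_mul, hcl s hs t ht u hu]
  -- the adjoint representation
  let Ad : Representation K Γ (V →ₗ[K] V) := Representation.linHom ρ ρ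
  have hAd : ∀ (g : Γ) (e : V →ₗ[K] V), Ad g e = ρ g * e * ρ g⁻¹ := by
    intro g e
    show ρ g ∘ₗ e ∘ₗ ρ g⁻¹ = ρ g * e * ρ g⁻¹
    rw [Module.End.mul_eq_comp, Module.End.mul_eq_comp, LinearMap.comp_assoc]
  have hAdZ : Z ≤ (Ad : Γ →* Module.End K (V →ₗ[K] V)).ker := by
    intro z hz
    rw [MonoidHom.mem_ker]
    apply LinearMap.ext
    intro e
    rw [hAd]
    obtain ⟨c, hc⟩ := hZsc z hz
    rw [hc, hscomm, mul_assoc, ← hc, hinvr, mul_one]
    rfl
  let Ad' : Representation K (Γ ⧸ Z) (V →ₗ[K] V) := QuotientGroup.lift Z Ad hAdZ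
  have hAd' : ∀ (g : Γ) (e : V →ₗ[K] V),
      Ad' (QuotientGroup.mk g) e = ρ g * e * ρ g⁻¹ := by
    intro g e
    rw [← hAd]
    rfl
  let π : Γ →* Γ ⧸ Z := QuotientGroup.mk' Z
  have hπ : ∀ g : Γ, π g = QuotientGroup.mk g := fun g => rfl
  let F : Subgroup (Γ ⧸ Z) := Q.map π
  let H : Subgroup (Γ ⧸ Z) := (Subgroup.zpowers x).map π
  have hFn : F.Normal := Subgroup.Normal.map hQn π (QuotientGroup.mk'_surjective Z)
  have hFc : ∀ a b : ↥F, a * b = b * a := by
    rintro ⟨a, s, hs, rfl⟩ ⟨b, t, ht, rfl⟩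
    apply Subtype.ext
    show π s * π t = π t * π s
    rw [← map_mul, ← map_mul, hπ, hπ, QuotientGroup.eq]
    have h1 : (s * t)⁻¹ * (t * s) = ⁅t⁻¹, s⁻¹⁆ := by
      rw [commutatorElement_def]; group
    rw [h1]
    exact hcommZ _ (Q.inv_mem ht) _ (Q.inv_mem hs)
  have hnil : Group.IsNilpotent ↥F := by
    let _ : CommGroup ↥F := { (inferInstance : Group ↥F) with mul_comm := hFc }
    exact CommGroup.isNilpotent
  have hchar : (Nat.card ↥F : K) ≠ 0 := by
    obtain ⟨m, hm⟩ := Subgroup.card_map_dvd Q π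
    intro h
    apply hQK
    rw [hm, Nat.cast_mul, h, zero_mul]
  have hπx1 : π x ≠ 1 := by
    intro h
    rw [hπ, QuotientGroup.eq_one_iff] at h
    exact hxQ (hZQ h)
  have hπxr : (π x) ^ r = 1 := by rw [← map_pow, hx, map_one]
  have hfpf' : ∀ h ∈ H, h ≠ 1 → ∀ f ∈ F, h * f * h⁻¹ = f → f = 1 := by
    rintro h ⟨y, hy, rfl⟩ h1 f ⟨s, hs, rfl⟩ hcomm
    obtain ⟨j, rfl⟩ := exists_pow_of_mem_zpowers x hr.pos hx y hy
    rw [map_pow] at h1 hcomm
    obtain ⟨m, hm⟩ := gen_of_prime (π x) hr hπxr j h1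
    have hc1 : (π x) ^ j * π s = π s * (π x) ^ j := by
      calc (π x) ^ j * π s = ((π x) ^ j * π s * ((π x) ^ j)⁻¹) * (π x) ^ j := by group
        _ = π s * (π x) ^ j := by rw [hcomm]
    have hc2 : π x * π s = π s * π x := by
      have : Commute ((π x) ^ j) (π s) := hc1
      have h2 := this.pow_left m
      rw [hm] at h2
      exact h2
    have hc3 : ⁅x, s⁆ ∈ Z := by
      rw [← QuotientGroup.eq_one_iff, ← hπ, commutatorElement_def, map_mul, map_mul, map_mul,
        map_inv, map_inv, hc2]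
      group
    have := hfpf s hs hc3
    rw [hπ, QuotientGroup.eq_one_iff]
    exact this
  -- fixed spaces
  let S : Submodule K (V →ₗ[K] V) := Submodule.span K {(1 : V →ₗ[K] V)}
  have hSfix : ∀ e ∈ S, ∀ a : Γ ⧸ Z, Ad' a e = e := by
    intro e he a
    obtain ⟨c, rfl⟩ := Submodule.mem_span_singleton.mp he
    obtain ⟨g, rfl⟩ := QuotientGroup.mk_surjective a
    rw [hAd', ← hscomm, mul_assoc, hinvr, mul_one]
  have hfixF : FreeMod.fixOn Ad' F = S := by
    apply le_antisymm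
    · intro e he
      rw [FreeMod.mem_fixOn] at he
      have h1 : ∀ s ∈ Q, e * ρ s = ρ s * e := by
        intro s hs
        have h2 := he (π s) ⟨s, hs, rfl⟩
        rw [hπ, hAd'] at h2
        calc e * ρ s = (ρ s * e * ρ s⁻¹) * ρ s := by rw [h2]
          _ = ρ s * e := by rw [mul_assoc, hinvl, mul_one]
      obtain ⟨c, hc⟩ := hB e h1
      rw [hc]
      exact Submodule.smul_mem _ _ (Submodule.subset_span rfl)
    · intro e he
      rw [FreeMod.mem_fixOn]
      intro a _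
      exact hSfix e he a
  have hfixFH : FreeMod.fixOn Ad' (F ⊔ H) = S := by
    rw [FreeMod.fixOn_sup, hfixF]
    apply inf_eq_left.mpr
    intro e he
    rw [FreeMod.mem_fixOn]
    intro a _
    exact hSfix e he a
  have hfixH : FreeMod.fixOn Ad' H = commutant (ρ x) := by
    ext e
    rw [FreeMod.mem_fixOn, mem_commutant]
    constructor
    · intro he
      have h2 := he (π x) ⟨x, Subgroup.mem_zpowers x, rfl⟩
      rw [hπ, hAd'] at h2
      calc e * ρ x = (ρ x * e * ρ x⁻¹) * ρ x := by rw [h2]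
        _ = ρ x * e := by rw [mul_assoc, hinvl, mul_one]
    · rintro he h ⟨y, hy, rfl⟩
      obtain ⟨j, rfl⟩ := exists_pow_of_mem_zpowers x hr.pos hx y hy
      rw [hπ, hAd']
      have h1 : Commute e (ρ x) := he
      have h2 : e * ρ (x ^ j) = ρ (x ^ j) * e := by
        rw [map_pow]
        exact h1.pow_right j
      rw [← h2, mul_assoc, hinvr, mul_one]
  have hcardH : Nat.card ↥H = r := by
    have h1 : H = Subgroup.zpowers (π x) := MonoidHom.map_zpowers π x
    rw [h1, Nat.card_zpowers]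
    have : Fact r.Prime := ⟨hr⟩
    exact orderOf_eq_prime hπxr hπx1
  have hform := FreeMod.frobenius_dim_formula Ad' F H hnil hchar hfpf'
  rw [hfixF, hfixFH, hfixH, hcardH] at hform
  have hS1 : finrank K ↥S = 1 := finrank_span_singleton one_ne_zero
  have hE : finrank K (V →ₗ[K] V) = finrank K V * finrank K V :=
    Module.finrank_linearMap K K V V
  rw [hS1, hE] at hform
  -- eigenvalue multiplicities
  have hgr : (ρ x) ^ r = 1 := by rw [← map_pow, hx, map_one]
  obtain ⟨hsumv, hcommv⟩ := finrank_commutant (ρ x) hr.pos hgr hrK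
  rw [hcommv] at hform
  have : NeZero (r : K) := ⟨hrK⟩
  obtain ⟨ζ, hζ⟩ := HasEnoughRootsOfUnity.exists_primitiveRoot K r
  have hcardι : Fintype.card ↥(Polynomial.nthRootsFinset r (1 : K)) = r := by
    rw [Fintype.card_coe]
    exact hζ.card_nthRootsFinset
  let l₁ : ↥(Polynomial.nthRootsFinset r (1 : K)) :=
    ⟨1, (Polynomial.mem_nthRootsFinset hr.pos (1 : K)).mpr (one_pow r)⟩
  have hv1 : finrank K (Module.End.eigenspace (ρ x) ((l₁ : ↥(Polynomial.nthRootsFinset r (1 : K))) : K)) = 0 := by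
    have : Module.End.eigenspace (ρ x) (1 : K) = ⊥ := by
      rw [eq_bot_iff]
      intro v hv
      rw [Module.End.mem_eigenspace_iff, one_smul] at hv
      rw [Submodule.mem_bot]
      exact hfix v hv
    show finrank K (Module.End.eigenspace (ρ x) (1 : K)) = 0
    rw [this, finrank_bot]
  have hd : 0 < finrank K V := Module.finrank_pos
  exact arith_two (fun l : ↥(Polynomial.nthRootsFinset r (1 : K)) =>
      finrank K (Module.End.eigenspace (ρ x) (l : K))) l₁ hv1 r (finrank K V) hcardι hsumv hd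
    (by rw [mul_one] at hform; exact hform)

end Core

end ESMod
end Cfsg.Agent.Lib.Helper17
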