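import Mathlib
import Cfsg.Agent.Lib.Helper17.ESMod4

/-!
# The core theorem over an arbitrary field (base change, irreducible constituents)
-/

set_option autoImplicit false

namespace Cfsg.Agent.Lib.Helper17
namespace ESMod

open Module TensorProduct
open scoped commutatorElement

section Sub

variable {K : Type*} [Field K] {Γ : Type*} [Group Γ]
  {V : Type*} [AddCommGroup V] [Module K V]

/-- the subrepresentation on an invariant subspace. -/
def subRep (ρ : Representation K Γ V) (W : Submodule K V)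
    (hW : ∀ g : Γ, ∀ w ∈ W, ρ g w ∈ W) : Representation K Γ ↥W where
  toFun g := (ρ g).restrict (hW g)
  map_one' := by
    apply LinearMap.ext
    intro w
    apply Subtype.ext
    simp
  map_mul' g h := by
    apply LinearMap.ext
    intro w
    apply Subtype.ext
    simp

theorem subRep_coe (ρ : Representation K Γ V) (W : Submodule K V)
    (hW : ∀ g : Γ, ∀ w ∈ W, ρ g w ∈ W) (g : Γ) (w : ↥W) :
    ((subRep ρ W hW g w : ↥W) : V) = ρ g (w : V) := rfl

theorem exists_min_invariant [FiniteDimensional K V] (ρ : Representation K Γ V)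
    (U : Submodule K V) (hU : U ≠ ⊥) (hUinv : ∀ g : Γ, ∀ u ∈ U, ρ g u ∈ U) :
    ∃ W : Submodule K V, W ≤ U ∧ W ≠ ⊥ ∧ (∀ g : Γ, ∀ w ∈ W, ρ g w ∈ W) ∧
      ∀ W' : Submodule K V, W' ≤ W → (∀ g : Γ, ∀ w ∈ W', ρ g w ∈ W') → W' = ⊥ ∨ W' = W := by
  let S : Set (Submodule K V) := {W | W ≤ U ∧ W ≠ ⊥ ∧ ∀ g : Γ, ∀ w ∈ W, ρ g w ∈ W}
  have hne : S.Nonempty := ⟨U, le_refl _, hU, hUinv⟩
  obtain ⟨W, hWS, hmin⟩ := WellFounded.has_min (wellFounded_lt (α := Submodule K V)) S hne
  refine ⟨W, hWS.1, hWS.2.1, hWS.2.2, ?_⟩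
  intro W' hle hinv
  by_cases h0 : W' = ⊥
  · exact Or.inl h0
  · right
    have hW'S : W' ∈ S := ⟨hle.trans hWS.1, h0, hinv⟩
    exact eq_of_le_of_not_lt hle (hmin W' hW'S)

theorem subRep_irr (ρ : Representation K Γ V) (W : Submodule K V)
    (hW : ∀ g : Γ, ∀ w ∈ W, ρ g w ∈ W)
    (hmin : ∀ W' : Submodule K V, W' ≤ W → (∀ g : Γ, ∀ w ∈ W', ρ g w ∈ W') → W' = ⊥ ∨ W' = W)
    (U : Submodule K ↥W) (hU : ∀ g : Γ, ∀ u ∈ U, subRep ρ W hW g u ∈ U) : U = ⊥ ∨ U = ⊤ := by
  have h1 : U.map W.subtype ≤ W := by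
    rintro _ ⟨u, _, rfl⟩
    exact u.2
  have h2 : ∀ g : Γ, ∀ w ∈ U.map W.subtype, ρ g w ∈ U.map W.subtype := by
    rintro g _ ⟨u, hu, rfl⟩
    exact ⟨subRep ρ W hW g u, hU g u hu, rfl⟩
  rcases hmin _ h1 h2 with h | h
  · left
    rw [eq_bot_iff]
    intro u hu
    have : (u : V) ∈ U.map W.subtype := ⟨u, hu, rfl⟩
    rw [h, Submodule.mem_bot] at this
    rw [Submodule.mem_bot]
    exact Subtype.ext this
  · right
    rw [eq_top_iff]
    intro u _
    have : (u : V) ∈ U.map W.subtype := by rw [h]; exact u.2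
    obtain ⟨u', hu', hu''⟩ := this
    have : u' = u := Subtype.ext hu''
    rw [← this]
    exact hu'

end Sub

section BC

variable {k : Type*} [Field k] (K : Type*) [Field K] [Algebra k K] {Γ : Type*} [Group Γ]
  {M : Type*} [AddCommGroup M] [Module k M]

/-- base change of a representation. -/
noncomputable def bcRep (ρ : Representation k Γ M) : Representation K Γ (K ⊗[k] M) :=
  ((Module.End.baseChangeHom k K M : Module.End k M →ₐ[k] Module.End K (K ⊗[k] M)) :
    Module.End k M →* Module.End K (K ⊗[k] M)).comp ρ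

theorem bcRep_apply (ρ : Representation k Γ M) (g : Γ) :
    bcRep K ρ g = Module.End.baseChangeHom k K M (ρ g) := rfl

theorem bcRep_eq_one (ρ : Representation k Γ M) (g : Γ) (h : bcRep K ρ g = 1) : ρ g = 1 := by
  rw [bcRep_apply] at h
  have hinj : Function.Injective (Module.End.baseChangeHom k K M) :=
    LinearMap.baseChangeHom_injective k M K
  apply hinj
  rw [h, map_one]

theorem bcRep_fix (ρ : Representation k Γ M) (x : Γ) (hfix : ∀ v, ρ x v = v → v = 0) :
    ∀ v, bcRep K ρ x v = v → v = 0 := by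
  have hinj : Function.Injective (ρ x - 1 : Module.End k M) := by
    rw [← LinearMap.ker_eq_bot, eq_bot_iff]
    intro v hv
    rw [LinearMap.mem_ker, LinearMap.sub_apply, Module.End.one_apply, sub_eq_zero] at hv
    rw [Submodule.mem_bot]
    exact hfix v hv
  have hinj2 : Function.Injective ((ρ x - 1 : Module.End k M).lTensor K) :=
    Module.Flat.lTensor_preserves_injective_linearMap _ hinj
  intro v hv
  have h1 : (Module.End.baseChangeHom k K M (ρ x - 1)) v = 0 := by
    rw [map_sub, map_one, LinearMap.sub_apply, Module.End.one_apply, ← bcRep_apply, hv, sub_self]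
  have h2 : ((ρ x - 1 : Module.End k M).lTensor K) v = 0 := h1
  have h3 : ((ρ x - 1 : Module.End k M).lTensor K) v = ((ρ x - 1 : Module.End k M).lTensor K) 0 := by
    rw [h2, map_zero]
  exact hinj2 h3

end BC

section Norm

variable {K : Type*} [Field K] {Γ : Type*} [Group Γ]
  {V : Type*} [AddCommGroup V] [Module K V]

/-- the norm element of a normal subgroup commutes with the group. -/
theorem norm_comm (ρ : Representation K Γ V) (D : Subgroup Γ) [Fintype ↥D] [hD : D.Normal] (g : Γ) :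
    (∑ z : ↥D, ρ (z : Γ)) * ρ g = ρ g * ∑ z : ↥D, ρ (z : Γ) := by
  rw [Finset.sum_mul, Finset.mul_sum]
  let e : ↥D ≃ ↥D := (MulAut.conjNormal g⁻¹ : ↥D ≃* ↥D).toEquiv
  have he : ∀ z : ↥D, ((e z : ↥D) : Γ) = g⁻¹ * z * g := by
    intro z
    have := MulAut.conjNormal_apply (H := D) g⁻¹ z
    rw [inv_inv] at this
    exact this
  rw [← Equiv.sum_comp e (fun z => ρ g * ρ (z : Γ))]
  apply Finset.sum_congr rfl
  intro z _
  rw [he, ← map_mul, ← map_mul]
  congr 1
  group

theorem norm_absorb (ρ : Representation K Γ V) (D : Subgroup Γ) [Fintype ↥D] (d : Γ) (hd : d ∈ D) :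
    (∑ z : ↥D, ρ (z : Γ)) * ρ d = ∑ z : ↥D, ρ (z : Γ) := by
  rw [Finset.sum_mul]
  let e : ↥D ≃ ↥D := Equiv.mulRight ⟨d, hd⟩
  rw [← Equiv.sum_comp e (fun z => ρ (z : Γ))]
  apply Finset.sum_congr rfl
  intro z _
  rw [← map_mul]
  rfl

end Norm

end ESMod
end Cfsg.Agent.Lib.Helper17
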