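import Mathlib
import Cfsg.Agent.Lib.Helper17.ESMod5

/-!
# The core theorem over an arbitrary field: statement `core_gen'`
-/

set_option autoImplicit false

namespace Cfsg.Agent.Lib.Helper17
namespace ESMod

open Module TensorProduct
open scoped commutatorElement

theorem rep_comm_iff {K : Type*} [Field K] {Γ : Type*} [Group Γ] {W : Type*} [AddCommGroup W]
    [Module K W] (σ : Representation K Γ W) (g t : Γ) :
    σ ⁅g, t⁆ = 1 ↔ σ g * σ t = σ t * σ g := by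
  have h1 : ⁅g, t⁆ * (t * g) = g * t := by
    rw [commutatorElement_def]; group
  have h2 : σ ⁅g, t⁆ * σ (t * g) = σ (g * t) := by rw [← map_mul, h1]
  constructor
  · intro h
    rw [h, one_mul] at h2
    rw [← map_mul, ← map_mul, h2]
  · intro h
    rw [← map_mul, ← map_mul] at h
    rw [h] at h2
    have h3 : σ (t * g) * σ (t * g)⁻¹ = 1 := by rw [← map_mul, mul_inv_cancel, map_one]
    calc σ ⁅g, t⁆ = σ ⁅g, t⁆ * (σ (t * g) * σ (t * g)⁻¹) := by rw [h3, mul_one]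
      _ = (σ ⁅g, t⁆ * σ (t * g)) * σ (t * g)⁻¹ := by rw [mul_assoc]
      _ = 1 := by rw [h2, h3]

theorem core_gen' {k : Type*} [Field k] {Γ : Type*} [Group Γ] [Finite Γ]
    {M : Type*} [AddCommGroup M] [Module k M] [FiniteDimensional k M]
    (ρ : Representation k Γ M) (Q : Subgroup Γ) [hQn : Q.Normal] (x : Γ) {r : ℕ}
    (hr : r.Prime) (hx : x ^ r = 1) (hxQ : x ∉ Q)
    (hrk : (r : k) ≠ 0) (hQk : (Nat.card Q : k) ≠ 0)
    (hgen : ∀ g : Γ, ∃ s ∈ Q, ∃ j : ℕ, g = s * x ^ j)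
    (hfix : ∀ v, ρ x v = v → v = 0)
    (hcl : ∀ s ∈ Q, ∀ t ∈ Q, ∀ u ∈ Q, ⁅s, t⁆ * u = u * ⁅s, t⁆)
    (hnt : ∃ s ∈ Q, ∃ t ∈ Q, ρ ⁅s, t⁆ ≠ 1)
    (hstar : ∀ N : Subgroup Γ, N.Normal → N ≤ Q → (∃ s ∈ Q, ∃ t ∈ Q, ⁅s, t⁆ ∉ N) →
      ∀ f ∈ Q, (∀ t ∈ Q, ⁅⁅x, f⁆, t⁆ ∈ N) → ∀ t ∈ Q, ⁅f, t⁆ ∈ N) :
    ∃ N : Subgroup Γ, N.Normal ∧ N ≤ Q ∧ (∃ s ∈ Q, ∃ t ∈ Q, ⁅s, t⁆ ∉ N) ∧
      ∃ Z : Subgroup Γ, (∀ g, g ∈ Z ↔ g ∈ Q ∧ ∀ t ∈ Q, ⁅g, t⁆ ∈ N) ∧
        Nat.card Q = (r - 1) ^ 2 * Nat.card Z := by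
  classical
  let K := AlgebraicClosure k
  let ρK : Representation K Γ (K ⊗[k] M) := bcRep K ρ
  have hfixK : ∀ v, ρK x v = v → v = 0 := bcRep_fix K ρ x hfix
  have hcast : ∀ n : ℕ, (n : k) ≠ 0 → (n : K) ≠ 0 := by
    intro n hn h
    apply hn
    have h1 : algebraMap k K (n : k) = 0 := by rw [map_natCast]; exact h
    exact (map_eq_zero (algebraMap k K)).mp h1
  have hrK := hcast r hrk
  have hQK := hcast _ hQk
  -- D and its norm
  let D : Subgroup Γ := ⁅Q, Q⁆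
  have hDn : D.Normal := Subgroup.commutator_normal Q Q
  have hDQ : D ≤ Q := Subgroup.commutator_le_right Q Q
  have : Fintype ↥D := Fintype.ofFinite _
  have hDK : (Nat.card ↥D : K) ≠ 0 := by
    obtain ⟨m, hm⟩ := Subgroup.card_dvd_of_le hDQ
    intro h
    apply hQK
    rw [hm, Nat.cast_mul, h, zero_mul]
  let ND : Module.End K (K ⊗[k] M) := ∑ z : ↥D, ρK (z : Γ)
  let U : Submodule K (K ⊗[k] M) := LinearMap.ker ND
  have hUinv : ∀ g : Γ, ∀ u ∈ U, ρK g u ∈ U := by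
    intro g u hu
    rw [LinearMap.mem_ker] at hu ⊢
    have := congrArg (fun f => f u) (norm_comm ρK D g)
    simp only [Module.End.mul_apply] at this
    rw [this, hu, map_zero]
  have hU : U ≠ ⊥ := by
    intro h
    obtain ⟨s, hs, t, ht, hst⟩ := hnt
    apply hst
    apply bcRep_eq_one K ρ
    have hmem : ⁅s, t⁆ ∈ D := Subgroup.commutator_mem_commutator hs ht
    have hinj : Function.Injective ND := LinearMap.ker_eq_bot.mp h
    apply LinearMap.ext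
    intro v
    apply hinj
    have := congrArg (fun f => f v) (norm_absorb ρK D ⁅s, t⁆ hmem)
    simp only [Module.End.mul_apply] at this
    rw [Module.End.one_apply]
    exact this
  obtain ⟨W, hWU, hW0, hWinv, hWmin⟩ := exists_min_invariant ρK U hU hUinv
  let ρW : Representation K Γ ↥W := subRep ρK W hWinv
  have : Nontrivial ↥W := Submodule.nontrivial_iff_ne_bot.mpr hW0
  -- N
  let N : Subgroup Γ := Q ⊓ (ρW : Γ →* Module.End K ↥W).ker
  have hNn : N.Normal := Subgroup.normal_inf_normal Q _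
  have hNQ : N ≤ Q := inf_le_left
  have hNex : ∃ s ∈ Q, ∃ t ∈ Q, ⁅s, t⁆ ∉ N := by
    by_contra hcon
    push Not at hcon
    have hDker : D ≤ (ρW : Γ →* Module.End K ↥W).ker := by
      rw [Subgroup.commutator_le]
      intro s hs t ht
      exact (hcon s hs t ht).2
    apply hW0
    rw [eq_bot_iff]
    intro w hw
    have h1 : ND w = 0 := hWU hw
    have h2 : ND w = (Nat.card ↥D : K) • w := by
      show (∑ z : ↥D, ρK (z : Γ)) w = _
      rw [LinearMap.sum_apply]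
      have : ∀ z : ↥D, ρK (z : Γ) w = w := by
        intro z
        have hz := hDker z.2
        rw [MonoidHom.mem_ker] at hz
        have := congrArg (fun f => ((f ⟨w, hw⟩ : ↥W) : K ⊗[k] M)) hz
        exact this
      rw [Finset.sum_congr rfl (fun z _ => this z), Finset.sum_const, Finset.card_univ,
        Nat.card_eq_fintype_card, Nat.cast_smul_eq_nsmul]
    rw [h2] at h1
    rcases smul_eq_zero.mp h1 with h3 | h3
    · exact absurd h3 hDK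
    · rw [Submodule.mem_bot]; exact h3
  -- Z
  have hinvr : ∀ g : Γ, ρW g * ρW g⁻¹ = 1 := fun g => by rw [← map_mul, mul_inv_cancel, map_one]
  have hinvl : ∀ g : Γ, ρW g⁻¹ * ρW g = 1 := fun g => by rw [← map_mul, inv_mul_cancel, map_one]
  let Z : Subgroup Γ :=
    { carrier := {g | g ∈ Q ∧ ∀ t ∈ Q, ρW g * ρW t = ρW t * ρW g}
      mul_mem' := by
        rintro g h ⟨hg, hg'⟩ ⟨hh, hh'⟩
        refine ⟨Q.mul_mem hg hh, fun t ht => ?_⟩
        rw [map_mul, mul_assoc, hh' t ht, ← mul_assoc, hg' t ht, mul_assoc]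
      one_mem' := ⟨Q.one_mem, fun t _ => by rw [map_one, one_mul, mul_one]⟩
      inv_mem' := by
        rintro g ⟨hg, hg'⟩
        refine ⟨Q.inv_mem hg, fun t ht => ?_⟩
        calc ρW g⁻¹ * ρW t = ρW g⁻¹ * ρW t * (ρW g * ρW g⁻¹) := by rw [hinvr, mul_one]
          _ = ρW g⁻¹ * (ρW t * ρW g) * ρW g⁻¹ := by simp only [mul_assoc]
          _ = ρW g⁻¹ * (ρW g * ρW t) * ρW g⁻¹ := by rw [hg' t ht]
          _ = (ρW g⁻¹ * ρW g) * ρW t * ρW g⁻¹ := by simp only [mul_assoc]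
          _ = ρW t * ρW g⁻¹ := by rw [hinvl, one_mul] }
  have hZ : ∀ g, g ∈ Z ↔ g ∈ Q ∧ ∀ t ∈ Q, ρW g * ρW t = ρW t * ρW g := fun g => Iff.rfl
  have hcommQ : ∀ g ∈ Q, ∀ t ∈ Q, ⁅g, t⁆ ∈ Q := by
    intro g hg t ht
    rw [commutatorElement_def]
    exact Q.mul_mem (Q.mul_mem (Q.mul_mem hg ht) (Q.inv_mem hg)) (Q.inv_mem ht)
  have hNmem : ∀ g ∈ Q, ∀ t ∈ Q, (⁅g, t⁆ ∈ N ↔ ρW g * ρW t = ρW t * ρW g) := by
    intro g hg t ht
    rw [← rep_comm_iff (W := ↥W) ρW g t]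
    constructor
    · intro h
      exact MonoidHom.mem_ker.mp h.2
    · intro h
      exact ⟨hcommQ g hg t ht, MonoidHom.mem_ker.mpr h⟩
  have hZchar : ∀ g, g ∈ Z ↔ g ∈ Q ∧ ∀ t ∈ Q, ⁅g, t⁆ ∈ N := by
    intro g
    rw [hZ]
    constructor
    · rintro ⟨hg, h⟩
      exact ⟨hg, fun t ht => (hNmem g hg t ht).mpr (h t ht)⟩
    · rintro ⟨hg, h⟩
      exact ⟨hg, fun t ht => (hNmem g hg t ht).mp (h t ht)⟩
  have hirr := subRep_irr ρK W hWinv hWmin
  have hfixW : ∀ w : ↥W, ρW x w = w → w = 0 := by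
    intro w hw
    apply Subtype.ext
    exact hfixK (w : K ⊗[k] M) (congrArg Subtype.val hw)
  have hfpf : ∀ f ∈ Q, ⁅x, f⁆ ∈ Z → f ∈ Z := by
    intro f hf hxf
    rw [hZchar] at hxf ⊢
    exact ⟨hf, hstar N hNn hNQ hNex f hf hxf.2⟩
  obtain ⟨hcard, hd⟩ := core_irr (K := K) (V := ↥W) ρW Q x hr hx hxQ hrK hQK hgen hirr hfixW hcl Z hZ hfpf
  refine ⟨N, hNn, hNQ, hNex, Z, hZchar, ?_⟩
  rcases hd with hd | hd
  · exfalso
    rw [hd, one_pow, one_mul] at hcard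
    have hZQ : Z ≤ Q := fun g hg => hg.1
    have hZeq : Z = Q := Subgroup.eq_of_le_of_card_ge hZQ (le_of_eq hcard)
    obtain ⟨s, hs, t, ht, hst⟩ := hNex
    apply hst
    have : s ∈ Z := by rw [hZeq]; exact hs
    exact ((hZchar s).mp this).2 t ht
  · rw [hcard, hd]

end ESMod
end Cfsg.Agent.Lib.Helper17
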