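import Mathlib
import Cfsg.Agent.Lib.Helper17.ESMod6

/-!
# Group-theoretic lemmas for `Q⟨x⟩`
-/

set_option autoImplicit false

namespace Cfsg.Agent.Lib.Helper17
namespace ESMod

open scoped commutatorElement

section Gen

variable {Γ : Type*} [Group Γ]

theorem conj_pow_mem (Q : Subgroup Γ) (x : Γ) (hxn : ∀ s ∈ Q, x * s * x⁻¹ ∈ Q) (j : ℕ) :
    ∀ s ∈ Q, x ^ j * s * (x ^ j)⁻¹ ∈ Q := by
  induction j with
  | zero => intro s hs; simpa using hs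
  | succ j ih =>
    intro s hs
    have h1 : x ^ (j + 1) * s * (x ^ (j + 1))⁻¹ = x * (x ^ j * s * (x ^ j)⁻¹) * x⁻¹ := by
      rw [pow_succ']; group
    rw [h1]
    exact hxn _ (ih s hs)

theorem inv_pow_eq_pow (x : Γ) {r : ℕ} (hr : 0 < r) (hx : x ^ r = 1) (j : ℕ) :
    (x ^ j)⁻¹ = x ^ (j * (r - 1)) := by
  apply inv_eq_of_mul_eq_one_right
  rw [← pow_add]
  have : j + j * (r - 1) = r * j := by
    obtain ⟨m, rfl⟩ : ∃ m, r = m + 1 := ⟨r - 1, by omega⟩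
    simp only [Nat.add_sub_cancel]
    ring
  rw [this, pow_mul, hx, one_pow]

theorem conj_inv_mem (Q : Subgroup Γ) (x : Γ) {r : ℕ} (hr : 0 < r) (hx : x ^ r = 1)
    (hxn : ∀ s ∈ Q, x * s * x⁻¹ ∈ Q) : ∀ s ∈ Q, x⁻¹ * s * x ∈ Q := by
  intro s hs
  have h1 := conj_pow_mem Q x hxn (1 * (r - 1)) s hs
  rw [← inv_pow_eq_pow x hr hx 1, pow_one, inv_inv] at h1
  exact h1

/-- elements of `Q ⊔ ⟨x⟩` are of the form `s x^j`. -/
theorem sup_zpowers_gen (Q : Subgroup Γ) (x : Γ) {r : ℕ} (hr : 0 < r) (hx : x ^ r = 1)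
    (hxn : ∀ s ∈ Q, x * s * x⁻¹ ∈ Q) :
    ∀ g ∈ Q ⊔ Subgroup.zpowers x, ∃ s ∈ Q, ∃ j : ℕ, g = s * x ^ j := by
  let T : Subgroup Γ :=
    { carrier := {g | ∃ s ∈ Q, ∃ j : ℕ, g = s * x ^ j}
      mul_mem' := by
        rintro _ _ ⟨s, hs, j, rfl⟩ ⟨s', hs', j', rfl⟩
        refine ⟨s * (x ^ j * s' * (x ^ j)⁻¹), Q.mul_mem hs (conj_pow_mem Q x hxn j s' hs'),
          j + j', ?_⟩
        rw [pow_add]; group
      one_mem' := ⟨1, Q.one_mem, 0, by simp⟩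
      inv_mem' := by
        rintro _ ⟨s, hs, j, rfl⟩
        refine ⟨x ^ (j * (r - 1)) * s⁻¹ * (x ^ (j * (r - 1)))⁻¹,
          conj_pow_mem Q x hxn _ _ (Q.inv_mem hs), j * (r - 1), ?_⟩
        rw [mul_inv_rev, inv_pow_eq_pow x hr hx j]; group }
  have hQT : Q ≤ T := fun s hs => ⟨s, hs, 0, by simp⟩
  have hxT : Subgroup.zpowers x ≤ T := by
    rw [Subgroup.zpowers_le]
    exact ⟨1, Q.one_mem, 1, by simp⟩
  intro g hg
  exact (sup_le hQT hxT) hg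

theorem normal_subgroupOf_sup (Q : Subgroup Γ) (x : Γ) {r : ℕ} (hr : 0 < r) (hx : x ^ r = 1)
    (hxn : ∀ s ∈ Q, x * s * x⁻¹ ∈ Q) :
    (Q.subgroupOf (Q ⊔ Subgroup.zpowers x)).Normal := by
  constructor
  intro n hn g
  rw [Subgroup.mem_subgroupOf] at hn ⊢
  obtain ⟨s, hs, j, hg⟩ := sup_zpowers_gen Q x hr hx hxn g.1 g.2
  have h1 : ((g * n * g⁻¹ : ↥(Q ⊔ Subgroup.zpowers x)) : Γ)
      = s * (x ^ j * (n : Γ) * (x ^ j)⁻¹) * s⁻¹ := by
    rw [Subgroup.coe_mul, Subgroup.coe_mul, Subgroup.coe_inv, hg]; group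
  rw [h1]
  exact Q.mul_mem (Q.mul_mem hs (conj_pow_mem Q x hxn j _ hn)) (Q.inv_mem hs)

/-- coprime action: if `[x,f]` commutes with `x` then it is trivial. -/
theorem comm_eq_one_of_comm {q r : ℕ} (hq : q.Prime) (hr : r.Prime) (hqr : q ≠ r)
    (Q : Subgroup Γ) (hQ : IsPGroup q Q) (x : Γ) (hx : x ^ r = 1) (f : Γ)
    (hc : ⁅x, f⁆ ∈ Q) (hcx : x * ⁅x, f⁆ = ⁅x, f⁆ * x) : ⁅x, f⁆ = 1 := by
  set c := ⁅x, f⁆ with hcdef
  have hxf : x * f * x⁻¹ = c * f := by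
    rw [hcdef, commutatorElement_def]; group
  have hcj : ∀ j : ℕ, x * c ^ j * x⁻¹ = c ^ j := by
    intro j
    have : Commute x (c ^ j) := (show Commute x c from hcx).pow_right j
    rw [this.eq, mul_inv_cancel_right]
  have hconj : ∀ j : ℕ, x ^ j * f * (x ^ j)⁻¹ = c ^ j * f := by
    intro j
    induction j with
    | zero => simp
    | succ j ih =>
      have h1 : x ^ (j + 1) * f * (x ^ (j + 1))⁻¹ = x * (x ^ j * f * (x ^ j)⁻¹) * x⁻¹ := by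
        rw [pow_succ']; group
      rw [h1, ih]
      have h2 : x * (c ^ j * f) * x⁻¹ = (x * c ^ j * x⁻¹) * (x * f * x⁻¹) := by group
      rw [h2, hcj, hxf, pow_succ, mul_assoc]
  have h1 := hconj r
  rw [hx, one_mul, inv_one, mul_one] at h1
  have hcr : c ^ r = 1 := by
    have : c ^ r * f = 1 * f := by rw [← h1, one_mul]
    exact mul_right_cancel this
  obtain ⟨a, ha⟩ := hQ ⟨c, hc⟩
  have hca : c ^ (q ^ a) = 1 := by
    have := congrArg Subtype.val ha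
    simpa using this
  have hcop : Nat.Coprime (q ^ a) r := Nat.Coprime.pow_left a ((Nat.coprime_primes hq hr).mpr hqr)
  have h2 : orderOf c ∣ Nat.gcd (q ^ a) r :=
    Nat.dvd_gcd (orderOf_dvd_of_pow_eq_one hca) (orderOf_dvd_of_pow_eq_one hcr)
  rw [hcop.gcd_eq_one, Nat.dvd_one, orderOf_eq_one_iff] at h2
  exact h2

end Gen

end ESMod
end Cfsg.Agent.Lib.Helper17
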