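import Mathlib
import Cfsg.Agent.Lib.Helper17.ESMod7

/-!
# Fixed points of an element of prime order `r` acting on a `q`-group and a module
-/

set_option autoImplicit false

namespace Cfsg.Agent.Lib.Helper17
namespace ESMod

open Module
open scoped commutatorElement

universe u

theorem fixed_aux {k : Type*} [Field k] {M : Type*} [AddCommGroup M] [Module k M]
    [FiniteDimensional k M] {q r : ℕ} (hq : q.Prime) (hr : r.Prime) (hqr : q ≠ r)
    (hqk : (q : k) ≠ 0) (hrk : (r : k) ≠ 0) (n : ℕ) :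
    ∀ (Γ : Type u) [Group Γ] [Finite Γ] (ρ : Representation k Γ M) (Q : Subgroup Γ) [Q.Normal]
      (x : Γ), Nat.card Q = n → IsPGroup q Q → x ^ r = 1 →
      (∀ g : Γ, ∃ s ∈ Q, ∃ j : ℕ, g = s * x ^ j) →
      (∀ g : Γ, ρ g = 1 → g = 1) →
      (q = 2 → (∃ m : ℕ, r = 2 ^ m + 1) → ∀ s ∈ Q, ∀ t ∈ Q, s * t = t * s) →
      (∀ v, ρ x v = v → v = 0) →
      ∀ f ∈ Q, x * f = f * x := by
  induction n using Nat.strong_induction_on with
  | _ n ih =>
  intro Γ _ _ ρ Q hQn x hcard hQ hx hgen hinj hexc hfix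
  by_contra hcon
  push Not at hcon
  obtain ⟨f₀, hf₀Q, hf₀⟩ := hcon
  have hqF : Fact q.Prime := ⟨hq⟩
  have hxn : ∀ s ∈ Q, x * s * x⁻¹ ∈ Q := fun s hs => hQn.conj_mem s hs x
  have hcopr : ∀ a : ℕ, Nat.Coprime (q ^ a) r := fun a =>
    Nat.Coprime.pow_left a ((Nat.coprime_primes hq hr).mpr hqr)
  -- x ∉ Q
  have hxQ : x ∉ Q := by
    intro hxQ'
    obtain ⟨a, ha⟩ := hQ ⟨x, hxQ'⟩
    have hxa : x ^ (q ^ a) = 1 := by simpa using congrArg Subtype.val ha
    have h2 : orderOf x ∣ Nat.gcd (q ^ a) r :=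
      Nat.dvd_gcd (orderOf_dvd_of_pow_eq_one hxa) (orderOf_dvd_of_pow_eq_one hx)
    rw [(hcopr a).gcd_eq_one, Nat.dvd_one, orderOf_eq_one_iff] at h2
    apply hf₀
    rw [h2, one_mul, mul_one]
  -- Step 1: proper invariant subgroups are centralized
  have step1 : ∀ Q₂ : Subgroup Γ, Q₂ ≤ Q → Q₂ ≠ Q → (∀ s ∈ Q₂, x * s * x⁻¹ ∈ Q₂) →
      ∀ f ∈ Q₂, x * f = f * x := by
    intro Q₂ hle hne hinv f hf
    have hlt : Nat.card ↥Q₂ < n := by
      by_contra hge
      push Not at hge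
      rw [← hcard] at hge
      exact hne (Subgroup.eq_of_le_of_card_ge hle hge)
    have hQ₂P : Q₂ ≤ Q₂ ⊔ Subgroup.zpowers x := le_sup_left
    have hxP : x ∈ Q₂ ⊔ Subgroup.zpowers x :=
      (le_sup_right : Subgroup.zpowers x ≤ _) (Subgroup.mem_zpowers x)
    have hn2 := normal_subgroupOf_sup Q₂ x hr.pos hx hinv
    have hcard2 : Nat.card ↥(Q₂.subgroupOf (Q₂ ⊔ Subgroup.zpowers x)) = Nat.card ↥Q₂ :=
      Nat.card_congr (Subgroup.subgroupOfEquivOfLe hQ₂P).toEquiv
    have hP2 : IsPGroup q ↥(Q₂.subgroupOf (Q₂ ⊔ Subgroup.zpowers x)) := by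
      have h1 : IsPGroup q ↥Q₂ := hQ.to_le hle
      exact h1.of_equiv (Subgroup.subgroupOfEquivOfLe hQ₂P).symm
    have key := ih (Nat.card ↥Q₂) hlt ↥(Q₂ ⊔ Subgroup.zpowers x)
      (ρ.comp (Subgroup.subtype _)) (Q₂.subgroupOf _) ⟨x, hxP⟩ hcard2 hP2
      (by apply Subtype.ext; simpa using hx)
      (by
        intro g
        obtain ⟨s, hs, j, hg⟩ := sup_zpowers_gen Q₂ x hr.pos hx hinv g.1 g.2
        refine ⟨⟨s, hQ₂P hs⟩, Subgroup.mem_subgroupOf.mpr hs, j, ?_⟩
        apply Subtype.ext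
        simpa using hg)
      (by
        intro g hg
        apply Subtype.ext
        exact hinj g.1 hg)
      (by
        intro h2 hm s hs t ht
        apply Subtype.ext
        exact hexc h2 hm s.1 (hle (Subgroup.mem_subgroupOf.mp hs)) t.1
          (hle (Subgroup.mem_subgroupOf.mp ht)))
      (by intro v hv; exact hfix v hv)
      ⟨f, hQ₂P hf⟩ (Subgroup.mem_subgroupOf.mpr hf)
    exact congrArg Subtype.val key
  -- (G1)
  have hcommQ : ∀ t ∈ Q, ⁅x, t⁆ ∈ Q := by
    intro t ht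
    rw [commutatorElement_def]
    exact Q.mul_mem (hxn t ht) (Q.inv_mem ht)
  have hG1 : ∀ t ∈ Q, x * ⁅x, t⁆ = ⁅x, t⁆ * x → x * t = t * x := by
    intro t ht h
    have := comm_eq_one_of_comm hq hr hqr Q hQ x hx t (hcommQ t ht) h
    rw [commutatorElement_eq_one_iff_mul_comm] at this
    exact this
  let Q₁ : Subgroup Γ := Subgroup.closure {g | ∃ t ∈ Q, g = ⁅x, t⁆}
  have hQ₁Q : Q₁ ≤ Q := by
    rw [Subgroup.closure_le]
    rintro _ ⟨t, ht, rfl⟩
    exact hcommQ t ht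
  have hQ₁inv : ∀ s ∈ Q₁, x * s * x⁻¹ ∈ Q₁ := by
    intro s hs
    induction hs using Subgroup.closure_induction with
    | mem g hg =>
      obtain ⟨t, ht, rfl⟩ := hg
      apply Subgroup.subset_closure
      refine ⟨x * t * x⁻¹, hxn t ht, ?_⟩
      simp only [commutatorElement_def]; group
    | one =>
      have : x * 1 * x⁻¹ = 1 := by group
      rw [this]; exact Q₁.one_mem
    | mul a b _ _ iha ihb =>
      have : x * (a * b) * x⁻¹ = (x * a * x⁻¹) * (x * b * x⁻¹) := by group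
      rw [this]; exact Q₁.mul_mem iha ihb
    | inv a _ iha =>
      have : x * a⁻¹ * x⁻¹ = (x * a * x⁻¹)⁻¹ := by group
      rw [this]; exact Q₁.inv_mem iha
  have hQ₁eq : Q₁ = Q := by
    by_contra hne
    have h1 := step1 Q₁ hQ₁Q hne hQ₁inv
    apply hf₀
    apply hG1 f₀ hf₀Q
    exact h1 _ (Subgroup.subset_closure ⟨f₀, hf₀Q, rfl⟩)
  have hQgen : ∀ S : Subgroup Γ, (∀ t ∈ Q, ⁅x, t⁆ ∈ S) → Q ≤ S := by
    intro S hS
    rw [← hQ₁eq]
    show Subgroup.closure {g | ∃ t ∈ Q, g = ⁅x, t⁆} ≤ S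
    rw [Subgroup.closure_le]
    rintro _ ⟨t, ht, rfl⟩
    exact hS t ht
  -- (G2) class two
  let D : Subgroup Γ := ⁅Q, Q⁆
  have hDn : D.Normal := Subgroup.commutator_normal Q Q
  have hDQ : D ≤ Q := Subgroup.commutator_le_right Q Q
  have hDne : D ≠ Q := by
    intro h
    have hnt : Nontrivial ↥Q := by
      refine ⟨⟨⟨f₀, hf₀Q⟩, 1, fun h' => hf₀ ?_⟩⟩
      have : f₀ = 1 := congrArg Subtype.val h'
      rw [this, one_mul, mul_one]
    have hnil : Group.IsNilpotent ↥Q := hQ.isNilpotent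
    have h1 := Group.IsSolvable.commutator_lt_top_of_nontrivial ↥Q
    have h2 : (commutator ↥Q).map Q.subtype = Q := by
      rw [Subgroup.map_subtype_commutator]; exact h
    apply h1.ne
    apply Subgroup.map_injective Q.subtype_injective
    rw [h2, ← MonoidHom.range_eq_map, Subgroup.range_subtype]
  have hDx : ∀ d ∈ D, x * d = d * x :=
    step1 D hDQ hDne (fun s hs => hDn.conj_mem s hs x)
  have hXD : ⁅D, Subgroup.zpowers x⁆ = ⊥ := by
    rw [Subgroup.commutator_eq_bot_iff_le_centralizer]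
    intro d hd
    rw [Subgroup.mem_centralizer_iff]
    intro y hy
    obtain ⟨j, rfl⟩ := Subgroup.mem_zpowers_iff.mp hy
    have : Commute x d := hDx d hd
    exact (this.zpow_left j).eq
  have h1 : ⁅⁅Q, D⁆, Subgroup.zpowers x⁆ = ⊥ := by
    rw [eq_bot_iff, ← hXD]
    exact Subgroup.commutator_mono (Subgroup.commutator_le_right Q D) le_rfl
  have h2 : ⁅⁅D, Subgroup.zpowers x⁆, Q⁆ = ⊥ := by rw [hXD, Subgroup.commutator_bot_left]
  have h3 : ⁅⁅Subgroup.zpowers x, Q⁆, D⁆ = ⊥ :=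
    Subgroup.commutator_commutator_eq_bot_of_rotate h1 h2
  have hQXQ : Q ≤ ⁅Subgroup.zpowers x, Q⁆ :=
    hQgen _ (fun t ht => Subgroup.commutator_mem_commutator (Subgroup.mem_zpowers x) ht)
  have hQD : ⁅Q, D⁆ = ⊥ := by
    rw [eq_bot_iff, ← h3]
    exact Subgroup.commutator_mono hQXQ le_rfl
  have hcl : ∀ s ∈ Q, ∀ t ∈ Q, ∀ u ∈ Q, ⁅s, t⁆ * u = u * ⁅s, t⁆ := by
    intro s hs t ht u hu
    rw [Subgroup.commutator_eq_bot_iff_le_centralizer] at hQD
    have := hQD hu
    rw [Subgroup.mem_centralizer_iff] at this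
    exact this _ (Subgroup.commutator_mem_commutator hs ht)
  -- (G3)
  have hG3 : ∀ f ∈ Q, x * f = f * x → ∀ u ∈ Q, f * u = u * f := by
    intro f hf hxf
    have hle : Q ≤ Subgroup.centralizer {f} := by
      apply hQgen
      intro t ht
      rw [Subgroup.mem_centralizer_iff]
      intro h hh
      rw [Set.mem_singleton_iff.mp hh]
      set c := ⁅f, t⁆ with hcdef
      have hcD : c ∈ D := Subgroup.commutator_mem_commutator hf ht
      have e3 : x * c = c * x := hDx c hcD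
      have e4 : c * ⁅x, t⁆ = ⁅x, t⁆ * c := hcl f hf t ht _ (hcommQ t ht)
      have hfx : f * x * f⁻¹ = x := by rw [← hxf, mul_inv_cancel_right]
      have hft : f * t * f⁻¹ = c * t := by rw [hcdef, commutatorElement_def]; group
      have hconj : f * ⁅x, t⁆ * f⁻¹ = ⁅x, t⁆ := by
        calc f * ⁅x, t⁆ * f⁻¹ = ⁅f * x * f⁻¹, f * t * f⁻¹⁆ := by
              simp only [commutatorElement_def]; group
          _ = ⁅x, c * t⁆ := by rw [hfx, hft]
          _ = c * ⁅x, t⁆ * c⁻¹ := by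
              have : x * (c * t) * x⁻¹ * (c * t)⁻¹ = (x * c) * (t * x⁻¹ * t⁻¹ * c⁻¹) := by group
              rw [commutatorElement_def, commutatorElement_def, this, e3]; group
          _ = ⁅x, t⁆ := by rw [e4, mul_inv_cancel_right]
      exact mul_inv_eq_iff_eq_mul.mp hconj
    intro u hu
    have := hle hu
    rw [Subgroup.mem_centralizer_iff] at this
    exact this f rfl
  obtain ⟨a, ha⟩ := IsPGroup.iff_card.mp hQ
  have hQk : (Nat.card ↥Q : k) ≠ 0 := by
    rw [ha, Nat.cast_pow]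
    exact pow_ne_zero _ hqk
  by_cases hab : ∀ s ∈ Q, ∀ t ∈ Q, s * t = t * s
  · -- the abelian case
    let T : Subgroup Γ :=
      { carrier := {g | ∃ t ∈ Q, g = ⁅x, t⁆}
        mul_mem' := by
          rintro _ _ ⟨s, hs, rfl⟩ ⟨t, ht, rfl⟩
          refine ⟨s * t, Q.mul_mem hs ht, ?_⟩
          have hcom := hab s⁻¹ (Q.inv_mem hs) (x * t * x⁻¹ * t⁻¹)
            (Q.mul_mem (hxn t ht) (Q.inv_mem ht))
          calc ⁅x, s⁆ * ⁅x, t⁆ = (x * s * x⁻¹) * (s⁻¹ * (x * t * x⁻¹ * t⁻¹)) := by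
                simp only [commutatorElement_def]; group
            _ = (x * s * x⁻¹) * ((x * t * x⁻¹ * t⁻¹) * s⁻¹) := by rw [hcom]
            _ = ⁅x, s * t⁆ := by simp only [commutatorElement_def]; group
        one_mem' := ⟨1, Q.one_mem, by simp⟩
        inv_mem' := by
          rintro _ ⟨t, ht, rfl⟩
          refine ⟨t⁻¹, Q.inv_mem ht, ?_⟩
          have hcom := hab t ht (x * t⁻¹ * x⁻¹) (hxn _ (Q.inv_mem ht))
          calc ⁅x, t⁆⁻¹ = t * (x * t⁻¹ * x⁻¹) := by
                simp only [commutatorElement_def]; group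
            _ = (x * t⁻¹ * x⁻¹) * t := hcom
            _ = ⁅x, t⁻¹⁆ := by simp only [commutatorElement_def]; group }
    have hQT : Q ≤ T := hQgen T (fun t ht => ⟨t, ht, rfl⟩)
    have hfpfx : ∀ f ∈ Q, x * f = f * x → f = 1 := by
      intro f hf hxf
      let τ : ↥Q → ↥Q := fun t => ⟨⁅x, (t : Γ)⁆, hcommQ t t.2⟩
      have hsurj : Function.Surjective τ := by
        rintro ⟨g, hg⟩
        obtain ⟨t, ht, rfl⟩ := hQT hg
        exact ⟨⟨t, ht⟩, rfl⟩
      have hinjτ : Function.Injective τ := Finite.injective_iff_surjective.mpr hsurj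
      have h1 : τ ⟨f, hf⟩ = τ 1 := by
        apply Subtype.ext
        show ⁅x, f⁆ = ⁅x, (1 : Γ)⁆
        rw [commutatorElement_one_right, commutatorElement_eq_one_iff_mul_comm]
        exact hxf
      have := congrArg Subtype.val (hinjτ h1)
      exact this
    have hfpf' : ∀ h ∈ Subgroup.zpowers x, h ≠ 1 → ∀ f ∈ Q, h * f * h⁻¹ = f → f = 1 := by
      intro h hh h1 f hf hc
      obtain ⟨j, rfl⟩ := exists_pow_of_mem_zpowers x hr.pos hx h hh
      obtain ⟨m, hm⟩ := gen_of_prime x hr hx j h1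
      have hc1 : Commute (x ^ j) f := by
        show x ^ j * f = f * x ^ j
        calc x ^ j * f = (x ^ j * f * (x ^ j)⁻¹) * x ^ j := by group
          _ = f * x ^ j := by rw [hc]
      have hc2 := hc1.pow_left m
      rw [hm] at hc2
      exact hfpfx f hf hc2.eq
    have hnil : Group.IsNilpotent ↥Q := hQ.isNilpotent
    have hform := FreeMod.frobenius_dim_formula ρ Q (Subgroup.zpowers x) hnil hQk hfpf'
    have hfixH : FreeMod.fixOn ρ (Subgroup.zpowers x) = ⊥ := by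
      rw [eq_bot_iff]
      intro v hv
      rw [FreeMod.mem_fixOn] at hv
      rw [Submodule.mem_bot]
      exact hfix v (hv x (Subgroup.mem_zpowers x))
    have hfixQH : FreeMod.fixOn ρ (Q ⊔ Subgroup.zpowers x) = ⊥ := by
      rw [FreeMod.fixOn_sup, hfixH, inf_bot_eq]
    rw [hfixH, hfixQH, finrank_bot, mul_zero, zero_add, zero_add] at hform
    have htop : FreeMod.fixOn ρ Q = ⊤ := Submodule.eq_top_of_finrank_eq hform.symm
    apply hf₀
    have hf1 : f₀ = 1 := by
      apply hinj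
      apply LinearMap.ext
      intro v
      have : v ∈ FreeMod.fixOn ρ Q := by rw [htop]; trivial
      rw [FreeMod.mem_fixOn] at this
      rw [this f₀ hf₀Q, Module.End.one_apply]
    rw [hf1, one_mul, mul_one]
  · -- the nonabelian case
    push Not at hab
    obtain ⟨s₀, hs₀, t₀, ht₀, hst₀⟩ := hab
    have hnt : ∃ s ∈ Q, ∃ t ∈ Q, ρ ⁅s, t⁆ ≠ 1 := by
      refine ⟨s₀, hs₀, t₀, ht₀, fun h => hst₀ ?_⟩
      have := hinj _ h
      rw [commutatorElement_eq_one_iff_mul_comm] at this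
      exact this
    have hstar : ∀ N : Subgroup Γ, N.Normal → N ≤ Q → (∃ s ∈ Q, ∃ t ∈ Q, ⁅s, t⁆ ∉ N) →
        ∀ f ∈ Q, (∀ t ∈ Q, ⁅⁅x, f⁆, t⁆ ∈ N) → ∀ t ∈ Q, ⁅f, t⁆ ∈ N := by
      intro N hNn hNQ hNex f hf hxf
      let ZN : Subgroup Γ :=
        { carrier := {g | g ∈ Q ∧ ∀ t ∈ Q, ⁅g, t⁆ ∈ N}
          mul_mem' := by
            rintro g h ⟨hg, hg'⟩ ⟨hh, hh'⟩
            refine ⟨Q.mul_mem hg hh, fun t ht => ?_⟩
            have : ⁅g * h, t⁆ = g * ⁅h, t⁆ * g⁻¹ * ⁅g, t⁆ := by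
              simp only [commutatorElement_def]; group
            rw [this]
            exact N.mul_mem (hNn.conj_mem _ (hh' t ht) g) (hg' t ht)
          one_mem' := ⟨Q.one_mem, fun t _ => by rw [commutatorElement_one_left]; exact N.one_mem⟩
          inv_mem' := by
            rintro g ⟨hg, hg'⟩
            refine ⟨Q.inv_mem hg, fun t ht => ?_⟩
            have : ⁅g⁻¹, t⁆ = g⁻¹ * ⁅g, t⁆⁻¹ * g⁻¹⁻¹ := by
              simp only [commutatorElement_def]; group
            rw [this]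
            exact hNn.conj_mem _ (N.inv_mem (hg' t ht)) g⁻¹ }
      have hZNQ : ZN ≤ Q := fun g hg => hg.1
      have hZNne : ZN ≠ Q := by
        intro h
        obtain ⟨s, hs, t, ht, hst⟩ := hNex
        apply hst
        have : s ∈ ZN := by rw [h]; exact hs
        exact this.2 t ht
      have hZNinv : ∀ s ∈ ZN, x * s * x⁻¹ ∈ ZN := by
        rintro g ⟨hg, hg'⟩
        refine ⟨hxn g hg, fun t ht => ?_⟩
        have : ⁅x * g * x⁻¹, t⁆ = x * ⁅g, x⁻¹ * t * x⁆ * x⁻¹ := by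
          simp only [commutatorElement_def]; group
        rw [this]
        exact hNn.conj_mem _ (hg' _ (conj_inv_mem Q x hr.pos hx hxn t ht)) x
      have hZNx := step1 ZN hZNQ hZNne hZNinv
      have hcZ : ⁅x, f⁆ ∈ ZN := ⟨hcommQ f hf, hxf⟩
      have hxf' : x * f = f * x := hG1 f hf (hZNx _ hcZ)
      intro t ht
      have := hG3 f hf hxf' t ht
      rw [← commutatorElement_eq_one_iff_mul_comm] at this
      rw [this]
      exact N.one_mem
    obtain ⟨N, hNn, hNQ, ⟨s, hs, t, ht, hst⟩, Z, hZ, hcardZ⟩ :=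
      core_gen' ρ Q x hr hx hxQ hrk hQk hgen hfix hcl hnt hstar
    have hdvd : (r - 1) ∣ q ^ a := by
      rw [← ha, hcardZ]
      exact Dvd.dvd.mul_right (dvd_pow_self _ two_ne_zero) _
    obtain ⟨m, hma, hm⟩ := (Nat.dvd_prime_pow hq).mp hdvd
    have hm0 : m ≠ 0 := by
      rintro rfl
      rw [hm, pow_zero, one_pow, one_mul] at hcardZ
      have hZQ : Z ≤ Q := fun g hg => ((hZ g).mp hg).1
      have hZeq : Z = Q := Subgroup.eq_of_le_of_card_ge hZQ (le_of_eq hcardZ)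
      apply hst
      have : s ∈ Z := by rw [hZeq]; exact hs
      exact ((hZ s).mp this).2 t ht
    have hq2 : q = 2 := by
      by_contra hq2
      have hodd : Odd q := hq.odd_of_ne_two hq2
      have hodd2 : Odd (r - 1) := by rw [hm]; exact hodd.pow
      have hr2 : r = 2 := by
        rcases hr.eq_two_or_odd' with h | h
        · exact h
        · exfalso
          have := hr.two_le
          obtain ⟨c, hc⟩ := h
          obtain ⟨d, hd⟩ := hodd2
          omega
      rw [hr2] at hm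
      have : q ^ m = 1 := by omega
      have hq1 : 1 < q := hq.one_lt
      have : 1 < q ^ m := Nat.one_lt_pow hm0 hq1
      omega
    have hrm : r = 2 ^ m + 1 := by
      have := hr.two_le
      rw [hq2] at hm
      omega
    exact hst₀ (hexc hq2 ⟨m, hrm⟩ s₀ hs₀ t₀ ht₀)

end ESMod
end Cfsg.Agent.Lib.Helper17
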