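import Mathlib
import Cfsg.Agent.Lib.Helper17.ESMod8

/-!
# General version: an element of prime order `r` with no fixed vectors centralizes
invariant `q`-subgroups modulo the kernel; conjugation representations
-/

set_option autoImplicit false

namespace Cfsg.Agent.Lib.Helper17
namespace ESMod

open Module
open scoped commutatorElement

universe u

theorem comm_of_fixed_zero {k : Type*} [Field k] {M : Type u} [AddCommGroup M] [Module k M]
    [FiniteDimensional k M] {q r : ℕ} (hq : q.Prime) (hr : r.Prime) (hqr : q ≠ r)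
    (hqk : (q : k) ≠ 0) (hrk : (r : k) ≠ 0) {Γ : Type*} [Group Γ] [Finite Γ]
    (ρ : Representation k Γ M) (Q : Subgroup Γ) (x : Γ)
    (hQ : IsPGroup q Q) (hx : x ^ r = 1) (hxn : ∀ s ∈ Q, x * s * x⁻¹ ∈ Q)
    (hexc : q = 2 → (∃ m : ℕ, r = 2 ^ m + 1) → ∀ s ∈ Q, ∀ t ∈ Q, ρ (s * t) = ρ (t * s))
    (hfix : ∀ v, ρ x v = v → v = 0) : ∀ f ∈ Q, ρ (x * f) = ρ (f * x) := by
  let ρu : Γ →* (Module.End k M)ˣ := MonoidHom.toHomUnits ρ
  have hρu : ∀ g : Γ, ((ρu g : (Module.End k M)ˣ) : Module.End k M) = ρ g := fun g => rfl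
  let Qb : Subgroup (Module.End k M)ˣ := Q.map ρu
  let xb : (Module.End k M)ˣ := ρu x
  have hxb : xb ^ r = 1 := by
    show ρu x ^ r = 1
    rw [← map_pow, hx, map_one]
  have hxnb : ∀ s ∈ Qb, xb * s * xb⁻¹ ∈ Qb := by
    rintro _ ⟨s, hs, rfl⟩
    refine ⟨x * s * x⁻¹, hxn s hs, ?_⟩
    rw [map_mul, map_mul, map_inv]
  have hPeq : Qb ⊔ Subgroup.zpowers xb = (Q ⊔ Subgroup.zpowers x).map ρu := by
    rw [Subgroup.map_sup, MonoidHom.map_zpowers]
  have hPfin : Finite ↥(Qb ⊔ Subgroup.zpowers xb) := by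
    have : ((Qb ⊔ Subgroup.zpowers xb : Subgroup (Module.End k M)ˣ) : Set (Module.End k M)ˣ).Finite := by
      rw [hPeq, Subgroup.coe_map]
      exact (Set.toFinite _).image _
    exact this.to_subtype
  have hQbP : Qb ≤ Qb ⊔ Subgroup.zpowers xb := le_sup_left
  have hxP : xb ∈ Qb ⊔ Subgroup.zpowers xb :=
    (le_sup_right : Subgroup.zpowers xb ≤ _) (Subgroup.mem_zpowers xb)
  have hn2 := normal_subgroupOf_sup Qb xb hr.pos hxb hxnb
  have hQb : IsPGroup q ↥Qb := hQ.map ρu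
  have hP2 : IsPGroup q ↥(Qb.subgroupOf (Qb ⊔ Subgroup.zpowers xb)) :=
    hQb.of_equiv (Subgroup.subgroupOfEquivOfLe hQbP).symm
  let ρ' : Representation k ↥(Qb ⊔ Subgroup.zpowers xb) M :=
    (Units.coeHom (Module.End k M)).comp (Subgroup.subtype _)
  have hρ' : ∀ g : ↥(Qb ⊔ Subgroup.zpowers xb), ρ' g = ((g : (Module.End k M)ˣ) : Module.End k M) :=
    fun g => rfl
  have key := fixed_aux hq hr hqr hqk hrk
    (Nat.card ↥(Qb.subgroupOf (Qb ⊔ Subgroup.zpowers xb)))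
    ↥(Qb ⊔ Subgroup.zpowers xb) ρ' (Qb.subgroupOf _) ⟨xb, hxP⟩ rfl hP2
    (by apply Subtype.ext; simpa using hxb)
    (by
      intro g
      obtain ⟨s, hs, j, hg⟩ := sup_zpowers_gen Qb xb hr.pos hxb hxnb g.1 g.2
      refine ⟨⟨s, hQbP hs⟩, Subgroup.mem_subgroupOf.mpr hs, j, ?_⟩
      apply Subtype.ext
      simpa using hg)
    (by
      intro g hg
      apply Subtype.ext
      apply Units.ext
      rw [hρ'] at hg
      exact hg)
    (by
      intro h2 hm s hs t ht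
      obtain ⟨s₀, hs₀, hs₀'⟩ := Subgroup.mem_subgroupOf.mp hs
      obtain ⟨t₀, ht₀, ht₀'⟩ := Subgroup.mem_subgroupOf.mp ht
      apply Subtype.ext
      apply Units.ext
      rw [Subgroup.coe_mul, Subgroup.coe_mul, ← hs₀', ← ht₀', ← map_mul, ← map_mul, hρu, hρu]
      exact hexc h2 hm s₀ hs₀ t₀ ht₀)
    (by
      intro v hv
      exact hfix v hv)
  intro f hf
  have hfb : ρu f ∈ Qb := ⟨f, hf, rfl⟩
  have := key ⟨ρu f, hQbP hfb⟩ (Subgroup.mem_subgroupOf.mpr hfb)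
  have h2 := congrArg (fun g : ↥(Qb ⊔ Subgroup.zpowers xb) =>
    ((g : (Module.End k M)ˣ) : Module.End k M)) this
  simp only [Subgroup.coe_mul, Units.val_mul] at h2
  rw [map_mul, map_mul]
  exact h2

end ESMod
end Cfsg.Agent.Lib.Helper17
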