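import Mathlib

/-!
# The conjugation representation of `N_G(V)` on an elementary abelian subgroup `V`
-/

set_option autoImplicit false

namespace Cfsg.Agent.Lib.Helper17
namespace ESMod

universe u

theorem exists_conj_rep {G : Type u} [Group G] {p : ℕ} [Fact p.Prime] (V : Subgroup G) [Finite V]
    (hc : ∀ a ∈ V, ∀ b ∈ V, a * b = b * a) (he : ∀ a ∈ V, a ^ p = 1) :
    ∃ (W : Type u) (_ : AddCommGroup W) (_ : Module (ZMod p) W) (_ : Finite W)
      (ρ : Representation (ZMod p) ↥(Subgroup.normalizer (V : Set G)) W),
      (∀ g : ↥(Subgroup.normalizer (V : Set G)), ρ g = 1 →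
        (g : G) ∈ Subgroup.centralizer (V : Set G)) ∧
      (∀ g : ↥(Subgroup.normalizer (V : Set G)),
        (∀ v ∈ V, (g : G) * v = v * g → v = 1) → ∀ w, ρ g w = w → w = 0) := by
  letI : CommGroup ↥V :=
    { (inferInstance : Group ↥V) with
      mul_comm := fun x y => Subtype.ext (hc x x.2 y y.2) }
  have hA : ∀ x : ↥V, x ^ p = 1 := fun x => Subtype.ext (by simpa using he x x.2)
  let act : ↥(Subgroup.normalizer (V : Set G)) →* MulAut ↥V := V.normalizerMonoidHom
  have hact : ∀ (g : ↥(Subgroup.normalizer (V : Set G))) (v : ↥V),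
      ((act g v : ↥V) : G) = g * v * (g : G)⁻¹ := fun g v => rfl
  obtain ⟨iM⟩ : Nonempty (Module (ZMod p) (Additive ↥V)) :=
    ⟨AddCommGroup.zmodModule (n := p) (by
      intro x
      have h2 : p • x = Additive.ofMul ((Additive.toMul x) ^ p) := rfl
      rw [h2, hA]; rfl)⟩
  let ρ₀ : ↥(Subgroup.normalizer (V : Set G)) →* Module.End (ZMod p) (Additive ↥V) :=
    { toFun := fun g => (MonoidHom.toAdditive (act g).toMonoidHom).toZModLinearMap p
      map_one' := by
        apply LinearMap.ext
        intro x
        change Additive.ofMul ((act 1) (Additive.toMul x)) = x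
        rw [map_one]
        rfl
      map_mul' := fun g h => by
        apply LinearMap.ext
        intro x
        change Additive.ofMul ((act (g * h)) (Additive.toMul x)) =
          Additive.ofMul ((act g) (Additive.toMul (Additive.ofMul ((act h) (Additive.toMul x)))))
        rw [map_mul]
        rfl }
  have hρ₀ : ∀ (g : ↥(Subgroup.normalizer (V : Set G))) (x : Additive ↥V),
      ρ₀ g x = Additive.ofMul (act g (Additive.toMul x)) := fun g x => rfl
  refine ⟨Additive ↥V, inferInstance, iM, inferInstance, ρ₀, ?_, ?_⟩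
  · intro g hg
    rw [Subgroup.mem_centralizer_iff]
    intro v hv
    have h2 := congrArg (fun f => f (Additive.ofMul (⟨v, hv⟩ : ↥V))) hg
    simp only [hρ₀, Module.End.one_apply] at h2
    have h3 : act g ⟨v, hv⟩ = ⟨v, hv⟩ := Additive.ofMul.injective h2
    have h4 := congrArg Subtype.val h3
    rw [hact] at h4
    simp only at h4
    calc v * g = (g * v * (g : G)⁻¹) * g := by rw [h4]
      _ = g * v := by group
  · intro g hg w hw
    rw [hρ₀] at hw
    have h3 : act g (Additive.toMul w) = Additive.toMul w := Additive.ofMul.injective hw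
    have h4 := congrArg Subtype.val h3
    rw [hact] at h4
    have h5 : (g : G) * (Additive.toMul w : ↥V) = (Additive.toMul w : ↥V) * g := by
      calc (g : G) * (Additive.toMul w : ↥V)
          = ((g : G) * (Additive.toMul w : ↥V) * (g : G)⁻¹) * g := by group
        _ = (Additive.toMul w : ↥V) * g := by rw [h4]
    have h6 := hg _ (Additive.toMul w).2 h5
    have h7 : Additive.toMul w = 1 := Subtype.ext h6
    exact h7

end ESMod
end Cfsg.Agent.Lib.Helper17
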