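import Mathlib
import Cfsg.Agent.Lib.Helper17.ESMod10

/-!
# The conjugation representation on an elementary abelian section `V / U`
-/

set_option autoImplicit false

namespace Cfsg.Agent.Lib.Helper17
namespace PrimeAct

open Subgroup
open scoped commutatorElement

universe u

/-- `⁅V, zpowers c⁆ ≤ N` as soon as `c` normalizes `N` and `⁅v, c⁆ ∈ N` for all `v ∈ V`. -/
theorem commutator_zpowers_le {G : Type*} [Group G] {V N : Subgroup G} {c : G}
    (hc : c ∈ normalizer (N : Set G)) (h : ∀ v ∈ V, ⁅v, c⁆ ∈ N) : ⁅V, zpowers c⁆ ≤ N := by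
  rw [Subgroup.commutator_le]
  intro v hv l hl
  rw [Subgroup.zpowers_eq_closure] at hl
  have key : l ∈ normalizer (N : Set G) ∧ ∀ v ∈ V, ⁅v, l⁆ ∈ N := by
    induction hl using Subgroup.closure_induction with
    | mem x hx =>
      rw [Set.mem_singleton_iff] at hx
      subst hx
      exact ⟨hc, h⟩
    | one => exact ⟨Subgroup.one_mem _, fun v _ => by rw [commutatorElement_one_right]; exact N.one_mem⟩
    | mul x y _ _ hx hy =>
      refine ⟨Subgroup.mul_mem _ hx.1 hy.1, fun v hv => ?_⟩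
      rw [commutatorElement_mul_right_eq_mul_conj]
      have h1 := hx.2 v hv
      have h2 := hy.2 v hv
      have h3 : x * ⁅v, y⁆ * x⁻¹ ∈ N := (Subgroup.mem_normalizer_iff.mp hx.1 _).mp h2
      have e : ⁅v, x⁆ * x * ⁅v, y⁆ * x⁻¹ = ⁅v, x⁆ * (x * ⁅v, y⁆ * x⁻¹) := by group
      rw [e]; exact N.mul_mem h1 h3
    | inv x _ hx =>
      refine ⟨Subgroup.inv_mem _ hx.1, fun v hv => ?_⟩
      rw [commutatorElement_inv_right]
      have h1 : ⁅x, v⁆ ∈ N := by rw [← commutatorElement_inv]; exact N.inv_mem (hx.2 v hv)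
      have h2 := (Subgroup.mem_normalizer_iff.mp (Subgroup.inv_mem _ hx.1) _).mp h1
      simpa using h2
  exact key.2 v hv

/-- The conjugation representation of `N(V) ∩ N(U)` on an elementary abelian section `V / U`. -/
theorem exists_section_rep {G : Type u} [Group G] [Finite G] {p : ℕ} [Fact p.Prime]
    (V U : Subgroup G) (hUV : U ≤ V) (hVU : V ≤ normalizer (U : Set G))
    (hc : ∀ a ∈ V, ∀ b ∈ V, ⁅a, b⁆ ∈ U) (he : ∀ a ∈ V, a ^ p ∈ U) :
    ∃ (W : Type u) (_ : AddCommGroup W) (_ : Module (ZMod p) W) (_ : Finite W)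
      (ρ : Representation (ZMod p) ↥(normalizer (V : Set G) ⊓ normalizer (U : Set G)) W),
      (∀ g : ↥(normalizer (V : Set G) ⊓ normalizer (U : Set G)), ρ g = 1 →
        ∀ v ∈ V, ⁅v, (g : G)⁆ ∈ U) ∧
      (∀ g : ↥(normalizer (V : Set G) ⊓ normalizer (U : Set G)),
        (∀ v ∈ V, ⁅v, (g : G)⁆ ∈ U → v ∈ U) → ∀ w, ρ g w = w → w = 0) := by
  obtain ⟨H, hH⟩ : ∃ H : Subgroup G, H = normalizer (V : Set G) ⊓ normalizer (U : Set G) := ⟨_, rfl⟩
  rw [← hH]
  have hHV : H ≤ normalizer (V : Set G) := hH ▸ inf_le_left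
  have hHU : H ≤ normalizer (U : Set G) := hH ▸ inf_le_right
  have hVH : V ≤ H := by
    rw [hH]; exact le_inf le_normalizer hVU
  have hUH : U ≤ H := hUV.trans hVH
  have hUn : (U.subgroupOf H).Normal := (Subgroup.normal_subgroupOf_iff_le_normalizer hUH).mpr hHU
  have hVn : (V.subgroupOf H).Normal := (Subgroup.normal_subgroupOf_iff_le_normalizer hVH).mpr hHV
  let π : ↥H →* ↥H ⧸ U.subgroupOf H := QuotientGroup.mk' (U.subgroupOf H)
  have hπs : Function.Surjective π := QuotientGroup.mk'_surjective _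
  let Vb : Subgroup (↥H ⧸ U.subgroupOf H) := (V.subgroupOf H).map π
  have hVbn : Vb.Normal := Subgroup.Normal.map hVn π hπs
  have hπ1 : ∀ a : ↥H, π a = 1 ↔ (a : G) ∈ U := by
    intro a
    show QuotientGroup.mk' (U.subgroupOf H) a = 1 ↔ _
    rw [QuotientGroup.mk'_apply, QuotientGroup.eq_one_iff, Subgroup.mem_subgroupOf]
  have hcb : ∀ a ∈ Vb, ∀ b ∈ Vb, a * b = b * a := by
    rintro _ ⟨a, ha, rfl⟩ _ ⟨b, hb, rfl⟩
    rw [SetLike.mem_coe, Subgroup.mem_subgroupOf] at ha hb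
    have h1 : π ⁅a, b⁆ = 1 := by
      rw [hπ1]
      have : ((⁅a, b⁆ : ↥H) : G) = ⁅(a : G), (b : G)⁆ := by
        simp [commutatorElement_def]
      rw [this]
      exact hc a ha b hb
    rw [map_commutatorElement, commutatorElement_eq_one_iff_mul_comm] at h1
    exact h1
  have heb : ∀ a ∈ Vb, a ^ p = 1 := by
    rintro _ ⟨a, ha, rfl⟩
    rw [SetLike.mem_coe, Subgroup.mem_subgroupOf] at ha
    rw [← map_pow, hπ1]
    simpa using he a ha
  obtain ⟨W, iA, iM, iF, ρb, hρ1, hρ2⟩ := ESMod.exists_conj_rep (p := p) Vb hcb heb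
  have hnt : normalizer (Vb : Set (↥H ⧸ U.subgroupOf H)) = ⊤ := Subgroup.normalizer_eq_top_iff.mpr hVbn
  let ψ : ↥H →* ↥(normalizer (Vb : Set (↥H ⧸ U.subgroupOf H))) :=
    π.codRestrict _ (fun h => by rw [hnt]; exact Subgroup.mem_top _)
  have hψ : ∀ h : ↥H, ((ψ h : ↥(normalizer (Vb : Set (↥H ⧸ U.subgroupOf H)))) : ↥H ⧸ U.subgroupOf H) = π h :=
    fun h => rfl
  let ρ : Representation (ZMod p) ↥H W := ρb.comp ψ
  have hρ : ∀ h : ↥H, ρ h = ρb (ψ h) := fun h => rfl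
  refine ⟨W, iA, iM, iF, ρ, ?_, ?_⟩
  · intro g hg v hv
    have h1 : ρb (ψ g) = 1 := by rw [← hρ]; exact hg
    have h2 := hρ1 (ψ g) h1
    rw [hψ, Subgroup.mem_centralizer_iff] at h2
    have hvH : v ∈ H := hVH hv
    have h3 := h2 (π ⟨v, hvH⟩) ⟨⟨v, hvH⟩, by rw [SetLike.mem_coe, Subgroup.mem_subgroupOf]; exact hv, rfl⟩
    have h4 : π ⁅(⟨v, hvH⟩ : ↥H), g⁆ = 1 := by
      rw [map_commutatorElement, commutatorElement_eq_one_iff_mul_comm]
      exact h3
    rw [hπ1] at h4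
    have : ((⁅(⟨v, hvH⟩ : ↥H), g⁆ : ↥H) : G) = ⁅v, (g : G)⁆ := by
      simp [commutatorElement_def]
    rwa [this] at h4
  · intro g hg w hw
    apply hρ2 (ψ g) _ w
    · rw [← hρ]; exact hw
    · rintro _ ⟨v, hv, rfl⟩ hcomm
      rw [SetLike.mem_coe, Subgroup.mem_subgroupOf] at hv
      rw [hψ] at hcomm
      have h4 : π ⁅v, g⁆ = 1 := by
        rw [map_commutatorElement, commutatorElement_eq_one_iff_mul_comm]
        exact hcomm.symm
      rw [hπ1] at h4
      have : ((⁅v, g⁆ : ↥H) : G) = ⁅(v : G), (g : G)⁆ := by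
        simp [commutatorElement_def]
      rw [this] at h4
      rw [hπ1]
      exact hg v hv h4

end PrimeAct
end Cfsg.Agent.Lib.Helper17
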