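import Mathlib
import Cfsg.Agent.Lib.Helper17.PrimeAct1
import Cfsg.Agent.Lib.Helper17.ESMod9
import Cfsg.Agent.Lib.Helper17.CoprimeGen
import Cfsg.Agent.Lib.Helper1.Coprime
import Cfsg.Agent.Lib.Helper1.PGroup

/-!
# A `q`-group normalized by an element `x` of prime order acting on an `ℓ`-group `P` with
`C_P(x) = 1`: `[Q, x]` centralizes `P` (coprime Hall–Higman / Shult, non-exceptional case)
-/

set_option autoImplicit false

namespace Cfsg.Agent.Lib.Helper17
namespace PrimeAct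

open Subgroup
open scoped commutatorElement

universe u

/-- The image in `G` of a characteristic subgroup of `P` is normalized by `N_G(P)`. -/
theorem normalizer_le_normalizer_map_of_char {G : Type*} [Group G] (P : Subgroup G) (C : Subgroup ↥P)
    (hC : ∀ φ : ↥P ≃* ↥P, C.map φ.toMonoidHom ≤ C) :
    normalizer (P : Set G) ≤ normalizer ((C.map P.subtype : Subgroup G) : Set G) := by
  have key : ∀ g ∈ normalizer (P : Set G), ∀ h ∈ C.map P.subtype, g * h * g⁻¹ ∈ C.map P.subtype := by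
    rintro g hg _ ⟨c, hc, rfl⟩
    let φ : ↥P ≃* ↥P := P.normalizerMonoidHom ⟨g, hg⟩
    have h1 : φ c ∈ C := hC φ ⟨c, hc, rfl⟩
    exact ⟨φ c, h1, rfl⟩
  intro g hg
  rw [Subgroup.mem_normalizer_iff]
  intro h
  constructor
  · exact key g hg h
  · intro hh
    have := key g⁻¹ (Subgroup.inv_mem _ hg) _ hh
    have e : g⁻¹ * (g * h * g⁻¹) * g⁻¹⁻¹ = h := by group
    rwa [e] at this

/-- The Frattini subgroup of `P`, as a subgroup of `G`. -/
def frat {G : Type*} [Group G] (P : Subgroup G) : Subgroup G := (frattini ↥P).map P.subtype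

theorem frat_le {G : Type*} [Group G] (P : Subgroup G) : frat P ≤ P := Subgroup.map_subtype_le _

theorem normalizer_le_normalizer_frat {G : Type*} [Group G] (P : Subgroup G) :
    normalizer (P : Set G) ≤ normalizer ((frat P : Subgroup G) : Set G) := by
  apply normalizer_le_normalizer_map_of_char
  intro φ
  exact (Subgroup.characteristic_iff_map_le.mp inferInstance φ)

/-- **Burnside**: a subgroup `A` of order prime to `|Q|` normalizing `Q` and acting trivially on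
`Q/Φ(Q)` centralizes `Q`. -/
theorem le_centralizer_of_comm_le_frat {G : Type*} [Group G] [Finite G] (Q A : Subgroup G)
    (hAQ : A ≤ Subgroup.normalizer (Q : Set G)) (hcop : (Nat.card A).Coprime (Nat.card Q))
    (hsolv : Group.IsSolvable A ∨ Group.IsSolvable Q)
    (h : ⁅Q, A⁆ ≤ frat Q) : Q ≤ Subgroup.centralizer (A : Set G) := by
  have h1 := le_centralizer_sup_commutator A Q hAQ hcop hsolv
  have h2 : Q ≤ (Q ⊓ Subgroup.centralizer (A : Set G)) ⊔ (frattini ↥Q).map Q.subtype :=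
    h1.trans (sup_le_sup_left h _)
  have h3 : (Q ⊓ Subgroup.centralizer (A : Set G)).subgroupOf Q ⊔ frattini ↥Q = ⊤ := by
    rw [eq_top_iff]
    intro x _
    have hx := h2 x.2
    have hmap : ((Q ⊓ Subgroup.centralizer (A : Set G)).subgroupOf Q ⊔ frattini ↥Q).map Q.subtype
        = (Q ⊓ Subgroup.centralizer (A : Set G)) ⊔ (frattini ↥Q).map Q.subtype := by
      rw [Subgroup.map_sup, Subgroup.map_subgroupOf_eq_of_le inf_le_left]
    rw [← hmap] at hx
    obtain ⟨y, hy, hyx⟩ := hx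
    have : y = x := Subtype.ext hyx
    rwa [← this]
  have h4 := frattini_nongenerating h3
  intro x hx
  have h5 : (⟨x, hx⟩ : ↥Q) ∈ (Q ⊓ Subgroup.centralizer (A : Set G)).subgroupOf Q := by
    rw [h4]; exact Subgroup.mem_top _
  rw [Subgroup.mem_subgroupOf] at h5
  exact h5.2

/-- Elementwise Burnside. -/
theorem mem_centralizer_of_frat {G : Type*} [Group G] [Finite G] {ℓ : ℕ} [Fact ℓ.Prime]
    (P : Subgroup G) (hP : IsPGroup ℓ P) (c : G) (hcP : c ∈ normalizer (P : Set G))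
    (hco : (orderOf c).Coprime ℓ) (h : ∀ v ∈ P, ⁅v, c⁆ ∈ frat P) :
    c ∈ centralizer (P : Set G) := by
  have hAP : zpowers c ≤ normalizer (P : Set G) := by
    rw [Subgroup.zpowers_le]; exact hcP
  obtain ⟨n, hn⟩ := IsPGroup.iff_card.mp hP
  have hcop : (Nat.card (zpowers c)).Coprime (Nat.card P) := by
    rw [Nat.card_zpowers, hn]
    exact Nat.Coprime.pow_right n hco
  have hsolv : Group.IsSolvable (zpowers c) ∨ Group.IsSolvable P := Or.inl inferInstance
  have hcomm : ⁅P, zpowers c⁆ ≤ frat P :=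
    commutator_zpowers_le (normalizer_le_normalizer_frat P hcP) h
  have h1 := le_centralizer_of_comm_le_frat P (zpowers c) hAP hcop hsolv hcomm
  rw [Subgroup.mem_centralizer_iff]
  intro v hv
  have h2 := h1 hv
  rw [Subgroup.mem_centralizer_iff] at h2
  exact (h2 c (Subgroup.mem_zpowers c)).symm

/-- If `⁅v, x⁆ ∈ N` with `x ∈ N_G(N)`, then `v⁻¹ a v a⁻¹ ∈ N` for every power `a` of `x`. -/
theorem forall_mem_zpowers_of_comm {G : Type*} [Group G] (N : Subgroup G) (x v : G)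
    (hx : x ∈ normalizer (N : Set G)) (h : v⁻¹ * x * v * x⁻¹ ∈ N) :
    ∀ a ∈ zpowers x, v⁻¹ * a * v * a⁻¹ ∈ N := by
  intro a ha
  rw [Subgroup.zpowers_eq_closure] at ha
  have key : a ∈ normalizer (N : Set G) ∧ v⁻¹ * a * v * a⁻¹ ∈ N := by
    induction ha using Subgroup.closure_induction with
    | mem y hy =>
      rw [Set.mem_singleton_iff] at hy
      subst hy
      exact ⟨hx, h⟩
    | one => exact ⟨Subgroup.one_mem _, by simp⟩
    | mul y z _ _ hy hz =>
      refine ⟨Subgroup.mul_mem _ hy.1 hz.1, ?_⟩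
      have h3 : y * (v⁻¹ * z * v * z⁻¹) * y⁻¹ ∈ N := (Subgroup.mem_normalizer_iff.mp hy.1 _).mp hz.2
      have e : v⁻¹ * (y * z) * v * (y * z)⁻¹ = (v⁻¹ * y * v * y⁻¹) * (y * (v⁻¹ * z * v * z⁻¹) * y⁻¹) := by
        group
      rw [e]; exact N.mul_mem hy.2 h3
    | inv y _ hy =>
      refine ⟨Subgroup.inv_mem _ hy.1, ?_⟩
      have h1 : (v⁻¹ * y * v * y⁻¹)⁻¹ ∈ N := N.inv_mem hy.2
      have h2 := (Subgroup.mem_normalizer_iff.mp (Subgroup.inv_mem _ hy.1) _).mp h1
      have e : y⁻¹ * (v⁻¹ * y * v * y⁻¹)⁻¹ * y⁻¹⁻¹ = v⁻¹ * y⁻¹ * v * y⁻¹⁻¹ := by group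
      rwa [e] at h2
  exact key.2

/-- **Lemma A**: let `x` of prime order `r` normalize a `q`-group `Q` and an `ℓ`-group `P`, with `Q`
normalizing `P`, `q ≠ 2`, `q, r ≠ ℓ`, `q ≠ r`, and `C_P(x) = 1`.  Then `[Q, x]` centralizes `P`. -/
theorem comm_mem_centralizer {G : Type u} [Group G] [Finite G] {ℓ q r : ℕ} [Fact ℓ.Prime]
    (hq : q.Prime) (hr : r.Prime) (hql : q ≠ ℓ) (hrl : r ≠ ℓ) (hqr : q ≠ r) (hq2 : q ≠ 2)
    (P Q : Subgroup G) (x : G) (hP : IsPGroup ℓ P) (hQ : IsPGroup q Q)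
    (hQP : Q ≤ normalizer (P : Set G)) (hxP : x ∈ normalizer (P : Set G))
    (hxQ : ∀ s ∈ Q, x * s * x⁻¹ ∈ Q) (hx : x ^ r = 1)
    (hfix : ∀ v ∈ P, x * v = v * x → v = 1) :
    ∀ t ∈ Q, ⁅t, x⁆ ∈ centralizer (P : Set G) := by
  have hℓ : ℓ.Prime := Fact.out
  have hNU := normalizer_le_normalizer_frat P
  have hPP : P ≤ normalizer (P : Set G) := le_normalizer
  have hPc : IsPGroup ℓ ↥P := hP
  have hc : ∀ a ∈ P, ∀ b ∈ P, ⁅a, b⁆ ∈ frat P := by
    intro a ha b hb
    have h1 : ⁅(⟨a, ha⟩ : ↥P), ⟨b, hb⟩⁆ ∈ frattini ↥P :=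
      Cfsg.Agent.Lib.Helper1.IsPGroup.commutator_le_frattini hPc
        (Subgroup.commutator_mem_commutator (Subgroup.mem_top _) (Subgroup.mem_top _))
    refine ⟨_, h1, ?_⟩
    simp [commutatorElement_def]
  have he : ∀ a ∈ P, a ^ ℓ ∈ frat P := by
    intro a ha
    have h1 := Cfsg.Agent.Lib.Helper1.IsPGroup.pow_mem_frattini hPc (⟨a, ha⟩ : ↥P)
    refine ⟨_, h1, ?_⟩
    simp
  have hrep := exists_section_rep (p := ℓ) P (frat P) (frat_le P) (hPP.trans hNU) hc he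
  have hHeq : normalizer (P : Set G) ⊓ normalizer ((frat P : Subgroup G) : Set G) = normalizer (P : Set G) :=
    inf_eq_left.mpr hNU
  have hxH : x ∈ normalizer (P : Set G) ⊓ normalizer ((frat P : Subgroup G) : Set G) := by
    rw [hHeq]; exact hxP
  have hQH : Q ≤ normalizer (P : Set G) ⊓ normalizer ((frat P : Subgroup G) : Set G) := by
    rw [hHeq]; exact hQP
  obtain ⟨H, hH⟩ : ∃ H : Subgroup G, H = normalizer (P : Set G) ⊓ normalizer ((frat P : Subgroup G) : Set G) :=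
    ⟨_, rfl⟩
  rw [← hH] at hrep hxH hQH
  obtain ⟨W, iA, iM, iF, ρ, hρ1, hρ2⟩ := hrep
  let x' : ↥H := ⟨x, hxH⟩
  let Q' : Subgroup ↥H := Q.subgroupOf H
  have hQ' : IsPGroup q Q' := hQ.comap_subtype
  have hx' : x' ^ r = 1 := Subtype.ext (by simpa using hx)
  have hxn' : ∀ s ∈ Q', x' * s * x'⁻¹ ∈ Q' := by
    intro s hs
    rw [Subgroup.mem_subgroupOf] at hs ⊢
    exact hxQ _ hs
  have : FiniteDimensional (ZMod ℓ) W := Module.Finite.of_finite
  have hqk : ((q : ℕ) : ZMod ℓ) ≠ 0 := by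
    intro h0
    rw [ZMod.natCast_eq_zero_iff] at h0
    exact hql ((Nat.prime_dvd_prime_iff_eq hℓ hq).mp h0).symm
  have hrk : ((r : ℕ) : ZMod ℓ) ≠ 0 := by
    intro h0
    rw [ZMod.natCast_eq_zero_iff] at h0
    exact hrl ((Nat.prime_dvd_prime_iff_eq hℓ hr).mp h0).symm
  -- fixed points of `x` on the section
  have hfixW : ∀ w, ρ x' w = w → w = 0 := by
    apply hρ2 x'
    intro v hv hvx
    -- `⁅v, x⁆ ∈ frat P`
    have hxN : x ∈ normalizer ((frat P : Subgroup G) : Set G) := hNU hxP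
    have h1 : v⁻¹ * x * v * x⁻¹ ∈ frat P := by
      have hvN : v⁻¹ ∈ normalizer ((frat P : Subgroup G) : Set G) :=
        Subgroup.inv_mem _ (hNU (hPP hv))
      have h2 := (Subgroup.mem_normalizer_iff.mp hvN _).mp ((frat P).inv_mem hvx)
      have e : v⁻¹ * (⁅v, x⁆)⁻¹ * v⁻¹⁻¹ = v⁻¹ * x * v * x⁻¹ := by
        rw [commutatorElement_def]; group
      rw [← e]; exact h2
    have h3 := forall_mem_zpowers_of_comm (frat P) x v hxN h1
    have hAN : zpowers x ≤ normalizer ((frat P : Subgroup G) : Set G) := by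
      rw [Subgroup.zpowers_le]; exact hxN
    obtain ⟨m, hm⟩ := IsPGroup.iff_card.mp (hP.to_le (frat_le P))
    have hcardx : Nat.card (zpowers x) ∣ r := by
      rw [Nat.card_zpowers]; exact orderOf_dvd_of_pow_eq_one hx
    have hcop : (Nat.card (zpowers x)).Coprime (Nat.card (frat P)) := by
      rw [hm]
      apply Nat.Coprime.pow_right
      apply Nat.Coprime.coprime_dvd_left hcardx
      exact (Nat.coprime_primes hr hℓ).mpr hrl
    obtain ⟨n, hn, hvn⟩ := Cfsg.Agent.Lib.Helper1.exists_mul_mem_centralizer hAN hcop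
      (Or.inl inferInstance) v h3
    have h4 : x * (v * n) = (v * n) * x := by
      rw [Subgroup.mem_centralizer_iff] at hvn
      exact hvn x (Subgroup.mem_zpowers x)
    have h5 : v * n = 1 := hfix _ (P.mul_mem hv (frat_le P hn)) h4
    have h6 : v = n⁻¹ := eq_inv_of_mul_eq_one_left h5
    rw [h6]; exact Subgroup.inv_mem _ hn
  have hcomm := ESMod.comm_of_fixed_zero (k := ZMod ℓ) hq hr hqr hqk hrk ρ Q' x' hQ' hx' hxn'
    (fun h2 => absurd h2 hq2) hfixW
  intro t ht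
  have htH : t ∈ H := hQH ht
  let t' : ↥H := ⟨t, htH⟩
  have ht' : t' ∈ Q' := by rw [Subgroup.mem_subgroupOf]; exact ht
  have h1 := hcomm t' ht'
  have h2 : ρ ⁅t', x'⁆ = 1 := by
    have e : ⁅t', x'⁆ = (t' * x') * (x' * t')⁻¹ := by
      rw [commutatorElement_def]; group
    rw [e, map_mul, ← h1, ← map_mul, mul_inv_cancel, map_one]
  have h3 := hρ1 ⁅t', x'⁆ h2
  have e2 : ((⁅t', x'⁆ : ↥H) : G) = ⁅t, x⁆ := by
    simp [commutatorElement_def, t', x']
  rw [e2] at h3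
  -- `⁅t, x⁆ ∈ Q`
  have hcQ : ⁅t, x⁆ ∈ Q := by
    have h4 : x * t⁻¹ * x⁻¹ ∈ Q := hxQ _ (Q.inv_mem ht)
    have e : ⁅t, x⁆ = t * (x * t⁻¹ * x⁻¹) := by rw [commutatorElement_def]; group
    rw [e]; exact Q.mul_mem ht h4
  have hco : (orderOf ⁅t, x⁆).Coprime ℓ := by
    obtain ⟨k, hk⟩ := hQ ⟨⁅t, x⁆, hcQ⟩
    have hk' : ⁅t, x⁆ ^ q ^ k = 1 := by
      have := congrArg Subtype.val hk
      simpa using this
    exact Nat.Coprime.coprime_dvd_left (orderOf_dvd_of_pow_eq_one hk')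
      (Nat.Coprime.pow_left k ((Nat.coprime_primes hq hℓ).mpr hql))
  exact mem_centralizer_of_frat P hP ⁅t, x⁆ (hQP hcQ) hco h3

end PrimeAct
end Cfsg.Agent.Lib.Helper17
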