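import Mathlib
import Cfsg.Prelude.Def_OddOrderLocal
import Cfsg.Prelude.Def_Amalgam
import Cfsg.Prelude.Def_Transfer
import Cfsg.Agent.Lib.Helper17.PrimeAct2
import Cfsg.Agent.Lib.Helper1.Fitting
import Cfsg.Agent.Lib.Helper1.Commutator
import Cfsg.Agent.Lib.Helper8.FittingSub

/-!
# Facts on `Cfsg.fittingOf`, `Cfsg.pCoreOf` and `Cfsg.pResidual` used for prime action
-/

set_option autoImplicit false

namespace Cfsg.Agent.Lib.Helper17
namespace PrimeAct

open Subgroup
open scoped commutatorElement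

theorem fittingOf_le {G : Type*} [Group G] (K : Subgroup G) : Cfsg.fittingOf K ≤ K :=
  Subgroup.map_subtype_le _

theorem normalizer_le_normalizer_fittingOf {G : Type*} [Group G] (K : Subgroup G) :
    normalizer (K : Set G) ≤ normalizer ((Cfsg.fittingOf K : Subgroup G) : Set G) := by
  apply normalizer_le_normalizer_map_of_char
  intro φ
  exact (Cfsg.Agent.Lib.Helper8.fittingSubgroup_map_equiv φ).le

/-- `F(M) ≤ F(K)` for `M ≤ K` normalized by `K`. -/
theorem fittingOf_le_of_normal {G : Type*} [Group G] (M K : Subgroup G) [Finite K] (hMK : M ≤ K)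
    (hn : K ≤ normalizer (M : Set G)) : Cfsg.fittingOf M ≤ Cfsg.fittingOf K := by
  have hMn : (M.subgroupOf K).Normal := (Subgroup.normal_subgroupOf_iff_le_normalizer hMK).mpr hn
  have h1 := Cfsg.Agent.Lib.Helper8.fitting_map_subtype_le (M.subgroupOf K)
  let e : ↥(M.subgroupOf K) ≃* ↥M := Subgroup.subgroupOfEquivOfLe hMK
  have h2 := Cfsg.Agent.Lib.Helper8.fittingSubgroup_map_equiv e
  rintro _ ⟨y, hy, rfl⟩
  rw [← h2] at hy
  obtain ⟨z, hz, rfl⟩ := hy
  have h3 : (M.subgroupOf K).subtype z ∈ Cfsg.fittingSubgroup ↥K := h1 ⟨z, hz, rfl⟩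
  exact ⟨(M.subgroupOf K).subtype z, h3, rfl⟩

/-- A nilpotent subgroup of `K` normalized by `K` lies in `F(K)`. -/
theorem le_fittingOf {G : Type*} [Group G] (C K : Subgroup G) (hCK : C ≤ K)
    (hn : K ≤ normalizer (C : Set G)) (hnil : Group.IsNilpotent ↥C) : C ≤ Cfsg.fittingOf K := by
  have hCn : (C.subgroupOf K).Normal := (Subgroup.normal_subgroupOf_iff_le_normalizer hCK).mpr hn
  let e : ↥(C.subgroupOf K) ≃* ↥C := Subgroup.subgroupOfEquivOfLe hCK
  have hnil' : Group.IsNilpotent ↥(C.subgroupOf K) := Group.nilpotent_of_mulEquiv e.symm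
  have h1 := Cfsg.Agent.Lib.Helper1.le_fittingSubgroup hCn hnil'
  intro c hc
  exact ⟨⟨c, hCK hc⟩, h1 (by rw [Subgroup.mem_subgroupOf]; exact hc), rfl⟩

theorem pCoreOf_le {G : Type*} [Group G] (p : ℕ) (K : Subgroup G) : Cfsg.pCoreOf p K ≤ K :=
  Subgroup.map_subtype_le _

theorem pCoreOf_isPGroup {G : Type*} [Group G] (p : ℕ) [Fact p.Prime] (K : Subgroup G) [Finite K] :
    IsPGroup p (Cfsg.pCoreOf p K) :=
  (Cfsg.Agent.Lib.Helper1.pCore_isPGroup p ↥K).map _

theorem normalizer_le_normalizer_pCoreOf {G : Type*} [Group G] (p : ℕ) [Fact p.Prime] (K : Subgroup G)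
    [Finite K] :
    normalizer (K : Set G) ≤ normalizer ((Cfsg.pCoreOf p K : Subgroup G) : Set G) := by
  apply normalizer_le_normalizer_map_of_char
  intro φ
  apply Cfsg.Agent.Lib.Helper1.le_pCore
  · exact Subgroup.Normal.map (Cfsg.Agent.Lib.Helper1.pCore_normal p ↥K) _ φ.surjective
  · exact (Cfsg.Agent.Lib.Helper1.pCore_isPGroup p ↥K).map _

theorem fittingOf_eq_iSup {G : Type*} [Group G] (K : Subgroup G) [Finite K] :
    Cfsg.fittingOf K = ⨆ p : Nat.Primes, Cfsg.pCoreOf (p : ℕ) K := by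
  unfold Cfsg.fittingOf Cfsg.pCoreOf
  rw [Cfsg.Agent.Lib.Helper1.fittingSubgroup_eq_iSup_pCore, Subgroup.map_iSup]

theorem pCoreOf_le_fittingOf {G : Type*} [Group G] (K : Subgroup G) [Finite K] (p : ℕ) [hp : Fact p.Prime] :
    Cfsg.pCoreOf p K ≤ Cfsg.fittingOf K := by
  rw [fittingOf_eq_iSup]
  exact le_iSup (fun q : Nat.Primes => Cfsg.pCoreOf (q : ℕ) K) ⟨p, hp.out⟩

theorem pCoreOf_commute {G : Type*} [Group G] (K : Subgroup G) [Finite K] {p q : ℕ} [Fact p.Prime]
    [Fact q.Prime] (hpq : p ≠ q) (a b : G) (ha : a ∈ Cfsg.pCoreOf p K) (hb : b ∈ Cfsg.pCoreOf q K) :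
    a * b = b * a := by
  obtain ⟨a', ha', rfl⟩ := ha
  obtain ⟨b', hb', rfl⟩ := hb
  have := Cfsg.Agent.Lib.Helper1.pCore_commute hpq a' b' ha' hb'
  have h2 := congrArg Subtype.val this.eq
  simpa using h2

theorem pCoreOf_le_sylow {G : Type*} [Group G] (K : Subgroup G) {p : ℕ} (Q : Sylow p ↥K) :
    Cfsg.pCoreOf p K ≤ (Q : Subgroup ↥K).map K.subtype :=
  Subgroup.map_mono (Cfsg.Agent.Lib.Helper1.pCore_le_sylow Q)

/-! ### `O^s` -/

theorem pResidual_map_equiv_le {X : Type*} [Group X] (s : ℕ) (φ : X ≃* X) :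
    (Cfsg.pResidual s X).map φ.toMonoidHom ≤ Cfsg.pResidual s X := by
  unfold Cfsg.pResidual
  rw [MonoidHom.map_closure, Subgroup.closure_le]
  rintro _ ⟨g, hg, rfl⟩
  apply Subgroup.subset_closure
  show Nat.Coprime (orderOf (φ g)) s
  rw [MulEquiv.orderOf_eq]
  exact hg

theorem pResidual_eq_top_of_not_dvd {X : Type*} [Group X] [Finite X] {s : ℕ} (hs : s.Prime)
    (h : ¬ s ∣ Nat.card X) : Cfsg.pResidual s X = ⊤ := by
  rw [eq_top_iff]
  intro g _
  apply Subgroup.subset_closure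
  show Nat.Coprime (orderOf g) s
  rw [Nat.coprime_comm, Nat.Prime.coprime_iff_not_dvd hs]
  intro h2
  exact h (h2.trans (orderOf_dvd_natCard g))

/-- In a commutative group, `O^s` consists of the elements of order prime to `s`. -/
theorem coprime_orderOf_of_mem_pResidual {A : Type*} [CommGroup A] {s : ℕ} (a : A)
    (ha : a ∈ Cfsg.pResidual s A) : Nat.Coprime (orderOf a) s := by
  unfold Cfsg.pResidual at ha
  induction ha using Subgroup.closure_induction with
  | mem x hx => exact hx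
  | one => simp
  | mul x y _ _ hx hy =>
    exact Nat.Coprime.coprime_dvd_left (Commute.all x y).orderOf_mul_dvd_mul_orderOf
      (Nat.Coprime.mul_left hx hy)
  | inv x _ hx => rw [orderOf_inv]; exact hx

theorem map_mem_pResidual {X Y : Type*} [Group X] [Group Y] (s : ℕ) (f : X →* Y) (g : X)
    (hg : g ∈ Cfsg.pResidual s X) : f g ∈ Cfsg.pResidual s Y := by
  unfold Cfsg.pResidual at hg ⊢
  induction hg using Subgroup.closure_induction with
  | mem x hx =>
    apply Subgroup.subset_closure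
    show Nat.Coprime (orderOf (f x)) s
    exact Nat.Coprime.coprime_dvd_left (orderOf_map_dvd _ x) hx
  | one => rw [map_one]; exact Subgroup.one_mem _
  | mul x y _ _ hx hy => rw [map_mul]; exact Subgroup.mul_mem _ hx hy
  | inv x _ hx => rw [map_inv]; exact Subgroup.inv_mem _ hx

/-- A nontrivial finite solvable group has `O^s(X) < X` for some prime `s`. -/
theorem exists_pResidual_ne_top {X : Type*} [Group X] [Finite X] [Nontrivial X] [hX : Group.IsSolvable X] :
    ∃ s : ℕ, s.Prime ∧ Cfsg.pResidual s X ≠ ⊤ := by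
  by_contra hcon
  push Not at hcon
  have hlt : commutator X < ⊤ := Group.IsSolvable.commutator_lt_top_of_nontrivial X
  have hA : Nontrivial (Abelianization X) := by
    by_contra hsub
    rw [not_nontrivial_iff_subsingleton] at hsub
    apply hlt.ne
    rw [eq_top_iff]
    intro g _
    rw [← Abelianization.ker_of, MonoidHom.mem_ker]
    exact Subsingleton.elim _ _
  obtain ⟨a, ha⟩ := exists_ne (1 : Abelianization X)
  have hord : orderOf a ≠ 1 := by
    rw [Ne, orderOf_eq_one_iff]; exact ha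
  obtain ⟨s, hs, hsa⟩ := Nat.exists_prime_and_dvd hord
  have h1 : Cfsg.pResidual s X = ⊤ := hcon s hs
  have h2 : a ∈ Cfsg.pResidual s (Abelianization X) := by
    obtain ⟨g, hg⟩ : ∃ g : X, Abelianization.of g = a := QuotientGroup.mk_surjective a
    rw [← hg]
    apply map_mem_pResidual
    rw [h1]; exact Subgroup.mem_top g
  have h3 := coprime_orderOf_of_mem_pResidual a h2
  exact (Nat.Prime.coprime_iff_not_dvd hs).mp h3.symm hsa

end PrimeAct
end Cfsg.Agent.Lib.Helper17
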