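import Mathlib
import Cfsg.Agent.Lib.Helper17.PrimeAct3
import Cfsg.Agent.Lib.Helper9.CoprimeSylow
import Cfsg.Agent.Lib.Helper12.Residual

/-!
# Prime action: `[K, x] ≤ F(K)` when `C_{F(K)}(x) = 1` (solvable `K` of odd order, `x` of prime
order coprime to `|K|`)
-/

set_option autoImplicit false

namespace Cfsg.Agent.Lib.Helper17
namespace PrimeAct

open Subgroup
open scoped commutatorElement

universe u

/-- `(t * n)^j ∈ t^j N` when `t` normalizes `N`. -/
theorem exists_pow_mul_eq {G : Type*} [Group G] (N : Subgroup G) (t n : G)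
    (ht : t ∈ normalizer (N : Set G)) (hn : n ∈ N) (j : ℕ) : ∃ n' ∈ N, (t * n) ^ j = t ^ j * n' := by
  induction j with
  | zero => exact ⟨1, N.one_mem, by simp⟩
  | succ j ih =>
    obtain ⟨n', hn', h⟩ := ih
    have h1 : t⁻¹ * n' * t⁻¹⁻¹ ∈ N :=
      (Subgroup.mem_normalizer_iff.mp (Subgroup.inv_mem _ ht) _).mp hn'
    refine ⟨t⁻¹ * n' * t⁻¹⁻¹ * n, N.mul_mem h1 hn, ?_⟩
    rw [pow_succ, h, pow_succ]; group

theorem comm_mem_of_normalizer {G : Type*} [Group G] (F : Subgroup G) (f x : G) (hf : f ∈ F)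
    (hx : x ∈ normalizer (F : Set G)) : ⁅f, x⁆ ∈ F := by
  have h1 : x * f⁻¹ * x⁻¹ ∈ F := (Subgroup.mem_normalizer_iff.mp hx _).mp (F.inv_mem hf)
  have e : ⁅f, x⁆ = f * (x * f⁻¹ * x⁻¹) := by rw [commutatorElement_def]; group
  rw [e]; exact F.mul_mem hf h1

theorem comm_mul_left_eq {G : Type*} [Group G] (a b c : G) :
    ⁅a * b, c⁆ = a * ⁅b, c⁆ * a⁻¹ * ⁅a, c⁆ := by
  simp only [commutatorElement_def]; group

/-- **Prime action**: `K` solvable of odd order normalized by `x` of prime order `r ∤ |K|` with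
`C_{F(K)}(x) = 1`.  Then `[K, x] ≤ F(K)`. -/
theorem comm_mem_fittingOf {G : Type u} [Group G] [Finite G] (x : G) {r : ℕ} (hr : r.Prime)
    (hx : x ^ r = 1) :
    ∀ (n : ℕ) (K : Subgroup G), Nat.card K = n → x ∈ normalizer (K : Set G) →
      Group.IsSolvable K → Odd (Nat.card K) → ¬ r ∣ Nat.card K →
      (∀ f ∈ Cfsg.fittingOf K, x * f = f * x → f = 1) →
      ∀ k ∈ K, ⁅k, x⁆ ∈ Cfsg.fittingOf K := by
  intro n
  induction n using Nat.strong_induction_on with
  | _ n ih =>
  intro K hn hxK hsolv hodd hrK hfix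
  obtain ⟨F, hF⟩ : ∃ F : Subgroup G, F = Cfsg.fittingOf K := ⟨_, rfl⟩
  rw [← hF] at hfix ⊢
  have hFK : F ≤ K := hF ▸ fittingOf_le K
  have hNF : normalizer (K : Set G) ≤ normalizer (F : Set G) := hF ▸ normalizer_le_normalizer_fittingOf K
  have hKNK : K ≤ normalizer (K : Set G) := le_normalizer
  have hxF : x ∈ normalizer (F : Set G) := hNF hxK
  have hKF : K ≤ normalizer (F : Set G) := hKNK.trans hNF
  obtain ⟨A, hA⟩ : ∃ A : Subgroup G, A = zpowers x := ⟨_, rfl⟩
  have hxA : x ∈ A := hA ▸ Subgroup.mem_zpowers x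
  have hAK : A ≤ normalizer (K : Set G) := by rw [hA, Subgroup.zpowers_le]; exact hxK
  have hcardA : Nat.card A ∣ r := by
    rw [hA, Nat.card_zpowers]; exact orderOf_dvd_of_pow_eq_one hx
  have hcop : (Nat.card A).Coprime (Nat.card K) :=
    Nat.Coprime.coprime_dvd_left hcardA ((Nat.Prime.coprime_iff_not_dvd hr).mpr hrK)
  have hAsolv : Group.IsSolvable A := by rw [hA]; infer_instance
  obtain ⟨L, hL⟩ : ∃ L : Subgroup G, L = ⁅K, A⁆ := ⟨_, rfl⟩
  have hLK : L ≤ K := hL ▸ Cfsg.Agent.Lib.Helper1.commutator_le_of_le_normalizer hAK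
  have hKL : K ≤ normalizer (L : Set G) := hL ▸ Cfsg.Agent.Lib.Helper1.le_normalizer_commutator_left K A
  have hAL : A ≤ normalizer (L : Set G) := hL ▸ Cfsg.Agent.Lib.Helper1.le_normalizer_commutator_right K A
  have hdec : K ≤ (K ⊓ centralizer (A : Set G)) ⊔ L :=
    hL ▸ le_centralizer_sup_commutator A K hAK hcop (Or.inl hAsolv)
  -- generic facts for subgroups of `K` normalized by `x`
  have hsub : ∀ M : Subgroup G, M ≤ K → Group.IsSolvable M ∧ Odd (Nat.card M) ∧ ¬ r ∣ Nat.card M := by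
    intro M hMK
    refine ⟨?_, ?_, ?_⟩
    · exact Group.isSolvable_of_isSolvable_injective (Subgroup.inclusion_injective hMK)
    · exact Odd.of_dvd_nat hodd (Subgroup.card_dvd_of_le hMK)
    · exact fun h => hrK (h.trans (Subgroup.card_dvd_of_le hMK))
  have hIH : ∀ M : Subgroup G, M ≤ K → M ≠ K → K ≤ normalizer (M : Set G) →
      x ∈ normalizer (M : Set G) → ∀ m ∈ M, ⁅m, x⁆ ∈ F := by
    intro M hMK hMne hKM hxM m hm
    have hlt : Nat.card M < n := by
      rw [← hn]
      by_contra hge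
      push Not at hge
      exact hMne (Subgroup.eq_of_le_of_card_ge hMK hge)
    obtain ⟨h1, h2, h3⟩ := hsub M hMK
    have hFM : Cfsg.fittingOf M ≤ F := hF ▸ fittingOf_le_of_normal M K hMK hKM
    have := ih (Nat.card M) hlt M rfl hxM h1 h2 h3 (fun f hf hxf => hfix f (hFM hf) hxf) m hm
    exact hFM this
  by_cases hLeq : L = K
  swap
  · -- case `[K, x] < K`
    have h1 := hIH L hLK hLeq hKL (hAL hxA)
    intro k hk
    have hk' := hdec hk
    have hnorm : K ⊓ centralizer (A : Set G) ≤ normalizer (L : Set G) := inf_le_left.trans hKL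
    have hcoe := Subgroup.coe_mul_of_left_le_normalizer_right (K ⊓ centralizer (A : Set G)) L hnorm
    have hk2 : k ∈ ((K ⊓ centralizer (A : Set G)) ⊔ L : Subgroup G) := hk'
    rw [← SetLike.mem_coe, hcoe] at hk2
    obtain ⟨c, hc, l, hl, rfl⟩ := hk2
    rw [SetLike.mem_coe] at hc hl
    have hcx : c * x = x * c := by
      have hcc : c ∈ centralizer (A : Set G) := hc.2
      rw [Subgroup.mem_centralizer_iff] at hcc
      exact (hcc x hxA).symm
    have hcx' : ⁅c, x⁆ = 1 := by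
      rw [commutatorElement_eq_one_iff_mul_comm]; exact hcx
    rw [comm_mul_left_eq, hcx', mul_one]
    exact (Subgroup.mem_normalizer_iff.mp (hKF hc.1) _).mp (h1 l hl)
  · -- case `K = [K, x]`: show `K ≤ F`
    suffices hKleF : K ≤ F by
      intro k hk
      exact hKleF (comm_mem_of_normalizer K k x hk hxK)
    by_cases hKbot : K = ⊥
    · rw [hKbot]; exact bot_le
    haveI : Nontrivial ↥K := (Subgroup.nontrivial_iff_ne_bot K).mpr hKbot
    haveI : Group.IsSolvable ↥K := hsolv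
    obtain ⟨s, hs, hres⟩ := exists_pResidual_ne_top (X := ↥K)
    haveI : Fact s.Prime := ⟨hs⟩
    have hsK : s ∣ Nat.card K := by
      by_contra h
      exact hres (pResidual_eq_top_of_not_dvd hs h)
    have hs2 : s ≠ 2 := by
      rintro rfl
      exact (Nat.not_even_iff_odd.mpr hodd) (even_iff_two_dvd.mpr hsK)
    have hsr : s ≠ r := by
      rintro rfl
      exact hrK hsK
    -- `K₁ = O^s(K)`
    obtain ⟨K₁, hK₁⟩ : ∃ K₁ : Subgroup G, K₁ = (Cfsg.pResidual s ↥K).map K.subtype := ⟨_, rfl⟩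
    have hK₁K : K₁ ≤ K := hK₁ ▸ Subgroup.map_subtype_le _
    have hK₁ne : K₁ ≠ K := by
      intro h
      apply hres
      rw [eq_top_iff]
      intro k _
      have hk : (k : G) ∈ K₁ := by rw [h]; exact k.2
      rw [hK₁] at hk
      obtain ⟨y, hy, hyk⟩ := hk
      have : y = k := Subtype.ext hyk
      rwa [← this]
    have hNK₁ : normalizer (K : Set G) ≤ normalizer (K₁ : Set G) := by
      rw [hK₁]
      exact normalizer_le_normalizer_map_of_char K _ (pResidual_map_equiv_le s)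
    have hK₁x := hIH K₁ hK₁K hK₁ne (hKNK.trans hNK₁) (hNK₁ hxK)
    -- an `x`-invariant Sylow `s`-subgroup
    obtain ⟨Q, hQ⟩ := Cfsg.Agent.Lib.Helper9.exists_invariant_sylow A K hAK hcop (Or.inl hAsolv) s
    obtain ⟨S, hS⟩ : ∃ S : Subgroup G, S = (Q : Subgroup ↥K).map K.subtype := ⟨_, rfl⟩
    rw [← hS] at hQ
    have hSK : S ≤ K := hS ▸ Subgroup.map_subtype_le _
    have hSs : IsPGroup s S := hS ▸ Q.isPGroup'.map _
    have hxS : x ∈ normalizer (S : Set G) := hQ hxA
    have hKdec : ∀ k ∈ K, ∃ t ∈ S, ∃ h ∈ K₁, k = t * h := by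
      intro k hk
      haveI := Cfsg.Agent.Lib.Helper12.pResidual_normal' s ↥K
      have h1 : (Q : Subgroup ↥K) ⊔ Cfsg.pResidual s ↥K = ⊤ :=
        Cfsg.Agent.Lib.Helper12.sup_pResidual_eq_top (Q : Subgroup ↥K) Q.not_dvd_index
      have h2 : (⟨k, hk⟩ : ↥K) ∈ (Q : Subgroup ↥K) ⊔ Cfsg.pResidual s ↥K := by
        rw [h1]; exact Subgroup.mem_top _
      obtain ⟨t, ht, h, hh, hth⟩ := Subgroup.mem_sup_of_normal_right.mp h2
      refine ⟨t, hS ▸ ⟨t, ht, rfl⟩, h, hK₁ ▸ ⟨h, hh, rfl⟩, ?_⟩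
      have := congrArg Subtype.val hth
      simpa using this.symm
    -- `K ≤ F ⊔ S`
    have hxFS : x ∈ normalizer ((F ⊔ S : Subgroup G) : Set G) :=
      Subgroup.normalizer_inf_normalizer_le_normalizer_sup F S ⟨hxF, hxS⟩
    have hKFS : K ≤ F ⊔ S := by
      have h1 : ∀ k ∈ K, ⁅k, x⁆ ∈ F ⊔ S := by
        intro k hk
        obtain ⟨t, ht, h, hh, rfl⟩ := hKdec k hk
        rw [comm_mul_left_eq]
        have h2 : t * ⁅h, x⁆ * t⁻¹ ∈ F :=
          (Subgroup.mem_normalizer_iff.mp (hKF (hSK ht)) _).mp (hK₁x h hh)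
        exact Subgroup.mul_mem _ (Subgroup.mem_sup_left h2)
          (Subgroup.mem_sup_right (comm_mem_of_normalizer S t x ht hxS))
      have h2 : ⁅K, zpowers x⁆ ≤ F ⊔ S := commutator_zpowers_le hxFS h1
      rw [← hA, ← hL, hLeq] at h2
      exact h2
    -- `N = O_{s'}(F)`
    obtain ⟨N, hN⟩ : ∃ N : Subgroup G,
        N = ⨆ (ℓ : Nat.Primes) (_ : (ℓ : ℕ) ≠ s), Cfsg.pCoreOf (ℓ : ℕ) K := ⟨_, rfl⟩
    have hNF' : N ≤ F := by
      rw [hN, hF]
      refine iSup_le fun ℓ => iSup_le fun _ => ?_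
      haveI : Fact (ℓ : ℕ).Prime := ⟨ℓ.2⟩
      exact pCoreOf_le_fittingOf K ℓ
    have hNN : normalizer (K : Set G) ≤ normalizer (N : Set G) := by
      rw [hN]
      intro g hg
      have h1 : g ∈ ⨅ (ℓ : Nat.Primes), normalizer
          ((⨆ (_ : (ℓ : ℕ) ≠ s), Cfsg.pCoreOf (ℓ : ℕ) K : Subgroup G) : Set G) := by
        rw [Subgroup.mem_iInf]
        intro ℓ
        haveI : Fact (ℓ : ℕ).Prime := ⟨ℓ.2⟩
        apply Subgroup.iInf_normalizer_le_normalizer_iSup
        rw [Subgroup.mem_iInf]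
        intro _
        exact normalizer_le_normalizer_pCoreOf (ℓ : ℕ) K hg
      exact Subgroup.iInf_normalizer_le_normalizer_iSup _ h1
    have hPsS : Cfsg.pCoreOf s K ≤ S := hS ▸ pCoreOf_le_sylow K Q
    have hFNP : F ≤ N ⊔ Cfsg.pCoreOf s K := by
      rw [hF, fittingOf_eq_iSup]
      refine iSup_le fun ℓ => ?_
      by_cases hℓ : (ℓ : ℕ) = s
      · rw [hℓ]; exact le_sup_right
      · refine le_trans ?_ le_sup_left
        rw [hN]
        exact le_iSup₂_of_le ℓ hℓ le_rfl
    have hKNS : K ≤ N ⊔ S := hKFS.trans (sup_le (hFNP.trans (sup_le le_sup_left (hPsS.trans le_sup_right))) le_sup_right)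
    -- `C = C_K(N)`
    obtain ⟨C, hC⟩ : ∃ C : Subgroup G, C = K ⊓ centralizer (N : Set G) := ⟨_, rfl⟩
    have hCK : C ≤ K := hC ▸ inf_le_left
    have hNC : normalizer (K : Set G) ≤ normalizer (C : Set G) := by
      intro g hg
      rw [hC]
      have h1 : g ∈ normalizer ((centralizer (N : Set G) : Subgroup G) : Set G) := by
        have hgN := hNN hg
        rw [Subgroup.mem_normalizer_iff] at hgN ⊢
        have key : ∀ g : G, (∀ h, h ∈ N ↔ g * h * g⁻¹ ∈ N) → ∀ c ∈ centralizer (N : Set G),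
            g * c * g⁻¹ ∈ centralizer (N : Set G) := by
          intro g hgN c hc
          rw [Subgroup.mem_centralizer_iff] at hc ⊢
          intro m hm
          have hm' : g⁻¹ * m * g ∈ N := by
            rw [hgN]; simpa [mul_assoc] using hm
          have := hc _ hm'
          calc m * (g * c * g⁻¹) = g * ((g⁻¹ * m * g) * c) * g⁻¹ := by group
            _ = g * (c * (g⁻¹ * m * g)) * g⁻¹ := by rw [this]
            _ = g * c * g⁻¹ * m := by group
        intro c
        constructor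
        · exact key g hgN c
        · intro hc
          have hgN' : ∀ h, h ∈ N ↔ g⁻¹ * h * g⁻¹⁻¹ ∈ N := by
            intro h
            rw [hgN (g⁻¹ * h * g⁻¹⁻¹)]
            simp [mul_assoc]
          have := key g⁻¹ hgN' _ hc
          simpa [mul_assoc] using this
      rw [Subgroup.mem_normalizer_iff] at hg h1 ⊢
      intro h
      rw [Subgroup.mem_inf, Subgroup.mem_inf, hg h, h1 h]
    have hSNK : S ≤ normalizer (K : Set G) := hSK.trans hKNK
    have hSx : ∀ t ∈ S, ⁅t, x⁆ ∈ C := by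
      intro t ht
      have hcS : ⁅t, x⁆ ∈ S := comm_mem_of_normalizer S t x ht hxS
      rw [hC]
      refine ⟨hSK hcS, ?_⟩
      have hle : N ≤ centralizer ({⁅t, x⁆} : Set G) := by
        rw [hN]
        refine iSup_le fun ℓ => iSup_le fun hℓ => ?_
        haveI : Fact (ℓ : ℕ).Prime := ⟨ℓ.2⟩
        intro v hv
        rw [Subgroup.mem_centralizer_singleton_iff]
        by_cases hℓr : (ℓ : ℕ) = r
        · have hbot : Cfsg.pCoreOf (ℓ : ℕ) K = ⊥ := by
            unfold Cfsg.pCoreOf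
            rw [Cfsg.Agent.Lib.Helper1.pCore_eq_bot_of_not_dvd (hℓr ▸ hrK), Subgroup.map_bot]
          rw [hbot, Subgroup.mem_bot] at hv
          rw [hv]; simp
        · have hxQ : ∀ u ∈ S, x * u * x⁻¹ ∈ S := fun u hu =>
            (Subgroup.mem_normalizer_iff.mp hxS u).mp hu
          have h1 := comm_mem_centralizer (ℓ := (ℓ : ℕ)) hs hr (Ne.symm hℓ) (Ne.symm hℓr) hsr hs2
            (Cfsg.pCoreOf (ℓ : ℕ) K) S x (pCoreOf_isPGroup (ℓ : ℕ) K) hSs
            (hSNK.trans (normalizer_le_normalizer_pCoreOf (ℓ : ℕ) K))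
            (normalizer_le_normalizer_pCoreOf (ℓ : ℕ) K hxK) hxQ hx
            (fun v hv hxv => hfix v (hF ▸ pCoreOf_le_fittingOf K (ℓ : ℕ) hv) hxv) t ht
          rw [Subgroup.mem_centralizer_iff] at h1
          exact h1 v hv
      show ⁅t, x⁆ ∈ centralizer (N : Set G)
      rw [Subgroup.mem_centralizer_iff]
      intro m hm
      have := hle hm
      rw [Subgroup.mem_centralizer_singleton_iff] at this
      exact this
    have hPsC : Cfsg.pCoreOf s K ≤ C := by
      rw [hC]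
      refine le_inf (pCoreOf_le s K) ?_
      rw [Subgroup.le_centralizer_iff, hN]
      refine iSup_le fun ℓ => iSup_le fun hℓ => ?_
      haveI : Fact (ℓ : ℕ).Prime := ⟨ℓ.2⟩
      intro v hv
      rw [Subgroup.mem_centralizer_iff]
      intro u hu
      exact pCoreOf_commute K (Ne.symm hℓ) u v hu hv
    have hxNC : x ∈ normalizer ((N ⊔ C : Subgroup G) : Set G) :=
      Subgroup.normalizer_inf_normalizer_le_normalizer_sup N C ⟨hNN hxK, hNC hxK⟩
    have hFNC : F ≤ N ⊔ C := hFNP.trans (sup_le le_sup_left (hPsC.trans le_sup_right))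
    have hKNC : K ≤ N ⊔ C := by
      have h1 : ∀ k ∈ K, ⁅k, x⁆ ∈ N ⊔ C := by
        intro k hk
        have hk2 : k ∈ (S ⊔ F : Subgroup G) := by
          rw [sup_comm]; exact hKFS hk
        have hcoe := Subgroup.coe_mul_of_left_le_normalizer_right S F (hSK.trans hKF)
        rw [← SetLike.mem_coe, hcoe] at hk2
        obtain ⟨t, ht, f, hf, rfl⟩ := hk2
        rw [SetLike.mem_coe] at ht hf
        rw [comm_mul_left_eq]
        have h2 : t * ⁅f, x⁆ * t⁻¹ ∈ F :=
          (Subgroup.mem_normalizer_iff.mp (hKF (hSK ht)) _).mp (comm_mem_of_normalizer F f x hf hxF)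
        exact Subgroup.mul_mem _ (hFNC h2) (Subgroup.mem_sup_right (hSx t ht))
      have h2 : ⁅K, zpowers x⁆ ≤ N ⊔ C := commutator_zpowers_le hxNC h1
      rw [← hA, ← hL, hLeq] at h2
      exact h2
    -- `C` is nilpotent
    obtain ⟨b, hb⟩ := IsPGroup.iff_card.mp hSs
    have hCcen : ∀ z ∈ C ⊓ N, ∀ c ∈ C, z * c = c * z := by
      intro z hz c hc
      have hc2 : c ∈ centralizer (N : Set G) := by
        rw [hC] at hc; exact hc.2
      rw [Subgroup.mem_centralizer_iff] at hc2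
      exact hc2 z hz.2
    have hpow : ∀ c ∈ C, c ^ (s ^ b) ∈ C ⊓ N := by
      intro c hc
      refine ⟨C.pow_mem hc _, ?_⟩
      have hc2 : c ∈ (S ⊔ N : Subgroup G) := by
        rw [sup_comm]; exact hKNS (hCK hc)
      have hSN : S ≤ normalizer (N : Set G) := hSNK.trans hNN
      have hcoe := Subgroup.coe_mul_of_left_le_normalizer_right S N hSN
      rw [← SetLike.mem_coe, hcoe] at hc2
      obtain ⟨t, ht, m, hm, rfl⟩ := hc2
      rw [SetLike.mem_coe] at ht hm
      obtain ⟨n', hn', h⟩ := exists_pow_mul_eq N t m (hSN ht) hm (s ^ b)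
      have ht1 : t ^ (s ^ b) = 1 := by
        have h1 : (⟨t, ht⟩ : ↥S) ^ Nat.card ↥S = 1 := pow_card_eq_one'
        rw [hb] at h1
        have := congrArg Subtype.val h1
        simpa using this
      show (t * m) ^ (s ^ b) ∈ N
      rw [h, ht1, one_mul]
      exact hn'
    have hCnil : Group.IsNilpotent ↥C := by
      apply Group.of_quotient_center_nilpotent
      have hp : IsPGroup s (↥C ⧸ center ↥C) := by
        intro g
        refine ⟨b, ?_⟩
        induction g using QuotientGroup.induction_on with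
        | H c =>
          rw [← QuotientGroup.mk_pow, QuotientGroup.eq_one_iff, Subgroup.mem_center_iff]
          intro d
          have h1 := hCcen _ (hpow c c.2) d d.2
          apply Subtype.ext
          simpa using h1.symm
      exact hp.isNilpotent
    have hCF : C ≤ F := hF ▸ le_fittingOf C K hCK (hKNK.trans hNC) hCnil
    exact hKNC.trans (sup_le hNF' hCF)

end PrimeAct
end Cfsg.Agent.Lib.Helper17
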