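/-
Helper lemmas (helper17): tools for Bender–Glauberman Theorem 8.1 (the Fitting subgroup of a
maximal subgroup).  Part A: `G`-level facts on `O_q(H)`, `F(H)`, `O_{q'}(H)`, centres.
-/
import Mathlib
import Cfsg.Agent.Lib.Helper17.BGUniqG
import Cfsg.Agent.Lib.Helper17.PrimeAct3
import Cfsg.Agent.Lib.Helper17.Bender
import Cfsg.Agent.Lib.Helper17.CoprimeGen
import Cfsg.Agent.Lib.Helper8.HallSCN1
import Cfsg.Agent.Lib.Helper8.PPrimeCent

set_option autoImplicit false
open scoped Pointwise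

namespace Cfsg.Agent.Lib.Helper17.BGU

open Cfsg.Agent.Lib.Helper12.CoreControl (coreQ coreQ_le coreQ_coprime le_coreQ
  normalizer_le_normalizer_coreQ)
open Cfsg.Agent.Lib.Helper27.PuigOdd (zOf normalizer_le_normalizer_zOf)

universe u
variable {G : Type u} [Group G]

theorem le_pCoreOf {q : ℕ} {X H : Subgroup G} (hXH : X ≤ H)
    (hn : H ≤ Subgroup.normalizer (X : Set G)) (hX : IsPGroup q X) : X ≤ Cfsg.pCoreOf q H := by
  have hXn : (X.subgroupOf H).Normal := (Subgroup.normal_subgroupOf_iff_le_normalizer hXH).mpr hn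
  have hXp : IsPGroup q (X.subgroupOf H) := hX.comap_subtype
  have h1 := Cfsg.Agent.Lib.Helper1.le_pCore hXn hXp
  intro x hx
  exact ⟨⟨x, hXH hx⟩, h1 (by rw [Subgroup.mem_subgroupOf]; exact hx), rfl⟩

theorem le_normalizer_pCoreOf (q : ℕ) [Fact q.Prime] (H : Subgroup G) [Finite H] :
    H ≤ Subgroup.normalizer ((Cfsg.pCoreOf q H : Subgroup G) : Set G) :=
  Subgroup.le_normalizer.trans (PrimeAct.normalizer_le_normalizer_pCoreOf q H)

theorem le_normalizer_fittingOf (H : Subgroup G) :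
    H ≤ Subgroup.normalizer ((Cfsg.fittingOf H : Subgroup G) : Set G) :=
  Subgroup.le_normalizer.trans (PrimeAct.normalizer_le_normalizer_fittingOf H)

theorem le_normalizer_coreQ [Finite G] (q : ℕ) (H : Subgroup G) :
    H ≤ Subgroup.normalizer ((coreQ q H : Subgroup G) : Set G) :=
  Subgroup.le_normalizer.trans (normalizer_le_normalizer_coreQ q H)

theorem pCoreOf_le_pCoreOf_of_normal {q : ℕ} [Fact q.Prime] {T H : Subgroup G} [Finite T]
    (hTH : T ≤ H) (hn : H ≤ Subgroup.normalizer (T : Set G)) :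
    Cfsg.pCoreOf q T ≤ Cfsg.pCoreOf q H :=
  le_pCoreOf ((PrimeAct.pCoreOf_le q T).trans hTH)
    (hn.trans (PrimeAct.normalizer_le_normalizer_pCoreOf q T)) (PrimeAct.pCoreOf_isPGroup q T)

/-- A `q`-element of `F(H)` lies in `O_q(H)`. -/
theorem mem_pCoreOf_of_mem_fittingOf {q : ℕ} [Fact q.Prime] {H : Subgroup G} [Finite H] {x : G}
    (hx : x ∈ Cfsg.fittingOf H) {k : ℕ} (hk : x ^ (q ^ k) = 1) : x ∈ Cfsg.pCoreOf q H := by
  obtain ⟨y, hy, rfl⟩ := hx
  refine ⟨y, mem_pCore_of_mem_fitting q hy (k := k) ?_, rfl⟩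
  apply Subtype.ext
  simpa using hk

/-- A `q`-subgroup of `F(H)` lies in `O_q(H)`. -/
theorem le_pCoreOf_of_le_fittingOf {q : ℕ} [Fact q.Prime] {H X : Subgroup G} [Finite H]
    (hX : X ≤ Cfsg.fittingOf H) (hXq : IsPGroup q X) : X ≤ Cfsg.pCoreOf q H := by
  intro x hx
  obtain ⟨k, hk⟩ := hXq ⟨x, hx⟩
  apply mem_pCoreOf_of_mem_fittingOf (hX hx) (k := k)
  simpa using congrArg Subtype.val hk

theorem pCoreOf_ne_bot_of_dvd_card_fittingOf {q : ℕ} [Fact q.Prime] {H : Subgroup G} [Finite H]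
    (h : q ∣ Nat.card (Cfsg.fittingOf H)) : Cfsg.pCoreOf q H ≠ ⊥ := by
  have h1 : Nat.card (Cfsg.fittingOf H) = Nat.card (Cfsg.fittingSubgroup ↥H) :=
    Subgroup.card_map_of_injective H.subtype_injective
  rw [h1] at h
  have h2 := pCore_ne_bot_of_dvd_card_fitting q h
  intro hbot
  apply h2
  unfold Cfsg.pCoreOf at hbot
  exact (Subgroup.map_eq_bot_iff_of_injective _ H.subtype_injective).mp hbot

/-- `C_H(F(H)) ≤ F(H)` for solvable `H`. -/
theorem inf_centralizer_fittingOf_le {H : Subgroup G} [Finite H] (hsol : Group.IsSolvable ↥H) :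
    H ⊓ Subgroup.centralizer ((Cfsg.fittingOf H : Subgroup G) : Set G) ≤ Cfsg.fittingOf H := by
  rintro x ⟨hxH, hxC⟩
  have h1 : (⟨x, hxH⟩ : ↥H) ∈ Subgroup.centralizer (Cfsg.fittingSubgroup ↥H : Set ↥H) := by
    rw [Subgroup.mem_centralizer_iff]
    intro y hy
    apply Subtype.ext
    exact (Subgroup.mem_centralizer_iff.mp hxC) (y : G) ⟨y, hy, rfl⟩
  exact ⟨⟨x, hxH⟩, Cfsg.Agent.Lib.Helper8.HallSCN.centralizer_fitting_le h1, rfl⟩

theorem le_centralizer_fittingOf_of_forall {H X : Subgroup G} [Finite H]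
    (h : ∀ q : ℕ, q.Prime → X ≤ Subgroup.centralizer ((Cfsg.pCoreOf q H : Subgroup G) : Set G)) :
    X ≤ Subgroup.centralizer ((Cfsg.fittingOf H : Subgroup G) : Set G) := by
  rw [Subgroup.le_centralizer_iff, PrimeAct.fittingOf_eq_iSup]
  apply iSup_le
  intro q
  rw [← Subgroup.le_centralizer_iff]
  exact h q q.2

theorem zOf_le (L : Subgroup G) : zOf L ≤ L := inf_le_left

theorem zOf_le_centralizer (L : Subgroup G) : zOf L ≤ Subgroup.centralizer (L : Set G) :=
  inf_le_right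

theorem zOf_ne_bot [Finite G] {p : ℕ} [Fact p.Prime] {S : Subgroup G} (hS : IsPGroup p S)
    (hne : S ≠ ⊥) : zOf S ≠ ⊥ := by
  have : Nontrivial ↥S := (Subgroup.nontrivial_iff_ne_bot S).mpr hne
  have hZ : Subgroup.center ↥S ≠ ⊥ := by
    have := hS.center_nontrivial
    exact (Subgroup.nontrivial_iff_ne_bot _).mp this
  obtain ⟨⟨z, hz⟩, hz1'⟩ := (Subgroup.ne_bot_iff_exists_ne_one).mp hZ
  have hz1 : z ≠ 1 := fun h => hz1' (Subtype.ext h)
  intro hbot
  apply hz1
  have hzC : (z : G) ∈ Subgroup.centralizer (S : Set G) := by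
    rw [Subgroup.mem_centralizer_iff]
    intro s hs
    have := (Subgroup.mem_center_iff.mp hz) ⟨s, hs⟩
    exact congrArg Subtype.val this
  have h2 : (z : G) ∈ zOf S := ⟨z.2, hzC⟩
  rw [hbot, Subgroup.mem_bot] at h2
  exact Subtype.ext h2

/-- Elements of `O_q(H)` and `O_{q'}(H)` commute. -/
theorem commute_pCoreOf_coreQ [Finite G] {q : ℕ} [Fact q.Prime] (H : Subgroup G) {d a : G}
    (hd : d ∈ Cfsg.pCoreOf q H) (ha : a ∈ coreQ q H) : d * a = a * d := by
  have hdH : d ∈ H := PrimeAct.pCoreOf_le q H hd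
  have haH : a ∈ H := coreQ_le q H ha
  have h1 : d * a * d⁻¹ * a⁻¹ ∈ Cfsg.pCoreOf q H := by
    have h2 : a * d⁻¹ * a⁻¹ ∈ Cfsg.pCoreOf q H :=
      ((Subgroup.mem_normalizer_iff.mp (le_normalizer_pCoreOf q H haH)) d⁻¹).mp (inv_mem hd)
    have := mul_mem hd h2
    simpa [mul_assoc] using this
  have h3 : d * a * d⁻¹ * a⁻¹ ∈ coreQ q H := by
    have h2 : d * a * d⁻¹ ∈ coreQ q H :=
      ((Subgroup.mem_normalizer_iff.mp (le_normalizer_coreQ q H hdH)) a).mp ha
    exact mul_mem h2 (inv_mem ha)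
  have h4 := Cfsg.Agent.Lib.Helper12.CoreControl.eq_one_of_mem_of_coprime
    (Cfsg.pCoreOf q H) (coreQ q H) (PrimeAct.pCoreOf_isPGroup q H) (coreQ_coprime q H) _ h1 h3
  have h5 : d * a = (d * a * d⁻¹ * a⁻¹) * (a * d) := by group
  rw [h5, h4, one_mul]

/-- In a finite nilpotent group every subgroup is subnormal. -/
theorem isSubnormal_of_isNilpotent {N : Type*} [Group N] [Finite N] [Group.IsNilpotent N] :
    ∀ (n : ℕ) (B : Subgroup N), Nat.card N - Nat.card B = n → B.IsSubnormal := by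
  have hnc : NormalizerCondition N := Group.normalizerCondition_of_isNilpotent
  intro n
  induction n using Nat.strong_induction_on with
  | _ n ih =>
  intro B hn
  by_cases hB : B = ⊤
  · rw [hB]; exact Subgroup.IsSubnormal.top
  · have hlt : B < Subgroup.normalizer (B : Set N) := hnc B (lt_top_iff_ne_top.mpr hB)
    have hcard : Nat.card B < Nat.card (Subgroup.normalizer (B : Set N)) := by
      by_contra hge
      rw [not_lt] at hge
      exact hlt.ne (Subgroup.eq_of_le_of_card_ge hlt.le hge)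
    have hle : Nat.card (Subgroup.normalizer (B : Set N)) ≤ Nat.card N :=
      Subgroup.card_le_card_group _
    have h1 := ih (Nat.card N - Nat.card (Subgroup.normalizer (B : Set N))) (by omega) _ rfl
    exact Subgroup.IsSubnormal.step B _ hlt.le h1 Subgroup.normal_in_normalizer

theorem isSubnormal_subgroupOf_fittingOf [Finite G] {A M : Subgroup G} :
    (A.subgroupOf (Cfsg.fittingOf M)).IsSubnormal := by
  have : Group.IsNilpotent ↥(Cfsg.fittingOf M) := by
    have h1 : Group.IsNilpotent ↥(Cfsg.fittingSubgroup ↥M) :=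
      Cfsg.Agent.Lib.Helper1.fittingSubgroup_isNilpotent ↥M
    unfold Cfsg.fittingOf
    exact Group.nilpotent_of_mulEquiv
      ((Cfsg.fittingSubgroup ↥M).equivMapOfInjective _ M.subtype_injective)
  exact isSubnormal_of_isNilpotent _ _ rfl

/-- If `F(M)` is not a `p`-group then `O_r(M) ≠ 1` for some prime `r ≠ p`. -/
theorem exists_prime_ne_pCoreOf_ne_bot [Finite G] {p : ℕ} [Fact p.Prime] {M : Subgroup G}
    (h : ¬ IsPGroup p ↥(Cfsg.fittingOf M)) :
    ∃ r : ℕ, r.Prime ∧ r ≠ p ∧ Cfsg.pCoreOf r M ≠ ⊥ := by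
  by_contra hcon
  push Not at hcon
  apply h
  have h1 : Nat.card (Cfsg.fittingOf M) = p ^ (Nat.card (Cfsg.fittingOf M)).primeFactorsList.length := by
    apply Nat.eq_prime_pow_of_unique_prime_dvd Nat.card_pos.ne'
    intro d hd hdvd
    by_contra hne
    have : Fact d.Prime := ⟨hd⟩
    exact pCoreOf_ne_bot_of_dvd_card_fittingOf hdvd (hcon d hd hne)
  exact IsPGroup.of_card h1

end Cfsg.Agent.Lib.Helper17.BGU
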