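/-
Helper lemmas (helper17): Bender–Glauberman Theorem 8.1(a), first part: for `A = C_F(A₀)`,
`F = F(M)` not a `p`-group, `A` satisfies the transitivity hypothesis and normalizes no nontrivial
subgroup of order prime to `|A|`.
-/
import Mathlib
import Cfsg.Agent.Lib.Helper17.BGFitA
import Cfsg.Agent.Lib.Helper17.BGUniqD
import Cfsg.Agent.S1443

set_option autoImplicit false
set_option linter.unusedSectionVars false
open scoped Pointwise

namespace Cfsg.Agent.Lib.Helper17.BGU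

open Cfsg.Agent.Lib.Helper12.CoreControl (coreQ coreQ_le coreQ_coprime le_coreQ
  normalizer_le_normalizer_coreQ)
open Cfsg.Agent.Lib.Helper27.PuigOdd (zOf normalizer_le_normalizer_zOf)

universe u
variable {G : Type u} [Group G]

/-- The standing hypotheses of B & G, Theorem 8.1. -/
structure FitHyp (M : Subgroup G) (p : ℕ) (A₀ : Subgroup G) : Prop where
  hG : Cfsg.IsMinSimpleOddOrder G
  hM : IsCoatom M
  hA₀F : A₀ ≤ Cfsg.fittingOf M
  hA₀e : Cfsg.IsElementaryAbelian p A₀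
  hA₀3 : p ^ 3 ≤ Nat.card A₀

/-- `A = C_F(A₀)`. -/
abbrev fitA (M A₀ : Subgroup G) : Subgroup G :=
  Cfsg.fittingOf M ⊓ Subgroup.centralizer (A₀ : Set G)

/-- `A_q = C_{O_q(M)}(A₀)`. -/
abbrev fitAq (M A₀ : Subgroup G) (q : ℕ) : Subgroup G :=
  Cfsg.pCoreOf q M ⊓ Subgroup.centralizer (A₀ : Set G)

namespace FitHyp

variable [Finite G] {M A₀ : Subgroup G} {p : ℕ} [Fact p.Prime]

theorem simple (h : FitHyp M p A₀) : IsSimpleGroup G := h.hG.2.1

theorem solvable (h : FitHyp M p A₀) {X : Subgroup G} (hX : X ≠ ⊤) : Group.IsSolvable ↥X :=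
  h.hG.2.2.2 X hX

theorem M_ne_top (h : FitHyp M p A₀) : M ≠ ⊤ := h.hM.1

theorem A₀_comm (h : FitHyp M p A₀) : ∀ a ∈ A₀, ∀ b ∈ A₀, a * b = b * a := by
  intro a ha b hb
  have := h.hA₀e.1.is_comm.comm (⟨a, ha⟩ : A₀) ⟨b, hb⟩
  exact congrArg Subtype.val this

theorem A₀_isPGroup (h : FitHyp M p A₀) : IsPGroup p A₀ := by
  intro b
  refine ⟨1, ?_⟩
  rw [pow_one]
  exact Subtype.ext (by simpa using h.hA₀e.2 b.1 b.2)

theorem A₀_ne_bot (h : FitHyp M p A₀) : A₀ ≠ ⊥ := by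
  have hpp : p.Prime := Fact.out
  intro hb
  have h1 := h.hA₀3
  rw [hb, Subgroup.card_bot] at h1
  have : 1 < p ^ 3 := Nat.one_lt_pow (by norm_num) hpp.one_lt
  omega

theorem p_dvd_card_A₀ (h : FitHyp M p A₀) : p ∣ Nat.card A₀ := by
  obtain ⟨k, hk⟩ := IsPGroup.iff_card.mp h.A₀_isPGroup
  have hk0 : k ≠ 0 := by
    rintro rfl
    rw [pow_zero] at hk
    exact h.A₀_ne_bot (Subgroup.card_eq_one.mp hk)
  rw [hk]; exact dvd_pow_self p hk0

theorem p_ne_two (h : FitHyp M p A₀) : p ≠ 2 := by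
  rintro rfl
  have h2 : 2 ∣ Nat.card G := h.p_dvd_card_A₀.trans (Subgroup.card_subgroup_dvd_card A₀)
  exact (Nat.not_even_iff_odd.mpr h.hG.1) (even_iff_two_dvd.mpr h2)

theorem A₀_le_Fp (h : FitHyp M p A₀) : A₀ ≤ Cfsg.pCoreOf p M :=
  le_pCoreOf_of_le_fittingOf h.hA₀F h.A₀_isPGroup

theorem Fp_ne_bot (h : FitHyp M p A₀) : Cfsg.pCoreOf p M ≠ ⊥ := fun hb =>
  h.A₀_ne_bot (le_bot_iff.mp (hb ▸ h.A₀_le_Fp))

theorem Fq_le_M (q : ℕ) : Cfsg.pCoreOf q M ≤ M := PrimeAct.pCoreOf_le q M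

theorem Fq_le_F (q : ℕ) [Fact q.Prime] : Cfsg.pCoreOf q M ≤ Cfsg.fittingOf M :=
  PrimeAct.pCoreOf_le_fittingOf M q

/-- `O_q(M)` centralizes `A₀` for `q ≠ p`. -/
theorem Fq_le_centralizer_A₀ (h : FitHyp M p A₀) {q : ℕ} [Fact q.Prime] (hq : q ≠ p) :
    Cfsg.pCoreOf q M ≤ Subgroup.centralizer (A₀ : Set G) := by
  intro x hx
  rw [Subgroup.mem_centralizer_iff]
  intro a ha
  exact (PrimeAct.pCoreOf_commute M hq x a hx (h.A₀_le_Fp ha)).symm

theorem Aq_eq_Fq (h : FitHyp M p A₀) {q : ℕ} [Fact q.Prime] (hq : q ≠ p) :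
    fitAq M A₀ q = Cfsg.pCoreOf q M :=
  inf_eq_left.mpr (h.Fq_le_centralizer_A₀ hq)

theorem A₀_le_A (h : FitHyp M p A₀) : A₀ ≤ fitA M A₀ := by
  refine le_inf h.hA₀F ?_
  intro a ha
  rw [Subgroup.mem_centralizer_iff]
  intro b hb
  exact h.A₀_comm b hb a ha

theorem A₀_le_Ap (h : FitHyp M p A₀) : A₀ ≤ fitAq M A₀ p :=
  le_inf h.A₀_le_Fp (h.A₀_le_A.trans inf_le_right)

theorem Aq_le_A (q : ℕ) [Fact q.Prime] : fitAq M A₀ q ≤ fitA M A₀ :=
  inf_le_inf_right _ (Fq_le_F q)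

theorem A_le_M : fitA M A₀ ≤ M := inf_le_left.trans (PrimeAct.fittingOf_le M)

theorem A_ne_top (h : FitHyp M p A₀) : fitA M A₀ ≠ ⊤ := fun e =>
  h.M_ne_top (top_le_iff.mp (e ▸ A_le_M))

theorem A_ne_bot (h : FitHyp M p A₀) : fitA M A₀ ≠ ⊥ := fun e =>
  h.A₀_ne_bot (le_bot_iff.mp (e ▸ h.A₀_le_A))

theorem Aq_isPGroup (q : ℕ) [Fact q.Prime] : IsPGroup q (fitAq M A₀ q) :=
  (PrimeAct.pCoreOf_isPGroup q M).to_le inf_le_left

theorem A_le_normalizer_Aq (q : ℕ) [Fact q.Prime] :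
    fitA M A₀ ≤ Subgroup.normalizer ((fitAq M A₀ q : Subgroup G) : Set G) := by
  intro a ha
  have h1 : a ∈ Subgroup.normalizer ((Cfsg.pCoreOf q M : Subgroup G) : Set G) :=
    le_normalizer_pCoreOf q M (A_le_M ha)
  have h2 : a ∈ Subgroup.normalizer ((Subgroup.centralizer (A₀ : Set G) : Subgroup G) : Set G) :=
    Subgroup.le_normalizer ha.2
  rw [Subgroup.mem_normalizer_iff] at h1 h2 ⊢
  intro x
  rw [Subgroup.mem_inf, Subgroup.mem_inf, ← h1 x, ← h2 x]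

/-- `C_G(A_q) ≤ M` whenever `O_q(M) ≠ 1`. -/
theorem centralizer_Aq_le (h : FitHyp M p A₀) {q : ℕ} [Fact q.Prime]
    (hFq : Cfsg.pCoreOf q M ≠ ⊥) :
    Subgroup.centralizer ((fitAq M A₀ q : Subgroup G) : Set G) ≤ M := by
  have := h.simple
  have hZne : zOf (Cfsg.pCoreOf q M) ≠ ⊥ := zOf_ne_bot (PrimeAct.pCoreOf_isPGroup q M) hFq
  have hZM : zOf (Cfsg.pCoreOf q M) ≤ M := (zOf_le _).trans (Fq_le_M q)
  have hMZ : M ≤ Subgroup.normalizer ((zOf (Cfsg.pCoreOf q M) : Subgroup G) : Set G) :=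
    (le_normalizer_pCoreOf q M).trans (normalizer_le_normalizer_zOf _)
  have hN := normalizer_eq_of_coatom h.hM hZM hZne hMZ
  have hZA : zOf (Cfsg.pCoreOf q M) ≤ fitAq M A₀ q := by
    refine le_inf (zOf_le _) ?_
    by_cases hq : q = p
    · subst hq
      exact (zOf_le_centralizer _).trans (Subgroup.centralizer_le h.A₀_le_Fp)
    · exact (zOf_le _).trans (h.Fq_le_centralizer_A₀ hq)
  calc Subgroup.centralizer ((fitAq M A₀ q : Subgroup G) : Set G)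
      ≤ Subgroup.centralizer ((zOf (Cfsg.pCoreOf q M) : Subgroup G) : Set G) :=
        Subgroup.centralizer_le hZA
    _ ≤ Subgroup.normalizer ((zOf (Cfsg.pCoreOf q M) : Subgroup G) : Set G) :=
        Subgroup.centralizer_le_normalizer _
    _ = M := hN

theorem Aq_ne_bot (h : FitHyp M p A₀) {q : ℕ} [Fact q.Prime] (hFq : Cfsg.pCoreOf q M ≠ ⊥) :
    fitAq M A₀ q ≠ ⊥ := by
  by_cases hq : q = p
  · subst hq
    exact fun e => h.A₀_ne_bot (le_bot_iff.mp (e ▸ h.A₀_le_Ap))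
  · rw [h.Aq_eq_Fq hq]; exact hFq

theorem dvd_card_A_of_Fq_ne_bot (h : FitHyp M p A₀) {q : ℕ} [Fact q.Prime]
    (hFq : Cfsg.pCoreOf q M ≠ ⊥) : q ∣ Nat.card (fitA M A₀) := by
  obtain ⟨k, hk⟩ := IsPGroup.iff_card.mp (Aq_isPGroup (M := M) (A₀ := A₀) q)
  have hk0 : k ≠ 0 := by
    rintro rfl
    rw [pow_zero] at hk
    exact h.Aq_ne_bot hFq (Subgroup.card_eq_one.mp hk)
  exact (hk ▸ dvd_pow_self q hk0 : q ∣ Nat.card (fitAq M A₀ q)).trans
    (Subgroup.card_dvd_of_le (Aq_le_A q))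

theorem Fq_ne_bot_of_dvd_card_A {q : ℕ} [Fact q.Prime]
    (hq : q ∣ Nat.card (fitA M A₀)) : Cfsg.pCoreOf q M ≠ ⊥ :=
  pCoreOf_ne_bot_of_dvd_card_fittingOf (hq.trans (Subgroup.card_dvd_of_le inf_le_left))

theorem p_dvd_card_A (h : FitHyp M p A₀) : p ∣ Nat.card (fitA M A₀) :=
  h.p_dvd_card_A₀.trans (Subgroup.card_dvd_of_le h.A₀_le_A)

/-- A subgroup of `C_G(A)` of order prime to `|A|` is trivial: `C_G(A)` is a `π(F)`-group. -/
theorem eq_bot_of_le_centralizer_A (h : FitHyp M p A₀) {Y : Subgroup G}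
    (hY : Y ≤ Subgroup.centralizer ((fitA M A₀ : Subgroup G) : Set G))
    (hcop : (Nat.card Y).Coprime (Nat.card (fitA M A₀))) : Y = ⊥ := by
  have hYp : (Nat.card Y).Coprime p := Nat.Coprime.coprime_dvd_right h.p_dvd_card_A hcop
  have hYM : Y ≤ M :=
    hY.trans ((Subgroup.centralizer_le (Aq_le_A p)).trans (h.centralizer_Aq_le h.Fp_ne_bot))
  have hYFp : Y ≤ Subgroup.centralizer ((Cfsg.pCoreOf p M : Subgroup G) : Set G) := by
    apply Cfsg.Agent.S1443.result p h.p_ne_two (Cfsg.pCoreOf p M) A₀ Y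
      (PrimeAct.pCoreOf_isPGroup p M) h.A₀_le_Fp h.hA₀e
      (hYM.trans (le_normalizer_pCoreOf p M)) hYp
    intro x hx _ y hy
    rw [Subgroup.mem_centralizer_iff]
    intro z hz
    rw [Set.mem_singleton_iff] at hz
    subst hz
    exact (Subgroup.mem_centralizer_iff.mp (hY hy)) z (Aq_le_A p hx)
  have hYF : Y ≤ Subgroup.centralizer ((Cfsg.fittingOf M : Subgroup G) : Set G) := by
    apply le_centralizer_fittingOf_of_forall
    intro q hq
    have : Fact q.Prime := ⟨hq⟩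
    by_cases hqp : q = p
    · subst hqp; exact hYFp
    · refine hY.trans (Subgroup.centralizer_le ?_)
      rw [← h.Aq_eq_Fq hqp]; exact Aq_le_A q
  have hYF' : Y ≤ Cfsg.fittingOf M :=
    (le_inf hYM hYF).trans (inf_centralizer_fittingOf_le (h.solvable h.M_ne_top))
  have hYA : Y ≤ fitA M A₀ := le_inf hYF' (hY.trans (Subgroup.centralizer_le h.A₀_le_A))
  have hd : Nat.card Y ∣ Nat.card (fitA M A₀) := Subgroup.card_dvd_of_le hYA
  exact Subgroup.card_eq_one.mp (Nat.Coprime.eq_one_of_dvd hcop hd)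

/-- `A_r ≤ O_{q'}(X)` for `r ≠ q`, `O_q(M) ≠ 1` and every proper subgroup `X ≥ A`. -/
theorem Ar_le_coreQ (h : FitHyp M p A₀) {q r : ℕ} [Fact q.Prime] [Fact r.Prime] (hqr : q ≠ r)
    (hFq : Cfsg.pCoreOf q M ≠ ⊥) {X : Subgroup G} (hX : X ≠ ⊤) (hAX : fitA M A₀ ≤ X) :
    fitAq M A₀ r ≤ coreQ q X := by
  have hsol : Group.IsSolvable ↥X := h.solvable hX
  have hqp : q.Prime := Fact.out
  have hrp : r.Prime := Fact.out
  have hAqX : fitAq M A₀ q ≤ X := (Aq_le_A q).trans hAX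
  -- the auxiliary subgroup
  obtain ⟨Y₀, hY₀def⟩ : ∃ Y₀ : Subgroup G, Y₀ = Cfsg.pCoreOf r M ⊓ X ⊓
      Subgroup.centralizer ((fitAq M A₀ q : Subgroup G) : Set G) := ⟨_, rfl⟩
  have hY₀X : Y₀ ≤ X := by rw [hY₀def]; exact inf_le_left.trans inf_le_right
  have hY₀r : IsPGroup r Y₀ := by
    rw [hY₀def]
    exact (PrimeAct.pCoreOf_isPGroup r M).to_le (inf_le_left.trans inf_le_left)
  have hY₀cop : (Nat.card Y₀).Coprime q := by
    obtain ⟨k, hk⟩ := IsPGroup.iff_card.mp hY₀r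
    rw [hk]
    exact Nat.Coprime.pow_left k ((Nat.coprime_primes hrp hqp).mpr (Ne.symm hqr))
  have hP : IsPGroup q ((fitAq M A₀ q).subgroupOf X) := (Aq_isPGroup q).comap_subtype
  have hY : (Nat.card (Y₀.subgroupOf X)).Coprime q := by
    rw [Cfsg.Agent.Lib.Helper1.card_subgroupOf_of_le hY₀X]; exact hY₀cop
  have hYP : Y₀.subgroupOf X ≤
      Subgroup.centralizer (((fitAq M A₀ q).subgroupOf X : Subgroup ↥X) : Set ↥X) := by
    intro y hy
    rw [Subgroup.mem_subgroupOf, hY₀def] at hy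
    rw [Subgroup.mem_centralizer_iff]
    intro a ha
    apply Subtype.ext
    exact (Subgroup.mem_centralizer_iff.mp hy.2) (a : G) (Subgroup.mem_subgroupOf.mp ha)
  have hYn : Subgroup.centralizer (((fitAq M A₀ q).subgroupOf X : Subgroup ↥X) : Set ↥X) ≤
      Subgroup.normalizer ((Y₀.subgroupOf X : Subgroup ↥X) : Set ↥X) := by
    intro c hc
    have hcC : (c : G) ∈ Subgroup.centralizer ((fitAq M A₀ q : Subgroup G) : Set G) := by
      rw [Subgroup.mem_centralizer_iff]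
      intro a ha
      have hmem : (⟨a, hAqX ha⟩ : ↥X) ∈ (fitAq M A₀ q).subgroupOf X := by
        rw [Subgroup.mem_subgroupOf]; exact ha
      have := (Subgroup.mem_centralizer_iff.mp hc) ⟨a, hAqX ha⟩ hmem
      exact congrArg Subtype.val this
    have hcM : (c : G) ∈ M := h.centralizer_Aq_le hFq hcC
    have h1 := Subgroup.mem_normalizer_iff.mp (le_normalizer_pCoreOf r M hcM)
    have h2 := Subgroup.mem_normalizer_iff.mp (Subgroup.le_normalizer (H := X) c.2)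
    have h3 := Subgroup.mem_normalizer_iff.mp (Subgroup.le_normalizer
      (H := Subgroup.centralizer ((fitAq M A₀ q : Subgroup G) : Set G)) hcC)
    rw [Subgroup.mem_normalizer_iff]
    intro y
    rw [Subgroup.mem_subgroupOf, Subgroup.mem_subgroupOf, hY₀def]
    simp only [Subgroup.mem_inf]
    rw [h1 (y : G), h2 (y : G), h3 (y : G)]
    simp
  have hmain := Cfsg.Agent.Lib.Helper8.le_pPrimeCore_of_centralizer_le_normalizer q
    ((fitAq M A₀ q).subgroupOf X) (Y₀.subgroupOf X) hP hY hYP hYn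
  intro x hx
  have hxX : x ∈ X := hAX (Aq_le_A r hx)
  have hxY₀ : x ∈ Y₀ := by
    rw [hY₀def]
    refine ⟨⟨hx.1, hxX⟩, ?_⟩
    show x ∈ Subgroup.centralizer ((fitAq M A₀ q : Subgroup G) : Set G)
    rw [Subgroup.mem_centralizer_iff]
    intro a ha
    exact PrimeAct.pCoreOf_commute M hqr a x ha.1 hx.1
  exact ⟨⟨x, hxX⟩, hmain (by rw [Subgroup.mem_subgroupOf]; exact hxY₀), rfl⟩

/-- A subgroup of `F(M)` of order prime to `|A|` is trivial. -/
theorem eq_bot_of_le_F_of_coprime (h : FitHyp M p A₀) {U : Subgroup G}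
    (hUF : U ≤ Cfsg.fittingOf M) (hcop : (Nat.card U).Coprime (Nat.card (fitA M A₀))) :
    U = ⊥ := by
  rw [← Subgroup.card_eq_one]
  by_contra hne
  obtain ⟨s, hs, hsU⟩ := Nat.exists_prime_and_dvd hne
  have : Fact s.Prime := ⟨hs⟩
  have hsF : s ∣ Nat.card (Cfsg.fittingOf M) := hsU.trans (Subgroup.card_dvd_of_le hUF)
  have hsA : s ∣ Nat.card (fitA M A₀) :=
    h.dvd_card_A_of_Fq_ne_bot (pCoreOf_ne_bot_of_dvd_card_fittingOf hsF)
  exact hs.one_lt.ne' (Nat.eq_one_of_dvd_coprimes hcop hsU hsA)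

/-- An `A`-invariant subgroup of order prime to `|A|` meets `C_G(A_r)` trivially. -/
theorem inf_centralizer_Ar_eq_bot (h : FitHyp M p A₀) {r : ℕ} [Fact r.Prime]
    (hFr : Cfsg.pCoreOf r M ≠ ⊥) {Y : Subgroup G}
    (hAY : fitA M A₀ ≤ Subgroup.normalizer (Y : Set G))
    (hcop : (Nat.card Y).Coprime (Nat.card (fitA M A₀))) :
    Y ⊓ Subgroup.centralizer ((fitAq M A₀ r : Subgroup G) : Set G) = ⊥ := by
  obtain ⟨W, hWdef⟩ : ∃ W : Subgroup G,
      W = Y ⊓ Subgroup.centralizer ((fitAq M A₀ r : Subgroup G) : Set G) := ⟨_, rfl⟩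
  rw [← hWdef]
  have hWM : W ≤ M := by rw [hWdef]; exact inf_le_right.trans (h.centralizer_Aq_le hFr)
  have hAW : fitA M A₀ ≤ Subgroup.normalizer (W : Set G) := by
    intro a ha
    have h1 := Subgroup.mem_normalizer_iff.mp (hAY ha)
    have h2 := Subgroup.mem_normalizer_iff.mp
      (normalizer_le_normalizer_centralizer' _ (A_le_normalizer_Aq r ha))
    rw [Subgroup.mem_normalizer_iff]
    intro x
    rw [hWdef, Subgroup.mem_inf, Subgroup.mem_inf, ← h1 x, ← h2 x]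
  have hWcop : (Nat.card W).Coprime (Nat.card (fitA M A₀)) := by
    refine Nat.Coprime.coprime_dvd_left (Subgroup.card_dvd_of_le ?_) hcop
    rw [hWdef]; exact inf_le_left
  apply h.eq_bot_of_le_centralizer_A ?_ hWcop
  intro w hw
  rw [Subgroup.mem_centralizer_iff]
  intro a ha
  have hcW : w * a * w⁻¹ * a⁻¹ ∈ W := by
    have h1 : a * w⁻¹ * a⁻¹ ∈ W :=
      (Subgroup.mem_normalizer_iff.mp (hAW ha) w⁻¹).mp (inv_mem hw)
    have := mul_mem hw h1
    simpa [mul_assoc] using this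
  have hcF : w * a * w⁻¹ * a⁻¹ ∈ Cfsg.fittingOf M := by
    have h1 : w * a * w⁻¹ ∈ Cfsg.fittingOf M :=
      (Subgroup.mem_normalizer_iff.mp (le_normalizer_fittingOf M (hWM hw)) a).mp ha.1
    exact mul_mem h1 (inv_mem ha.1)
  have hU : W ⊓ Cfsg.fittingOf M = ⊥ :=
    h.eq_bot_of_le_F_of_coprime inf_le_right
      (Nat.Coprime.coprime_dvd_left (Subgroup.card_dvd_of_le inf_le_left) hWcop)
  have hc1 : w * a * w⁻¹ * a⁻¹ = 1 := by
    have : w * a * w⁻¹ * a⁻¹ ∈ W ⊓ Cfsg.fittingOf M := ⟨hcW, hcF⟩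
    rw [hU, Subgroup.mem_bot] at this
    exact this
  have h5 : w * a = (w * a * w⁻¹ * a⁻¹) * (a * w) := by group
  rw [h5, hc1, one_mul]

end FitHyp

end Cfsg.Agent.Lib.Helper17.BGU
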