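/-
Helper lemmas (helper17): Bender–Glauberman Theorem 8.1: a subgroup `A ≤ F(M)` satisfying the
transitivity hypothesis with `Z(A)` of rank at least three and `π(F(M)) ⊆ π(A)` normalizes no
nontrivial subgroup of order prime to `|A|`; application to `A = C_F(A₀)`.
-/
import Mathlib
import Cfsg.Agent.Lib.Helper17.BGFitB
import Cfsg.Agent.Lib.Helper17.BGUniqG

set_option autoImplicit false
set_option linter.unusedSectionVars false
open scoped Pointwise

namespace Cfsg.Agent.Lib.Helper17.BGU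

open Cfsg.Agent.Lib.Helper12.CoreControl (coreQ coreQ_le coreQ_coprime le_coreQ
  normalizer_le_normalizer_coreQ)
open Cfsg.Agent.Lib.Helper27.PuigOdd (zOf normalizer_le_normalizer_zOf)

universe u
variable {G : Type u} [Group G]

/-- A subgroup `A ≤ F(M)` satisfying the transitivity hypothesis with `Z(A)` of rank at least
three and `π(F(M)) ⊆ π(A)` normalizes no nontrivial subgroup of order prime to `|A|`. -/
theorem eq_bot_of_inv_of_trans [Finite G] (hG : Cfsg.IsMinSimpleOddOrder G) {M : Subgroup G}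
    (hM : IsCoatom M) {A : Subgroup G} (hAF : A ≤ Cfsg.fittingOf M)
    (hAtr : Cfsg.TransitivityHypothesis A)
    (hZ : ¬ Cfsg.RankLE 2 ↥(A ⊓ Subgroup.centralizer (A : Set G)))
    (hπ : ∀ r : ℕ, r.Prime → r ∣ Nat.card (Cfsg.fittingOf M) → r ∣ Nat.card A) :
    ∀ Y : Subgroup G, A ≤ Subgroup.normalizer (Y : Set G) →
      (Nat.card Y).Coprime (Nat.card A) → Y = ⊥ := by
  have hsimple : IsSimpleGroup G := hG.2.1
  have hsolv := hG.2.2.2
  have hAne : A ≠ ⊥ := hAtr.1
  have hFM : Cfsg.fittingOf M ≤ M := PrimeAct.fittingOf_le M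
  have hAM : A ≤ M := hAF.trans hFM
  have hFne : Cfsg.fittingOf M ≠ ⊥ := fun e => hAne (le_bot_iff.mp (e ▸ hAF))
  have hFtop : Cfsg.fittingOf M ≠ ⊤ := fun e => hM.1 (top_le_iff.mp (e ▸ hFM))
  have hNF : Subgroup.normalizer ((Cfsg.fittingOf M : Subgroup G) : Set G) = M :=
    normalizer_eq_of_coatom hM hFM hFne (le_normalizer_fittingOf M)
  have hCF : Subgroup.centralizer ((Cfsg.fittingOf M : Subgroup G) : Set G) ≤ Cfsg.fittingOf M := by
    have h1 : Subgroup.centralizer ((Cfsg.fittingOf M : Subgroup G) : Set G) ≤ M :=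
      (Subgroup.centralizer_le_normalizer _).trans hNF.le
    exact (le_inf h1 le_rfl).trans (inf_centralizer_fittingOf_le (hsolv M hM.1))
  have hsn : (A.subgroupOf (Cfsg.fittingOf M)).IsSubnormal := isSubnormal_subgroupOf_fittingOf
  -- subgroups of `F(M)` of order prime to `|A|` are trivial
  have hFcop : ∀ U : Subgroup G, U ≤ Cfsg.fittingOf M → (Nat.card U).Coprime (Nat.card A) →
      U = ⊥ := by
    intro U hUF hcop
    rw [← Subgroup.card_eq_one]
    by_contra hne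
    obtain ⟨s, hs, hsU⟩ := Nat.exists_prime_and_dvd hne
    have hsA : s ∣ Nat.card A := hπ s hs (hsU.trans (Subgroup.card_dvd_of_le hUF))
    exact hs.one_lt.ne' (Nat.eq_one_of_dvd_coprimes hcop hsU hsA)
  -- the `s`-group case
  have hqcase : ∀ s : ℕ, s.Prime → ¬ s ∣ Nat.card A → ∀ Y : Subgroup G, IsPGroup s Y →
      A ≤ Subgroup.normalizer (Y : Set G) → Y = ⊥ := by
    intro s hs hsA Y hYs hAY
    have : Fact s.Prime := ⟨hs⟩
    have hcops : ∀ Q : Subgroup G, IsPGroup s Q → (Nat.card Q).Coprime (Nat.card A) := by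
      intro Q hQ
      obtain ⟨k, hk⟩ := IsPGroup.iff_card.mp hQ
      rw [hk]
      exact Nat.Coprime.pow_left k ((Nat.Prime.coprime_iff_not_dvd hs).mpr hsA)
    have htr := Cfsg.Agent.S1393.result hG A hAtr hZ s hs hsA
    have h95 := Cfsg.Agent.S1395.result hG A hAtr s hs hsA (Cfsg.fittingOf M) hFtop hπ hAF hsn htr
    have hsub := h95.2.2.1
    have hd := h95.2.2.2
    obtain ⟨Q₀, hQ₀, -⟩ := exists_maxInv_ge (bot_mem_invSubgroups (Cfsg.fittingOf M) {s})
    have hQ₀s : IsPGroup s Q₀ := ((mem_invq_iff hs).mp hQ₀.1).1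
    have hKF : Cfsg.piCoreOf (Cfsg.primesNotDvd (Nat.card A))
        (Subgroup.centralizer ((Cfsg.fittingOf M : Subgroup G) : Set G)) = ⊥ :=
      hFcop _ ((piCoreOf_le _).trans hCF) (coprime_card_piCoreOf A _).symm
    have hMQ₀ : M ≤ Subgroup.normalizer (Q₀ : Set G) := by
      have h1 := (hd Q₀ hQ₀).2
      rw [hKF, bot_sup_eq, hNF] at h1
      exact (inf_eq_left.mp h1.symm)
    have hQ₀bot : Q₀ = ⊥ := by
      by_contra hne
      have hQ₀top : Q₀ ≠ ⊤ := by
        intro e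
        have h1 : (Nat.card A).Coprime (Nat.card A) :=
          Nat.Coprime.coprime_dvd_left (Subgroup.card_dvd_of_le (e ▸ le_top : A ≤ Q₀))
            (hcops Q₀ hQ₀s)
        exact hAne (Subgroup.card_eq_one.mp ((Nat.coprime_self _).mp h1))
      have hN : Subgroup.normalizer (Q₀ : Set G) = M := by
        by_contra hne'
        exact normalizer_ne_top hne hQ₀top (hM.2 _ (lt_of_le_of_ne hMQ₀ (Ne.symm hne')))
      have hQ₀M : Q₀ ≤ M := Subgroup.le_normalizer.trans hN.le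
      have hQ₀F : Q₀ ≤ Cfsg.fittingOf M :=
        (le_pCoreOf hQ₀M hMQ₀ hQ₀s).trans (PrimeAct.pCoreOf_le_fittingOf M s)
      exact hne (hFcop Q₀ hQ₀F (hcops Q₀ hQ₀s))
    obtain ⟨Q₁, hQ₁, hYQ₁⟩ := exists_maxInv_ge ((mem_invq_iff hs).mpr ⟨hYs, hAY⟩)
    obtain ⟨k, -, hQ₁eq⟩ := htr Q₀ (hsub hQ₀) Q₁ hQ₁
    rw [hQ₀bot, Subgroup.map_bot] at hQ₁eq
    exact le_bot_iff.mp (hQ₁eq ▸ hYQ₁)
  -- the general case
  intro Y hAY hY
  rw [← le_bot_iff]
  apply Cfsg.Agent.Lib.Helper22.TIHall.le_of_forall_sylow_le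
  intro r hrF
  have hr : r.Prime := hrF.out
  have hAsol : Group.IsSolvable ↥A := by
    have := hsolv M hM.1
    exact Group.isSolvable_of_isSolvable_injective (Subgroup.inclusion_injective hAM)
  obtain ⟨S, hS, -, hAS⟩ := Cfsg.Agent.Lib.Helper8.exists_invariant_isSylIn_ge hAY hY.symm
    (Or.inl hAsol) r ⊥ bot_le (IsPGroup.of_bot) (by
      intro a _
      rw [Subgroup.mem_normalizer_iff]
      intro x
      simp [Subgroup.mem_bot])
  refine ⟨hS.toSylow, ?_⟩
  rw [hS.toSylow_map]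
  by_cases hrA : r ∣ Nat.card A
  · have h1 : Nat.card S = 1 := by
      have hd1 : Nat.card S ∣ Nat.card Y := Subgroup.card_dvd_of_le hS.1
      obtain ⟨k, hk⟩ := IsPGroup.iff_card.mp hS.isPGroup
      rcases Nat.eq_zero_or_pos k with h0 | h0
      · rw [hk, h0, pow_zero]
      · exfalso
        have h2 : r ∣ Nat.card Y := (hk ▸ dvd_pow_self r h0.ne' : r ∣ Nat.card S).trans hd1
        exact hr.one_lt.ne' (Nat.eq_one_of_dvd_coprimes hY h2 hrA)
    rw [Subgroup.card_eq_one.mp h1]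
  · rw [hqcase r hr hrA S hS.isPGroup hAS]

namespace FitHyp

variable [Finite G] {M A₀ : Subgroup G} {p : ℕ} [Fact p.Prime]

/-- If `F(M)` is not a `p`-group, then for every prime `q` there is a prime `r ≠ q` with
`O_r(M) ≠ 1`. -/
theorem exists_other_prime (h : FitHyp M p A₀) (hnp : ¬ IsPGroup p ↥(Cfsg.fittingOf M)) (q : ℕ) :
    ∃ r : ℕ, r.Prime ∧ q ≠ r ∧ Cfsg.pCoreOf r M ≠ ⊥ := by
  by_cases hq : q = p
  · obtain ⟨r, hr, hrp, hFr⟩ := exists_prime_ne_pCoreOf_ne_bot hnp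
    exact ⟨r, hr, by rw [hq]; exact Ne.symm hrp, hFr⟩
  · exact ⟨p, Fact.out, hq, h.Fp_ne_bot⟩

theorem coprime_Ar_of_coprime {Y : Subgroup G} (r : ℕ) [Fact r.Prime]
    (hcop : (Nat.card Y).Coprime (Nat.card (fitA M A₀))) :
    (Nat.card (fitAq M A₀ r)).Coprime (Nat.card Y) :=
  (Nat.Coprime.coprime_dvd_right (Subgroup.card_dvd_of_le (Aq_le_A r)) hcop).symm

/-- An `A`-invariant subgroup of `X` of order prime to `|A|` lies in `O_{q'}(X)`, for every `q`
with `O_q(M) ≠ 1`. -/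
theorem le_coreQ_of_inv (h : FitHyp M p A₀) (hnp : ¬ IsPGroup p ↥(Cfsg.fittingOf M))
    {q : ℕ} [Fact q.Prime] (hFq : Cfsg.pCoreOf q M ≠ ⊥) {X : Subgroup G} (hX : X ≠ ⊤)
    (hAX : fitA M A₀ ≤ X) {Y : Subgroup G} (hYX : Y ≤ X)
    (hAY : fitA M A₀ ≤ Subgroup.normalizer (Y : Set G))
    (hcop : (Nat.card Y).Coprime (Nat.card (fitA M A₀))) : Y ≤ coreQ q X := by
  obtain ⟨r, hr, hqr, hFr⟩ := h.exists_other_prime hnp q
  have : Fact r.Prime := ⟨hr⟩
  have hAr : fitAq M A₀ r ≤ coreQ q X := h.Ar_le_coreQ hqr hFq hX hAX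
  have hsolY : Group.IsSolvable ↥Y := by
    have := h.solvable hX
    exact Group.isSolvable_of_isSolvable_injective (Subgroup.inclusion_injective hYX)
  have h1 := le_centralizer_sup_commutator (fitAq M A₀ r) Y ((Aq_le_A r).trans hAY)
    (coprime_Ar_of_coprime r hcop) (Or.inr hsolY)
  rw [h.inf_centralizer_Ar_eq_bot hFr hAY hcop, bot_sup_eq] at h1
  refine h1.trans ?_
  rw [Subgroup.commutator_le]
  intro y hy a ha
  have hyX : y ∈ X := hYX hy
  have h2 : y * a * y⁻¹ ∈ coreQ q X :=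
    (Subgroup.mem_normalizer_iff.mp (le_normalizer_coreQ q X hyX) a).mp (hAr ha)
  rw [commutatorElement_def]
  exact mul_mem h2 (inv_mem (hAr ha))

/-- `A = C_F(A₀)` satisfies the transitivity hypothesis. -/
theorem transitivity (h : FitHyp M p A₀) (hnp : ¬ IsPGroup p ↥(Cfsg.fittingOf M)) :
    Cfsg.TransitivityHypothesis (fitA M A₀) := by
  refine ⟨h.A_ne_bot, h.A_ne_top, ?_⟩
  intro X hX hAX
  apply le_antisymm
  · apply sSup_le
    rintro Y ⟨hYX, hYπ, hAY⟩
    have hcop : (Nat.card Y).Coprime (Nat.card (fitA M A₀)) := by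
      apply Nat.coprime_of_dvd
      intro r hr hrY hrA
      exact (hYπ r hr hrY).2 hrA
    -- the normal `π'`-subgroup `W`
    obtain ⟨W, hWdef⟩ : ∃ W : Subgroup G,
        W = X ⊓ ⨅ q : {q : ℕ // q.Prime ∧ q ∣ Nat.card (fitA M A₀)}, coreQ q.1 X := ⟨_, rfl⟩
    have hWX : W ≤ X := by rw [hWdef]; exact inf_le_left
    have hYW : Y ≤ W := by
      rw [hWdef]
      refine le_inf hYX (le_iInf ?_)
      rintro ⟨q, hq, hqA⟩
      have : Fact q.Prime := ⟨hq⟩
      exact h.le_coreQ_of_inv hnp (Fq_ne_bot_of_dvd_card_A hqA) hX hAX hYX hAY hcop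
    have hn : X ≤ Subgroup.normalizer (W : Set G) := by
      intro x hx
      rw [Subgroup.mem_normalizer_iff]
      intro w
      rw [hWdef, Subgroup.mem_inf, Subgroup.mem_inf, Subgroup.mem_iInf, Subgroup.mem_iInf]
      have h1 := Subgroup.mem_normalizer_iff.mp (Subgroup.le_normalizer (H := X) hx) w
      rw [← h1]
      refine and_congr_right (fun _ => forall_congr' ?_)
      intro q
      exact Subgroup.mem_normalizer_iff.mp (le_normalizer_coreQ q.1 X hx) w
    have hWπ : ∀ r : ℕ, r.Prime → r ∣ Nat.card W →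
        r ∈ Cfsg.primesNotDvd (Nat.card (fitA M A₀)) := by
      intro r hr hrW
      refine ⟨hr, fun hrA => ?_⟩
      have hWr : W ≤ coreQ r X := by
        rw [hWdef]
        exact inf_le_right.trans (iInf_le _ (⟨r, hr, hrA⟩ :
          {q : ℕ // q.Prime ∧ q ∣ Nat.card (fitA M A₀)}))
      have h1 : (Nat.card (coreQ r X)).Coprime r := coreQ_coprime r X
      have h2 : r ∣ Nat.card (coreQ r X) := hrW.trans (Subgroup.card_dvd_of_le hWr)
      exact hr.one_lt.ne' (Nat.eq_one_of_dvd_coprimes h1 h2 dvd_rfl)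
    exact hYW.trans (le_piCoreOf hWX hn hWπ)
  · apply le_sSup
    refine ⟨piCoreOf_le X, ?_, hAX.trans (le_normalizer_piCoreOf X)⟩
    intro r hr hrd
    rw [card_piCoreOf] at hrd
    exact Cfsg.Agent.Lib.Helper12.piCore_mem _ r hr hrd

/-- `Z(A)` has rank at least three. -/
theorem not_rankLE_two_center (h : FitHyp M p A₀) :
    ¬ Cfsg.RankLE 2 ↥(fitA M A₀ ⊓ Subgroup.centralizer ((fitA M A₀ : Subgroup G) : Set G)) := by
  have hpp : p.Prime := Fact.out
  intro hr
  have hle : A₀ ≤ fitA M A₀ ⊓ Subgroup.centralizer ((fitA M A₀ : Subgroup G) : Set G) := by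
    refine le_inf h.A₀_le_A ?_
    intro a ha
    rw [Subgroup.mem_centralizer_iff]
    intro b hb
    exact ((Subgroup.mem_centralizer_iff.mp hb.2) a ha).symm
  refine not_pRankLE_of_elemAb hle h.A₀_comm h.hA₀e.2 ?_ (hr p hpp)
  exact lt_of_lt_of_le (Nat.pow_lt_pow_right hpp.one_lt (by norm_num)) h.hA₀3

/-- `A = C_F(A₀)` normalizes no nontrivial subgroup of order prime to `|A|`. -/
theorem eq_bot_of_inv (h : FitHyp M p A₀) (hnp : ¬ IsPGroup p ↥(Cfsg.fittingOf M))
    {Y : Subgroup G} (hAY : fitA M A₀ ≤ Subgroup.normalizer (Y : Set G))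
    (hcop : (Nat.card Y).Coprime (Nat.card (fitA M A₀))) : Y = ⊥ := by
  refine eq_bot_of_inv_of_trans h.hG h.hM inf_le_left (h.transitivity hnp)
    h.not_rankLE_two_center ?_ Y hAY hcop
  intro r hr hrF
  have : Fact r.Prime := ⟨hr⟩
  exact h.dvd_card_A_of_Fq_ne_bot (pCoreOf_ne_bot_of_dvd_card_fittingOf hrF)

/-- Normal subgroups of a proper subgroup `X ≥ A` of order prime to `|A|` are trivial. -/
theorem eq_bot_of_normal (h : FitHyp M p A₀) (hnp : ¬ IsPGroup p ↥(Cfsg.fittingOf M))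
    {X U : Subgroup G} (hAX : fitA M A₀ ≤ X) (hXU : X ≤ Subgroup.normalizer (U : Set G))
    (hcop : (Nat.card U).Coprime (Nat.card (fitA M A₀))) : U = ⊥ :=
  h.eq_bot_of_inv hnp (hAX.trans hXU) hcop

end FitHyp

end Cfsg.Agent.Lib.Helper17.BGU
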