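/-
Helper lemmas (helper17): Bender–Glauberman Theorem 8.1(a): if `F = F(M)` is not a `p`-group, then
`C_F(A₀)` lies in a unique maximal subgroup.
-/
import Mathlib
import Cfsg.Agent.Lib.Helper17.BGFitC

set_option autoImplicit false
set_option linter.unusedSectionVars false
open scoped Pointwise

namespace Cfsg.Agent.Lib.Helper17.BGU

open Cfsg.Agent.Lib.Helper12.CoreControl (coreQ coreQ_le coreQ_coprime le_coreQ
  normalizer_le_normalizer_coreQ)
open Cfsg.Agent.Lib.Helper27.PuigOdd (zOf normalizer_le_normalizer_zOf)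

universe u
variable {G : Type u} [Group G]

namespace FitHyp

variable [Finite G] {M A₀ : Subgroup G} {p : ℕ} [Fact p.Prime]

/-- An element lying in `O_{q'}(X)` for every prime `q` dividing `|A|` is trivial
(`X ≥ A` proper). -/
theorem eq_one_of_forall_mem_coreQ (h : FitHyp M p A₀) (hnp : ¬ IsPGroup p ↥(Cfsg.fittingOf M))
    {X : Subgroup G} (hAX : fitA M A₀ ≤ X) {c : G}
    (hc : ∀ q : ℕ, q.Prime → q ∣ Nat.card (fitA M A₀) → c ∈ coreQ q X) : c = 1 := by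
  obtain ⟨W, hWdef⟩ : ∃ W : Subgroup G,
      W = X ⊓ ⨅ q : {q : ℕ // q.Prime ∧ q ∣ Nat.card (fitA M A₀)}, coreQ q.1 X := ⟨_, rfl⟩
  have hn : X ≤ Subgroup.normalizer (W : Set G) := by
    intro x hx
    rw [Subgroup.mem_normalizer_iff]
    intro w
    rw [hWdef, Subgroup.mem_inf, Subgroup.mem_inf, Subgroup.mem_iInf, Subgroup.mem_iInf]
    have h1 := Subgroup.mem_normalizer_iff.mp (Subgroup.le_normalizer (H := X) hx) w
    rw [← h1]
    refine and_congr_right (fun _ => forall_congr' ?_)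
    intro q
    exact Subgroup.mem_normalizer_iff.mp (le_normalizer_coreQ q.1 X hx) w
  have hcop : (Nat.card W).Coprime (Nat.card (fitA M A₀)) := by
    apply Nat.coprime_of_dvd
    intro r hr hrW hrA
    have hWr : W ≤ coreQ r X := by
      rw [hWdef]
      exact inf_le_right.trans (iInf_le _ (⟨r, hr, hrA⟩ :
        {q : ℕ // q.Prime ∧ q ∣ Nat.card (fitA M A₀)}))
    have h1 : (Nat.card (coreQ r X)).Coprime r := coreQ_coprime r X
    have h2 : r ∣ Nat.card (coreQ r X) := hrW.trans (Subgroup.card_dvd_of_le hWr)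
    exact hr.one_lt.ne' (Nat.eq_one_of_dvd_coprimes h1 h2 dvd_rfl)
  have hW : W = ⊥ := h.eq_bot_of_normal hnp hAX hn hcop
  have hcW : c ∈ W := by
    rw [hWdef, Subgroup.mem_inf, Subgroup.mem_iInf]
    have hp1 : p.Prime := Fact.out
    refine ⟨coreQ_le p X (hc p hp1 h.p_dvd_card_A), ?_⟩
    rintro ⟨q, hq, hqA⟩
    exact hc q hq hqA
  rw [hW, Subgroup.mem_bot] at hcW
  exact hcW

section uniq

variable {H : Subgroup G}

/-- `O_q(H) = 1` for `q ∤ |A|`. -/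
theorem D_eq_bot (h : FitHyp M p A₀) (hnp : ¬ IsPGroup p ↥(Cfsg.fittingOf M))
    (hAH : fitA M A₀ ≤ H) {q : ℕ} [Fact q.Prime] (hq : ¬ q ∣ Nat.card (fitA M A₀)) :
    Cfsg.pCoreOf q H = ⊥ := by
  have hqp : q.Prime := Fact.out
  apply h.eq_bot_of_normal hnp hAH (le_normalizer_pCoreOf q H)
  obtain ⟨k, hk⟩ := IsPGroup.iff_card.mp (PrimeAct.pCoreOf_isPGroup q H)
  rw [hk]
  exact Nat.Coprime.pow_left k ((Nat.Prime.coprime_iff_not_dvd hqp).mpr hq)

/-- `O_q(H)` centralizes `A_r` for `r ≠ q`. -/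
theorem D_le_centralizer_Ar (h : FitHyp M p A₀) (hnp : ¬ IsPGroup p ↥(Cfsg.fittingOf M))
    (hH : IsCoatom H) (hAH : fitA M A₀ ≤ H) {q r : ℕ} [Fact q.Prime] [Fact r.Prime] (hqr : q ≠ r) :
    Cfsg.pCoreOf q H ≤ Subgroup.centralizer ((fitAq M A₀ r : Subgroup G) : Set G) := by
  by_cases hFq : Cfsg.pCoreOf q M = ⊥
  · have hq : ¬ q ∣ Nat.card (fitA M A₀) := fun hd => Fq_ne_bot_of_dvd_card_A hd hFq
    rw [h.D_eq_bot hnp hAH hq]
    exact bot_le
  · have hAr : fitAq M A₀ r ≤ coreQ q H := h.Ar_le_coreQ hqr hFq hH.1 hAH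
    intro d hd
    rw [Subgroup.mem_centralizer_iff]
    intro a ha
    exact (commute_pCoreOf_coreQ H hd (hAr ha)).symm

/-- `O_q(H) ≤ M`. -/
theorem D_le_M (h : FitHyp M p A₀) (hnp : ¬ IsPGroup p ↥(Cfsg.fittingOf M))
    (hH : IsCoatom H) (hAH : fitA M A₀ ≤ H) (q : ℕ) [Fact q.Prime] :
    Cfsg.pCoreOf q H ≤ M := by
  obtain ⟨r, hr, hqr, hFr⟩ := h.exists_other_prime hnp q
  have : Fact r.Prime := ⟨hr⟩
  exact (h.D_le_centralizer_Ar hnp hH hAH hqr).trans (h.centralizer_Aq_le hFr)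

/-- `O_s(H)` centralizes `O_q(M)` for `s ≠ q`. -/
theorem D_le_centralizer_Fq (h : FitHyp M p A₀) (hnp : ¬ IsPGroup p ↥(Cfsg.fittingOf M))
    (hH : IsCoatom H) (hAH : fitA M A₀ ≤ H) {s q : ℕ} [Fact s.Prime] [Fact q.Prime] (hsq : s ≠ q) :
    Cfsg.pCoreOf s H ≤ Subgroup.centralizer ((Cfsg.pCoreOf q M : Subgroup G) : Set G) := by
  have hsp : s.Prime := Fact.out
  have hpp : p.Prime := Fact.out
  by_cases hqp : q = p
  · subst hqp
    apply Cfsg.Agent.S1443.result q h.p_ne_two (Cfsg.pCoreOf q M) A₀ (Cfsg.pCoreOf s H)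
      (PrimeAct.pCoreOf_isPGroup q M) h.A₀_le_Fp h.hA₀e
      ((h.D_le_M hnp hH hAH s).trans (le_normalizer_pCoreOf q M))
    · obtain ⟨k, hk⟩ := IsPGroup.iff_card.mp (PrimeAct.pCoreOf_isPGroup s H)
      rw [hk]
      exact Nat.Coprime.pow_left k ((Nat.coprime_primes hsp hpp).mpr hsq)
    · intro x hx _ y hy
      rw [Subgroup.mem_centralizer_iff]
      intro z hz
      rw [Set.mem_singleton_iff] at hz
      subst hz
      exact (Subgroup.mem_centralizer_iff.mp (h.D_le_centralizer_Ar hnp hH hAH hsq hy)) z hx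
  · rw [← h.Aq_eq_Fq hqp]
    exact h.D_le_centralizer_Ar hnp hH hAH hsq

/-- `O_{p'}(H)` centralizes `A_p`. -/
theorem coreQ_le_centralizer_Ap (h : FitHyp M p A₀) (hnp : ¬ IsPGroup p ↥(Cfsg.fittingOf M))
    (hH : IsCoatom H) (hAH : fitA M A₀ ≤ H) :
    coreQ p H ≤ Subgroup.centralizer ((fitAq M A₀ p : Subgroup G) : Set G) := by
  intro k hk
  rw [Subgroup.mem_centralizer_iff]
  intro a ha
  have haH : a ∈ H := hAH (Aq_le_A p ha)
  have hkH : k ∈ H := coreQ_le p H hk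
  have hc : k * a * k⁻¹ * a⁻¹ = 1 := by
    apply h.eq_one_of_forall_mem_coreQ hnp hAH
    intro q hq hqA
    have : Fact q.Prime := ⟨hq⟩
    by_cases hqp : q = p
    · subst hqp
      have h1 : a * k⁻¹ * a⁻¹ ∈ coreQ q H :=
        (Subgroup.mem_normalizer_iff.mp (le_normalizer_coreQ q H haH) k⁻¹).mp (inv_mem hk)
      have := mul_mem hk h1
      simpa [mul_assoc] using this
    · have haq : a ∈ coreQ q H :=
        h.Ar_le_coreQ hqp (Fq_ne_bot_of_dvd_card_A hqA) hH.1 hAH ha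
      have h1 : k * a * k⁻¹ ∈ coreQ q H :=
        (Subgroup.mem_normalizer_iff.mp (le_normalizer_coreQ q H hkH) a).mp haq
      exact mul_mem h1 (inv_mem haq)
  have h5 : k * a = (k * a * k⁻¹ * a⁻¹) * (a * k) := by group
  rw [h5, hc, one_mul]

/-- `O_q(M) ≤ O_q(H)` for `q ≠ p`. -/
theorem Fq_le_D (h : FitHyp M p A₀) (hnp : ¬ IsPGroup p ↥(Cfsg.fittingOf M))
    (hH : IsCoatom H) (hAH : fitA M A₀ ≤ H) {q : ℕ} [Fact q.Prime] (hqp : q ≠ p) :
    Cfsg.pCoreOf q M ≤ Cfsg.pCoreOf q H := by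
  have hKM : coreQ p H ≤ M :=
    (h.coreQ_le_centralizer_Ap hnp hH hAH).trans (h.centralizer_Aq_le h.Fp_ne_bot)
  have hFK : Cfsg.pCoreOf q M ≤ coreQ p H := by
    rw [← h.Aq_eq_Fq hqp]
    exact h.Ar_le_coreQ (Ne.symm hqp) h.Fp_ne_bot hH.1 hAH
  have h1 : Cfsg.pCoreOf q M ≤ Cfsg.pCoreOf q (coreQ p H) :=
    le_pCoreOf hFK (hKM.trans (le_normalizer_pCoreOf q M)) (PrimeAct.pCoreOf_isPGroup q M)
  exact h1.trans (pCoreOf_le_pCoreOf_of_normal (coreQ_le p H) (le_normalizer_coreQ p H))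

/-- If `Z(O_q(H)) ≤ O_q(M)` and `O_q(H) ≠ 1`, then `O_s(H) ≤ O_s(M)` for all `s ≠ q`. -/
theorem D_le_F_of (h : FitHyp M p A₀) (hnp : ¬ IsPGroup p ↥(Cfsg.fittingOf M))
    (hH : IsCoatom H) (hAH : fitA M A₀ ≤ H) {q : ℕ} [Fact q.Prime]
    (hFq : Cfsg.pCoreOf q M ≠ ⊥) (hDq : Cfsg.pCoreOf q H ≠ ⊥)
    (hZ : zOf (Cfsg.pCoreOf q H) ≤ Cfsg.pCoreOf q M) {s : ℕ} [Fact s.Prime] (hsq : s ≠ q) :
    Cfsg.pCoreOf s H ≤ Cfsg.pCoreOf s M := by
  have := h.simple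
  have hNZ : Subgroup.normalizer ((zOf (Cfsg.pCoreOf q H) : Subgroup G) : Set G) = H :=
    normalizer_eq_of_coatom hH ((zOf_le _).trans (PrimeAct.pCoreOf_le q H))
      (zOf_ne_bot (PrimeAct.pCoreOf_isPGroup q H) hDq)
      ((le_normalizer_pCoreOf q H).trans (normalizer_le_normalizer_zOf _))
  have hNF : Subgroup.normalizer ((Cfsg.pCoreOf q M : Subgroup G) : Set G) = M :=
    normalizer_eq_of_coatom h.hM (PrimeAct.pCoreOf_le q M) hFq (le_normalizer_pCoreOf q M)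
  have hCH : Subgroup.centralizer ((Cfsg.pCoreOf q M : Subgroup G) : Set G) ≤ H :=
    ((Subgroup.centralizer_le hZ).trans (Subgroup.centralizer_le_normalizer _)).trans hNZ.le
  have hCM : Subgroup.centralizer ((Cfsg.pCoreOf q M : Subgroup G) : Set G) ≤ M :=
    (Subgroup.centralizer_le_normalizer _).trans hNF.le
  have h1 : Cfsg.pCoreOf s H ≤
      Cfsg.pCoreOf s (Subgroup.centralizer ((Cfsg.pCoreOf q M : Subgroup G) : Set G)) :=
    le_pCoreOf (h.D_le_centralizer_Fq hnp hH hAH hsq) (hCH.trans (le_normalizer_pCoreOf s H))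
      (PrimeAct.pCoreOf_isPGroup s H)
  exact h1.trans (pCoreOf_le_pCoreOf_of_normal hCM
    ((le_normalizer_pCoreOf q M).trans (normalizer_le_normalizer_centralizer' _)))

/-- `Z(O_q(H)) ≤ O_q(M)` for `q ≠ p`. -/
theorem zOf_D_le_Fq (h : FitHyp M p A₀) (hnp : ¬ IsPGroup p ↥(Cfsg.fittingOf M))
    (hH : IsCoatom H) (hAH : fitA M A₀ ≤ H) {q : ℕ} [Fact q.Prime] (hqp : q ≠ p) :
    zOf (Cfsg.pCoreOf q H) ≤ Cfsg.pCoreOf q M := by
  have hZM : zOf (Cfsg.pCoreOf q H) ≤ M := (zOf_le _).trans (h.D_le_M hnp hH hAH q)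
  have hZC : zOf (Cfsg.pCoreOf q H) ≤
      Subgroup.centralizer ((Cfsg.fittingOf M : Subgroup G) : Set G) := by
    apply le_centralizer_fittingOf_of_forall
    intro s hs
    have : Fact s.Prime := ⟨hs⟩
    by_cases hsq : s = q
    · subst hsq
      exact (zOf_le_centralizer _).trans (Subgroup.centralizer_le (h.Fq_le_D hnp hH hAH hqp))
    · exact (zOf_le _).trans (h.D_le_centralizer_Fq hnp hH hAH (Ne.symm hsq))
  have hZF : zOf (Cfsg.pCoreOf q H) ≤ Cfsg.fittingOf M :=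
    (le_inf hZM hZC).trans (inf_centralizer_fittingOf_le (h.solvable h.M_ne_top))
  exact le_pCoreOf_of_le_fittingOf hZF ((PrimeAct.pCoreOf_isPGroup q H).to_le (zOf_le _))

/-- `O_p(H) ≠ 1`. -/
theorem Dp_ne_bot (h : FitHyp M p A₀) (hnp : ¬ IsPGroup p ↥(Cfsg.fittingOf M))
    (hH : IsCoatom H) (hAH : fitA M A₀ ≤ H) : Cfsg.pCoreOf p H ≠ ⊥ := by
  intro hDp
  have hApH : fitAq M A₀ p ≤ H := (Aq_le_A p).trans hAH
  have hC : fitAq M A₀ p ≤ Subgroup.centralizer ((Cfsg.fittingOf H : Subgroup G) : Set G) := by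
    apply le_centralizer_fittingOf_of_forall
    intro q hq
    have : Fact q.Prime := ⟨hq⟩
    by_cases hqp : q = p
    · subst hqp
      rw [hDp]
      intro a _
      rw [Subgroup.mem_centralizer_iff]
      intro x hx
      have hx1 : x = 1 := by simpa using hx
      rw [hx1]; simp
    · rw [Subgroup.le_centralizer_iff]
      exact h.D_le_centralizer_Ar hnp hH hAH hqp
  have hF : fitAq M A₀ p ≤ Cfsg.fittingOf H :=
    (le_inf hApH hC).trans (inf_centralizer_fittingOf_le (h.solvable hH.1))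
  have h1 : fitAq M A₀ p ≤ Cfsg.pCoreOf p H := le_pCoreOf_of_le_fittingOf hF (Aq_isPGroup p)
  rw [hDp] at h1
  exact h.Aq_ne_bot h.Fp_ne_bot (le_bot_iff.mp h1)

/-- **B & G, Theorem 8.1(a)**: every maximal subgroup containing `A = C_F(A₀)` is `M`. -/
theorem eq_of_coatom (h : FitHyp M p A₀) (hnp : ¬ IsPGroup p ↥(Cfsg.fittingOf M))
    (hH : IsCoatom H) (hAH : fitA M A₀ ≤ H) : H = M := by
  have := h.simple
  obtain ⟨r, hr, hrp, hFr⟩ := exists_prime_ne_pCoreOf_ne_bot hnp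
  have : Fact r.Prime := ⟨hr⟩
  have hFD : Cfsg.pCoreOf r M ≤ Cfsg.pCoreOf r H := h.Fq_le_D hnp hH hAH hrp
  have hDr : Cfsg.pCoreOf r H ≠ ⊥ := fun e => hFr (le_bot_iff.mp (e ▸ hFD))
  have hDpF : Cfsg.pCoreOf p H ≤ Cfsg.pCoreOf p M :=
    h.D_le_F_of hnp hH hAH hFr hDr (h.zOf_D_le_Fq hnp hH hAH hrp) (Ne.symm hrp)
  have hDrF : Cfsg.pCoreOf r H ≤ Cfsg.pCoreOf r M :=
    h.D_le_F_of hnp hH hAH h.Fp_ne_bot (h.Dp_ne_bot hnp hH hAH) ((zOf_le _).trans hDpF) hrp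
  have heq : Cfsg.pCoreOf r H = Cfsg.pCoreOf r M := le_antisymm hDrF hFD
  have hN1 : Subgroup.normalizer ((Cfsg.pCoreOf r H : Subgroup G) : Set G) = H :=
    normalizer_eq_of_coatom hH (PrimeAct.pCoreOf_le r H) hDr (le_normalizer_pCoreOf r H)
  have hN2 : Subgroup.normalizer ((Cfsg.pCoreOf r M : Subgroup G) : Set G) = M :=
    normalizer_eq_of_coatom h.hM (PrimeAct.pCoreOf_le r M) hFr (le_normalizer_pCoreOf r M)
  rw [← hN1, heq, hN2]

end uniq

/-- **B & G, Theorem 8.1(a)**. -/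
theorem inUniqueMaximal (h : FitHyp M p A₀) (hnp : ¬ IsPGroup p ↥(Cfsg.fittingOf M)) :
    Cfsg.InUniqueMaximal (fitA M A₀) :=
  ⟨M, ⟨h.hM, A_le_M⟩, fun _ hH => h.eq_of_coatom hnp hH.1 hH.2⟩

end FitHyp

end Cfsg.Agent.Lib.Helper17.BGU
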