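/-
Helper lemmas (helper17): Bender–Glauberman Theorem 8.1(b): if `F(M)` is a `p`-group of rank at
least three, then a Sylow `p`-subgroup `P` of `M` is a Sylow `p`-subgroup of `G`, and every
`A ∈ SCN_3(P)` lies in `F(M)` and in a unique maximal subgroup.
-/
import Mathlib
import Cfsg.Agent.Lib.Helper17.BGFitD
import Cfsg.Agent.Lib.Helper17.BGUniqE

set_option autoImplicit false
set_option linter.unusedSectionVars false
open scoped Pointwise

namespace Cfsg.Agent.Lib.Helper17.BGU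

open Cfsg.Agent.Lib.Helper12.CoreControl (coreQ coreQ_le coreQ_coprime le_coreQ
  normalizer_le_normalizer_coreQ)
open Cfsg.Agent.Lib.Helper27.PuigOdd (zOf normalizer_le_normalizer_zOf)

universe u
variable {G : Type u} [Group G]

/-- If `F(M)` is a `p`-group and `M` is solvable, then `O_{p'}(M) = 1`. -/
theorem coreQ_eq_bot_of_isPGroup_fittingOf [Finite G] {M : Subgroup G} {p : ℕ} [Fact p.Prime]
    (hsol : Group.IsSolvable ↥M) (hFp : IsPGroup p ↥(Cfsg.fittingOf M)) : coreQ p M = ⊥ := by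
  have hKM : coreQ p M ≤ M := coreQ_le p M
  have hcopK : (Nat.card (coreQ p M)).Coprime p := coreQ_coprime p M
  have hKF : coreQ p M ⊓ Cfsg.fittingOf M = ⊥ := by
    rw [← Subgroup.card_eq_one]
    obtain ⟨k, hk⟩ := IsPGroup.iff_card.mp hFp
    have h1 : Nat.card ↥(coreQ p M ⊓ Cfsg.fittingOf M) ∣ Nat.card (coreQ p M) :=
      Subgroup.card_dvd_of_le inf_le_left
    have h2 : Nat.card ↥(coreQ p M ⊓ Cfsg.fittingOf M) ∣ p ^ k :=
      hk ▸ Subgroup.card_dvd_of_le inf_le_right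
    exact Nat.eq_one_of_dvd_coprimes (Nat.Coprime.pow_right k hcopK) h1 h2
  have hKC : coreQ p M ≤ Subgroup.centralizer ((Cfsg.fittingOf M : Subgroup G) : Set G) := by
    intro k hk
    rw [Subgroup.mem_centralizer_iff]
    intro f hf
    have hfM : f ∈ M := PrimeAct.fittingOf_le M hf
    have hkM : k ∈ M := hKM hk
    have hc : k * f * k⁻¹ * f⁻¹ = 1 := by
      have h1 : k * f * k⁻¹ * f⁻¹ ∈ coreQ p M := by
        have h2 : f * k⁻¹ * f⁻¹ ∈ coreQ p M :=
          (Subgroup.mem_normalizer_iff.mp (le_normalizer_coreQ p M hfM) k⁻¹).mp (inv_mem hk)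
        have := mul_mem hk h2
        simpa [mul_assoc] using this
      have h3 : k * f * k⁻¹ * f⁻¹ ∈ Cfsg.fittingOf M := by
        have h4 : k * f * k⁻¹ ∈ Cfsg.fittingOf M :=
          (Subgroup.mem_normalizer_iff.mp (le_normalizer_fittingOf M hkM) f).mp hf
        exact mul_mem h4 (inv_mem hf)
      have : k * f * k⁻¹ * f⁻¹ ∈ coreQ p M ⊓ Cfsg.fittingOf M := ⟨h1, h3⟩
      rw [hKF, Subgroup.mem_bot] at this
      exact this
    have h5 : k * f = (k * f * k⁻¹ * f⁻¹) * (f * k) := by group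
    rw [h5, hc, one_mul]
  have h6 : coreQ p M ≤ Cfsg.fittingOf M :=
    (le_inf hKM hKC).trans (inf_centralizer_fittingOf_le hsol)
  exact le_bot_iff.mp (hKF ▸ le_inf le_rfl h6)

/-- Basic facts on `A ∈ SCN_3(P)`, `P` a Sylow `p`-subgroup of a minimal simple group of odd
order. -/
theorem scn_three_facts [Finite G] (hG : Cfsg.IsMinSimpleOddOrder G) {p : ℕ} [Fact p.Prime]
    (P : Sylow p G) {A : Subgroup G} (hA : Cfsg.IsSCN (P : Subgroup G) A)
    (hA3 : ¬ Cfsg.PRankLE p 2 ↥A) :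
    IsPGroup p A ∧ A ≠ ⊥ ∧ p ∣ Nat.card A ∧ Cfsg.TransitivityHypothesis A ∧
      ¬ Cfsg.RankLE 2 ↥(A ⊓ Subgroup.centralizer (A : Set G)) := by
  have hpp : p.Prime := Fact.out
  have hA' := hA
  obtain ⟨hAP, hPN, hCA⟩ := hA
  have hAp : IsPGroup p A := P.isPGroup'.to_le hAP
  have hAcent : A ≤ Subgroup.centralizer (A : Set G) := by
    intro a ha
    have : a ∈ (P : Subgroup G) ⊓ Subgroup.centralizer (A : Set G) := by rw [hCA]; exact ha
    exact this.2
  have hAc : ∀ a ∈ A, ∀ b ∈ A, a * b = b * a := fun a ha b hb =>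
    ((Subgroup.mem_centralizer_iff.mp (hAcent ha)) b hb).symm
  have hAcI : IsMulCommutative A := by
    refine ⟨⟨?_⟩⟩
    rintro ⟨a, ha⟩ ⟨b, hb⟩
    exact Subtype.ext (hAc a ha b hb)
  have hA1 : ¬ Cfsg.PRankLE p 1 ↥A := by
    intro h
    apply hA3
    intro E hEc hEe
    exact (h E hEc hEe).trans (Nat.pow_le_pow_right hpp.pos (by norm_num))
  have hAne : A ≠ ⊥ := by
    intro h
    apply hA3
    intro E _ _
    have h1 : Nat.card E ≤ Nat.card A :=
      Nat.le_of_dvd Nat.card_pos (Subgroup.card_subgroup_dvd_card E)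
    have h2 : Nat.card A = 1 := Subgroup.card_eq_one.mpr h
    rw [h2] at h1
    exact h1.trans (Nat.one_le_pow _ _ hpp.pos)
  obtain ⟨kA, hkA⟩ := IsPGroup.iff_card.mp hAp
  have hkApos : 0 < kA := by
    rcases Nat.eq_zero_or_pos kA with h | h
    · exfalso
      apply hAne
      rw [← Subgroup.card_eq_one, hkA, h, pow_zero]
    · exact h
  have hpA : p ∣ Nat.card A := by rw [hkA]; exact dvd_pow_self p hkApos.ne'
  have hpG : p ∣ Nat.card G := hpA.trans (Subgroup.card_subgroup_dvd_card A)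
  have hAtr : Cfsg.TransitivityHypothesis A :=
    Cfsg.Agent.S1396.result hG p hpG A hAp hAcI (Or.inr ⟨P, hA', hA1⟩)
  have hZ : ¬ Cfsg.RankLE 2 ↥(A ⊓ Subgroup.centralizer (A : Set G)) := by
    intro h
    apply hA3
    exact pRankLE_of_le (le_inf le_rfl hAcent) (h p hpp)
  exact ⟨hAp, hAne, hpA, hAtr, hZ⟩

theorem not_dvd_index_of_isSylIn_top [Finite G] {p : ℕ} [Fact p.Prime] {P : Subgroup G}
    (hP : Cfsg.Agent.Lib.Helper8.IsSylIn p P ⊤) : ¬ p ∣ P.index := by
  have hcard : Nat.card P = p ^ (Nat.card G).factorization p := by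
    rw [hP.2, Subgroup.card_top]
  exact (Sylow.ofCard P hcard).not_dvd_index

namespace FitHyp

variable [Finite G] {M A₀ : Subgroup G} {p : ℕ} [Fact p.Prime]

/-- **B & G, Theorem 8.1(b)**. -/
theorem sylow_part (h : FitHyp M p A₀) (hFp : IsPGroup p ↥(Cfsg.fittingOf M)) {P' : Subgroup G}
    (hP' : Cfsg.Agent.Lib.Helper8.IsSylIn p P' M) :
    Cfsg.Agent.Lib.Helper8.IsSylIn p P' ⊤ ∧
      ∀ A : Subgroup G, Cfsg.IsSCN P' A → ¬ Cfsg.PRankLE p 2 ↥A →
        A ≤ Cfsg.fittingOf M ∧ Cfsg.InUniqueMaximal A := by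
  have := h.simple
  have hpp : p.Prime := Fact.out
  have hsolM : Group.IsSolvable ↥M := h.solvable h.M_ne_top
  have hoddM : Odd (Nat.card M) := Odd.of_dvd_nat h.hG.1 (Subgroup.card_subgroup_dvd_card M)
  have hK : coreQ p M = ⊥ := coreQ_eq_bot_of_isPGroup_fittingOf hsolM hFp
  have hpM : p ∣ Nat.card M :=
    h.p_dvd_card_A₀.trans (Subgroup.card_dvd_of_le (h.hA₀F.trans (PrimeAct.fittingOf_le M)))
  have hP'ne : P' ≠ ⊥ := by
    intro e
    have h1 := hP'.2
    rw [e, Subgroup.card_bot] at h1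
    have h2 : 0 < (Nat.card M).factorization p :=
      hpp.factorization_pos_of_dvd Nat.card_pos.ne' hpM
    have h3 : 1 < p ^ (Nat.card M).factorization p := Nat.one_lt_pow h2.ne' hpp.one_lt
    omega
  have hMN : M ≤ Subgroup.normalizer (zl P' : Set G) :=
    (puig_factor_in h.p_ne_two hsolM hoddM hP').2 hK
  have hNzl : Subgroup.normalizer (zl P' : Set G) = M :=
    normalizer_eq_of_coatom h.hM ((zl_le P').trans hP'.1) (zl_ne_bot hP'.isPGroup hP'ne) hMN
  have hNP : Subgroup.normalizer (P' : Set G) ≤ M :=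
    (normalizer_le_normalizer_zl P').trans hNzl.le
  have hSyl : Cfsg.Agent.Lib.Helper8.IsSylIn p P' ⊤ :=
    isSylIn_of_inf_normalizer_le hP' le_top (inf_le_right.trans hNP)
  refine ⟨hSyl, ?_⟩
  intro A hscn hA3
  -- `A ≤ F(M)`
  obtain ⟨Q, hQP, -, hAb, hfr, -⟩ := exists_frattini_core_in hsolM hoddM hP'
  have hMQ : M ≤ Subgroup.normalizer (Q : Set G) := by
    intro m hm
    obtain ⟨k, hk, n, -, hnN, rfl⟩ := hfr m hm
    rw [hK, Subgroup.mem_bot] at hk
    subst hk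
    simpa using hnN
  have hQF : Q ≤ Cfsg.fittingOf M :=
    (le_pCoreOf (hQP.trans hP'.1) hMQ (hP'.isPGroup.to_le hQP)).trans
      (PrimeAct.pCoreOf_le_fittingOf M p)
  have hAF : A ≤ Cfsg.fittingOf M := (hAb A hscn.1 (scn_comm hscn) hscn.2.1).trans hQF
  have hAM : A ≤ M := hAF.trans (PrimeAct.fittingOf_le M)
  -- the Sylow subgroup of `G`
  have hcard : Nat.card P' = p ^ (Nat.card G).factorization p := by
    rw [hSyl.2, Subgroup.card_top]
  obtain ⟨hAp, hAne, hpA, hAtr, hZ⟩ :=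
    scn_three_facts h.hG (Sylow.ofCard P' hcard) (A := A) hscn hA3
  have hπ : ∀ r : ℕ, r.Prime → r ∣ Nat.card (Cfsg.fittingOf M) → r ∣ Nat.card A := by
    intro r hr hrF
    obtain ⟨k, hk⟩ := IsPGroup.iff_card.mp hFp
    rw [hk] at hrF
    have : r = p := (Nat.prime_dvd_prime_iff_eq hr hpp).mp (hr.dvd_of_dvd_pow hrF)
    rw [this]; exact hpA
  have hinv := eq_bot_of_inv_of_trans h.hG h.hM hAF hAtr hZ hπ
  have huniq := uniq_of_inv_pgroup h.hG h.hM hAM hAp hAne (by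
    intro Y hY hAY
    obtain ⟨k, hk⟩ := IsPGroup.iff_card.mp hAp
    rw [hinv Y hAY (by rw [hk]; exact Nat.Coprime.pow_right k hY)]
    exact bot_le)
  exact ⟨hAF, M, ⟨h.hM, hAM⟩, fun H hH => huniq H hH.1 hH.2⟩

end FitHyp

end Cfsg.Agent.Lib.Helper17.BGU
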