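/-
Helper lemmas (helper17): Bender–Glauberman Theorem 9.4: if `F(M)` has `p`-rank at least three
for some maximal subgroup `M`, then every abelian `p`-subgroup of rank at least three lies in a
unique maximal subgroup.
-/
import Mathlib
import Cfsg.Agent.Lib.Helper17.BGFitE
import Cfsg.Agent.Lib.Helper17.BGUniqF
import Cfsg.Agent.Lib.Helper17.BGUniqG

set_option autoImplicit false
set_option linter.unusedSectionVars false
open scoped Pointwise

namespace Cfsg.Agent.Lib.Helper17.BGU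

universe u
variable {G : Type u} [Group G]

theorem isMulCommutative_of_comm {E : Subgroup G} (hEc : ∀ a ∈ E, ∀ b ∈ E, a * b = b * a) :
    IsMulCommutative ↥E := by
  refine ⟨⟨?_⟩⟩
  rintro ⟨a, ha⟩ ⟨b, hb⟩
  exact Subtype.ext (hEc a ha b hb)

theorem isPGroup_of_exp {p : ℕ} {E : Subgroup G} (hEe : ∀ a ∈ E, a ^ p = 1) : IsPGroup p E := by
  intro b
  refine ⟨1, ?_⟩
  rw [pow_one]
  exact Subtype.ext (by simpa using hEe b.1 b.2)

theorem pow_three_le_card_of_lt [Finite G] {p : ℕ} [Fact p.Prime] {E : Subgroup G}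
    (hE : IsPGroup p E) (h : p ^ 2 < Nat.card E) : p ^ 3 ≤ Nat.card E := by
  have hpp : p.Prime := Fact.out
  obtain ⟨k, hk⟩ := IsPGroup.iff_card.mp hE
  rw [hk] at h ⊢
  have h1 : 2 < k := (Nat.pow_lt_pow_iff_right hpp.one_lt).mp h
  exact Nat.pow_le_pow_right hpp.pos h1

/-- **B & G, Theorem 9.4**, first step: some abelian `p`-subgroup of rank at least three lies in
a unique maximal subgroup. -/
theorem exists_uniq_of_fitting_rank_three [Finite G] (hG : Cfsg.IsMinSimpleOddOrder G)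
    {M : Subgroup G} (hM : IsCoatom M) {p : ℕ} [Fact p.Prime]
    (hF : ¬ Cfsg.PRankLE p 2 ↥(Cfsg.fittingOf M)) :
    ∃ A' : Subgroup G, IsPGroup p A' ∧ IsMulCommutative ↥A' ∧ ¬ Cfsg.PRankLE p 2 ↥A' ∧
      Cfsg.InUniqueMaximal A' := by
  have hpp : p.Prime := Fact.out
  obtain ⟨E, hEF, hEc, hEe, hEcard⟩ := exists_elemAb_of_not_pRankLE hF
  have hEcI : IsMulCommutative ↥E := isMulCommutative_of_comm hEc
  have hEp : IsPGroup p E := isPGroup_of_exp hEe
  have hE3 : ¬ Cfsg.PRankLE p 2 ↥E := not_pRankLE_of_elemAb le_rfl hEc hEe hEcard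
  have h : FitHyp M p E := ⟨hG, hM, hEF, ⟨hEcI, hEe⟩, pow_three_le_card_of_lt hEp hEcard⟩
  by_cases hFp : IsPGroup p ↥(Cfsg.fittingOf M)
  · -- `F(M)` is a `p`-group
    obtain ⟨P', hP', hEP'⟩ := exists_isSylIn_ge (hEF.trans (PrimeAct.fittingOf_le M)) hEp
    obtain ⟨A', hscn, hA'3⟩ := exists_scn_three h.p_ne_two hP'.isPGroup hEP' hEc hEe hEcard
    obtain ⟨-, hrest⟩ := h.sylow_part hFp hP'
    exact ⟨A', hP'.isPGroup.to_le hscn.1, isMulCommutative_of_comm (scn_comm hscn), hA'3,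
      (hrest A' hscn hA'3).2⟩
  · -- `F(M)` is not a `p`-group
    have hU : Cfsg.InUniqueMaximal (fitA M E) := h.inUniqueMaximal hFp
    have hEC : E ≤ Subgroup.centralizer ((fitA M E : Subgroup G) : Set G) := by
      intro a ha
      rw [Subgroup.mem_centralizer_iff]
      intro b hb
      exact ((Subgroup.mem_centralizer_iff.mp hb.2) a ha).symm
    have hEr : ¬ Cfsg.RankLE 1 E := by
      refine not_rankLE_one_of_elemAb hpp le_rfl hEc hEe ?_
      calc p = p ^ 1 := (pow_one p).symm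
        _ < p ^ 2 := Nat.pow_lt_pow_right hpp.one_lt (by norm_num)
        _ < Nat.card E := hEcard
    exact ⟨E, hEp, hEcI, hE3, uniq_of_le_centralizer hG hU hEC hEr⟩

/-- **B & G, Theorem 9.4**. -/
theorem uniq_of_fitting_rank_three [Finite G] (hG : Cfsg.IsMinSimpleOddOrder G)
    {M : Subgroup G} (hM : IsCoatom M) {p : ℕ} [Fact p.Prime]
    (hF : ¬ Cfsg.PRankLE p 2 ↥(Cfsg.fittingOf M)) {A : Subgroup G} (hAp : IsPGroup p A)
    (hAc : IsMulCommutative ↥A) (hA3 : ¬ Cfsg.PRankLE p 2 ↥A) : Cfsg.InUniqueMaximal A := by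
  have hpp : p.Prime := Fact.out
  obtain ⟨A', hA'p, hA'c, hA'3, hA'U⟩ := exists_uniq_of_fitting_rank_three hG hM hF
  have hAcent : A ≤ Subgroup.centralizer (A : Set G) := by
    intro a ha
    rw [Subgroup.mem_centralizer_iff]
    intro b hb
    exact congrArg Subtype.val (hAc.is_comm.comm (⟨b, hb⟩ : A) ⟨a, ha⟩)
  have hB3 : ¬ Cfsg.PRankLE p 2 ↥(Subgroup.centralizer (A : Set G)) := fun hr =>
    hA3 (pRankLE_of_le hAcent hr)
  have hnc : ¬ IsCyclic ↥A := by
    intro hcyc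
    obtain ⟨E, hEA, hEc, hEe, hEcard⟩ := exists_elemAb_of_not_pRankLE hA3
    have hEcyc : IsCyclic ↥E := by
      have : IsCyclic ↥(E.subgroupOf A) := Subgroup.isCyclic _
      exact isCyclic_of_surjective (Subgroup.subgroupOfEquivOfLe hEA)
        (Subgroup.subgroupOfEquivOfLe hEA).surjective
    have h1 : Nat.card E ≤ p := by
      obtain ⟨g, hg⟩ := hEcyc.exists_generator
      have h2 : orderOf g = Nat.card E := orderOf_eq_card_of_forall_mem_zpowers hg
      rw [← h2]
      apply Nat.le_of_dvd hpp.pos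
      apply orderOf_dvd_of_pow_eq_one
      exact Subtype.ext (by simpa using hEe g.1 g.2)
    have h3 : p < p ^ 2 := by
      calc p = p ^ 1 := (pow_one p).symm
        _ < p ^ 2 := Nat.pow_lt_pow_right hpp.one_lt (by norm_num)
    omega
  exact uniq_of_rank_three hG hA'p hA'c hA'3 hA'U hAp hnc hB3

end Cfsg.Agent.Lib.Helper17.BGU
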