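/-
Helper lemmas (helper17): Bender–Glauberman Theorem 9.6 (the Uniqueness Theorem) derived from
Lemma 9.5 (taken as a hypothesis `h95`): in a minimal simple group of odd order, a proper subgroup
`K` of rank at least two such that `K` or `C_G(K)` has rank at least three lies in a unique maximal
subgroup.
-/
import Mathlib
import Cfsg.Agent.Lib.Helper17.BGFitF

set_option autoImplicit false
set_option linter.unusedSectionVars false
open scoped Pointwise

namespace Cfsg.Agent.Lib.Helper17.BGU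

variable {G : Type*} [Group G]

/-- A proper subgroup containing a uniqueness subgroup is a uniqueness subgroup. -/
theorem inUniqueMaximal_of_le [Finite G] {X K : Subgroup G} (hX : Cfsg.InUniqueMaximal X)
    (hXK : X ≤ K) (hK : K ≠ ⊤) : Cfsg.InUniqueMaximal K := by
  obtain ⟨M, ⟨hM, hXM⟩, hMuniq⟩ := hX
  obtain ⟨M', hM', hKM'⟩ := exists_coatom_ge hK
  have hM'M : M' = M := hMuniq M' ⟨hM', hXK.trans hKM'⟩
  refine ⟨M, ⟨hM, hM'M ▸ hKM'⟩, ?_⟩
  rintro H ⟨hH, hKH⟩
  exact hMuniq H ⟨hH, hXK.trans hKH⟩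

/-- Under Lemma 9.5, every elementary abelian subgroup of order at least `q ^ 3` is a uniqueness
subgroup. -/
theorem uniq_of_elemAb_three [Finite G] (hG : Cfsg.IsMinSimpleOddOrder G)
    (h95 : ∀ (p : ℕ) [Fact p.Prime] (P : Sylow p G) (A : Subgroup G),
      Cfsg.IsSCN (P : Subgroup G) A → ¬ Cfsg.PRankLE p 2 ↥A → Cfsg.InUniqueMaximal A)
    {q : ℕ} [Fact q.Prime] {E : Subgroup G} (hEc : ∀ a ∈ E, ∀ b ∈ E, a * b = b * a)
    (hEe : ∀ a ∈ E, a ^ q = 1) (hEcard : q ^ 2 < Nat.card E) : Cfsg.InUniqueMaximal E := by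
  have hqq : q.Prime := Fact.out
  have hEq : IsPGroup q E := isPGroup_of_exp hEe
  have hq2 : q ≠ 2 := by
    rintro rfl
    have h3 : 2 ^ 3 ≤ Nat.card E := pow_three_le_card_of_lt hEq hEcard
    obtain ⟨k, hk⟩ := IsPGroup.iff_card.mp hEq
    have hkpos : k ≠ 0 := by
      rintro rfl
      rw [hk] at h3
      norm_num at h3
    have h2 : 2 ∣ Nat.card G :=
      (hk ▸ dvd_pow_self 2 hkpos : 2 ∣ Nat.card E).trans (Subgroup.card_subgroup_dvd_card E)
    exact (Nat.not_even_iff_odd.mpr hG.1) (even_iff_two_dvd.mpr h2)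
  obtain ⟨P, hEP⟩ := hEq.exists_le_sylow
  obtain ⟨A, hA, hA3⟩ := exists_scn_three hq2 P.isPGroup' hEP hEc hEe hEcard
  have hAU : Cfsg.InUniqueMaximal A := h95 q P A hA hA3
  have hAp : IsPGroup q A := P.isPGroup'.to_le hA.1
  have hAcI : IsMulCommutative A := isMulCommutative_of_comm (scn_comm hA)
  have hE2 : q ^ 2 ≤ Nat.card E := hEcard.le
  have hEnc : ¬ IsCyclic E :=
    Cfsg.Agent.Lib.Helper8.not_isCyclic_of_elemAb hqq ⟨isMulCommutative_of_comm hEc, hEe⟩ hE2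
  have hEcen : E ≤ Subgroup.centralizer (E : Set G) := by
    intro a ha
    rw [Subgroup.mem_centralizer_iff]
    intro b hb
    exact hEc b hb a ha
  have hC3 : ¬ Cfsg.PRankLE q 2 ↥(Subgroup.centralizer (E : Set G)) :=
    not_pRankLE_of_elemAb hEcen hEc hEe hEcard
  exact uniq_of_rank_three hG hAp hAcI hA3 hAU hEq hEnc hC3

/-- **B & G, Theorem 9.6** (the Uniqueness Theorem), from Lemma 9.5. -/
theorem uniqueness_theorem_of_scn [Finite G] (hG : Cfsg.IsMinSimpleOddOrder G)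
    (h95 : ∀ (p : ℕ) [Fact p.Prime] (P : Sylow p G) (A : Subgroup G),
      Cfsg.IsSCN (P : Subgroup G) A → ¬ Cfsg.PRankLE p 2 ↥A → Cfsg.InUniqueMaximal A)
    (K : Subgroup G) (hK : K ≠ ⊤) (hK2 : ¬ Cfsg.RankLE 1 K)
    (hK3 : ¬ Cfsg.RankLE 2 K ∨ ¬ Cfsg.RankLE 2 (Subgroup.centralizer (K : Set G))) :
    Cfsg.InUniqueMaximal K := by
  rcases hK3 with h3 | h3
  · unfold Cfsg.RankLE at h3
    push Not at h3
    obtain ⟨q, hq, hqK⟩ := h3
    have : Fact q.Prime := ⟨hq⟩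
    obtain ⟨E, hEK, hEc, hEe, hEcard⟩ := exists_elemAb_of_not_pRankLE hqK
    exact inUniqueMaximal_of_le (uniq_of_elemAb_three hG h95 hEc hEe hEcard) hEK hK
  · unfold Cfsg.RankLE at h3
    push Not at h3
    obtain ⟨q, hq, hqK⟩ := h3
    have : Fact q.Prime := ⟨hq⟩
    obtain ⟨E, hEK, hEc, hEe, hEcard⟩ := exists_elemAb_of_not_pRankLE hqK
    apply uniq_of_le_centralizer hG (uniq_of_elemAb_three hG h95 hEc hEe hEcard) _ hK2
    intro k hk
    rw [Subgroup.mem_centralizer_iff]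
    intro e he
    exact ((Subgroup.mem_centralizer_iff.mp (hEK he)) k hk).symm

end Cfsg.Agent.Lib.Helper17.BGU
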