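/-
Helper lemmas (helper17): piece (A) of the proof of Bender–Glauberman Lemma 9.5
(notes/bg95/PROOF.md, Part 1).  In a minimal simple group of odd order, let `A ∈ SCN_3(P)` for a
Sylow `p`-subgroup `P`.  If the Fitting subgroup of every maximal subgroup containing `A` has rank
at most two, then `A` lies in a unique maximal subgroup.
-/
import Mathlib
import Cfsg.Agent.Lib.Helper17.BGFitF
import Cfsg.Agent.Lib.Helper9.Basic

set_option autoImplicit false
set_option linter.unusedSectionVars false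
open scoped Pointwise

namespace Cfsg.Agent.Lib.Helper17.BG95TypeI

open Cfsg.Agent.Lib.Helper17.BGU
open Cfsg.Agent.Lib.Helper8 (IsSylIn)

variable {G : Type*} [Group G]

/-- Subgroup form of B & G 4.20(a): for a solvable subgroup `H` of odd order whose Fitting subgroup
has rank at most two, `H' ≤ F(H)`. -/
theorem commutator_le_fittingOf_of_rank_two [Finite G] {H : Subgroup G}
    (hsol : Group.IsSolvable ↥H) (hodd : Odd (Nat.card H))
    (hr : Cfsg.RankLE 2 ↥(Cfsg.fittingOf H)) : ⁅H, H⁆ ≤ Cfsg.fittingOf H := by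
  have hF : ∀ p : ℕ, p.Prime → Cfsg.PRankLE p 2 (Cfsg.fittingSubgroup ↥H) := fun p hp =>
    (Cfsg.Agent.Lib.Helper9.pRankLE_map_subtype H (Cfsg.fittingSubgroup ↥H) p 2).mp (hr p hp)
  have h := Cfsg.Agent.Lib.Helper17.commutator_le_fitting_of_rank_two (G := ↥H) hodd hF
  have h2 := Subgroup.map_mono (f := H.subtype) h
  rw [Subgroup.map_subtype_commutator] at h2
  exact h2

/-- Reduction from `p'`-subgroups to `q`-subgroups for invariant subgroups. -/
theorem le_of_forall_inv_qgroup_le [Finite G] {p : ℕ} [Fact p.Prime] {A T : Subgroup G}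
    (hAp : IsPGroup p A)
    (hq : ∀ q : ℕ, q.Prime → q ≠ p → ∀ Y : Subgroup G, IsPGroup q Y →
      A ≤ Subgroup.normalizer (Y : Set G) → Y ≤ T) :
    ∀ Y : Subgroup G, (Nat.card Y).Coprime p → A ≤ Subgroup.normalizer (Y : Set G) → Y ≤ T := by
  intro Y hY hAY
  obtain ⟨kA, hkA⟩ := IsPGroup.iff_card.mp hAp
  apply Cfsg.Agent.Lib.Helper22.TIHall.le_of_forall_sylow_le
  intro r hrF
  have hr : r.Prime := hrF.out
  have hcop : (Nat.card A).Coprime (Nat.card Y) := by
    rw [hkA]; exact Nat.Coprime.pow_left kA hY.symm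
  have hAsol : Group.IsSolvable ↥A := by
    have : Group.IsNilpotent ↥A := hAp.isNilpotent
    infer_instance
  obtain ⟨S, hS, -, hAS⟩ := Cfsg.Agent.Lib.Helper8.exists_invariant_isSylIn_ge hAY hcop
    (Or.inl hAsol) r ⊥ bot_le (IsPGroup.of_bot) (by
      intro a _
      rw [Subgroup.mem_normalizer_iff]
      intro x
      simp [Subgroup.mem_bot])
  refine ⟨hS.toSylow, ?_⟩
  rw [hS.toSylow_map]
  by_cases hrp : r = p
  · have h1 : Nat.card S = 1 := by
      have hd1 : Nat.card S ∣ Nat.card Y := Subgroup.card_dvd_of_le hS.1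
      obtain ⟨k, hk⟩ := IsPGroup.iff_card.mp hS.isPGroup
      rw [hrp] at hk
      rw [hk] at hd1 ⊢
      have : (p ^ k).Coprime (p ^ k) :=
        Nat.Coprime.coprime_dvd_left hd1 (Nat.Coprime.pow_right k hY)
      exact (Nat.coprime_self _).mp this
    rw [Subgroup.card_eq_one.mp h1]; exact bot_le
  · exact hq r hr hrp S hS.isPGroup hAS

/-- Burnside: for `A ∈ SCN(P)` nontrivial in a nonabelian simple group, `A ∩ N_G(A)' ≠ 1`. -/
theorem inf_commutator_normalizer_ne_bot [Finite G] [IsSimpleGroup G]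
    (hnc : ¬ IsMulCommutative G) {p : ℕ} [Fact p.Prime] (P : Sylow p G) {A : Subgroup G}
    (hA : Cfsg.IsSCN (P : Subgroup G) A) (hAne : A ≠ ⊥) :
    A ⊓ ⁅Subgroup.normalizer (A : Set G), Subgroup.normalizer (A : Set G)⁆ ≠ ⊥ := by
  intro hX
  obtain ⟨hAP, hPN, hCA⟩ := hA
  have hAN : A ≤ Subgroup.normalizer (A : Set G) := Subgroup.le_normalizer
  -- `N(A) ≤ C(A)`
  have hNC : Subgroup.normalizer (A : Set G) ≤ Subgroup.centralizer (A : Set G) := by
    intro n hn
    rw [Subgroup.mem_centralizer_iff]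
    intro a ha
    have h1 : n * a * n⁻¹ * a⁻¹ ∈ A :=
      A.mul_mem ((Subgroup.mem_normalizer_iff.mp hn a).mp ha) (A.inv_mem ha)
    have h2 : n * a * n⁻¹ * a⁻¹ ∈
        ⁅Subgroup.normalizer (A : Set G), Subgroup.normalizer (A : Set G)⁆ :=
      Subgroup.commutator_mem_commutator hn (hAN ha)
    have h3 : n * a * n⁻¹ * a⁻¹ ∈
        A ⊓ ⁅Subgroup.normalizer (A : Set G), Subgroup.normalizer (A : Set G)⁆ := ⟨h1, h2⟩
    rw [hX, Subgroup.mem_bot] at h3
    have h4 : n * a = (n * a * n⁻¹ * a⁻¹) * (a * n) := by group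
    rw [h4, h3, one_mul]
  have hPA : (P : Subgroup G) = A := by
    apply le_antisymm _ hAP
    intro x hx
    have : x ∈ (P : Subgroup G) ⊓ Subgroup.centralizer (A : Set G) := ⟨hx, hNC (hPN hx)⟩
    rw [hCA] at this
    exact this
  have hP : Subgroup.normalizer ((P : Subgroup G) : Set G) ≤
      Subgroup.centralizer ((P : Subgroup G) : Set G) := by
    rw [hPA]; exact hNC
  have hcompl := MonoidHom.ker_transferSylow_isComplement' P hP
  have hcard := hcompl.card_mul_card
  have hker : (MonoidHom.transferSylow P hP).ker.Normal := inferInstance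
  rcases hker.eq_bot_or_eq_top with h | h
  · rw [h, Subgroup.card_bot, one_mul] at hcard
    have : (P : Subgroup G) = ⊤ := Subgroup.eq_top_of_card_eq _ hcard
    exact not_isPGroup_top_of_simple hnc P this
  · rw [h, Subgroup.card_top] at hcard
    have h1 : Nat.card (P : Subgroup G) = 1 := by
      have hpos : 0 < Nat.card G := Nat.card_pos
      exact Nat.eq_of_mul_eq_mul_left hpos (by rw [hcard, mul_one])
    apply hAne
    rw [← hPA]
    exact Subgroup.card_eq_one.mp h1

/-- **Piece (A)** of B & G Lemma 9.5: if every maximal subgroup containing `A ∈ SCN_3(P)` has a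
Fitting subgroup of rank at most two, then `A` lies in a unique maximal subgroup. -/
theorem uniq_of_all_typeI {G : Type*} [Group G] [Finite G] (hG : Cfsg.IsMinSimpleOddOrder G)
    (p : ℕ) [Fact p.Prime] (P : Sylow p G) (A : Subgroup G)
    (hA : Cfsg.IsSCN (P : Subgroup G) A) (hA3 : ¬ Cfsg.PRankLE p 2 ↥A)
    (hI : ∀ H : Subgroup G, IsCoatom H → A ≤ H → Cfsg.RankLE 2 ↥(Cfsg.fittingOf H)) :
    Cfsg.InUniqueMaximal A := by
  have hsimple : IsSimpleGroup G := hG.2.1
  have hnc := hG.2.2.1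
  have hsolv := hG.2.2.2
  have hpp : p.Prime := Fact.out
  have hoddH : ∀ H : Subgroup G, Odd (Nat.card H) :=
    fun H => Odd.of_dvd_nat hG.1 (Subgroup.card_subgroup_dvd_card H)
  obtain ⟨hAp, hAne, hpA, hAtr, hZ⟩ := scn_three_facts hG P hA hA3
  obtain ⟨kA, hkA⟩ := IsPGroup.iff_card.mp hAp
  have hAtop : A ≠ ⊤ := hAtr.2.1
  obtain ⟨X, hXdef⟩ : ∃ X : Subgroup G, X = A ⊓
      ⁅Subgroup.normalizer (A : Set G), Subgroup.normalizer (A : Set G)⁆ := ⟨_, rfl⟩
  have hXne : X ≠ ⊥ := hXdef ▸ inf_commutator_normalizer_ne_bot hnc P hA hAne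
  have hXA : X ≤ A := hXdef ▸ inf_le_left
  have hXp : IsPGroup p X := hAp.to_le hXA
  have hXtop : X ≠ ⊤ := fun h => hAtop (top_le_iff.mp (h ▸ hXA))
  have hNXtop : Subgroup.normalizer (X : Set G) ≠ ⊤ := normalizer_ne_top hXne hXtop
  obtain ⟨M₀, hM₀, hNM₀⟩ := exists_coatom_ge hNXtop
  -- `N(A) ≤ N(X)`
  have hNA : Subgroup.normalizer (A : Set G) ≤ Subgroup.normalizer (X : Set G) := by
    intro n hn
    have hn' : n⁻¹ ∈ Subgroup.normalizer (A : Set G) := inv_mem hn
    have hcomm : ∀ m ∈ Subgroup.normalizer (A : Set G), ∀ x ∈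
        ⁅Subgroup.normalizer (A : Set G), Subgroup.normalizer (A : Set G)⁆,
        m * x * m⁻¹ ∈ ⁅Subgroup.normalizer (A : Set G), Subgroup.normalizer (A : Set G)⁆ := by
      intro m hm x hx
      have hxN : x ∈ Subgroup.normalizer (A : Set G) := by
        have hle : ⁅Subgroup.normalizer (A : Set G), Subgroup.normalizer (A : Set G)⁆ ≤
            Subgroup.normalizer (A : Set G) :=
          Subgroup.commutator_le.mpr (fun a ha b hb =>
            mul_mem (mul_mem (mul_mem ha hb) (inv_mem ha)) (inv_mem hb))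
        exact hle hx
      have h1 : m * x * m⁻¹ * x⁻¹ ∈
          ⁅Subgroup.normalizer (A : Set G), Subgroup.normalizer (A : Set G)⁆ :=
        Subgroup.commutator_mem_commutator hm hxN
      have h2 := mul_mem h1 hx
      simpa [mul_assoc] using h2
    rw [Subgroup.mem_normalizer_iff]
    intro x
    rw [hXdef]
    constructor
    · rintro ⟨h1, h2⟩
      exact ⟨(Subgroup.mem_normalizer_iff.mp hn x).mp h1, hcomm n hn x h2⟩
    · rintro ⟨h1, h2⟩
      have e : x = n⁻¹ * (n * x * n⁻¹) * n⁻¹⁻¹ := by group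
      rw [e]
      exact ⟨(Subgroup.mem_normalizer_iff.mp hn' _).mp h1, hcomm n⁻¹ hn' _ h2⟩
  have hAM₀ : A ≤ M₀ := (Subgroup.le_normalizer.trans hNA).trans hNM₀
  have hCX : Subgroup.centralizer (X : Set G) ≤ M₀ :=
    (Subgroup.centralizer_le_normalizer _).trans hNM₀
  -- every `A`-invariant `q`-subgroup centralizes `X`
  have hkey : ∀ q : ℕ, q.Prime → q ≠ p → ∀ Y : Subgroup G, IsPGroup q Y →
      A ≤ Subgroup.normalizer (Y : Set G) → Y ≤ M₀ := by
    intro q hq hqp Y hYq hAY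
    have : Fact q.Prime := ⟨hq⟩
    have hqA : ¬ q ∣ Nat.card A := by
      rw [hkA]
      intro h
      exact hqp ((Nat.prime_dvd_prime_iff_eq hq hpp).mp (hq.dvd_of_dvd_pow h))
    obtain ⟨Q, hQ, hYQ⟩ := exists_maxInv_ge ((mem_invq_iff hq).mpr ⟨hYq, hAY⟩)
    have hQq : IsPGroup q Q := ((mem_invq_iff hq).mp hQ.1).1
    have hAQ : A ≤ Subgroup.normalizer (Q : Set G) := hQ.1.2.2
    refine hYQ.trans ?_
    by_cases hQb : Q = ⊥
    · rw [hQb]; exact bot_le
    refine le_trans ?_ hCX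
    have hQtop : Q ≠ ⊤ := by
      intro h
      have hG' : IsPGroup q G := by
        intro g
        obtain ⟨k, hk⟩ := hQq ⟨g, h ▸ Subgroup.mem_top g⟩
        exact ⟨k, by simpa using congrArg Subtype.val hk⟩
      have hnil : Group.IsNilpotent G := hG'.isNilpotent
      have hsol : Group.IsSolvable G := inferInstance
      exact hnc ⟨⟨IsSimpleGroup.comm_iff_isSolvable.mpr hsol⟩⟩
    have hNQtop : Subgroup.normalizer (Q : Set G) ≠ ⊤ := normalizer_ne_top hQb hQtop
    obtain ⟨H, hH, hNQH⟩ := exists_coatom_ge hNQtop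
    have hAH : A ≤ H := hAQ.trans hNQH
    have hQH : Q ≤ H := Subgroup.le_normalizer.trans hNQH
    have hHtop : H ≠ ⊤ := hH.1
    have hHsol : Group.IsSolvable ↥H := hsolv H hHtop
    have htr := Cfsg.Agent.S1393.result hG A hAtr hZ q hq hqA
    have hsn : (A.subgroupOf A).IsSubnormal := by
      rw [Subgroup.subgroupOf_self]
      exact (inferInstance : (⊤ : Subgroup ↥A).Normal).isSubnormal
    have h95 := Cfsg.Agent.S1395.result hG A hAtr q hq hqA A hAtop (fun r _ h => h) le_rfl hsn htr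
    have hd := (h95.2.2.2 Q hQ).1
    -- `X ≤ H' ≤ F(H)`
    have hXF : X ≤ Cfsg.fittingOf H := by
      rw [hXdef]
      refine hd.trans ((Subgroup.commutator_mono hNQH hNQH).trans ?_)
      exact commutator_le_fittingOf_of_rank_two hHsol (hoddH H) (hI H hH hAH)
    have hXO : X ≤ Cfsg.pCoreOf p H := le_pCoreOf_of_le_fittingOf hXF hXp
    have hQO : Q ≤ Cfsg.piCoreOf (Cfsg.primesNotDvd (Nat.card A)) H :=
      le_piCoreOf_of_inv hAtr hq hqA hHtop hAH hQH hQq hAQ
    -- the two cores commute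
    intro y hy
    rw [Subgroup.mem_centralizer_iff]
    intro x hx
    have hxO := hXO hx
    have hyO := hQO hy
    have hxH : x ∈ H := PrimeAct.pCoreOf_le p H hxO
    have hyH : y ∈ H := piCoreOf_le H hyO
    have h1 : x * y * x⁻¹ * y⁻¹ ∈ Cfsg.pCoreOf p H := by
      have h2 : y * x⁻¹ * y⁻¹ ∈ Cfsg.pCoreOf p H :=
        ((Subgroup.mem_normalizer_iff.mp (le_normalizer_pCoreOf p H hyH)) x⁻¹).mp (inv_mem hxO)
      have := mul_mem hxO h2
      simpa [mul_assoc] using this
    have h3 : x * y * x⁻¹ * y⁻¹ ∈ Cfsg.piCoreOf (Cfsg.primesNotDvd (Nat.card A)) H := by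
      have h2 : x * y * x⁻¹ ∈ Cfsg.piCoreOf (Cfsg.primesNotDvd (Nat.card A)) H :=
        ((Subgroup.mem_normalizer_iff.mp (le_normalizer_piCoreOf H hxH)) y).mp hyO
      exact mul_mem h2 (inv_mem hyO)
    have hcop : (Nat.card (Cfsg.piCoreOf (Cfsg.primesNotDvd (Nat.card A)) H)).Coprime p :=
      (Nat.Coprime.coprime_dvd_left hpA (coprime_card_piCoreOf A H)).symm
    have h4 := Cfsg.Agent.Lib.Helper12.CoreControl.eq_one_of_mem_of_coprime
      (Cfsg.pCoreOf p H) (Cfsg.piCoreOf (Cfsg.primesNotDvd (Nat.card A)) H)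
      (PrimeAct.pCoreOf_isPGroup p H) hcop _ h1 h3
    have h5 : x * y = (x * y * x⁻¹ * y⁻¹) * (y * x) := by group
    rw [h5, h4, one_mul]
  have huniq := uniq_of_inv_pgroup hG hM₀ hAM₀ hAp hAne
    (le_of_forall_inv_qgroup_le hAp hkey)
  exact ⟨M₀, ⟨hM₀, hAM₀⟩, fun H hH => huniq H hH.1 hH.2⟩

end Cfsg.Agent.Lib.Helper17.BG95TypeI
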