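/-
Helper lemmas (helper17): the final step (notes/bg95/PROOF.md, 2i) of the proof of
Bender–Glauberman Lemma 9.5.  Given a type II maximal subgroup `H₁ ⊇ A` (structure `TypeII`) which
is the only type II maximal subgroup containing `A`, and the rank-two tool (TOOL N) as a
hypothesis, `A` lies in a unique maximal subgroup.
-/
import Mathlib
import Cfsg.Agent.Lib.Helper17.BG95TypeI
import Cfsg.Agent.Lib.Helper19.BG95Spec
import Cfsg.Agent.Lib.Helper1.MetaCoprime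
import Cfsg.Agent.Lib.Helper8.Hyperplane
import Cfsg.Agent.Lib.Helper2.BG95N

set_option autoImplicit false
set_option linter.unusedSectionVars false
open scoped Pointwise

namespace Cfsg.Agent.Lib.Helper17.BG95Final

open Cfsg.Agent.Lib.Helper17.BGU
open Cfsg.Agent.Lib.Helper17.BG95TypeI
open Cfsg.Agent.Lib.Helper19.BG95 (TypeII)
open Cfsg.Agent.Lib.Helper8 (mem_map_conj conj_mem_map_conj map_conj_map_conj
  map_conj_one map_conj_le_iff map_conj_eq_iff card_map_conj mem_normalizer_iff_map_conj)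

variable {G : Type*} [Group G]

/-- Frattini argument: if `H' ≤ F(H)`, `F(H) ≤ T` and `N_G(S) ≤ T` for a Sylow `p`-subgroup `S`
of `H`, then `H ≤ T`. -/
theorem le_of_commutator_le_fittingOf [Finite G] {p : ℕ} [Fact p.Prime] {H S T : Subgroup G}
    (hS : Cfsg.Agent.Lib.Helper8.IsSylIn p S H) (hcomm : ⁅H, H⁆ ≤ Cfsg.fittingOf H) (hFT : Cfsg.fittingOf H ≤ T)
    (hNT : Subgroup.normalizer (S : Set G) ≤ T) : H ≤ T := by
  have hpp : p.Prime := Fact.out
  have hSH : S ≤ H := hS.1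
  have hFH : Cfsg.fittingOf H ≤ H := PrimeAct.fittingOf_le H
  have hST : S ≤ T := Subgroup.le_normalizer.trans hNT
  obtain ⟨N', hN'⟩ : ∃ N' : Subgroup G, N' = Cfsg.fittingOf H ⊔ S := ⟨_, rfl⟩
  have hN'H : N' ≤ H := hN' ▸ sup_le hFH hSH
  have hN'T : N' ≤ T := hN' ▸ sup_le hFT hST
  have hSN'le : S ≤ N' := hN' ▸ le_sup_right
  have hSylN' : ∀ S' : Subgroup G, IsPGroup p S' → S' ≤ N' → Nat.card S' = Nat.card S →
      Cfsg.Agent.Lib.Helper8.IsSylIn p S' N' := by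
    intro S' hS'p hS'le hcard
    apply Cfsg.Agent.Lib.Helper8.isSylIn_of_card_le hS'p hS'le
    rw [hcard, hS.2]
    apply Nat.pow_le_pow_right hpp.pos
    exact (Nat.factorization_le_iff_dvd Nat.card_pos.ne' Nat.card_pos.ne').mpr
      (Subgroup.card_dvd_of_le hN'H) p
  have hS1 : Cfsg.Agent.Lib.Helper8.IsSylIn p S N' := hSylN' S hS.isPGroup hSN'le rfl
  intro h hh
  have hconj : S.map (MulAut.conj h).toMonoidHom ≤ N' := by
    rintro _ ⟨x, hx, rfl⟩
    show h * x * h⁻¹ ∈ N'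
    have h1 : h * x * h⁻¹ * x⁻¹ ∈ ⁅H, H⁆ := Subgroup.commutator_mem_commutator hh (hSH hx)
    have h2 : h * x * h⁻¹ = (h * x * h⁻¹ * x⁻¹) * x := by group
    rw [h2, hN']
    exact mul_mem (Subgroup.mem_sup_left (hcomm h1)) (Subgroup.mem_sup_right hx)
  have hS2 : Cfsg.Agent.Lib.Helper8.IsSylIn p (S.map (MulAut.conj h).toMonoidHom) N' :=
    hSylN' _ (hS.isPGroup.map _) hconj (card_map_conj S h)
  have hbotN : ∀ Y : Subgroup G, (⊥ : Subgroup G) ≤ Subgroup.normalizer (Y : Set G) :=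
    fun Y => bot_le
  have hcop : (Nat.card (⊥ : Subgroup G)).Coprime (Nat.card N') := by
    rw [Subgroup.card_bot]; exact Nat.coprime_one_left _
  have hsolb : Group.IsSolvable ↥(⊥ : Subgroup G) := inferInstance
  obtain ⟨c, hc, hcS⟩ := Cfsg.Agent.Lib.Helper8.exists_conj_of_invariant_isSylIn
    (hbotN N') hcop (Or.inl hsolb) p hS1 hS2 (hbotN _) (hbotN _)
  have hcN : c⁻¹ * h ∈ Subgroup.normalizer (S : Set G) := by
    rw [mem_normalizer_iff_map_conj, ← map_conj_map_conj, ← hcS, map_conj_map_conj,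
      inv_mul_cancel, map_conj_one]
  have e : h = c * (c⁻¹ * h) := by group
  rw [e]
  exact T.mul_mem (hN'T hc.1) (hNT hcN)

/-- **Final step (2i)** of B & G Lemma 9.5.  `hkill` says that `H₁` is the only maximal subgroup of
type II containing `A`; `hN` is the rank-two tool (a `r'`-subgroup of `L'` centralizes a narrow
`r`-group normalized by the solvable group `L` of odd order). -/
theorem uniq_of_typeII {G : Type*} [Group G] [Finite G] (hG : Cfsg.IsMinSimpleOddOrder G)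
    (p : ℕ) [Fact p.Prime] (P : Sylow p G) (A : Subgroup G)
    (hA : Cfsg.IsSCN (P : Subgroup G) A) (hA3 : ¬ Cfsg.PRankLE p 2 ↥A)
    {H₁ : Subgroup G} {s : ℕ} {W : Subgroup G} (h₁ : TypeII p A H₁ s W)
    (hkill : ∀ H : Subgroup G, IsCoatom H → A ≤ H → ¬ Cfsg.RankLE 2 ↥(Cfsg.fittingOf H) → H = H₁)
    (hN : ∀ (r : ℕ) [Fact r.Prime], r ≠ 2 → ∀ R L Y : Subgroup G, IsPGroup r R →
      Cfsg.PRankLE r 2 ↥R → L ≤ Subgroup.normalizer (R : Set G) → Group.IsSolvable ↥L →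
      Odd (Nat.card ↥L) → Y ≤ ⁅L, L⁆ → (Nat.card ↥Y).Coprime r →
      Y ≤ Subgroup.centralizer (R : Set G)) :
    Cfsg.InUniqueMaximal A := by
  classical
  have hsimple : IsSimpleGroup G := hG.2.1
  have hnc := hG.2.2.1
  have hsolv := hG.2.2.2
  have hpp : p.Prime := Fact.out
  have hoddH : ∀ H : Subgroup G, Odd (Nat.card H) :=
    fun H => Odd.of_dvd_nat hG.1 (Subgroup.card_subgroup_dvd_card H)
  have hne2 : ∀ r : ℕ, r.Prime → ∀ X : Subgroup G, X ≠ ⊥ → IsPGroup r X → r ≠ 2 := by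
    rintro r hr X hX hXr rfl
    have : Fact (Nat.Prime 2) := ⟨hr⟩
    obtain ⟨k, hk⟩ := IsPGroup.iff_card.mp hXr
    rcases Nat.eq_zero_or_pos k with h | h
    · apply hX
      rw [← Subgroup.card_eq_one, hk, h, pow_zero]
    · have h2 : 2 ∣ Nat.card X := by rw [hk]; exact dvd_pow_self 2 h.ne'
      exact (Nat.not_even_iff_odd.mpr (hoddH X)) (even_iff_two_dvd.mpr h2)
  obtain ⟨hAp, hAne, hpA, hAtr, hZ⟩ := scn_three_facts hG P hA hA3
  obtain ⟨kA, hkA⟩ := IsPGroup.iff_card.mp hAp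
  have hAc : ∀ a ∈ A, ∀ b ∈ A, a * b = b * a := scn_comm hA
  have hAcent : A ≤ Subgroup.centralizer (A : Set G) := by
    intro a ha
    rw [Subgroup.mem_centralizer_iff]
    intro b hb
    exact hAc b hb a ha
  have hs : s.Prime := h₁.s_prime
  have : Fact s.Prime := ⟨hs⟩
  have hsp : s ≠ p := h₁.s_ne
  have hH₁ : IsCoatom H₁ := h₁.coatom
  have hAH₁ : A ≤ H₁ := h₁.A_le
  have hWs : IsPGroup s W := h₁.W_pgroup
  have hcopAs : (Nat.card A).Coprime s := by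
    rw [hkA]; exact Nat.Coprime.pow_left kA ((Nat.coprime_primes hpp hs).mpr hsp.symm)
  have hcopA : ∀ Z : Subgroup G, IsPGroup s Z → (Nat.card A).Coprime (Nat.card Z) := by
    intro Z hZ
    obtain ⟨k, hk⟩ := IsPGroup.iff_card.mp hZ
    rw [hk]; exact Nat.Coprime.pow_right k hcopAs
  have hA1 : ¬ Cfsg.RankLE 1 ↥A := by
    intro h
    apply hA3
    intro E hEc hEe
    exact (h p hpp E hEc hEe).trans (Nat.pow_le_pow_right hpp.pos (by norm_num))
  -- the case `[W, A] = 1`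
  by_cases hWA : W ≤ Subgroup.centralizer (A : Set G)
  · have hWU : Cfsg.InUniqueMaximal W :=
      inUniqueMaximal_of hH₁ h₁.W_le (fun M hM hWM => h₁.uniq_nc W le_rfl h₁.W_nc M hM hWM)
    apply uniq_of_le_centralizer hG hWU _ hA1
    intro a ha
    rw [Subgroup.mem_centralizer_iff]
    intro w hw
    exact ((Subgroup.mem_centralizer_iff.mp (hWA hw)) a ha).symm
  -- a minimal `A`-invariant subgroup of `W` not centralized by `A`
  let 𝒮 : Set (Subgroup G) := {Z | Z ≤ W ∧ A ≤ Subgroup.normalizer (Z : Set G) ∧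
    ¬ Z ≤ Subgroup.centralizer (A : Set G)}
  obtain ⟨Y₁, hY₁S, hY₁min⟩ := Set.exists_min_image 𝒮 (fun Z => Nat.card Z) (Set.toFinite 𝒮)
    ⟨W, le_rfl, h₁.W_inv, hWA⟩
  obtain ⟨hY₁W, hAY₁, hY₁C⟩ := hY₁S
  have hY₁s : IsPGroup s Y₁ := hWs.to_le hY₁W
  have heq_of : ∀ Z : Subgroup G, Z ∈ 𝒮 → Z ≤ Y₁ → Z = Y₁ := fun Z hZ hZY =>
    Subgroup.eq_of_le_of_card_ge hZY (hY₁min Z hZ)
  -- `Y₁ = [Y₁, A]`
  have hcomm : ⁅Y₁, A⁆ = Y₁ := by
    have hle : ⁅Y₁, A⁆ ≤ Y₁ := Cfsg.Agent.Lib.Helper1.commutator_le_of_le_normalizer hAY₁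
    apply heq_of _ _ hle
    refine ⟨hle.trans hY₁W, Cfsg.Agent.Lib.Helper1.le_normalizer_commutator_right Y₁ A, ?_⟩
    intro hcen
    have h1 : ⁅⁅Y₁, A⁆, A⁆ = ⊥ := Subgroup.commutator_eq_bot_iff_le_centralizer.mpr hcen
    rw [Cfsg.Agent.Lib.Helper1.MetaCoprime.commutator_commutator_eq Y₁ A hY₁s hAY₁ hcopAs] at h1
    exact hY₁C (Subgroup.commutator_eq_bot_iff_le_centralizer.mp h1)
  -- a hyperplane `B₁` of `E` centralizing `Y₁`
  obtain ⟨E, hEA, hEc, hEe, hEcard⟩ := exists_elemAb_of_not_pRankLE hA3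
  have hEel : Cfsg.IsElementaryAbelian p E := ⟨isMulCommutative_of_comm hEc, hEe⟩
  have hcopE : (Nat.card E).Coprime (Nat.card Y₁) :=
    Nat.Coprime.coprime_dvd_left (Subgroup.card_dvd_of_le hEA) (hcopA Y₁ hY₁s)
  obtain ⟨B₁, hB₁E, hB₁card, hB₁n⟩ :=
    Cfsg.Agent.Lib.Helper8.exists_hyperplane_centralizer_not_le p E Y₁
      (Subgroup.centralizer (A : Set G)) hEel (hEA.trans hAY₁) hcopE hY₁C
  have hB₁A : B₁ ≤ A := hB₁E.trans hEA
  have hY₁B₁ : Y₁ ≤ Subgroup.centralizer (B₁ : Set G) := by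
    have h1 : Y₁ ⊓ Subgroup.centralizer (B₁ : Set G) = Y₁ := by
      apply heq_of _ _ inf_le_left
      refine ⟨inf_le_left.trans hY₁W, ?_, hB₁n⟩
      apply Cfsg.Agent.Lib.Helper8.le_normalizer_inf hAY₁
      refine le_trans ?_ Subgroup.le_normalizer
      intro a ha
      rw [Subgroup.mem_centralizer_iff]
      intro b hb
      exact hAc b (hB₁A hb) a ha
    exact h1 ▸ inf_le_right
  have hB₁el : Cfsg.IsElementaryAbelian p B₁ :=
    ⟨isMulCommutative_of_comm (fun a ha b hb => hEc a (hB₁E ha) b (hB₁E hb)),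
      fun a ha => hEe a (hB₁E ha)⟩
  have hB₁2 : p ^ 2 ≤ Nat.card B₁ := by
    have h3 : p ^ 3 ≤ Nat.card E := pow_three_le_card_of_lt (isPGroup_of_exp hEe) hEcard
    have h1 : p * p ^ 2 ≤ p * Nat.card B₁ := by
      calc p * p ^ 2 = p ^ 3 := by ring
        _ ≤ Nat.card E := h3
        _ ≤ p * Nat.card B₁ := hB₁card
    exact Nat.le_of_mul_le_mul_left h1 hpp.pos
  have hB₁nc : ¬ IsCyclic B₁ :=
    Cfsg.Agent.Lib.Helper8.not_isCyclic_of_elemAb hpp hB₁el hB₁2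
  -- a nonidentity element of `Y₁`
  have hY₁ne : Y₁ ≠ ⊥ := by
    intro h
    apply hY₁C
    rw [h]; exact bot_le
  obtain ⟨y, hy1⟩ := (Subgroup.ne_bot_iff_exists_ne_one.mp hY₁ne)
  have hyY' : (y : G) ∈ Y₁ := y.2
  have hy1' : (y : G) ≠ 1 := fun h => hy1 (Subtype.ext h)
  have hCy : Subgroup.centralizer ({(y : G)} : Set G) ≤ H₁ :=
    h₁.cent_le (y : G) (hY₁W hyY') hy1'
  have hCY₁ : Subgroup.centralizer (Y₁ : Set G) ≤ H₁ := by
    refine le_trans ?_ hCy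
    apply Subgroup.centralizer_le
    intro x hx
    rw [Set.mem_singleton_iff] at hx
    rw [hx]; exact hyY'
  -- the main claim
  have hclaim : ∀ b ∈ B₁, b ≠ 1 → Subgroup.centralizer ({b} : Set G) ≤ H₁ := by
    intro b hb hb1
    have hCtop : Subgroup.centralizer ({b} : Set G) ≠ ⊤ := centralizer_singleton_ne_top hb1 hnc
    obtain ⟨Hb, hHb, hCHb⟩ := exists_coatom_ge hCtop
    have hAHb : A ≤ Hb := by
      refine le_trans ?_ hCHb
      intro a ha
      rw [Subgroup.mem_centralizer_iff]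
      intro x hx
      rw [Set.mem_singleton_iff] at hx
      rw [hx]
      exact hAc b (hB₁A hb) a ha
    have hY₁Hb : Y₁ ≤ Hb := by
      refine le_trans ?_ hCHb
      intro z hz
      rw [Subgroup.mem_centralizer_iff]
      intro x hx
      rw [Set.mem_singleton_iff] at hx
      rw [hx]
      exact (Subgroup.mem_centralizer_iff.mp (hY₁B₁ hz)) b hb
    suffices hle : Hb ≤ H₁ by exact hCHb.trans hle
    by_cases hty : Cfsg.RankLE 2 ↥(Cfsg.fittingOf Hb)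
    swap
    · exact (hkill Hb hHb hAHb hty).le
    have hHbtop : Hb ≠ ⊤ := hHb.1
    have hHbsol : Group.IsSolvable ↥Hb := hsolv Hb hHbtop
    obtain ⟨S, hS, hAS⟩ := Cfsg.Agent.Lib.Helper17.BGU.exists_isSylIn_ge hAHb hAp
    have hNS : Subgroup.normalizer (S : Set G) ≤ H₁ := h₁.norm_le S hS.isPGroup hAS
    have hSH₁ : S ≤ H₁ := Subgroup.le_normalizer.trans hNS
    apply le_of_commutator_le_fittingOf hS
      (commutator_le_fittingOf_of_rank_two hHbsol (hoddH Hb) hty) _ hNS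
    rw [PrimeAct.fittingOf_eq_iSup]
    apply iSup_le
    rintro ⟨r, hr⟩
    have : Fact r.Prime := ⟨hr⟩
    show Cfsg.pCoreOf r Hb ≤ H₁
    have hRr : IsPGroup r (Cfsg.pCoreOf r Hb) := PrimeAct.pCoreOf_isPGroup r Hb
    have hRn : Hb ≤ Subgroup.normalizer ((Cfsg.pCoreOf r Hb : Subgroup G) : Set G) :=
      le_normalizer_pCoreOf r Hb
    by_cases hrp : r = p
    · subst hrp
      have h1 : Cfsg.pCoreOf r Hb ≤ S := by
        have h2 := PrimeAct.pCoreOf_le_sylow Hb (hS.toSylow)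
        rwa [hS.toSylow_map] at h2
      exact h1.trans hSH₁
    by_cases hrs : r = s
    · subst hrs
      exact h₁.inv_le _ hRr (hAHb.trans hRn)
    by_cases hRb : Cfsg.pCoreOf r Hb = ⊥
    · rw [hRb]; exact bot_le
    -- narrow case
    have hRrk : Cfsg.PRankLE r 2 ↥(Cfsg.pCoreOf r Hb) :=
      pRankLE_of_le (PrimeAct.pCoreOf_le_fittingOf Hb r) (hty r hr)
    have hLle : Y₁ ⊔ A ≤ Hb := sup_le hY₁Hb hAHb
    have hLtop : Y₁ ⊔ A ≠ ⊤ := fun h => hHbtop (top_le_iff.mp (h ▸ hLle))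
    have hY₁L : Y₁ ≤ ⁅Y₁ ⊔ A, Y₁ ⊔ A⁆ := by
      calc Y₁ = ⁅Y₁, A⁆ := hcomm.symm
        _ ≤ ⁅Y₁ ⊔ A, Y₁ ⊔ A⁆ := Subgroup.commutator_mono le_sup_left le_sup_right
    have hcopY : (Nat.card ↥Y₁).Coprime r := by
      obtain ⟨k, hk⟩ := IsPGroup.iff_card.mp hY₁s
      rw [hk]
      exact Nat.Coprime.pow_left k ((Nat.coprime_primes hs hr).mpr (Ne.symm hrs))
    have hcen := hN r (hne2 r hr _ hRb hRr) (Cfsg.pCoreOf r Hb) (Y₁ ⊔ A) Y₁ hRr hRrk
      (hLle.trans hRn) (hsolv _ hLtop) (hoddH _) hY₁L hcopY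
    refine le_trans ?_ hCY₁
    intro x hx
    rw [Subgroup.mem_centralizer_iff]
    intro z hz
    exact ((Subgroup.mem_centralizer_iff.mp (hcen hz)) x hx).symm
  have huniq := uniq_of_cent_or_inv hG hH₁ (hB₁A.trans hAH₁) hB₁el hB₁nc (Or.inl hclaim)
  exact inUniqueMaximal_of hH₁ hAH₁ (fun H hH hAH => huniq H hH (hB₁A.trans hAH))

/-- **Final step (2i)** of B & G Lemma 9.5, with TOOL N supplied by `Helper2.BG95N`. -/
theorem uniq_of_typeII' {G : Type*} [Group G] [Finite G] (hG : Cfsg.IsMinSimpleOddOrder G)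
    (p : ℕ) [Fact p.Prime] (P : Sylow p G) (A : Subgroup G)
    (hA : Cfsg.IsSCN (P : Subgroup G) A) (hA3 : ¬ Cfsg.PRankLE p 2 ↥A)
    {H₁ : Subgroup G} {s : ℕ} {W : Subgroup G} (h₁ : TypeII p A H₁ s W)
    (hkill : ∀ H : Subgroup G, IsCoatom H → A ≤ H → ¬ Cfsg.RankLE 2 ↥(Cfsg.fittingOf H) → H = H₁) :
    Cfsg.InUniqueMaximal A :=
  uniq_of_typeII hG p P A hA hA3 h₁ hkill
    (fun r _ hr R L Y hR hrk hL hLs hLodd hY hYr =>
      Cfsg.Agent.Lib.Helper2.BG95.le_centralizer_of_le_commutator_narrow r hr R L Y hR hrk hL hLs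
        hLodd hY hYr)

end Cfsg.Agent.Lib.Helper17.BG95Final
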