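import Mathlib
import Cfsg.Agent.Lib.Helper27.ZJ3

/-!
# Naturality of the generic `W_𝔛(T)` under a homomorphism injective on `T`
-/

set_option autoImplicit false

namespace Cfsg.Agent.Lib.Helper17

open Cfsg.Agent.Lib.Helper27

section transport

variable {X Y : Type*} [Group X] [Group Y]

theorem eq_of_map_eq_of_injOn (f : X →* Y) (T : Subgroup X) (hinj : ∀ x ∈ T, f x = 1 → x = 1)
    {a b : X} (ha : a ∈ T) (hb : b ∈ T) (h : f a = f b) : a = b := by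
  have h1 : a * b⁻¹ = 1 := by
    apply hinj _ (T.mul_mem ha (T.inv_mem hb))
    rw [map_mul, map_inv, h, mul_inv_cancel]
  exact mul_inv_eq_one.mp h1

theorem card_map_of_injOn (f : X →* Y) (T : Subgroup X) (hinj : ∀ x ∈ T, f x = 1 → x = 1)
    (A : Subgroup X) (hA : A ≤ T) : Nat.card (A.map f) = Nat.card A := by
  have hinj' : Function.Injective (f.comp A.subtype) := by
    intro a b hab
    apply Subtype.ext
    exact eq_of_map_eq_of_injOn f T hinj (hA a.2) (hA b.2) hab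
  have h1 : A.map f = (f.comp A.subtype).range := by
    rw [MonoidHom.range_eq_map, ← Subgroup.map_map, ← MonoidHom.range_eq_map, Subgroup.range_subtype]
  rw [h1]
  exact Nat.card_congr (MonoidHom.ofInjective hinj').toEquiv.symm

theorem map_comap_inf_of_le (f : X →* Y) (T : Subgroup X) (B' : Subgroup Y) (hB' : B' ≤ T.map f) :
    (B'.comap f ⊓ T).map f = B' := by
  ext y
  constructor
  · rintro ⟨x, ⟨hx, -⟩, rfl⟩
    exact hx
  · intro hy
    obtain ⟨t, ht, rfl⟩ := hB' hy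
    exact ⟨t, ⟨hy, ht⟩, rfl⟩

theorem maxIn_map_of_injOn (𝔛 : Subgroup X → Prop) (𝔜 : Subgroup Y → Prop) (f : X →* Y)
    (T : Subgroup X) (hinj : ∀ x ∈ T, f x = 1 → x = 1)
    (h𝔛 : ∀ A : Subgroup X, A ≤ T → (𝔜 (A.map f) ↔ 𝔛 A)) :
    maxIn 𝔜 (T.map f) = (fun A : Subgroup X => A.map f) '' (maxIn 𝔛 T) := by
  ext A'
  constructor
  · rintro ⟨hA'T, hA'Y, hmax⟩
    refine ⟨A'.comap f ⊓ T, ⟨inf_le_right, ?_, ?_⟩, map_comap_inf_of_le f T A' hA'T⟩
    · rw [← h𝔛 _ inf_le_right, map_comap_inf_of_le f T A' hA'T]; exact hA'Y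
    · intro B hBT hB
      have h1 := hmax (B.map f) (Subgroup.map_mono hBT) ((h𝔛 B hBT).mpr hB)
      rw [card_map_of_injOn f T hinj B hBT] at h1
      have h2 := card_map_of_injOn f T hinj (A'.comap f ⊓ T) inf_le_right
      rw [map_comap_inf_of_le f T A' hA'T] at h2
      omega
  · rintro ⟨A, ⟨hAT, hAX, hmax⟩, rfl⟩
    refine ⟨Subgroup.map_mono hAT, (h𝔛 A hAT).mpr hAX, ?_⟩
    intro B' hB'T hB'
    have h1 : 𝔛 (B'.comap f ⊓ T) := by
      rw [← h𝔛 _ inf_le_right, map_comap_inf_of_le f T B' hB'T]; exact hB'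
    have h2 := hmax _ inf_le_right h1
    have h3 := card_map_of_injOn f T hinj (B'.comap f ⊓ T) inf_le_right
    rw [map_comap_inf_of_le f T B' hB'T] at h3
    rw [card_map_of_injOn f T hinj A hAT]
    omega

theorem jSub_map_of_injOn (𝔛 : Subgroup X → Prop) (𝔜 : Subgroup Y → Prop) (f : X →* Y)
    (T : Subgroup X) (hinj : ∀ x ∈ T, f x = 1 → x = 1)
    (h𝔛 : ∀ A : Subgroup X, A ≤ T → (𝔜 (A.map f) ↔ 𝔛 A)) :
    jSub 𝔜 (T.map f) = (jSub 𝔛 T).map f := by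
  unfold jSub
  rw [maxIn_map_of_injOn 𝔛 𝔜 f T hinj h𝔛, (Subgroup.gc_map_comap f).l_sSup, sSup_image]

theorem wSub_map_of_injOn (𝔛 : Subgroup X → Prop) (𝔜 : Subgroup Y → Prop) (f : X →* Y)
    (T : Subgroup X) (hinj : ∀ x ∈ T, f x = 1 → x = 1)
    (h𝔛 : ∀ A : Subgroup X, A ≤ T → (𝔜 (A.map f) ↔ 𝔛 A)) :
    wSub 𝔜 (T.map f) = (wSub 𝔛 T).map f := by
  unfold wSub
  rw [jSub_map_of_injOn 𝔛 𝔜 f T hinj h𝔛, MonoidHom.map_closure]
  congr 1
  ext y
  constructor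
  · rintro ⟨⟨x, hxJ, rfl⟩, hyC, hyX⟩
    have hxT : x ∈ T := jSub_le T hxJ
    refine ⟨x, ⟨hxJ, ?_, ?_⟩, rfl⟩
    · rw [Subgroup.mem_centralizer_iff]
      intro j hj
      have hjT : j ∈ T := jSub_le T hj
      apply eq_of_map_eq_of_injOn f T hinj (T.mul_mem hjT hxT) (T.mul_mem hxT hjT)
      rw [map_mul, map_mul]
      exact (Subgroup.mem_centralizer_iff.mp hyC) _ (Subgroup.mem_map_of_mem f hj)
    · rw [← h𝔛 _ (Subgroup.zpowers_le.mpr hxT), MonoidHom.map_zpowers]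
      exact hyX
  · rintro ⟨x, ⟨hxJ, hxC, hxX⟩, rfl⟩
    have hxT : x ∈ T := jSub_le T hxJ
    refine ⟨Subgroup.mem_map_of_mem f hxJ, ?_, ?_⟩
    · rw [Subgroup.mem_centralizer_iff]
      rintro _ ⟨j, hj, rfl⟩
      rw [← map_mul, ← map_mul, (Subgroup.mem_centralizer_iff.mp hxC) j hj]
    · have := (h𝔛 _ (Subgroup.zpowers_le.mpr hxT)).mpr hxX
      rwa [MonoidHom.map_zpowers] at this

theorem abSub_map_iff_of_injOn (f : X →* Y) (T : Subgroup X) (hinj : ∀ x ∈ T, f x = 1 → x = 1)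
    (A : Subgroup X) (hA : A ≤ T) : AbSub (A.map f) ↔ AbSub A := by
  constructor
  · intro h a ha b hb
    apply eq_of_map_eq_of_injOn f T hinj (T.mul_mem (hA ha) (hA hb)) (T.mul_mem (hA hb) (hA ha))
    rw [map_mul, map_mul]
    exact h _ (Subgroup.mem_map_of_mem f ha) _ (Subgroup.mem_map_of_mem f hb)
  · rintro h _ ⟨a, ha, rfl⟩ _ ⟨b, hb, rfl⟩
    rw [← map_mul, ← map_mul, h a ha b hb]

theorem ea_map_iff_of_injOn (p : ℕ) (f : X →* Y) (T : Subgroup X)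
    (hinj : ∀ x ∈ T, f x = 1 → x = 1) (A : Subgroup X) (hA : A ≤ T) :
    Cfsg.IsElementaryAbelian p (A.map f) ↔ Cfsg.IsElementaryAbelian p A := by
  constructor
  · rintro ⟨h1, h2⟩
    refine ⟨(abSub_iff A).mp ((abSub_map_iff_of_injOn f T hinj A hA).mp ((abSub_iff _).mpr h1)), ?_⟩
    intro a ha
    apply hinj _ (T.pow_mem (hA ha) p)
    rw [map_pow]
    exact h2 _ (Subgroup.mem_map_of_mem f ha)
  · rintro ⟨h1, h2⟩
    refine ⟨(abSub_iff _).mp ((abSub_map_iff_of_injOn f T hinj A hA).mpr ((abSub_iff A).mpr h1)), ?_⟩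
    rintro _ ⟨a, ha, rfl⟩
    rw [← map_pow, h2 a ha, map_one]

end transport

end Cfsg.Agent.Lib.Helper17
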