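import Cfsg.Agent.Lib.Helper17.FrobCount1
import Cfsg.Agent.Lib.Helper1.Coprime
import Cfsg.Agent.Lib.Helper8.ThNilpD

/-!
# Counting fixed points of a Frobenius group acting on a solvable group of coprime order
-/

set_option autoImplicit false

namespace Cfsg.Agent.Lib.Helper17
namespace FrobCount

open Subgroup

section Count

variable {X : Type*} [Group X] [Finite X]

/-- counting centralizers through a section. -/
theorem count_lemma (H Γ : Subgroup X) (M₀ : Subgroup ↥H) [M₀.Normal]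
    (act : ↥Γ →* MulAut (↥H ⧸ M₀))
    (hact : ∀ (γ : ↥Γ) (h : ↥H) (hh : (γ : X) * h * (γ : X)⁻¹ ∈ H),
      act γ (QuotientGroup.mk h) = QuotientGroup.mk ⟨_, hh⟩)
    (hΓH : ∀ γ ∈ Γ, ∀ h ∈ H, γ * h * γ⁻¹ ∈ H)
    (hM₀Γ : ∀ γ ∈ Γ, ∀ m ∈ M₀.map H.subtype, γ * m * γ⁻¹ ∈ M₀.map H.subtype)
    (hcop : Nat.Coprime (Nat.card H) (Nat.card Γ)) (hsolv : Group.IsSolvable ↥H)
    (B : Subgroup X) (hB : B ≤ Γ) :
    Nat.card ↥(H ⊓ centralizer (B : Set X))
      = Nat.card ↥(M₀.map H.subtype ⊓ centralizer (B : Set X))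
        * Nat.card {q : ↥H ⧸ M₀ // ∀ g ∈ B.subgroupOf Γ, act g q = q} := by
  classical
  set M : Subgroup X := M₀.map H.subtype with hM
  have hMH : M ≤ H := by
    rintro _ ⟨m, _, rfl⟩
    exact m.2
  have hmemM : ∀ (h : ↥H), (h : X) ∈ M ↔ h ∈ M₀ := by
    intro h
    constructor
    · rintro ⟨m, hm, hmh⟩
      have : m = h := Subtype.ext hmh
      rwa [← this]
    · intro hh
      exact ⟨h, hh, rfl⟩
  let ψ : ↥(H ⊓ centralizer (B : Set X)) →* ↥H ⧸ M₀ :=
    (QuotientGroup.mk' M₀).comp (Subgroup.inclusion inf_le_left)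
  have hψ : ∀ x, ψ x = QuotientGroup.mk ⟨x.1, x.2.1⟩ := fun _ => rfl
  -- kernel
  have hker : Nat.card ↥ψ.ker = Nat.card ↥(M ⊓ centralizer (B : Set X)) := by
    refine Nat.card_congr
      { toFun := fun x => ⟨x.1.1, ?_, x.1.2.2⟩
        invFun := fun y => ⟨⟨y.1, hMH y.2.1, y.2.2⟩, ?_⟩
        left_inv := fun x => rfl
        right_inv := fun y => rfl }
    · have h1 : ψ x.1 = 1 := x.2
      rw [hψ, QuotientGroup.eq_one_iff] at h1
      exact (hmemM _).mpr h1
    · show ψ _ = 1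
      rw [hψ, QuotientGroup.eq_one_iff]
      exact (hmemM ⟨y.1, hMH y.2.1⟩).mp y.2.1
  -- range
  have hBM : B ≤ normalizer (M : Set X) := by
    intro b hb
    exact Cfsg.Agent.Lib.Helper1.mem_normalizer_of_forall_conj_mem M b
      (fun m hm => hM₀Γ b (hB hb) m hm)
  have hcopBM : Nat.Coprime (Nat.card B) (Nat.card M) := by
    have h1 : Nat.card B ∣ Nat.card Γ := Subgroup.card_dvd_of_le hB
    have h2 : Nat.card M ∣ Nat.card H := Subgroup.card_dvd_of_le hMH
    exact (hcop.coprime_dvd_left h2).symm.coprime_dvd_left h1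
  have hsolvM : Group.IsSolvable ↥M :=
    Group.isSolvable_of_isSolvable_injective (Subgroup.inclusion_injective hMH)
  have hrange : Nat.card ↥ψ.range
      = Nat.card {q : ↥H ⧸ M₀ // ∀ g ∈ B.subgroupOf Γ, act g q = q} := by
    refine Nat.card_congr (Equiv.subtypeEquivRight fun q => ?_)
    constructor
    · rintro ⟨x, rfl⟩ g hg
      have hg' : (g : X) ∈ B := hg
      have hc : (g : X) * x.1 * (g : X)⁻¹ = x.1 := by
        have h0 : x.1 ∈ centralizer (B : Set X) := x.2.2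
        have := mem_centralizer_iff.mp h0
        rw [this _ hg']
        group
      rw [hψ, hact g ⟨x.1, x.2.1⟩ (by rw [hc]; exact x.2.1)]
      congr 1
      exact Subtype.ext hc
    · intro hq
      obtain ⟨h, rfl⟩ := QuotientGroup.mk_surjective q
      have hx : ∀ a ∈ B, (h : X)⁻¹ * a * h * a⁻¹ ∈ M := by
        intro a ha
        have hh : a * (h : X) * a⁻¹ ∈ H := hΓH a (hB ha) h h.2
        have h1 := hq ⟨a, hB ha⟩ ha
        rw [hact ⟨a, hB ha⟩ h hh] at h1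
        have h2 := QuotientGroup.eq.mp h1.symm
        have h3 := (hmemM _).mpr h2
        have : ((h⁻¹ * ⟨a * (h : X) * a⁻¹, hh⟩ : ↥H) : X) = (h : X)⁻¹ * a * h * a⁻¹ := by
          simp [mul_assoc]
        rwa [this] at h3
      obtain ⟨n, hn, hc⟩ := Cfsg.Agent.Lib.Helper1.exists_mul_mem_centralizer hBM hcopBM
        (Or.inr hsolvM) (h : X) hx
      refine ⟨⟨(h : X) * n, H.mul_mem h.2 (hMH hn), hc⟩, ?_⟩
      rw [hψ]
      apply QuotientGroup.eq.mpr
      have : ((⟨(h : X) * n, H.mul_mem h.2 (hMH hn)⟩ : ↥H)⁻¹ * h) = (⟨n, hMH hn⟩ : ↥H)⁻¹ := by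
        apply Subtype.ext
        simp
      rw [this]
      exact M₀.inv_mem ((hmemM ⟨n, hMH hn⟩).mp hn)
  rw [← hker, ← hrange, ← Subgroup.index_ker, mul_comm]
  exact (Subgroup.index_mul_card _).symm

end Count

section Main

variable {X : Type*} [Group X] [Finite X]

/-- the kernel of a Frobenius-type action is nilpotent (Thompson). -/
theorem kernel_nilpotent (U E : Subgroup X) (hE1 : E ≠ ⊥)
    (hUn : ∀ e ∈ E, ∀ u ∈ U, e * u * e⁻¹ ∈ U)
    (hfpf : ∀ e ∈ E, e ≠ 1 → ∀ u ∈ U, e * u = u * e → u = 1) : Group.IsNilpotent ↥U := by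
  classical
  have hcard : Nat.card E ≠ 1 := by rwa [Ne, Subgroup.card_eq_one]
  set r := (Nat.card E).minFac with hr0
  have hr : r.Prime := Nat.minFac_prime hcard
  have : Fact r.Prime := ⟨hr⟩
  obtain ⟨e, he⟩ := exists_prime_orderOf_dvd_card' (G := ↥E) r (Nat.minFac_dvd _)
  have he1 : (e : X) ≠ 1 := by
    intro h
    have : e = 1 := Subtype.ext h
    rw [this, orderOf_one] at he
    exact hr.one_lt.ne he
  have her : (e : X) ^ r = 1 := by
    have : e ^ r = 1 := by rw [← he]; exact pow_orderOf_eq_one e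
    have := congrArg Subtype.val this
    simpa using this
  let φ : ↥U →* ↥U :=
    { toFun := fun u => ⟨(e : X) * u * (e : X)⁻¹, hUn e e.2 u u.2⟩
      map_one' := by apply Subtype.ext; simp
      map_mul' := fun a b => by apply Subtype.ext; simp [mul_assoc] }
  have hφ : ∀ u : ↥U, ((φ u : ↥U) : X) = (e : X) * u * (e : X)⁻¹ := fun _ => rfl
  have hiter : ∀ (n : ℕ) (u : ↥U), ((φ^[n] u : ↥U) : X) = (e : X) ^ n * u * ((e : X) ^ n)⁻¹ := by
    intro n
    induction n with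
    | zero => intro u; simp
    | succ n ih =>
      intro u
      rw [Function.iterate_succ_apply', hφ, ih, pow_succ']
      group
  apply Cfsg.Agent.Lib.Helper8.ThNilp.isNilpotent_of_fpf φ hr
  · intro u
    apply Subtype.ext
    rw [hiter, her]
    simp
  · intro u hu
    apply Subtype.ext
    have h1 := congrArg Subtype.val hu
    rw [hφ] at h1
    refine hfpf e e.2 he1 u u.2 ?_
    calc (e : X) * u = ((e : X) * u * (e : X)⁻¹) * e := by group
      _ = u * e := by rw [h1]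

theorem arith (x a m P y b z c e : ℕ) (h1 : x ^ e * m = y ^ e * z) (h2 : a ^ e * P = b ^ e * c) :
    (x * a) ^ e * (P * m) = (y * b) ^ e * (z * c) := by
  calc (x * a) ^ e * (P * m) = (x ^ e * m) * (a ^ e * P) := by ring
    _ = (y ^ e * z) * (b ^ e * c) := by rw [h1, h2]
    _ = _ := by ring

theorem formula_aux (U E : Subgroup X) (hE1 : E ≠ ⊥)
    (hUn : ∀ e ∈ E, ∀ u ∈ U, e * u * e⁻¹ ∈ U)
    (hfpf : ∀ e ∈ E, e ≠ 1 → ∀ u ∈ U, e * u = u * e → u = 1) :
    ∀ (n : ℕ) (H : Subgroup X), Nat.card H = n →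
      (∀ x ∈ U ⊔ E, ∀ h ∈ H, x * h * x⁻¹ ∈ H) → Group.IsSolvable ↥H →
      Nat.Coprime (Nat.card H) (Nat.card ↥(U ⊔ E)) →
      Nat.card ↥(H ⊓ centralizer ((U ⊔ E : Subgroup X) : Set X)) ^ Nat.card E * Nat.card H
        = Nat.card ↥(H ⊓ centralizer (E : Set X)) ^ Nat.card E
          * Nat.card ↥(H ⊓ centralizer (U : Set X)) := by
  classical
  have hnilU := kernel_nilpotent U E hE1 hUn hfpf
  intro n
  induction n using Nat.strong_induction_on with
  | _ n IH =>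
  intro H hn hHn hsolv hcop
  by_cases hH1 : H = ⊥
  · subst hH1
    simp
  have : Nontrivial ↥H := (Subgroup.nontrivial_iff_ne_bot H).mpr hH1
  obtain ⟨p, hp, hpH, M₀, hM₀top, hM₀n, hM₀inv, hM₀comm, hM₀pow⟩ := exists_top_section ↥H
  have hΓH : U ⊔ E ≤ normalizer (H : Set X) := fun x hx =>
    Cfsg.Agent.Lib.Helper1.mem_normalizer_of_forall_conj_mem H x (hHn x hx)
  let conjH : ↥(U ⊔ E) →* MulAut ↥H := H.normalizerMonoidHom.comp (Subgroup.inclusion hΓH)
  have hconjH : ∀ (γ : ↥(U ⊔ E)) (h : ↥H), ((conjH γ h : ↥H) : X) = γ * h * (γ : X)⁻¹ :=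
    fun _ _ => rfl
  have hmap : ∀ φ : ↥H ≃* ↥H, Subgroup.map (φ : ↥H →* ↥H) M₀ = M₀ := by
    intro φ
    apply le_antisymm
    · rintro _ ⟨x, hx, rfl⟩
      exact hM₀inv φ x hx
    · intro x hx
      exact ⟨φ.symm x, hM₀inv φ.symm x hx, φ.apply_symm_apply x⟩
  let act : ↥(U ⊔ E) →* MulAut (↥H ⧸ M₀) :=
    { toFun := fun γ => QuotientGroup.congr M₀ M₀ (conjH γ) (hmap (conjH γ))
      map_one' := by
        ext q
        obtain ⟨h, rfl⟩ := QuotientGroup.mk_surjective q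
        rw [QuotientGroup.congr_mk, map_one]
        rfl
      map_mul' := fun a b => by
        ext q
        obtain ⟨h, rfl⟩ := QuotientGroup.mk_surjective q
        rw [MulAut.mul_apply, QuotientGroup.congr_mk, QuotientGroup.congr_mk,
          QuotientGroup.congr_mk, map_mul]
        rfl }
  have hact : ∀ (γ : ↥(U ⊔ E)) (h : ↥H) (hh : (γ : X) * h * (γ : X)⁻¹ ∈ H),
      act γ (QuotientGroup.mk h) = QuotientGroup.mk ⟨_, hh⟩ := by
    intro γ h hh
    show QuotientGroup.congr M₀ M₀ (conjH γ) (hmap (conjH γ)) (QuotientGroup.mk h) = _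
    rw [QuotientGroup.congr_mk]
    congr 1
  have hM₀Γ : ∀ γ ∈ U ⊔ E, ∀ m ∈ M₀.map H.subtype, γ * m * γ⁻¹ ∈ M₀.map H.subtype := by
    rintro γ hγ _ ⟨m, hm, rfl⟩
    exact ⟨conjH ⟨γ, hγ⟩ m, hM₀inv _ m hm, rfl⟩
  have hMH : M₀.map H.subtype ≤ H := by
    rintro _ ⟨m, _, rfl⟩
    exact m.2
  have hMcard0 : Nat.card ↥(M₀.map H.subtype) = Nat.card ↥M₀ :=
    Subgroup.card_map_of_injective H.subtype_injective
  have hHcard : Nat.card ↥H = Nat.card (↥H ⧸ M₀) * Nat.card ↥(M₀.map H.subtype) := by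
    rw [hMcard0]
    exact Subgroup.card_eq_card_quotient_mul_card_subgroup M₀
  have hMcard : Nat.card ↥(M₀.map H.subtype) < n := by
    rw [← hn, hMcard0]
    have h1 : Nat.card ↥M₀ ≤ Nat.card ↥H := Subgroup.card_le_card_group M₀
    rcases h1.lt_or_eq with h | h
    · exact h
    · exact absurd ((Subgroup.card_eq_iff_eq_top M₀).mp h) hM₀top
  have IHM := IH _ hMcard (M₀.map H.subtype) rfl hM₀Γ
    (Group.isSolvable_of_isSolvable_injective (Subgroup.inclusion_injective hMH))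
    (hcop.coprime_dvd_left (Subgroup.card_dvd_of_le hMH))
  have cΓ := count_lemma H (U ⊔ E) M₀ act hact hHn hM₀Γ hcop hsolv (U ⊔ E) le_rfl
  have cE := count_lemma H (U ⊔ E) M₀ act hact hHn hM₀Γ hcop hsolv E le_sup_right
  have cU := count_lemma H (U ⊔ E) M₀ act hact hHn hM₀Γ hcop hsolv U le_sup_left
  -- hypotheses of the abstract formula
  have hcomm : ∀ a b : ↥H ⧸ M₀, a * b = b * a := by
    intro a b
    obtain ⟨x, rfl⟩ := QuotientGroup.mk_surjective a
    obtain ⟨y, rfl⟩ := QuotientGroup.mk_surjective b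
    rw [← QuotientGroup.mk_mul, ← QuotientGroup.mk_mul]
    apply QuotientGroup.eq.mpr
    have : (x * y)⁻¹ * (y * x) = y⁻¹ * x⁻¹ * y⁻¹⁻¹ * x⁻¹⁻¹ := by group
    rw [this]
    exact hM₀comm _ _
  have hexp : ∀ a : ↥H ⧸ M₀, a ^ p = 1 := by
    intro a
    obtain ⟨x, rfl⟩ := QuotientGroup.mk_surjective a
    rw [← QuotientGroup.mk_pow, QuotientGroup.eq_one_iff]
    exact hM₀pow x
  have hUΓ : U ⊔ E ≤ normalizer (U : Set X) := by
    apply sup_le
    · exact le_normalizer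
    · intro e he
      exact Cfsg.Agent.Lib.Helper1.mem_normalizer_of_forall_conj_mem U e (hUn e he)
  have hnormal : (U.subgroupOf (U ⊔ E)).Normal :=
    (normal_subgroupOf_iff_le_normalizer le_sup_left).mpr hUΓ
  have hnil' : Group.IsNilpotent ↥(U.subgroupOf (U ⊔ E)) :=
    Group.nilpotent_of_mulEquiv (subgroupOfEquivOfLe (le_sup_left : U ≤ U ⊔ E)).symm
  have hcardU : Nat.card ↥(U.subgroupOf (U ⊔ E)) = Nat.card ↥U :=
    Nat.card_congr (subgroupOfEquivOfLe (le_sup_left : U ≤ U ⊔ E)).toEquiv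
  have hcardE : Nat.card ↥(E.subgroupOf (U ⊔ E)) = Nat.card ↥E :=
    Nat.card_congr (subgroupOfEquivOfLe (le_sup_right : E ≤ U ⊔ E)).toEquiv
  have hpF : ¬ p ∣ Nat.card ↥(U.subgroupOf (U ⊔ E)) := by
    rw [hcardU]
    intro hpU
    have h1 : p ∣ Nat.card ↥(U ⊔ E) := hpU.trans (Subgroup.card_dvd_of_le le_sup_left)
    have h2 := Nat.dvd_gcd hpH h1
    rw [hcop.gcd_eq_one] at h2
    exact hp.one_lt.ne' (Nat.dvd_one.mp h2)
  have hfpf' : ∀ h ∈ E.subgroupOf (U ⊔ E), h ≠ 1 → ∀ f ∈ U.subgroupOf (U ⊔ E),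
      h * f * h⁻¹ = f → f = 1 := by
    intro h hh h1 f hf hc
    apply Subtype.ext
    refine hfpf (h : X) hh (fun h0 => h1 (Subtype.ext h0)) (f : X) hf ?_
    have h2 := congrArg Subtype.val hc
    simp only [Subgroup.coe_mul, Subgroup.coe_inv] at h2
    calc (h : X) * f = ((h : X) * f * (h : X)⁻¹) * h := by group
      _ = f * h := by rw [h2]
  have hF := abstract_formula (A := ↥H ⧸ M₀) hcomm hp hexp act (U.subgroupOf (U ⊔ E))
    (E.subgroupOf (U ⊔ E)) hnil' hpF hfpf'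
  rw [← subgroupOf_sup le_sup_left le_sup_right, hcardE] at hF
  rw [cΓ, cE, cU, hHcard]
  exact arith _ _ _ _ _ _ _ _ _ IHM hF

end Main

end FrobCount
end Cfsg.Agent.Lib.Helper17
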