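import Mathlib
import Cfsg.Prelude.Def_OddOrderLocal
import Cfsg.Agent.S1453
import Cfsg.Agent.Lib.Helper8.Hyperplane

/-!
helper17: narrow `p`-groups of rank at least three (B&G §5): from the data `C_R(R₀) = R₀ × R₁`
(`|R₀| = p`, `R₁` cyclic) we extract a characteristic subgroup `T` with `C_R(T) ≤ T` and an element
`x` such that the elements of order dividing `p` of `C_T(x)` lie in a subgroup of order at most `p`.
-/

set_option autoImplicit false

namespace Cfsg.Agent.Lib.Helper17.Narrow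

variable {R : Type*} [Group R]

theorem mem_sup_of_commute' {A B : Subgroup R}
    (h : ∀ a ∈ A, ∀ b ∈ B, a * b = b * a) {x : R} (hx : x ∈ A ⊔ B) :
    ∃ a ∈ A, ∃ b ∈ B, x = a * b := by
  rw [Subgroup.sup_eq_closure] at hx
  induction hx using Subgroup.closure_induction with
  | mem x hx =>
    rcases hx with hx | hx
    · exact ⟨x, hx, 1, B.one_mem, by simp⟩
    · exact ⟨1, A.one_mem, x, hx, by simp⟩
  | one => exact ⟨1, A.one_mem, 1, B.one_mem, by simp⟩
  | mul x y _ _ hx hy =>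
    obtain ⟨a, ha, b, hb, rfl⟩ := hx
    obtain ⟨a', ha', b', hb', rfl⟩ := hy
    refine ⟨a * a', A.mul_mem ha ha', b * b', B.mul_mem hb hb', ?_⟩
    have := h a' ha' b hb
    calc a * b * (a' * b') = a * (b * a') * b' := by group
      _ = a * (a' * b) * b' := by rw [this]
      _ = a * a' * (b * b') := by group
  | inv x _ hx =>
    obtain ⟨a, ha, b, hb, rfl⟩ := hx
    refine ⟨a⁻¹, A.inv_mem ha, b⁻¹, B.inv_mem hb, ?_⟩
    have := h a ha b hb
    calc (a * b)⁻¹ = (b * a)⁻¹ := by rw [this]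
      _ = a⁻¹ * b⁻¹ := by group

/-- elements of a subgroup of prime order are powers of any nonidentity element -/
theorem exists_zpow_of_prime_card {p : ℕ} [Fact p.Prime] {R₀ : Subgroup R} (h : Nat.card R₀ = p)
    {x : R} (hx : x ∈ R₀) (hx1 : x ≠ 1) {y : R} (hy : y ∈ R₀) : ∃ k : ℤ, x ^ k = y := by
  have h1 : (⟨y, hy⟩ : R₀) ∈ Subgroup.zpowers (⟨x, hx⟩ : R₀) :=
    mem_zpowers_of_prime_card h (fun h' => hx1 (congrArg Subtype.val h'))
  obtain ⟨k, hk⟩ := h1
  refine ⟨k, ?_⟩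
  have := congrArg Subtype.val hk
  simpa using this

theorem comm_of_isCyclic {R₁ : Subgroup R} (h1 : IsCyclic R₁) :
    ∀ a ∈ R₁, ∀ b ∈ R₁, a * b = b * a := by
  obtain ⟨g, hg⟩ := h1.exists_generator
  intro a ha b hb
  obtain ⟨i, hi⟩ := hg ⟨a, ha⟩
  obtain ⟨j, hj⟩ := hg ⟨b, hb⟩
  have h2 : (⟨a, ha⟩ : R₁) * ⟨b, hb⟩ = ⟨b, hb⟩ * ⟨a, ha⟩ := by
    rw [← hi, ← hj]
    exact (Commute.zpow_zpow_self g i j).eq
  exact congrArg Subtype.val h2

section Data

variable {p : ℕ} [Fact p.Prime] {R₀ R₁ : Subgroup R}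

theorem cent_comm (h1 : IsCyclic R₁)
    (hcomm : ∀ a ∈ R₀, ∀ b ∈ R₁, a * b = b * a)
    (hsup : R₀ ⊔ R₁ = Subgroup.centralizer (R₀ : Set R)) :
    ∀ a ∈ Subgroup.centralizer (R₀ : Set R), ∀ b ∈ Subgroup.centralizer (R₀ : Set R),
      a * b = b * a := by
  have hR1c := comm_of_isCyclic h1
  have hC1 : R₀ ⊔ R₁ ≤ Subgroup.centralizer (R₁ : Set R) := by
    apply sup_le
    · intro a ha
      rw [Subgroup.mem_centralizer_iff]
      intro b hb
      exact (hcomm a ha b hb).symm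
    · intro a ha
      rw [Subgroup.mem_centralizer_iff]
      intro b hb
      exact hR1c b hb a ha
  intro a ha b hb
  have ha' : a ∈ R₀ ⊔ R₁ := hsup ▸ ha
  have hb' : b ∈ R₀ ⊔ R₁ := hsup ▸ hb
  obtain ⟨b₀, hb₀, b₁, hb₁, rfl⟩ := mem_sup_of_commute' hcomm hb'
  have e0 : b₀ * a = a * b₀ := Subgroup.mem_centralizer_iff.mp ha b₀ hb₀
  have e1 : b₁ * a = a * b₁ := Subgroup.mem_centralizer_iff.mp (hC1 ha') b₁ hb₁
  calc a * (b₀ * b₁) = (a * b₀) * b₁ := by group
    _ = b₀ * (a * b₁) := by rw [← e0]; group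
    _ = b₀ * b₁ * a := by rw [← e1]; group

/-- Any elementary abelian subgroup of `C_R(R₀) = R₀ × R₁` has order at most `p²`; more precisely the
subgroup `E` of all elements of order dividing `p` of `C_R(R₀)` has order at most `p²`. -/
theorem card_omega_cent_le [Finite R] (h0 : Nat.card R₀ = p) (h1 : IsCyclic R₁)
    (hcomm : ∀ a ∈ R₀, ∀ b ∈ R₁, a * b = b * a)
    (hsup : R₀ ⊔ R₁ = Subgroup.centralizer (R₀ : Set R)) (E : Subgroup R)
    (hE : ∀ g, g ∈ E ↔ g ∈ Subgroup.centralizer (R₀ : Set R) ∧ g ^ p = 1) :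
    Nat.card E ≤ p ^ 2 := by
  classical
  have hpp : p.Prime := Fact.out
  have hcc := cent_comm h1 hcomm hsup
  have hEel : Cfsg.IsElementaryAbelian p E := by
    refine ⟨⟨⟨fun a b => Subtype.ext ?_⟩⟩, fun a ha => ((hE a).mp ha).2⟩
    exact hcc a ((hE a).mp a.2).1 b ((hE b).mp b.2).1
  have hR₀c : R₀ ≤ Subgroup.centralizer (R₀ : Set R) := by
    rw [← hsup]; exact le_sup_left
  have hR₁c : R₁ ≤ Subgroup.centralizer (R₀ : Set R) := by
    rw [← hsup]; exact le_sup_right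
  have hR₀p : ∀ a ∈ R₀, a ^ p = 1 := by
    intro a ha
    have := pow_card_eq_one' (G := R₀) (x := ⟨a, ha⟩)
    rw [h0] at this
    exact congrArg Subtype.val this
  -- a generator of R₀
  have hnt : Nontrivial R₀ := Finite.one_lt_card_iff_nontrivial.mp (h0 ▸ hpp.one_lt)
  obtain ⟨⟨x, hx⟩, hx1⟩ := exists_ne (1 : R₀)
  have hx1' : x ≠ 1 := fun h => hx1 (Subtype.ext h)
  have hxE : x ∈ E := (hE x).mpr ⟨hR₀c hx, hR₀p x hx⟩
  -- Ω₁(R₁)
  obtain ⟨Ω, hΩ⟩ : ∃ Ω : Subgroup R, ∀ g, g ∈ Ω ↔ g ∈ R₁ ∧ g ^ p = 1 := by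
    have hR1c := comm_of_isCyclic h1
    refine ⟨{ carrier := {g | g ∈ R₁ ∧ g ^ p = 1}
              one_mem' := ⟨R₁.one_mem, one_pow _⟩
              mul_mem' := ?_
              inv_mem' := ?_ }, fun g => Iff.rfl⟩
    · rintro a b ⟨ha, ha'⟩ ⟨hb, hb'⟩
      refine ⟨R₁.mul_mem ha hb, ?_⟩
      have hc : Commute a b := hR1c a ha b hb
      rw [hc.mul_pow, ha', hb', one_mul]
    · rintro a ⟨ha, ha'⟩
      exact ⟨R₁.inv_mem ha, by rw [inv_pow, ha', inv_one]⟩
  have hΩE : Ω ≤ E := by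
    intro g hg
    obtain ⟨hg1, hg2⟩ := (hΩ g).mp hg
    exact (hE g).mpr ⟨hR₁c hg1, hg2⟩
  have hΩcard : Nat.card Ω ≤ p := by
    have hΩle : Ω ≤ R₁ := fun g hg => ((hΩ g).mp hg).1
    have hcyc : IsCyclic Ω := Subgroup.isCyclic_of_le hΩle
    obtain ⟨ω, hω⟩ := hcyc.exists_generator
    rw [← orderOf_eq_card_of_forall_mem_zpowers hω]
    apply Nat.le_of_dvd hpp.pos
    apply orderOf_dvd_of_pow_eq_one
    apply Subtype.ext
    push_cast
    exact ((hΩ ω).mp ω.2).2
  have hle : E ≤ Ω ⊔ Subgroup.zpowers x := by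
    intro g hg
    obtain ⟨hg1, hg2⟩ := (hE g).mp hg
    rw [← hsup] at hg1
    obtain ⟨a, ha, b, hb, rfl⟩ := mem_sup_of_commute' hcomm hg1
    have hc : Commute a b := hcomm a ha b hb
    rw [hc.mul_pow, hR₀p a ha, one_mul] at hg2
    have hbΩ : b ∈ Ω := (hΩ b).mpr ⟨hb, hg2⟩
    obtain ⟨k, hk⟩ := exists_zpow_of_prime_card h0 hx hx1' ha
    have hax : a ∈ Subgroup.zpowers x := ⟨k, hk⟩
    exact (Ω ⊔ Subgroup.zpowers x).mul_mem ((le_sup_right : _ ≤ Ω ⊔ Subgroup.zpowers x) hax)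
      ((le_sup_left : Ω ≤ Ω ⊔ Subgroup.zpowers x) hbΩ)
  have h3 := Cfsg.Agent.Lib.Helper8.card_sup_zpowers_le hpp hEel Ω x hΩE hxE
  calc Nat.card E ≤ Nat.card ↥(Ω ⊔ Subgroup.zpowers x) := Subgroup.card_le_of_le hle
    _ ≤ p * Nat.card Ω := h3
    _ ≤ p * p := Nat.mul_le_mul_left _ hΩcard
    _ = p ^ 2 := (pow_two p).symm

/-- **Setup for narrow `p`-groups of rank at least three**: a characteristic subgroup `T` with
`C_R(T) ≤ T`, an element `x` and a subgroup `Z` of order at most `p` containing every element of order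
dividing `p` of `C_T(x)`. -/
theorem narrow_setup [Finite R] (hp : p ≠ 2) (hR : IsPGroup p R) (hr : ¬ Cfsg.PRankLE p 2 R)
    (h0 : Nat.card R₀ = p) (h1 : IsCyclic R₁)
    (hcomm : ∀ a ∈ R₀, ∀ b ∈ R₁, a * b = b * a)
    (hsup : R₀ ⊔ R₁ = Subgroup.centralizer (R₀ : Set R)) :
    ∃ (T Z : Subgroup R) (x : R), T.Characteristic ∧ Subgroup.centralizer (T : Set R) ≤ T ∧
      Nat.card Z ≤ p ∧ ∀ t ∈ T, t ^ p = 1 → t * x = x * t → t ∈ Z := by
  classical
  have hpp : p.Prime := Fact.out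
  have hcc := cent_comm h1 hcomm hsup
  obtain ⟨E, hE⟩ : ∃ E : Subgroup R,
      ∀ g, g ∈ E ↔ g ∈ Subgroup.centralizer (R₀ : Set R) ∧ g ^ p = 1 := by
    refine ⟨{ carrier := {g | g ∈ Subgroup.centralizer (R₀ : Set R) ∧ g ^ p = 1}
              one_mem' := ⟨Subgroup.one_mem _, one_pow _⟩
              mul_mem' := ?_
              inv_mem' := ?_ }, fun g => Iff.rfl⟩
    · rintro a b ⟨ha, ha'⟩ ⟨hb, hb'⟩
      refine ⟨Subgroup.mul_mem _ ha hb, ?_⟩
      have hc : Commute a b := hcc a ha b hb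
      rw [hc.mul_pow, ha', hb', one_mul]
    · rintro a ⟨ha, ha'⟩
      exact ⟨Subgroup.inv_mem _ ha, by rw [inv_pow, ha', inv_one]⟩
  have hEel : Cfsg.IsElementaryAbelian p E := by
    refine ⟨⟨⟨fun a b => Subtype.ext ?_⟩⟩, fun a ha => ((hE a).mp ha).2⟩
    exact hcc a ((hE a).mp a.2).1 b ((hE b).mp b.2).1
  have hR₀c : R₀ ≤ Subgroup.centralizer (R₀ : Set R) := by
    rw [← hsup]; exact le_sup_left
  have hR₀p : ∀ a ∈ R₀, a ^ p = 1 := by
    intro a ha
    have := pow_card_eq_one' (G := R₀) (x := ⟨a, ha⟩)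
    rw [h0] at this
    exact congrArg Subtype.val this
  have hR₀E : R₀ ≤ E := fun a ha => (hE a).mpr ⟨hR₀c ha, hR₀p a ha⟩
  have hnt : Nontrivial R₀ := Finite.one_lt_card_iff_nontrivial.mp (h0 ▸ hpp.one_lt)
  obtain ⟨⟨x, hx⟩, hx1⟩ := exists_ne (1 : R₀)
  have hx1' : x ≠ 1 := fun h => hx1 (Subtype.ext h)
  have hxE : x ∈ E := hR₀E hx
  -- membership in the centralizer of R₀ via x
  have hcentx : ∀ t : R, t * x = x * t → t ∈ Subgroup.centralizer (R₀ : Set R) := by
    intro t ht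
    rw [Subgroup.mem_centralizer_iff]
    intro r hr'
    obtain ⟨k, rfl⟩ := exists_zpow_of_prime_card h0 hx hx1' hr'
    have hc : Commute t x := ht
    exact ((hc.zpow_right k).eq).symm
  have hEmax : ∀ B : Subgroup R, Cfsg.IsElementaryAbelian p B → E ≤ B → B = E := by
    intro B hB hEB
    apply le_antisymm _ hEB
    intro b hb
    refine (hE b).mpr ⟨?_, hB.2 b hb⟩
    apply hcentx
    exact Cfsg.Agent.Lib.Helper8.elemAb_comm hB hb (hEB hxE)
  have hEle : Nat.card E ≤ p ^ 2 := card_omega_cent_le h0 h1 hcomm hsup E hE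
  have hE2 : Nat.card E = p ^ 2 := by
    obtain ⟨k, hk⟩ := (hR.to_subgroup E).exists_card_eq
    have hk2 : k ≤ 2 := by
      rw [hk] at hEle
      exact (Nat.pow_le_pow_iff_right hpp.one_lt).mp hEle
    have hk1 : k ≠ 0 := by
      rintro rfl
      rw [pow_zero, Subgroup.card_eq_one] at hk
      rw [hk, Subgroup.mem_bot] at hxE
      exact hx1' hxE
    rcases Nat.lt_or_ge k 2 with hlt | hge
    · exfalso
      have hk1' : k = 1 := by omega
      rw [hk1', pow_one] at hk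
      have hR₀eq : R₀ = E := Subgroup.eq_of_le_of_card_ge hR₀E (by rw [h0, hk])
      -- a central element of order p
      have hRnt : Nontrivial R := ⟨⟨x, 1, hx1'⟩⟩
      have hZnt : Nontrivial (Subgroup.center R) := hR.center_nontrivial
      have hZp : p ∣ Nat.card (Subgroup.center R) := by
        rcases (hR.to_subgroup (Subgroup.center R)).card_eq_or_dvd with h | h
        · exfalso
          rw [Subgroup.card_eq_one] at h
          exact (Subgroup.nontrivial_iff_ne_bot _).mp hZnt h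
        · exact h
      obtain ⟨z, hz⟩ := exists_prime_orderOf_dvd_card' p hZp
      have hz1 : (z : R) ≠ 1 := by
        intro h
        have : z = 1 := Subtype.ext h
        rw [this, orderOf_one] at hz
        exact hpp.one_lt.ne hz
      have hzp : (z : R) ^ p = 1 := by
        have := pow_orderOf_eq_one z
        rw [hz] at this
        exact congrArg Subtype.val this
      have hzc : ∀ g : R, g * (z : R) = (z : R) * g := fun g => Subgroup.mem_center_iff.mp z.2 g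
      have hzE : (z : R) ∈ E := by
        refine (hE _).mpr ⟨?_, hzp⟩
        rw [Subgroup.mem_centralizer_iff]
        intro r _
        exact hzc r
      have hzR₀ : (z : R) ∈ R₀ := hR₀eq ▸ hzE
      have hcent_top : ∀ g : R, g ∈ Subgroup.centralizer (R₀ : Set R) := by
        intro g
        rw [Subgroup.mem_centralizer_iff]
        intro r hr'
        obtain ⟨k, rfl⟩ := exists_zpow_of_prime_card h0 hzR₀ hz1 hr'
        have hc : Commute g (z : R) := hzc g
        exact ((hc.zpow_right k).eq).symm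
      apply hr
      intro B _ hBp
      have hBE : B ≤ E := fun b hb => (hE b).mpr ⟨hcent_top b, hBp b hb⟩
      calc Nat.card B ≤ Nat.card E := Subgroup.card_le_of_le hBE
        _ = p := hk
        _ ≤ p ^ 2 := by rw [pow_two]; exact Nat.le_mul_of_pos_left p hpp.pos
    · have : k = 2 := le_antisymm hk2 hge
      rw [hk, this]
  obtain ⟨hET, -, ⟨hWel, -⟩, hTchar, -⟩ := Cfsg.Agent.S1453.result p hp hR hr E hEel hE2 hEmax
  obtain ⟨W, hW⟩ : ∃ W : Subgroup R,
    W = Subgroup.closure {x : R | x ∈ Subgroup.upperCentralSeries R 2 ∧ x ^ p = 1} := ⟨_, rfl⟩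
  rw [← hW] at hET hWel hTchar
  refine ⟨Subgroup.centralizer (W : Set R), E ⊓ Subgroup.centralizer (W : Set R), x, hTchar,
    ?_, ?_, ?_⟩
  · have hWT : W ≤ Subgroup.centralizer (W : Set R) := by
      intro w hw
      rw [Subgroup.mem_centralizer_iff]
      intro v hv
      exact Cfsg.Agent.Lib.Helper8.elemAb_comm hWel hv hw
    exact Subgroup.centralizer_le hWT
  · have hlt : E ⊓ Subgroup.centralizer (W : Set R) < E := by
      refine lt_of_le_of_ne inf_le_left fun h => hET ?_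
      rw [← h]
      exact inf_le_right
    have hdvd : Nat.card ↥(E ⊓ Subgroup.centralizer (W : Set R)) ∣ p ^ 2 := by
      rw [← hE2]
      exact Subgroup.card_dvd_of_le inf_le_left
    obtain ⟨m, hm, hm'⟩ := (Nat.dvd_prime_pow hpp).mp hdvd
    rcases Nat.lt_or_ge m 2 with hlt' | hge
    · rw [hm']
      calc p ^ m ≤ p ^ 1 := Nat.pow_le_pow_right hpp.pos (by omega)
        _ = p := pow_one p
    · exfalso
      have hm2 : m = 2 := le_antisymm hm hge
      rw [hm2, ← hE2] at hm'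
      exact hlt.ne (Subgroup.eq_of_le_of_card_ge inf_le_left hm'.ge)
  · intro t ht htp htx
    exact ⟨(hE t).mpr ⟨hcentx t htx, htp⟩, ht⟩

end Data

end Cfsg.Agent.Lib.Helper17.Narrow
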