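import Mathlib
import Cfsg.Agent.Lib.Helper17.SecAut

/-!
helper17: a central series with factors of order `p` (B&G §5, narrow `p`-groups).

If `x ∈ R` has `|C_N(x)| ≤ p` for the normal subgroups `N ≤ L` of the `p`-group `R`, then
`|N : [N, R]| = p` for every such `N ≠ 1`, and `L, [L,R], [L,R,R], …` is a series of `Aut(R)`-invariant
subgroups with cyclic factors of order `p`.
-/

set_option autoImplicit false
open scoped commutatorElement

namespace Cfsg.Agent.Lib.Helper17.Narrow

variable {R : Type*} [Group R]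

/-- fibre counting: `|N| ≤ p |[N,R]|` when `C_N(x)` is contained in a subgroup of order at most `p`. -/
theorem card_le_mul_card_commutator [Finite R] {p : ℕ} (N Z : Subgroup R) (x : R)
    (hZ : Nat.card Z ≤ p) (hNZ : ∀ n ∈ N, n * x = x * n → n ∈ Z) :
    Nat.card N ≤ p * Nat.card ↥⁅N, (⊤ : Subgroup R)⁆ := by
  classical
  have i1 : Fintype N := Fintype.ofFinite N
  have i2 : Fintype ↥⁅N, (⊤ : Subgroup R)⁆ := Fintype.ofFinite _
  have i3 : Fintype Z := Fintype.ofFinite _
  let f : N → ↥⁅N, (⊤ : Subgroup R)⁆ := fun n =>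
    ⟨⁅(n : R), x⁆, Subgroup.commutator_mem_commutator n.2 (Subgroup.mem_top x)⟩
  have h1 : (Finset.univ : Finset N).card ≤ p * ((Finset.univ : Finset N).image f).card := by
    apply Finset.card_le_mul_card_image
    intro a ha
    obtain ⟨n₀, -, rfl⟩ := Finset.mem_image.mp ha
    have hmem : ∀ n : N, f n = f n₀ → (n₀ : R)⁻¹ * n ∈ Z := by
      intro n hn
      have h2 : ⁅(n : R), x⁆ = ⁅(n₀ : R), x⁆ := congrArg Subtype.val hn
      apply hNZ _ (N.mul_mem (N.inv_mem n₀.2) n.2)
      rw [commutatorElement_def, commutatorElement_def] at h2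
      have h3 : (n : R) * x * (n : R)⁻¹ = (n₀ : R) * x * (n₀ : R)⁻¹ := mul_right_cancel h2
      calc (n₀ : R)⁻¹ * n * x = (n₀ : R)⁻¹ * ((n : R) * x * (n : R)⁻¹) * n := by group
        _ = (n₀ : R)⁻¹ * ((n₀ : R) * x * (n₀ : R)⁻¹) * n := by rw [h3]
        _ = x * ((n₀ : R)⁻¹ * n) := by group
    calc (Finset.univ.filter fun n : N => f n = f n₀).card
        ≤ (Finset.univ : Finset Z).card := by
          apply Finset.card_le_card_of_injOn
            (fun n : N => if h : (n₀ : R)⁻¹ * n ∈ Z then (⟨_, h⟩ : Z) else 1)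
          · intro n _
            exact Finset.mem_univ _
          · intro n hn m hm hnm
            have hn' : f n = f n₀ := (Finset.mem_filter.mp hn).2
            have hm' : f m = f n₀ := (Finset.mem_filter.mp hm).2
            simp only [dif_pos (hmem n hn'), dif_pos (hmem m hm')] at hnm
            have h4 : (n₀ : R)⁻¹ * n = (n₀ : R)⁻¹ * m := congrArg Subtype.val hnm
            exact Subtype.ext (mul_left_cancel h4)
      _ = Nat.card Z := by rw [Finset.card_univ, Nat.card_eq_fintype_card]
      _ ≤ p := hZ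
  rw [Nat.card_eq_fintype_card, Nat.card_eq_fintype_card]
  calc Fintype.card N = (Finset.univ : Finset N).card := Finset.card_univ.symm
    _ ≤ p * ((Finset.univ : Finset N).image f).card := h1
    _ ≤ p * Fintype.card ↥⁅N, (⊤ : Subgroup R)⁆ :=
        Nat.mul_le_mul_left _ (Finset.card_le_univ _)

/-- in a nilpotent group `[N, R] < N` for a nontrivial normal subgroup. -/
theorem commutator_top_ne_self [Group.IsNilpotent R] (N : Subgroup R) (hN : N ≠ ⊥) :
    ⁅N, (⊤ : Subgroup R)⁆ ≠ N := by
  intro h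
  obtain ⟨c, hc⟩ := Subgroup.nilpotent_iff_lowerCentralSeries.mp (inferInstance : Group.IsNilpotent R)
  have h1 : ∀ k, N ≤ Subgroup.lowerCentralSeries (⊤ : Subgroup R) k := by
    intro k
    induction k with
    | zero => exact le_top
    | succ k ih =>
      rw [Subgroup.lowerCentralSeries_succ]
      calc N = ⁅N, (⊤ : Subgroup R)⁆ := h.symm
        _ ≤ _ := Subgroup.commutator_mono ih le_rfl
  apply hN
  rw [eq_bot_iff, ← hc]
  exact h1 c

/-- `|N : [N,R]| = p`. -/
theorem card_eq_mul_card_commutator [Finite R] {p : ℕ} [Fact p.Prime] (hR : IsPGroup p R)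
    (N Z : Subgroup R) [N.Normal] (hN : N ≠ ⊥) (x : R)
    (hZ : Nat.card Z ≤ p) (hNZ : ∀ n ∈ N, n * x = x * n → n ∈ Z) :
    Nat.card N = p * Nat.card ↥⁅N, (⊤ : Subgroup R)⁆ := by
  have hpp : p.Prime := Fact.out
  have hnil : Group.IsNilpotent R := hR.isNilpotent
  have hle : ⁅N, (⊤ : Subgroup R)⁆ ≤ N := Subgroup.commutator_le_left N ⊤
  have hne := commutator_top_ne_self N hN
  have h1 := card_le_mul_card_commutator N Z x hZ hNZ
  obtain ⟨a, ha⟩ := (hR.to_subgroup N).exists_card_eq
  obtain ⟨b, hb⟩ := (hR.to_subgroup ⁅N, (⊤ : Subgroup R)⁆).exists_card_eq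
  have hlt : Nat.card ↥⁅N, (⊤ : Subgroup R)⁆ < Nat.card N := by
    rcases lt_or_ge (Nat.card ↥⁅N, (⊤ : Subgroup R)⁆) (Nat.card N) with h | h
    · exact h
    · exact absurd (Subgroup.eq_of_le_of_card_ge hle h) hne
  rw [ha, hb] at h1 hlt ⊢
  have hba : b < a := (Nat.pow_lt_pow_iff_right hpp.one_lt).mp hlt
  have hab : a ≤ b + 1 := by
    rw [← pow_succ'] at h1
    exact (Nat.pow_le_pow_iff_right hpp.one_lt).mp h1
  have : a = b + 1 := by omega
  rw [this, pow_succ']

/-- a subgroup of index `p` gives a cyclic step. -/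
theorem cycStep_of_card {p : ℕ} [Fact p.Prime] {N' N : Subgroup R} [Finite N] (hle : N' ≤ N)
    [hn : (N'.subgroupOf N).Normal] (hcard : Nat.card N = p * Nat.card N') :
    CycStep p N' N := by
  have hpp : p.Prime := Fact.out
  have hfin' : Finite N' := Finite.of_injective (Subgroup.inclusion hle) (Subgroup.inclusion_injective hle)
  have h1 : Nat.card (N'.subgroupOf N) = Nat.card N' :=
    Nat.card_congr (Subgroup.subgroupOfEquivOfLe hle).toEquiv
  have h2 := Subgroup.card_mul_index (N'.subgroupOf N)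
  rw [h1, hcard, mul_comm p] at h2
  have h3 : (N'.subgroupOf N).index = p := Nat.eq_of_mul_eq_mul_left Nat.card_pos h2
  have h4 : Nat.card (N ⧸ N'.subgroupOf N) = p := by rw [← Subgroup.index_eq_card, h3]
  have hcyc : IsCyclic (N ⧸ N'.subgroupOf N) := isCyclic_of_prime_card h4
  obtain ⟨q₀, hq₀⟩ := hcyc.exists_generator
  obtain ⟨g₀, rfl⟩ := QuotientGroup.mk_surjective q₀
  refine ⟨hle, (g₀ : R), g₀.2, ?_, fun y hy => ?_⟩
  · have h5 : (QuotientGroup.mk g₀ : N ⧸ N'.subgroupOf N) ^ p = 1 := by
      rw [← h4]; exact pow_card_eq_one'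
    rw [← QuotientGroup.mk_pow, QuotientGroup.eq_one_iff, Subgroup.mem_subgroupOf] at h5
    exact h5
  · obtain ⟨k, hk⟩ := hq₀ (QuotientGroup.mk ⟨y, hy⟩)
    refine ⟨k, ?_⟩
    have hk' : (QuotientGroup.mk g₀ : N ⧸ N'.subgroupOf N) ^ k = QuotientGroup.mk ⟨y, hy⟩ := hk
    rw [← QuotientGroup.mk_zpow, QuotientGroup.eq, Subgroup.mem_subgroupOf] at hk'
    simpa using hk'

/-- iterated commutators with the whole group. -/
def iterTop (L : Subgroup R) : ℕ → Subgroup R
  | 0 => L
  | n + 1 => ⁅iterTop L n, (⊤ : Subgroup R)⁆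

theorem iterTop_zero (L : Subgroup R) : iterTop L 0 = L := rfl

theorem iterTop_succ (L : Subgroup R) (n : ℕ) :
    iterTop L (n + 1) = ⁅iterTop L n, (⊤ : Subgroup R)⁆ := rfl

theorem iterTop_char (L : Subgroup R) [hL : L.Characteristic] (n : ℕ) :
    (iterTop L n).Characteristic := by
  induction n with
  | zero => exact hL
  | succ n ih =>
    rw [iterTop_succ]
    exact Subgroup.commutator_characteristic _ _

theorem iterTop_le_lcs (L : Subgroup R) (n : ℕ) :
    iterTop L n ≤ Subgroup.lowerCentralSeries (⊤ : Subgroup R) n := by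
  induction n with
  | zero => exact le_top
  | succ n ih =>
    rw [iterTop_succ, Subgroup.lowerCentralSeries_succ]
    exact Subgroup.commutator_mono ih le_rfl

theorem iterTop_succ_le (L : Subgroup R) [hL : L.Characteristic] (n : ℕ) :
    iterTop L (n + 1) ≤ iterTop L n := by
  have := iterTop_char L n
  have : (iterTop L n).Normal := Subgroup.normal_of_characteristic _
  rw [iterTop_succ]
  exact Subgroup.commutator_le_left _ _

theorem iterTop_le (L : Subgroup R) [hL : L.Characteristic] (n : ℕ) : iterTop L n ≤ L := by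
  induction n with
  | zero => exact le_rfl
  | succ n ih => exact (iterTop_succ_le L n).trans ih

/-- **The chain**: an ascending series of characteristic subgroups from `1` to `L` with cyclic
factors of order dividing `p`. -/
theorem exists_chain [Finite R] {p : ℕ} [Fact p.Prime] (hR : IsPGroup p R) (L : Subgroup R)
    [hL : L.Characteristic] (x : R) (Z : Subgroup R) (hZ : Nat.card Z ≤ p)
    (hLZ : ∀ t ∈ L, t * x = x * t → t ∈ Z) :
    ∃ (T : ℕ → Subgroup R) (n : ℕ), T 0 = ⊥ ∧ T n = L ∧ Monotone T ∧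
      (∀ i, (T i).Characteristic) ∧ ∀ i, CycStep p (T i) (T (i + 1)) := by
  have hnil : Group.IsNilpotent R := hR.isNilpotent
  obtain ⟨c, hc⟩ := Subgroup.nilpotent_iff_lowerCentralSeries.mp hnil
  have hMc : iterTop L c = ⊥ := le_bot_iff.mp ((iterTop_le_lcs L c).trans hc.le)
  have hstep : ∀ j, CycStep p (iterTop L (j + 1)) (iterTop L j) := by
    intro j
    have hch := iterTop_char L j
    have hnor : (iterTop L j).Normal := Subgroup.normal_of_characteristic _
    have hch' := iterTop_char L (j + 1)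
    have hnor' : (iterTop L (j + 1)).Normal := Subgroup.normal_of_characteristic _
    by_cases hbot : iterTop L j = ⊥
    · have h1 : iterTop L (j + 1) = ⊥ := le_bot_iff.mp (hbot ▸ iterTop_succ_le L j)
      rw [h1, hbot]
      exact CycStep.refl p ⊥
    · have hn : ((iterTop L (j + 1)).subgroupOf (iterTop L j)).Normal := inferInstance
      apply cycStep_of_card (iterTop_succ_le L j)
      rw [iterTop_succ]
      exact card_eq_mul_card_commutator hR (iterTop L j) Z hbot x hZ
        (fun n hn' => hLZ n (iterTop_le L j hn'))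
  refine ⟨fun i => iterTop L (c - i), c, ?_, ?_, ?_, fun i => iterTop_char L _, ?_⟩
  · show iterTop L (c - 0) = ⊥
    rw [Nat.sub_zero, hMc]
  · show iterTop L (c - c) = L
    rw [Nat.sub_self, iterTop_zero]
  · apply monotone_nat_of_le_succ
    intro i
    show iterTop L (c - i) ≤ iterTop L (c - (i + 1))
    rcases Nat.lt_or_ge i c with h | h
    · have e : c - i = (c - (i + 1)) + 1 := by omega
      rw [e]
      exact iterTop_succ_le L _
    · have e1 : c - i = 0 := by omega
      have e2 : c - (i + 1) = 0 := by omega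
      rw [e1, e2]
  · intro i
    show CycStep p (iterTop L (c - i)) (iterTop L (c - (i + 1)))
    rcases Nat.lt_or_ge i c with h | h
    · have e : c - i = (c - (i + 1)) + 1 := by omega
      rw [e]
      exact hstep _
    · have e1 : c - i = 0 := by omega
      have e2 : c - (i + 1) = 0 := by omega
      rw [e1, e2]
      exact CycStep.refl p _

end Cfsg.Agent.Lib.Helper17.Narrow
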