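import Mathlib
import Cfsg.Agent.Lib.Helper17.NarrowA
import Cfsg.Agent.Lib.Helper17.NarrowB
import Cfsg.Agent.Lib.Helper17.OddAutRank2
import Cfsg.Agent.Lib.Helper26.Stability

/-!
helper17: automorphisms of narrow `p`-groups of rank at least three (B&G Theorem 5.4, rank ≥ 3 part):
there is a normal `p`-subgroup... more precisely a subgroup `K` of `Aut(R)` consisting of elements of
`p`-power order and containing all commutators and all `(p-1)`-th powers.
-/

set_option autoImplicit false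
open scoped commutatorElement

namespace Cfsg.Agent.Lib.Helper17.Narrow

variable {R : Type*} [Group R]

theorem mem_iff_of_characteristic {H : Subgroup R} (hH : H.Characteristic) (α : MulAut R) (x : R) :
    x ∈ H ↔ α x ∈ H := by
  have h := Subgroup.characteristic_iff_comap_eq.mp hH α
  constructor
  · intro hx
    rw [← h] at hx
    exact hx
  · intro hx
    rw [← h]
    exact hx

theorem characteristic_of_mem_iff {H : Subgroup R} (h : ∀ α : MulAut R, ∀ x, x ∈ H ↔ α x ∈ H) :
    H.Characteristic := by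
  rw [Subgroup.characteristic_iff_comap_eq]
  intro φ
  ext x
  rw [Subgroup.mem_comap]
  exact (h φ x).symm

theorem resAut_pow_apply (u : MulAut R) (M : Subgroup R) (h : ∀ x, x ∈ M ↔ u x ∈ M) (j : ℕ)
    (t : M) : (((resAut u M h) ^ j) t : R) = (u ^ j) t := by
  induction j generalizing t with
  | zero => simp
  | succ j ih =>
    rw [pow_succ, pow_succ, MulAut.mul_apply, MulAut.mul_apply, ih]
    rfl

/-- a `p'`-automorphism trivial on an invariant subgroup `T ⊇ C_R(T)` is trivial. -/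
theorem eq_one_of_fixes_selfcentralizing [Finite R] {p : ℕ} [Fact p.Prime] (hR : IsPGroup p R)
    (T : Subgroup R) [T.Normal] (hCT : Subgroup.centralizer (T : Set R) ≤ T) (δ : MulAut R)
    (hδ : (orderOf δ).Coprime p) (hfix : ∀ t ∈ T, δ t = t) : δ = 1 := by
  ext r
  rw [MulAut.one_apply]
  have hu : r⁻¹ * δ r ∈ Subgroup.centralizer (T : Set R) := by
    rw [Subgroup.mem_centralizer_iff]
    intro t ht
    have h1 : r * t * r⁻¹ ∈ T := ‹T.Normal›.conj_mem t ht r
    have h2 := hfix _ h1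
    rw [map_mul, map_mul, map_inv, hfix t ht] at h2
    calc t * (r⁻¹ * δ r) = r⁻¹ * (r * t * r⁻¹) * δ r := by group
      _ = r⁻¹ * (δ r * t * (δ r)⁻¹) * δ r := by rw [h2]
      _ = r⁻¹ * δ r * t := by group
  have h3 : δ (r⁻¹ * δ r) = r⁻¹ * δ r := hfix _ (hCT hu)
  have h4 := Cfsg.Agent.Lib.Helper1.CritExtra.eq_one_of_fixed_of_coprime hR δ hδ r (r⁻¹ * δ r)
    (by group) h3
  exact (inv_mul_eq_one.mp h4).symm

/-- the `Ω₁` of a critical subgroup of a characteristic self-centralizing subgroup `T`, as a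
subgroup of `R`. -/
theorem exists_omega_critical_in [Finite R] {p : ℕ} [Fact p.Prime] (hp : p ≠ 2) (hR : IsPGroup p R)
    (T : Subgroup R) (hT : T.Characteristic) (hCT : Subgroup.centralizer (T : Set R) ≤ T) :
    ∃ L : Subgroup R, L ≤ T ∧ L.Characteristic ∧ (∀ x ∈ L, x ^ p = 1) ∧
      ∀ δ : MulAut R, (orderOf δ).Coprime p → (∀ x ∈ L, δ x = x) → δ = 1 := by
  have hTn : T.Normal := Subgroup.normal_of_characteristic T
  obtain ⟨D, hDinv, hDexp, -, hDfaith⟩ :=
    Cfsg.Agent.Lib.Helper17.exists_omega_critical p hp (hR.to_subgroup T)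
  have hTinv : ∀ α : MulAut R, ∀ x, x ∈ T ↔ α x ∈ T := fun α x => mem_iff_of_characteristic hT α x
  refine ⟨D.map T.subtype, ?_, ?_, ?_, ?_⟩
  · rintro _ ⟨t, -, rfl⟩
    exact t.2
  · apply characteristic_of_mem_iff
    intro α x
    constructor
    · rintro ⟨t, ht, rfl⟩
      refine ⟨resAut α T (hTinv α) t, (hDinv (resAut α T (hTinv α)) t).mp ht, rfl⟩
    · rintro ⟨t', ht', hx⟩
      have hxT : x ∈ T := by
        rw [hTinv α, ← hx]
        exact t'.2
      have e : resAut α T (hTinv α) ⟨x, hxT⟩ = t' := Subtype.ext hx.symm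
      refine ⟨⟨x, hxT⟩, ?_, rfl⟩
      apply (hDinv (resAut α T (hTinv α)) ⟨x, hxT⟩).mpr
      rw [e]
      exact ht'
  · rintro _ ⟨t, ht, rfl⟩
    have := hDexp t ht
    have h2 := congrArg Subtype.val this
    simpa using h2
  · intro δ hδ hfix
    have hfinAut : Finite (MulAut R) :=
      Finite.of_injective (fun α : MulAut R => (α : R → R)) DFunLike.coe_injective
    have h1 : (resAut δ T (hTinv δ)) ^ orderOf δ = 1 := by
      ext t
      rw [resAut_pow_apply, pow_orderOf_eq_one]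
      rfl
    have h2 : (orderOf (resAut δ T (hTinv δ))).Coprime p :=
      Nat.Coprime.coprime_dvd_left (orderOf_dvd_of_pow_eq_one h1) hδ
    have h3 : resAut δ T (hTinv δ) = 1 := by
      apply hDfaith _ h2
      intro t ht
      apply Subtype.ext
      exact hfix _ ⟨t, ht, rfl⟩
    apply eq_one_of_fixes_selfcentralizing hR T hCT δ hδ
    intro t ht
    have := congrArg (fun u : MulAut T => ((u ⟨t, ht⟩ : T) : R)) h3
    exact this

/-- **Automorphisms of narrow `p`-groups of rank at least three** (B&G Theorem 5.4): there is a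
subgroup `K` of `Aut(R)` all of whose elements have `p`-power order and which contains all commutators
and all `(p-1)`-th powers. -/
theorem narrow_aut [Finite R] {p : ℕ} [Fact p.Prime] (hp : p ≠ 2) (hR : IsPGroup p R)
    (hr : ¬ Cfsg.PRankLE p 2 R) (hn : Cfsg.IsNarrow p R) :
    ∃ K : Subgroup (MulAut R), (∀ α β : MulAut R, α * β * α⁻¹ * β⁻¹ ∈ K) ∧
      (∀ α : MulAut R, α ^ (p - 1) ∈ K) ∧ ∀ γ ∈ K, ∃ k : ℕ, γ ^ (p ^ k) = 1 := by
  classical
  have hpp : p.Prime := Fact.out
  rcases hn with hn | ⟨R₀, R₁, h0, h1, -, hcomm, hsup⟩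
  · exact absurd hn hr
  obtain ⟨T, Z, x, hTchar, hCT, hZ, hTZ⟩ := narrow_setup hp hR hr h0 h1 hcomm hsup
  obtain ⟨L, hLT, hLchar, hLexp, hLfaith⟩ := exists_omega_critical_in hp hR T hTchar hCT
  obtain ⟨Tc, n, hT0, hTn, hmono, hTcchar, hcyc⟩ := exists_chain hR L x Z hZ
    (fun t ht htx => hTZ t (hLT ht) (hLexp t ht) htx)
  have hfinAut : Finite (MulAut R) :=
    Finite.of_injective (fun α : MulAut R => (α : R → R)) DFunLike.coe_injective
  have hinv : ∀ i, ∀ α : MulAut R, ∀ y, y ∈ Tc i ↔ α y ∈ Tc i :=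
    fun i α y => mem_iff_of_characteristic (hTcchar i) α y
  have hpres : ∀ i, ∀ α : MulAut R, α ∈ presSub (Tc (i + 1)) (Tc i) :=
    fun i α => ⟨hinv (i + 1) α, hinv i α⟩
  have hnorm : ∀ i, ((Tc i).subgroupOf (Tc (i + 1))).Normal := by
    intro i
    have := hTcchar i
    have : (Tc i).Normal := Subgroup.normal_of_characteristic _
    infer_instance
  refine ⟨Cfsg.Agent.Lib.Helper26.chainStab Tc hmono, ?_, ?_, ?_⟩
  · intro α β
    rw [Cfsg.Agent.Lib.Helper26.mem_chainStab]
    refine ⟨fun i y => hinv i _ y, fun i y hy => ?_⟩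
    have := hnorm i
    exact commutator_triv_of_cycStep (hcyc i) (hpres i α) (hpres i β) y hy
  · intro α
    rw [Cfsg.Agent.Lib.Helper26.mem_chainStab]
    refine ⟨fun i y => hinv i _ y, fun i y hy => ?_⟩
    have := hnorm i
    exact pow_pred_triv_of_cycStep hpp (hcyc i) (hpres i α) y hy
  · intro γ hγ
    rw [Cfsg.Agent.Lib.Helper26.mem_chainStab] at hγ
    obtain ⟨k, hk⟩ := Cfsg.Agent.Lib.Helper26.stab_chain (p := p) (α := γ) Tc hmono
      (fun i => inferInstance) (fun i => (hR.to_subgroup (Tc i)).exists_card_eq)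
      ⟨0, fun y hy => by
        rw [hT0, Subgroup.mem_bot] at hy
        rw [hy, map_one]⟩ hγ.2 n
    rw [hTn] at hk
    obtain ⟨a, m, hm, hn'⟩ := Nat.exists_eq_pow_mul_and_not_dvd
      (orderOf_pos (γ ^ (p ^ k))).ne' p hpp.ne_one
    have hcop : Nat.Coprime m p := ((Nat.Prime.coprime_iff_not_dvd hpp).mpr hm).symm
    refine ⟨k + a, ?_⟩
    have e : γ ^ (p ^ (k + a)) = (γ ^ (p ^ k)) ^ (p ^ a) := by rw [← pow_mul, ← pow_add]
    rw [e]
    have hδm : ((γ ^ (p ^ k)) ^ (p ^ a)) ^ m = 1 := by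
      rw [← pow_mul, ← hn', pow_orderOf_eq_one]
    apply hLfaith
    · exact Nat.Coprime.coprime_dvd_left (orderOf_dvd_of_pow_eq_one hδm) hcop
    · intro y hy
      have hfix : ∀ j : ℕ, ((γ ^ (p ^ k)) ^ j) y = y := by
        intro j
        induction j with
        | zero => simp
        | succ j ih => rw [pow_succ, MulAut.mul_apply, hk y hy, ih]
      exact hfix _

end Cfsg.Agent.Lib.Helper17.Narrow
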