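import Mathlib
import Cfsg.Prelude.Def_Solvable
import Cfsg.Agent.Lib.Helper17.NarrowC

/-!
helper17: B&G Theorem 5.4 for subgroups `R, A ≤ G` (rank at least three part), and the consequence
`A' ≤ O_p(A)`, `p ∤ |A : O_p(A)|` of `A'` being a `p`-group.
-/

set_option autoImplicit false
open scoped commutatorElement

namespace Cfsg.Agent.Lib.Helper17.Narrow

/-- if the derived subgroup is a `p`-group then it lies in `O_p` and `O_p` is the Sylow `p`-subgroup. -/
theorem pCore_of_commutator_isPGroup {A : Type*} [Group A] [Finite A] (p : ℕ) [Fact p.Prime]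
    (h : IsPGroup p (commutator A)) :
    commutator A ≤ Cfsg.pCore p A ∧ ((Cfsg.pCore p A).index).Coprime p := by
  have hpp : p.Prime := Fact.out
  have hcn : (commutator A).Normal := inferInstance
  have hle : commutator A ≤ Cfsg.pCore p A := le_sSup ⟨hcn, h⟩
  refine ⟨hle, ?_⟩
  have hcore : IsPGroup p (Cfsg.pCore p A) :=
    Sylow.sSup_of_normal _ (fun _ h => h.2) (fun _ h => h.1)
  have hcoren : (Cfsg.pCore p A).Normal := Subgroup.sSup_normal _ (fun _ h => h.1)
  obtain ⟨P, hP⟩ := hcore.exists_le_sylow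
  have hPn : (P : Subgroup A).Normal := by
    refine ⟨fun x hx g => ?_⟩
    have h1 : ⁅g, x⁆ ∈ commutator A := Subgroup.commutator_mem_commutator (Subgroup.mem_top g)
      (Subgroup.mem_top x)
    have h2 : g * x * g⁻¹ = ⁅g, x⁆ * x := by rw [commutatorElement_def]; group
    rw [h2]
    exact (P : Subgroup A).mul_mem (hP (hle h1)) hx
  have hPle : (P : Subgroup A) ≤ Cfsg.pCore p A := le_sSup ⟨hPn, P.isPGroup'⟩
  have heq : Cfsg.pCore p A = (P : Subgroup A) := le_antisymm hP hPle
  rw [heq]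
  exact (Nat.Prime.coprime_iff_not_dvd hpp).mpr P.not_dvd_index |>.symm

variable {G : Type*} [Group G] [Finite G]

/-- **B&G 5.4 for subgroups, rank at least three.** -/
theorem narrow_subgroup (p : ℕ) [Fact p.Prime] (hp : p ≠ 2) (R A : Subgroup G)
    (hR : IsPGroup p R) (hRn : Cfsg.IsNarrow p R) (hr : ¬ Cfsg.PRankLE p 2 R)
    (hA : A ≤ Subgroup.normalizer (R : Set G))
    (hfaith : A ⊓ Subgroup.centralizer (R : Set G) = ⊥) :
    IsPGroup p ↥⁅A, A⁆ ∧ ∀ a ∈ A, (orderOf a).Coprime p → a ^ (p - 1) = 1 := by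
  classical
  obtain ⟨K, hK1, hK2, hK3⟩ := narrow_aut hp hR hr hRn
  obtain ⟨N, hN⟩ : ∃ N : Subgroup G, N = Subgroup.normalizer (R : Set G) := ⟨_, rfl⟩
  have hAN : A ≤ N := by rw [hN]; exact hA
  obtain ⟨g, hg⟩ : ∃ g : N →* MulAut R, ∀ (n : N) (r : R), ((g n r : R) : G) = n * r * (n : G)⁻¹ := by
    subst hN
    exact ⟨R.normalizerMonoidHom, fun n r => rfl⟩
  have hker : ∀ n : N, g n = 1 → (n : G) ∈ Subgroup.centralizer (R : Set G) := by
    intro n hn
    rw [Subgroup.mem_centralizer_iff]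
    intro r hr
    have h1 := hg n ⟨r, hr⟩
    rw [hn, MulAut.one_apply] at h1
    change r = n * r * (n : G)⁻¹ at h1
    calc r * n = n * r * (n : G)⁻¹ * n := by rw [← h1]
      _ = n * r := by group
  have hcommK : commutator (MulAut R) ≤ K := by
    rw [commutator_def, Subgroup.commutator_le]
    intro a _ b _
    rw [commutatorElement_def]
    exact hK1 a b
  obtain ⟨A', hA'⟩ : ∃ A' : Subgroup N, A' = A.subgroupOf N := ⟨_, rfl⟩
  have hmapA' : A'.map N.subtype = A := by
    rw [hA']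
    exact Subgroup.map_subgroupOf_eq_of_le hAN
  have hcomm : ⁅A, A⁆ = (⁅A', A'⁆).map N.subtype := by
    rw [Subgroup.map_commutator, hmapA']
  have hA'le : ⁅A', A'⁆ ≤ A' := by
    rw [Subgroup.commutator_le]
    intro a ha b hb
    rw [commutatorElement_def]
    exact A'.mul_mem (A'.mul_mem (A'.mul_mem ha hb) (A'.inv_mem ha)) (A'.inv_mem hb)
  have hfin : ∀ n : N, n ∈ A' → g n = 1 → n = 1 := by
    intro n hnA hn
    have h2 := hker n hn
    have h3 : (n : G) ∈ A := by
      rw [hA', Subgroup.mem_subgroupOf] at hnA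
      exact hnA
    have h5 : (n : G) ∈ A ⊓ Subgroup.centralizer (R : Set G) := ⟨h3, h2⟩
    rw [hfaith, Subgroup.mem_bot] at h5
    exact Subtype.ext h5
  refine ⟨?_, ?_⟩
  · intro y
    have hy : (y : G) ∈ (⁅A', A'⁆).map N.subtype := by
      rw [← hcomm]; exact y.2
    obtain ⟨y', hy', hyy'⟩ := hy
    have h1 : g y' ∈ K := by
      apply hcommK
      have : g y' ∈ (⁅A', A'⁆).map g := Subgroup.mem_map_of_mem _ hy'
      rw [Subgroup.map_commutator] at this
      exact Subgroup.commutator_mono le_top le_top this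
    obtain ⟨k, hk⟩ := hK3 _ h1
    refine ⟨k, ?_⟩
    rw [← map_pow] at hk
    have h2 := hfin _ (A'.pow_mem (hA'le hy') _) hk
    apply Subtype.ext
    have h3 := congrArg (fun n : N => (n : G)) h2
    simp only [Subgroup.coe_pow, Subgroup.coe_one] at h3
    push_cast
    rw [← hyy']
    exact h3
  · intro a ha hcop
    have hpp : p.Prime := Fact.out
    obtain ⟨k, hk⟩ := hK3 _ (hK2 (g ⟨a, hAN ha⟩))
    rw [← map_pow, ← map_pow] at hk
    have haA' : (⟨a, hAN ha⟩ : N) ∈ A' := by
      rw [hA', Subgroup.mem_subgroupOf]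
      exact ha
    have h2 := hfin _ (A'.pow_mem (A'.pow_mem haA' _) _) hk
    have h3 := congrArg (fun n : N => (n : G)) h2
    simp only [Subgroup.coe_pow, Subgroup.coe_one] at h3
    rw [← pow_mul] at h3
    have h4 : orderOf a ∣ (p - 1) * p ^ k := orderOf_dvd_of_pow_eq_one h3
    have h5 : orderOf a ∣ p - 1 :=
      Nat.Coprime.dvd_of_dvd_mul_right (Nat.Coprime.pow_right k hcop) h4
    exact orderOf_dvd_iff_pow_eq_one.mp h5

end Cfsg.Agent.Lib.Helper17.Narrow
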