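import Mathlib
import Cfsg.Prelude.Def_Local
import Cfsg.Prelude.Def_OddOrderLocal
import Cfsg.Agent.Lib.Helper17.NarrowD
import Cfsg.Agent.Lib.Helper9.PLengthOne
import Cfsg.Agent.Lib.Helper12.Cores

/-!
helper17: transport of `IsNarrow` along isomorphisms, and the core of B&G Theorem 5.5:
a solvable group `Q` with `O_{p'}(Q) = 1` whose `O_p(Q)` is narrow of rank at least three.
-/

set_option autoImplicit false
open scoped commutatorElement

namespace Cfsg.Agent.Lib.Helper17.Narrow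

theorem pRankLE_of_injective {R R' : Type*} [Group R] [Group R'] {p k : ℕ} (φ : R →* R')
    (hφ : Function.Injective φ) (h : Cfsg.PRankLE p k R') : Cfsg.PRankLE p k R := by
  intro A hA hAp
  have h1 : Nat.card (A.map φ) = Nat.card A := Subgroup.card_map_of_injective hφ
  rw [← h1]
  apply h
  · refine ⟨⟨?_⟩⟩
    rintro ⟨_, ⟨a, ha, rfl⟩⟩ ⟨_, ⟨b, hb, rfl⟩⟩
    apply Subtype.ext
    show φ a * φ b = φ b * φ a
    rw [← map_mul, ← map_mul]
    congr 1
    exact congrArg Subtype.val (hA.is_comm.comm (⟨a, ha⟩ : A) ⟨b, hb⟩)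
  · rintro _ ⟨a, ha, rfl⟩
    rw [← map_pow, hAp a ha, map_one]

theorem isNarrow_of_equiv {R R' : Type*} [Group R] [Group R'] {p : ℕ} (e : R ≃* R')
    (h : Cfsg.IsNarrow p R) : Cfsg.IsNarrow p R' := by
  rcases h with h | ⟨R₀, R₁, h0, h1, hinf, hcomm, hsup⟩
  · left
    exact pRankLE_of_injective e.symm.toMonoidHom e.symm.injective h
  · right
    refine ⟨R₀.map e.toMonoidHom, R₁.map e.toMonoidHom, ?_, ?_, ?_, ?_, ?_⟩
    · rw [Subgroup.card_map_of_injective e.injective, h0]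
    · have : IsCyclic R₁ := h1
      exact isCyclic_of_surjective (R₁.equivMapOfInjective e.toMonoidHom e.injective).toMonoidHom
        (R₁.equivMapOfInjective e.toMonoidHom e.injective).surjective
    · rw [← Subgroup.map_inf _ _ _ e.injective, hinf, Subgroup.map_bot]
    · rintro _ ⟨a, ha, rfl⟩ _ ⟨b, hb, rfl⟩
      show e a * e b = e b * e a
      rw [← map_mul, ← map_mul, hcomm a ha b hb]
    · rw [← Subgroup.map_sup, hsup]
      ext y
      constructor
      · rintro ⟨x, hx, rfl⟩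
        rw [Subgroup.mem_centralizer_iff]
        rintro _ ⟨r, hr, rfl⟩
        show e r * e x = e x * e r
        rw [← map_mul, ← map_mul, Subgroup.mem_centralizer_iff.mp hx r hr]
      · intro hy
        refine ⟨e.symm y, ?_, e.apply_symm_apply y⟩
        show e.symm y ∈ Subgroup.centralizer (R₀ : Set R)
        rw [Subgroup.mem_centralizer_iff]
        intro r hr
        have h2 := Subgroup.mem_centralizer_iff.mp hy (e r) ⟨r, hr, rfl⟩
        apply e.injective
        rw [map_mul, map_mul, e.apply_symm_apply]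
        exact h2

section Core

variable {Q : Type*} [Group Q] [Finite Q] [Group.IsSolvable Q]

/-- B&G Theorem 5.5, core: `Q` solvable, `O_{p'}(Q) = 1`, `O_p(Q)` narrow of rank at least three. -/
theorem narrow_core (p : ℕ) [Fact p.Prime] (hp : p ≠ 2)
    (hO : Cfsg.pPrimeCore p Q = ⊥) (hn : Cfsg.IsNarrow p ↥(Cfsg.pCore p Q))
    (hr : ¬ Cfsg.PRankLE p 2 ↥(Cfsg.pCore p Q)) :
    commutator Q ≤ Cfsg.pCore p Q ∧ ((Cfsg.pCore p Q).index).Coprime p ∧
      ∀ q : ℕ, q.Prime → q ∣ Nat.card Q → q ≤ p := by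
  classical
  have hpp : p.Prime := Fact.out
  obtain ⟨Rb, hRb⟩ : ∃ Rb : Subgroup Q, Rb = Cfsg.pCore p Q := ⟨_, rfl⟩
  rw [← hRb] at hn hr ⊢
  have hRbn : Rb.Normal := by rw [hRb]; exact Subgroup.sSup_normal _ (fun _ h => h.1)
  have hRbP : IsPGroup p Rb := by rw [hRb]; exact Cfsg.Agent.Lib.Helper12.pCore_isPGroup' p
  have hCR : Subgroup.centralizer (Rb : Set Q) ≤ Rb := by
    rw [hRb]; exact Cfsg.Agent.Lib.Helper9.centralizer_pCore_le_of_isSolvable p hO
  obtain ⟨g, hg⟩ : ∃ g : Q →* MulAut Rb, g = MulAut.conjNormal := ⟨_, rfl⟩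
  have hgker : ∀ y : Q, g y = 1 → y ∈ Rb := by
    intro y hy
    apply hCR
    rw [Subgroup.mem_centralizer_iff]
    intro r hr'
    have h1 : g y ⟨r, hr'⟩ = ⟨r, hr'⟩ := by rw [hy]; rfl
    rw [hg] at h1
    have h2 : y * r * y⁻¹ = r := by
      have := congrArg Subtype.val h1
      simpa [MulAut.conjNormal_apply] using this
    calc r * y = y * r * y⁻¹ * y := by rw [h2]
      _ = y * r := by group
  obtain ⟨K, hK1, hK2, hK3⟩ := narrow_aut hp hRbP hr hn
  have hcommK : commutator (MulAut Rb) ≤ K := by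
    rw [commutator_def, Subgroup.commutator_le]
    intro a _ b _
    rw [commutatorElement_def]
    exact hK1 a b
  have hP : IsPGroup p (commutator Q) := by
    rintro ⟨y, hy⟩
    have h1 : g y ∈ K := by
      apply hcommK
      have : g y ∈ (commutator Q).map g := Subgroup.mem_map_of_mem _ hy
      rw [commutator_def, Subgroup.map_commutator] at this
      exact Subgroup.commutator_mono le_top le_top this
    obtain ⟨k, hk⟩ := hK3 _ h1
    rw [← map_pow] at hk
    have h3 := hgker _ hk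
    obtain ⟨j, hj⟩ := hRbP ⟨_, h3⟩
    refine ⟨k + j, ?_⟩
    apply Subtype.ext
    have h4 := congrArg Subtype.val hj
    push_cast at h4 ⊢
    rw [pow_add, pow_mul]
    exact h4
  obtain ⟨h1, h2⟩ := pCore_of_commutator_isPGroup p hP
  rw [← hRb] at h1 h2
  refine ⟨h1, h2, ?_⟩
  intro q hq hqQ
  by_cases hqp : q = p
  · exact hqp.le
  have hfq : Fact q.Prime := ⟨hq⟩
  obtain ⟨y, hy⟩ := exists_prime_orderOf_dvd_card' q hqQ
  obtain ⟨k, hk⟩ := hK3 _ (hK2 (g y))
  rw [← map_pow, ← map_pow, ← pow_mul] at hk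
  have h3 := hgker _ hk
  obtain ⟨j, hj⟩ := hRbP ⟨_, h3⟩
  have h4 : (y ^ ((p - 1) * p ^ k)) ^ (p ^ j) = 1 := by
    have := congrArg Subtype.val hj
    simpa using this
  have h5 : (y ^ ((p - 1) * p ^ k)) ^ q = 1 := by
    rw [← pow_mul, mul_comm, pow_mul, ← hy, pow_orderOf_eq_one, one_pow]
  have h6 : orderOf (y ^ ((p - 1) * p ^ k)) ∣ Nat.gcd q (p ^ j) :=
    Nat.dvd_gcd (orderOf_dvd_of_pow_eq_one h5) (orderOf_dvd_of_pow_eq_one h4)
  have hcop : Nat.Coprime q p := (Nat.coprime_primes hq hpp).mpr hqp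
  rw [Nat.Coprime.pow_right j hcop, Nat.dvd_one, orderOf_eq_one_iff] at h6
  have h7 : q ∣ (p - 1) * p ^ k := by
    rw [← hy]
    exact orderOf_dvd_of_pow_eq_one h6
  have h8 : q ∣ p - 1 := Nat.Coprime.dvd_of_dvd_mul_right (Nat.Coprime.pow_right k hcop) h7
  have h9 : q ≤ p - 1 := Nat.le_of_dvd (by have := hpp.two_le; omega) h8
  omega

end Core

end Cfsg.Agent.Lib.Helper17.Narrow
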