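import Mathlib
import Cfsg.Prelude.Def_Local
import Cfsg.Prelude.Def_Transfer
import Cfsg.Agent.Lib.Helper17.Rank2Solv
import Cfsg.Agent.Lib.Helper12.PComplement

/-!
helper17: from the structure of `G / O_{p'}(G)` (derived subgroup in `O_p`, `O_p` of `p'`-index, all
prime divisors at most `p`) to the conclusions of B&G Theorems 4.18 / 5.5 for `G`.
(The second half of the proof of `Cfsg.Agent.S1450.result`, as a reusable lemma.)
-/

set_option autoImplicit false
open Cfsg

namespace Cfsg.Agent.Lib.Helper17.Narrow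

theorem conclusions_of_core {G : Type*} [Group G] [Finite G] (hodd : Odd (Nat.card G)) (p : ℕ)
    [Fact p.Prime] (K : Subgroup G) [hKn : K.Normal] (hK : K = Cfsg.pPrimeCore p G)
    (hder : commutator (G ⧸ K) ≤ Cfsg.pCore p (G ⧸ K))
    (hidx : ((Cfsg.pCore p (G ⧸ K)).index).Coprime p)
    (hprimes : ∀ q : ℕ, q.Prime → q ∣ Nat.card (G ⧸ K) → q ≤ p) :
    (∀ q : ℕ, q.Prime → q ∣ (Cfsg.pPrimeCore p G).index → q ≤ p) ∧
      ((p = 3 ∨ ∀ q : ℕ, q.Prime → q ∣ Nat.card G → p ≤ q) → Cfsg.HasNormalPComplement p G) ∧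
      Cfsg.HasNormalPComplement p ↥(commutator G) ∧
      (∀ L : Subgroup ↥(commutator G), (Nat.card L).Coprime p → L ≤ Cfsg.pPrimeCore p ↥(commutator G)) ∧
      commutator G ≤ Cfsg.pPrimePCore p G ∧ ((Cfsg.pPrimePCore p G).index).Coprime p := by
  classical
  have hpp : p.Prime := Fact.out
  have hKcop : (Nat.card K).Coprime p := by
    rw [hK]; exact Cfsg.Agent.Lib.Helper12.pPrimeCore_coprime p
  obtain ⟨f, hf⟩ : ∃ f : G →* G ⧸ K, f = QuotientGroup.mk' K := ⟨_, rfl⟩
  have hfsurj : Function.Surjective f := by rw [hf]; exact QuotientGroup.mk'_surjective K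
  have hfker : f.ker = K := by rw [hf]; exact QuotientGroup.ker_mk' K
  have hLdef : Cfsg.pPrimePCore p G = (Cfsg.pCore p (G ⧸ K)).comap f := by
    subst hK
    subst hf
    rfl
  have hRbP : IsPGroup p (Cfsg.pCore p (G ⧸ K)) := Cfsg.Agent.Lib.Helper12.pCore_isPGroup' p
  have hmapder : (commutator G).map f ≤ Cfsg.pCore p (G ⧸ K) := by
    refine le_trans ?_ hder
    rw [commutator_def, commutator_def, Subgroup.map_commutator]
    exact Subgroup.commutator_mono le_top le_top
  have hKidx : ∀ q : ℕ, q.Prime → q ∣ K.index → q ≤ p := by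
    intro q hq hqd
    rw [Subgroup.index_eq_card] at hqd
    exact hprimes q hq hqd
  -- the derived subgroup
  obtain ⟨D, hD⟩ : ∃ D : Subgroup G, D = commutator G := ⟨_, rfl⟩
  have hmapD : D.map f ≤ Cfsg.pCore p (G ⧸ K) := by rw [hD]; exact hmapder
  obtain ⟨K', hK'⟩ : ∃ K' : Subgroup D, K' = K.subgroupOf D := ⟨_, rfl⟩
  have hK'n : K'.Normal := by rw [hK']; infer_instance
  have hK'cop : (Nat.card K').Coprime p := by
    have h1 : Nat.card K' ∣ Nat.card K := by
      rw [hK']
      let φ : K.subgroupOf D →* K :=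
        { toFun := fun x => ⟨(x : D), x.2⟩
          map_one' := rfl
          map_mul' := fun _ _ => rfl }
      apply Subgroup.card_dvd_of_injective φ
      intro a b hab
      have := congrArg (fun t : K => (t : G)) hab
      exact Subtype.ext (Subtype.ext this)
    exact Nat.Coprime.coprime_dvd_left h1 hKcop
  have hK'idx : ∃ a : ℕ, K'.index = p ^ a := by
    have h1 : K'.index = Nat.card (D.map f) := by
      have h0 := Subgroup.relIndex_ker f (K := D)
      rw [hfker] at h0
      rw [hK']
      exact h0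
    rw [h1]
    have hP : IsPGroup p (D.map f) := hRbP.to_le hmapD
    obtain ⟨a, ha⟩ := hP.exists_card_eq
    exact ⟨a, ha⟩
  subst hD
  refine ⟨?_, ?_, ?_, ?_, ?_, ?_⟩
  · rw [← hK]; exact hKidx
  · intro hyp
    have hidxK : K.index = p ^ K.index.primeFactorsList.length := by
      apply Nat.eq_prime_pow_of_unique_prime_dvd
      · exact Subgroup.index_ne_zero_of_finite
      · intro q hq hqd
        have hle := hKidx q hq hqd
        have hqG : q ∣ Nat.card G := hqd.trans (Subgroup.index_dvd_card K)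
        rcases hyp with h3 | hmin
        · subst h3
          have hq2 : q ≠ 2 := by
            rintro rfl
            exact (Nat.not_even_iff_odd.mpr hodd) (even_iff_two_dvd.mpr hqG)
          have := hq.two_le
          omega
        · exact le_antisymm hle (hmin q hq hqG)
    rw [← hK] at *
    exact Cfsg.Agent.Lib.Helper12.hasNormalPComplement_of_normal K hKn hKcop _ hidxK
  · obtain ⟨a, ha⟩ := hK'idx
    exact Cfsg.Agent.Lib.Helper12.hasNormalPComplement_of_normal K' hK'n hK'cop a ha
  · intro L hL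
    refine le_trans ?_ (Cfsg.Agent.Lib.Helper12.le_pPrimeCore p K' hK'n hK'cop)
    intro x hx
    rw [hK', Subgroup.mem_subgroupOf, ← hfker, MonoidHom.mem_ker]
    have h1 : f (x : G) ∈ Cfsg.pCore p (G ⧸ K) := hmapD (Subgroup.mem_map_of_mem f x.2)
    obtain ⟨j, hj⟩ := hRbP ⟨_, h1⟩
    have hj' : f (x : G) ^ (p ^ j) = 1 := by
      have := congrArg Subtype.val hj
      simpa using this
    have h2 : x ^ Nat.card L = 1 := by
      have h3 : (⟨x, hx⟩ : L) ^ Nat.card L = 1 := pow_card_eq_one'
      have := congrArg Subtype.val h3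
      rwa [Subgroup.coe_pow, Subgroup.coe_one] at this
    have h4 : f (x : G) ^ Nat.card L = 1 := by
      have := congrArg (fun t : ↥(commutator G) => f (t : G)) h2
      simpa using this
    have h5 : orderOf (f (x : G)) ∣ Nat.gcd (Nat.card L) (p ^ j) :=
      Nat.dvd_gcd (orderOf_dvd_of_pow_eq_one h4) (orderOf_dvd_of_pow_eq_one hj')
    rw [Nat.Coprime.pow_right j hL] at h5
    exact orderOf_eq_one_iff.mp (Nat.dvd_one.mp h5)
  · intro x hx
    rw [hLdef, Subgroup.mem_comap]
    exact hmapder (Subgroup.mem_map_of_mem f hx)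
  · rw [hLdef, Subgroup.index_comap_of_surjective _ hfsurj]
    exact hidx


end Cfsg.Agent.Lib.Helper17.Narrow
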