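/-
Helper lemmas (helper17) for B&G 11.7, Step 2: generic facts.
* `exists_invariant_compl_sub`: Maschke for an elementary abelian subgroup `V` of an ambient group.
* `omegaOne`: the subgroup of elements of order dividing `q` of an abelian subgroup.
* `centralizer_singleton_eq_of_prime`: in a group of prime order every nonidentity element generates.
* `frobenius_step`: the S1446 step used in 11.7.
-/
import Mathlib
import Cfsg.Prelude.Def_OddOrderLocal
import Cfsg.Agent.Lib.Helper20.MaschkeGroup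
import Cfsg.Agent.Lib.Helper4.Basic
import Cfsg.Agent.S1446

set_option autoImplicit false

namespace Cfsg.Agent.Lib.Helper17.BGExF

variable {G : Type*} [Group G]

/-- **Maschke** for an `A`-invariant subgroup `U` of an `A`-invariant elementary abelian `q`-subgroup
`V` of `G` (coprime action by conjugation). -/
theorem exists_invariant_compl_sub [Finite G] (A V U : Subgroup G) (q : ℕ) (hq : q.Prime)
    (hVc : ∀ a ∈ V, ∀ b ∈ V, a * b = b * a) (hVq : ∀ a ∈ V, a ^ q = 1)
    (hAV : A ≤ Subgroup.normalizer (V : Set G)) (hAU : A ≤ Subgroup.normalizer (U : Set G))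
    (hUV : U ≤ V) (hcop : (Nat.card A).Coprime (Nat.card V)) :
    ∃ U' : Subgroup G, U' ≤ V ∧ A ≤ Subgroup.normalizer (U' : Set G) ∧ U ⊓ U' = ⊥ ∧ U ⊔ U' = V := by
  classical
  letI : CommGroup ↥V :=
    { (inferInstance : Group ↥V) with
      mul_comm := fun a b => Subtype.ext (hVc a a.2 b b.2) }
  -- the action
  let φ : ↥A → (↥V →* ↥V) := fun a =>
    { toFun := fun v => ⟨a * v * (a : G)⁻¹, (Subgroup.mem_normalizer_iff.mp (hAV a.2) v).mp v.2⟩
      map_one' := by apply Subtype.ext; simp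
      map_mul' := fun x y => by apply Subtype.ext; simp only [Subgroup.coe_mul]; group }
  have hφ : ∀ (a : ↥A) (v : ↥V), ((φ a v : ↥V) : G) = a * v * (a : G)⁻¹ := fun a v => rfl
  have h1 : φ 1 = MonoidHom.id ↥V := by
    ext v
    rw [hφ]
    simp
  have hmul : ∀ a b, φ (a * b) = (φ a).comp (φ b) := by
    intro a b
    ext v
    rw [MonoidHom.comp_apply, hφ, hφ, hφ]
    simp only [Subgroup.coe_mul]
    group
  have hexp : ∀ x : ↥V, x ^ q = 1 := fun x => Subtype.ext (by simpa using hVq x x.2)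
  obtain ⟨W₀, hW₀1, hW₀2⟩ := Cfsg.Agent.Lib.Helper20.exists_compl_of_exponent_prime hq hexp
    (U.subgroupOf V)
  have hUinv : ∀ a, ∀ x ∈ U.subgroupOf V, φ a x ∈ U.subgroupOf V := by
    intro a x hx
    rw [Subgroup.mem_subgroupOf] at hx ⊢
    rw [hφ]
    exact (Subgroup.mem_normalizer_iff.mp (hAU a.2) x).mp hx
  obtain ⟨W', hW'inv, hW'1, hW'2⟩ := Cfsg.Agent.Lib.Helper20.exists_invariant_compl φ h1 hmul hcop
    (U.subgroupOf V) W₀ hUinv hW₀1 hW₀2
  refine ⟨W'.map V.subtype, Subgroup.map_subtype_le _, ?_, ?_, ?_⟩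
  · intro a ha
    have key : ∀ b ∈ A, ∀ g ∈ W'.map V.subtype, b * g * b⁻¹ ∈ W'.map V.subtype := by
      rintro b hb _ ⟨w, hw, rfl⟩
      exact ⟨φ ⟨b, hb⟩ w, hW'inv ⟨b, hb⟩ w hw, rfl⟩
    rw [Subgroup.mem_normalizer_iff]
    intro g
    constructor
    · exact key a ha g
    · intro h
      have := key a⁻¹ (A.inv_mem ha) _ h
      have e : a⁻¹ * (a * g * a⁻¹) * a⁻¹⁻¹ = g := by group
      rwa [e] at this
  · rw [eq_bot_iff]
    rintro x ⟨hxU, w, hw, rfl⟩
    have : w ∈ U.subgroupOf V ⊓ W' := ⟨Subgroup.mem_subgroupOf.mpr hxU, hw⟩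
    rw [hW'1, Subgroup.mem_bot] at this
    rw [this]; simp
  · apply le_antisymm
    · exact sup_le hUV (Subgroup.map_subtype_le _)
    · intro v hv
      have : (⟨v, hv⟩ : ↥V) ∈ U.subgroupOf V ⊔ W' := by rw [hW'2]; trivial
      obtain ⟨u, hu, w, hw, huw⟩ := Subgroup.mem_sup.mp this
      have e : v = (u : G) * (w : G) := by
        have := congrArg Subtype.val huw
        simpa using this.symm
      rw [e]
      exact Subgroup.mul_mem_sup (Subgroup.mem_subgroupOf.mp hu) ⟨w, hw, rfl⟩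

/-- the elements of order dividing `q` of a subgroup `S` with commuting elements. -/
def omegaOne (S : Subgroup G) (q : ℕ) (hS : ∀ a ∈ S, ∀ b ∈ S, a * b = b * a) : Subgroup G where
  carrier := {x | x ∈ S ∧ x ^ q = 1}
  mul_mem' := by
    rintro a b ⟨ha, ha'⟩ ⟨hb, hb'⟩
    refine ⟨S.mul_mem ha hb, ?_⟩
    rw [(show Commute a b from hS a ha b hb).mul_pow, ha', hb', one_mul]
  one_mem' := ⟨S.one_mem, one_pow q⟩
  inv_mem' := by
    rintro a ⟨ha, ha'⟩
    exact ⟨S.inv_mem ha, by rw [inv_pow, ha', inv_one]⟩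

theorem mem_omegaOne {S : Subgroup G} {q : ℕ} {hS : ∀ a ∈ S, ∀ b ∈ S, a * b = b * a} {x : G} :
    x ∈ omegaOne S q hS ↔ x ∈ S ∧ x ^ q = 1 := Iff.rfl

theorem omegaOne_le (S : Subgroup G) (q : ℕ) (hS : ∀ a ∈ S, ∀ b ∈ S, a * b = b * a) :
    omegaOne S q hS ≤ S := fun _ hx => hx.1

theorem omegaOne_elemAb (S : Subgroup G) (q : ℕ) (hS : ∀ a ∈ S, ∀ b ∈ S, a * b = b * a) :
    Cfsg.IsElementaryAbelian q (omegaOne S q hS) := by
  refine ⟨⟨⟨fun a b => ?_⟩⟩, fun a ha => ha.2⟩
  apply Subtype.ext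
  exact hS a a.2.1 b b.2.1

theorem normalizer_le_normalizer_omegaOne (S : Subgroup G) (q : ℕ)
    (hS : ∀ a ∈ S, ∀ b ∈ S, a * b = b * a) :
    Subgroup.normalizer (S : Set G) ≤ Subgroup.normalizer ((omegaOne S q hS : Subgroup G) : Set G) := by
  have key : ∀ n ∈ Subgroup.normalizer (S : Set G), ∀ g ∈ omegaOne S q hS,
      n * g * n⁻¹ ∈ omegaOne S q hS := by
    intro n hn g hg
    refine ⟨(Subgroup.mem_normalizer_iff.mp hn g).mp hg.1, ?_⟩
    rw [conj_pow, hg.2]; group
  intro n hn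
  rw [Subgroup.mem_normalizer_iff]
  intro g
  constructor
  · exact key n hn g
  · intro h
    have := key n⁻¹ (Subgroup.inv_mem _ hn) _ h
    have e : n⁻¹ * (n * g * n⁻¹) * n⁻¹⁻¹ = g := by group
    rwa [e] at this


/-- in a subgroup of prime order every nonidentity element has the same centralizer as the subgroup. -/
theorem centralizer_singleton_eq_of_prime_card {p : ℕ} (hp : p.Prime) {X : Subgroup G}
    (hX : Nat.card X = p) {r : G} (hr : r ∈ X) (hr1 : r ≠ 1) :
    Subgroup.centralizer ({r} : Set G) = Subgroup.centralizer (X : Set G) := by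
  haveI : Fact p.Prime := ⟨hp⟩
  apply le_antisymm
  · intro y hy
    rw [Subgroup.mem_centralizer_iff] at hy ⊢
    intro x hx
    have h1 : (⟨x, hx⟩ : X) ∈ Subgroup.zpowers (⟨r, hr⟩ : X) :=
      mem_zpowers_of_prime_card hX (fun h => hr1 (congrArg Subtype.val h))
    obtain ⟨k, hk⟩ := Subgroup.mem_zpowers_iff.mp h1
    have hk' : r ^ k = x := by
      have := congrArg Subtype.val hk
      simpa using this
    have hyr : r * y = y * r := hy r rfl
    have : Commute (r ^ k) y := (show Commute r y from hyr).zpow_left k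
    rw [← hk']
    exact this
  · exact Subgroup.centralizer_le (Set.singleton_subset_iff.mpr hr)

/-- **The S1446 step in B&G 11.7.**  `B₁` of prime order `q` and `X` of prime order `p ≠ q` normalizing
but not centralizing `B₁`; both normalize the nontrivial nilpotent `{p,q}'`-group `W` with
`C_W(B₁) = 1`.  Then `C_W(X) ≠ 1`. -/
theorem frobenius_step [Finite G] (hodd : Odd (Nat.card G)) {p q : ℕ} (hp : p.Prime) (hq : q.Prime)
    (hpq : p ≠ q) (B₁ X W : Subgroup G) (hB₁ : Nat.card B₁ = q) (hX : Nat.card X = p)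
    (hXB : X ≤ Subgroup.normalizer (B₁ : Set G)) (hnc : ¬ X ≤ Subgroup.centralizer (B₁ : Set G))
    (hsolv : Group.IsSolvable ↥(B₁ ⊔ X)) (hW1 : W ≠ ⊥) (hWn : Group.IsNilpotent W)
    (hBW : B₁ ≤ Subgroup.normalizer (W : Set G)) (hXW : X ≤ Subgroup.normalizer (W : Set G))
    (hcopp : ¬ p ∣ Nat.card W) (hcopq : ¬ q ∣ Nat.card W)
    (hCB : W ⊓ Subgroup.centralizer (B₁ : Set G) = ⊥) :
    W ⊓ Subgroup.centralizer (X : Set G) ≠ ⊥ := by
  classical
  have hB1 : B₁ ≠ ⊥ := by
    intro h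
    rw [h, Subgroup.card_bot] at hB₁
    exact hq.one_lt.ne hB₁
  have hX1 : X ≠ ⊥ := by
    intro h
    rw [h, Subgroup.card_bot] at hX
    exact hp.one_lt.ne hX
  have hKR : B₁ ⊓ X = ⊥ := by
    rw [← Subgroup.card_eq_one]
    have h1 : Nat.card ↥(B₁ ⊓ X) ∣ q := hB₁ ▸ Subgroup.card_dvd_of_le inf_le_left
    have h2 : Nat.card ↥(B₁ ⊓ X) ∣ p := hX ▸ Subgroup.card_dvd_of_le inf_le_right
    exact Nat.eq_one_of_dvd_coprimes ((Nat.coprime_primes hq hp).mpr (Ne.symm hpq)) h1 h2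
  have hfrob : ∀ r ∈ X, r ≠ 1 → B₁ ⊓ Subgroup.centralizer ({r} : Set G) = ⊥ := by
    intro r hr hr1
    rw [centralizer_singleton_eq_of_prime_card hp hX hr hr1]
    by_contra hne
    have h1 : Nat.card ↥(B₁ ⊓ Subgroup.centralizer (X : Set G)) ∣ q :=
      hB₁ ▸ Subgroup.card_dvd_of_le inf_le_left
    rcases (Nat.dvd_prime hq).mp h1 with h | h
    · exact hne (Subgroup.card_eq_one.mp h)
    · have h2 : B₁ ⊓ Subgroup.centralizer (X : Set G) = B₁ :=
        Subgroup.eq_of_le_of_card_ge inf_le_left (by rw [h, hB₁])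
      apply hnc
      intro x hx
      rw [Subgroup.mem_centralizer_iff]
      intro b hb
      have hb' : b ∈ Subgroup.centralizer (X : Set G) := by
        have : b ∈ B₁ ⊓ Subgroup.centralizer (X : Set G) := by rw [h2]; exact hb
        exact this.2
      rw [Subgroup.mem_centralizer_iff] at hb'
      exact (hb' x hx).symm
  have hcard : Nat.card ↥(B₁ ⊔ X) ∣ p * q := by
    have h := Cfsg.Agent.Lib.Helper4.card_sup_mul_card_inf X B₁ hXB
    rw [hX, hB₁, sup_comm] at h
    exact Dvd.intro _ h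
  have hodd' : Odd (Nat.card ↥(B₁ ⊔ X)) :=
    Odd.of_dvd_nat hodd (Subgroup.card_subgroup_dvd_card _)
  have hcop : (Nat.card ↥(B₁ ⊔ X)).Coprime (Nat.card W) := by
    apply Nat.Coprime.coprime_dvd_left hcard
    apply Nat.Coprime.mul_left
    · exact (Nat.Prime.coprime_iff_not_dvd hp).mpr hcopp
    · exact (Nat.Prime.coprime_iff_not_dvd hq).mpr hcopq
  have hpr : ∀ x ∈ X, x ≠ 1 → W ⊓ Subgroup.centralizer ({x} : Set G) =
      W ⊓ Subgroup.centralizer (X : Set G) := by
    intro x hx hx1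
    rw [centralizer_singleton_eq_of_prime_card hp hX hx hx1]
  obtain ⟨-, hc, -⟩ := Cfsg.Agent.S1446.result B₁ X W hB1 hX1 hKR hXB hfrob hsolv hodd' hW1 hWn
    hBW hXW hcop hCB hpr
  intro h
  rw [h, Subgroup.card_bot, one_pow] at hc
  exact hW1 (Subgroup.card_eq_one.mp hc)

end Cfsg.Agent.Lib.Helper17.BGExF
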