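/-
Helper lemmas (helper17): a tool for B&G sections 11-12 (found by helper19).
Let `A` be a `p`-subgroup of rank two of a minimal simple group of odd order satisfying the
transitivity hypothesis, `q ≠ p` a prime dividing `|C_G(A)|` such that the maximal `A`-invariant
`q`-subgroups are narrow.  Then `A` centralizes every `A`-invariant `q`-subgroup of `G`.
-/
import Mathlib
import Cfsg.Prelude.Def_OddOrderLocal
import Cfsg.Agent.Lib.Helper17.BGTrans4
import Cfsg.Agent.Lib.Helper17.BGTrans2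
import Cfsg.Agent.Lib.Helper17.OddAutRank2
import Cfsg.Agent.Lib.Helper17.NarrowC
import Cfsg.Agent.S1394
import Cfsg.Agent.S1395

set_option autoImplicit false
open scoped commutatorElement

namespace Cfsg.Agent.Lib.Helper17.BGTool

open Cfsg.Agent.Lib.Helper17
open Cfsg.Agent.Lib.Helper8 (mem_map_conj)

variable {G : Type*} [Group G]

/-- every subgroup of a finite nilpotent group is subnormal. -/
theorem isSubnormal_of_isNilpotent {P : Type*} [Group P] [Finite P] [Group.IsNilpotent P]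
    (H : Subgroup P) : H.IsSubnormal := by
  classical
  have hNC : NormalizerCondition P := Group.normalizerCondition_of_isNilpotent
  induction H using WellFoundedGT.induction with
  | ind H ih =>
    by_cases hH : H = ⊤
    · rw [hH]; exact Subgroup.IsSubnormal.top
    · have hlt : H < Subgroup.normalizer (H : Set P) := hNC H (lt_top_iff_ne_top.mpr hH)
      exact Subgroup.IsSubnormal.step H _ Subgroup.le_normalizer (ih _ hlt)
        Subgroup.normal_in_normalizer

/-- The derived group of the normalizer of a narrow `q`-subgroup `R` of a group of odd order acts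
on `R` as a `q`-group. -/
theorem commutator_normalizer_pow_mem_centralizer [Finite G] (hodd : Odd (Nat.card G))
    (q : ℕ) [Fact q.Prime] (hq2 : q ≠ 2) (R : Subgroup G) (hR : IsPGroup q R)
    (hn : Cfsg.IsNarrow q R) :
    ∀ x ∈ ⁅Subgroup.normalizer (R : Set G), Subgroup.normalizer (R : Set G)⁆, ∃ k : ℕ,
      x ^ (q ^ k) ∈ Subgroup.centralizer (R : Set G) := by
  classical
  obtain ⟨N, hN⟩ : ∃ N : Subgroup G, N = Subgroup.normalizer (R : Set G) := ⟨_, rfl⟩
  obtain ⟨g, hg⟩ : ∃ g : N →* MulAut R, ∀ (n : N) (r : R), ((g n r : R) : G) = n * r * (n : G)⁻¹ := by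
    subst hN
    exact ⟨R.normalizerMonoidHom, fun n r => rfl⟩
  have hker : ∀ n : N, g n = 1 → (n : G) ∈ Subgroup.centralizer (R : Set G) := by
    intro n hn'
    rw [Subgroup.mem_centralizer_iff]
    intro r hr
    have h1 := hg n ⟨r, hr⟩
    rw [hn', MulAut.one_apply] at h1
    change r = n * r * (n : G)⁻¹ at h1
    calc r * n = n * r * (n : G)⁻¹ * n := by rw [← h1]
      _ = n * r := by group
  -- the image of `N` in `Aut R`
  obtain ⟨B, hB⟩ : ∃ B : Subgroup (MulAut R), B = g.range := ⟨_, rfl⟩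
  have hBodd : Odd (Nat.card B) := by
    have h1 : Nat.card B ∣ Nat.card N := by
      rw [hB]; exact Subgroup.card_range_dvd g
    have h2 : Nat.card N ∣ Nat.card G := Subgroup.card_subgroup_dvd_card N
    exact Odd.of_dvd_nat hodd (h1.trans h2)
  have hBB : ∀ β ∈ ⁅B, B⁆, ∃ k : ℕ, β ^ (q ^ k) = 1 := by
    by_cases hr : Cfsg.PRankLE q 2 R
    · exact (odd_aut_rank_two q hq2 hR hr B hBodd).1
    · obtain ⟨K, hK1, -, hK3⟩ := Narrow.narrow_aut hq2 hR hr hn
      intro β hβ
      apply hK3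
      have : ⁅B, B⁆ ≤ K := by
        rw [Subgroup.commutator_le]
        intro a _ b _
        rw [commutatorElement_def]
        exact hK1 a b
      exact this hβ
  -- the derived group of `N` maps into `⁅B, B⁆`
  have hle : ⁅N, N⁆ ≤ (Subgroup.comap g ⁅B, B⁆).map N.subtype := by
    rw [Subgroup.commutator_le]
    intro a ha b hb
    refine ⟨⁅(⟨a, ha⟩ : N), ⟨b, hb⟩⁆, ?_, rfl⟩
    change g ⁅(⟨a, ha⟩ : N), ⟨b, hb⟩⁆ ∈ ⁅B, B⁆
    rw [map_commutatorElement]
    apply Subgroup.commutator_mem_commutator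
    · rw [hB]; exact ⟨_, rfl⟩
    · rw [hB]; exact ⟨_, rfl⟩
  intro x hx
  rw [← hN] at hx
  obtain ⟨y, hy, rfl⟩ := hle hx
  obtain ⟨k, hk⟩ := hBB _ hy
  refine ⟨k, ?_⟩
  rw [← map_pow] at hk
  have := hker _ hk
  simpa using this

/-- a `p`-subgroup of `N(R)'` centralizes the narrow `q`-group `R` (`q ≠ p`). -/
theorem le_centralizer_of_le_commutator_normalizer [Finite G] (hodd : Odd (Nat.card G))
    (p q : ℕ) [Fact p.Prime] [Fact q.Prime] (hq2 : q ≠ 2) (hqp : q ≠ p)
    (R : Subgroup G) (hR : IsPGroup q R) (hn : Cfsg.IsNarrow q R)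
    (P : Subgroup G) (hP : IsPGroup p P)
    (hPN : P ≤ ⁅Subgroup.normalizer (R : Set G), Subgroup.normalizer (R : Set G)⁆) :
    P ≤ Subgroup.centralizer (R : Set G) := by
  intro x hx
  obtain ⟨k, hk⟩ := commutator_normalizer_pow_mem_centralizer hodd q hq2 R hR hn x (hPN hx)
  obtain ⟨j, hj⟩ := hP ⟨x, hx⟩
  have hj' : x ^ (p ^ j) = 1 := by
    have := congrArg Subtype.val hj
    simpa using this
  have hcop : Nat.Coprime (q ^ k) (p ^ j) := by
    apply Nat.Coprime.pow
    exact (Nat.coprime_primes Fact.out Fact.out).mpr hqp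
  -- `x` is a power of `x ^ (q ^ k)`
  have hord : orderOf x ∣ p ^ j := orderOf_dvd_of_pow_eq_one hj'
  have hcop' : Nat.Coprime (q ^ k) (orderOf x) := Nat.Coprime.coprime_dvd_right hord hcop
  obtain ⟨m, hm⟩ := exists_pow_eq_self_of_coprime hcop'
  rw [← hm]
  exact Subgroup.pow_mem _ hk m


/-- **TOOL (*)** (helper19).  Let `A` be a noncyclic abelian `p`-subgroup satisfying the transitivity
hypothesis, `q ≠ p` a prime dividing `|C_G(A)|`, such that every maximal `A`-invariant `q`-subgroup is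
narrow.  Assume that every Sylow `p`-subgroup of `G` lies in the derived group of its normalizer
(B&G 10.7, S1411).  Then `A` centralizes every `A`-invariant `q`-subgroup of `G`. -/
theorem centralizes_invariant [Finite G] (hG : Cfsg.IsMinSimpleOddOrder G) (p : ℕ) [Fact p.Prime]
    (A : Subgroup G) (hA : Cfsg.TransitivityHypothesis A) (hAp : IsPGroup p A)
    (hrk : ¬ Cfsg.RankLE 1 ↥(A ⊓ Subgroup.centralizer (A : Set G)))
    (q : ℕ) (hq : q.Prime) (hqp : q ≠ p)
    (hqC : q ∣ Nat.card (Subgroup.centralizer (A : Set G)))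
    (h1411 : ∀ P : Sylow p G, (P : Subgroup G) ≤
      ⁅Subgroup.normalizer ((P : Subgroup G) : Set G), Subgroup.normalizer ((P : Subgroup G) : Set G)⁆)
    (hnar : ∀ Q ∈ Cfsg.maxInvSubgroups ⊤ A {q}, Cfsg.IsNarrow q Q) :
    ∀ D : Subgroup G, IsPGroup q D → A ≤ Subgroup.normalizer (D : Set G) →
      D ≤ Subgroup.centralizer (A : Set G) := by
  classical
  haveI : Fact q.Prime := ⟨hq⟩
  have hpp : p.Prime := Fact.out
  haveI : IsSimpleGroup G := hG.2.1
  have hodd : Odd (Nat.card G) := hG.1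
  have hq2 : q ≠ 2 := by
    rintro rfl
    have h1 : 2 ∣ Nat.card G := hqC.trans (Subgroup.card_subgroup_dvd_card _)
    exact (Nat.not_even_iff_odd.mpr hodd) (even_iff_two_dvd.mpr h1)
  have hA1 : A ≠ ⊥ := hA.1
  have hpA : p ∣ Nat.card A := by
    obtain ⟨k, hk⟩ := IsPGroup.iff_card.mp hAp
    rcases Nat.eq_zero_or_pos k with rfl | hk0
    · exfalso
      apply hA1
      rw [pow_zero] at hk
      exact Subgroup.card_eq_one.mp hk
    · rw [hk]; exact dvd_pow_self p hk0.ne'
  have hqA : ¬ q ∣ Nat.card A := by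
    obtain ⟨k, hk⟩ := IsPGroup.iff_card.mp hAp
    rw [hk]
    intro h
    exact hqp ((Nat.prime_dvd_prime_iff_eq hq hpp).1 (hq.dvd_of_dvd_pow h))
  have htr := Cfsg.Agent.S1394.result hG A hA hrk q hq hqA hqC
  -- a Sylow `p`-subgroup containing `A`
  obtain ⟨P, hAP⟩ := IsPGroup.exists_le_sylow hAp
  have hP1 : (P : Subgroup G) ≠ ⊤ := by
    intro h
    -- `G` would be a `p`-group, hence nilpotent, hence (simple) abelian
    have hGp : IsPGroup p G := by
      have := P.isPGroup'
      rw [h] at this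
      exact IsPGroup.of_equiv this Subgroup.topEquiv
    haveI : Nontrivial G := IsSimpleGroup.toNontrivial
    haveI := hGp.center_nontrivial
    have hcen : Subgroup.center G = ⊤ :=
      (Subgroup.Normal.eq_bot_or_eq_top (inferInstance : (Subgroup.center G).Normal)).resolve_left
        (Subgroup.nontrivial_iff_ne_bot _ |>.mp inferInstance)
    apply hG.2.2.1
    refine ⟨⟨fun a b => ?_⟩⟩
    have hb : b ∈ Subgroup.center G := by rw [hcen]; trivial
    exact (Subgroup.mem_center_iff.mp hb a)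
  have hPπ : ∀ r : ℕ, r.Prime → r ∣ Nat.card (P : Subgroup G) → r ∣ Nat.card A := by
    intro r hr hdvd
    obtain ⟨k, hk⟩ := IsPGroup.iff_card.mp P.isPGroup'
    rw [hk] at hdvd
    have : r = p := (Nat.prime_dvd_prime_iff_eq hr hpp).1 (hr.dvd_of_dvd_pow hdvd)
    rw [this]; exact hpA
  have hsn : (A.subgroupOf (P : Subgroup G)).IsSubnormal := by
    haveI : Group.IsNilpotent (P : Subgroup G) := P.isPGroup'.isNilpotent
    exact isSubnormal_of_isNilpotent _
  obtain ⟨-, -, hc, hd⟩ := Cfsg.Agent.S1395.result hG A hA q hq hqA (P : Subgroup G) hP1 hPπ hAP hsn htr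
  -- a maximal `P`-invariant `q`-subgroup
  obtain ⟨Q, hQ, -⟩ := exists_maxInv_ge (bot_mem_invSubgroups (P : Subgroup G) {q})
  have hQA : Q ∈ Cfsg.maxInvSubgroups ⊤ A {q} := hc hQ
  have hQq : IsPGroup q Q := ((mem_invq_iff hq).1 hQ.1).1
  have hPN : (P : Subgroup G) ≤
      ⁅Subgroup.normalizer (Q : Set G), Subgroup.normalizer (Q : Set G)⁆ :=
    (le_inf le_rfl (h1411 P)).trans (hd Q hQ).1
  have hPC : (P : Subgroup G) ≤ Subgroup.centralizer (Q : Set G) :=
    le_centralizer_of_le_commutator_normalizer hodd p q hq2 hqp Q hQq (hnar Q hQA) _ P.isPGroup' hPN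
  -- transfer to an arbitrary invariant subgroup
  intro D hD hAD
  obtain ⟨Q₁, hQ₁, hDQ₁⟩ := exists_maxInv_ge ((mem_invq_iff hq).2 ⟨hD, hAD⟩)
  obtain ⟨k, hk, rfl⟩ := htr Q hQA Q₁ hQ₁
  have hkC : k ∈ Subgroup.centralizer (A : Set G) := bgK_le_centralizer A hk
  intro d hd
  have hx : k⁻¹ * d * k ∈ Q := (mem_map_conj).1 (hDQ₁ hd)
  obtain ⟨x, hxdef⟩ : ∃ x, x = k⁻¹ * d * k := ⟨_, rfl⟩
  rw [← hxdef] at hx
  have hdx : d = k * x * k⁻¹ := by rw [hxdef]; group
  rw [hdx]
  rw [Subgroup.mem_centralizer_iff]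
  intro a ha
  have h1 : a * x = x * a := by
    have := hPC (hAP ha)
    rw [Subgroup.mem_centralizer_iff] at this
    exact (this x hx).symm
  have h2 : a * k = k * a := by
    rw [Subgroup.mem_centralizer_iff] at hkC
    exact hkC a ha
  have h3 : a * k⁻¹ = k⁻¹ * a := by
    calc a * k⁻¹ = k⁻¹ * (k * a) * k⁻¹ := by group
      _ = k⁻¹ * (a * k) * k⁻¹ := by rw [h2]
      _ = k⁻¹ * a := by group
  calc a * (k * x * k⁻¹) = (a * k) * x * k⁻¹ := by group
    _ = k * (a * x) * k⁻¹ := by rw [h2]; group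
    _ = k * x * (a * k⁻¹) := by rw [h1]; group
    _ = k * x * k⁻¹ * a := by rw [h3]; group

end Cfsg.Agent.Lib.Helper17.BGTool
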