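/-
Helper lemmas (helper17): B&G sections 11-12 tool, part B.
A maximal `A`-invariant `q`-subgroup of rank at least three (`A` a `p`-group, `p` not ideal) is a
Sylow `q`-subgroup of `G`; hence maximal `A`-invariant `q`-subgroups are narrow when `q` is not ideal.
Final form of TOOL (*): `centralizes_invariant'`.
-/
import Mathlib
import Cfsg.Prelude.Def_OddOrderLocal
import Cfsg.Agent.Lib.Helper17.BGToolA
import Cfsg.Agent.Lib.Helper17.NarrowF
import Cfsg.Agent.Lib.Helper24.BGBeta3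
import Cfsg.Agent.Lib.Helper24.BGTen3
import Cfsg.Agent.S1403
import Cfsg.Agent.S1405
import Cfsg.Agent.S1350
import Cfsg.Agent.S1410
import Cfsg.Agent.S1414

set_option autoImplicit false

namespace Cfsg.Agent.Lib.Helper17.BGTool

open Cfsg.Agent.Lib.Helper17

universe u

variable {G : Type u} [Group G]

/-- conjugation by an element of the normalizer, as an automorphism of the subgroup. -/
def conjNormalizerAut (Q : Subgroup G) (n : G)
    (hn : n ∈ Subgroup.normalizer (Q : Set G)) : Q ≃* Q where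
  toFun q := ⟨n * q * n⁻¹, (Subgroup.mem_normalizer_iff.mp hn q).mp q.2⟩
  invFun q := ⟨n⁻¹ * q * n, by
    have := (Subgroup.mem_normalizer_iff''.mp hn q).mp q.2
    exact this⟩
  left_inv q := by
    apply Subtype.ext
    simp only []
    group
  right_inv q := by
    apply Subtype.ext
    simp only []
    group
  map_mul' a b := by
    apply Subtype.ext
    simp only [Subgroup.coe_mul]
    group

/-- the image of a characteristic subgroup of `Q` is normalized by the normalizer of `Q`. -/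
theorem normalizer_le_normalizer_map_of_char (Q : Subgroup G) (X : Subgroup Q)
    [hX : X.Characteristic] :
    Subgroup.normalizer (Q : Set G) ≤ Subgroup.normalizer ((X.map Q.subtype : Subgroup G) : Set G) := by
  have key : ∀ n ∈ Subgroup.normalizer (Q : Set G), ∀ g ∈ X.map Q.subtype,
      n * g * n⁻¹ ∈ X.map Q.subtype := by
    rintro n hn _ ⟨x, hx, rfl⟩
    have h1 := Subgroup.characteristic_iff_le_comap.mp hX (conjNormalizerAut Q n hn)
    have h2 := h1 hx
    exact ⟨conjNormalizerAut Q n hn x, h2, rfl⟩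
  intro n hn
  rw [Subgroup.mem_normalizer_iff]
  intro g
  constructor
  · exact key n hn g
  · intro h
    have := key n⁻¹ (Subgroup.inv_mem _ hn) _ h
    have e : n⁻¹ * (n * g * n⁻¹) * n⁻¹⁻¹ = g := by group
    rwa [e] at this

/-- a `q`-subgroup of `L` lies in every normal subgroup `N` of `L` with `q ∤ |L : N|`. -/
theorem le_of_not_dvd_relIndex [Finite G] {L N Q : Subgroup G} (hNL : N ≤ L)
    (hLN : L ≤ Subgroup.normalizer (N : Set G)) (q : ℕ) [Fact q.Prime]
    (hq : ¬ q ∣ N.relIndex L) (hQL : Q ≤ L) (hQ : IsPGroup q Q) : Q ≤ N := by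
  have hqq : q.Prime := Fact.out
  haveI hKn : (N.subgroupOf L).Normal :=
    (Subgroup.normal_subgroupOf_iff_le_normalizer hNL).mpr hLN
  have hQ' : IsPGroup q ↥(Q.subgroupOf L) := hQ.comap_subtype
  have key : Q.subgroupOf L ≤ N.subgroupOf L := by
    rw [← Subgroup.relIndex_eq_one]
    have h1 : (N.subgroupOf L).relIndex (Q.subgroupOf L) ∣ (N.subgroupOf L).index :=
      Subgroup.relIndex_dvd_index_of_normal _ _
    obtain ⟨j, hj⟩ := IsPGroup.iff_card.mp hQ'
    have h2 : (N.subgroupOf L).relIndex (Q.subgroupOf L) ∣ q ^ j := by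
      rw [← hj]; exact Subgroup.relIndex_dvd_card _ _
    have hcop : Nat.Coprime (N.subgroupOf L).index (q ^ j) := by
      apply Nat.Coprime.pow_right
      exact ((Nat.Prime.coprime_iff_not_dvd hqq).mpr hq).symm
    exact Nat.eq_one_of_dvd_coprimes hcop h1 h2
  intro x hx
  have : (⟨x, hQL hx⟩ : L) ∈ N.subgroupOf L := key (Subgroup.mem_subgroupOf.mpr hx)
  exact Subgroup.mem_subgroupOf.mp this

/-- a minimal simple group is not a `q`-group. -/
theorem not_isPGroup_top [Finite G] (hG : Cfsg.IsMinSimpleOddOrder G) (q : ℕ) [Fact q.Prime] :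
    ¬ IsPGroup q G := by
  intro hGp
  haveI : IsSimpleGroup G := hG.2.1
  haveI : Nontrivial G := IsSimpleGroup.toNontrivial
  haveI := hGp.center_nontrivial
  have hcen : Subgroup.center G = ⊤ :=
    (Subgroup.Normal.eq_bot_or_eq_top (inferInstance : (Subgroup.center G).Normal)).resolve_left
      (Subgroup.nontrivial_iff_ne_bot _ |>.mp inferInstance)
  apply hG.2.2.1
  refine ⟨⟨fun a b => ?_⟩⟩
  have hb : b ∈ Subgroup.center G := by rw [hcen]; trivial
  exact (Subgroup.mem_center_iff.mp hb a)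

/-- the normalizer of a nontrivial proper subgroup is proper. -/
theorem normalizer_ne_top [Finite G] (hG : Cfsg.IsMinSimpleOddOrder G) {Q : Subgroup G}
    (h1 : Q ≠ ⊥) (h2 : Q ≠ ⊤) : Subgroup.normalizer (Q : Set G) ≠ ⊤ := by
  intro h
  haveI : IsSimpleGroup G := hG.2.1
  have hn : Q.Normal := Subgroup.normalizer_eq_top_iff.mp h
  rcases hn.eq_bot_or_eq_top with h' | h'
  · exact h1 h'
  · exact h2 h'


/-- **Key step.** A maximal `A`-invariant `q`-subgroup `Q` of rank at least three (`A` a `p`-group,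
`p ≠ q` not ideal) is a Sylow `q`-subgroup of `G`. -/
theorem not_dvd_index_of_maxInv [Finite G] (hG : Cfsg.IsMinSimpleOddOrder G) (p q : ℕ)
    [Fact p.Prime] [Fact q.Prime] (hqp : q ≠ p) (A : Subgroup G) (hAp : IsPGroup p A)
    (hpi : ¬ Cfsg.IsIdealPrime p G)
    (Q : Subgroup G) (hQ : Q ∈ Cfsg.maxInvSubgroups ⊤ A {q}) (hr : ¬ Cfsg.PRankLE q 2 Q) :
    ¬ q ∣ Q.index := by
  classical
  have hqq : q.Prime := Fact.out
  have hpp : p.Prime := Fact.out
  have hU : Cfsg.Agent.Lib.Helper1.BGX.UT G :=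
    fun K hK hK2 hK3 => Cfsg.Agent.S1403.result hG K hK hK2 hK3
  have hQq : IsPGroup q Q := ((mem_invq_iff hqq).1 hQ.1).1
  have hAQ : A ≤ Subgroup.normalizer (Q : Set G) := ((mem_invq_iff hqq).1 hQ.1).2
  have hQtop : Q ≠ ⊤ := by
    intro h
    apply not_isPGroup_top hG q
    rw [h] at hQq
    exact IsPGroup.of_equiv hQq Subgroup.topEquiv
  have hQbot : Q ≠ ⊥ := by
    intro h
    apply hr
    intro B _ _
    have h1 : Nat.card B ≤ Nat.card Q := Subgroup.card_le_card_group B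
    have h2 : Nat.card Q = 1 := by rw [h, Subgroup.card_bot]
    rw [h2] at h1
    exact h1.trans (Nat.one_le_pow _ _ hqq.pos)
  have hrk2 : ¬ Cfsg.RankLE 2 Q := fun h => hr (h q hqq)
  have hrk1 : ¬ Cfsg.RankLE 1 Q := fun h =>
    hr (Cfsg.Agent.Lib.Helper1.BGX.pRankLE_mono hqq.pos (by norm_num) (h q hqq))
  obtain ⟨L, ⟨hL, hQL⟩, huniq⟩ := Cfsg.Agent.S1403.result hG Q hQtop hrk1 (Or.inl hrk2)
  have hNQ : Subgroup.normalizer (Q : Set G) ≤ L := by
    obtain ⟨L', hL', hNL'⟩ := BGU.exists_coatom_ge (normalizer_ne_top hG hQbot hQtop)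
    have := huniq L' ⟨hL', Subgroup.le_normalizer.trans hNL'⟩
    rw [← this]; exact hNL'
  have hAL : A ≤ L := hAQ.trans hNQ
  have hα : q ∈ Cfsg.alpha L :=
    ⟨hqq, fun h => hr (Narrow.pRankLE_of_injective (Subgroup.inclusion hQL)
      (Subgroup.inclusion_injective hQL) h)⟩
  have hσ : q ∈ Cfsg.sigma L := Cfsg.Agent.Lib.Helper1.BGX.alpha_subset_sigma hG hU hL hα
  obtain ⟨hH1, hH2, -⟩ := Cfsg.Agent.S1350.result hG L hL
  have hLσn : L ≤ Subgroup.normalizer ((Cfsg.sigmaCore L : Subgroup G) : Set G) :=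
    le_normalizer_piCoreOf L
  have hQσ : Q ≤ Cfsg.sigmaCore L :=
    le_of_not_dvd_relIndex hH1.1 hLσn q (hH1.2.2 q hqq hσ) hQL hQq
  -- the `A`-invariant `p'`-subgroup `X`
  obtain ⟨X, hAX, hcop, hQX, hXidx⟩ : ∃ X : Subgroup G,
      A ≤ Subgroup.normalizer (X : Set G) ∧ (Nat.card A).Coprime (Nat.card X) ∧ Q ≤ X ∧
        ¬ q ∣ X.index := by
    obtain ⟨j, hj⟩ := IsPGroup.iff_card.mp hAp
    by_cases hpσ : p ∈ Cfsg.sigma L
    · have hpβ : p ∉ Cfsg.beta L := fun h => hpi h.2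
      obtain ⟨-, -, -, -, h5⟩ := Cfsg.Agent.S1414.result hG L hL
      obtain ⟨-, hnpc, -⟩ := h5 p hpp hpσ.2.1 hpβ
      obtain ⟨k, hk⟩ := Cfsg.Agent.Lib.Helper24.BGBeta.exists_pow_index_pPrimeCore hnpc
      haveI hchar := Cfsg.Agent.Lib.Helper12.pPrimeCore_characteristic (G := ↥(Cfsg.sigmaCore L)) p
      refine ⟨(Cfsg.pPrimeCore p ↥(Cfsg.sigmaCore L)).map (Cfsg.sigmaCore L).subtype, ?_, ?_, ?_, ?_⟩
      · exact (hAL.trans hLσn).trans (normalizer_le_normalizer_map_of_char _ _)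
      · rw [Subgroup.card_map_of_injective (Subgroup.subtype_injective _), hj]
        exact Nat.Coprime.pow_left j (Cfsg.Agent.Lib.Helper12.pPrimeCore_coprime p).symm
      · have h1 := Cfsg.Agent.Lib.Helper24.BGBeta.le_of_index_pow hpp hqq (Ne.symm hqp)
          (Cfsg.pPrimeCore p ↥(Cfsg.sigmaCore L)) hk (Q.subgroupOf (Cfsg.sigmaCore L))
          hQq.comap_subtype
        intro x hx
        exact ⟨⟨x, hQσ hx⟩, h1 (Subgroup.mem_subgroupOf.mpr hx), rfl⟩
      · rw [Subgroup.index_map_subtype, hk]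
        intro h
        rcases (Nat.Prime.dvd_mul hqq).1 h with h | h
        · exact hqp ((Nat.prime_dvd_prime_iff_eq hqq hpp).1 (hqq.dvd_of_dvd_pow h))
        · exact hH2.2 q hqq hσ h
    · refine ⟨Cfsg.sigmaCore L, hAL.trans hLσn, ?_, hQσ, hH2.2 q hqq hσ⟩
      rw [hj]
      apply Nat.Coprime.pow_left
      rw [Nat.Prime.coprime_iff_not_dvd hpp]
      intro h
      exact hpσ (hH1.2.1 p hpp h)
  -- an `A`-invariant Sylow `q`-subgroup of `X` containing `Q`
  have hAsolv : Group.IsSolvable A := by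
    haveI : Group.IsNilpotent A := hAp.isNilpotent
    infer_instance
  obtain ⟨P, hQP, hAP⟩ := Cfsg.Agent.S0025.result A X hAX hcop (Or.inl hAsolv) q Q hQX hQq hAQ
  have hPQ : (P : Subgroup X).map X.subtype = Q :=
    hQ.2 _ ((mem_invq_iff hqq).2 ⟨P.isPGroup'.map _, hAP⟩) hQP
  rw [← hPQ, Subgroup.index_map_subtype]
  exact Nat.Prime.not_dvd_mul hqq P.not_dvd_index hXidx


/-- maximal `A`-invariant `q`-subgroups are narrow when `p` and `q` are not ideal. -/
theorem narrow_of_maxInv [Finite G] (hG : Cfsg.IsMinSimpleOddOrder G) (p q : ℕ)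
    [Fact p.Prime] [Fact q.Prime] (hqp : q ≠ p) (A : Subgroup G) (hAp : IsPGroup p A)
    (hpi : ¬ Cfsg.IsIdealPrime p G) (hqi : ¬ Cfsg.IsIdealPrime q G) :
    ∀ Q ∈ Cfsg.maxInvSubgroups ⊤ A {q}, Cfsg.IsNarrow q Q := by
  classical
  intro Q hQ
  have hqq : q.Prime := Fact.out
  by_cases hr : Cfsg.PRankLE q 2 Q
  · exact Or.inl hr
  have hidx := not_dvd_index_of_maxInv hG p q hqp A hAp hpi Q hQ hr
  have hQq : IsPGroup q Q := ((mem_invq_iff hqq).1 hQ.1).1
  obtain ⟨S, hS⟩ : ∃ S : Sylow q G, (S : Subgroup G) = Q := ⟨hQq.toSylow hidx, rfl⟩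
  have hrG : ¬ Cfsg.PRankLE q 2 G :=
    fun h => hr (Cfsg.Agent.Lib.Helper1.BGX.pRankLE_subgroup h Q)
  obtain ⟨P, hP⟩ := Cfsg.Agent.Lib.Helper24.BGBeta.exists_of_not_ideal hqq hrG hqi
  have hq2 : q ≠ 2 := by
    apply Cfsg.Agent.Lib.Helper1.BGX.ne_two_of_dvd hG.1
    have h1 : q ∣ Nat.card Q := by
      obtain ⟨k, hk⟩ := IsPGroup.iff_card.mp hQq
      rcases Nat.eq_zero_or_pos k with rfl | hk0
      · exfalso
        apply hr
        intro B _ _
        have h1 : Nat.card B ≤ Nat.card Q := Subgroup.card_le_card_group B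
        rw [hk, pow_zero] at h1
        exact h1.trans (Nat.one_le_pow _ _ hqq.pos)
      · rw [hk]; exact dvd_pow_self q hk0.ne'
    exact h1.trans (Subgroup.card_subgroup_dvd_card Q)
  subst hS
  obtain ⟨E, hE, hE2, hEmax⟩ := hP.of_equiv (Sylow.equiv P S)
  exact Cfsg.Agent.Lib.Helper24.BGBeta.narrow_of_maximal_sq q hq2 S.isPGroup' E hE hE2 hEmax

/-- **TOOL (*), final form.**  Let `A` be a noncyclic abelian `p`-subgroup satisfying the transitivity
hypothesis, `q ≠ p` a prime dividing `|C_G(A)|`, with neither `p` nor `q` ideal.  Then `A`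
centralizes every `A`-invariant `q`-subgroup of `G`. -/
theorem centralizes_invariant' [Finite G] (hG : Cfsg.IsMinSimpleOddOrder G) (p : ℕ) [Fact p.Prime]
    (A : Subgroup G) (hA : Cfsg.TransitivityHypothesis A) (hAp : IsPGroup p A)
    (hrk : ¬ Cfsg.RankLE 1 ↥(A ⊓ Subgroup.centralizer (A : Set G)))
    (q : ℕ) (hq : q.Prime) (hqp : q ≠ p)
    (hqC : q ∣ Nat.card (Subgroup.centralizer (A : Set G)))
    (hpi : ¬ Cfsg.IsIdealPrime p G) (hqi : ¬ Cfsg.IsIdealPrime q G) :
    ∀ D : Subgroup G, IsPGroup q D → A ≤ Subgroup.normalizer (D : Set G) →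
      D ≤ Subgroup.centralizer (A : Set G) := by
  haveI : Fact q.Prime := ⟨hq⟩
  have h : Cfsg.Agent.Lib.Helper24.BGTen.Hyp p G :=
    ⟨hG.2.1, hG.2.2.1, fun H hH => Cfsg.Agent.S1410.result hG p H hH⟩
  exact centralizes_invariant hG p A hA hAp hrk q hq hqp hqC
    (fun P => Cfsg.Agent.Lib.Helper24.BGTen.sylow_le_derived_normalizer h P)
    (narrow_of_maxInv hG p q hqp A hAp hpi hqi)

end Cfsg.Agent.Lib.Helper17.BGTool
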