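/-
helper17: generic lemmas for "Theorem R2" (notes/bg14/NOTES_h20.md sec. 8).
* `mem_commutator_of_centralized`: coprime action with `P = [P, V]`: `C_P(V) ≤ P'`.
* `le_normalizer_inf_centralizer_singleton`: if `V' ≤ C(P)` then `V` normalizes `C_P(k)` for `k ∈ V`.
-/
import Mathlib
import Cfsg.Prelude.Def_OddOrderLocal
import Cfsg.Agent.Lib.Helper17.BGToolB
import Cfsg.Agent.Lib.Helper17.BGExF1
import Cfsg.Agent.Lib.Helper1.Coprime
import Cfsg.Agent.Lib.Helper4.Basic
import Cfsg.Agent.Lib.Helper8.Conj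
import Cfsg.Agent.Lib.Helper9.Cyclic
import Cfsg.Agent.Lib.Helper23.BGY1

set_option autoImplicit false
set_option linter.style.haveILetI false

namespace Cfsg.Agent.Lib.Helper17.BGR2

open Cfsg.Agent.Lib.Helper17
open scoped commutatorElement

universe u

variable {G : Type u} [Group G]

/-- **Averaging lemma.**  `V` acts coprimely on `P` (inside `G`) with `P = [P, V]`.
Then every element of `P` centralized by `V` lies in the derived subgroup `[P, P]`. -/
theorem mem_commutator_of_centralized [Finite G] {P V : Subgroup G}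
    (hVP : V ≤ Subgroup.normalizer (P : Set G)) (hcop : (Nat.card P).Coprime (Nat.card V))
    (hPV : P = ⁅P, V⁆) {u : G} (huP : u ∈ P) (huV : ∀ v ∈ V, v * u = u * v) :
    u ∈ ⁅P, P⁆ := by
  classical
  haveI : Fintype ↥V := Fintype.ofFinite _
  -- conjugation by `v ∈ V` as an automorphism of `P`
  let c : ↥V → (↥P ≃* ↥P) := fun v => BGTool.conjNormalizerAut P (v : G) (hVP v.2)
  have hc : ∀ (v : ↥V) (x : ↥P), ((c v x : ↥P) : G) = (v : G) * x * (v : G)⁻¹ := fun v x => rfl
  let f : ↥P →* Abelianization ↥P := Abelianization.of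
  let F : ↥P →* Abelianization ↥P := ∏ v : ↥V, f.comp (c v).toMonoidHom
  have hF : ∀ x : ↥P, F x = ∏ v : ↥V, f (c v x) := by
    intro x
    simp only [F, MonoidHom.finsetProd_apply, MonoidHom.comp_apply, MulEquiv.coe_toMonoidHom]
  -- `F` is invariant under `V`
  have hFinv : ∀ (w : ↥V) (x : ↥P), F (c w x) = F x := by
    intro w x
    rw [hF, hF]
    apply Fintype.prod_equiv (Equiv.mulRight w)
    intro v
    have : c v (c w x) = c (v * w) x := by
      apply Subtype.ext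
      rw [hc, hc, hc]
      simp only [Subgroup.coe_mul, mul_inv_rev]
      group
    rw [this]
    rfl
  -- `F` kills `[P, V] = P`
  have hker : ⁅P, V⁆ ≤ F.ker.map P.subtype := by
    rw [Subgroup.commutator_le]
    intro x hx w hw
    have hxw : ⁅x, w⁆ = x * (w * x⁻¹ * w⁻¹) := by rw [commutatorElement_def]; group
    have hmem : (⟨x, hx⟩ : ↥P) * (c ⟨w, hw⟩ ⟨x, hx⟩)⁻¹ ∈ F.ker := by
      rw [MonoidHom.mem_ker, map_mul, map_inv, hFinv, mul_inv_cancel]
    refine ⟨_, hmem, ?_⟩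
    rw [hxw]
    simp only [Subgroup.subtype_apply, Subgroup.coe_mul, Subgroup.coe_inv, hc, mul_inv_rev, inv_inv]
    group
  have hFu : F ⟨u, huP⟩ = 1 := by
    have h1 : u ∈ F.ker.map P.subtype := hker (hPV ▸ huP)
    obtain ⟨y, hy, hyu⟩ := h1
    have : y = ⟨u, huP⟩ := Subtype.ext hyu
    rw [← this]; exact hy
  -- but `F u = f u ^ |V|`
  have hFu' : F ⟨u, huP⟩ = f ⟨u, huP⟩ ^ Nat.card ↥V := by
    rw [hF]
    have : ∀ v : ↥V, f (c v ⟨u, huP⟩) = f ⟨u, huP⟩ := by
      intro v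
      congr 1
      apply Subtype.ext
      rw [hc]
      have := huV v v.2
      simp only
      rw [this, mul_inv_cancel_right]
    rw [Finset.prod_congr rfl (fun v _ => this v), Finset.prod_const, Finset.card_univ,
      Nat.card_eq_fintype_card]
  have h2 : f ⟨u, huP⟩ ^ Nat.card ↥P = 1 := by
    rw [← map_pow, pow_card_eq_one', map_one]
  have h3 : f ⟨u, huP⟩ = 1 := by
    have hV : f ⟨u, huP⟩ ^ Nat.card ↥V = 1 := by rw [← hFu', hFu]
    have hd1 : orderOf (f ⟨u, huP⟩) ∣ Nat.card ↥P := orderOf_dvd_of_pow_eq_one h2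
    have hd2 : orderOf (f ⟨u, huP⟩) ∣ Nat.card ↥V := orderOf_dvd_of_pow_eq_one hV
    have : orderOf (f ⟨u, huP⟩) = 1 := Nat.eq_one_of_dvd_coprimes hcop hd1 hd2
    exact orderOf_eq_one_iff.mp this
  have h4 : (⟨u, huP⟩ : ↥P) ∈ commutator ↥P := by
    rw [← Abelianization.ker_of]
    exact h3
  have h5 : (commutator ↥P).map P.subtype = ⁅P, P⁆ := by
    rw [commutator_def, Subgroup.map_commutator, ← MonoidHom.range_eq_map, Subgroup.range_subtype]
  rw [← h5]
  exact ⟨⟨u, huP⟩, h4, rfl⟩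

/-- The image in `G` of the derived subgroup of `↥P` is `⁅P, P⁆`. -/
theorem map_commutator_subtype (P : Subgroup G) :
    (commutator ↥P).map P.subtype = ⁅P, P⁆ := by
  rw [commutator_def, Subgroup.map_commutator, ← MonoidHom.range_eq_map, Subgroup.range_subtype]

/-- If `V' ≤ C(P)` and `V ≤ N(P)` then `V` normalizes `C_P(k)` for every `k ∈ V`. -/
theorem le_normalizer_inf_centralizer_singleton [Finite G] {P V : Subgroup G}
    (hVP : V ≤ Subgroup.normalizer (P : Set G))
    (hV' : ⁅V, V⁆ ≤ Subgroup.centralizer (P : Set G)) {k : G} (hk : k ∈ V) :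
    V ≤ Subgroup.normalizer ((P ⊓ Subgroup.centralizer ({k} : Set G) : Subgroup G) : Set G) := by
  intro v hv
  apply Cfsg.Agent.Lib.Helper1.mem_normalizer_of_forall_conj_mem
  intro x hx
  have hxP : x ∈ P := hx.1
  have hxk : x ∈ Subgroup.centralizer ({k} : Set G) := hx.2
  rw [Subgroup.mem_centralizer_singleton_iff] at hxk
  refine Subgroup.mem_inf.mpr ⟨(Subgroup.mem_normalizer_iff.mp (hVP hv) x).mp hxP, ?_⟩
  rw [Subgroup.mem_centralizer_singleton_iff]
  -- `c = [k⁻¹, v⁻¹]` centralizes `P`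
  have hc : ⁅k⁻¹, v⁻¹⁆ ∈ Subgroup.centralizer (P : Set G) :=
    hV' (Subgroup.commutator_mem_commutator (V.inv_mem hk) (V.inv_mem hv))
  have hcx : x * ⁅k⁻¹, v⁻¹⁆ = ⁅k⁻¹, v⁻¹⁆ * x := Subgroup.mem_centralizer_iff.mp hc x hxP
  have e1 : v⁻¹ * k * v = k * ⁅k⁻¹, v⁻¹⁆ := by rw [commutatorElement_def]; group
  have e2 : (v⁻¹ * k * v) * x = x * (v⁻¹ * k * v) := by
    rw [e1]
    calc k * ⁅k⁻¹, v⁻¹⁆ * x = k * (⁅k⁻¹, v⁻¹⁆ * x) := by group
      _ = k * (x * ⁅k⁻¹, v⁻¹⁆) := by rw [hcx]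
      _ = (k * x) * ⁅k⁻¹, v⁻¹⁆ := by group
      _ = (x * k) * ⁅k⁻¹, v⁻¹⁆ := by rw [hxk]
      _ = x * (k * ⁅k⁻¹, v⁻¹⁆) := by group
  calc v * x * v⁻¹ * k = v * (x * (v⁻¹ * k * v)) * v⁻¹ := by group
    _ = v * ((v⁻¹ * k * v) * x) * v⁻¹ := by rw [e2]
    _ = k * (v * x * v⁻¹) := by group

/-- A normal subgroup of prime index contains the derived subgroup. -/
theorem commutator_le_of_index_prime {R : Type*} [Group R] (T : Subgroup R) [T.Normal] {p : ℕ}
    (hp : p.Prime) (hT : T.index = p) : commutator R ≤ T := by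
  haveI : Fact p.Prime := ⟨hp⟩
  have hc : Nat.card (R ⧸ T) = p := hT
  haveI : IsCyclic (R ⧸ T) := isCyclic_of_prime_card hc
  apply Subgroup.Normal.quotient_commutative_iff_commutator_le.mp
  exact ⟨⟨fun a b => (IsCyclic.commGroup (α := R ⧸ T)).mul_comm a b⟩⟩

/-- In a group of order `p ^ 3` the derived subgroup is central. -/
theorem commutator_le_center_of_card_cube {R : Type*} [Group R] {p : ℕ} [Fact p.Prime]
    (hR : Nat.card R = p ^ 3) : commutator R ≤ Subgroup.center R := by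
  have hp : p.Prime := Fact.out
  haveI : Finite R := Nat.finite_of_card_ne_zero (hR ▸ pow_ne_zero 3 hp.ne_zero)
  obtain ⟨j, hj0, hj⟩ := IsPGroup.card_center_eq_prime_pow hR (by norm_num)
  have hmul := (Subgroup.center R).card_mul_index
  rw [hj, hR] at hmul
  have hj3 : j ≤ 3 := by
    have hd : p ^ j ∣ p ^ 3 := Dvd.intro _ hmul
    exact (Nat.pow_dvd_pow_iff_le_right hp.one_lt).mp hd
  have hidx : (Subgroup.center R).index = p ^ (3 - j) := by
    have h1 : p ^ j * (Subgroup.center R).index = p ^ j * p ^ (3 - j) := by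
      rw [hmul, ← pow_add, Nat.add_sub_cancel' hj3]
    exact Nat.eq_of_mul_eq_mul_left (pow_pos hp.pos j) h1
  have hc : Nat.card (R ⧸ Subgroup.center R) = p ^ (3 - j) := hidx
  apply Subgroup.Normal.quotient_commutative_iff_commutator_le.mp
  have h3 : 3 - j = 0 ∨ 3 - j = 1 ∨ 3 - j = 2 := by omega
  rcases h3 with h3 | h3 | h3
  · rw [h3, pow_zero] at hc
    haveI : Subsingleton (R ⧸ Subgroup.center R) := (Nat.card_eq_one_iff_unique.mp hc).1
    exact ⟨⟨fun a b => Subsingleton.elim _ _⟩⟩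
  · rw [h3, pow_one] at hc
    haveI : IsCyclic (R ⧸ Subgroup.center R) := isCyclic_of_prime_card hc
    exact ⟨⟨fun a b => (IsCyclic.commGroup (α := R ⧸ Subgroup.center R)).mul_comm a b⟩⟩
  · rw [h3] at hc
    exact IsPGroup.isMulCommutative_of_card_eq_prime_sq hc

/-- Elements `x`, `y` with `x ∈ X`, `y ∈ Y`, `x` normalizing `Y`, `y` normalizing `X` and
`X ∩ Y = 1` commute. -/
theorem commute_of_mem_normalizers {X Y : Subgroup G} {x y : G} (hx : x ∈ X) (hy : y ∈ Y)
    (hxY : x ∈ Subgroup.normalizer (Y : Set G)) (hyX : y ∈ Subgroup.normalizer (X : Set G))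
    (hXY : X ⊓ Y = ⊥) : x * y = y * x := by
  have h1 : ⁅x, y⁆ ∈ Y := by
    rw [commutatorElement_def]
    have := (Subgroup.mem_normalizer_iff.mp hxY y).mp hy
    exact Y.mul_mem this (Y.inv_mem hy)
  have h2 : ⁅x, y⁆ ∈ X := by
    rw [commutatorElement_def]
    have := (Subgroup.mem_normalizer_iff.mp hyX x⁻¹).mp (X.inv_mem hx)
    have e : x * y * x⁻¹ * y⁻¹ = x * (y * x⁻¹ * y⁻¹) := by group
    rw [e]
    exact X.mul_mem hx this
  have h3 : ⁅x, y⁆ ∈ X ⊓ Y := Subgroup.mem_inf.mpr ⟨h2, h1⟩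
  rw [hXY, Subgroup.mem_bot] at h3
  exact commutatorElement_eq_one_iff_mul_comm.mp h3

/-- Subgroups of coprime orders meet trivially. -/
theorem inf_eq_bot_of_coprime' [Finite G] {X Y : Subgroup G}
    (h : (Nat.card X).Coprime (Nat.card Y)) : X ⊓ Y = ⊥ := by
  apply Subgroup.card_eq_one.mp
  exact Nat.eq_one_of_dvd_coprimes h (Subgroup.card_dvd_of_le inf_le_left)
    (Subgroup.card_dvd_of_le inf_le_right)

/-- A subgroup of a cyclic subgroup `C` is normalized by everything normalizing `C`. -/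
theorem le_normalizer_of_le_isCyclic [Finite G] {E C X : Subgroup G} (hC : IsCyclic ↥C)
    (hEC : E ≤ Subgroup.normalizer (C : Set G)) (hXC : X ≤ C) :
    E ≤ Subgroup.normalizer (X : Set G) := by
  intro e he
  rw [Cfsg.Agent.Lib.Helper8.mem_normalizer_iff_map_conj]
  have h1 : X.map (MulAut.conj e).toMonoidHom ≤ C := by
    calc X.map (MulAut.conj e).toMonoidHom ≤ C.map (MulAut.conj e).toMonoidHom :=
          Subgroup.map_mono hXC
      _ = C := Cfsg.Agent.Lib.Helper8.mem_normalizer_iff_map_conj.mp (hEC he)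
  exact Cfsg.Agent.Lib.Helper9.eq_of_card_eq_of_le_isCyclic C _ _ h1 hXC
    (Cfsg.Agent.Lib.Helper8.card_map_conj X e)

theorem commutatorElement_mul_left_of_commute {a b y : G} (hby : Commute b y) :
    ⁅a * b, y⁆ = ⁅a, y⁆ := by
  rw [commutatorElement_def, commutatorElement_def]
  have h1 : b * y * b⁻¹ = y := by rw [hby.eq, mul_inv_cancel_right]
  calc a * b * y * (a * b)⁻¹ * y⁻¹ = a * (b * y * b⁻¹) * a⁻¹ * y⁻¹ := by group
    _ = a * y * a⁻¹ * y⁻¹ := by rw [h1]

theorem commutatorElement_mul_right_of_commute {x a b : G} (hbx : Commute b x) :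
    ⁅x, a * b⁆ = ⁅x, a⁆ := by
  rw [commutatorElement_def, commutatorElement_def]
  have h1 : b * x⁻¹ * b⁻¹ = x⁻¹ := by rw [(hbx.inv_right).eq, mul_inv_cancel_right]
  calc x * (a * b) * x⁻¹ * (a * b)⁻¹ = x * a * (b * x⁻¹ * b⁻¹) * a⁻¹ := by group
    _ = x * a * x⁻¹ * a⁻¹ := by rw [h1]

/-- **Maschke for a line in a plane.**  `A` elementary abelian of order `r ^ 2`, `A₀ ≤ A` of order
`r`, `X` an `r'`-group normalizing both: there is an `X`-invariant complement `B` of order `r`. -/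
theorem exists_invariant_line [Finite G] {r : ℕ} (hr : r.Prime) {A A₀ X : Subgroup G}
    (hAe : Cfsg.IsElementaryAbelian r A) (hA2 : Nat.card A = r ^ 2) (hA₀A : A₀ ≤ A)
    (hA₀ : Nat.card A₀ = r) (hXA : X ≤ Subgroup.normalizer (A : Set G))
    (hXA₀ : X ≤ Subgroup.normalizer (A₀ : Set G)) (hcop : (Nat.card X).Coprime r) :
    ∃ B : Subgroup G, B ≤ A ∧ Nat.card B = r ∧ X ≤ Subgroup.normalizer (B : Set G) ∧
      A₀ ⊓ B = ⊥ ∧ A₀ ⊔ B = A := by
  have hAc : ∀ a ∈ A, ∀ b ∈ A, a * b = b * a := fun a ha b hb => by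
    have := hAe.1.is_comm.comm ⟨a, ha⟩ ⟨b, hb⟩
    exact congrArg Subtype.val this
  have hcop' : (Nat.card X).Coprime (Nat.card A) := by rw [hA2]; exact hcop.pow_right 2
  obtain ⟨B, hBA, hXB, hinf, hsup⟩ :=
    BGExF.exists_invariant_compl_sub X A A₀ r hr hAc hAe.2 hXA hXA₀ hA₀A hcop'
  refine ⟨B, hBA, ?_, hXB, hinf, hsup⟩
  have hBn : B ≤ Subgroup.normalizer (A₀ : Set G) := by
    intro b hb
    apply Cfsg.Agent.Lib.Helper1.mem_normalizer_of_forall_conj_mem
    intro w hw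
    have : b * w * b⁻¹ = w := by rw [hAc b (hBA hb) w (hA₀A hw)]; group
    rw [this]; exact hw
  have hmul := Cfsg.Agent.Lib.Helper4.card_sup_mul_card_inf B A₀ hBn
  rw [sup_comm, hsup, inf_comm, hinf, Subgroup.card_bot, mul_one, hA2, hA₀] at hmul
  have : r * r = Nat.card B * r := by rw [← hmul]; ring
  exact (Nat.eq_of_mul_eq_mul_right hr.pos this).symm

/-- A subgroup `Y ≤ X` of order prime to the index in `X` of `K ⊴ X` lies in `K`. -/
theorem le_of_coprime_relIndex [Finite G] {K X Y : Subgroup G} (hKX : K ≤ X)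
    (hn : X ≤ Subgroup.normalizer (K : Set G)) (hYX : Y ≤ X)
    (h : (Nat.card Y).Coprime (K.relIndex X)) : Y ≤ K := by
  haveI : (K.subgroupOf X).Normal := (Subgroup.normal_subgroupOf_iff_le_normalizer hKX).mpr hn
  have hc : Nat.card (Y.subgroupOf X) = Nat.card Y :=
    Nat.card_congr (Subgroup.subgroupOfEquivOfLe hYX).toEquiv
  have h1 : Y.subgroupOf X ≤ K.subgroupOf X := by
    apply Cfsg.Agent.Lib.Helper23.BGY.le_of_coprime_index_normal
    rw [hc]; exact h
  intro k hk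
  have : (⟨k, hYX hk⟩ : X) ∈ K.subgroupOf X := h1 (Subgroup.mem_subgroupOf.mpr hk)
  exact Subgroup.mem_subgroupOf.mp this

/-- A normal `p`-complement of `X ≤ G`, as a subgroup of `G`: it is normalized by `N_G(X)`, its index
in `X` is a power of `p` and it contains all `p'`-subgroups of `X`. -/
theorem exists_char_pcompl [Finite G] {p : ℕ} [Fact p.Prime] {X : Subgroup G}
    (hc : Cfsg.HasNormalPComplement p ↥X) :
    ∃ K : Subgroup G, K ≤ X ∧
      Subgroup.normalizer (X : Set G) ≤ Subgroup.normalizer (K : Set G) ∧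
      (Nat.card K).Coprime p ∧ (∃ e : ℕ, K.relIndex X = p ^ e) ∧
      ∀ Y : Subgroup G, Y ≤ X → (Nat.card Y).Coprime p → Y ≤ K := by
  have hpp : p.Prime := Fact.out
  obtain ⟨P, N, hNn, hNP⟩ := hc
  obtain ⟨K, hK⟩ : ∃ K : Subgroup G, K = N.map X.subtype := ⟨_, rfl⟩
  have hKX : K ≤ X := by rw [hK]; exact Subgroup.map_subtype_le _
  have hcK : Nat.card K = Nat.card N := by
    rw [hK]; exact Subgroup.card_map_of_injective X.subtype_injective
  have hmul : Nat.card N * Nat.card (P : Subgroup ↥X) = Nat.card ↥X := hNP.card_mul_card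
  have hidx : (P : Subgroup ↥X).index = Nat.card N := hNP.index_eq_card
  have hNcop : (Nat.card N).Coprime p := by
    rw [← hidx, Nat.coprime_comm, hpp.coprime_iff_not_dvd]
    exact P.not_dvd_index
  have hKcop : (Nat.card K).Coprime p := by rw [hcK]; exact hNcop
  have hXK : X ≤ Subgroup.normalizer (K : Set G) := by
    intro x hx
    apply Cfsg.Agent.Lib.Helper1.mem_normalizer_of_forall_conj_mem
    intro k hk
    rw [hK] at hk ⊢
    obtain ⟨n, hn, rfl⟩ := hk
    exact ⟨⟨x, hx⟩ * n * ⟨x, hx⟩⁻¹, hNn.conj_mem n hn _, by simp⟩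
  have hrel : K.relIndex X = Nat.card (P : Subgroup ↥X) := by
    have h1 : K.relIndex X = N.index := by
      unfold Subgroup.relIndex Subgroup.subgroupOf
      rw [hK, Subgroup.comap_map_eq_self_of_injective X.subtype_injective]
    rw [h1]
    have h2 := Subgroup.card_mul_index N
    have hNpos : 0 < Nat.card N := Nat.card_pos
    have : Nat.card N * N.index = Nat.card N * Nat.card (P : Subgroup ↥X) := by rw [h2, hmul]
    exact Nat.eq_of_mul_eq_mul_left hNpos this
  obtain ⟨e, he⟩ := IsPGroup.iff_card.mp P.isPGroup'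
  have hall : ∀ Y : Subgroup G, Y ≤ X → (Nat.card Y).Coprime p → Y ≤ K := by
    intro Y hYX hY
    apply le_of_coprime_relIndex hKX hXK hYX
    rw [hrel, he]
    exact hY.pow_right e
  refine ⟨K, hKX, ?_, hKcop, ⟨e, by rw [hrel, he]⟩, hall⟩
  intro g hg
  apply Cfsg.Agent.Lib.Helper1.mem_normalizer_of_forall_conj_mem
  have hle : K.map (MulAut.conj g).toMonoidHom ≤ K := by
    apply hall
    · rintro _ ⟨k, hk, rfl⟩
      have := (Subgroup.mem_normalizer_iff.mp hg k).mp (hKX hk)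
      simpa using this
    · rw [Subgroup.card_map_of_injective (MulAut.conj g).injective]
      exact hKcop
  intro k hk
  exact hle ⟨k, hk, by simp⟩

end Cfsg.Agent.Lib.Helper17.BGR2
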