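/-
Helper lemmas (helper17) for B&G 11.7, Step 2: a `p`-group acting nontrivially on a `q`-group of rank
at most two (odd order) has `p < q`.
-/
import Mathlib
import Cfsg.Prelude.Def_OddOrderLocal
import Cfsg.Agent.Lib.Helper17.OddAutRank2

set_option autoImplicit false

namespace Cfsg.Agent.Lib.Helper17.BGExF

variable {G : Type*} [Group G]

theorem lt_of_not_le_centralizer [Finite G] (hodd : Odd (Nat.card G)) {p q : ℕ} [Fact p.Prime]
    [Fact q.Prime] (hqp : q ≠ p) (A Q : Subgroup G) (hA : IsPGroup p A) (hQ : IsPGroup q Q)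
    (hr : Cfsg.PRankLE q 2 Q) (hAQ : A ≤ Subgroup.normalizer (Q : Set G))
    (hnc : ¬ Q ≤ Subgroup.centralizer (A : Set G)) : p < q := by
  classical
  have hpp : p.Prime := Fact.out
  have hqq : q.Prime := Fact.out
  obtain ⟨N, hN⟩ : ∃ N : Subgroup G, N = Subgroup.normalizer (Q : Set G) := ⟨_, rfl⟩
  have hAN : A ≤ N := by rw [hN]; exact hAQ
  obtain ⟨g, hg⟩ : ∃ g : N →* MulAut Q, ∀ (n : N) (r : Q), ((g n r : Q) : G) = n * r * (n : G)⁻¹ := by
    subst hN
    exact ⟨Q.normalizerMonoidHom, fun n r => rfl⟩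
  obtain ⟨f, hf⟩ : ∃ f : A →* MulAut Q, f = g.comp (Subgroup.inclusion hAN) := ⟨_, rfl⟩
  obtain ⟨B, hB⟩ : ∃ B : Subgroup (MulAut Q), B = f.range := ⟨_, rfl⟩
  have hBA : Nat.card B ∣ Nat.card A := by rw [hB]; exact Subgroup.card_range_dvd f
  have hBodd : Odd (Nat.card B) :=
    Odd.of_dvd_nat hodd (hBA.trans (Subgroup.card_subgroup_dvd_card A))
  -- `B` is nontrivial
  obtain ⟨x, hxQ, hx⟩ : ∃ x ∈ Q, x ∉ Subgroup.centralizer (A : Set G) := by
    by_contra h
    push Not at h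
    exact hnc (fun x hx => h x hx)
  rw [Subgroup.mem_centralizer_iff] at hx
  push Not at hx
  obtain ⟨a, ha, hax⟩ := hx
  have hfa : f ⟨a, ha⟩ ≠ 1 := by
    intro h
    have h1 := hg (Subgroup.inclusion hAN ⟨a, ha⟩) ⟨x, hxQ⟩
    rw [hf, MonoidHom.comp_apply] at h
    rw [h, MulAut.one_apply] at h1
    change x = a * x * a⁻¹ at h1
    apply hax
    calc a * x = a * x * a⁻¹ * a := by group
      _ = x * a := by rw [← h1]
  have hB1 : B ≠ ⊥ := by
    intro h
    have : f ⟨a, ha⟩ ∈ B := by rw [hB]; exact ⟨_, rfl⟩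
    rw [h, Subgroup.mem_bot] at this
    exact hfa this
  have hpB : p ∣ Nat.card B := by
    obtain ⟨k, hk⟩ := IsPGroup.iff_card.mp hA
    rw [hk] at hBA
    obtain ⟨j, -, hj⟩ := (Nat.dvd_prime_pow hpp).mp hBA
    rcases Nat.eq_zero_or_pos j with rfl | hj0
    · exfalso
      rw [pow_zero] at hj
      exact hB1 (Subgroup.card_eq_one.mp hj)
    · rw [hj]; exact dvd_pow_self p hj0.ne'
  have hq2 : q ≠ 2 := by
    rintro rfl
    have hQ1 : Q ≠ ⊥ := by
      intro h
      apply hnc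
      rw [h]; exact bot_le
    have h1 : 2 ∣ Nat.card Q := by
      obtain ⟨k, hk⟩ := IsPGroup.iff_card.mp hQ
      rcases Nat.eq_zero_or_pos k with rfl | hk0
      · exfalso
        rw [pow_zero] at hk
        exact hQ1 (Subgroup.card_eq_one.mp hk)
      · rw [hk]; exact dvd_pow_self 2 hk0.ne'
    have h2 : 2 ∣ Nat.card G := h1.trans (Subgroup.card_subgroup_dvd_card Q)
    exact (Nat.not_even_iff_odd.mpr hodd) (even_iff_two_dvd.mpr h2)
  have hle : p ≤ q := (odd_aut_rank_two q hq2 hQ hr B hBodd).2 p hpp hpB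
  exact lt_of_le_of_ne hle (Ne.symm hqp)

end Cfsg.Agent.Lib.Helper17.BGExF
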