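/-
Helper lemmas (helper17): TOOL (*) in the form of helper8's skeleton (`tool_star`), for
`A` elementary abelian of order `p ^ 2`.
-/
import Mathlib
import Cfsg.Prelude.Def_OddOrderLocal
import Cfsg.Agent.Lib.Helper17.BGToolB

set_option autoImplicit false

namespace Cfsg.Agent.Lib.Helper17.BGTool

universe u

variable {G : Type u} [Group G]

/-- an elementary abelian subgroup of order `p ^ 2` has rank two. -/
theorem not_rankLE_one_of_elemAb_sq {p : ℕ} (hpp : p.Prime) {A : Subgroup G}
    (hAe : Cfsg.IsElementaryAbelian p A) (hA2 : Nat.card A = p ^ 2) :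
    ¬ Cfsg.RankLE 1 ↥(A ⊓ Subgroup.centralizer (A : Set G)) := by
  intro h
  have hAC : A ≤ Subgroup.centralizer (A : Set G) := by
    intro a ha
    rw [Subgroup.mem_centralizer_iff]
    intro b hb
    have := hAe.1.is_comm.comm (⟨b, hb⟩ : A) ⟨a, ha⟩
    exact congrArg Subtype.val this
  have hle : A ≤ A ⊓ Subgroup.centralizer (A : Set G) := le_inf le_rfl hAC
  have h1 := h p hpp ((A.subgroupOf (A ⊓ Subgroup.centralizer (A : Set G)))) ?_ ?_
  · rw [Nat.card_congr (Subgroup.subgroupOfEquivOfLe hle).toEquiv, hA2, pow_one] at h1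
    have : p ^ 2 = p * p := sq p
    have h2 : 2 ≤ p := hpp.two_le
    nlinarith
  · refine ⟨⟨fun a b => ?_⟩⟩
    apply Subtype.ext
    apply Subtype.ext
    have := hAe.1.is_comm.comm (⟨a.1.1, a.2⟩ : A) ⟨b.1.1, b.2⟩
    have h2 := congrArg Subtype.val this
    simpa using h2
  · intro a ha
    apply Subtype.ext
    have := hAe.2 a.1 ha
    simpa using this

/-- **TOOL (*)** for `A ≅ E_{p²}` (skeleton name `tool_star`; note the extra hypothesis `hpi`). -/
theorem tool_star [Finite G] (hG : Cfsg.IsMinSimpleOddOrder G) {p : ℕ} [Fact p.Prime] {A : Subgroup G}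
    (hA : Cfsg.TransitivityHypothesis A) (hAe : Cfsg.IsElementaryAbelian p A)
    (hA2 : Nat.card A = p ^ 2)
    {q : ℕ} (hq : q.Prime) (hqp : q ≠ p)
    (hqC : q ∣ Nat.card (Subgroup.centralizer (A : Set G)))
    (hpi : ¬ Cfsg.IsIdealPrime p G) (hqi : ¬ Cfsg.IsIdealPrime q G)
    (D : Subgroup G) (hD : IsPGroup q D) (hAD : A ≤ Subgroup.normalizer (D : Set G)) :
    D ≤ Subgroup.centralizer (A : Set G) := by
  have hpp : p.Prime := Fact.out
  have hAp : IsPGroup p A := IsPGroup.of_card hA2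
  exact centralizes_invariant' hG p A hA hAp (not_rankLE_one_of_elemAb_sq hpp hAe hA2) q hq hqp hqC
    hpi hqi D hD hAD

end Cfsg.Agent.Lib.Helper17.BGTool
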