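import Mathlib
import Cfsg.Prelude.Def_Local
import Cfsg.Prelude.Def_Solvable
import Cfsg.Prelude.Def_CaseTheorems
import Cfsg.Prelude.Def_OddOrderLocal
import Cfsg.Agent.Lib.Helper17.Rank2Fitting
import Cfsg.Agent.Lib.Helper17.NarrowF
import Cfsg.Agent.Lib.Helper24.BGBeta1

/-!
helper17: B&G Theorem 5.6 ingredients: `G' ≤ F(G)` from the fact that `G'` acts on each `O_q(G)` as a
`q`-group; narrowness of a `p`-group `P` of rank at least three having an elementary abelian subgroup
`E` with `C_P(E)` of rank at most two.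
-/

set_option autoImplicit false
open scoped commutatorElement

namespace Cfsg.Agent.Lib.Helper17.Narrow

open Cfsg.Agent.Lib.Helper17

section Fit

variable {G : Type*} [Group G] [Finite G] [Group.IsSolvable G]

/-- `G' ≤ F(G)` if `G'` acts on every `O_q(G)` as a `q`-group. -/
theorem commutator_le_fitting_of_facts
    (hfacts : ∀ (q : ℕ) [Fact q.Prime], ∀ x ∈ commutator G, ∃ k : ℕ,
        x ^ (q ^ k) ∈ Subgroup.centralizer (Cfsg.pCore q G : Set G)) :
    commutator G ≤ Cfsg.fittingSubgroup G := by
  classical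
  -- prime power elements of the derived subgroup lie in the Fitting subgroup
  have hkey : ∀ (q : ℕ) [Fact q.Prime] (x : G), x ∈ commutator G → (∃ j : ℕ, x ^ (q ^ j) = 1) →
      x ∈ Cfsg.pCore q G := by
    intro q hq x hx hxq
    have hqp : q.Prime := Fact.out
    obtain ⟨j, hj⟩ := hxq
    apply Cfsg.Agent.Lib.Helper8.HallSCN.mem_pCore_of_mem_pCore_quotient q x
    · intro p hp hpq
      have : Fact p.Prime := ⟨hp⟩
      obtain ⟨k, hk⟩ := hfacts p x hx
      have hcop : (p ^ k).Coprime (orderOf x) := by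
        apply Nat.Coprime.coprime_dvd_right (orderOf_dvd_of_pow_eq_one hj)
        exact Nat.Coprime.pow _ _ ((Nat.coprime_primes hp hqp).mpr hpq)
      obtain ⟨s, hs⟩ := exists_pow_eq_self_of_coprime hcop
      rw [← hs]
      exact Subgroup.pow_mem _ hk _
    · -- the derived subgroup of the quotient is a normal q-subgroup
      obtain ⟨C, hC⟩ : ∃ C : Subgroup G, C = Subgroup.centralizer (Cfsg.pCore q G : Set G) :=
        ⟨_, rfl⟩
      have hCn : C.Normal := by rw [hC]; infer_instance
      have hP : IsPGroup q (commutator (G ⧸ C)) := by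
        rintro ⟨yb, hyb⟩
        have h2 : (commutator G).map (QuotientGroup.mk' C) = commutator (G ⧸ C) := by
          rw [commutator_def, commutator_def, Subgroup.map_commutator,
            ← MonoidHom.range_eq_map, MonoidHom.range_eq_top.mpr (QuotientGroup.mk'_surjective C)]
        rw [← h2] at hyb
        obtain ⟨y, hy, rfl⟩ := hyb
        obtain ⟨k, hk⟩ := hfacts q y hy
        refine ⟨k, ?_⟩
        apply Subtype.ext
        push_cast
        rw [← map_pow]
        rw [← hC] at hk
        exact (QuotientGroup.eq_one_iff _).mpr hk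
      have hle := Cfsg.Agent.Lib.Helper12.le_pCore' q _ inferInstance hP
      subst hC
      apply hle
      have : (QuotientGroup.mk x : G ⧸ Subgroup.centralizer (Cfsg.pCore q G : Set G)) =
          QuotientGroup.mk' _ x := rfl
      rw [this]
      have h3 : QuotientGroup.mk' (Subgroup.centralizer (Cfsg.pCore q G : Set G)) x ∈
          (commutator G).map (QuotientGroup.mk' _) := Subgroup.mem_map_of_mem _ hx
      rw [commutator_def, Subgroup.map_commutator] at h3
      rw [commutator_def]
      exact Subgroup.commutator_mono le_top le_top h3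
    · exact ⟨j, hj⟩
  -- Sylow subgroups of the derived subgroup
  have htop : (Cfsg.fittingSubgroup G).subgroupOf (commutator G) = ⊤ := by
    apply Cfsg.Agent.Lib.Helper1.eq_top_of_forall_sylow_le
    intro q hq
    obtain ⟨Q⟩ : Nonempty (Sylow q (commutator G)) := inferInstance
    refine ⟨Q, ?_⟩
    intro y hy
    rw [Subgroup.mem_subgroupOf]
    obtain ⟨j, hj⟩ := Q.2 ⟨y, hy⟩
    have hj' : (y : G) ^ (q ^ j) = 1 := by
      have := congrArg (fun t : Q => ((t : commutator G) : G)) hj
      simpa using this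
    exact pCore_le_fitting q (hkey q (y : G) y.2 ⟨j, hj'⟩)
  intro x hx
  have : (⟨x, hx⟩ : commutator G) ∈ (Cfsg.fittingSubgroup G).subgroupOf (commutator G) := by
    rw [htop]; exact Subgroup.mem_top _
  exact this

end Fit

section Fact

variable {G : Type*} [Group G] [Finite G]

/-- the action of `G'` on a narrow `O_p(G)` of rank at least three is a `p`-group action. -/
theorem aut_pCore_facts_narrow (p : ℕ) [Fact p.Prime] (hp : p ≠ 2)
    (hn : Cfsg.IsNarrow p ↥(Cfsg.pCore p G)) (hr : ¬ Cfsg.PRankLE p 2 ↥(Cfsg.pCore p G)) :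
    ∀ x ∈ commutator G, ∃ k : ℕ,
      x ^ (p ^ k) ∈ Subgroup.centralizer (Cfsg.pCore p G : Set G) := by
  classical
  obtain ⟨R, hR⟩ : ∃ R : Subgroup G, R = Cfsg.pCore p G := ⟨_, rfl⟩
  rw [← hR] at hn hr ⊢
  have hRn : R.Normal := by rw [hR]; exact Subgroup.sSup_normal _ (fun _ h => h.1)
  have hRP : IsPGroup p R := by rw [hR]; exact Cfsg.Agent.Lib.Helper12.pCore_isPGroup' p
  obtain ⟨g, hg⟩ : ∃ g : G →* MulAut R, g = MulAut.conjNormal := ⟨_, rfl⟩
  have hgker : ∀ y : G, g y = 1 → y ∈ Subgroup.centralizer (R : Set G) := by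
    intro y hy
    rw [Subgroup.mem_centralizer_iff]
    intro r hr'
    have h1 : g y ⟨r, hr'⟩ = ⟨r, hr'⟩ := by rw [hy]; rfl
    rw [hg] at h1
    have h2 : y * r * y⁻¹ = r := by
      have := congrArg Subtype.val h1
      simpa [MulAut.conjNormal_apply] using this
    calc r * y = y * r * y⁻¹ * y := by rw [h2]
      _ = y * r := by group
  obtain ⟨K, hK1, -, hK3⟩ := narrow_aut hp hRP hr hn
  have hcommK : commutator (MulAut R) ≤ K := by
    rw [commutator_def, Subgroup.commutator_le]
    intro a _ b _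
    rw [commutatorElement_def]
    exact hK1 a b
  intro x hx
  have h1 : g x ∈ K := by
    apply hcommK
    have : g x ∈ (commutator G).map g := Subgroup.mem_map_of_mem _ hx
    rw [commutator_def, Subgroup.map_commutator] at this
    exact Subgroup.commutator_mono le_top le_top this
  obtain ⟨k, hk⟩ := hK3 _ h1
  rw [← map_pow] at hk
  exact ⟨k, hgker _ hk⟩

end Fact

section MaxSq

variable {P : Type*} [Group P] [Finite P]

omit [Finite P] in
theorem card_le_of_le_of_pRankLE {p k : ℕ} {B H : Subgroup P} (hBH : B ≤ H)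
    (h : Cfsg.PRankLE p k ↥H) (hBc : ∀ a ∈ B, ∀ b ∈ B, a * b = b * a) (hBp : ∀ a ∈ B, a ^ p = 1) :
    Nat.card B ≤ p ^ k := by
  have h1 : Nat.card (B.subgroupOf H) = Nat.card B :=
    Nat.card_congr (Subgroup.subgroupOfEquivOfLe hBH).toEquiv
  rw [← h1]
  apply h
  · refine ⟨⟨fun a b => ?_⟩⟩
    apply Subtype.ext
    apply Subtype.ext
    push_cast
    exact hBc _ a.2 _ b.2
  · intro a ha
    apply Subtype.ext
    push_cast
    exact hBp _ ha

/-- a `p`-group of rank at least three with an elementary abelian subgroup `E` whose centralizer has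
rank at most two has a maximal elementary abelian subgroup of order `p²`. -/
theorem exists_maximal_sq_of_centralizer_rank (p : ℕ) [Fact p.Prime] (hP : IsPGroup p P)
    (hr : ¬ Cfsg.PRankLE p 2 P) (E : Subgroup P) (hE : Cfsg.IsElementaryAbelian p E)
    (hC : Cfsg.PRankLE p 2 ↥(Subgroup.centralizer (E : Set P))) :
    ∃ E₂ : Subgroup P, Cfsg.IsElementaryAbelian p E₂ ∧ Nat.card E₂ = p ^ 2 ∧
      ∀ B : Subgroup P, Cfsg.IsElementaryAbelian p B → E₂ ≤ B → B = E₂ := by
  classical
  have hpp : p.Prime := Fact.out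
  have hEc : ∀ a ∈ E, ∀ b ∈ E, a * b = b * a := fun a ha b hb =>
    Cfsg.Agent.Lib.Helper24.BGBeta.comm_of_elemAb hE a ha b hb
  -- P is nontrivial
  have hPnt : Nontrivial P := by
    by_contra hnt
    rw [not_nontrivial_iff_subsingleton] at hnt
    apply hr
    intro A _ _
    have : Nat.card A = 1 := Nat.card_unique
    rw [this]
    exact Nat.one_le_pow _ _ hpp.pos
  have hZnt : Nontrivial (Subgroup.center P) := hP.center_nontrivial
  have hZp : p ∣ Nat.card (Subgroup.center P) := by
    rcases (hP.to_subgroup (Subgroup.center P)).card_eq_or_dvd with h | h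
    · exfalso
      rw [Subgroup.card_eq_one] at h
      exact (Subgroup.nontrivial_iff_ne_bot _).mp hZnt h
    · exact h
  obtain ⟨z, hz⟩ := exists_prime_orderOf_dvd_card' p hZp
  have hz1 : (z : P) ≠ 1 := by
    intro h
    have : z = 1 := Subtype.ext h
    rw [this, orderOf_one] at hz
    exact hpp.one_lt.ne hz
  have hzp : (z : P) ^ p = 1 := by
    have := pow_orderOf_eq_one z
    rw [hz] at this
    exact congrArg Subtype.val this
  have hzc : ∀ g : P, g * (z : P) = (z : P) * g := fun g => Subgroup.mem_center_iff.mp z.2 g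
  obtain ⟨E₂, hE₂⟩ : ∃ E₂ : Subgroup P, E₂ = Subgroup.closure ((E : Set P) ∪ {(z : P)}) :=
    ⟨_, rfl⟩
  have hE₂el : Cfsg.IsElementaryAbelian p E₂ := by
    rw [hE₂]
    apply Cfsg.Agent.Lib.Helper24.BGBeta.elemAb_closure
    · rintro a (ha | ha) b (hb | hb)
      · exact hEc a ha b hb
      · rw [Set.mem_singleton_iff] at hb
        rw [hb]; exact hzc a
      · rw [Set.mem_singleton_iff] at ha
        rw [ha]; exact (hzc b).symm
      · rw [Set.mem_singleton_iff] at ha hb
        rw [ha, hb]
    · rintro a (ha | ha)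
      · exact hE.2 a ha
      · rw [Set.mem_singleton_iff] at ha
        rw [ha]; exact hzp
  have hEE₂ : E ≤ E₂ := by
    rw [hE₂]
    exact fun a ha => Subgroup.subset_closure (Or.inl ha)
  have hzE₂ : (z : P) ∈ E₂ := by
    rw [hE₂]
    exact Subgroup.subset_closure (Or.inr rfl)
  -- elementary abelian overgroups of E have order at most p²
  have hbound : ∀ B : Subgroup P, Cfsg.IsElementaryAbelian p B → E ≤ B → Nat.card B ≤ p ^ 2 := by
    intro B hB hEB
    have hBc : ∀ a ∈ B, ∀ b ∈ B, a * b = b * a := fun a ha b hb =>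
      Cfsg.Agent.Lib.Helper24.BGBeta.comm_of_elemAb hB a ha b hb
    apply card_le_of_le_of_pRankLE _ hC hBc hB.2
    intro b hb
    rw [Subgroup.mem_centralizer_iff]
    intro e he
    exact hBc e (hEB he) b hb
  have hle : Nat.card E₂ ≤ p ^ 2 := hbound E₂ hE₂el hEE₂
  have hcard : Nat.card E₂ = p ^ 2 := by
    obtain ⟨k, hk⟩ := (hP.to_subgroup E₂).exists_card_eq
    have hk2 : k ≤ 2 := by
      rw [hk] at hle
      exact (Nat.pow_le_pow_iff_right hpp.one_lt).mp hle
    have hk0 : k ≠ 0 := by
      rintro rfl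
      rw [pow_zero, Subgroup.card_eq_one] at hk
      rw [hk, Subgroup.mem_bot] at hzE₂
      exact hz1 hzE₂
    rcases Nat.lt_or_ge k 2 with hlt | hge
    · exfalso
      have hk1 : k = 1 := by omega
      rw [hk1, pow_one] at hk
      -- E₂ = ⟨z⟩ is central, so C(E) = P
      have hcent : ∀ a ∈ E₂, ∀ g : P, g * a = a * g := by
        intro a ha g
        have hfact : Fact p.Prime := ⟨hpp⟩
        have h1 : (⟨a, ha⟩ : E₂) ∈ Subgroup.zpowers (⟨(z : P), hzE₂⟩ : E₂) :=
          mem_zpowers_of_prime_card hk (fun h' => hz1 (congrArg Subtype.val h'))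
        obtain ⟨j, hj⟩ := h1
        have hj' : (z : P) ^ j = a := by
          have := congrArg Subtype.val hj
          simpa using this
        rw [← hj']
        have hc : Commute g (z : P) := hzc g
        exact (hc.zpow_right j).eq
      apply hr
      intro A hA hAp
      have hAc : ∀ a ∈ A, ∀ b ∈ A, a * b = b * a := fun a ha b hb =>
        congrArg Subtype.val (hA.is_comm.comm ⟨a, ha⟩ ⟨b, hb⟩)
      apply card_le_of_le_of_pRankLE _ hC hAc hAp
      intro a _
      rw [Subgroup.mem_centralizer_iff]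
      intro e he
      exact (hcent e (hEE₂ he) a).symm
    · have : k = 2 := le_antisymm hk2 hge
      rw [hk, this]
  refine ⟨E₂, hE₂el, hcard, ?_⟩
  intro B hB hE₂B
  have h1 := hbound B hB (hEE₂.trans hE₂B)
  exact (Subgroup.eq_of_le_of_card_ge hE₂B (by rw [hcard]; exact h1)).symm

end MaxSq

end Cfsg.Agent.Lib.Helper17.Narrow
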