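/-
helper17: B&G Lemma 11.7, Step 2 (core form): for an exceptional maximal subgroup `M` (data `p, A, A₀`)
and a prime `q ∉ σ(M)`, `q ≠ p`, the group `A` centralizes `O_q(M)`.
The facts of sec. 11 proved elsewhere (helper8 Block A/D, helper16 Cor N', helper24 11.5) enter as hypotheses.
-/
import Mathlib
import Cfsg.Prelude.Def_OddOrderLocal
import Cfsg.Prelude.Def_Amalgam
import Cfsg.Agent.Lib.Helper8.BGEx0
import Cfsg.Agent.Lib.Helper17.BGToolC
import Cfsg.Agent.Lib.Helper17.BGExF1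
import Cfsg.Agent.Lib.Helper17.BGExF2
import Cfsg.Agent.Lib.Helper17.NarrowH
import Cfsg.Agent.Lib.Helper2.BGCorA
import Cfsg.Agent.S0025
import Cfsg.Agent.S1414

set_option autoImplicit false
set_option maxHeartbeats 800000

namespace Cfsg.Agent.Lib.Helper17.BGExF

open Cfsg.Agent.Lib.Helper8.BGEx
open Cfsg.Agent.Lib.Helper17

universe u

variable {G : Type u} [Group G]

/-- `M` normalizes `O_q(M)`. -/
theorem le_normalizer_pCoreOf (q : ℕ) (M : Subgroup G) :
    M ≤ Subgroup.normalizer ((Cfsg.pCoreOf q M : Subgroup G) : Set G) := by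
  haveI := Cfsg.Agent.Lib.Helper12.pCore_characteristic' (G := ↥M) q
  exact Subgroup.le_normalizer.trans (BGTool.normalizer_le_normalizer_map_of_char M (Cfsg.pCore q ↥M))

/-- `M` normalizes `O_{p'}(M)`. -/
theorem le_normalizer_pPrimeCoreOf (p : ℕ) (M : Subgroup G) :
    M ≤ Subgroup.normalizer (((Cfsg.pPrimeCore p ↥M).map M.subtype : Subgroup G) : Set G) := by
  haveI := Cfsg.Agent.Lib.Helper12.pPrimeCore_characteristic (G := ↥M) p
  exact Subgroup.le_normalizer.trans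
    (BGTool.normalizer_le_normalizer_map_of_char M (Cfsg.pPrimeCore p ↥M))

/-- two distinct subgroups of order `p` of a group of order `p ^ 2` generate it. -/
theorem sup_eq_of_card_prime {p : ℕ} (hp : p.Prime) {A X₁ X₂ : Subgroup G} [Finite A]
    (hA : Nat.card A = p ^ 2) (h1 : X₁ ≤ A) (h2 : X₂ ≤ A) (hc1 : Nat.card X₁ = p)
    (hc2 : Nat.card X₂ = p) (hne : X₁ ≠ X₂) : X₁ ⊔ X₂ = A := by
  have hle : X₁ ⊔ X₂ ≤ A := sup_le h1 h2
  haveI : Finite ↥(X₁ ⊔ X₂) := Finite.of_injective _ (Subgroup.inclusion_injective hle)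
  haveI : Finite ↥X₁ := Finite.of_injective _ (Subgroup.inclusion_injective h1)
  haveI : Finite ↥X₂ := Finite.of_injective _ (Subgroup.inclusion_injective h2)
  have hdvd : Nat.card ↥(X₁ ⊔ X₂) ∣ p ^ 2 := hA ▸ Subgroup.card_dvd_of_le hle
  obtain ⟨j, hj2, hj⟩ := (Nat.dvd_prime_pow hp).mp hdvd
  have h1le : Nat.card X₁ ≤ Nat.card ↥(X₁ ⊔ X₂) := Subgroup.card_le_of_le le_sup_left
  have hj1 : 1 ≤ j := by
    by_contra hlt
    have : j = 0 := by omega
    rw [hj, this, pow_zero, hc1] at h1le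
    exact absurd h1le (not_le.mpr hp.one_lt)
  have hj' : j = 2 := by
    by_contra hne2
    have : j = 1 := by omega
    rw [this, pow_one] at hj
    -- then `X₁ = X₁ ⊔ X₂ = X₂`
    have e1 : X₁ = X₁ ⊔ X₂ := Subgroup.eq_of_le_of_card_ge le_sup_left (by rw [hj, hc1])
    have e2 : X₂ = X₁ ⊔ X₂ := Subgroup.eq_of_le_of_card_ge le_sup_right (by rw [hj, hc2])
    exact hne (e1.trans e2.symm)
  rw [hj'] at hj
  exact Subgroup.eq_of_le_of_card_ge hle (by rw [hj, hA])


/-- **B&G 11.7, Step 2 (core).**  The sec. 11 facts used are hypotheses: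
`hrank`, `hpi`, `htr`, `hne`, `hnil`, `h2fpf` for the given data `(p, A, A₀)`;
`hq_rank`, `hq_ideal`, `hq_fpf`, `hq_comm` (= 11.5) for all exceptional data `(q, B, B₀)` of `M`;
`hN'` = Cor N'. -/
theorem centralizes_pCoreOf_core [Finite G] (hG : Cfsg.IsMinSimpleOddOrder G) {M : Subgroup G} {p : ℕ}
    [Fact p.Prime] {A A₀ : Subgroup G} (h : Exc M p A A₀) {q : ℕ} [Fact q.Prime]
    (hq : q ∉ Cfsg.sigma M) (hqp : q ≠ p)
    (hrank : Cfsg.PRankLE p 2 M)
    (hpi : ¬ Cfsg.IsIdealPrime p G)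
    (htr : Cfsg.TransitivityHypothesis A)
    (hne : Cfsg.sigmaCore M ≠ ⊥)
    (hnil : Group.IsNilpotent (Cfsg.sigmaCore M))
    (h2fpf : ∃ X₁ X₂ : Subgroup G, X₁ ≤ A ∧ X₂ ≤ A ∧ Nat.card X₁ = p ∧ Nat.card X₂ = p ∧ X₁ ≠ X₂ ∧
      Cfsg.sigmaCore M ⊓ Subgroup.centralizer (X₁ : Set G) = ⊥ ∧
      Cfsg.sigmaCore M ⊓ Subgroup.centralizer (X₂ : Set G) = ⊥)
    (hq_rank : ∀ B B₀ : Subgroup G, Exc M q B B₀ → Cfsg.PRankLE q 2 M)
    (hq_ideal : ∀ B B₀ : Subgroup G, Exc M q B B₀ → ¬ Cfsg.IsIdealPrime q G)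
    (hq_fpf : ∀ B B₀ : Subgroup G, Exc M q B B₀ →
      Cfsg.sigmaCore M ⊓ Subgroup.centralizer (B : Set G) = ⊥)
    (hq_comm : ∀ B B₀ : Subgroup G, Exc M q B B₀ → ∀ S : Sylow q M, IsMulCommutative (S : Subgroup M))
    (hN' : Cfsg.pCoreOf q M ≠ ⊥ →
      Cfsg.pCoreOf q M ≤ Subgroup.centralizer (Cfsg.sigmaCore M : Set G) ∧
      ∃ W B : Subgroup G, W ≤ Cfsg.pCoreOf q M ∧ Nat.card W = q ∧
        M ≤ Subgroup.normalizer (W : Set G) ∧ Exc M q B W) :
    Cfsg.pCoreOf q M ≤ Subgroup.centralizer (A : Set G) := by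
  classical
  have hpp : p.Prime := Fact.out
  have hqq : q.Prime := Fact.out
  by_contra hnc
  have hQ1 : Cfsg.pCoreOf q M ≠ ⊥ := fun h' => hnc (h' ▸ bot_le)
  obtain ⟨hQσ, W, B, hWQ, hWq, hMW, hExc⟩ := hN' hQ1
  obtain ⟨Q, hQdef⟩ : ∃ Q : Subgroup G, Q = Cfsg.pCoreOf q M := ⟨_, rfl⟩
  rw [← hQdef] at hnc hQ1 hQσ hWQ
  have hQq : IsPGroup q Q := by
    rw [hQdef]
    exact (Cfsg.Agent.Lib.Helper12.pCore_isPGroup' q).map _
  have hQM : Q ≤ M := by rw [hQdef]; exact Subgroup.map_subtype_le _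
  have hMQ : M ≤ Subgroup.normalizer (Q : Set G) := by rw [hQdef]; exact le_normalizer_pCoreOf q M
  have hAQ : A ≤ Subgroup.normalizer (Q : Set G) := h.le.trans hMQ
  have hAp : IsPGroup p A := IsPGroup.of_card h.card
  have hMtop : M ≠ ⊤ := h.coatom.1
  -- Case `q ∣ |C_G(A)|`: TOOL (*)
  by_cases hqC : q ∣ Nat.card (Subgroup.centralizer (A : Set G))
  · exact hnc (BGTool.tool_star hG htr h.elem h.card hqq hqp hqC hpi (hq_ideal B W hExc) Q hQq hAQ)
  -- Case `q ∤ |C_G(A)|`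
  have hqrM : Cfsg.PRankLE q 2 M := hq_rank B W hExc
  have hpq : p < q := by
    refine lt_of_not_le_centralizer hG.1 hqp A Q hAp hQq ?_ hAQ hnc
    exact Narrow.pRankLE_of_injective (Subgroup.inclusion hQM) (Subgroup.inclusion_injective hQM) hqrM
  obtain ⟨-, -, -, -, h5⟩ := Cfsg.Agent.S1414.result hG M h.coatom
  have hpM : p ∣ Nat.card M := by
    have h1 : Nat.card A ∣ Nat.card M := Subgroup.card_dvd_of_le h.le
    rw [h.card] at h1
    exact (dvd_pow_self p two_ne_zero).trans h1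
  have hpβ : p ∉ Cfsg.beta M := fun hb => hb.1.2 hrank
  obtain ⟨-, -, hidx⟩ := h5 p hpp hpM hpβ
  have hqidx : ¬ q ∣ (Cfsg.pPrimeCore p ↥M).index :=
    fun hd => absurd (hidx q hqq hd) (not_le.mpr hpq)
  obtain ⟨K₀, hK₀def⟩ : ∃ K₀ : Subgroup G, K₀ = (Cfsg.pPrimeCore p ↥M).map M.subtype := ⟨_, rfl⟩
  have hK₀M : K₀ ≤ M := by rw [hK₀def]; exact Subgroup.map_subtype_le _
  have hMK₀ : M ≤ Subgroup.normalizer (K₀ : Set G) := by
    rw [hK₀def]; exact le_normalizer_pPrimeCoreOf p M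
  have hAK₀ : A ≤ Subgroup.normalizer (K₀ : Set G) := h.le.trans hMK₀
  have hK₀cop : (Nat.card K₀).Coprime p := by
    rw [hK₀def, Subgroup.card_map_of_injective (Subgroup.subtype_injective _)]
    exact Cfsg.Agent.Lib.Helper12.pPrimeCore_coprime p
  have hcop : (Nat.card A).Coprime (Nat.card K₀) := by
    rw [h.card]; exact Nat.Coprime.pow_left 2 hK₀cop.symm
  have hQK₀ : Q ≤ K₀ := by
    rw [hQdef, hK₀def]
    apply Subgroup.map_mono
    haveI hch := Cfsg.Agent.Lib.Helper12.pCore_characteristic' (G := ↥M) q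
    apply Cfsg.Agent.Lib.Helper12.le_pPrimeCore p _ (inferInstance : (Cfsg.pCore q ↥M).Normal)
    obtain ⟨k, hk⟩ := IsPGroup.iff_card.mp (Cfsg.Agent.Lib.Helper12.pCore_isPGroup' (X := ↥M) q)
    rw [hk]
    exact Nat.Coprime.pow_left k ((Nat.coprime_primes hqq hpp).mpr hqp)
  have hAsolv : Group.IsSolvable A := by
    haveI : Group.IsNilpotent A := hAp.isNilpotent
    infer_instance
  obtain ⟨P, hQP, hAP⟩ := Cfsg.Agent.S0025.result A K₀ hAK₀ hcop (Or.inl hAsolv) q Q hQK₀ hQq hAQ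
  obtain ⟨S, hSdef⟩ : ∃ S : Subgroup G, S = (P : Subgroup K₀).map K₀.subtype := ⟨_, rfl⟩
  rw [← hSdef] at hQP hAP
  have hSK₀ : S ≤ K₀ := by rw [hSdef]; exact Subgroup.map_subtype_le _
  have hSM : S ≤ M := hSK₀.trans hK₀M
  have hSq : IsPGroup q S := by rw [hSdef]; exact P.isPGroup'.map _
  -- `S` is a Sylow `q`-subgroup of `M`
  have hSidx : ¬ q ∣ (S.subgroupOf M).index := by
    have h1 : S.relIndex K₀ * K₀.relIndex M = S.relIndex M :=
      Subgroup.relIndex_mul_relIndex S K₀ M hSK₀ hK₀M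
    have h2 : S.relIndex K₀ = (P : Subgroup K₀).index := by
      unfold Subgroup.relIndex
      congr 1
      rw [hSdef]
      ext x
      rw [Subgroup.mem_subgroupOf]
      constructor
      · rintro ⟨y, hy, hyx⟩
        have : y = x := Subtype.ext hyx
        rw [← this]; exact hy
      · intro hx; exact ⟨x, hx, rfl⟩
    have h3 : K₀.relIndex M = (Cfsg.pPrimeCore p ↥M).index := by
      unfold Subgroup.relIndex
      congr 1
      rw [hK₀def]
      ext x
      rw [Subgroup.mem_subgroupOf]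
      constructor
      · rintro ⟨y, hy, hyx⟩
        have : y = x := Subtype.ext hyx
        rw [← this]; exact hy
      · intro hx; exact ⟨x, hx, rfl⟩
    change ¬ q ∣ S.relIndex M
    rw [← h1, h2, h3]
    exact Nat.Prime.not_dvd_mul hqq P.not_dvd_index hqidx
  obtain ⟨S', hS'⟩ : ∃ S' : Sylow q M, (S' : Subgroup M) = S.subgroupOf M :=
    ⟨(hSq.comap_subtype : IsPGroup q ↥(S.subgroupOf M)).toSylow hSidx, rfl⟩
  have hS'map : (S' : Subgroup M).map M.subtype = S := by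
    rw [hS']; exact Subgroup.map_subgroupOf_eq_of_le hSM
  have hScomm : ∀ a ∈ S, ∀ b ∈ S, a * b = b * a := by
    intro a ha b hb
    have hc := hq_comm B W hExc S'
    have ha' : (⟨a, hSM ha⟩ : M) ∈ (S' : Subgroup M) := by
      rw [hS']; exact Subgroup.mem_subgroupOf.mpr ha
    have hb' : (⟨b, hSM hb⟩ : M) ∈ (S' : Subgroup M) := by
      rw [hS']; exact Subgroup.mem_subgroupOf.mpr hb
    have := hc.is_comm.comm (⟨_, ha'⟩ : (S' : Subgroup M)) ⟨_, hb'⟩
    have h2 := congrArg (fun z : (S' : Subgroup M) => ((z : M) : G)) this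
    simpa using h2
  -- `B* = Ω₁(S)`
  obtain ⟨Bs, hBsdef⟩ : ∃ Bs : Subgroup G, Bs = omegaOne S q hScomm := ⟨_, rfl⟩
  have hBsS : Bs ≤ S := by rw [hBsdef]; exact omegaOne_le S q hScomm
  have hBsM : Bs ≤ M := hBsS.trans hSM
  have hBse : Cfsg.IsElementaryAbelian q Bs := by rw [hBsdef]; exact omegaOne_elemAb S q hScomm
  have hBsc : ∀ a ∈ Bs, ∀ b ∈ Bs, a * b = b * a := fun a ha b hb => hScomm a (hBsS ha) b (hBsS hb)
  have hABs : A ≤ Subgroup.normalizer (Bs : Set G) := by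
    rw [hBsdef]; exact hAP.trans (normalizer_le_normalizer_omegaOne S q hScomm)
  have hBs_le : Nat.card Bs ≤ q ^ 2 := Narrow.card_le_of_le_of_pRankLE hBsM hqrM hBsc hBse.2
  have hBq : IsPGroup q B := IsPGroup.of_card hExc.card
  obtain ⟨m, -, hBm⟩ := Cfsg.Agent.Lib.Helper2.BGCor.exists_conj_le_sylow S' hExc.le hBq
  rw [hS'map] at hBm
  have hBmBs : B.map (MulAut.conj m).toMonoidHom ≤ Bs := by
    intro x hx
    rw [hBsdef]
    exact ⟨hBm hx, (Cfsg.Agent.Lib.Helper2.BGCor.elemAb_map_conj hExc.elem m).2 x hx⟩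
  have hBs2 : Nat.card Bs = q ^ 2 := by
    apply le_antisymm hBs_le
    have h1 : Nat.card (B.map (MulAut.conj m).toMonoidHom) = q ^ 2 := by
      rw [Subgroup.card_map_of_injective (MulAut.conj m).injective, hExc.card]
    rw [← h1]
    exact Subgroup.card_le_of_le hBmBs
  have hWBs : W ≤ Bs := by
    intro w hw
    rw [hBsdef]
    refine ⟨hQP (hWQ hw), ?_⟩
    have h1 : (⟨w, hw⟩ : W) ^ Nat.card W = 1 := pow_card_eq_one'
    rw [hWq] at h1
    have := congrArg Subtype.val h1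
    simpa using this
  have hExc' : Exc M q Bs W :=
    ⟨h.coatom, hqq, hq, hBsM, hBse, hBs2, hWBs, hWq, hExc.norm₀⟩
  have hfpf := hq_fpf Bs W hExc'
  -- Maschke
  have hcopBs : (Nat.card A).Coprime (Nat.card Bs) := by
    rw [h.card, hBs2]
    exact Nat.Coprime.pow 2 2 ((Nat.coprime_primes hpp hqq).mpr (Ne.symm hqp))
  have hAW : A ≤ Subgroup.normalizer (W : Set G) := h.le.trans hMW
  obtain ⟨B₁, hB₁Bs, hAB₁, hWB₁, hWB₁sup⟩ :=
    exists_invariant_compl_sub A Bs W q hqq hBsc hBse.2 hABs hAW hWBs hcopBs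
  have hB₁q : Nat.card B₁ = q := by
    have hB₁W : B₁ ≤ Subgroup.normalizer (W : Set G) := by
      intro b hb
      rw [Subgroup.mem_normalizer_iff]
      intro w
      have hcomm : ∀ w ∈ Bs, b * w * b⁻¹ = w := by
        intro w hw
        rw [hBsc b (hB₁Bs hb) w hw]; group
      constructor
      · intro hw; rw [hcomm w (hWBs hw)]; exact hw
      · intro hw
        by_cases hwBs : w ∈ Bs
        · rw [hcomm w hwBs] at hw; exact hw
        · exfalso
          apply hwBs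
          have h1 : b * w * b⁻¹ ∈ Bs := hWBs hw
          have h2 : b⁻¹ * (b * w * b⁻¹) * b ∈ Bs :=
            Bs.mul_mem (Bs.mul_mem (Bs.inv_mem (hB₁Bs hb)) h1) (hB₁Bs hb)
          have e : b⁻¹ * (b * w * b⁻¹) * b = w := by group
          rwa [e] at h2
    have hmul := Cfsg.Agent.Lib.Helper4.card_sup_mul_card_inf B₁ W hB₁W
    rw [sup_comm, hWB₁sup, inf_comm, hWB₁, Subgroup.card_bot, mul_one, hBs2, hWq] at hmul
    have hqpos : 0 < q := hqq.pos
    have : q * q = Nat.card B₁ * q := by rw [← hmul]; ring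
    exact (Nat.eq_of_mul_eq_mul_right hqpos this).symm
  -- `C_{M_σ}(B₁) = 1`
  have hCB₁ : Cfsg.sigmaCore M ⊓ Subgroup.centralizer (B₁ : Set G) = ⊥ := by
    rw [eq_bot_iff, ← hfpf]
    rintro x ⟨hx1, hx2⟩
    refine ⟨hx1, ?_⟩
    have hW : W ≤ Subgroup.centralizer ({x} : Set G) := by
      intro w hw
      rw [Subgroup.mem_centralizer_iff]
      intro y hy
      rw [Set.mem_singleton_iff] at hy
      subst hy
      have := hQσ (hWQ hw)
      rw [Subgroup.mem_centralizer_iff] at this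
      exact this y hx1
    have hB : B₁ ≤ Subgroup.centralizer ({x} : Set G) := by
      intro b hb
      rw [Subgroup.mem_centralizer_iff]
      intro y hy
      rw [Set.mem_singleton_iff] at hy
      subst hy
      have : y ∈ Subgroup.centralizer (B₁ : Set G) := hx2
      rw [Subgroup.mem_centralizer_iff] at this
      exact (this b hb).symm
    have hsup : Bs ≤ Subgroup.centralizer ({x} : Set G) := hWB₁sup ▸ sup_le hW hB
    show x ∈ Subgroup.centralizer (Bs : Set G)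
    rw [Subgroup.mem_centralizer_iff]
    intro b hb
    have := hsup hb
    rw [Subgroup.mem_centralizer_iff] at this
    exact (this x rfl).symm
  -- the two f.p.f. points centralize `B₁`
  obtain ⟨X₁, X₂, hX₁A, hX₂A, hX₁p, hX₂p, hX12, hf1, hf2⟩ := h2fpf
  have hMσ : M ≤ Subgroup.normalizer ((Cfsg.sigmaCore M : Subgroup G) : Set G) :=
    le_normalizer_piCoreOf M
  have hpσ : ¬ p ∣ Nat.card (Cfsg.sigmaCore M) :=
    fun hd => h.not_sigma (Cfsg.Agent.Lib.Helper2.BGCor.primes_card_sigmaCore M p hpp hd)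
  have hqσ : ¬ q ∣ Nat.card (Cfsg.sigmaCore M) :=
    fun hd => hq (Cfsg.Agent.Lib.Helper2.BGCor.primes_card_sigmaCore M q hqq hd)
  have key : ∀ X : Subgroup G, X ≤ A → Nat.card X = p →
      Cfsg.sigmaCore M ⊓ Subgroup.centralizer (X : Set G) = ⊥ →
      X ≤ Subgroup.centralizer (B₁ : Set G) := by
    intro X hXA hXp hXf
    by_contra hXnc
    have hsupM : B₁ ⊔ X ≤ M := sup_le (hB₁Bs.trans hBsM) (hXA.trans h.le)
    have hsolv : Group.IsSolvable ↥(B₁ ⊔ X) :=
      hG.2.2.2 _ (fun htop => hMtop (top_le_iff.mp (htop ▸ hsupM)))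
    exact frobenius_step hG.1 hpp hqq (Ne.symm hqp) B₁ X (Cfsg.sigmaCore M) hB₁q hXp
      (hXA.trans hAB₁) hXnc hsolv hne hnil ((hB₁Bs.trans hBsM).trans hMσ)
      ((hXA.trans h.le).trans hMσ) hpσ hqσ hCB₁ hXf
  have h1 := key X₁ hX₁A hX₁p hf1
  have h2 := key X₂ hX₂A hX₂p hf2
  haveI : Finite A := inferInstance
  have hA12 : X₁ ⊔ X₂ = A := sup_eq_of_card_prime hpp h.card hX₁A hX₂A hX₁p hX₂p hX12
  have hAB₁c : A ≤ Subgroup.centralizer (B₁ : Set G) := hA12 ▸ sup_le h1 h2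
  have hB₁A : B₁ ≤ Subgroup.centralizer (A : Set G) := by
    intro b hb
    rw [Subgroup.mem_centralizer_iff]
    intro a ha
    have := hAB₁c ha
    rw [Subgroup.mem_centralizer_iff] at this
    exact (this b hb).symm
  apply hqC
  rw [← hB₁q]
  exact Subgroup.card_dvd_of_le hB₁A

end Cfsg.Agent.Lib.Helper17.BGExF
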