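/-
Helper lemmas (helper17) for B&G 11.7, Step 1 and assembly: generic facts.
-/
import Mathlib
import Cfsg.Prelude.Def_OddOrderLocal
import Cfsg.Prelude.Def_Amalgam
import Cfsg.Agent.Lib.Helper12.Cores
import Cfsg.Agent.Lib.Helper17.CoprimeGen

set_option autoImplicit false

namespace Cfsg.Agent.Lib.Helper17.BGExG

open scoped commutatorElement

variable {G : Type*} [Group G]

/-- a subgroup containing a Sylow `q`-subgroup for every prime `q` is everything. -/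
theorem eq_top_of_forall_sylow_le {N : Type*} [Group N] [Finite N] (C : Subgroup N)
    (h : ∀ q : ℕ, ∀ _ : Fact q.Prime, ∃ P : Sylow q N, (P : Subgroup N) ≤ C) : C = ⊤ := by
  rw [← Subgroup.index_eq_one]
  by_contra hne
  obtain ⟨q, hq, hdvd⟩ := Nat.exists_prime_and_dvd hne
  haveI : Fact q.Prime := ⟨hq⟩
  obtain ⟨P, hP⟩ := h q ⟨hq⟩
  exact P.not_dvd_index (hdvd.trans (Subgroup.index_dvd_of_le hP))

/-- subgroup version: `K ≤ C` if for every prime `q` some Sylow `q`-subgroup of `K` lies in `C`. -/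
theorem le_of_forall_sylow_le [Finite G] (K C : Subgroup G)
    (h : ∀ q : ℕ, ∀ _ : Fact q.Prime, ∃ P : Sylow q K, (P : Subgroup K).map K.subtype ≤ C) :
    K ≤ C := by
  have key : C.subgroupOf K = ⊤ := by
    apply eq_top_of_forall_sylow_le
    intro q hq
    obtain ⟨P, hP⟩ := h q hq
    refine ⟨P, fun x hx => ?_⟩
    rw [Subgroup.mem_subgroupOf]
    exact hP ⟨x, hx, rfl⟩
  intro x hx
  have : (⟨x, hx⟩ : K) ∈ C.subgroupOf K := by rw [key]; trivial
  exact Subgroup.mem_subgroupOf.mp this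

/-- a conjugate (by an element of `M`) of a complement of the normal subgroup `N` of `M` is a
complement. -/
theorem isComplIn_conj {E N M : Subgroup G} (hE : Cfsg.IsComplIn E N M)
    (hMN : M ≤ Subgroup.normalizer (N : Set G)) {g : G} (hg : g ∈ M) :
    Cfsg.IsComplIn (E.map (MulAut.conj g).toMonoidHom) N M := by
  obtain ⟨hEM, hNM, hEN, hprod⟩ := hE
  refine ⟨?_, hNM, ?_, ?_⟩
  · rintro _ ⟨e, he, rfl⟩
    exact M.mul_mem (M.mul_mem hg (hEM he)) (M.inv_mem hg)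
  · rw [eq_bot_iff]
    rintro _ ⟨⟨e, he, rfl⟩, hx⟩
    have h1 : g⁻¹ * (g * e * g⁻¹) * g⁻¹⁻¹ ∈ N :=
      (Subgroup.mem_normalizer_iff.mp (hMN (M.inv_mem hg)) _).mp hx
    have e1 : g⁻¹ * (g * e * g⁻¹) * g⁻¹⁻¹ = e := by group
    rw [e1] at h1
    have : e ∈ E ⊓ N := ⟨he, h1⟩
    rw [hEN, Subgroup.mem_bot] at this
    rw [this]
    simp
  · intro m hm
    obtain ⟨a, ha, b, hb, hab⟩ := hprod (g⁻¹ * m * g) (M.mul_mem (M.mul_mem (M.inv_mem hg) hm) hg)
    refine ⟨g * a * g⁻¹, ⟨a, ha, rfl⟩, g * b * g⁻¹,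
      (Subgroup.mem_normalizer_iff.mp (hMN hg) _).mp hb, ?_⟩
    have : m = g * (g⁻¹ * m * g) * g⁻¹ := by group
    rw [this, hab]; group

/-- a normal `q`-subgroup of `M` lies in `O_q(M)`. -/
theorem le_pCoreOf_of_normal {q : ℕ} {M U : Subgroup G} (hUM : U ≤ M)
    (hMU : M ≤ Subgroup.normalizer (U : Set G)) (hU : IsPGroup q U) : U ≤ Cfsg.pCoreOf q M := by
  have hn : (U.subgroupOf M).Normal := (Subgroup.normal_subgroupOf_iff_le_normalizer hUM).mpr hMU
  have h1 : U.subgroupOf M ≤ Cfsg.pCore q ↥M :=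
    Cfsg.Agent.Lib.Helper12.le_pCore' q _ hn hU.comap_subtype
  intro x hx
  exact ⟨⟨x, hUM hx⟩, h1 (Subgroup.mem_subgroupOf.mpr hx), rfl⟩

/-- the elements `a` normalizing `U` with `[R, a] ⊆ U` form a subgroup (here only closure under
products is needed): if `X₁, X₂` normalize `U` and `[R, X_i] ≤ U`, then `[R, X₁ ⊔ X₂] ≤ U`. -/
theorem commutator_sup_le {R U X₁ X₂ : Subgroup G}
    (h1 : ⁅R, X₁⁆ ≤ U) (h2 : ⁅R, X₂⁆ ≤ U)
    (hn1 : X₁ ≤ Subgroup.normalizer (U : Set G)) (hn2 : X₂ ≤ Subgroup.normalizer (U : Set G)) :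
    ⁅R, X₁ ⊔ X₂⁆ ≤ U := by
  -- the subgroup of all `a ∈ N(U)` with `⁅r, a⁆ ∈ U` for all `r ∈ R`
  let Z : Subgroup G :=
    { carrier := {a | a ∈ Subgroup.normalizer (U : Set G) ∧ ∀ r ∈ R, ⁅r, a⁆ ∈ U}
      one_mem' := ⟨Subgroup.one_mem _, fun r _ => by simp⟩
      mul_mem' := by
        rintro a b ⟨han, ha⟩ ⟨hbn, hb⟩
        refine ⟨Subgroup.mul_mem _ han hbn, fun r hr => ?_⟩
        have e : ⁅r, a * b⁆ = ⁅r, a⁆ * (a * ⁅r, b⁆ * a⁻¹) := by
          simp only [commutatorElement_def]; group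
        rw [e]
        exact U.mul_mem (ha r hr) ((Subgroup.mem_normalizer_iff.mp han _).mp (hb r hr))
      inv_mem' := by
        rintro a ⟨han, ha⟩
        refine ⟨Subgroup.inv_mem _ han, fun r hr => ?_⟩
        have e : ⁅r, a⁻¹⁆ = a⁻¹ * (⁅r, a⁆)⁻¹ * a⁻¹⁻¹ := by
          simp only [commutatorElement_def]; group
        rw [e]
        exact (Subgroup.mem_normalizer_iff.mp (Subgroup.inv_mem _ han) _).mp (U.inv_mem (ha r hr)) }
  have hZ1 : X₁ ≤ Z := fun a ha =>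
    ⟨hn1 ha, fun r hr => h1 (Subgroup.commutator_mem_commutator hr ha)⟩
  have hZ2 : X₂ ≤ Z := fun a ha =>
    ⟨hn2 ha, fun r hr => h2 (Subgroup.commutator_mem_commutator hr ha)⟩
  have hZ : X₁ ⊔ X₂ ≤ Z := sup_le hZ1 hZ2
  rw [Subgroup.commutator_le]
  intro r hr a ha
  exact (hZ ha).2 r hr

/-- coprime action: if `[K, A]` is centralized by `A` then so is `K`. -/
theorem le_centralizer_of_commutator_le_centralizer [Finite G] (A K : Subgroup G)
    (hAK : A ≤ Subgroup.normalizer (K : Set G)) (hcop : (Nat.card A).Coprime (Nat.card K))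
    (hsolv : Group.IsSolvable A ∨ Group.IsSolvable K)
    (h : ⁅K, A⁆ ≤ Subgroup.centralizer (A : Set G)) : K ≤ Subgroup.centralizer (A : Set G) :=
  (le_centralizer_sup_commutator A K hAK hcop hsolv).trans (sup_le inf_le_right h)

end Cfsg.Agent.Lib.Helper17.BGExG
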