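/-
helper17: B&G Lemma 11.7, Step 1 (core form): for an exceptional maximal subgroup `M` with data
`(p, A, A₀)` and a complement `E ≥ A` of `M_σ` in `M`, every normal `q`-subgroup of `E` (`q ≠ p`)
is centralized by `A`, given Step 2 (`A` centralizes `O_q(M)`).
-/
import Mathlib
import Cfsg.Prelude.Def_OddOrderLocal
import Cfsg.Prelude.Def_Amalgam
import Cfsg.Agent.Lib.Helper8.BGEx0
import Cfsg.Agent.Lib.Helper1.BGExC
import Cfsg.Agent.Lib.Helper1.Commutator
import Cfsg.Agent.Lib.Helper2.BGCorA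
import Cfsg.Agent.Lib.Helper17.BGTrans3
import Cfsg.Agent.Lib.Helper17.BGToolB
import Cfsg.Agent.Lib.Helper17.BGExF3
import Cfsg.Agent.Lib.Helper17.BGExG1

set_option autoImplicit false
set_option maxHeartbeats 800000

namespace Cfsg.Agent.Lib.Helper17.BGExG

open Cfsg.Agent.Lib.Helper8.BGEx
open Cfsg.Agent.Lib.Helper17
open Cfsg.Agent.Lib.Helper1 (commutator_le_of_le_normalizer le_normalizer_commutator_right)

universe u

variable {G : Type u} [Group G]

/-- the normalizer of an intersection contains the intersection of the normalizers. -/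
theorem normalizer_inf_le (H K : Subgroup G) :
    Subgroup.normalizer (H : Set G) ⊓ Subgroup.normalizer (K : Set G) ≤
      Subgroup.normalizer ((H ⊓ K : Subgroup G) : Set G) := by
  rintro n ⟨h1, h2⟩
  have h1 : n ∈ Subgroup.normalizer (H : Set G) := h1
  have h2 : n ∈ Subgroup.normalizer (K : Set G) := h2
  rw [Subgroup.mem_normalizer_iff] at h1 h2 ⊢
  intro x
  exact ⟨fun hx => ⟨(h1 x).mp hx.1, (h2 x).mp hx.2⟩, fun hx => ⟨(h1 x).mpr hx.1, (h2 x).mpr hx.2⟩⟩

/-- a Sylow subgroup of a nilpotent subgroup `N` is normalized by the normalizer of `N`. -/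
theorem normalizer_le_normalizer_sylow_of_nilpotent [Finite G] (N : Subgroup G)
    (hN : Group.IsNilpotent N) (s : ℕ) [Fact s.Prime] (P : Sylow s N) :
    Subgroup.normalizer (N : Set G) ≤
      Subgroup.normalizer (((P : Subgroup N).map N.subtype : Subgroup G) : Set G) := by
  haveI := hN
  haveI hn : (P : Subgroup N).Normal := inferInstance
  haveI : (P : Subgroup N).Characteristic := Sylow.characteristic_of_normal P hn
  exact BGTool.normalizer_le_normalizer_map_of_char N (P : Subgroup N)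

/-- **L1.** -/
theorem normal_le_centralizer [Finite G] (hG : Cfsg.IsMinSimpleOddOrder G) {M : Subgroup G} {p : ℕ}
    [Fact p.Prime] {A A₀ : Subgroup G} (h : Exc M p A A₀)
    (hnil : Group.IsNilpotent (Cfsg.sigmaCore M))
    (h2fpf : ∃ X₁ X₂ : Subgroup G, X₁ ≤ A ∧ X₂ ≤ A ∧ Nat.card X₁ = p ∧ Nat.card X₂ = p ∧ X₁ ≠ X₂ ∧
      Cfsg.sigmaCore M ⊓ Subgroup.centralizer (X₁ : Set G) = ⊥ ∧
      Cfsg.sigmaCore M ⊓ Subgroup.centralizer (X₂ : Set G) = ⊥)
    (hstep2 : ∀ q : ℕ, ∀ _ : Fact q.Prime, q ∉ Cfsg.sigma M → q ≠ p →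
      Cfsg.pCoreOf q M ≤ Subgroup.centralizer (A : Set G))
    {E : Subgroup G} (hE : Cfsg.IsComplIn E (Cfsg.sigmaCore M) M) (hAE : A ≤ E)
    (hEσ : ∀ q : ℕ, q.Prime → q ∣ Nat.card E → q ∉ Cfsg.sigma M)
    {q : ℕ} [hqf : Fact q.Prime] (hqp : q ≠ p) {R : Subgroup G} (hRE : R ≤ E)
    (hER : E ≤ Subgroup.normalizer (R : Set G)) (hR : IsPGroup q R) :
    R ≤ Subgroup.centralizer (A : Set G) := by
  classical
  have hpp : p.Prime := Fact.out
  have hqq : q.Prime := Fact.out
  by_cases hR1 : R = ⊥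
  · rw [hR1]; exact bot_le
  have hqσ : q ∉ Cfsg.sigma M := by
    apply hEσ q hqq
    obtain ⟨k, hk⟩ := IsPGroup.iff_card.mp hR
    rcases Nat.eq_zero_or_pos k with rfl | hk0
    · exfalso; rw [pow_zero] at hk; exact hR1 (Subgroup.card_eq_one.mp hk)
    · exact (hk ▸ dvd_pow_self q hk0.ne' : q ∣ Nat.card R).trans (Subgroup.card_dvd_of_le hRE)
  have hEM : E ≤ M := hE.1
  have hMσ : M ≤ Subgroup.normalizer ((Cfsg.sigmaCore M : Subgroup G) : Set G) :=
    le_normalizer_piCoreOf M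
  obtain ⟨X₁, X₂, hX₁A, hX₂A, hX₁p, hX₂p, hX12, hf1, hf2⟩ := h2fpf
  -- `[R, X]` centralizes `M_σ` for an f.p.f. point `X`
  have hkey : ∀ X : Subgroup G, X ≤ A → Nat.card X = p →
      Cfsg.sigmaCore M ⊓ Subgroup.centralizer (X : Set G) = ⊥ →
      ⁅R, X⁆ ≤ Subgroup.centralizer ((Cfsg.sigmaCore M : Subgroup G) : Set G) := by
    intro X hXA hXp hXf
    rw [Subgroup.le_centralizer_iff]
    apply le_of_forall_sylow_le
    intro s hs
    haveI := hs
    obtain ⟨P⟩ : Nonempty (Sylow s (Cfsg.sigmaCore M)) := inferInstance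
    refine ⟨P, ?_⟩
    by_cases hP1 : (P : Subgroup (Cfsg.sigmaCore M)).map (Cfsg.sigmaCore M).subtype = ⊥
    · rw [hP1]; exact bot_le
    have hsσ : s ∈ Cfsg.sigma M := by
      apply Cfsg.Agent.Lib.Helper2.BGCor.primes_card_sigmaCore M s hs.out
      have h1 : Nat.card ((P : Subgroup (Cfsg.sigmaCore M)).map (Cfsg.sigmaCore M).subtype) ∣
          Nat.card (Cfsg.sigmaCore M) := Subgroup.card_dvd_of_le (Subgroup.map_subtype_le _)
      refine dvd_trans ?_ h1
      obtain ⟨k, hk⟩ := IsPGroup.iff_card.mp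
        ((P.isPGroup'.map (Cfsg.sigmaCore M).subtype :
          IsPGroup s ↥((P : Subgroup (Cfsg.sigmaCore M)).map (Cfsg.sigmaCore M).subtype)))
      rcases Nat.eq_zero_or_pos k with rfl | hk0
      · exfalso; rw [pow_zero] at hk; exact hP1 (Subgroup.card_eq_one.mp hk)
      · rw [hk]; exact dvd_pow_self s hk0.ne'
    have hps : p ≠ s := fun e => h.not_sigma (e ▸ hsσ)
    have hqs : q ≠ s := fun e => hqσ (e ▸ hsσ)
    have hMQ : M ≤ Subgroup.normalizer
        ((((P : Subgroup (Cfsg.sigmaCore M)).map (Cfsg.sigmaCore M).subtype : Subgroup G)) : Set G) :=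
      hMσ.trans (normalizer_le_normalizer_sylow_of_nilpotent _ hnil s P)
    rw [← Subgroup.le_centralizer_iff]
    refine Cfsg.Agent.Lib.Helper1.BGExC.hh_centralizes' hpp hqq hs.out (Ne.symm hqp) hps hqs hXp hR
      (P.isPGroup'.map _) ((hXA.trans hAE).trans hER) ((hXA.trans h.le).trans hMQ)
      ((hRE.trans hEM).trans hMQ)
      (Odd.of_dvd_nat hG.1 (Subgroup.card_subgroup_dvd_card _))
      (Odd.of_dvd_nat hG.1 (Subgroup.card_subgroup_dvd_card _)) ?_
    rw [eq_bot_iff, ← hXf]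
    exact inf_le_inf_right _ (Subgroup.map_subtype_le _)
  -- `U = R ∩ C(M_σ)`
  obtain ⟨U, hUdef⟩ : ∃ U : Subgroup G,
      U = R ⊓ Subgroup.centralizer ((Cfsg.sigmaCore M : Subgroup G) : Set G) := ⟨_, rfl⟩
  have hEU : E ≤ Subgroup.normalizer (U : Set G) := by
    rw [hUdef]
    refine le_trans (le_inf hER ?_) (normalizer_inf_le _ _)
    exact (hEM.trans hMσ).trans (normalizer_le_normalizer_centralizer' _)
  have hRX : ∀ X : Subgroup G, X ≤ A → Nat.card X = p →
      Cfsg.sigmaCore M ⊓ Subgroup.centralizer (X : Set G) = ⊥ → ⁅R, X⁆ ≤ U := by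
    intro X hXA hXp hXf
    rw [hUdef]
    exact le_inf (commutator_le_of_le_normalizer ((hXA.trans hAE).trans hER)) (hkey X hXA hXp hXf)
  haveI : Finite A := inferInstance
  have hA12 : X₁ ⊔ X₂ = A := BGExF.sup_eq_of_card_prime hpp h.card hX₁A hX₂A hX₁p hX₂p hX12
  have hRA : ⁅R, A⁆ ≤ U := by
    rw [← hA12]
    exact commutator_sup_le (hRX X₁ hX₁A hX₁p hf1) (hRX X₂ hX₂A hX₂p hf2)
      ((hX₁A.trans hAE).trans hEU) ((hX₂A.trans hAE).trans hEU)
  -- `U` is a normal `q`-subgroup of `M`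
  have hUR : U ≤ R := by rw [hUdef]; exact inf_le_left
  have hUM : U ≤ M := (hUR.trans hRE).trans hEM
  have hσU : Cfsg.sigmaCore M ≤ Subgroup.normalizer (U : Set G) := by
    refine le_trans ?_ (Subgroup.centralizer_le_normalizer _)
    rw [← Subgroup.le_centralizer_iff, hUdef]
    exact inf_le_right
  have hMU : M ≤ Subgroup.normalizer (U : Set G) := by
    intro m hm
    obtain ⟨e, he, b, hb, rfl⟩ := hE.2.2.2 m hm
    exact Subgroup.mul_mem _ (hEU he) (hσU hb)
  have hUq : IsPGroup q U := hR.to_le hUR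
  have hUA : U ≤ Subgroup.centralizer (A : Set G) :=
    (le_pCoreOf_of_normal hUM hMU hUq).trans (hstep2 q hqf hqσ hqp)
  -- coprime action
  have hcop : (Nat.card A).Coprime (Nat.card R) := by
    obtain ⟨k, hk⟩ := IsPGroup.iff_card.mp hR
    rw [h.card, hk]
    exact Nat.Coprime.pow 2 k ((Nat.coprime_primes hpp hqq).mpr (Ne.symm hqp))
  have hAsolv : Group.IsSolvable A := by
    haveI : Group.IsNilpotent A := (IsPGroup.of_card h.card : IsPGroup p A).isNilpotent
    infer_instance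
  exact le_centralizer_of_commutator_le_centralizer A R (hAE.trans hER) hcop (Or.inl hAsolv)
    (hRA.trans hUA)

end Cfsg.Agent.Lib.Helper17.BGExG
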