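/-
helper17: B&G Lemma 11.7 (core form): `M_σ A ⊴ M` for an exceptional maximal subgroup, from Step 2
(`A` centralizes `O_q(M)`), 11.3, 11.6(a),(c), S1350, S1410, S1415.
-/
import Mathlib
import Cfsg.Prelude.Def_OddOrderLocal
import Cfsg.Prelude.Def_Amalgam
import Cfsg.Agent.Lib.Helper17.BGExG2
import Cfsg.Agent.Lib.Helper17.Basic
import Cfsg.Agent.Lib.Helper1.BG36R1
import Cfsg.Agent.Lib.Helper2.BGCorC
import Cfsg.Agent.Lib.Helper2.BGCorF
import Cfsg.Agent.Lib.Helper9.TypeP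
import Cfsg.Agent.S0023
import Cfsg.Agent.S1350
import Cfsg.Agent.S1410
import Cfsg.Agent.S1415

set_option autoImplicit false
set_option maxHeartbeats 800000

namespace Cfsg.Agent.Lib.Helper17.BGExG

open Cfsg.Agent.Lib.Helper8.BGEx
open Cfsg.Agent.Lib.Helper17
open Cfsg.Agent.Lib.Helper1 (commutator_le_of_le_normalizer le_normalizer_commutator_right)

universe u

variable {G : Type u} [Group G]

/-- **Step 1, part A**: `O_{p'}(E) ≤ C(A)`. -/
theorem pPrimeCoreOf_le_centralizer [Finite G] (hG : Cfsg.IsMinSimpleOddOrder G) {M : Subgroup G}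
    {p : ℕ} [Fact p.Prime] {A A₀ : Subgroup G} (h : Exc M p A A₀)
    (hnil : Group.IsNilpotent (Cfsg.sigmaCore M))
    (h2fpf : ∃ X₁ X₂ : Subgroup G, X₁ ≤ A ∧ X₂ ≤ A ∧ Nat.card X₁ = p ∧ Nat.card X₂ = p ∧ X₁ ≠ X₂ ∧
      Cfsg.sigmaCore M ⊓ Subgroup.centralizer (X₁ : Set G) = ⊥ ∧
      Cfsg.sigmaCore M ⊓ Subgroup.centralizer (X₂ : Set G) = ⊥)
    (hstep2 : ∀ q : ℕ, ∀ _ : Fact q.Prime, q ∉ Cfsg.sigma M → q ≠ p →
      Cfsg.pCoreOf q M ≤ Subgroup.centralizer (A : Set G))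
    {E : Subgroup G} (hE : Cfsg.IsComplIn E (Cfsg.sigmaCore M) M) (hAE : A ≤ E)
    (hEσ : ∀ q : ℕ, q.Prime → q ∣ Nat.card E → q ∉ Cfsg.sigma M) :
    (Cfsg.pPrimeCore p ↥E).map E.subtype ≤ Subgroup.centralizer (A : Set G) := by
  classical
  have hpp : p.Prime := Fact.out
  obtain ⟨KE, hKEdef⟩ : ∃ KE : Subgroup G, KE = (Cfsg.pPrimeCore p ↥E).map E.subtype := ⟨_, rfl⟩
  rw [← hKEdef]
  have hKEE : KE ≤ E := by rw [hKEdef]; exact Subgroup.map_subtype_le _
  have hEKE : E ≤ Subgroup.normalizer (KE : Set G) := by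
    rw [hKEdef]; exact BGExF.le_normalizer_pPrimeCoreOf p E
  have hAKE : A ≤ Subgroup.normalizer (KE : Set G) := hAE.trans hEKE
  have hKEcop : (Nat.card KE).Coprime p := by
    rw [hKEdef, Subgroup.card_map_of_injective (Subgroup.subtype_injective _)]
    exact Cfsg.Agent.Lib.Helper12.pPrimeCore_coprime p
  have hcop : (Nat.card A).Coprime (Nat.card KE) := by
    rw [h.card]; exact Nat.Coprime.pow_left 2 hKEcop.symm
  have hAsolv : Group.IsSolvable A := by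
    haveI : Group.IsNilpotent A := (IsPGroup.of_card h.card : IsPGroup p A).isNilpotent
    infer_instance
  have hE'nil : Group.IsNilpotent ↥⁅E, E⁆ := (Cfsg.Agent.S1415.result hG M h.coatom E hE).1
  have hE'E : ⁅E, E⁆ ≤ E := commutator_le_of_le_normalizer Subgroup.le_normalizer
  apply le_of_forall_sylow_le
  intro q hq
  haveI := hq
  have hqq : q.Prime := hq.out
  by_cases hqp : q = p
  · subst hqp
    obtain ⟨P⟩ : Nonempty (Sylow q KE) := inferInstance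
    refine ⟨P, ?_⟩
    have hP1 : (P : Subgroup KE) = ⊥ := by
      rw [← Subgroup.card_eq_one]
      obtain ⟨k, hk⟩ := IsPGroup.iff_card.mp P.isPGroup'
      have h1 : Nat.card (P : Subgroup KE) ∣ Nat.card KE := Subgroup.card_subgroup_dvd_card _
      have h2 : (Nat.card (P : Subgroup KE)).Coprime q := Nat.Coprime.coprime_dvd_left h1 hKEcop
      rcases Nat.eq_zero_or_pos k with rfl | hk0
      · rw [hk, pow_zero]
      · exfalso
        rw [hk] at h2
        have : q ∣ Nat.gcd (q ^ k) q := Nat.dvd_gcd (dvd_pow_self q hk0.ne') dvd_rfl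
        rw [h2] at this
        exact hqq.one_lt.ne' (Nat.dvd_one.mp this)
    rw [hP1, Subgroup.map_bot]; exact bot_le
  · obtain ⟨P, hAP⟩ := Cfsg.Agent.S0023.result A KE hAKE hcop (Or.inl hAsolv) q
    refine ⟨P, ?_⟩
    obtain ⟨T, hTdef⟩ : ∃ T : Subgroup G, T = (P : Subgroup KE).map KE.subtype := ⟨_, rfl⟩
    rw [← hTdef] at hAP ⊢
    have hTq : IsPGroup q T := by rw [hTdef]; exact P.isPGroup'.map _
    have hTE : T ≤ E := by rw [hTdef]; exact (Subgroup.map_subtype_le _).trans hKEE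
    obtain ⟨P'⟩ : Nonempty (Sylow q ↥⁅E, E⁆) := inferInstance
    obtain ⟨R, hRdef⟩ : ∃ R : Subgroup G, R = (P' : Subgroup ↥⁅E, E⁆).map (⁅E, E⁆).subtype :=
      ⟨_, rfl⟩
    have hER : E ≤ Subgroup.normalizer (R : Set G) := by
      rw [hRdef]
      exact (le_normalizer_commutator_right E E).trans
        (normalizer_le_normalizer_sylow_of_nilpotent ⁅E, E⁆ hE'nil q P')
    have hRE : R ≤ E := by rw [hRdef]; exact (Subgroup.map_subtype_le _).trans hE'E
    have hRq : IsPGroup q R := by rw [hRdef]; exact P'.isPGroup'.map _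
    have hRA := normal_le_centralizer hG h hnil h2fpf hstep2 hE hAE hEσ hqp hRE hER hRq
    have hTA : ⁅T, A⁆ ≤ R := by
      have h1 : ⁅T, A⁆ ≤ ⁅E, E⁆ := Subgroup.commutator_mono hTE hAE
      have h2 : ⁅T, A⁆ ≤ T := commutator_le_of_le_normalizer hAP
      have h3 : IsPGroup q ↥⁅T, A⁆ := hTq.to_le h2
      haveI := hE'nil
      have hP'n : (P' : Subgroup ↥⁅E, E⁆).Normal := inferInstance
      obtain ⟨Q', hQ'⟩ := (h3.comap_subtype :
        IsPGroup q ↥((⁅T, A⁆).subgroupOf ⁅E, E⁆)).exists_le_sylow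
      haveI := Sylow.unique_of_normal P' hP'n
      have hQP : Q' = P' := Subsingleton.elim _ _
      intro x hx
      rw [hRdef]
      exact ⟨⟨x, h1 hx⟩, hQP ▸ hQ' (Subgroup.mem_subgroupOf.mpr hx), rfl⟩
    have hcopT : (Nat.card A).Coprime (Nat.card T) :=
      Nat.Coprime.coprime_dvd_right (Subgroup.card_dvd_of_le (by
        rw [hTdef]; exact Subgroup.map_subtype_le _)) hcop
    exact le_centralizer_of_commutator_le_centralizer A T hAP hcopT (Or.inl hAsolv)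
      (hTA.trans hRA)


/-- **Step 1, part B**: `E ≤ N(A)` from `O_{p'}(E) ≤ C(A)`, `p`-length one and `A = Ω₁(P)`. -/
theorem compl_le_normalizer [Finite G] (hG : Cfsg.IsMinSimpleOddOrder G) {M : Subgroup G}
    {p : ℕ} [Fact p.Prime] {A A₀ : Subgroup G} (h : Exc M p A A₀)
    (homega : ∀ P : Subgroup G, P ≤ M → IsPGroup p P → A ≤ P → ∀ x ∈ P, x ^ p = 1 → x ∈ A)
    {E : Subgroup G} (hEM : E ≤ M) (hAE : A ≤ E)
    (hK : (Cfsg.pPrimeCore p ↥E).map E.subtype ≤ Subgroup.centralizer (A : Set G)) :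
    E ≤ Subgroup.normalizer (A : Set G) := by
  classical
  have hpp : p.Prime := Fact.out
  have hEtop : E ≠ ⊤ := fun e => h.coatom.1 (top_le_iff.mp (e ▸ hEM))
  have hPL : Cfsg.PLengthLE p 1 ↥E := Cfsg.Agent.S1410.result hG p E hEtop
  obtain ⟨-, -, h3, h4⟩ := Cfsg.Agent.Lib.Helper1.BG36R.chain_of_pLengthLE_one hPL
  obtain ⟨K, hKdef⟩ : ∃ K : Subgroup ↥E, K = Cfsg.pPrimeCore p ↥E := ⟨_, rfl⟩
  obtain ⟨L, hLdef⟩ : ∃ L : Subgroup ↥E, L = Cfsg.pPrimePCore p ↥E := ⟨_, rfl⟩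
  rw [← hKdef] at hK
  rw [← hKdef, ← hLdef] at h3
  rw [← hLdef] at h4
  haveI hLchar : L.Characteristic := by
    rw [hLdef]; exact Cfsg.Agent.Lib.Helper1.BG36R.pPrimePCore_characteristic ↥E
  haveI hLn : L.Normal := inferInstance
  obtain ⟨Ab, hAbdef⟩ : ∃ Ab : Subgroup ↥E, Ab = A.subgroupOf E := ⟨_, rfl⟩
  have hAp : IsPGroup p A := IsPGroup.of_card h.card
  have hAbp : IsPGroup p Ab := by rw [hAbdef]; exact hAp.comap_subtype
  have hAbcard : Nat.card Ab = p ^ 2 := by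
    rw [hAbdef, Nat.card_congr (Subgroup.subgroupOfEquivOfLe hAE).toEquiv, h.card]
  have hAbL : Ab ≤ L := by
    rw [← Subgroup.relIndex_eq_one]
    have d1 : L.relIndex Ab ∣ L.index := Subgroup.relIndex_dvd_index_of_normal L Ab
    have d2 : L.relIndex Ab ∣ p ^ 2 := hAbcard ▸ Subgroup.relIndex_dvd_card L Ab
    exact Nat.eq_one_of_dvd_coprimes (Nat.Coprime.pow_right 2 h4) d1 d2
  obtain ⟨PL, hPL'⟩ := (hAbp.comap_subtype : IsPGroup p ↥(Ab.subgroupOf L)).exists_le_sylow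
  obtain ⟨P, hPdef⟩ : ∃ P : Subgroup ↥E, P = (PL : Subgroup L).map L.subtype := ⟨_, rfl⟩
  have hPp : IsPGroup p P := by rw [hPdef]; exact PL.isPGroup'.map _
  have hAbP : Ab ≤ P := by
    intro x hx
    rw [hPdef]
    exact ⟨⟨x, hAbL hx⟩, hPL' (Subgroup.mem_subgroupOf.mpr hx), rfl⟩
  have hfr : Subgroup.normalizer ((P : Subgroup ↥E) : Set ↥E) ⊔ L = ⊤ := by
    rw [hPdef]; exact Sylow.normalizer_sup_eq_top PL
  -- `L ≤ K ⊔ P`
  have hLKP : L ≤ K ⊔ P := by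
    have key : (K ⊔ P).subgroupOf L = ⊤ := by
      apply eq_top_of_forall_sylow_le
      intro q hq
      haveI := hq
      by_cases hqp : q = p
      · subst hqp
        refine ⟨PL, fun x hx => ?_⟩
        rw [Subgroup.mem_subgroupOf]
        apply (le_sup_right : P ≤ K ⊔ P)
        rw [hPdef]
        exact ⟨x, hx, rfl⟩
      · obtain ⟨QL⟩ : Nonempty (Sylow q L) := inferInstance
        refine ⟨QL, fun x hx => ?_⟩
        rw [Subgroup.mem_subgroupOf]
        apply (le_sup_left : K ≤ K ⊔ P)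
        obtain ⟨k, hk⟩ := h3 (x : ↥E) x.2
        obtain ⟨j, hj⟩ := QL.isPGroup' ⟨x, hx⟩
        have hj' : (x : ↥E) ^ (q ^ j) = 1 := by
          have := congrArg (fun z : (QL : Subgroup L) => ((z : L) : ↥E)) hj
          simpa using this
        have hcop : (p ^ k).Coprime (q ^ j) :=
          Nat.Coprime.pow k j ((Nat.coprime_primes hpp hq.out).mpr (Ne.symm hqp))
        exact Cfsg.Agent.Lib.Helper1.BG36R.mem_of_pow_mem_of_coprime hk
          (by rw [hj']; exact K.one_mem) hcop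
    intro x hx
    have : (⟨x, hx⟩ : L) ∈ (K ⊔ P).subgroupOf L := by rw [key]; trivial
    exact Subgroup.mem_subgroupOf.mp this
  -- `N(P) ≤ N(Ab)`
  have hNP : Subgroup.normalizer ((P : Subgroup ↥E) : Set ↥E) ≤
      Subgroup.normalizer ((Ab : Subgroup ↥E) : Set ↥E) := by
    intro n hn
    apply mem_normalizer_of_forall_conj_mem
    intro x hx
    have hxP : n * x * n⁻¹ ∈ P := (Subgroup.mem_normalizer_iff.mp hn x).mp (hAbP hx)
    rw [hAbdef, Subgroup.mem_subgroupOf]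
    have hxA : (x : G) ∈ A := by rw [hAbdef] at hx; exact Subgroup.mem_subgroupOf.mp hx
    refine homega (P.map E.subtype) ((Subgroup.map_subtype_le _).trans hEM) (hPp.map _) ?_ _
      ⟨_, hxP, rfl⟩ ?_
    · intro a ha
      exact ⟨⟨a, hAE ha⟩, hAbP (by rw [hAbdef]; exact Subgroup.mem_subgroupOf.mpr ha), rfl⟩
    · have e1 : ((n * x * n⁻¹ : ↥E) : G) = (n : G) * (x : G) * (n : G)⁻¹ := by simp
      rw [e1, conj_pow, h.elem.2 _ hxA]; group
  have hKN : K ≤ Subgroup.normalizer ((Ab : Subgroup ↥E) : Set ↥E) := by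
    intro k hk
    apply mem_normalizer_of_forall_conj_mem
    intro x hx
    have hkC : (k : G) ∈ Subgroup.centralizer (A : Set G) := hK ⟨k, hk, rfl⟩
    have hxA : (x : G) ∈ A := by rw [hAbdef] at hx; exact Subgroup.mem_subgroupOf.mp hx
    rw [Subgroup.mem_centralizer_iff] at hkC
    have e1 : k * x * k⁻¹ = x := by
      apply Subtype.ext
      have e2 : ((k * x * k⁻¹ : ↥E) : G) = (k : G) * (x : G) * (k : G)⁻¹ := by simp
      rw [e2, ← hkC _ hxA]; group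
    rw [e1]; exact hx
  have hN : Subgroup.normalizer ((Ab : Subgroup ↥E) : Set ↥E) = ⊤ := by
    rw [eq_top_iff, ← hfr]
    refine sup_le hNP (hLKP.trans (sup_le hKN (Subgroup.le_normalizer.trans hNP)))
  intro e he
  have he' : (⟨e, he⟩ : ↥E) ∈ Subgroup.normalizer ((Ab : Subgroup ↥E) : Set ↥E) := by
    rw [hN]; trivial
  apply mem_normalizer_of_forall_conj_mem
  intro a ha
  have h1 := (Subgroup.mem_normalizer_iff.mp he' ⟨a, hAE ha⟩).mp
    (by rw [hAbdef]; exact Subgroup.mem_subgroupOf.mpr ha)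
  rw [hAbdef, Subgroup.mem_subgroupOf] at h1
  simpa using h1


/-- **B&G Lemma 11.7 (core form).**  `M_σ A ⊴ M`, given 11.3 (`hnil`), 11.6(c) (`h2fpf`), 11.6(a)
(`homega`) and Step 2 (`hstep2`). -/
theorem normal_core [Finite G] (hG : Cfsg.IsMinSimpleOddOrder G) {M : Subgroup G}
    {p : ℕ} [Fact p.Prime] {A A₀ : Subgroup G} (h : Exc M p A A₀)
    (hnil : Group.IsNilpotent (Cfsg.sigmaCore M))
    (h2fpf : ∃ X₁ X₂ : Subgroup G, X₁ ≤ A ∧ X₂ ≤ A ∧ Nat.card X₁ = p ∧ Nat.card X₂ = p ∧ X₁ ≠ X₂ ∧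
      Cfsg.sigmaCore M ⊓ Subgroup.centralizer (X₁ : Set G) = ⊥ ∧
      Cfsg.sigmaCore M ⊓ Subgroup.centralizer (X₂ : Set G) = ⊥)
    (homega : ∀ P : Subgroup G, P ≤ M → IsPGroup p P → A ≤ P → ∀ x ∈ P, x ^ p = 1 → x ∈ A)
    (hstep2 : ∀ q : ℕ, ∀ _ : Fact q.Prime, q ∉ Cfsg.sigma M → q ≠ p →
      Cfsg.pCoreOf q M ≤ Subgroup.centralizer (A : Set G)) :
    M ≤ Subgroup.normalizer ((Cfsg.sigmaCore M ⊔ A : Subgroup G) : Set G) := by
  classical
  have hpp : p.Prime := Fact.out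
  obtain ⟨hHall, -, -⟩ := Cfsg.Agent.S1350.result hG M h.coatom
  have hMσ : M ≤ Subgroup.normalizer ((Cfsg.sigmaCore M : Subgroup G) : Set G) :=
    le_normalizer_piCoreOf M
  obtain ⟨E₀, hE₀⟩ := Cfsg.Agent.Lib.Helper2.BGCor.exists_compl_sigmaCore hHall
  have hAσ : ∀ r : ℕ, r.Prime → r ∣ Nat.card A → r ∉ Cfsg.sigma M := by
    intro r hr hd
    rw [h.card] at hd
    have : r = p := (Nat.prime_dvd_prime_iff_eq hr hpp).1 (hr.dvd_of_dvd_pow hd)
    rw [this]; exact h.not_sigma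
  obtain ⟨g, hg, hAg⟩ :=
    Cfsg.Agent.Lib.Helper2.BGCor.exists_conj_le_compl hG h.coatom hHall hE₀ h.le hAσ
  have hE := isComplIn_conj hE₀ hMσ (M.inv_mem hg)
  obtain ⟨E, hEdef⟩ : ∃ E : Subgroup G, E = E₀.map (MulAut.conj g⁻¹).toMonoidHom := ⟨_, rfl⟩
  rw [← hEdef] at hE
  have hAE : A ≤ E := by
    intro a ha
    rw [hEdef]
    refine ⟨g * a * g⁻¹, hAg ⟨a, ha, rfl⟩, ?_⟩
    show g⁻¹ * (g * a * g⁻¹) * g⁻¹⁻¹ = a
    group
  have hEM : E ≤ M := hE.1
  have hcard := Cfsg.Agent.Lib.Helper9.isComplIn_card_mul_card hE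
  have hEσ : ∀ q : ℕ, q.Prime → q ∣ Nat.card E → q ∉ Cfsg.sigma M := by
    intro q hq hd hqσ
    apply hHall.2.2 q hq hqσ
    have h1 := Cfsg.Agent.Lib.Helper4.card_mul_relIndex hHall.1
    have hpos : 0 < Nat.card (Cfsg.sigmaCore M) := Nat.card_pos
    have h2 : (Cfsg.sigmaCore M).relIndex M = Nat.card E := by
      apply Nat.eq_of_mul_eq_mul_left hpos
      rw [h1, ← hcard, mul_comm]
    rw [h2]; exact hd
  have hK := pPrimeCoreOf_le_centralizer hG h hnil h2fpf hstep2 hE hAE hEσ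
  have hEA := compl_le_normalizer hG h homega hEM hAE hK
  intro m hm
  obtain ⟨e, he, b, hb, rfl⟩ := hE.2.2.2 m hm
  apply Subgroup.mul_mem
  · rw [Cfsg.Agent.Lib.Helper8.mem_normalizer_iff_map_conj, Subgroup.map_sup,
      Cfsg.Agent.Lib.Helper8.mem_normalizer_iff_map_conj.mp (hMσ (hEM he)),
      Cfsg.Agent.Lib.Helper8.mem_normalizer_iff_map_conj.mp (hEA he)]
  · exact Subgroup.le_normalizer ((le_sup_left : Cfsg.sigmaCore M ≤ Cfsg.sigmaCore M ⊔ A) hb)

end Cfsg.Agent.Lib.Helper17.BGExG
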