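/-
helper17: "Theorem R2" (notes/bg14/NOTES_h20.md sec. 8), part B: the configuration and its
first consequences (steps 0 and 1 of the proof).
-/
import Mathlib
import Cfsg.Prelude.Def_OddOrderLocal
import Cfsg.Agent.Lib.Helper17.BGR2A
import Cfsg.Agent.Lib.Helper16.BGPrimD
import Cfsg.Agent.Lib.Helper2.BGCorJ
import Cfsg.Agent.Lib.Helper8.BGEx3
import Cfsg.Agent.Lib.Helper17.BGUniqC
import Cfsg.Agent.S1415
import Cfsg.Agent.S1417
import Cfsg.Agent.S1418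
import Cfsg.Agent.S1419
import Cfsg.Agent.S1423
import Cfsg.Agent.S1424

set_option autoImplicit false
set_option linter.unusedSectionVars false
set_option linter.unusedVariables false
set_option linter.style.haveILetI false

namespace Cfsg.Agent.Lib.Helper17.BGR2

open Cfsg.Agent.Lib.Helper17
open Cfsg.Agent.Lib.Helper8 (mem_map_conj conj_mem_map_conj map_conj_map_conj map_conj_one
  map_conj_le_iff map_conj_eq_iff card_map_conj mem_normalizer_iff_map_conj sylow_smul_coe)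
open scoped commutatorElement

universe u

variable {G : Type u} [Group G]

/-- The conclusion of the frozen statement S1428, `∀`-closed. -/
def H1428 (G : Type u) [Group G] : Prop :=
  ∀ (M : Subgroup G), IsCoatom M → ∀ E : Subgroup G, Cfsg.IsComplIn E (Cfsg.sigmaCore M) M →
    ∀ p : ℕ, p ∈ Cfsg.tau1 M → ∀ P : Subgroup G, P ≤ E → Nat.card P = p →
    ∀ R : Subgroup G, R ≤ E ⊓ Subgroup.centralizer (P : Set G) → (Nat.card R).Prime →
      Cfsg.sigmaCore M ⊓ Subgroup.centralizer (P : Set G) ≤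
        Cfsg.sigmaCore M ⊓ Subgroup.centralizer (R : Set G)

/-- The configuration `(Ω)` of Theorem R2 (without the hypothesis that `k` acts nontrivially
on `A`). -/
structure Cfg (M E A : Subgroup G) (r : ℕ) (k : G) : Prop where
  hG : Cfsg.IsMinSimpleOddOrder G
  h28 : H1428 G
  hM : IsCoatom M
  hE : Cfsg.IsComplIn E (Cfsg.sigmaCore M) M
  hr : r ∈ Cfsg.tau2 M
  hS : ∀ S : Sylow r G, ¬ IsMulCommutative (S : Subgroup G)
  hAE : A ≤ E
  hAe : Cfsg.IsElementaryAbelian r A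
  hA2 : Nat.card A = r ^ 2
  hkE : k ∈ E
  hks : orderOf k ∈ Cfsg.kappa M
  hku : ∀ u ∈ A ⊓ Subgroup.centralizer (Cfsg.sigmaCore M : Set G), k * u = u * k

section helpers

theorem h17 [Finite G] (hG : Cfsg.IsMinSimpleOddOrder G) : Cfsg.Agent.Lib.Helper16.BGPrim.H17n G :=
  fun M hM q _ hq A hA => (Cfsg.Agent.S1417.result hG M hM q hq A hA).1

theorem h18 [Finite G] (hG : Cfsg.IsMinSimpleOddOrder G) : Cfsg.Agent.Lib.Helper16.BGPrim.H18a G :=
  fun M hM E hE q _ hq A hA =>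
    ⟨(Cfsg.Agent.S1418.result hG M hM E hE q hq A hA).1.1,
      (Cfsg.Agent.S1418.result hG M hM E hE q hq A hA).2.1.2.2⟩

theorem h23 [Finite G] (hG : Cfsg.IsMinSimpleOddOrder G) : Cfsg.Agent.Lib.Helper16.BGPrim.H23 G :=
  fun M hM q _ hq X hXM hX P hXd =>
    (Cfsg.Agent.S1423.result hG M hM q hq X hXM hX P (Or.inr hXd)).2

theorem h24 [Finite G] (hG : Cfsg.IsMinSimpleOddOrder G) : Cfsg.Agent.Lib.Helper16.BGPrim.H24 G :=
  fun M hM q _ hq X hXq hX1 hXM Mstar hMs hne hNX S hXS =>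
    Cfsg.Agent.S1424.result hG M hM q hq X hXq hX1 hXM Mstar hMs hne hNX S hXS

end helpers

variable [Finite G] {M E A : Subgroup G} {r : ℕ} [Fact r.Prime] {k : G}

namespace Cfg

theorem hEM (h : Cfg M E A r k) : E ≤ M := h.hE.1
theorem hAM (h : Cfg M E A r k) : A ≤ M := h.hAE.trans h.hEM
theorem hkM (h : Cfg M E A r k) : k ∈ M := h.hEM h.hkE
theorem hrp (_h : Cfg M E A r k) : r.Prime := Fact.out
theorem hrσ (h : Cfg M E A r k) : r ∉ Cfsg.sigma M := h.hr.2.1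

/-- `A₀ = A ∩ C_G(M_σ)`. -/
theorem s18 (h : Cfg M E A r k) :
    (E ≤ Subgroup.normalizer (A : Set G) ∧ ∀ X : Subgroup G, X ≤ E → Nat.card X = r → X ≤ A) ∧
      (Subgroup.centralizer (A : Set G) ≤ M ⊓ Subgroup.normalizer (A : Set G) ∧
        M ⊓ Subgroup.normalizer (A : Set G) = E ∧ ¬ Subgroup.normalizer (A : Set G) ≤ M) ∧
      ∀ X : Subgroup G, X ≤ A → Nat.card X = r →
        Cfsg.sigmaCore M ⊓ Subgroup.centralizer (X : Set G) ≠ ⊥ →
        (Subgroup.centralizer (X : Set G) ≤ M ∧ ∀ L : Subgroup G, IsCoatom L →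
          Subgroup.centralizer (X : Set G) ≤ L → L = M) :=
  Cfsg.Agent.S1418.result h.hG M h.hM E h.hE r h.hr A ⟨h.hAE, h.hAe, h.hA2⟩

theorem E_le_normA (h : Cfg M E A r k) : E ≤ Subgroup.normalizer (A : Set G) := h.s18.1.1

theorem le_A_of_card (h : Cfg M E A r k) {X : Subgroup G} (hXE : X ≤ E) (hX : Nat.card X = r) :
    X ≤ A := h.s18.1.2 X hXE hX

theorem centA_le (h : Cfg M E A r k) : Subgroup.centralizer (A : Set G) ≤ E := by
  have h1 := h.s18.2.1.1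
  rw [h.s18.2.1.2.1] at h1
  exact h1

theorem M_inf_normA (h : Cfg M E A r k) : M ⊓ Subgroup.normalizer (A : Set G) = E :=
  h.s18.2.1.2.1

theorem s19 (h : Cfg M E A r k) :
    Cfsg.tau2 M = {r} ∧
      (Nat.card ↥(A ⊓ Subgroup.centralizer (Cfsg.sigmaCore M : Set G)) = r ∧
        Cfsg.fittingOf M = Cfsg.sigmaCore M ⊔ (A ⊓ Subgroup.centralizer (Cfsg.sigmaCore M : Set G))) ∧
      ∀ X : Subgroup G, X ≤ E → Nat.card X = r →
        X ≠ A ⊓ Subgroup.centralizer (Cfsg.sigmaCore M : Set G) →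
        Cfsg.sigmaCore M ⊓ Subgroup.centralizer (X : Set G) = ⊥ ∧
          ¬ Subgroup.centralizer (X : Set G) ≤ M :=
  Cfsg.Agent.S1419.result h.hG M h.hM E h.hE r h.hr h.hS A ⟨h.hAE, h.hAe, h.hA2⟩

theorem tau2_eq (h : Cfg M E A r k) : Cfsg.tau2 M = {r} := h.s19.1

theorem card_A0 (h : Cfg M E A r k) :
    Nat.card ↥(A ⊓ Subgroup.centralizer (Cfsg.sigmaCore M : Set G)) = r := h.s19.2.1.1

theorem fpf_of_ne (h : Cfg M E A r k) {X : Subgroup G} (hXE : X ≤ E) (hX : Nat.card X = r)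
    (hne : X ≠ A ⊓ Subgroup.centralizer (Cfsg.sigmaCore M : Set G)) :
    Cfsg.sigmaCore M ⊓ Subgroup.centralizer (X : Set G) = ⊥ := (h.s19.2.2 X hXE hX hne).1

theorem nilp (h : Cfg M E A r k) : Group.IsNilpotent (Cfsg.sigmaCore M) :=
  (Cfsg.Agent.S1417.result h.hG M h.hM r h.hr A ⟨h.hAM, h.hAe, h.hA2⟩).1

theorem fpfA (h : Cfg M E A r k) :
    Cfsg.sigmaCore M ⊓ Subgroup.centralizer (A : Set G) = ⊥ :=
  (Cfsg.Agent.S1417.result h.hG M h.hM r h.hr A ⟨h.hAM, h.hAe, h.hA2⟩).2.2.2.1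

/-- `r`-subgroups of `M` are abelian. -/
theorem comm_of_isPGroup (h : Cfg M E A r k) {R : Subgroup G} (hR : IsPGroup r R) (hRM : R ≤ M) :
    ∀ a ∈ R, ∀ b ∈ R, a * b = b * a := by
  obtain ⟨P, hP⟩ := (hR.comap_subtype (K := M)).exists_le_sylow
  have hc := ((Cfsg.Agent.S1417.result h.hG M h.hM r h.hr A ⟨h.hAM, h.hAe, h.hA2⟩).2.1 P).1
  intro a ha b hb
  have ha' : (⟨a, hRM ha⟩ : ↥M) ∈ (P : Subgroup ↥M) := hP (Subgroup.mem_subgroupOf.mpr ha)
  have hb' : (⟨b, hRM hb⟩ : ↥M) ∈ (P : Subgroup ↥M) := hP (Subgroup.mem_subgroupOf.mpr hb)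
  have := hc.is_comm.comm ⟨_, ha'⟩ ⟨_, hb'⟩
  have h2 := congrArg (fun x : ↥(P : Subgroup ↥M) => ((x : ↥M) : G)) this
  simpa using h2

/-- In an `r`-subgroup of `M` containing `A`, the elements of order dividing `r` lie in `A`. -/
theorem mem_A_of_pow (h : Cfg M E A r k) {R : Subgroup G} (hR : IsPGroup r R) (hRM : R ≤ M)
    (hAR : A ≤ R) {x : G} (hx : x ∈ R) (hxr : x ^ r = 1) : x ∈ A := by
  obtain ⟨P, hP⟩ := (hR.comap_subtype (K := M)).exists_le_sylow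
  have hle : R ≤ (P : Subgroup ↥M).map M.subtype := by
    intro y hy
    exact ⟨⟨y, hRM hy⟩, hP (Subgroup.mem_subgroupOf.mpr hy), rfl⟩
  have hc := ((Cfsg.Agent.S1417.result h.hG M h.hM r h.hr A ⟨h.hAM, h.hAe, h.hA2⟩).2.1 P).2
    (hAR.trans hle)
  exact (hc.1 x (hle hx)).mp hxr

/-! ### `A₀ = A ∩ C_G(M_σ)` -/

theorem A0_ne_bot (h : Cfg M E A r k) :
    A ⊓ Subgroup.centralizer (Cfsg.sigmaCore M : Set G) ≠ ⊥ := by
  intro h0
  have h1 := h.card_A0
  rw [h0, Subgroup.card_bot] at h1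
  exact h.hrp.one_lt.ne h1

theorem A0_le_M (h : Cfg M E A r k) :
    A ⊓ Subgroup.centralizer (Cfsg.sigmaCore M : Set G) ≤ M := inf_le_left.trans h.hAM

theorem E_le_normA0 (h : Cfg M E A r k) :
    E ≤ Subgroup.normalizer ((A ⊓ Subgroup.centralizer (Cfsg.sigmaCore M : Set G) : Subgroup G) :
      Set G) := by
  apply Cfsg.Agent.Lib.Helper8.BGEx.le_normalizer_inf h.E_le_normA
  apply Cfsg.Agent.Lib.Helper8.BGEx.le_normalizer_centralizer
  exact h.hEM.trans (Cfsg.Agent.Lib.Helper8.BGEx.le_normalizer_sigmaCore M)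

theorem sigmaCore_le_centA0 (h : Cfg M E A r k) :
    Cfsg.sigmaCore M ≤ Subgroup.centralizer
      ((A ⊓ Subgroup.centralizer (Cfsg.sigmaCore M : Set G) : Subgroup G) : Set G) := by
  intro b hb
  rw [Subgroup.mem_centralizer_iff]
  intro u hu
  exact (Subgroup.mem_centralizer_iff.mp hu.2 b hb).symm

theorem M_le_normA0 (h : Cfg M E A r k) :
    M ≤ Subgroup.normalizer ((A ⊓ Subgroup.centralizer (Cfsg.sigmaCore M : Set G) : Subgroup G) :
      Set G) := by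
  intro m hm
  obtain ⟨a, ha, b, hb, rfl⟩ := h.hE.2.2.2 m hm
  exact mul_mem (h.E_le_normA0 ha)
    (Subgroup.centralizer_le_normalizer _ (h.sigmaCore_le_centA0 hb))

theorem normA0_eq (h : Cfg M E A r k) :
    Subgroup.normalizer ((A ⊓ Subgroup.centralizer (Cfsg.sigmaCore M : Set G) : Subgroup G) :
      Set G) = M :=
  Cfsg.Agent.Lib.Helper8.BGEx.normalizer_eq_of_coatom (G := G) h.hG h.hM h.A0_ne_bot h.A0_le_M
    h.M_le_normA0

theorem centA0_le (h : Cfg M E A r k) :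
    Subgroup.centralizer ((A ⊓ Subgroup.centralizer (Cfsg.sigmaCore M : Set G) : Subgroup G) :
      Set G) ≤ M := by
  exact (Subgroup.centralizer_le_normalizer _).trans h.normA0_eq.le

/-! ### the prime `s = |k|` -/

theorem hs (h : Cfg M E A r k) : (orderOf k).Prime := h.hks.1

theorem hsσ (h : Cfg M E A r k) : orderOf k ∉ Cfsg.sigma M := h.hks.2.2.1

theorem hs1 (h : Cfg M E A r k) : Cfsg.PRankLE (orderOf k) 1 ↥M :=
  Cfsg.Agent.Lib.Helper2.BGCor.pRankLE_one_of_kappa h.hks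

theorem hsr (h : Cfg M E A r k) : orderOf k ≠ r := by
  intro he
  have h1 := h.hs1
  rw [he] at h1
  exact h.hr.2.2.2 h1

theorem k_ne_one (h : Cfg M E A r k) : k ≠ 1 := by
  intro h1
  have := h.hs
  rw [h1, orderOf_one] at this
  exact Nat.not_prime_one this

theorem card_zpowers_k (h : Cfg M E A r k) : Nat.card (Subgroup.zpowers k) = orderOf k :=
  Nat.card_zpowers k

theorem zpowers_k_ne_bot (h : Cfg M E A r k) : Subgroup.zpowers k ≠ ⊥ := by
  rw [Ne, Subgroup.zpowers_eq_bot]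
  exact h.k_ne_one

theorem zpowers_k_le_E (h : Cfg M E A r k) : Subgroup.zpowers k ≤ E :=
  Subgroup.zpowers_le.mpr h.hkE

theorem isPGroup_zpowers_k (h : Cfg M E A r k) : IsPGroup (orderOf k) (Subgroup.zpowers k) := by
  apply IsPGroup.of_card (n := 1)
  rw [Nat.card_zpowers, pow_one]

theorem centralizer_zpowers_k :
    Subgroup.centralizer ((Subgroup.zpowers k : Subgroup G) : Set G) =
      Subgroup.centralizer ({k} : Set G) := by
  rw [Subgroup.zpowers_eq_closure, Subgroup.centralizer_closure]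

/-- `T_k = C_{M_σ}(k) ≠ 1`. -/
theorem Tk_ne_bot (h : Cfg M E A r k) :
    Cfsg.sigmaCore M ⊓ Subgroup.centralizer ({k} : Set G) ≠ ⊥ := by
  obtain ⟨y, hy, hy1, hxy⟩ := Cfsg.Agent.Lib.Helper2.BGCor.kappa_cent h.hks h.hkM rfl
  intro h0
  apply hy1
  have : y ∈ Cfsg.sigmaCore M ⊓ Subgroup.centralizer ({k} : Set G) := by
    refine Subgroup.mem_inf.mpr ⟨hy, ?_⟩
    rw [Subgroup.mem_centralizer_singleton_iff]
    exact hxy.symm
  rw [h0, Subgroup.mem_bot] at this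
  exact this

/-! ### a maximal subgroup `N ⊇ N_G(⟨k⟩)` -/

theorem exists_N (h : Cfg M E A r k) :
    ∃ N : Subgroup G, IsCoatom N ∧ Subgroup.normalizer ((Subgroup.zpowers k : Subgroup G) : Set G) ≤ N := by
  apply Cfsg.Agent.Lib.Helper17.BGU.exists_coatom_ge
  apply Cfsg.Agent.Lib.Helper8.BGEx.normalizer_ne_top h.hG h.zpowers_k_ne_bot
  intro hT
  exact h.hM.1 (top_le_iff.mp (hT ▸ (h.zpowers_k_le_E.trans h.hEM)))

section withN

variable {N : Subgroup G}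

theorem centk_le_N (h : Cfg M E A r k)
    (hkN : Subgroup.normalizer ((Subgroup.zpowers k : Subgroup G) : Set G) ≤ N) :
    Subgroup.centralizer ({k} : Set G) ≤ N := by
  rw [← centralizer_zpowers_k]
  exact (Subgroup.centralizer_le_normalizer _).trans hkN

theorem nonconj_N (h : Cfg M E A r k) (hN : IsCoatom N)
    (hkN : Subgroup.normalizer ((Subgroup.zpowers k : Subgroup G) : Set G) ≤ N) :
    ∀ g : G, N ≠ M.map (MulAut.conj g).toMonoidHom := by
  haveI : Fact (orderOf k).Prime := ⟨h.hs⟩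
  exact (Cfsg.Agent.Lib.Helper16.BGPrim.thm13_2_zero h.hG hN h.hsσ h.hs1 h.isPGroup_zpowers_k
    h.zpowers_k_ne_bot hkN).1

theorem sigmaCore_inf_N (h : Cfg M E A r k) (hN : IsCoatom N)
    (hkN : Subgroup.normalizer ((Subgroup.zpowers k : Subgroup G) : Set G) ≤ N) :
    Cfsg.sigmaCore M ⊓ N = Cfsg.sigmaCore M ⊓ Subgroup.centralizer ({k} : Set G) := by
  haveI : Fact (orderOf k).Prime := ⟨h.hs⟩
  rw [← centralizer_zpowers_k]
  exact Cfsg.Agent.Lib.Helper16.BGPrim.thm13_2_c h.hG (h17 h.hG) (h18 h.hG) (h23 h.hG) (h24 h.hG)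
    h.hM hN h.hsσ h.hs1 h.isPGroup_zpowers_k h.zpowers_k_ne_bot (h.zpowers_k_le_E.trans h.hEM) hkN

/-- `M ∩ N` contains no elementary abelian subgroup of order `r ^ 2`. -/
theorem no_sq_in_M_inf_N (h : Cfg M E A r k) (hN : IsCoatom N)
    (hkN : Subgroup.normalizer ((Subgroup.zpowers k : Subgroup G) : Set G) ≤ N)
    {A' : Subgroup G} (hA'M : A' ≤ M) (hA'N : A' ≤ N) (hA'e : Cfsg.IsElementaryAbelian r A')
    (hA'2 : Nat.card A' = r ^ 2) : False := by
  have hA'p : IsPGroup r A' := IsPGroup.of_card hA'2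
  have hτ1 : r ∉ Cfsg.tau1 N := by
    rintro ⟨-, -, -, -, h1⟩
    exact Cfsg.Agent.Lib.Helper2.BGCor.not_pRankLE_one_of_sq h.hrp hA'N hA'e hA'2 h1
  have h1 := Cfsg.Agent.Lib.Helper16.BGPrim.thm13_1a h.hG (h17 h.hG) (h18 h.hG) (h23 h.hG)
    (h24 h.hG) h.hM hN (h.nonconj_N hN hkN) h.hrσ hA'p hA'M hA'N hτ1
  have h2 : Cfsg.sigmaCore M ⊓ Subgroup.centralizer (A' : Set G) = ⊥ :=
    (Cfsg.Agent.S1417.result h.hG M h.hM r h.hr A' ⟨hA'M, hA'e, hA'2⟩).2.2.2.1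
  apply h.Tk_ne_bot
  rw [eq_bot_iff, ← h2, ← h.sigmaCore_inf_N hN hkN]
  intro t ht
  refine Subgroup.mem_inf.mpr ⟨ht.1, ?_⟩
  rw [Subgroup.mem_centralizer_iff]
  intro a ha
  exact h1 t ht a ha

end withN

/-! ### Step 1: `s ∈ τ₁(M)` -/

theorem solvable_E (h : Cfg M E A r k) : Group.IsSolvable ↥E := by
  haveI : Group.IsSolvable ↥M := h.hG.2.2.2 M h.hM.1
  exact Group.isSolvable_of_isSolvable_injective (Subgroup.inclusion_injective h.hEM)

theorem hs_tau1 (h : Cfg M E A r k) : orderOf k ∈ Cfsg.tau1 M := by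
  by_contra hτ1
  have hd : orderOf k ∣ Nat.card ↥⁅M, M⁆ := by
    by_contra hd
    exact hτ1 ⟨h.hs, h.hsσ, h.hks.2.1, hd, h.hs1⟩
  have hτ3 : orderOf k ∈ Cfsg.tau3 M := ⟨h.hs, h.hsσ, hd, h.hs1⟩
  haveI := h.solvable_E
  obtain ⟨E3, hE3, hkE3⟩ := Cfsg.Agent.Lib.Helper16.BGPrim.exists_hall_ge' (Cfsg.tau3 M)
    h.zpowers_k_le_E (fun p hp hd => by
      rw [Nat.card_zpowers] at hd
      rw [(Nat.prime_dvd_prime_iff_eq hp h.hs).mp hd]
      exact hτ3)
  obtain ⟨hcyc, -, hEn⟩ := (Cfsg.Agent.S1415.result h.hG M h.hM E h.hE).2.2 E3 hE3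
  have hEk : E ≤ Subgroup.normalizer ((Subgroup.zpowers k : Subgroup G) : Set G) :=
    le_normalizer_of_le_isCyclic hcyc hEn hkE3
  obtain ⟨N, hN, hkN⟩ := h.exists_N
  exact h.no_sq_in_M_inf_N hN hkN h.hAM ((h.hAE.trans hEk).trans hkN) h.hAe h.hA2

end Cfg

end Cfsg.Agent.Lib.Helper17.BGR2
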