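/-
helper17: "Theorem R2" (notes/bg14/NOTES_h20.md sec. 8), part C: steps 2 and 3
(`E₁ = ⟨k⟩` via S1446, and `M = C_G(u)`).
-/
import Mathlib
import Cfsg.Prelude.Def_OddOrderLocal
import Cfsg.Agent.Lib.Helper17.BGR2B
import Cfsg.Agent.S1427
import Cfsg.Agent.S1446

set_option autoImplicit false
set_option linter.unusedSectionVars false
set_option linter.unusedVariables false
set_option linter.style.haveILetI false

namespace Cfsg.Agent.Lib.Helper17.BGR2

open Cfsg.Agent.Lib.Helper17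
open Cfsg.Agent.Lib.Helper8 (mem_map_conj conj_mem_map_conj map_conj_map_conj map_conj_one
  map_conj_le_iff map_conj_eq_iff card_map_conj mem_normalizer_iff_map_conj sylow_smul_coe)
open scoped commutatorElement

universe u

variable {G : Type u} [Group G] [Finite G] {M E A : Subgroup G} {r : ℕ} [Fact r.Prime] {k : G}

theorem zpowers_le_centralizer_zpowers {x y : G} (h : x * y = y * x) :
    Subgroup.zpowers x ≤ Subgroup.centralizer ((Subgroup.zpowers y : Subgroup G) : Set G) := by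
  rw [Cfg.centralizer_zpowers_k, Subgroup.zpowers_le, Subgroup.mem_centralizer_singleton_iff]
  exact h

namespace Cfg

theorem coprime_E_sigmaCore (h : Cfg M E A r k) :
    (Nat.card E).Coprime (Nat.card (Cfsg.sigmaCore M)) := by
  apply Nat.coprime_of_dvd
  intro p hp hd1 hd2
  exact Cfsg.Agent.Lib.Helper23.BGY.not_mem_sigma_of_dvd_compl h.hG h.hM h.hE hp hd1
    (Cfsg.Agent.Lib.Helper2.BGCor.primes_card_sigmaCore M p hp hd2)

theorem hr_not_tau1 (h : Cfg M E A r k) : r ∉ Cfsg.tau1 M := fun h1 => h.hr.2.2.2 h1.2.2.2.2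

/-- Elements of `E` of order in `τ₁(M)` commuting with `k` have the same centralizer in `M_σ`. -/
theorem cent_eq_of_tau1 (h : Cfg M E A r k) {y : G} (hyE : y ∈ E)
    (hy : orderOf y ∈ Cfsg.tau1 M) (hyk : y * k = k * y) :
    Cfsg.sigmaCore M ⊓ Subgroup.centralizer ({y} : Set G) =
      Cfsg.sigmaCore M ⊓ Subgroup.centralizer ({k} : Set G) := by
  have hzy : Subgroup.zpowers y ≤ E := Subgroup.zpowers_le.mpr hyE
  have h1 := h.h28 M h.hM E h.hE (orderOf y) hy (Subgroup.zpowers y) hzy (Nat.card_zpowers y)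
    (Subgroup.zpowers k) (le_inf h.zpowers_k_le_E (zpowers_le_centralizer_zpowers hyk.symm))
    (by rw [Nat.card_zpowers]; exact h.hs)
  have h2 := h.h28 M h.hM E h.hE (orderOf k) h.hs_tau1 (Subgroup.zpowers k) h.zpowers_k_le_E
    (Nat.card_zpowers k) (Subgroup.zpowers y) (le_inf hzy (zpowers_le_centralizer_zpowers hyk))
    (by rw [Nat.card_zpowers]; exact hy.1)
  rw [centralizer_zpowers_k, centralizer_zpowers_k] at h1 h2
  exact le_antisymm h1 h2

/-- No element of `E` of order in `τ₁(M)` commuting with `k` centralizes a line `B ≠ A₀`. -/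
theorem line_not_centralized (h : Cfg M E A r k) {y : G} (hyE : y ∈ E)
    (hy : orderOf y ∈ Cfsg.tau1 M) (hyk : y * k = k * y) {B : Subgroup G} (hBE : B ≤ E)
    (hB : Nat.card B = r)
    (hne : B ≠ A ⊓ Subgroup.centralizer (Cfsg.sigmaCore M : Set G))
    (hyB : ∀ b ∈ B, y * b = b * y) : False := by
  have hzy : Subgroup.zpowers y ≤ E := Subgroup.zpowers_le.mpr hyE
  have hBC : B ≤ Subgroup.centralizer ((Subgroup.zpowers y : Subgroup G) : Set G) := by
    rw [centralizer_zpowers_k]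
    intro b hb
    rw [Subgroup.mem_centralizer_singleton_iff]
    exact (hyB b hb).symm
  have h1 := h.h28 M h.hM E h.hE (orderOf y) hy (Subgroup.zpowers y) hzy (Nat.card_zpowers y)
    B (le_inf hBE hBC) (by rw [hB]; exact h.hrp)
  rw [centralizer_zpowers_k, h.cent_eq_of_tau1 hyE hy hyk, h.fpf_of_ne hBE hB hne] at h1
  exact h.Tk_ne_bot (le_bot_iff.mp h1)

/-- **Step 2** for one prime: a Sylow `t`-subgroup `S_t` of the cyclic Hall `τ₁(M)`-subgroup `E₁ ∋ k`
has order `t`, and `|M_σ| = |T_k| ^ t` (S1446 applied to the Frobenius group `B S_t`). -/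
theorem step2_sylow (h : Cfg M E A r k) {E1 B St : Subgroup G} {t : ℕ} [Fact t.Prime]
    (hE1 : Cfsg.IsPiHallOf (Cfsg.tau1 M) E1 E) (hkE1 : k ∈ E1) (hcyc : IsCyclic ↥E1)
    (hBA : B ≤ A) (hB : Nat.card B = r) (hE1B : E1 ≤ Subgroup.normalizer (B : Set G))
    (hBne : B ≠ A ⊓ Subgroup.centralizer (Cfsg.sigmaCore M : Set G))
    (hSt : Cfsg.Agent.Lib.Helper8.IsSylIn t St E1) (ht : t ∣ Nat.card E1) :
    Nat.card St = t ∧
      Nat.card (Cfsg.sigmaCore M) =
        Nat.card ↥(Cfsg.sigmaCore M ⊓ Subgroup.centralizer ({k} : Set G)) ^ t := by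
  have htp : t.Prime := Fact.out
  have htτ1 : t ∈ Cfsg.tau1 M := hE1.2.1 t htp ht
  have hE1E : E1 ≤ E := hE1.1
  have hBE : B ≤ E := hBA.trans h.hAE
  have hStE : Cfsg.Agent.Lib.Helper8.IsSylIn t St E :=
    Cfsg.Agent.Lib.Helper8.BGEx.isSylIn_of_not_dvd_relIndex hSt hE1E (hE1.2.2 t htp htτ1)
  have hSt1 : St ≠ ⊥ := Cfsg.Agent.Lib.Helper8.BGEx.isSylIn_ne_bot hSt ht
  have hStp : IsPGroup t St := hSt.isPGroup
  have htr : t ≠ r := fun e => h.hr_not_tau1 (e ▸ htτ1)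
  -- commutativity of `E₁`
  have hE1c : ∀ a ∈ E1, ∀ b ∈ E1, a * b = b * a := by
    intro a ha b hb
    have := (IsCyclic.commGroup (α := ↥E1)).mul_comm ⟨a, ha⟩ ⟨b, hb⟩
    exact congrArg Subtype.val this
  -- nontrivial `t`-subgroups contain elements of order `t`
  have hex : ∀ Y : Subgroup G, Y ≤ St → Y ≠ ⊥ → ∃ y ∈ Y, orderOf y = t := by
    intro Y hY hY1
    have hYp : IsPGroup t Y := hStp.to_le hY
    obtain ⟨n, hn⟩ := IsPGroup.iff_card.mp hYp
    have hn0 : n ≠ 0 := by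
      rintro rfl
      rw [pow_zero] at hn
      exact hY1 (Subgroup.card_eq_one.mp hn)
    have hd : t ∣ Nat.card ↥Y := hn ▸ dvd_pow_self t hn0
    obtain ⟨y, hy⟩ := exists_prime_orderOf_dvd_card' t hd
    exact ⟨(y : G), y.2, by rw [Subgroup.orderOf_coe]; exact hy⟩
  -- the Sylow subgroup as a `Sylow t ↥E`
  obtain ⟨S, hSdef⟩ : ∃ S : Sylow t ↥E, S = hStE.toSylow := ⟨_, rfl⟩
  have hmap : (S : Subgroup ↥E).map E.subtype = St := by rw [hSdef]; exact hStE.toSylow_map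
  have hS1 : (S : Subgroup ↥E) ≠ ⊥ := by
    intro h0
    apply hSt1
    rw [← hmap, h0, Subgroup.map_bot]
  have hSc : IsCyclic ↥(S : Subgroup ↥E) := by
    haveI : IsCyclic ↥St :=
      isCyclic_of_injective (Subgroup.inclusion hSt.1) (Subgroup.inclusion_injective hSt.1)
    have : IsCyclic ↥(St.subgroupOf E) :=
      isCyclic_of_surjective (Subgroup.subgroupOfEquivOfLe hStE.1).symm.toMonoidHom
        (Subgroup.subgroupOfEquivOfLe hStE.1).symm.surjective
    rw [hSdef]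
    exact this
  have h27 := Cfsg.Agent.S1427.result h.hG M h.hM E h.hE t S hS1 hSc
  rw [hmap] at h27
  -- an element of order `t`
  obtain ⟨x, hxSt, hxt⟩ := hex St le_rfl hSt1
  have hx1 : x ≠ 1 := by
    rintro rfl
    rw [orderOf_one] at hxt
    exact htp.one_lt.ne hxt
  have hxk : x * k = k * x := hE1c x (hSt.1 hxSt) k hkE1
  have hCx := h.cent_eq_of_tau1 (hE1E (hSt.1 hxSt)) (hxt ▸ htτ1) hxk
  have hCSt : Cfsg.sigmaCore M ⊓ Subgroup.centralizer (St : Set G) =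
      Cfsg.sigmaCore M ⊓ Subgroup.centralizer ({k} : Set G) :=
    (h27 x hxSt hx1).symm.trans hCx
  -- the Frobenius condition
  have hfrob : ∀ y ∈ St, y ≠ 1 → B ⊓ Subgroup.centralizer ({y} : Set G) = ⊥ := by
    intro y hy hy1
    by_contra hne
    obtain ⟨b, hb, hb1⟩ := (Subgroup.bot_or_exists_ne_one _).resolve_left hne
    have hbB : b ∈ B := hb.1
    have hby : b ∈ Subgroup.centralizer ({y} : Set G) := hb.2
    rw [Subgroup.mem_centralizer_singleton_iff] at hby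
    -- `B = ⟨b⟩`
    have hBz : B = Subgroup.zpowers b := by
      symm
      apply Subgroup.eq_of_le_of_card_ge (Subgroup.zpowers_le.mpr hbB)
      rw [hB, Nat.card_zpowers]
      have hd : orderOf b ∣ r := by
        have := orderOf_dvd_natCard (⟨b, hbB⟩ : ↥B)
        rw [hB, Subgroup.orderOf_mk] at this
        exact this
      rcases (Nat.dvd_prime h.hrp).mp hd with h1 | h1
      · exact absurd (orderOf_eq_one_iff.mp h1) hb1
      · exact h1.ge
    -- an element `y'` of order `t` in `⟨y⟩`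
    obtain ⟨y', hy'z, hy't⟩ := hex (Subgroup.zpowers y) (Subgroup.zpowers_le.mpr hy)
      (by rw [Ne, Subgroup.zpowers_eq_bot]; exact hy1)
    obtain ⟨i, rfl⟩ := Subgroup.mem_zpowers_iff.mp hy'z
    have hy'St : y ^ i ∈ St := St.zpow_mem hy i
    refine h.line_not_centralized (hE1E (hSt.1 hy'St)) (hy't ▸ htτ1)
      (hE1c _ (hSt.1 hy'St) k hkE1) hBE hB hBne ?_
    intro c hc
    rw [hBz] at hc
    obtain ⟨j, rfl⟩ := Subgroup.mem_zpowers_iff.mp hc
    have hcomm : Commute y b := hby.symm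
    exact ((hcomm.zpow_left i).zpow_right j).eq
  -- coprimality
  have hBSt : B ⊓ St = ⊥ := by
    apply inf_eq_bot_of_coprime'
    obtain ⟨n, hn⟩ := IsPGroup.iff_card.mp hStp
    rw [hB, hn]
    exact Nat.Coprime.pow_right n ((Nat.coprime_primes h.hrp htp).mpr (Ne.symm htr))
  have hle : B ⊔ St ≤ E := sup_le hBE hStE.1
  have hsolv : Group.IsSolvable ↥(B ⊔ St) := by
    haveI := h.solvable_E
    exact Group.isSolvable_of_isSolvable_injective (Subgroup.inclusion_injective hle)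
  have hodd : Odd (Nat.card ↥(B ⊔ St)) :=
    Odd.of_dvd_nat h.hG.1 (Subgroup.card_subgroup_dvd_card _)
  have hM1 : Cfsg.sigmaCore M ≠ ⊥ := by
    intro h0
    apply h.Tk_ne_bot
    rw [h0, bot_inf_eq]
  have hMn : M ≤ Subgroup.normalizer (Cfsg.sigmaCore M : Set G) :=
    Cfsg.Agent.Lib.Helper8.BGEx.le_normalizer_sigmaCore M
  have hcop : (Nat.card ↥(B ⊔ St)).Coprime (Nat.card (Cfsg.sigmaCore M)) :=
    Nat.Coprime.coprime_dvd_left (Subgroup.card_dvd_of_le hle) h.coprime_E_sigmaCore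
  obtain ⟨hprime, hcard, -⟩ := Cfsg.Agent.S1446.result B St (Cfsg.sigmaCore M)
    (by intro h0; rw [h0, Subgroup.card_bot] at hB; exact h.hrp.one_lt.ne hB) hSt1 hBSt
    (hSt.1.trans hE1B) hfrob hsolv hodd hM1 h.nilp ((hBE.trans h.hEM).trans hMn)
    ((hStE.1.trans h.hEM).trans hMn) hcop (h.fpf_of_ne hBE hB hBne) h27
  have hcSt : Nat.card St = t := by
    obtain ⟨n, hn⟩ := IsPGroup.iff_card.mp hStp
    rw [hn] at hprime ⊢
    rw [hprime.eq_one_of_pow, pow_one]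
  rw [hCSt, hcSt] at hcard
  exact ⟨hcSt, hcard⟩

theorem card_E1_mul (h : Cfg M E A r k) {E1 : Subgroup G} (hE1E : E1 ≤ E) :
    Nat.card E1 * E1.relIndex E = Nat.card E := by
  have := (E1.subgroupOf E).card_mul_index
  rwa [Cfsg.Agent.Lib.Helper1.card_subgroupOf_of_le hE1E] at this

/-- **Step 2**: the only prime of `τ₁(M)` dividing `|E|` is `s = |k|`, and `⟨k⟩` is a Sylow
`s`-subgroup of `E`. -/
theorem tau1_sylow (h : Cfg M E A r k) {t : ℕ} [Fact t.Prime] (htτ : t ∈ Cfsg.tau1 M)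
    (htE : t ∣ Nat.card E) :
    t = orderOf k ∧ Cfsg.Agent.Lib.Helper8.IsSylIn (orderOf k) (Subgroup.zpowers k) E := by
  have htp : t.Prime := Fact.out
  haveI := h.solvable_E
  haveI : Fact (orderOf k).Prime := ⟨h.hs⟩
  obtain ⟨E1, hE1, hkE1⟩ := Cfsg.Agent.Lib.Helper16.BGPrim.exists_hall_ge' (Cfsg.tau1 M)
    h.zpowers_k_le_E (fun p hp hd => by
      rw [Nat.card_zpowers] at hd
      rw [(Nat.prime_dvd_prime_iff_eq hp h.hs).mp hd]
      exact h.hs_tau1)
  have hE1E : E1 ≤ E := hE1.1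
  have hcyc : IsCyclic ↥E1 := (Cfsg.Agent.S1415.result h.hG M h.hM E h.hE).2.1 E1 hE1
  have hcopE1 : (Nat.card E1).Coprime r :=
    ((Nat.Prime.coprime_iff_not_dvd h.hrp).mpr
      (fun hd => h.hr_not_tau1 (hE1.2.1 r h.hrp hd))).symm
  obtain ⟨B, hBA, hB, hE1B, hinf, hsup⟩ := exists_invariant_line h.hrp h.hAe h.hA2 inf_le_left
    h.card_A0 (hE1E.trans h.E_le_normA) (hE1E.trans h.E_le_normA0) hcopE1
  have hBne : B ≠ A ⊓ Subgroup.centralizer (Cfsg.sigmaCore M : Set G) := by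
    intro e
    rw [e, inf_idem] at hinf
    exact h.A0_ne_bot hinf
  have hk1 : k ∈ E1 := hkE1 (Subgroup.mem_zpowers k)
  -- the prime `s`
  have hsE1 : orderOf k ∣ Nat.card E1 := by
    rw [← Nat.card_zpowers]
    exact Subgroup.card_dvd_of_le hkE1
  obtain ⟨Ss, hSs, hkSs⟩ :=
    Cfsg.Agent.Lib.Helper8.BGEx.exists_isSylIn_ge h.isPGroup_zpowers_k hkE1
  obtain ⟨hcSs, hcards⟩ := h.step2_sylow hE1 hk1 hcyc hBA hB hE1B hBne hSs hsE1
  have hSsk : Subgroup.zpowers k = Ss := by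
    apply Subgroup.eq_of_le_of_card_ge hkSs
    rw [hcSs, Nat.card_zpowers]
  have hsyl : Cfsg.Agent.Lib.Helper8.IsSylIn (orderOf k) (Subgroup.zpowers k) E := by
    rw [hSsk]
    exact Cfsg.Agent.Lib.Helper8.BGEx.isSylIn_of_not_dvd_relIndex hSs hE1E
      (hE1.2.2 _ h.hs h.hs_tau1)
  refine ⟨?_, hsyl⟩
  -- the prime `t`
  have htE1 : t ∣ Nat.card E1 := by
    have h1 := h.card_E1_mul hE1E
    rw [← h1] at htE
    exact ((Nat.Prime.dvd_mul htp).mp htE).resolve_right (hE1.2.2 t htp htτ)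
  obtain ⟨St, hSt, -⟩ := Cfsg.Agent.Lib.Helper8.BGEx.exists_isSylIn_ge
    (IsPGroup.of_bot (p := t) (G := G)) (bot_le : (⊥ : Subgroup G) ≤ E1)
  obtain ⟨-, hcardt⟩ := h.step2_sylow hE1 hk1 hcyc hBA hB hE1B hBne hSt htE1
  have h2 : 2 ≤ Nat.card ↥(Cfsg.sigmaCore M ⊓ Subgroup.centralizer ({k} : Set G)) := by
    have := (Subgroup.one_lt_card_iff_ne_bot _).mpr h.Tk_ne_bot
    omega
  rw [hcards] at hcardt
  exact (Nat.pow_right_injective h2 hcardt).symm

/-- **Step 3**: `E` centralizes `A₀`. -/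
theorem E_le_centA0 (h : Cfg M E A r k) :
    E ≤ Subgroup.centralizer
      ((A ⊓ Subgroup.centralizer (Cfsg.sigmaCore M : Set G) : Subgroup G) : Set G) := by
  have key : ∀ (t : ℕ) [Fact t.Prime], t ∣ Nat.card E →
      ∃ St, Cfsg.Agent.Lib.Helper8.IsSylIn t St E ∧ St ≤ Subgroup.centralizer
        ((A ⊓ Subgroup.centralizer (Cfsg.sigmaCore M : Set G) : Subgroup G) : Set G) := by
    intro t _ htE
    have htp : t.Prime := Fact.out
    have htσ : t ∉ Cfsg.sigma M :=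
      Cfsg.Agent.Lib.Helper23.BGY.not_mem_sigma_of_dvd_compl h.hG h.hM h.hE htp htE
    have htM : t ∣ Nat.card M := htE.trans (Subgroup.card_dvd_of_le h.hEM)
    by_cases hr1 : Cfsg.PRankLE t 1 ↥M
    swap
    · -- `t ∈ τ₂(M)`, so `t = r`
      have h2 : t ∈ Cfsg.tau2 M :=
        Cfsg.Agent.Lib.Helper23.BGY.mem_tau2_of_not_rank_one h.hG h.hM htp htσ hr1
      rw [h.tau2_eq, Set.mem_singleton_iff] at h2
      subst h2
      obtain ⟨St, hSt, hASt⟩ := Cfsg.Agent.Lib.Helper8.BGEx.exists_isSylIn_ge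
        (IsPGroup.of_card h.hA2) h.hAE
      refine ⟨St, hSt, ?_⟩
      intro x hx
      rw [Subgroup.mem_centralizer_iff]
      intro u hu
      exact h.comm_of_isPGroup hSt.isPGroup (hSt.1.trans h.hEM) u (hASt hu.1) x hx
    by_cases hd : t ∣ Nat.card ↥⁅M, M⁆
    · -- `t ∈ τ₃(M)`
      haveI := h.solvable_E
      obtain ⟨E3, hE3, -⟩ := Cfsg.Agent.Lib.Helper16.BGPrim.exists_hall_ge' (Cfsg.tau3 M)
        (bot_le : (⊥ : Subgroup G) ≤ E) (fun p hp hd => by
          rw [Subgroup.card_bot] at hd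
          exact absurd (Nat.dvd_one.mp hd) hp.one_lt.ne')
      have hE3E : E3 ≤ E := hE3.1
      obtain ⟨-, -, hEn⟩ := (Cfsg.Agent.S1415.result h.hG M h.hM E h.hE).2.2 E3 hE3
      obtain ⟨St, hSt, -⟩ := Cfsg.Agent.Lib.Helper8.BGEx.exists_isSylIn_ge
        (IsPGroup.of_bot (p := t) (G := G)) (bot_le : (⊥ : Subgroup G) ≤ E3)
      refine ⟨St, Cfsg.Agent.Lib.Helper8.BGEx.isSylIn_of_not_dvd_relIndex hSt hE3E
        (hE3.2.2 t htp ⟨htp, htσ, hd, hr1⟩), ?_⟩
      have hdisj : E3 ⊓ (A ⊓ Subgroup.centralizer (Cfsg.sigmaCore M : Set G)) = ⊥ := by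
        apply inf_eq_bot_of_coprime'
        rw [h.card_A0]
        exact ((Nat.Prime.coprime_iff_not_dvd h.hrp).mpr
          (fun hd => h.hr.2.2.2 (hE3.2.1 r h.hrp hd).2.2.2)).symm
      intro x hx
      rw [Subgroup.mem_centralizer_iff]
      intro u hu
      exact (commute_of_mem_normalizers (hSt.1 hx) hu (h.E_le_normA0 (hE3E (hSt.1 hx)))
        (hEn (h.hAE hu.1)) hdisj).symm
    · -- `t ∈ τ₁(M)`
      obtain ⟨rfl, hsyl⟩ := h.tau1_sylow ⟨htp, htσ, htM, hd, hr1⟩ htE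
      refine ⟨_, hsyl, ?_⟩
      rw [Subgroup.zpowers_le, Subgroup.mem_centralizer_iff]
      intro u hu
      exact (h.hku u hu).symm
  apply Cfsg.Agent.Lib.Helper21.Camina.le_of_sylows
  intro t _
  by_cases htE : t ∣ Nat.card E
  · obtain ⟨St, hSt, hle⟩ := key t htE
    exact ⟨hSt.toSylow, by rw [hSt.toSylow_map]; exact hle⟩
  · obtain ⟨T⟩ : Nonempty (Sylow t ↥E) := inferInstance
    refine ⟨T, ?_⟩
    have h1 : Nat.card (T : Subgroup ↥E) = 1 := by
      rw [T.card_eq_multiplicity, Nat.factorization_eq_zero_of_not_dvd htE, pow_zero]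
    rw [Subgroup.card_eq_one.mp h1, Subgroup.map_bot]
    exact bot_le

/-- **Step 3**: `M` centralizes `A₀`. -/
theorem M_le_centA0 (h : Cfg M E A r k) :
    M ≤ Subgroup.centralizer
      ((A ⊓ Subgroup.centralizer (Cfsg.sigmaCore M : Set G) : Subgroup G) : Set G) := by
  intro m hm
  obtain ⟨a, ha, b, hb, rfl⟩ := h.hE.2.2.2 m hm
  exact mul_mem (h.E_le_centA0 ha) (h.sigmaCore_le_centA0 hb)

end Cfg

end Cfsg.Agent.Lib.Helper17.BGR2
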