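/-
helper17: "Theorem R2" (notes/bg14/NOTES_h20.md sec. 8), part D: step 4
(the `r`-subgroups of `N ⊇ N_G(⟨k⟩)` are cyclic).
-/
import Mathlib
import Cfsg.Prelude.Def_OddOrderLocal
import Cfsg.Agent.Lib.Helper17.BGR2C

set_option autoImplicit false
set_option linter.unusedSectionVars false
set_option linter.unusedVariables false
set_option linter.style.haveILetI false

namespace Cfsg.Agent.Lib.Helper17.BGR2

open Cfsg.Agent.Lib.Helper17
open Cfsg.Agent.Lib.Helper8 (mem_map_conj conj_mem_map_conj map_conj_map_conj map_conj_one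
  map_conj_le_iff map_conj_eq_iff card_map_conj mem_normalizer_iff_map_conj sylow_smul_coe)
open Cfsg.Agent.Lib.Helper8.BGEx (cj)
open scoped commutatorElement

universe u

variable {G : Type u} [Group G] [Finite G] {M E A : Subgroup G} {r : ℕ} [Fact r.Prime] {k : G}

namespace Cfg

variable {N : Subgroup G}

theorem A0_le_N (h : Cfg M E A r k)
    (hkN : Subgroup.normalizer ((Subgroup.zpowers k : Subgroup G) : Set G) ≤ N) :
    A ⊓ Subgroup.centralizer (Cfsg.sigmaCore M : Set G) ≤ N := by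
  intro u hu
  apply h.centk_le_N hkN
  rw [Subgroup.mem_centralizer_singleton_iff]
  exact (h.hku u hu).symm

/-- A Sylow `r`-subgroup of `L` (`= M` or `N`) inside `M ∩ N` cannot exist when `L` contains an
elementary abelian subgroup of order `r ^ 2`. -/
theorem sylow_not_le (h : Cfg M E A r k) (hN : IsCoatom N)
    (hkN : Subgroup.normalizer ((Subgroup.zpowers k : Subgroup G) : Set G) ≤ N)
    {L S' A'' : Subgroup G} (hS' : Cfsg.Agent.Lib.Helper8.IsSylIn r S' L) (hS'M : S' ≤ M)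
    (hS'N : S' ≤ N) (hA''L : A'' ≤ L) (hA''e : Cfsg.IsElementaryAbelian r A'')
    (hA''2 : Nat.card A'' = r ^ 2) : False := by
  obtain ⟨T, hT, hAT⟩ :=
    Cfsg.Agent.Lib.Helper8.BGEx.exists_isSylIn_ge (IsPGroup.of_card hA''2) hA''L
  obtain ⟨m, hm, rfl⟩ := Cfsg.Agent.Lib.Helper8.BGEx.isSylIn_exists_conj hS' hT
  have hle : A''.map (MulAut.conj m⁻¹).toMonoidHom ≤ S' := by
    have h1 : A''.map (MulAut.conj m⁻¹).toMonoidHom ≤ cj m⁻¹ (cj m S') := Subgroup.map_mono hAT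
    rwa [Cfsg.Agent.Lib.Helper8.BGEx.cj_inv_cj] at h1
  exact h.no_sq_in_M_inf_N hN hkN (hle.trans hS'M) (hle.trans hS'N)
    (Cfsg.Agent.Lib.Helper2.BGCor.elemAb_map_conj hA''e m⁻¹)
    (by rw [card_map_conj]; exact hA''2)

/-- **Step 4**: `N` has `r`-rank one. -/
theorem pRankLE_N (h : Cfg M E A r k) (hN : IsCoatom N)
    (hkN : Subgroup.normalizer ((Subgroup.zpowers k : Subgroup G) : Set G) ≤ N) :
    Cfsg.PRankLE r 1 ↥N := by
  by_contra hr1
  have hA0p : IsPGroup r ↥(A ⊓ Subgroup.centralizer (Cfsg.sigmaCore M : Set G)) :=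
    IsPGroup.of_card (n := 1) (by rw [h.card_A0, pow_one])
  have hneMN : M ≠ N := fun e => h.nonconj_N hN hkN 1 (by rw [map_conj_one]; exact e.symm)
  by_cases hσ : r ∈ Cfsg.sigma N
  · -- S1424: a Sylow `r`-subgroup of `N ∩ M` is a Sylow subgroup of `M`
    obtain ⟨S, hS⟩ := (hA0p.comap_subtype (K := N ⊓ M)).exists_le_sylow
    have hXS : A ⊓ Subgroup.centralizer (Cfsg.sigmaCore M : Set G) ≤
        (S : Subgroup ↥(N ⊓ M)).map (N ⊓ M).subtype := by
      intro u hu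
      exact ⟨⟨u, ⟨h.A0_le_N hkN hu, h.A0_le_M hu⟩⟩, hS (Subgroup.mem_subgroupOf.mpr hu), rfl⟩
    obtain ⟨-, -, hidx⟩ := Cfsg.Agent.S1424.result h.hG N hN r hσ _ hA0p h.A0_ne_bot
      (h.A0_le_N hkN) M h.hM hneMN h.normA0_eq.le S hXS
    have hSle : (S : Subgroup ↥(N ⊓ M)).map (N ⊓ M).subtype ≤ N ⊓ M :=
      Subgroup.map_subtype_le _
    have hSyl := Cfsg.Agent.Lib.Helper16.BGPrim.isSylIn_of_not_dvd_relIndex
      (S.isPGroup'.map (N ⊓ M).subtype) (hSle.trans inf_le_right) hidx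
    exact h.sylow_not_le hN hkN hSyl (hSle.trans inf_le_right) (hSle.trans inf_le_left)
      h.hAM h.hAe h.hA2
  · -- `r ∈ τ₂(N)`: the Sylow `r`-subgroups of `N` are abelian
    have hτ2 : r ∈ Cfsg.tau2 N :=
      Cfsg.Agent.Lib.Helper23.BGY.mem_tau2_of_not_rank_one h.hG hN h.hrp hσ hr1
    obtain ⟨A'', hA''N, hA''e, hA''2⟩ := Cfsg.Agent.Lib.Helper23.BGY.exists_elemAb_sq hr1
    obtain ⟨S', hS', hA0S'⟩ :=
      Cfsg.Agent.Lib.Helper8.BGEx.exists_isSylIn_ge hA0p (h.A0_le_N hkN)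
    have hcomm := ((Cfsg.Agent.S1417.result h.hG N hN r hτ2 A'' ⟨hA''N, hA''e, hA''2⟩).2.1
      hS'.toSylow).1
    have hS'M : S' ≤ M := by
      refine le_trans ?_ h.centA0_le
      intro x hx
      rw [Subgroup.mem_centralizer_iff]
      intro u hu
      have hxm : (⟨x, hS'.1 hx⟩ : ↥N) ∈ ((hS'.toSylow : Sylow r ↥N) : Subgroup ↥N) := by
        show (⟨x, hS'.1 hx⟩ : ↥N) ∈ S'.subgroupOf N
        exact Subgroup.mem_subgroupOf.mpr hx
      have hum : (⟨u, hS'.1 (hA0S' hu)⟩ : ↥N) ∈ ((hS'.toSylow : Sylow r ↥N) : Subgroup ↥N) := by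
        show (⟨u, hS'.1 (hA0S' hu)⟩ : ↥N) ∈ S'.subgroupOf N
        exact Subgroup.mem_subgroupOf.mpr (hA0S' hu)
      have := hcomm.is_comm.comm ⟨_, hum⟩ ⟨_, hxm⟩
      have h2 := congrArg (fun z : ↥((hS'.toSylow : Sylow r ↥N) : Subgroup ↥N) => ((z : ↥N) : G)) this
      simpa using h2
    exact h.sylow_not_le hN hkN hS' hS'M hS'.1 hA''N hA''e hA''2

end Cfg

end Cfsg.Agent.Lib.Helper17.BGR2
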