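/-
helper17: "Theorem R2" (notes/bg14/NOTES_h20.md sec. 8), part E: step 5
(the maximal subgroup `H_B ⊇ N_G(A)`, the `k`-invariant Sylow subgroup `P*`, the complement `V`).
-/
import Mathlib
import Cfsg.Prelude.Def_OddOrderLocal
import Cfsg.Agent.Lib.Helper17.BGR2D
import Cfsg.Agent.S1408
import Cfsg.Agent.S1414
import Cfsg.Agent.S1422

set_option autoImplicit false
set_option linter.unusedSectionVars false
set_option linter.unusedVariables false
set_option linter.style.haveILetI false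

namespace Cfsg.Agent.Lib.Helper17.BGR2

open Cfsg.Agent.Lib.Helper17
open Cfsg.Agent.Lib.Helper8 (mem_map_conj conj_mem_map_conj map_conj_map_conj map_conj_one
  map_conj_le_iff map_conj_eq_iff card_map_conj mem_normalizer_iff_map_conj sylow_smul_coe)
open Cfsg.Agent.Lib.Helper8.BGEx (cj)
open scoped commutatorElement

universe u

variable {G : Type u} [Group G] [Finite G] {M E A : Subgroup G} {r : ℕ} [Fact r.Prime] {k : G}

namespace Cfg

theorem isPGroup_A (h : Cfg M E A r k) : IsPGroup r A := IsPGroup.of_card h.hA2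

theorem A_ne_bot (h : Cfg M E A r k) : A ≠ ⊥ := by
  intro h0
  have h1 := h.hA2
  rw [h0, Subgroup.card_bot] at h1
  have : 1 < r ^ 2 := Nat.one_lt_pow (by norm_num) h.hrp.one_lt
  omega

theorem A_ne_top (h : Cfg M E A r k) : A ≠ ⊤ := fun hT =>
  h.hM.1 (top_le_iff.mp (hT ▸ h.hAM))

theorem hr_ne_two (h : Cfg M E A r k) : r ≠ 2 := by
  rintro rfl
  have h1 : 2 ∣ Nat.card G := by
    have : 2 ∣ Nat.card A := by rw [h.hA2]; exact dvd_pow_self 2 (by norm_num)
    exact this.trans (Subgroup.card_subgroup_dvd_card A)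
  have h2 := h.hG.1
  rw [Nat.odd_iff] at h2
  omega

/-- `k` does not centralize `A` (this follows from `H1428`). -/
theorem k_not_centralizes_A (h : Cfg M E A r k) : ∃ a ∈ A, k * a ≠ a * k := by
  by_contra hall
  push Not at hall
  obtain ⟨B, hBA, hB, -, hinf, -⟩ := exists_invariant_line (X := ⊥) h.hrp h.hAe h.hA2 inf_le_left
    h.card_A0 bot_le bot_le (by rw [Subgroup.card_bot]; exact Nat.coprime_one_left r)
  have hBne : B ≠ A ⊓ Subgroup.centralizer (Cfsg.sigmaCore M : Set G) := by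
    intro e
    rw [e, inf_idem] at hinf
    exact h.A0_ne_bot hinf
  exact h.line_not_centralized h.hkE h.hs_tau1 rfl (hBA.trans h.hAE) hB hBne
    (fun b hb => hall b (hBA hb))

/-- **Step 5a**: for a Sylow `r`-subgroup `P°` of `G` containing `A`, `N_{P°}(A)` is not abelian. -/
theorem normalizer_inf_not_comm (h : Cfg M E A r k) (P0 : Sylow r G)
    (hAP0 : A ≤ (P0 : Subgroup G)) :
    ¬ ∀ a ∈ (P0 : Subgroup G) ⊓ Subgroup.normalizer (A : Set G),
      ∀ b ∈ (P0 : Subgroup G) ⊓ Subgroup.normalizer (A : Set G), a * b = b * a := by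
  intro hc
  obtain ⟨Q, hQdef⟩ : ∃ Q : Subgroup G, Q = (P0 : Subgroup G) ⊓ Subgroup.normalizer (A : Set G) :=
    ⟨_, rfl⟩
  rw [← hQdef] at hc
  have hAQ : A ≤ Q := by
    rw [hQdef]
    exact le_inf hAP0 Subgroup.le_normalizer
  have hQP0 : Q ≤ (P0 : Subgroup G) := by rw [hQdef]; exact inf_le_left
  have hQM : Q ≤ M := by
    refine le_trans ?_ (h.centA_le.trans h.hEM)
    intro q hq
    rw [Subgroup.mem_centralizer_iff]
    intro a ha
    exact hc a (hAQ ha) q hq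
  have hQp : IsPGroup r Q := P0.isPGroup'.to_le hQP0
  -- normalizer condition in `P°`
  haveI : Group.IsNilpotent ↥(P0 : Subgroup G) := P0.isPGroup'.isNilpotent
  have hnc : NormalizerCondition ↥(P0 : Subgroup G) := Group.normalizerCondition_of_isNilpotent
  have hself : Subgroup.normalizer ((Q.subgroupOf (P0 : Subgroup G) : Subgroup ↥(P0 : Subgroup G)) :
      Set ↥(P0 : Subgroup G)) = Q.subgroupOf (P0 : Subgroup G) := by
    apply le_antisymm _ Subgroup.le_normalizer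
    intro x hx
    rw [Subgroup.mem_subgroupOf, hQdef]
    refine Subgroup.mem_inf.mpr ⟨x.2, ?_⟩
    apply Cfsg.Agent.Lib.Helper1.mem_normalizer_of_forall_conj_mem
    intro a ha
    have h1 : (⟨a, hAP0 ha⟩ : ↥(P0 : Subgroup G)) ∈ Q.subgroupOf (P0 : Subgroup G) :=
      Subgroup.mem_subgroupOf.mpr (hAQ ha)
    have h2 := (Subgroup.mem_normalizer_iff.mp hx _).mp h1
    rw [Subgroup.mem_subgroupOf] at h2
    have h3 : (x : G) * a * (x : G)⁻¹ ∈ Q := by simpa using h2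
    apply h.mem_A_of_pow hQp hQM hAQ h3
    rw [conj_pow, h.hAe.2 a ha, mul_one, mul_inv_cancel]
  have htop := normalizerCondition_iff_only_full_group_self_normalizing.mp hnc _ hself
  have hP0Q : (P0 : Subgroup G) ≤ Q := by
    intro x hx
    have : (⟨x, hx⟩ : ↥(P0 : Subgroup G)) ∈ Q.subgroupOf (P0 : Subgroup G) := by
      rw [htop]; exact Subgroup.mem_top _
    exact Subgroup.mem_subgroupOf.mp this
  apply h.hS P0
  exact ⟨⟨fun a b => Subtype.ext (hc a (hP0Q a.2) b (hP0Q b.2))⟩⟩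

/-- **Step 5b**: a maximal subgroup `H_B ⊇ N_G(A)` with `r ∈ σ(H_B)`. -/
theorem exists_HB (h : Cfg M E A r k) :
    ∃ H : Subgroup G, IsCoatom H ∧ Subgroup.normalizer (A : Set G) ≤ H ∧ r ∈ Cfsg.sigma H := by
  obtain ⟨P0, hAP0⟩ := h.isPGroup_A.exists_le_sylow
  have hQna := h.normalizer_inf_not_comm P0 hAP0
  obtain ⟨Q, hQdef⟩ : ∃ Q : Subgroup G, Q = (P0 : Subgroup G) ⊓ Subgroup.normalizer (A : Set G) :=
    ⟨_, rfl⟩
  rw [← hQdef] at hQna
  have hQP0 : Q ≤ (P0 : Subgroup G) := by rw [hQdef]; exact inf_le_left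
  have hQp : IsPGroup r Q := P0.isPGroup'.to_le hQP0
  have hQna' : ¬ IsMulCommutative ↥Q := by
    intro hc
    apply hQna
    intro a ha b hb
    have := hc.is_comm.comm ⟨a, ha⟩ ⟨b, hb⟩
    exact congrArg Subtype.val this
  obtain ⟨H, ⟨hH, hQH⟩, huniq⟩ := Cfsg.Agent.S1422.result h.hG r Q hQp hQna'
  have le_H : ∀ X : Subgroup G, Q ≤ X → X ≠ ⊤ → X ≤ H := by
    intro X hQX hX
    obtain ⟨L, hL, hXL⟩ := Cfsg.Agent.Lib.Helper17.BGU.exists_coatom_ge hX
    have := huniq L ⟨hL, hQX.trans hXL⟩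
    rw [← this]
    exact hXL
  -- `P° ≤ H`
  have hP0H : (P0 : Subgroup G) ≤ H := by
    obtain ⟨L, ⟨hL, hP0L⟩, -⟩ := Cfsg.Agent.S1422.result h.hG r (P0 : Subgroup G) P0.isPGroup'
      (h.hS P0)
    have := huniq L ⟨hL, hQP0.trans hP0L⟩
    rw [← this]
    exact hP0L
  have hNA : Subgroup.normalizer (A : Set G) ≤ H :=
    le_H _ (by rw [hQdef]; exact inf_le_right)
      (Cfsg.Agent.Lib.Helper8.BGEx.normalizer_ne_top h.hG h.A_ne_bot h.A_ne_top)
  have hP0ne : (P0 : Subgroup G) ≠ ⊥ := fun h0 => h.A_ne_bot (le_bot_iff.mp (h0 ▸ hAP0))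
  have hP0top : (P0 : Subgroup G) ≠ ⊤ := fun hT => hH.1 (top_le_iff.mp (hT ▸ hP0H))
  have hNP0 : Subgroup.normalizer ((P0 : Subgroup G) : Set G) ≤ H :=
    le_H _ (hQP0.trans Subgroup.le_normalizer)
      (Cfsg.Agent.Lib.Helper8.BGEx.normalizer_ne_top h.hG hP0ne hP0top)
  exact ⟨H, hH, hNA, Cfsg.Agent.Lib.Helper16.BGPrim.mem_sigma_of_sylow P0 hP0H hP0ne hNP0⟩

section withH

variable {H : Subgroup G}

theorem hkH (h : Cfg M E A r k) (hNA : Subgroup.normalizer (A : Set G) ≤ H) : k ∈ H :=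
  hNA (h.E_le_normA h.hkE)

theorem hAH (h : Cfg M E A r k) (hNA : Subgroup.normalizer (A : Set G) ≤ H) : A ≤ H :=
  Subgroup.le_normalizer.trans hNA

/-- **Step 5c**: `s ∉ σ(H_B)`. -/
theorem hs_not_sigma_H (h : Cfg M E A r k) (hH : IsCoatom H)
    (hNA : Subgroup.normalizer (A : Set G) ≤ H) : orderOf k ∉ Cfsg.sigma H := by
  intro hσ
  haveI : Fact (orderOf k).Prime := ⟨h.hs⟩
  have hzk : Subgroup.zpowers k ≤ Cfsg.sigmaCore H :=
    Cfsg.Agent.Lib.Helper8.BGEx.le_sigmaCore h.hG hH hσ h.isPGroup_zpowers_k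
      (Subgroup.zpowers_le.mpr (h.hkH hNA))
  have hrβ : r ∉ Cfsg.beta H := fun hb =>
    (Cfsg.Agent.S1408.result h.hG M h.hM r h.hrσ h.hr.2.2.1 h.hr.2.2.2).1 hb.2
  have hrH : r ∣ Nat.card H := by
    have : r ∣ Nat.card A := by rw [h.hA2]; exact dvd_pow_self r (by norm_num)
    exact this.trans (Subgroup.card_dvd_of_le (h.hAH hNA))
  obtain ⟨-, hnpc, -⟩ := (Cfsg.Agent.S1414.result h.hG H hH).2.2.2.2 r h.hrp hrH hrβ
  obtain ⟨W, hWle, hWn, hWcop, -, hWall⟩ := exists_char_pcompl hnpc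
  have hkW : Subgroup.zpowers k ≤ W := by
    apply hWall _ hzk
    rw [Nat.card_zpowers]
    exact (Nat.coprime_primes h.hs h.hrp).mpr h.hsr
  have hHW : H ≤ Subgroup.normalizer (W : Set G) :=
    (Cfsg.Agent.Lib.Helper8.BGEx.le_normalizer_sigmaCore H).trans hWn
  have hWA : W ⊓ A = ⊥ := by
    apply inf_eq_bot_of_coprime'
    rw [h.hA2]
    exact hWcop.pow_right 2
  obtain ⟨a, ha, hne⟩ := h.k_not_centralizes_A
  exact hne (commute_of_mem_normalizers (hkW (Subgroup.mem_zpowers k)) ha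
    (h.E_le_normA h.hkE) (hHW (h.hAH hNA ha)) hWA)

theorem solvable_zpowers (x : G) : Group.IsSolvable ↥(Subgroup.zpowers x) :=
  Group.isSolvable_of_comm (fun a b => (IsCyclic.commGroup (α := ↥(Subgroup.zpowers x))).mul_comm a b)

/-- **Step 5d**: a `k`-invariant Sylow `r`-subgroup `P*` of `G` containing `A`, with
`N_G(P*) ≤ H_B`. -/
theorem exists_Pstar (h : Cfg M E A r k) (hH : IsCoatom H)
    (hNA : Subgroup.normalizer (A : Set G) ≤ H) (hrH : r ∈ Cfsg.sigma H) :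
    ∃ Ps : Sylow r G, A ≤ (Ps : Subgroup G) ∧
      k ∈ Subgroup.normalizer ((Ps : Subgroup G) : Set G) ∧
      Subgroup.normalizer ((Ps : Subgroup G) : Set G) ≤ H := by
  have hsH := h.hs_not_sigma_H hH hNA
  have hcop : (Nat.card (Subgroup.zpowers k)).Coprime (Nat.card (Cfsg.sigmaCore H)) := by
    rw [Nat.card_zpowers, Nat.Prime.coprime_iff_not_dvd h.hs]
    intro hd
    exact hsH (Cfsg.Agent.Lib.Helper2.BGCor.primes_card_sigmaCore H _ h.hs hd)
  have hAσ : A ≤ Cfsg.sigmaCore H :=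
    Cfsg.Agent.Lib.Helper8.BGEx.le_sigmaCore h.hG hH hrH h.isPGroup_A (h.hAH hNA)
  have hkn : Subgroup.zpowers k ≤ Subgroup.normalizer (Cfsg.sigmaCore H : Set G) :=
    (Subgroup.zpowers_le.mpr (h.hkH hNA)).trans
      (Cfsg.Agent.Lib.Helper8.BGEx.le_normalizer_sigmaCore H)
  have hkA : Subgroup.zpowers k ≤ Subgroup.normalizer (A : Set G) :=
    Subgroup.zpowers_le.mpr (h.E_le_normA h.hkE)
  obtain ⟨S, hS, hAS, hkS⟩ := Cfsg.Agent.Lib.Helper8.exists_invariant_isSylIn_ge hkn hcop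
    (Or.inl (solvable_zpowers k)) r A hAσ h.isPGroup_A hkA
  have hTop := Cfsg.Agent.Lib.Helper8.BGEx.isSylIn_top_of_sigmaCore h.hG hH hrH hS
  refine ⟨Sylow.ofCard S (by rw [hTop.2, Subgroup.card_top]), hAS,
    hkS (Subgroup.mem_zpowers k), ?_⟩
  exact Cfsg.Agent.Lib.Helper8.BGEx.normalizer_le_of_isSylIn_sigmaCore h.hG hH hrH hS

/-- **Step 5e**: a complement `V ∋ k` of `P*` in `N_G(P*)`. -/
theorem exists_V (h : Cfg M E A r k) (hH : IsCoatom H) (Ps : Sylow r G)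
    (hkPs : k ∈ Subgroup.normalizer ((Ps : Subgroup G) : Set G))
    (hNH : Subgroup.normalizer ((Ps : Subgroup G) : Set G) ≤ H) :
    ∃ V : Subgroup G, Cfsg.IsComplIn (Ps : Subgroup G) V
        (Subgroup.normalizer ((Ps : Subgroup G) : Set G)) ∧ k ∈ V ∧ (Nat.card V).Coprime r := by
  obtain ⟨Nn, hNdef⟩ : ∃ Nn : Subgroup G, Nn = Subgroup.normalizer ((Ps : Subgroup G) : Set G) :=
    ⟨_, rfl⟩
  rw [← hNdef] at hkPs hNH ⊢
  have hPsN : (Ps : Subgroup G) ≤ Nn := by rw [hNdef]; exact Subgroup.le_normalizer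
  haveI : Group.IsSolvable ↥H := h.hG.2.2.2 H hH.1
  haveI : Group.IsSolvable ↥Nn :=
    Group.isSolvable_of_isSolvable_injective (Subgroup.inclusion_injective hNH)
  obtain ⟨V, hV, hkV⟩ := Cfsg.Agent.Lib.Helper16.BGPrim.exists_hall_ge' {q | q ≠ r}
    (Subgroup.zpowers_le.mpr hkPs) (fun p hp hd => by
      rw [Nat.card_zpowers] at hd
      rw [(Nat.prime_dvd_prime_iff_eq hp h.hs).mp hd]
      exact h.hsr)
  obtain ⟨hVN, hV1, hV2⟩ := hV
  have hVcop : (Nat.card V).Coprime r := by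
    rw [Nat.coprime_comm, Nat.Prime.coprime_iff_not_dvd h.hrp]
    intro hd
    exact hV1 r h.hrp hd rfl
  obtain ⟨n, hn⟩ := IsPGroup.iff_card.mp Ps.isPGroup'
  have hinf : (Ps : Subgroup G) ⊓ V = ⊥ := by
    apply inf_eq_bot_of_coprime'
    rw [hn]
    exact (hVcop.pow_right n).symm
  refine ⟨V, ⟨hPsN, hVN, hinf, ?_⟩, hkV (Subgroup.mem_zpowers k), hVcop⟩
  -- the product decomposition
  have hc : Subgroup.IsComplement' ((Ps : Subgroup G).subgroupOf Nn) (V.subgroupOf Nn) := by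
    apply Cfsg.Agent.Lib.Helper2.BGCor.isComplement'_of_hall_pair {r}
    · intro p hp hd
      rw [Cfsg.Agent.Lib.Helper1.card_subgroupOf_of_le hPsN, hn] at hd
      exact (Nat.prime_dvd_prime_iff_eq hp h.hrp).mp (hp.dvd_of_dvd_pow hd)
    · intro p hp hpr hd
      rw [Set.mem_singleton_iff] at hpr
      subst hpr
      have h1 : (Ps : Subgroup G).relIndex Nn ∣ (Ps : Subgroup G).index :=
        Subgroup.relIndex_dvd_index_of_le hPsN
      exact Ps.not_dvd_index (hd.trans h1)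
    · intro p hp hd hpr
      rw [Cfsg.Agent.Lib.Helper1.card_subgroupOf_of_le hVN] at hd
      exact hV1 p hp hd hpr
    · intro p hp hpr hd
      exact hV2 p hp hpr hd
  intro m hm
  obtain ⟨⟨a, b⟩, hab⟩ := hc.2 ⟨m, hm⟩
  refine ⟨(a : ↥Nn), Subgroup.mem_subgroupOf.mp a.2, (b : ↥Nn), Subgroup.mem_subgroupOf.mp b.2, ?_⟩
  have := congrArg Subtype.val hab
  simpa using this.symm

end withH

end Cfg

end Cfsg.Agent.Lib.Helper17.BGR2
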