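/-
helper17: "Theorem R2" (notes/bg14/NOTES_h20.md sec. 8), part F: steps 6, 7, 8 and the theorem.
-/
import Mathlib
import Cfsg.Prelude.Def_OddOrderLocal
import Cfsg.Agent.Lib.Helper17.BGR2E
import Cfsg.Agent.Lib.Helper8.SupNormalizer
import Cfsg.Agent.S1411
import Cfsg.Agent.S1412
import Cfsg.Agent.S1453

set_option autoImplicit false
set_option linter.unusedSectionVars false
set_option linter.unusedVariables false
set_option linter.style.haveILetI false

namespace Cfsg.Agent.Lib.Helper17.BGR2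

open Cfsg.Agent.Lib.Helper17
open Cfsg.Agent.Lib.Helper8 (mem_map_conj conj_mem_map_conj map_conj_map_conj map_conj_one
  map_conj_le_iff map_conj_eq_iff card_map_conj mem_normalizer_iff_map_conj sylow_smul_coe)
open Cfsg.Agent.Lib.Helper8.BGEx (cj)
open scoped commutatorElement

universe u

variable {G : Type u} [Group G] [Finite G] {M E A : Subgroup G} {r : ℕ} [Fact r.Prime] {k : G}

namespace Cfg

/-- **Steps 5-7**: there is a Sylow `r`-subgroup `P* ⊇ A` of `G` with `A₀ ≤ [P*, P*]`. -/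
theorem exists_Pstar_commutator (h : Cfg M E A r k) :
    ∃ Ps : Sylow r G, A ≤ (Ps : Subgroup G) ∧
      A ⊓ Subgroup.centralizer (Cfsg.sigmaCore M : Set G) ≤ ⁅(Ps : Subgroup G), (Ps : Subgroup G)⁆ := by
  obtain ⟨H, hH, hNA, hrH⟩ := h.exists_HB
  obtain ⟨Ps, hAPs, hkPs, hNH⟩ := h.exists_Pstar hH hNA hrH
  obtain ⟨V, hV, hkV, hVcop⟩ := h.exists_V hH Ps hkPs hNH
  obtain ⟨hPV, -⟩ := Cfsg.Agent.S1411.result h.hG r Ps V hV
  have hVN : V ≤ Subgroup.normalizer ((Ps : Subgroup G) : Set G) := hV.2.1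
  have hVH : V ≤ H := hVN.trans hNH
  refine ⟨Ps, hAPs, ?_⟩
  -- step 6: `V' ≤ C(P*)`
  have hrβ : r ∉ Cfsg.beta H := fun hb =>
    (Cfsg.Agent.S1408.result h.hG M h.hM r h.hrσ h.hr.2.2.1 h.hr.2.2.2).1 hb.2
  obtain ⟨hnpc, -, -⟩ := (Cfsg.Agent.S1414.result h.hG H hH).2.2.2.2 r h.hrp hrH.2.1 hrβ
  obtain ⟨R', hR'le, hR'n, hR'cop, -, hR'all⟩ := exists_char_pcompl hnpc
  have hVVV : ⁅V, V⁆ ≤ V := Cfsg.Agent.Lib.Helper16.BGPrim.commutator_self_le' V
  have hVV : ⁅V, V⁆ ≤ R' := by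
    apply hR'all _ (Subgroup.commutator_mono hVH hVH)
    exact Nat.Coprime.coprime_dvd_left (Subgroup.card_dvd_of_le hVVV) hVcop
  have hHn : H ≤ Subgroup.normalizer ((⁅H, H⁆ : Subgroup G) : Set G) := by
    intro g hg
    apply Cfsg.Agent.Lib.Helper1.mem_normalizer_of_forall_conj_mem
    intro x hx
    exact Cfsg.Agent.Lib.Helper16.BGPrim.conj_mem_commutator_self hg hx
  have hHR' : H ≤ Subgroup.normalizer (R' : Set G) := hHn.trans hR'n
  obtain ⟨n, hn⟩ := IsPGroup.iff_card.mp Ps.isPGroup'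
  have hR'Ps : R' ⊓ (Ps : Subgroup G) = ⊥ := by
    apply inf_eq_bot_of_coprime'
    rw [hn]
    exact hR'cop.pow_right n
  have hPsH : (Ps : Subgroup G) ≤ H := Subgroup.le_normalizer.trans hNH
  have hV'C : ⁅V, V⁆ ≤ Subgroup.centralizer ((Ps : Subgroup G) : Set G) := by
    intro x hx
    rw [Subgroup.mem_centralizer_iff]
    intro p hp
    exact (commute_of_mem_normalizers (hVV hx) hp (hVN (hVVV hx)) (hHR' (hPsH hp)) hR'Ps).symm
  -- step 7
  have hVC := le_normalizer_inf_centralizer_singleton hVN hV'C hkV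
  obtain ⟨N, hN, hkN⟩ := h.exists_N
  have hCN : (Ps : Subgroup G) ⊓ Subgroup.centralizer ({k} : Set G) ≤ N :=
    inf_le_right.trans (h.centk_le_N hkN)
  have hCp : IsPGroup r ↥((Ps : Subgroup G) ⊓ Subgroup.centralizer ({k} : Set G)) :=
    Ps.isPGroup'.to_le inf_le_left
  have hCcyc : IsCyclic ↥((Ps : Subgroup G) ⊓ Subgroup.centralizer ({k} : Set G)) := by
    apply Cfsg.Agent.Lib.Helper23.BGY.isCyclic_of_rank_one_nilpotent h.hG.1 hCN hCp.isNilpotent
    intro p hp hd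
    obtain ⟨j, hj⟩ := IsPGroup.iff_card.mp hCp
    rw [hj] at hd
    rw [(Nat.prime_dvd_prime_iff_eq hp h.hrp).mp (hp.dvd_of_dvd_pow hd)]
    exact h.pRankLE_N hN hkN
  have hA0C : A ⊓ Subgroup.centralizer (Cfsg.sigmaCore M : Set G) ≤
      (Ps : Subgroup G) ⊓ Subgroup.centralizer ({k} : Set G) := by
    intro u hu
    refine Subgroup.mem_inf.mpr ⟨hAPs hu.1, ?_⟩
    rw [Subgroup.mem_centralizer_singleton_iff]
    exact (h.hku u hu).symm
  have hVA0 := le_normalizer_of_le_isCyclic hCcyc hVC hA0C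
  have hVcent := (hVA0.trans h.normA0_eq.le).trans h.M_le_centA0
  intro u hu
  apply mem_commutator_of_centralized hVN (by rw [hn]; exact (hVcop.pow_right n).symm) hPV
    (hAPs hu.1)
  intro v hv
  exact (Subgroup.mem_centralizer_iff.mp (hVcent hv) u hu).symm

/-- **Step 8**, rank at most two. -/
theorem final_rank_two (h : Cfg M E A r k) (Ps : Sylow r G) (hAPs : A ≤ (Ps : Subgroup G))
    (hA0 : A ⊓ Subgroup.centralizer (Cfsg.sigmaCore M : Set G) ≤
      ⁅(Ps : Subgroup G), (Ps : Subgroup G)⁆)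
    (hrk : Cfsg.PRankLE r 2 ↥(Ps : Subgroup G)) : False := by
  rcases Cfsg.Agent.S1412.result h.hG r Ps hrk with hab | ⟨P1, P2, hsup, hcomm, -, hP1card, -, hP2cyc, -⟩
  · exact h.hS Ps hab
  -- `P₂` is central in `P*`
  have hP2c : ∀ b ∈ P2, ∀ b' ∈ P2, b * b' = b' * b := by
    intro b hb b' hb'
    have := (IsCyclic.commGroup (α := ↥P2)).mul_comm ⟨b, hb⟩ ⟨b', hb'⟩
    exact congrArg Subtype.val this
  have hP2cent : ∀ b ∈ P2, (Ps : Subgroup G) ≤ Subgroup.centralizer ({b} : Set G) := by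
    intro b hb
    rw [← hsup]
    apply sup_le
    · intro a ha
      rw [Subgroup.mem_centralizer_singleton_iff]
      exact hcomm a ha b hb
    · intro b' hb'
      rw [Subgroup.mem_centralizer_singleton_iff]
      exact hP2c b' hb' b hb
  -- `D = [P₁, P₁]` is central in `P*`
  have hDle : ⁅P1, P1⁆ ≤ P1 := Cfsg.Agent.Lib.Helper16.BGPrim.commutator_self_le' P1
  have hD1 : ∀ d ∈ ⁅P1, P1⁆, ∀ a ∈ P1, a * d = d * a := by
    intro d hd a ha
    rw [← map_commutator_subtype] at hd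
    obtain ⟨d', hd', rfl⟩ := hd
    have hc := commutator_le_center_of_card_cube hP1card hd'
    have := Subgroup.mem_center_iff.mp hc ⟨a, ha⟩
    exact congrArg Subtype.val this
  have hDcent : ∀ d ∈ ⁅P1, P1⁆, (Ps : Subgroup G) ≤ Subgroup.centralizer ({d} : Set G) := by
    intro d hd
    rw [← hsup]
    apply sup_le
    · intro a ha
      rw [Subgroup.mem_centralizer_singleton_iff]
      exact hD1 d hd a ha
    · intro b hb
      rw [Subgroup.mem_centralizer_singleton_iff]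
      exact (hcomm d (hDle hd) b hb).symm
  -- `[P*, P*] ≤ D`
  have hn : P2 ≤ Subgroup.normalizer (P1 : Set G) := by
    refine le_trans ?_ (Subgroup.centralizer_le_normalizer _)
    intro b hb
    rw [Subgroup.mem_centralizer_iff]
    intro a ha
    exact hcomm a ha b hb
  have hPD : ⁅(Ps : Subgroup G), (Ps : Subgroup G)⁆ ≤ ⁅P1, P1⁆ := by
    rw [Subgroup.commutator_le]
    intro x hx y hy
    have hx' := hx
    have hy' := hy
    rw [← hsup] at hx' hy'
    obtain ⟨a1, ha1, b1, hb1, rfl⟩ := Cfsg.Agent.Lib.Helper8.mem_sup_of_le_normalizer hn hx'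
    obtain ⟨a2, ha2, b2, hb2, rfl⟩ := Cfsg.Agent.Lib.Helper8.mem_sup_of_le_normalizer hn hy'
    have hc1 : Commute b1 (a2 * b2) := by
      have := hP2cent b1 hb1 hy
      rw [Subgroup.mem_centralizer_singleton_iff] at this
      exact this.symm
    have hc2 : Commute b2 a1 := (hcomm a1 ha1 b2 hb2).symm
    rw [commutatorElement_mul_left_of_commute hc1, commutatorElement_mul_right_of_commute hc2]
    exact Subgroup.commutator_mem_commutator ha1 ha2
  -- so `P* ≤ C(A₀) ≤ M` is abelian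
  have hPsM : (Ps : Subgroup G) ≤ M := by
    refine le_trans ?_ h.centA0_le
    intro p hp
    rw [Subgroup.mem_centralizer_iff]
    intro u hu
    have := hDcent u (hPD (hA0 hu)) hp
    rw [Subgroup.mem_centralizer_singleton_iff] at this
    exact this.symm
  apply h.hS Ps
  have hc := h.comm_of_isPGroup Ps.isPGroup' hPsM
  exact ⟨⟨fun a b => Subtype.ext (hc a a.2 b b.2)⟩⟩

/-- **Step 8**, rank at least three. -/
theorem final_rank_three (h : Cfg M E A r k) (Ps : Sylow r G) (hAPs : A ≤ (Ps : Subgroup G))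
    (hA0 : A ⊓ Subgroup.centralizer (Cfsg.sigmaCore M : Set G) ≤
      ⁅(Ps : Subgroup G), (Ps : Subgroup G)⁆)
    (hrk : ¬ Cfsg.PRankLE r 2 ↥(Ps : Subgroup G)) : False := by
  have hAc : ∀ a ∈ A, ∀ b ∈ A, a * b = b * a := fun a ha b hb => by
    have := h.hAe.1.is_comm.comm ⟨a, ha⟩ ⟨b, hb⟩
    exact congrArg Subtype.val this
  have hE : Cfsg.IsElementaryAbelian r (A.subgroupOf (Ps : Subgroup G)) := by
    refine ⟨⟨⟨fun x y => ?_⟩⟩, ?_⟩
    · apply Subtype.ext
      apply Subtype.ext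
      exact hAc _ (Subgroup.mem_subgroupOf.mp x.2) _ (Subgroup.mem_subgroupOf.mp y.2)
    · intro a ha
      apply Subtype.ext
      rw [Subgroup.coe_pow, Subgroup.coe_one]
      exact h.hAe.2 _ (Subgroup.mem_subgroupOf.mp ha)
  have hE2 : Nat.card (A.subgroupOf (Ps : Subgroup G)) = r ^ 2 := by
    rw [Cfsg.Agent.Lib.Helper1.card_subgroupOf_of_le hAPs]
    exact h.hA2
  have hmaxG := (Cfsg.Agent.S1408.result h.hG M h.hM r h.hrσ h.hr.2.2.1 h.hr.2.2.2).2 A h.hAM
    h.hAe h.hA2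
  have hEmax : ∀ B : Subgroup ↥(Ps : Subgroup G), Cfsg.IsElementaryAbelian r B →
      A.subgroupOf (Ps : Subgroup G) ≤ B → B = A.subgroupOf (Ps : Subgroup G) := by
    intro B hB hAB
    have hB' : Cfsg.IsElementaryAbelian r (B.map (Ps : Subgroup G).subtype) := by
      refine ⟨⟨⟨fun x y => ?_⟩⟩, ?_⟩
      · obtain ⟨x', hx', hx⟩ := x.2
        obtain ⟨y', hy', hy⟩ := y.2
        apply Subtype.ext
        have := hB.1.is_comm.comm ⟨x', hx'⟩ ⟨y', hy'⟩
        have h2 := congrArg (fun z : ↥B => (((z : ↥(Ps : Subgroup G)) : G))) this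
        simp only [Subgroup.coe_mul] at h2
        rw [Subgroup.coe_mul, Subgroup.coe_mul, ← hx, ← hy]
        exact h2
      · rintro _ ⟨b, hb, rfl⟩
        have := hB.2 b hb
        have h2 := congrArg Subtype.val this
        simpa using h2
    have hAB' : A ≤ B.map (Ps : Subgroup G).subtype := by
      intro a ha
      exact ⟨⟨a, hAPs ha⟩, hAB (Subgroup.mem_subgroupOf.mpr ha), rfl⟩
    have h1 := hmaxG _ hB' hAB'
    ext x
    rw [Subgroup.mem_subgroupOf, ← h1]
    constructor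
    · intro hx; exact ⟨x, hx, rfl⟩
    · rintro ⟨y, hy, hyx⟩
      have : y = x := Subtype.ext hyx
      rw [← this]; exact hy
  obtain ⟨h1, -, ⟨hWe, hW2⟩, hTchar, hTidx⟩ := Cfsg.Agent.S1453.result (R := ↥(Ps : Subgroup G)) r
    h.hr_ne_two Ps.isPGroup' hrk (A.subgroupOf (Ps : Subgroup G)) hE hE2 hEmax
  apply h1
  obtain ⟨W, hWdef⟩ : ∃ W : Subgroup ↥(Ps : Subgroup G), W = Subgroup.closure
      {x : ↥(Ps : Subgroup G) | x ∈ Subgroup.upperCentralSeries ↥(Ps : Subgroup G) 2 ∧ x ^ r = 1} :=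
    ⟨_, rfl⟩
  rw [← hWdef] at hWe hW2 hTchar hTidx ⊢
  haveI : (Subgroup.centralizer (W : Set ↥(Ps : Subgroup G))).Normal :=
    Subgroup.normal_of_characteristic _
  have hcomT := commutator_le_of_index_prime (Subgroup.centralizer (W : Set ↥(Ps : Subgroup G)))
    h.hrp hTidx
  -- `W ≤ A`
  have hWA : ∀ w ∈ W, ((w : ↥(Ps : Subgroup G)) : G) ∈ A := by
    intro w hw
    have hwM : (w : G) ∈ M := by
      apply h.centA0_le
      rw [Subgroup.mem_centralizer_iff]
      intro u hu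
      have hu' := hA0 hu
      rw [← map_commutator_subtype] at hu'
      obtain ⟨u', hu'c, rfl⟩ := hu'
      have := Subgroup.mem_centralizer_iff.mp (hcomT hu'c) w hw
      have h2 := congrArg Subtype.val this
      simpa using h2.symm
    apply h.mem_A_of_pow (R := (Ps : Subgroup G) ⊓ M) (Ps.isPGroup'.to_le inf_le_left) inf_le_right
      (le_inf hAPs h.hAM) (Subgroup.mem_inf.mpr ⟨w.2, hwM⟩)
    have := hWe.2 w hw
    have h2 := congrArg Subtype.val this
    simpa using h2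
  intro a ha
  rw [Subgroup.mem_centralizer_iff]
  intro w hw
  apply Subtype.ext
  rw [Subgroup.coe_mul, Subgroup.coe_mul]
  exact hAc _ (hWA w hw) _ (Subgroup.mem_subgroupOf.mp ha)

/-- **Theorem R2** (for a configuration): contradiction. -/
theorem false (h : Cfg M E A r k) : False := by
  obtain ⟨Ps, hAPs, hA0⟩ := h.exists_Pstar_commutator
  by_cases hrk : Cfsg.PRankLE r 2 ↥(Ps : Subgroup G)
  · exact h.final_rank_two Ps hAPs hA0 hrk
  · exact h.final_rank_three Ps hAPs hA0 hrk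

end Cfg

/-- **Theorem R2** (`notes/bg14/NOTES_h20.md` sec. 8), without the hypothesis that `k` acts
nontrivially on `A` (which is automatic).  `M` maximal, `r ∈ τ₂(M)`, the Sylow `r`-subgroups of `G`
nonabelian, `E` a complement of `M_σ` in `M`, `A ≤ E` elementary abelian of order `r ^ 2`.  Then no
element `k ∈ E` of (prime) order in `κ(M)` centralizes `A₀ = A ∩ C_G(M_σ)`.  The only hypothesis
beyond the proved statements is `H1428` (= the frozen S1428). -/
theorem thmR2' (hG : Cfsg.IsMinSimpleOddOrder G) (h28 : H1428 G) {M : Subgroup G}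
    (hM : IsCoatom M) {E : Subgroup G} (hE : Cfsg.IsComplIn E (Cfsg.sigmaCore M) M) {r : ℕ}
    [Fact r.Prime] (hr : r ∈ Cfsg.tau2 M)
    (hS : ∀ S : Sylow r G, ¬ IsMulCommutative (S : Subgroup G)) {A : Subgroup G} (hAE : A ≤ E)
    (hAe : Cfsg.IsElementaryAbelian r A) (hA2 : Nat.card A = r ^ 2) {k : G} (hkE : k ∈ E)
    (hks : orderOf k ∈ Cfsg.kappa M)
    (hku : ∀ u ∈ A ⊓ Subgroup.centralizer (Cfsg.sigmaCore M : Set G), k * u = u * k) : False :=
  Cfg.false ⟨hG, h28, hM, hE, hr, hS, hAE, hAe, hA2, hkE, hks, hku⟩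

/-- **Theorem R2** in the announced shape. -/
theorem thmR2 (hG : Cfsg.IsMinSimpleOddOrder G) (h28 : H1428 G) {M : Subgroup G}
    (hM : IsCoatom M) {E : Subgroup G} (hE : Cfsg.IsComplIn E (Cfsg.sigmaCore M) M) {r : ℕ}
    [Fact r.Prime] (hr : r ∈ Cfsg.tau2 M)
    (hS : ∀ S : Sylow r G, ¬ IsMulCommutative (S : Subgroup G)) {A : Subgroup G} (hAE : A ≤ E)
    (hAe : Cfsg.IsElementaryAbelian r A) (hA2 : Nat.card A = r ^ 2) {k : G} (hkE : k ∈ E)
    (hks : orderOf k ∈ Cfsg.kappa M)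
    (hku : ∀ u ∈ A ⊓ Subgroup.centralizer (Cfsg.sigmaCore M : Set G), k * u = u * k)
    (_hkA : ∃ a ∈ A, k * a ≠ a * k) : False :=
  thmR2' hG h28 hM hE hr hS hAE hAe hA2 hkE hks hku

/-- helper24's shape `HR2`. -/
def HR2 (G : Type u) [Group G] : Prop :=
  ∀ (M : Subgroup G), IsCoatom M → ∀ E : Subgroup G, Cfsg.IsComplIn E (Cfsg.sigmaCore M) M →
    ∀ (r : ℕ) [Fact r.Prime], r ∈ Cfsg.tau2 M →
    (∀ S : Sylow r G, ¬ IsMulCommutative (S : Subgroup G)) →
    ∀ A : Subgroup G, (A ≤ E ∧ Cfsg.IsElementaryAbelian r A ∧ Nat.card A = r ^ 2) →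
    ∀ k ∈ E, (orderOf k).Prime → orderOf k ∈ Cfsg.kappa M →
      k ∈ Subgroup.centralizer
        ((A ⊓ Subgroup.centralizer (Cfsg.sigmaCore M : Set G) : Subgroup G) : Set G) →
      k ∈ Subgroup.centralizer (A : Set G)

theorem hR2 (hG : Cfsg.IsMinSimpleOddOrder G) (h28 : H1428 G) : HR2 G := by
  intro M hM E hE r _ hr hS A hA k hkE _ hks hku
  exfalso
  refine thmR2' hG h28 hM hE hr hS hA.1 hA.2.1 hA.2.2 hkE hks ?_
  intro u hu
  exact (Subgroup.mem_centralizer_iff.mp hku u hu).symm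

end Cfsg.Agent.Lib.Helper17.BGR2
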