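/-
helper17: MAIN CLAIM (κ(M) ∩ τ₃(M) = ∅), formalization unit [A] of notes/bg14/NOTES_h20.md sec. 11-14:
"Case II" basics.  `M` maximal, `E` a complement of `M_σ`, `E₁`, `E₃` Hall `τ₁(M)`-, `τ₃(M)`-subgroups
of `E`, `E₃ ≠ 1` and `T₃ := C_{M_σ}(E₃) ≠ 1`.
The only hypothesis beyond proved statements is `H1428 G` (= frozen S1428).
-/
import Mathlib
import Cfsg.Prelude.Def_OddOrderLocal
import Cfsg.Agent.Lib.Helper17.BGR2F
import Cfsg.Agent.Lib.Helper24.BGRegE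
import Cfsg.Agent.Lib.Helper16.BGPrimE

set_option autoImplicit false
set_option linter.unusedSectionVars false
set_option linter.unusedVariables false
set_option linter.style.haveILetI false

namespace Cfsg.Agent.Lib.Helper17.BGC2

open Cfsg.Agent.Lib.Helper17
open Cfsg.Agent.Lib.Helper17.BGR2
open Cfsg.Agent.Lib.Helper8 (mem_map_conj conj_mem_map_conj map_conj_map_conj map_conj_one
  map_conj_le_iff map_conj_eq_iff card_map_conj mem_normalizer_iff_map_conj sylow_smul_coe)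
open scoped commutatorElement

universe u

variable {G : Type u} [Group G]

/-- helper24's form of S1428. -/
theorem h28G {G : Type u} [Group G] (h28 : H1428 G) : Cfsg.Agent.Lib.Helper24.BGReg.H28G G :=
  fun M hM E hE p hp P hPE hP R hRE hR => h28 M hM E hE p hp P hPE hP R hRE hR

/-- helper24's form of Theorem R2. -/
theorem hR2_24 [Finite G] (hG : Cfsg.IsMinSimpleOddOrder G) (h28 : H1428 G) :
    Cfsg.Agent.Lib.Helper24.BGReg.HR2 G :=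
  fun M hM E hE r _ hr hS A hAE hAe hA2 k hkE hks hku a ha => by
    by_contra hne
    exact thmR2' hG h28 hM hE hr hS hAE hAe hA2 hkE hks hku

/-- Corollary R for every maximal subgroup (from `H1428`). -/
theorem corR [Finite G] (hG : Cfsg.IsMinSimpleOddOrder G) (h28 : H1428 G) {M : Subgroup G}
    (hM : IsCoatom M) : Cfsg.Agent.Lib.Helper2.BGCor.CorR M :=
  Cfsg.Agent.Lib.Helper24.BGReg.corR hG (h28G h28) (hR2_24 hG h28) hM

/-- Corollary G1 for every maximal subgroup (from `H1428`). -/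
theorem corG1 [Finite G] (hG : Cfsg.IsMinSimpleOddOrder G) (h28 : H1428 G) {M : Subgroup G}
    (hM : IsCoatom M) : Cfsg.Agent.Lib.Helper2.BGCor.CorG1 M :=
  Cfsg.Agent.Lib.Helper24.BGReg.corG1 hG (hR2_24 hG h28) hM

/-- **Case II**: `E₃ ≠ 1` and `T₃ = C_{M_σ}(E₃) ≠ 1`. -/
structure CaseII (M E E1 E3 : Subgroup G) : Prop where
  hG : Cfsg.IsMinSimpleOddOrder G
  h28 : H1428 G
  hM : IsCoatom M
  hE : Cfsg.IsComplIn E (Cfsg.sigmaCore M) M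
  hE1 : Cfsg.IsPiHallOf (Cfsg.tau1 M) E1 E
  hE3 : Cfsg.IsPiHallOf (Cfsg.tau3 M) E3 E
  hE3ne : E3 ≠ ⊥
  hT3 : Cfsg.sigmaCore M ⊓ Subgroup.centralizer (E3 : Set G) ≠ ⊥

variable [Finite G] {M E E1 E3 : Subgroup G}

namespace CaseII

theorem hEM (h : CaseII M E E1 E3) : E ≤ M := h.hE.1
theorem hE1E (h : CaseII M E E1 E3) : E1 ≤ E := h.hE1.1
theorem hE3E (h : CaseII M E E1 E3) : E3 ≤ E := h.hE3.1

theorem solvable_E (h : CaseII M E E1 E3) : Group.IsSolvable ↥E := by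
  haveI : Group.IsSolvable ↥M := h.hG.2.2.2 M h.hM.1
  exact Group.isSolvable_of_isSolvable_injective (Subgroup.inclusion_injective h.hEM)

theorem s15 (h : CaseII M E E1 E3) :
    IsCyclic ↥E3 ∧ E3 ≤ ⁅E, E⁆ ∧ E ≤ Subgroup.normalizer (E3 : Set G) :=
  (Cfsg.Agent.S1415.result h.hG M h.hM E h.hE).2.2 E3 h.hE3

theorem E3_cyclic (h : CaseII M E E1 E3) : IsCyclic ↥E3 := h.s15.1
theorem E3_le_commutator (h : CaseII M E E1 E3) : E3 ≤ ⁅E, E⁆ := h.s15.2.1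
theorem E_le_normE3 (h : CaseII M E E1 E3) : E ≤ Subgroup.normalizer (E3 : Set G) := h.s15.2.2
theorem E1_cyclic (h : CaseII M E E1 E3) : IsCyclic ↥E1 :=
  (Cfsg.Agent.S1415.result h.hG M h.hM E h.hE).2.1 E1 h.hE1

theorem E1_comm (h : CaseII M E E1 E3) : ∀ a ∈ E1, ∀ b ∈ E1, a * b = b * a := by
  intro a ha b hb
  haveI := h.E1_cyclic
  have := (IsCyclic.commGroup (α := ↥E1)).mul_comm ⟨a, ha⟩ ⟨b, hb⟩
  exact congrArg Subtype.val this

theorem E3_comm (h : CaseII M E E1 E3) : ∀ a ∈ E3, ∀ b ∈ E3, a * b = b * a := by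
  intro a ha b hb
  haveI := h.E3_cyclic
  have := (IsCyclic.commGroup (α := ↥E3)).mul_comm ⟨a, ha⟩ ⟨b, hb⟩
  exact congrArg Subtype.val this

/-- every subgroup of `E₃` is normal in `E`. -/
theorem E_le_normalizer (h : CaseII M E E1 E3) {X : Subgroup G} (hX : X ≤ E3) :
    E ≤ Subgroup.normalizer (X : Set G) :=
  le_normalizer_of_le_isCyclic h.E3_cyclic h.E_le_normE3 hX

/-- **13.3(b)**: `E₃` acts in a prime manner on `M_σ`. -/
theorem cent_E3 (h : CaseII M E E1 E3) {e : G} (he : e ∈ E3) (he1 : e ≠ 1) :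
    Cfsg.sigmaCore M ⊓ Subgroup.centralizer ({e} : Set G) =
      Cfsg.sigmaCore M ⊓ Subgroup.centralizer (E3 : Set G) :=
  Cfsg.Agent.Lib.Helper16.BGPrim.thm13_3_b h.hG (h17 h.hG) (h18 h.hG) (h23 h.hG) (h24 h.hG)
    h.hM h.hE h.hE3 e he he1

/-- `C_{M_σ}(X) = T₃` for every subgroup `1 ≠ X ≤ E₃`. -/
theorem cent_sub_E3 (h : CaseII M E E1 E3) {X : Subgroup G} (hX : X ≤ E3) (hX1 : X ≠ ⊥) :
    Cfsg.sigmaCore M ⊓ Subgroup.centralizer (X : Set G) =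
      Cfsg.sigmaCore M ⊓ Subgroup.centralizer (E3 : Set G) := by
  apply le_antisymm
  · obtain ⟨e, he, he1⟩ := (Subgroup.bot_or_exists_ne_one X).resolve_left hX1
    rw [← h.cent_E3 (hX he) he1]
    apply inf_le_inf_left
    apply Subgroup.centralizer_le
    intro z hz
    rw [Set.mem_singleton_iff] at hz
    rw [hz]; exact he
  · exact inf_le_inf_left _ (Subgroup.centralizer_le hX)

/-- elements of prime order of `E₃`. -/
theorem exists_prime_order_E3 (h : CaseII M E E1 E3) :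
    ∃ k ∈ E3, (orderOf k).Prime ∧ orderOf k ∈ Cfsg.tau3 M := by
  obtain ⟨p, hp, hd⟩ := Cfsg.Agent.Lib.Helper8.BGEx.exists_prime_dvd_card_of_ne_bot h.hE3ne
  haveI : Fact p.Prime := ⟨hp⟩
  obtain ⟨z, hz⟩ := exists_prime_orderOf_dvd_card' p hd
  refine ⟨(z : G), z.2, ?_, ?_⟩
  · rw [Subgroup.orderOf_coe, hz]; exact hp
  · rw [Subgroup.orderOf_coe, hz]; exact h.hE3.2.1 p hp hd

/-- `τ₂(M) = ∅` in Case II. -/
theorem tau2_empty (h : CaseII M E E1 E3) (r : ℕ) : r ∉ Cfsg.tau2 M := by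
  intro hr
  haveI : Fact r.Prime := ⟨hr.1⟩
  obtain ⟨k, hk, hkp, hkτ⟩ := h.exists_prime_order_E3
  have hk1 : k ≠ 1 := by
    rintro rfl
    rw [orderOf_one] at hkp
    exact Nat.not_prime_one hkp
  obtain ⟨y, hy, hy1⟩ := (Subgroup.bot_or_exists_ne_one _).resolve_left h.hT3
  rw [← h.cent_E3 hk hk1] at hy
  apply hy1
  have hyc : y ∈ Subgroup.centralizer ({k} : Set G) := hy.2
  rw [Subgroup.mem_centralizer_singleton_iff] at hyc
  exact Cfsg.Agent.Lib.Helper24.BGReg.eq_one_of_comm_tau3 h.hG h.hM h.hE hr (h.hE3E hk) hkτ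
    hy.1 hyc.symm

/-- primes dividing `|E|` lie in `τ₁(M) ∪ τ₃(M)`. -/
theorem tau1_or_tau3 (h : CaseII M E E1 E3) {p : ℕ} (hp : p.Prime) (hd : p ∣ Nat.card E) :
    p ∈ Cfsg.tau1 M ∨ p ∈ Cfsg.tau3 M := by
  have hpσ : p ∉ Cfsg.sigma M :=
    Cfsg.Agent.Lib.Helper23.BGY.not_mem_sigma_of_dvd_compl h.hG h.hM h.hE hp hd
  have hpM : p ∣ Nat.card M := hd.trans (Subgroup.card_dvd_of_le h.hEM)
  have hr1 : Cfsg.PRankLE p 1 ↥M := by
    by_contra hr1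
    exact h.tau2_empty p
      (Cfsg.Agent.Lib.Helper23.BGY.mem_tau2_of_not_rank_one h.hG h.hM hp hpσ hr1)
  by_cases hd' : p ∣ Nat.card ↥⁅M, M⁆
  · exact Or.inr ⟨hp, hpσ, hd', hr1⟩
  · exact Or.inl ⟨hp, hpσ, hpM, hd', hr1⟩

theorem not_tau1_and_tau3 {M : Subgroup G} {p : ℕ} (h1 : p ∈ Cfsg.tau1 M) (h3 : p ∈ Cfsg.tau3 M) :
    False := h1.2.2.2.1 h3.2.2.1

theorem coprime_E3_E1 (h : CaseII M E E1 E3) : (Nat.card E3).Coprime (Nat.card E1) := by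
  apply Nat.coprime_of_dvd
  intro p hp h3 h1
  exact not_tau1_and_tau3 (h.hE1.2.1 p hp h1) (h.hE3.2.1 p hp h3)

theorem E3_inf_E1 (h : CaseII M E E1 E3) : E3 ⊓ E1 = ⊥ := inf_eq_bot_of_coprime' h.coprime_E3_E1

/-- `E = E₃ E₁`. -/
theorem mem_E (h : CaseII M E E1 E3) {e : G} (he : e ∈ E) : ∃ a ∈ E3, ∃ b ∈ E1, e = a * b := by
  have hc : Subgroup.IsComplement' (E3.subgroupOf E) (E1.subgroupOf E) := by
    apply Cfsg.Agent.Lib.Helper2.BGCor.isComplement'_of_hall_pair (Cfsg.tau3 M)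
    · intro p hp hd
      rw [Cfsg.Agent.Lib.Helper1.card_subgroupOf_of_le h.hE3E] at hd
      exact h.hE3.2.1 p hp hd
    · intro p hp hp3 hd
      exact h.hE3.2.2 p hp hp3 hd
    · intro p hp hd hp3
      rw [Cfsg.Agent.Lib.Helper1.card_subgroupOf_of_le h.hE1E] at hd
      exact not_tau1_and_tau3 (h.hE1.2.1 p hp hd) hp3
    · intro p hp hp3 hd
      have hdE : p ∣ Nat.card E := by
        have h1 : (E1.subgroupOf E).index ∣ Nat.card ↥E := Subgroup.index_dvd_card _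
        exact hd.trans h1
      rcases h.tau1_or_tau3 hp hdE with h1 | h1
      · exact h.hE1.2.2 p hp h1 hd
      · exact hp3 h1
  obtain ⟨⟨a, b⟩, hab⟩ := hc.2 ⟨e, he⟩
  refine ⟨(a : ↥E), Subgroup.mem_subgroupOf.mp a.2, (b : ↥E), Subgroup.mem_subgroupOf.mp b.2, ?_⟩
  have := congrArg Subtype.val hab
  simpa using this.symm

/-- `τ₃(M) ⊆ κ(M)` in Case II. -/
theorem tau3_subset_kappa (h : CaseII M E E1 E3) {p : ℕ} (hp : p ∈ Cfsg.tau3 M) :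
    p ∈ Cfsg.kappa M := by
  obtain ⟨hpp, hpσ, hd, hr1⟩ := hp
  haveI : Fact p.Prime := ⟨hpp⟩
  have hpM : p ∣ Nat.card M := hd.trans (Subgroup.card_dvd_of_le
    (Cfsg.Agent.Lib.Helper16.BGPrim.commutator_self_le' M))
  have hpE : p ∣ Nat.card E := Cfsg.Agent.Lib.Helper2.BGCor.dvd_card_compl h.hE hpp hpM hpσ
  have hpE3 : p ∣ Nat.card E3 := by
    have h2 : Nat.card E3 * E3.relIndex E = Nat.card E := by
      have := (E3.subgroupOf E).card_mul_index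
      rwa [Cfsg.Agent.Lib.Helper1.card_subgroupOf_of_le h.hE3E] at this
    rw [← h2] at hpE
    exact ((Nat.Prime.dvd_mul hpp).mp hpE).resolve_right (h.hE3.2.2 p hpp ⟨hpp, hpσ, hd, hr1⟩)
  obtain ⟨z, hz⟩ := exists_prime_orderOf_dvd_card' p hpE3
  have hz1 : (z : G) ≠ 1 := by
    intro h1
    have : orderOf (z : G) = p := by rw [Subgroup.orderOf_coe, hz]
    rw [h1, orderOf_one] at this
    exact hpp.one_lt.ne this
  obtain ⟨y, hy, hy1⟩ := (Subgroup.bot_or_exists_ne_one _).resolve_left h.hT3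
  rw [← h.cent_E3 z.2 hz1] at hy
  have hyc : y ∈ Subgroup.centralizer ({(z : G)} : Set G) := hy.2
  rw [Subgroup.mem_centralizer_singleton_iff] at hyc
  exact Cfsg.Agent.Lib.Helper24.BGReg.mem_kappa_of_fixed h.hG hpp hpσ hr1
    (h.hEM (h.hE3E z.2)) (by rw [Subgroup.orderOf_coe, hz]) hy.1 hy1 hyc.symm

/-! ### the maximal subgroups `H ⊇ N_G(X)`, `X ≤ E₃` of prime order -/

section withH

variable {X H : Subgroup G} {p : ℕ} [Fact p.Prime]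

theorem p_tau3 (h : CaseII M E E1 E3) (hXE3 : X ≤ E3) (hXp : Nat.card X = p) :
    p ∈ Cfsg.tau3 M :=
  h.hE3.2.1 p Fact.out (hXp ▸ Subgroup.card_dvd_of_le hXE3)

theorem X_ne_bot (hXp : Nat.card X = p) : X ≠ ⊥ := by
  intro h0
  rw [h0, Subgroup.card_bot] at hXp
  exact (Fact.out : p.Prime).one_lt.ne hXp

theorem isPGroup_X (hXp : Nat.card X = p) : IsPGroup p X :=
  IsPGroup.of_card (n := 1) (by rw [hXp, pow_one])

theorem E_le_H (h : CaseII M E E1 E3) (hXE3 : X ≤ E3)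
    (hNH : Subgroup.normalizer (X : Set G) ≤ H) : E ≤ H :=
  (h.E_le_normalizer hXE3).trans hNH

theorem zero_H (h : CaseII M E E1 E3) (hXE3 : X ≤ E3) (hXp : Nat.card X = p) (hH : IsCoatom H)
    (hNH : Subgroup.normalizer (X : Set G) ≤ H) :
    (∀ g : G, H ≠ M.map (MulAut.conj g).toMonoidHom) ∧
      (p ∈ Cfsg.sigma H ∨ p ∈ Cfsg.tau2 H) ∧ p ∉ Cfsg.tau1 H := by
  have hτ := h.p_tau3 hXE3 hXp
  exact Cfsg.Agent.Lib.Helper16.BGPrim.thm13_2_zero h.hG hH hτ.2.1 hτ.2.2.2 (isPGroup_X hXp)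
    (X_ne_bot hXp) hNH

theorem nonconj_H (h : CaseII M E E1 E3) (hXE3 : X ≤ E3) (hXp : Nat.card X = p) (hH : IsCoatom H)
    (hNH : Subgroup.normalizer (X : Set G) ≤ H) :
    ∀ g : G, H ≠ M.map (MulAut.conj g).toMonoidHom := (h.zero_H hXE3 hXp hH hNH).1

/-- **G1**: `X ≤ H_σ`. -/
theorem X_le_sigmaCore_H (h : CaseII M E E1 E3) (hXE3 : X ≤ E3) (hXp : Nat.card X = p)
    (hH : IsCoatom H) (hNH : Subgroup.normalizer (X : Set G) ≤ H) : X ≤ Cfsg.sigmaCore H := by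
  apply corG1 h.hG h.h28 h.hM X ((hXE3.trans h.hE3E).trans h.hEM) _ H hH hNH
  rw [hXp]
  exact h.tau3_subset_kappa (h.p_tau3 hXE3 hXp)

theorem p_mem_sigma_H (h : CaseII M E E1 E3) (hXE3 : X ≤ E3) (hXp : Nat.card X = p)
    (hH : IsCoatom H) (hNH : Subgroup.normalizer (X : Set G) ≤ H) : p ∈ Cfsg.sigma H := by
  apply Cfsg.Agent.Lib.Helper2.BGCor.primes_card_sigmaCore H p Fact.out
  rw [← hXp]
  exact Subgroup.card_dvd_of_le (h.X_le_sigmaCore_H hXE3 hXp hH hNH)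

/-- `M_σ ∩ H = T₃`. -/
theorem sigmaCore_inf_H (h : CaseII M E E1 E3) (hXE3 : X ≤ E3) (hXp : Nat.card X = p)
    (hH : IsCoatom H) (hNH : Subgroup.normalizer (X : Set G) ≤ H) :
    Cfsg.sigmaCore M ⊓ H = Cfsg.sigmaCore M ⊓ Subgroup.centralizer (E3 : Set G) := by
  have hτ := h.p_tau3 hXE3 hXp
  rw [← h.cent_sub_E3 hXE3 (X_ne_bot hXp)]
  exact Cfsg.Agent.Lib.Helper16.BGPrim.thm13_2_c h.hG (h17 h.hG) (h18 h.hG) (h23 h.hG) (h24 h.hG)
    h.hM hH hτ.2.1 hτ.2.2.2 (isPGroup_X hXp) (X_ne_bot hXp) ((hXE3.trans h.hE3E).trans h.hEM) hNH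

/-- `M ∩ H = E T₃`. -/
theorem mem_M_inf_H (h : CaseII M E E1 E3) (hXE3 : X ≤ E3) (hXp : Nat.card X = p)
    (hH : IsCoatom H) (hNH : Subgroup.normalizer (X : Set G) ≤ H) {m : G} (hmM : m ∈ M)
    (hmH : m ∈ H) : ∃ a ∈ E, ∃ b ∈ Cfsg.sigmaCore M ⊓ Subgroup.centralizer (E3 : Set G),
      m = a * b := by
  obtain ⟨a, ha, b, hb, rfl⟩ := h.hE.2.2.2 m hmM
  refine ⟨a, ha, b, ?_, rfl⟩
  rw [← h.sigmaCore_inf_H hXE3 hXp hH hNH]
  refine Subgroup.mem_inf.mpr ⟨hb, ?_⟩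
  have haH : a ∈ H := h.E_le_H hXE3 hNH ha
  have : b = a⁻¹ * (a * b) := by group
  rw [this]
  exact H.mul_mem (H.inv_mem haH) hmH

/-- elements of prime order `r` of `E₁`, for `r ∈ τ₁(M)`. -/
theorem exists_mem_E1 (h : CaseII M E E1 E3) {r : ℕ} (hr : r ∈ Cfsg.tau1 M) :
    ∃ z ∈ E1, orderOf z = r := by
  obtain ⟨hrp, hrσ, hrM, hrd, hr1⟩ := hr
  haveI : Fact r.Prime := ⟨hrp⟩
  have hrE : r ∣ Nat.card E := Cfsg.Agent.Lib.Helper2.BGCor.dvd_card_compl h.hE hrp hrM hrσ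
  have hrE1 : r ∣ Nat.card E1 := by
    have h2 : Nat.card E1 * E1.relIndex E = Nat.card E := by
      have := (E1.subgroupOf E).card_mul_index
      rwa [Cfsg.Agent.Lib.Helper1.card_subgroupOf_of_le h.hE1E] at this
    rw [← h2] at hrE
    exact ((Nat.Prime.dvd_mul hrp).mp hrE).resolve_right
      (h.hE1.2.2 r hrp ⟨hrp, hrσ, hrM, hrd, hr1⟩)
  obtain ⟨z, hz⟩ := exists_prime_orderOf_dvd_card' r hrE1
  exact ⟨(z : G), z.2, by rw [Subgroup.orderOf_coe, hz]⟩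

/-- For `r ∈ τ₁(M)`: `r ∈ κ(M)` or `r ∈ τ₁(H)` (13.1a). -/
theorem kappa_or_tau1_H (h : CaseII M E E1 E3) (hXE3 : X ≤ E3) (hXp : Nat.card X = p)
    (hH : IsCoatom H) (hNH : Subgroup.normalizer (X : Set G) ≤ H) {r : ℕ}
    (hr : r ∈ Cfsg.tau1 M) : r ∈ Cfsg.kappa M ∨ r ∈ Cfsg.tau1 H := by
  by_cases hrH : r ∈ Cfsg.tau1 H
  · exact Or.inr hrH
  left
  haveI : Fact r.Prime := ⟨hr.1⟩
  obtain ⟨z, hzE1, hzr⟩ := h.exists_mem_E1 hr
  have hzE : z ∈ E := h.hE1E hzE1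
  have hRp : IsPGroup r (Subgroup.zpowers z) :=
    IsPGroup.of_card (n := 1) (by rw [Nat.card_zpowers, hzr, pow_one])
  have h1 := Cfsg.Agent.Lib.Helper16.BGPrim.thm13_1a h.hG (h17 h.hG) (h18 h.hG) (h23 h.hG)
    (h24 h.hG) h.hM hH (h.nonconj_H hXE3 hXp hH hNH) hr.2.1 hRp
    (Subgroup.zpowers_le.mpr (h.hEM hzE)) (Subgroup.zpowers_le.mpr (h.E_le_H hXE3 hNH hzE)) hrH
  obtain ⟨y, hy, hy1⟩ := (Subgroup.bot_or_exists_ne_one _).resolve_left h.hT3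
  have hy' := hy
  rw [← h.sigmaCore_inf_H hXE3 hXp hH hNH] at hy'
  exact Cfsg.Agent.Lib.Helper24.BGReg.mem_kappa_of_fixed h.hG hr.1 hr.2.1 hr.2.2.2.2 (h.hEM hzE)
    hzr hy.1 hy1 (h1 y hy' z (Subgroup.mem_zpowers z))

end withH

end CaseII

/-- A prime in `κ(M) ∩ τ₃(M)` puts `M` in Case II. -/
theorem exists_caseII (hG : Cfsg.IsMinSimpleOddOrder G) (h28 : H1428 G)
    {M : Subgroup G} (hM : IsCoatom M) {s : ℕ} (hsκ : s ∈ Cfsg.kappa M)
    (hs3 : s ∈ Cfsg.tau3 M) : ∃ E E1 E3 : Subgroup G, CaseII M E E1 E3 := by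
  obtain ⟨hHall, -, -⟩ := Cfsg.Agent.S1350.result hG M hM
  obtain ⟨E, hE⟩ := Cfsg.Agent.Lib.Helper2.BGCor.exists_compl_sigmaCore hHall
  haveI : Group.IsSolvable ↥M := hG.2.2.2 M hM.1
  haveI : Group.IsSolvable ↥E :=
    Group.isSolvable_of_isSolvable_injective (Subgroup.inclusion_injective hE.1)
  have hbot : ∀ π : Set ℕ, ∀ p : ℕ, p.Prime → p ∣ Nat.card (⊥ : Subgroup G) → p ∈ π := by
    intro π p hp hd
    rw [Subgroup.card_bot] at hd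
    exact absurd (Nat.dvd_one.mp hd) hp.one_lt.ne'
  obtain ⟨E1, hE1, -⟩ := Cfsg.Agent.Lib.Helper16.BGPrim.exists_hall_ge' (Cfsg.tau1 M)
    (bot_le : (⊥ : Subgroup G) ≤ E) (hbot _)
  obtain ⟨E3, hE3, -⟩ := Cfsg.Agent.Lib.Helper16.BGPrim.exists_hall_ge' (Cfsg.tau3 M)
    (bot_le : (⊥ : Subgroup G) ≤ E) (hbot _)
  have hsp : s.Prime := hsκ.1
  haveI : Fact s.Prime := ⟨hsp⟩
  have hsE : s ∣ Nat.card E :=
    Cfsg.Agent.Lib.Helper2.BGCor.dvd_card_compl hE hsp hsκ.2.1 hsκ.2.2.1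
  have hsE3 : s ∣ Nat.card E3 := by
    have h2 : Nat.card E3 * E3.relIndex E = Nat.card E := by
      have := (E3.subgroupOf E).card_mul_index
      rwa [Cfsg.Agent.Lib.Helper1.card_subgroupOf_of_le hE3.1] at this
    rw [← h2] at hsE
    exact ((Nat.Prime.dvd_mul hsp).mp hsE).resolve_right (hE3.2.2 s hsp hs3)
  obtain ⟨z, hz⟩ := exists_prime_orderOf_dvd_card' s hsE3
  have hzo : orderOf (z : G) = s := by rw [Subgroup.orderOf_coe, hz]
  have hz1 : (z : G) ≠ 1 := by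
    intro h1
    rw [h1, orderOf_one] at hzo
    exact hsp.one_lt.ne hzo
  have hE3ne : E3 ≠ ⊥ := by
    intro h0
    have h1 : (z : G) ∈ (⊥ : Subgroup G) := h0 ▸ z.2
    exact hz1 (Subgroup.mem_bot.mp h1)
  obtain ⟨y, hy, hy1, hzy⟩ :=
    Cfsg.Agent.Lib.Helper2.BGCor.kappa_cent hsκ (hE.1 (hE3.1 z.2)) hzo
  have h3b := Cfsg.Agent.Lib.Helper16.BGPrim.thm13_3_b hG (h17 hG) (h18 hG) (h23 hG) (h24 hG)
    hM hE hE3 (z : G) z.2 hz1
  refine ⟨E, E1, E3, hG, h28, hM, hE, hE1, hE3, hE3ne, ?_⟩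
  intro h0
  apply hy1
  have : y ∈ Cfsg.sigmaCore M ⊓ Subgroup.centralizer ({(z : G)} : Set G) := by
    refine Subgroup.mem_inf.mpr ⟨hy, ?_⟩
    rw [Subgroup.mem_centralizer_singleton_iff]
    exact hzy.symm
  rw [h3b, h0, Subgroup.mem_bot] at this
  exact this

end Cfsg.Agent.Lib.Helper17.BGC2
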