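/-
helper17: MAIN CLAIM (κ(M) ∩ τ₃(M) = ∅), formalization unit [B] of notes/bg14/NOTES_h20.md sec. 12:
pairs `(X, x)` (`X ≤ E₃` of prime order `p`, `x ∈ E₁` of prime order `r`), Lemma A (12.1),
faithful pairs (12.2, via S1545), (11.1), type-N pairs (12.3).
-/
import Mathlib
import Cfsg.Prelude.Def_OddOrderLocal
import Cfsg.Agent.Lib.Helper17.BGC2A
import Cfsg.Agent.S1443
import Cfsg.Agent.S1545

set_option autoImplicit false
set_option linter.unusedSectionVars false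
set_option linter.unusedVariables false
set_option linter.style.haveILetI false

namespace Cfsg.Agent.Lib.Helper17.BGC2

open Cfsg.Agent.Lib.Helper17
open Cfsg.Agent.Lib.Helper17.BGR2
open Cfsg.Agent.Lib.Helper8 (mem_map_conj conj_mem_map_conj map_conj_map_conj map_conj_one
  map_conj_le_iff map_conj_eq_iff card_map_conj mem_normalizer_iff_map_conj sylow_smul_coe)
open scoped commutatorElement

universe u

variable {G : Type u} [Group G] [Finite G]

/-- a subgroup of `M` of order prime to `|M_σ|` lies in a complement of `M_σ`. -/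
theorem exists_compl_ge (hG : Cfsg.IsMinSimpleOddOrder G) {M : Subgroup G} (hM : IsCoatom M)
    {Y : Subgroup G} (hYM : Y ≤ M) (hcop : (Nat.card Y).Coprime (Nat.card (Cfsg.sigmaCore M))) :
    ∃ E : Subgroup G, Cfsg.IsComplIn E (Cfsg.sigmaCore M) M ∧ Y ≤ E := by
  obtain ⟨hHall, -, -⟩ := Cfsg.Agent.S1350.result hG M hM
  obtain ⟨E0, hE0⟩ := Cfsg.Agent.Lib.Helper2.BGCor.exists_compl_sigmaCore hHall
  haveI : Group.IsSolvable ↥M := hG.2.2.2 M hM.1
  have hsolv : Group.IsSolvable ↥Y ∨ Group.IsSolvable ↥(Cfsg.sigmaCore M) :=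
    Or.inl (Group.isSolvable_of_isSolvable_injective (Subgroup.inclusion_injective hYM))
  obtain ⟨k, hk, hkK⟩ := Cfsg.Agent.Lib.Helper23.BGY.exists_conj_mem_compl
    (Cfsg.Agent.Lib.Helper8.BGEx.le_normalizer_sigmaCore M) hE0 hYM hcop hsolv
  exact ⟨E0.map (MulAut.conj k).toMonoidHom,
    Cfsg.Agent.Lib.Helper23.BGY.isComplIn_conj (Cfsg.Agent.Lib.Helper8.BGEx.le_normalizer_sigmaCore M)
      hE0 (Cfsg.Agent.Lib.Helper8.BGEx.sigmaCore_le M hk),
    fun a ha => mem_map_conj.mpr (hkK a ha)⟩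

/-- `|E|` is prime to `|M_σ|`. -/
theorem coprime_compl (hG : Cfsg.IsMinSimpleOddOrder G) {M : Subgroup G} (hM : IsCoatom M)
    {E : Subgroup G} (hE : Cfsg.IsComplIn E (Cfsg.sigmaCore M) M) :
    (Nat.card E).Coprime (Nat.card (Cfsg.sigmaCore M)) := by
  apply Nat.coprime_of_dvd
  intro p hp hd1 hd2
  exact Cfsg.Agent.Lib.Helper23.BGY.not_mem_sigma_of_dvd_compl hG hM hE hp hd1
    (Cfsg.Agent.Lib.Helper2.BGCor.primes_card_sigmaCore M p hp hd2)

/-- a nontrivial `t`-group contains an element of order `t`. -/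
theorem exists_orderOf_eq_of_isPGroup {t : ℕ} [Fact t.Prime] {Y : Subgroup G} (hYp : IsPGroup t Y)
    (hY1 : Y ≠ ⊥) : ∃ y ∈ Y, orderOf y = t := by
  obtain ⟨n, hn⟩ := IsPGroup.iff_card.mp hYp
  have hn0 : n ≠ 0 := by
    rintro rfl
    rw [pow_zero] at hn
    exact hY1 (Subgroup.card_eq_one.mp hn)
  have hd : t ∣ Nat.card ↥Y := hn ▸ dvd_pow_self t hn0
  obtain ⟨y, hy⟩ := exists_prime_orderOf_dvd_card' t hd
  exact ⟨(y : G), y.2, by rw [Subgroup.orderOf_coe]; exact hy⟩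

/-- In a cyclic subgroup `C`, an element `x` of prime order `t` lies in every nontrivial `t`-subgroup. -/
theorem mem_of_isCyclic_of_orderOf_prime {t : ℕ} [Fact t.Prime] {C Y : Subgroup G}
    (hC : IsCyclic ↥C) (hYC : Y ≤ C) (hYp : IsPGroup t Y) (hY1 : Y ≠ ⊥) {x : G} (hxC : x ∈ C)
    (hx : orderOf x = t) : x ∈ Y := by
  obtain ⟨y, hyY, hyt⟩ := exists_orderOf_eq_of_isPGroup hYp hY1
  have h1 : Subgroup.zpowers x = Subgroup.zpowers y :=
    Cfsg.Agent.Lib.Helper9.eq_of_card_eq_of_le_isCyclic C _ _ (Subgroup.zpowers_le.mpr hxC)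
      (Subgroup.zpowers_le.mpr (hYC hyY)) (by rw [Nat.card_zpowers, Nat.card_zpowers, hx, hyt])
  have h2 : x ∈ Subgroup.zpowers y := h1 ▸ Subgroup.mem_zpowers x
  exact (Subgroup.zpowers_le.mpr hyY) h2

/-- a subgroup of prime order is generated by each of its non-identity elements. -/
theorem eq_zpowers_of_card_prime {p : ℕ} (hp : p.Prime) {X : Subgroup G} (hX : Nat.card X = p)
    {u : G} (hu : u ∈ X) (hu1 : u ≠ 1) : X = Subgroup.zpowers u := by
  symm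
  apply Subgroup.eq_of_le_of_card_ge (Subgroup.zpowers_le.mpr hu)
  rw [hX, Nat.card_zpowers]
  have hd : orderOf u ∣ p := by
    have := orderOf_dvd_natCard (⟨u, hu⟩ : ↥X)
    rw [hX, Subgroup.orderOf_mk] at this
    exact this
  rcases (Nat.dvd_prime hp).mp hd with h1 | h1
  · exact absurd (orderOf_eq_one_iff.mp h1) hu1
  · exact h1.ge

/-- if `e` commutes with a non-identity element of the subgroup `X` of prime order, it
centralizes `X`. -/
theorem comm_of_comm_one {p : ℕ} (hp : p.Prime) {X : Subgroup G} (hX : Nat.card X = p)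
    {e u : G} (hu : u ∈ X) (hu1 : u ≠ 1) (heu : e * u = u * e) : ∀ a ∈ X, e * a = a * e := by
  intro a ha
  rw [eq_zpowers_of_card_prime hp hX hu hu1] at ha
  obtain ⟨j, rfl⟩ := Subgroup.mem_zpowers_iff.mp ha
  exact ((show Commute e u from heu).zpow_right j).eq

variable {M E E1 E3 : Subgroup G}

namespace CaseII

/-- a Sylow `r`-subgroup `R ≠ 1` of `E₁` acts in a prime manner on `M_σ` (S1427). -/
theorem cent_sylow_E1 (h : CaseII M E E1 E3) {r : ℕ} [Fact r.Prime] {R : Subgroup G}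
    (hR : Cfsg.Agent.Lib.Helper8.IsSylIn r R E1) (hR1 : R ≠ ⊥) {y : G} (hy : y ∈ R) (hy1 : y ≠ 1) :
    Cfsg.sigmaCore M ⊓ Subgroup.centralizer ({y} : Set G) =
      Cfsg.sigmaCore M ⊓ Subgroup.centralizer (R : Set G) := by
  have hrp : r.Prime := Fact.out
  have hrE1 : r ∣ Nat.card E1 := by
    obtain ⟨n, hn⟩ := IsPGroup.iff_card.mp hR.isPGroup
    have hn0 : n ≠ 0 := by
      rintro rfl
      rw [pow_zero] at hn
      exact hR1 (Subgroup.card_eq_one.mp hn)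
    exact (hn ▸ dvd_pow_self r hn0 : r ∣ Nat.card R).trans (Subgroup.card_dvd_of_le hR.1)
  have hrτ1 : r ∈ Cfsg.tau1 M := h.hE1.2.1 r hrp hrE1
  have hRE : Cfsg.Agent.Lib.Helper8.IsSylIn r R E :=
    Cfsg.Agent.Lib.Helper8.BGEx.isSylIn_of_not_dvd_relIndex hR h.hE1E (h.hE1.2.2 r hrp hrτ1)
  obtain ⟨S, hSdef⟩ : ∃ S : Sylow r ↥E, S = hRE.toSylow := ⟨_, rfl⟩
  have hmap : (S : Subgroup ↥E).map E.subtype = R := by rw [hSdef]; exact hRE.toSylow_map
  have hS1 : (S : Subgroup ↥E) ≠ ⊥ := by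
    intro h0
    apply hR1
    rw [← hmap, h0, Subgroup.map_bot]
  have hSc : IsCyclic ↥(S : Subgroup ↥E) := by
    haveI := h.E1_cyclic
    haveI : IsCyclic ↥R :=
      isCyclic_of_injective (Subgroup.inclusion hR.1) (Subgroup.inclusion_injective hR.1)
    have : IsCyclic ↥(R.subgroupOf E) :=
      isCyclic_of_surjective (Subgroup.subgroupOfEquivOfLe hRE.1).symm.toMonoidHom
        (Subgroup.subgroupOfEquivOfLe hRE.1).symm.surjective
    rw [hSdef]
    exact this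
  have h27 := Cfsg.Agent.S1427.result h.hG M h.hM E h.hE r S hS1 hSc
  rw [hmap] at h27
  exact h27 y hy hy1

/-- **(12.1) Lemma A.**  `X ≤ E₃` of prime order `p`, `H ⊇ N_G(X)` maximal, `x ∈ R ≤ E₁` with `R` an
`r`-group and `x ≠ 1` centralizing `X`.  If `r ∈ τ₁(H) ∪ τ₃(H)` then `R` centralizes `X`. -/
theorem lemmaA (h : CaseII M E E1 E3) {X H : Subgroup G} {p : ℕ} [Fact p.Prime] (hXE3 : X ≤ E3)
    (hXp : Nat.card X = p) (hH : IsCoatom H) (hNH : Subgroup.normalizer (X : Set G) ≤ H)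
    {r : ℕ} [Fact r.Prime] {R : Subgroup G} (hRE1 : R ≤ E1) (hRp : IsPGroup r R) {x : G}
    (hxR : x ∈ R) (hx1 : x ≠ 1) (hxX : ∀ a ∈ X, x * a = a * x)
    (hrH : r ∈ Cfsg.tau1 H ∨ r ∈ Cfsg.tau3 H) : ∀ y ∈ R, ∀ a ∈ X, y * a = a * y := by
  have hrp : r.Prime := Fact.out
  have hrσ : r ∉ Cfsg.sigma H := by rcases hrH with h1 | h1; exacts [h1.2.1, h1.2.1]
  have hr1 : Cfsg.PRankLE r 1 ↥H := by rcases hrH with h1 | h1; exacts [h1.2.2.2.2, h1.2.2.2]
  have hRH : R ≤ H := (hRE1.trans h.hE1E).trans (h.E_le_H hXE3 hNH)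
  have hcop : (Nat.card R).Coprime (Nat.card (Cfsg.sigmaCore H)) := by
    obtain ⟨n, hn⟩ := IsPGroup.iff_card.mp hRp
    rw [hn]
    apply Nat.Coprime.pow_left
    rw [Nat.Prime.coprime_iff_not_dvd hrp]
    intro hd
    exact hrσ (Cfsg.Agent.Lib.Helper2.BGCor.primes_card_sigmaCore H r hrp hd)
  obtain ⟨EH, hEH, hREH⟩ := exists_compl_ge h.hG hH hRH hcop
  obtain ⟨S, hS, hRS⟩ := Cfsg.Agent.Lib.Helper8.BGEx.exists_isSylIn_ge hRp hREH
  have hSH : S ≤ H := hS.1.trans hEH.1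
  have hScyc : IsCyclic ↥S := by
    apply Cfsg.Agent.Lib.Helper23.BGY.isCyclic_of_rank_one_nilpotent h.hG.1 hSH
      hS.isPGroup.isNilpotent
    intro q hq hd
    obtain ⟨j, hj⟩ := IsPGroup.iff_card.mp hS.isPGroup
    rw [hj] at hd
    rw [(Nat.prime_dvd_prime_iff_eq hq hrp).mp (hq.dvd_of_dvd_pow hd)]
    exact hr1
  obtain ⟨S', hS'def⟩ : ∃ S' : Sylow r ↥EH, S' = hS.toSylow := ⟨_, rfl⟩
  have hmap : (S' : Subgroup ↥EH).map EH.subtype = S := by rw [hS'def]; exact hS.toSylow_map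
  have hS1 : S ≠ ⊥ := fun h0 => hx1 (Subgroup.mem_bot.mp (h0 ▸ hRS hxR))
  have hS'1 : (S' : Subgroup ↥EH) ≠ ⊥ := by
    intro h0
    apply hS1
    rw [← hmap, h0, Subgroup.map_bot]
  have hS'c : IsCyclic ↥(S' : Subgroup ↥EH) := by
    haveI := hScyc
    have : IsCyclic ↥(S.subgroupOf EH) :=
      isCyclic_of_surjective (Subgroup.subgroupOfEquivOfLe hS.1).symm.toMonoidHom
        (Subgroup.subgroupOfEquivOfLe hS.1).symm.surjective
    rw [hS'def]
    exact this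
  have h27 := Cfsg.Agent.S1427.result h.hG H hH EH hEH r S' hS'1 hS'c
  rw [hmap] at h27
  have h1 := h27 x (hRS hxR) hx1
  have hXσ := h.X_le_sigmaCore_H hXE3 hXp hH hNH
  intro y hy a ha
  have ha' : a ∈ Cfsg.sigmaCore H ⊓ Subgroup.centralizer ({x} : Set G) := by
    refine Subgroup.mem_inf.mpr ⟨hXσ ha, ?_⟩
    rw [Subgroup.mem_centralizer_singleton_iff]
    exact (hxX a ha).symm
  rw [h1] at ha'
  exact Subgroup.mem_centralizer_iff.mp ha'.2 y (hRS hy)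

/-- `X ≤ E₃` of prime order does not centralize `M_σ`. -/
theorem X_not_centralizes (h : CaseII M E E1 E3) {X : Subgroup G} {p : ℕ} [Fact p.Prime]
    (hXE3 : X ≤ E3) (hXp : Nat.card X = p) :
    Cfsg.sigmaCore M ⊓ Subgroup.centralizer (E3 : Set G) ≠ Cfsg.sigmaCore M := by
  intro heq
  have hXM : X ≤ M := (hXE3.trans h.hE3E).trans h.hEM
  have hXtop : X ≠ ⊤ := fun hT => h.hM.1 (top_le_iff.mp (hT ▸ hXM))
  obtain ⟨H, hH, hNH⟩ := Cfsg.Agent.Lib.Helper17.BGU.exists_coatom_ge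
    (Cfsg.Agent.Lib.Helper8.BGEx.normalizer_ne_top h.hG (X_ne_bot hXp) hXtop)
  have h1 := h.sigmaCore_inf_H hXE3 hXp hH hNH
  rw [heq] at h1
  have hσH : Cfsg.sigmaCore M ≤ H := inf_eq_left.mp h1
  have hMH : M ≤ H := by
    intro m hm
    obtain ⟨a, ha, b, hb, rfl⟩ := h.hE.2.2.2 m hm
    exact H.mul_mem (h.E_le_H hXE3 hNH ha) (hσH hb)
  have hMH' : M = H := by
    rcases eq_or_lt_of_le hMH with h2 | h2
    · exact h2
    · exact absurd (h.hM.2 _ h2) hH.1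
  exact h.nonconj_H hXE3 hXp hH hNH 1 (by rw [map_conj_one]; exact hMH'.symm)

/-- the S1545 identity for `U = X ≤ E₃` of prime order and `R ≤ E₁` acting fixed-point-freely. -/
theorem frob_identity (h : CaseII M E E1 E3) {X : Subgroup G} {p : ℕ} [Fact p.Prime]
    (hXE3 : X ≤ E3) (hXp : Nat.card X = p) {R : Subgroup G} (hRE1 : R ≤ E1) (hR1 : R ≠ ⊥)
    (hfpf : ∀ e ∈ R, e ≠ 1 → ∀ u ∈ X, e * u = u * e → u = 1) :
    Nat.card ↥(Cfsg.sigmaCore M ⊓ Subgroup.centralizer ((X ⊔ R : Subgroup G) : Set G)) ^ Nat.card R *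
        Nat.card (Cfsg.sigmaCore M) =
      Nat.card ↥(Cfsg.sigmaCore M ⊓ Subgroup.centralizer (R : Set G)) ^ Nat.card R *
        Nat.card ↥(Cfsg.sigmaCore M ⊓ Subgroup.centralizer (E3 : Set G)) := by
  have hRE : R ≤ E := hRE1.trans h.hE1E
  have hXE : X ≤ E := hXE3.trans h.hE3E
  have hle : X ⊔ R ≤ E := sup_le hXE hRE
  have hMn : M ≤ Subgroup.normalizer (Cfsg.sigmaCore M : Set G) :=
    Cfsg.Agent.Lib.Helper8.BGEx.le_normalizer_sigmaCore M
  have hXR : X ⊓ R = ⊥ := by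
    rw [eq_bot_iff]
    calc X ⊓ R ≤ E3 ⊓ E1 := inf_le_inf hXE3 hRE1
      _ = ⊥ := h.E3_inf_E1
  have hcop : (Nat.card (Cfsg.sigmaCore M)).Coprime (Nat.card ↥(X ⊔ R)) :=
    (Nat.Coprime.coprime_dvd_left (Subgroup.card_dvd_of_le hle)
      (coprime_compl h.hG h.hM h.hE)).symm
  have hdisj : Cfsg.sigmaCore M ⊓ (X ⊔ R) = ⊥ := inf_eq_bot_of_coprime' hcop
  haveI : Group.IsSolvable ↥M := h.hG.2.2.2 M h.hM.1
  have hsolv : Group.IsSolvable ↥(Cfsg.sigmaCore M) :=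
    Group.isSolvable_of_isSolvable_injective
      (Subgroup.inclusion_injective (Cfsg.Agent.Lib.Helper8.BGEx.sigmaCore_le M))
  have key := Cfsg.Agent.S1545.result X R (Cfsg.sigmaCore M) (X_ne_bot hXp) hR1 hXR
    (fun e he u hu => (Subgroup.mem_normalizer_iff.mp (h.E_le_normalizer hXE3 (hRE he)) u).mp hu)
    hfpf
    (fun x hx y hy => (Subgroup.mem_normalizer_iff.mp (hMn (h.hEM (hle hx))) y).mp hy)
    hdisj hsolv hcop
  rw [h.cent_sub_E3 hXE3 (X_ne_bot hXp)] at key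
  exact key

/-- **(12.2)**: a faithful pair `(X, x)`: `X ≤ E₃` of prime order, `x ∈ E₁` of prime order `r` not
centralizing `X`.  Then the Sylow `r`-subgroup `R` of `E₁` has order `r` and `C_{M_σ}(x) ≰ T₃`. -/
theorem faithful_pair (h : CaseII M E E1 E3) {X : Subgroup G} {p : ℕ} [Fact p.Prime]
    (hXE3 : X ≤ E3) (hXp : Nat.card X = p) {r : ℕ} [Fact r.Prime] {x : G} (hxE1 : x ∈ E1)
    (hxr : orderOf x = r) (hxX : ∃ a ∈ X, x * a ≠ a * x) {R : Subgroup G}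
    (hR : Cfsg.Agent.Lib.Helper8.IsSylIn r R E1) :
    Nat.card R = r ∧
      ¬ Cfsg.sigmaCore M ⊓ Subgroup.centralizer ({x} : Set G) ≤
        Cfsg.sigmaCore M ⊓ Subgroup.centralizer (E3 : Set G) := by
  have hrp : r.Prime := Fact.out
  have hpp : p.Prime := Fact.out
  have hx1 : x ≠ 1 := by
    rintro rfl
    rw [orderOf_one] at hxr
    exact hrp.one_lt.ne hxr
  have hrE1 : r ∣ Nat.card E1 := by
    rw [← hxr, ← Nat.card_zpowers]
    exact Subgroup.card_dvd_of_le (Subgroup.zpowers_le.mpr hxE1)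
  have hR1 : R ≠ ⊥ := Cfsg.Agent.Lib.Helper8.BGEx.isSylIn_ne_bot hR hrE1
  have hxR : x ∈ R :=
    mem_of_isCyclic_of_orderOf_prime h.E1_cyclic hR.1 hR.isPGroup hR1 hxE1 hxr
  -- fixed-point-freeness
  have hfpf : ∀ Y : Subgroup G, Y ≤ R → ∀ e ∈ Y, e ≠ 1 → ∀ u ∈ X, e * u = u * e → u = 1 := by
    intro Y hYR e he he1 u hu heu
    by_contra hu1
    obtain ⟨a, ha, hne⟩ := hxX
    apply hne
    have hxe : x ∈ Subgroup.zpowers e :=
      mem_of_isCyclic_of_orderOf_prime h.E1_cyclic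
        (Subgroup.zpowers_le.mpr (hR.1 (hYR he))) (hR.isPGroup.to_le (Subgroup.zpowers_le.mpr (hYR he)))
        (by rw [Ne, Subgroup.zpowers_eq_bot]; exact he1) hxE1 hxr
    obtain ⟨i, rfl⟩ := Subgroup.mem_zpowers_iff.mp hxe
    have hc := comm_of_comm_one hpp hXp hu hu1 heu a ha
    exact ((show Commute e a from hc).zpow_left i).eq
  have hzx1 : Subgroup.zpowers x ≠ ⊥ := by rw [Ne, Subgroup.zpowers_eq_bot]; exact hx1
  have hzxR : Subgroup.zpowers x ≤ R := Subgroup.zpowers_le.mpr hxR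
  have key1 := h.frob_identity hXE3 hXp hR.1 hR1 (hfpf R le_rfl)
  have key2 := h.frob_identity hXE3 hXp (hzxR.trans hR.1) hzx1 (hfpf _ hzxR)
  -- prime action
  have hpa : Cfsg.sigmaCore M ⊓ Subgroup.centralizer ((Subgroup.zpowers x : Subgroup G) : Set G) =
      Cfsg.sigmaCore M ⊓ Subgroup.centralizer (R : Set G) := by
    rw [Cfg.centralizer_zpowers_k]
    exact h.cent_sylow_E1 hR hR1 hxR hx1
  have hpa2 : Cfsg.sigmaCore M ⊓ Subgroup.centralizer ((X ⊔ Subgroup.zpowers x : Subgroup G) : Set G) =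
      Cfsg.sigmaCore M ⊓ Subgroup.centralizer ((X ⊔ R : Subgroup G) : Set G) := by
    ext t
    simp only [Subgroup.mem_inf]
    constructor
    · rintro ⟨ht, htc⟩
      refine ⟨ht, ?_⟩
      have h1 : t ∈ Cfsg.sigmaCore M ⊓ Subgroup.centralizer (R : Set G) := by
        rw [← hpa]
        exact Subgroup.mem_inf.mpr ⟨ht, Subgroup.centralizer_le
          (le_sup_right : Subgroup.zpowers x ≤ X ⊔ Subgroup.zpowers x) htc⟩
      have h2 : X ⊔ R ≤ Subgroup.centralizer ({t} : Set G) := by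
        apply sup_le
        · intro a ha
          rw [Subgroup.mem_centralizer_singleton_iff]
          exact Subgroup.mem_centralizer_iff.mp htc a (le_sup_left (a := X) ha)
        · intro a ha
          rw [Subgroup.mem_centralizer_singleton_iff]
          exact Subgroup.mem_centralizer_iff.mp h1.2 a ha
      rw [Subgroup.mem_centralizer_iff]
      intro a ha
      have := h2 ha
      rw [Subgroup.mem_centralizer_singleton_iff] at this
      exact this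
    · rintro ⟨ht, htc⟩
      exact ⟨ht, Subgroup.centralizer_le
        (sup_le_sup_left hzxR X : X ⊔ Subgroup.zpowers x ≤ X ⊔ R) htc⟩
  rw [hpa, hpa2, Nat.card_zpowers, hxr] at key2
  -- arithmetic
  obtain ⟨a, hadef⟩ : ∃ a : ℕ, a = Nat.card ↥(Cfsg.sigmaCore M ⊓
      Subgroup.centralizer ((X ⊔ R : Subgroup G) : Set G)) := ⟨_, rfl⟩
  obtain ⟨b, hbdef⟩ : ∃ b : ℕ, b = Nat.card ↥(Cfsg.sigmaCore M ⊓
      Subgroup.centralizer (R : Set G)) := ⟨_, rfl⟩
  obtain ⟨c, hcdef⟩ : ∃ c : ℕ, c = Nat.card ↥(Cfsg.sigmaCore M ⊓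
      Subgroup.centralizer (E3 : Set G)) := ⟨_, rfl⟩
  obtain ⟨m, hmdef⟩ : ∃ m : ℕ, m = Nat.card (Cfsg.sigmaCore M) := ⟨_, rfl⟩
  obtain ⟨n, hndef⟩ : ∃ n : ℕ, n = Nat.card R := ⟨_, rfl⟩
  rw [← hadef, ← hbdef, ← hcdef, ← hmdef] at key1 key2
  rw [← hndef] at key1 ⊢
  have hapos : 0 < a := hadef ▸ Nat.card_pos
  have hcpos : 0 < c := hcdef ▸ Nat.card_pos
  have hab : a ∣ b := by
    rw [hadef, hbdef]
    apply Subgroup.card_dvd_of_le
    exact inf_le_inf_left _ (Subgroup.centralizer_le (le_sup_right : R ≤ X ⊔ R))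
  obtain ⟨q, rfl⟩ := hab
  have hqpos : 0 < q := by
    rcases Nat.eq_zero_or_pos q with h0 | h0
    · exfalso
      rw [h0, mul_zero] at hbdef
      exact Nat.card_pos.ne' hbdef.symm
    · exact h0
  -- `q ^ n * c = m` and `q ^ r * c = m`
  have e1 : q ^ n * c = m := by
    have : a ^ n * m = a ^ n * (q ^ n * c) := by rw [key1, mul_pow]; ring
    exact (Nat.eq_of_mul_eq_mul_left (pow_pos hapos n) this).symm
  have e2 : q ^ r * c = m := by
    have : a ^ r * m = a ^ r * (q ^ r * c) := by rw [key2, mul_pow]; ring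
    exact (Nat.eq_of_mul_eq_mul_left (pow_pos hapos r) this).symm
  have hq1 : q ≠ 1 := by
    rintro rfl
    rw [one_pow, one_mul] at e1
    -- `|T₃| = |M_σ|`
    apply h.X_not_centralizes hXE3 hXp
    apply Subgroup.eq_of_le_of_card_ge inf_le_left
    rw [← hcdef, ← hmdef, e1]
  have hq2 : 2 ≤ q := by omega
  constructor
  · have : q ^ n = q ^ r := by
      have : q ^ n * c = q ^ r * c := by rw [e1, e2]
      exact Nat.eq_of_mul_eq_mul_right hcpos this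
    exact Nat.pow_right_injective hq2 this
  · intro hle
    apply hq1
    -- `C_{M_σ}(R) ≤ T₃ = C_{M_σ}(X)` gives `a = b`
    have h1 : Cfsg.sigmaCore M ⊓ Subgroup.centralizer (R : Set G) ≤
        Cfsg.sigmaCore M ⊓ Subgroup.centralizer ((X ⊔ R : Subgroup G) : Set G) := by
      intro t ht
      have ht3 : t ∈ Cfsg.sigmaCore M ⊓ Subgroup.centralizer (E3 : Set G) := by
        apply hle
        rw [h.cent_sylow_E1 hR hR1 hxR hx1]
        exact ht
      refine Subgroup.mem_inf.mpr ⟨ht.1, ?_⟩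
      have h2 : X ⊔ R ≤ Subgroup.centralizer ({t} : Set G) := by
        apply sup_le
        · intro u hu
          rw [Subgroup.mem_centralizer_singleton_iff]
          exact Subgroup.mem_centralizer_iff.mp ht3.2 u (hXE3 hu)
        · intro u hu
          rw [Subgroup.mem_centralizer_singleton_iff]
          exact Subgroup.mem_centralizer_iff.mp ht.2 u hu
      rw [Subgroup.mem_centralizer_iff]
      intro u hu
      have := h2 hu
      rw [Subgroup.mem_centralizer_singleton_iff] at this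
      exact this
    have h2 : a * q ≤ a := by
      rw [hbdef, hadef]
      exact Subgroup.card_le_of_le h1
    have : a * q ≤ a * 1 := by rw [mul_one]; exact h2
    have := Nat.le_of_mul_le_mul_left this hapos
    omega

/-- **(11.1)**: `x ∈ E₁` of prime order centralizing `X ≤ E₃` (of prime order `p`), while `E₁` does
not centralize `X`.  Then `C_{M_σ}(x) ≤ T₃`. -/
theorem cent_x_le_T3 (h : CaseII M E E1 E3) {X : Subgroup G} {p : ℕ} [Fact p.Prime]
    (hXE3 : X ≤ E3) (hXp : Nat.card X = p) {r : ℕ} [Fact r.Prime] {x : G} (hxE1 : x ∈ E1)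
    (hxr : orderOf x = r) (hxX : ∀ a ∈ X, x * a = a * x)
    (hE1X : ∃ y ∈ E1, ∃ a ∈ X, y * a ≠ a * y) :
    Cfsg.sigmaCore M ⊓ Subgroup.centralizer ({x} : Set G) ≤
      Cfsg.sigmaCore M ⊓ Subgroup.centralizer (E3 : Set G) := by
  have hrp : r.Prime := Fact.out
  have hpp : p.Prime := Fact.out
  have hrE1 : r ∣ Nat.card E1 := by
    rw [← hxr, ← Nat.card_zpowers]
    exact Subgroup.card_dvd_of_le (Subgroup.zpowers_le.mpr hxE1)
  have hrτ1 : r ∈ Cfsg.tau1 M := h.hE1.2.1 r hrp hrE1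
  have hx1 : x ≠ 1 := by
    rintro rfl
    rw [orderOf_one] at hxr
    exact hrp.one_lt.ne hxr
  have hxM : x ∈ M := h.hEM (h.hE1E hxE1)
  have hzp : IsPGroup r (Subgroup.zpowers x) :=
    IsPGroup.of_card (n := 1) (by rw [Nat.card_zpowers, hxr, pow_one])
  have hz1 : Subgroup.zpowers x ≠ ⊥ := by rw [Ne, Subgroup.zpowers_eq_bot]; exact hx1
  have hztop : Subgroup.zpowers x ≠ ⊤ := fun hT =>
    h.hM.1 (top_le_iff.mp (hT ▸ Subgroup.zpowers_le.mpr hxM))
  obtain ⟨L, hL, hNL⟩ := Cfsg.Agent.Lib.Helper17.BGU.exists_coatom_ge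
    (Cfsg.Agent.Lib.Helper8.BGEx.normalizer_ne_top h.hG hz1 hztop)
  obtain ⟨hnc, -, -⟩ := Cfsg.Agent.Lib.Helper16.BGPrim.thm13_2_zero h.hG hL hrτ1.2.1
    hrτ1.2.2.2.2 hzp hz1 hNL
  have hc := Cfsg.Agent.Lib.Helper16.BGPrim.thm13_2_c h.hG (h17 h.hG) (h18 h.hG) (h23 h.hG)
    (h24 h.hG) h.hM hL hrτ1.2.1 hrτ1.2.2.2.2 hzp hz1 (Subgroup.zpowers_le.mpr hxM) hNL
  rw [Cfg.centralizer_zpowers_k] at hc
  have hCL : Subgroup.centralizer ({x} : Set G) ≤ L := by
    rw [← Cfg.centralizer_zpowers_k]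
    exact (Subgroup.centralizer_le_normalizer _).trans hNL
  have hXL : X ≤ L := by
    intro a ha
    apply hCL
    rw [Subgroup.mem_centralizer_singleton_iff]
    exact (hxX a ha).symm
  have hE1L : E1 ≤ L := by
    intro y hy
    apply hCL
    rw [Subgroup.mem_centralizer_singleton_iff]
    exact h.E1_comm y hy x hxE1
  -- `p ∣ |L'|`
  obtain ⟨y, hy, a, ha, hne⟩ := hE1X
  have hcX : ⁅y, a⁆ ∈ X := by
    rw [commutatorElement_def]
    have hyN := h.E_le_normalizer hXE3 (h.hE1E hy)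
    exact X.mul_mem ((Subgroup.mem_normalizer_iff.mp hyN a).mp ha) (X.inv_mem ha)
  have hc1 : ⁅y, a⁆ ≠ 1 := fun h1 => hne (commutatorElement_eq_one_iff_mul_comm.mp h1)
  have hcL : ⁅y, a⁆ ∈ ⁅L, L⁆ := Subgroup.commutator_mem_commutator (hE1L hy) (hXL ha)
  have hpL' : p ∣ Nat.card ↥⁅L, L⁆ := by
    have h1 : X = Subgroup.zpowers ⁅y, a⁆ := eq_zpowers_of_card_prime hpp hXp hcX hc1
    have h2 : X ≤ ⁅L, L⁆ := by rw [h1]; exact Subgroup.zpowers_le.mpr hcL
    rw [← hXp]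
    exact Subgroup.card_dvd_of_le h2
  have hpτ1L : p ∉ Cfsg.tau1 L := fun h1 => h1.2.2.2.1 hpL'
  have hτ := h.p_tau3 hXE3 hXp
  have h13 := Cfsg.Agent.Lib.Helper16.BGPrim.thm13_1a h.hG (h17 h.hG) (h18 h.hG) (h23 h.hG)
    (h24 h.hG) h.hM hL hnc hτ.2.1 (isPGroup_X hXp) ((hXE3.trans h.hE3E).trans h.hEM) hXL hpτ1L
  rw [← h.cent_sub_E3 hXE3 (X_ne_bot hXp), ← hc]
  intro t ht
  refine Subgroup.mem_inf.mpr ⟨ht.1, ?_⟩
  rw [Subgroup.mem_centralizer_iff]
  intro a ha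
  exact h13 t ht a ha

/-- **(12.3)**: a type-N pair: `x ∈ R ≤ E₁` (`R` an `r`-group, `x` of prime order `r`), `x` centralizes
`X ≤ E₃` (of prime order), `R` does not.  Then `C_{M_σ}(x) = T₃`. -/
theorem typeN_pair (h : CaseII M E E1 E3) {X : Subgroup G} {p : ℕ} [Fact p.Prime]
    (hXE3 : X ≤ E3) (hXp : Nat.card X = p) {r : ℕ} [Fact r.Prime] {R : Subgroup G}
    (hRE1 : R ≤ E1) (hRp : IsPGroup r R) {x : G} (hxR : x ∈ R)
    (hxr : orderOf x = r) (hxX : ∀ a ∈ X, x * a = a * x)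
    (hRX : ∃ y ∈ R, ∃ a ∈ X, y * a ≠ a * y) :
    Cfsg.sigmaCore M ⊓ Subgroup.centralizer ({x} : Set G) =
      Cfsg.sigmaCore M ⊓ Subgroup.centralizer (E3 : Set G) := by
  have hrp : r.Prime := Fact.out
  have hx1 : x ≠ 1 := by
    rintro rfl
    rw [orderOf_one] at hxr
    exact hrp.one_lt.ne hxr
  apply le_antisymm
  · obtain ⟨y, hy, a, ha, hne⟩ := hRX
    exact h.cent_x_le_T3 hXE3 hXp (hRE1 hxR) hxr hxX ⟨y, hRE1 hy, a, ha, hne⟩
  · have hXM : X ≤ M := (hXE3.trans h.hE3E).trans h.hEM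
    have hXtop : X ≠ ⊤ := fun hT => h.hM.1 (top_le_iff.mp (hT ▸ hXM))
    obtain ⟨H, hH, hNH⟩ := Cfsg.Agent.Lib.Helper17.BGU.exists_coatom_ge
      (Cfsg.Agent.Lib.Helper8.BGEx.normalizer_ne_top h.hG (X_ne_bot hXp) hXtop)
    have hrH : r ∉ Cfsg.tau1 H := by
      intro h1
      obtain ⟨y, hy, a, ha, hne⟩ := hRX
      exact hne (h.lemmaA hXE3 hXp hH hNH hRE1 hRp hxR hx1 hxX (Or.inl h1) y hy a ha)
    have hxE : x ∈ E := h.hE1E (hRE1 hxR)
    have hrE1 : r ∣ Nat.card E1 := by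
      rw [← hxr, ← Nat.card_zpowers]
      exact Subgroup.card_dvd_of_le (Subgroup.zpowers_le.mpr (hRE1 hxR))
    have hrτ1 : r ∈ Cfsg.tau1 M := h.hE1.2.1 r hrp hrE1
    have hzp : IsPGroup r (Subgroup.zpowers x) :=
      IsPGroup.of_card (n := 1) (by rw [Nat.card_zpowers, hxr, pow_one])
    have h13 := Cfsg.Agent.Lib.Helper16.BGPrim.thm13_1a h.hG (h17 h.hG) (h18 h.hG) (h23 h.hG)
      (h24 h.hG) h.hM hH (h.nonconj_H hXE3 hXp hH hNH) hrτ1.2.1 hzp
      (Subgroup.zpowers_le.mpr (h.hEM hxE)) (Subgroup.zpowers_le.mpr (h.E_le_H hXE3 hNH hxE)) hrH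
    rw [← h.sigmaCore_inf_H hXE3 hXp hH hNH]
    intro t ht
    refine Subgroup.mem_inf.mpr ⟨ht.1, ?_⟩
    rw [Subgroup.mem_centralizer_singleton_iff]
    exact (h13 t ht x (Subgroup.mem_zpowers x)).symm

end CaseII

end Cfsg.Agent.Lib.Helper17.BGC2
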