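/-
helper17: MAIN CLAIM (κ(M) ∩ τ₃(M) = ∅), formalization unit [B] (part 2) of notes/bg14/NOTES_h20.md
sec. 12: `E₁` does not centralize a subgroup of prime order of `E₃` (transfer), existence of a
nontrivial pair, (12.4) `τ₁(M) ⊆ κ(M)`, prime action of `E₁`, (12.5) trichotomy.
-/
import Mathlib
import Cfsg.Prelude.Def_OddOrderLocal
import Cfsg.Agent.Lib.Helper17.BGC2B
import Cfsg.Agent.Lib.Helper21.CaminaE

set_option autoImplicit false
set_option linter.unusedSectionVars false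
set_option linter.unusedVariables false
set_option linter.style.haveILetI false

namespace Cfsg.Agent.Lib.Helper17.BGC2

open Cfsg.Agent.Lib.Helper17
open Cfsg.Agent.Lib.Helper17.BGR2
open scoped commutatorElement

universe u

variable {G : Type u} [Group G]

open scoped IsMulCommutative in
/-- Transfer into an abelian subgroup `A` of `E`: an element `z ∈ A ∩ Z(E) ∩ E'` whose order is
coprime to `|E : A|` is trivial. -/
theorem eq_one_of_mem_commutator_of_central [Finite G] {E A : Subgroup G} (hAE : A ≤ E)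
    (hAc : ∀ a ∈ A, ∀ b ∈ A, a * b = b * a) {z : G} (hzA : z ∈ A)
    (hzc : ∀ e ∈ E, e * z = z * e) (hzE' : z ∈ ⁅E, E⁆)
    (hcop : (orderOf z).Coprime (A.relIndex E)) : z = 1 := by
  classical
  have hmemH : ∀ a : ↥(A.subgroupOf E), ((a : ↥E) : G) ∈ A := fun a =>
    Subgroup.mem_subgroupOf.mp a.2
  haveI : IsMulCommutative ↥(A.subgroupOf E) := ⟨⟨fun a b => by
    apply Subtype.ext; apply Subtype.ext
    exact hAc _ (hmemH a) _ (hmemH b)⟩⟩
  obtain ⟨z', hz'⟩ : ∃ z' : ↥E, (z' : G) = z := ⟨⟨z, hAE hzA⟩, rfl⟩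
  have hz'comm : z' ∈ commutator ↥E := by
    have h1 : z ∈ (commutator ↥E).map E.subtype := by rw [map_commutator_subtype]; exact hzE'
    obtain ⟨w, hw, hwz⟩ := h1
    have h2 : w = z' := Subtype.ext (by rw [hz']; exact hwz)
    rwa [← h2]
  have hker : z' ∈ (MonoidHom.transfer (MonoidHom.id ↥(A.subgroupOf E))).ker :=
    Abelianization.commutator_subset_ker _ hz'comm
  have key : ∀ (k : ℕ) (g₀ : ↥E), g₀⁻¹ * z' ^ k * g₀ ∈ A.subgroupOf E → g₀⁻¹ * z' ^ k * g₀ = z' ^ k := by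
    intro k g₀ _
    have h1 : g₀ * z' = z' * g₀ := Subtype.ext (by
      rw [Subgroup.coe_mul, Subgroup.coe_mul, hz']; exact hzc g₀ g₀.2)
    have h2 : Commute g₀ z' := h1
    have h3 := (h2.pow_right k).eq
    rw [mul_assoc, ← h3, inv_mul_cancel_left]
  have h1 := MonoidHom.transfer_eq_pow (MonoidHom.id ↥(A.subgroupOf E)) z' key
  rw [MonoidHom.mem_ker] at hker
  rw [hker] at h1
  have h2 : z' ^ (A.subgroupOf E).index = 1 := by
    have := congrArg (fun t : ↥(A.subgroupOf E) => (t : ↥E)) h1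
    simpa using this.symm
  have h3 : z ^ (A.relIndex E) = 1 := by
    have := congrArg Subtype.val h2
    simpa [Subgroup.relIndex, hz'] using this
  have h4 : orderOf z ∣ A.relIndex E := orderOf_dvd_of_pow_eq_one h3
  exact orderOf_eq_one_iff.mp (Nat.Coprime.eq_one_of_dvd hcop h4)


namespace CaseII

variable [Finite G] {M E E1 E3 : Subgroup G}

/-- **(B6)** `E₁` does not centralize a subgroup `X` of prime order of `E₃` (since `E₃ ≤ E'`). -/
theorem E1_not_centralizes (h : CaseII M E E1 E3) {X : Subgroup G} {p : ℕ} [Fact p.Prime]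
    (hXE3 : X ≤ E3) (hXp : Nat.card X = p) : ∃ y ∈ E1, ∃ a ∈ X, y * a ≠ a * y := by
  by_contra hcon
  push Not at hcon
  have hp : p.Prime := Fact.out
  obtain ⟨u, hu, hu1⟩ : ∃ u ∈ X, u ≠ 1 := by
    by_contra hno
    push Not at hno
    exact X_ne_bot hXp ((Subgroup.eq_bot_iff_forall X).mpr hno)
  have huo : orderOf u = p := by
    have h1 : orderOf u ∣ p := by
      rw [← hXp]
      have := orderOf_dvd_natCard (⟨u, hu⟩ : ↥X)
      rwa [Subgroup.orderOf_mk] at this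
    rcases (Nat.dvd_prime hp).mp h1 with h2 | h2
    · exact absurd (orderOf_eq_one_iff.mp h2) hu1
    · exact h2
  apply hu1
  refine eq_one_of_mem_commutator_of_central h.hE3E h.E3_comm (hXE3 hu) ?_
    (h.E3_le_commutator (hXE3 hu)) ?_
  · intro e he
    obtain ⟨a, ha, b, hb, rfl⟩ := h.mem_E he
    have h1 : a * u = u * a := h.E3_comm a ha u (hXE3 hu)
    have h2 : b * u = u * b := hcon b hb u hu
    rw [mul_assoc, h2, ← mul_assoc, h1, mul_assoc]
  · rw [huo]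
    exact (Nat.Prime.coprime_iff_not_dvd hp).mpr (h.hE3.2.2 p hp (h.p_tau3 hXE3 hXp))

/-- **(B7)** existence of a nontrivial pair: some Sylow subgroup `R` of `E₁` does not
centralize `X`. -/
theorem exists_nontrivial_pair (h : CaseII M E E1 E3) {X : Subgroup G} {p : ℕ} [Fact p.Prime]
    (hXE3 : X ≤ E3) (hXp : Nat.card X = p) :
    ∃ (r : ℕ) (R : Subgroup G), r.Prime ∧ Cfsg.Agent.Lib.Helper8.IsSylIn r R E1 ∧
      ∃ y ∈ R, ∃ a ∈ X, y * a ≠ a * y := by
  by_contra hcon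
  push Not at hcon
  obtain ⟨y, hy, a, ha, hya⟩ := h.E1_not_centralizes hXE3 hXp
  have hle : E1 ≤ Subgroup.centralizer (X : Set G) := by
    apply Cfsg.Agent.Lib.Helper21.Camina.le_of_sylows
    intro t ht
    obtain ⟨T⟩ : Nonempty (Sylow t ↥E1) := inferInstance
    refine ⟨T, ?_⟩
    intro z hz
    rw [Subgroup.mem_centralizer_iff]
    intro b hb
    exact (hcon t _ ht.out (Cfsg.Agent.Lib.Helper8.sylow_map_subtype_isSylIn T) z hz b hb).symm
  have := (Subgroup.mem_centralizer_iff.mp (hle hy)) a ha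
  exact hya this.symm

/-- elements of `E₁` of prime order have their order in `τ₁(M)`. -/
theorem orderOf_mem_tau1 (h : CaseII M E E1 E3) {x : G} (hx : x ∈ E1)
    (hxo : (orderOf x).Prime) : orderOf x ∈ Cfsg.tau1 M := by
  apply h.hE1.2.1 _ hxo
  have := orderOf_dvd_natCard (⟨x, hx⟩ : ↥E1)
  rwa [Subgroup.orderOf_mk] at this

/-- a prime-order element of `E₁` with a nontrivial fixed point on `M_σ` has order in `κ(M)`. -/
theorem mem_kappa_of_fixed (h : CaseII M E E1 E3) {x : G} (hx : x ∈ E1)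
    (hxo : (orderOf x).Prime)
    (hne : Cfsg.sigmaCore M ⊓ Subgroup.centralizer ({x} : Set G) ≠ ⊥) :
    orderOf x ∈ Cfsg.kappa M := by
  have hτ := h.orderOf_mem_tau1 hx hxo
  obtain ⟨u, hu, hu1⟩ : ∃ u ∈ Cfsg.sigmaCore M ⊓ Subgroup.centralizer ({x} : Set G), u ≠ 1 := by
    by_contra hno
    push Not at hno
    exact hne ((Subgroup.eq_bot_iff_forall _).mpr hno)
  have hu' := Subgroup.mem_inf.mp hu
  exact Cfsg.Agent.Lib.Helper24.BGReg.mem_kappa_of_fixed h.hG hxo hτ.2.1 hτ.2.2.2.2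
    (h.hEM (h.hE1E hx)) rfl hu'.1 hu1
    ((Subgroup.mem_centralizer_singleton_iff.mp hu'.2).symm)

/-- **(12.2)+(12.3)**: some prime of `τ₁(M)` lies in `κ(M)`. -/
theorem exists_tau1_kappa (h : CaseII M E E1 E3) :
    ∃ x ∈ E1, (orderOf x).Prime ∧ orderOf x ∈ Cfsg.kappa M := by
  obtain ⟨k, hk, hkp, hkτ⟩ := h.exists_prime_order_E3
  haveI : Fact (orderOf k).Prime := ⟨hkp⟩
  have hXE3 : Subgroup.zpowers k ≤ E3 := Subgroup.zpowers_le.mpr hk
  have hXp : Nat.card (Subgroup.zpowers k) = orderOf k := Nat.card_zpowers k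
  obtain ⟨r, R, hr, hR, y, hy, a, ha, hya⟩ := h.exists_nontrivial_pair hXE3 hXp
  haveI : Fact r.Prime := ⟨hr⟩
  have hR1 : R ≠ ⊥ := by
    rintro rfl
    rw [Subgroup.mem_bot] at hy
    rw [hy, one_mul, mul_one] at hya
    exact hya rfl
  obtain ⟨x, hxR, hxr⟩ := exists_orderOf_eq_of_isPGroup hR.isPGroup hR1
  have hxo : (orderOf x).Prime := hxr ▸ hr
  refine ⟨x, hR.1 hxR, hxo, ?_⟩
  apply h.mem_kappa_of_fixed (hR.1 hxR) hxo
  by_cases hxX : ∀ b ∈ Subgroup.zpowers k, x * b = b * x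
  · rw [h.typeN_pair hXE3 hXp hR.1 hR.isPGroup hxR hxr hxX ⟨y, hy, a, ha, hya⟩]
    exact h.hT3
  · push Not at hxX
    intro h0
    apply (h.faithful_pair hXE3 hXp (hR.1 hxR) hxr hxX hR).2
    rw [h0]
    exact bot_le

/-- **(12.4)**: in Case II, `τ₁(M) ⊆ κ(M)`. -/
theorem tau1_subset_kappa (h : CaseII M E E1 E3) {r : ℕ} (hr : r ∈ Cfsg.tau1 M) :
    r ∈ Cfsg.kappa M := by
  obtain ⟨x, hx, hxo, hxκ⟩ := h.exists_tau1_kappa
  exact Cfsg.Agent.Lib.Helper2.BGCor.tau1_subset_kappa h.hG h.hM (h28G h.h28 M h.hM) h.hE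
    (h.hE1E hx) rfl hxκ (h.orderOf_mem_tau1 hx hxo) hr

/-- **(B9a)** prime-order elements of `E₁` have the same centralizer in `M_σ` (S1428). -/
theorem cent_prime_E1_le (h : CaseII M E E1 E3) {x y : G} (hx : x ∈ E1)
    (hxo : (orderOf x).Prime) (hy : y ∈ E1) (hyo : (orderOf y).Prime) :
    Cfsg.sigmaCore M ⊓ Subgroup.centralizer ({x} : Set G) ≤
      Cfsg.sigmaCore M ⊓ Subgroup.centralizer ({y} : Set G) := by
  have hxy : x * y = y * x := h.E1_comm x hx y hy
  have h1 := h.h28 M h.hM E h.hE (orderOf x) (h.orderOf_mem_tau1 hx hxo) (Subgroup.zpowers x)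
    (Subgroup.zpowers_le.mpr (h.hE1E hx)) (Nat.card_zpowers x) (Subgroup.zpowers y)
    (le_inf (Subgroup.zpowers_le.mpr (h.hE1E hy)) (zpowers_le_centralizer_zpowers hxy.symm))
    (by rw [Nat.card_zpowers]; exact hyo)
  rw [Cfg.centralizer_zpowers_k, Cfg.centralizer_zpowers_k] at h1
  exact h1

theorem cent_prime_E1_eq (h : CaseII M E E1 E3) {x y : G} (hx : x ∈ E1)
    (hxo : (orderOf x).Prime) (hy : y ∈ E1) (hyo : (orderOf y).Prime) :
    Cfsg.sigmaCore M ⊓ Subgroup.centralizer ({x} : Set G) =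
      Cfsg.sigmaCore M ⊓ Subgroup.centralizer ({y} : Set G) :=
  le_antisymm (h.cent_prime_E1_le hx hxo hy hyo) (h.cent_prime_E1_le hy hyo hx hxo)

/-- **(B9)** `E₁` acts in a prime manner on `M_σ`: `C_{M_σ}(y) = C_{M_σ}(E₁)` for `y ∈ E₁^#`. -/
theorem cent_E1 (h : CaseII M E E1 E3) {y : G} (hy : y ∈ E1) (hy1 : y ≠ 1) :
    Cfsg.sigmaCore M ⊓ Subgroup.centralizer ({y} : Set G) =
      Cfsg.sigmaCore M ⊓ Subgroup.centralizer (E1 : Set G) := by
  apply le_antisymm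
  · intro u hu
    have hu' := Subgroup.mem_inf.mp hu
    refine Subgroup.mem_inf.mpr ⟨hu'.1, ?_⟩
    -- a power `y'` of `y` of prime order
    have ho1 : orderOf y ≠ 1 := fun h0 => hy1 (orderOf_eq_one_iff.mp h0)
    obtain ⟨r, hr, hrd⟩ := Nat.exists_prime_and_dvd ho1
    have ho0 : orderOf y ≠ 0 := (orderOf_pos y).ne'
    obtain ⟨y', hy'def⟩ : ∃ y' : G, y' = y ^ (orderOf y / r) := ⟨_, rfl⟩
    have hy'o : orderOf y' = r := by
      rw [hy'def]; exact orderOf_pow_orderOf_div ho0 hrd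
    have hy'E1 : y' ∈ E1 := by rw [hy'def]; exact E1.pow_mem hy _
    have huy : u * y = y * u := (Subgroup.mem_centralizer_singleton_iff.mp hu'.2)
    have huy' : u * y' = y' * u := by
      rw [hy'def]
      exact ((show Commute u y from huy).pow_right _).eq
    have hu2 : u ∈ Cfsg.sigmaCore M ⊓ Subgroup.centralizer ({y'} : Set G) :=
      Subgroup.mem_inf.mpr ⟨hu'.1, Subgroup.mem_centralizer_singleton_iff.mpr huy'⟩
    -- `u` centralizes every Sylow subgroup of `E₁`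
    have hle : E1 ≤ Subgroup.centralizer ({u} : Set G) := by
      apply Cfsg.Agent.Lib.Helper21.Camina.le_of_sylows
      intro t ht
      obtain ⟨T⟩ : Nonempty (Sylow t ↥E1) := inferInstance
      refine ⟨T, ?_⟩
      have hT := Cfsg.Agent.Lib.Helper8.sylow_map_subtype_isSylIn T
      by_cases hT1 : (T : Subgroup ↥E1).map E1.subtype = ⊥
      · rw [hT1]; exact bot_le
      · obtain ⟨z, hz, hzo⟩ := exists_orderOf_eq_of_isPGroup hT.isPGroup hT1
        have hu3 : u ∈ Cfsg.sigmaCore M ⊓ Subgroup.centralizer ({z} : Set G) := by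
          rw [← h.cent_prime_E1_eq hy'E1 (hy'o ▸ hr) (hT.1 hz) (hzo ▸ ht.out)]
          exact hu2
        have hz1 : z ≠ 1 := by
          rintro rfl
          rw [orderOf_one] at hzo
          exact ht.out.one_lt.ne hzo
        rw [h.cent_sylow_E1 hT hT1 hz hz1] at hu3
        have hu4 := (Subgroup.mem_inf.mp hu3).2
        intro w hw
        rw [Subgroup.mem_centralizer_singleton_iff]
        exact (Subgroup.mem_centralizer_iff.mp hu4) w hw
    rw [Subgroup.mem_centralizer_iff]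
    intro w hw
    exact (Subgroup.mem_centralizer_singleton_iff.mp (hle hw))
  · exact inf_le_inf_left _ (Subgroup.centralizer_le (Set.singleton_subset_iff.mpr hy))

/-- **(12.5a)** a type-N pair forces `T₁ = T₃`. -/
theorem T1_eq_T3_of_typeN (h : CaseII M E E1 E3) {X : Subgroup G} {p : ℕ} [Fact p.Prime]
    (hXE3 : X ≤ E3) (hXp : Nat.card X = p) {r : ℕ} [Fact r.Prime] {R : Subgroup G}
    (hRE1 : R ≤ E1) (hRp : IsPGroup r R) {x : G} (hxR : x ∈ R)
    (hxr : orderOf x = r) (hxX : ∀ a ∈ X, x * a = a * x)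
    (hRX : ∃ y ∈ R, ∃ a ∈ X, y * a ≠ a * y) :
    Cfsg.sigmaCore M ⊓ Subgroup.centralizer (E1 : Set G) =
      Cfsg.sigmaCore M ⊓ Subgroup.centralizer (E3 : Set G) := by
  have hx1 : x ≠ 1 := by
    rintro rfl
    rw [orderOf_one] at hxr
    exact (Fact.out : r.Prime).one_lt.ne hxr
  rw [← h.cent_E1 (hRE1 hxR) hx1]
  exact h.typeN_pair hXE3 hXp hRE1 hRp hxR hxr hxX hRX

/-- **(12.5b)** a faithful pair forces `T₁ ⊄ T₃`. -/
theorem not_T1_le_T3_of_faithful (h : CaseII M E E1 E3) {X : Subgroup G} {p : ℕ}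
    [Fact p.Prime] (hXE3 : X ≤ E3) (hXp : Nat.card X = p) {x : G} (hxE1 : x ∈ E1)
    (hxo : (orderOf x).Prime) (hxX : ∃ a ∈ X, x * a ≠ a * x) :
    ¬ Cfsg.sigmaCore M ⊓ Subgroup.centralizer (E1 : Set G) ≤
      Cfsg.sigmaCore M ⊓ Subgroup.centralizer (E3 : Set G) := by
  haveI : Fact (orderOf x).Prime := ⟨hxo⟩
  have hx1 : x ≠ 1 := by
    rintro rfl
    rw [orderOf_one] at hxo
    exact Nat.not_prime_one hxo
  obtain ⟨T⟩ : Nonempty (Sylow (orderOf x) ↥E1) := inferInstance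
  have hT := Cfsg.Agent.Lib.Helper8.sylow_map_subtype_isSylIn T
  rw [← h.cent_E1 hxE1 hx1]
  exact (h.faithful_pair hXE3 hXp hxE1 rfl hxX hT).2

/-- **(12.5)** a type-N pair and a faithful pair cannot coexist. -/
theorem typeN_faithful_false (h : CaseII M E E1 E3) {X : Subgroup G} {p : ℕ} [Fact p.Prime]
    (hXE3 : X ≤ E3) (hXp : Nat.card X = p) {r : ℕ} [Fact r.Prime] {R : Subgroup G}
    (hRE1 : R ≤ E1) (hRp : IsPGroup r R) {x : G} (hxR : x ∈ R)
    (hxr : orderOf x = r) (hxX : ∀ a ∈ X, x * a = a * x)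
    (hRX : ∃ y ∈ R, ∃ a ∈ X, y * a ≠ a * y)
    {X' : Subgroup G} {p' : ℕ} [Fact p'.Prime] (hX'E3 : X' ≤ E3) (hX'p : Nat.card X' = p')
    {x' : G} (hx'E1 : x' ∈ E1) (hx'o : (orderOf x').Prime)
    (hx'X : ∃ a ∈ X', x' * a ≠ a * x') : False :=
  h.not_T1_le_T3_of_faithful hX'E3 hX'p hx'E1 hx'o hx'X
    (h.T1_eq_T3_of_typeN hXE3 hXp hRE1 hRp hxR hxr hxX hRX).le

end CaseII

end Cfsg.Agent.Lib.Helper17.BGC2
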