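/-
helper17: MAIN CLAIM (κ(M) ∩ τ₃(M) = ∅), formalization unit [B] (part 3) of notes/bg14/NOTES_h20.md
sec. 12: the dichotomy type (P) / type (F) of (12.5), and the consequences of type (P):
prime action of `E` on `M_σ`, prime-order elements of `E₁` are central in `E`.
-/
import Mathlib
import Cfsg.Prelude.Def_OddOrderLocal
import Cfsg.Agent.Lib.Helper17.BGC2C
import Cfsg.Agent.S1443

set_option autoImplicit false
set_option linter.unusedSectionVars false
set_option linter.unusedVariables false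
set_option linter.style.haveILetI false

namespace Cfsg.Agent.Lib.Helper17.BGC2

open Cfsg.Agent.Lib.Helper17
open Cfsg.Agent.Lib.Helper17.BGR2
open Cfsg.Agent.Lib.Helper8 (mem_map_conj conj_mem_map_conj)
open scoped commutatorElement

universe u

variable {G : Type u} [Group G]

namespace CaseII

variable [Finite G] {M E E1 E3 : Subgroup G}

/-- `E` normalizes `T₃ = C_{M_σ}(E₃)`. -/
theorem conj_mem_T3 (h : CaseII M E E1 E3) {m : G} (hm : m ∈ E) {v : G}
    (hv : v ∈ Cfsg.sigmaCore M ⊓ Subgroup.centralizer (E3 : Set G)) :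
    m * v * m⁻¹ ∈ Cfsg.sigmaCore M ⊓ Subgroup.centralizer (E3 : Set G) := by
  have hv' := Subgroup.mem_inf.mp hv
  refine Subgroup.mem_inf.mpr
    ⟨Cfsg.Agent.Lib.Helper2.BGCor.conj_mem_sigmaCore (h.hEM hm) hv'.1, ?_⟩
  rw [Subgroup.mem_centralizer_iff]
  intro a ha
  -- `m⁻¹ a m ∈ E₃`
  have hn := h.E_le_normE3 (E.inv_mem hm)
  have ha' : m⁻¹ * a * m⁻¹⁻¹ ∈ E3 := (Subgroup.mem_normalizer_iff.mp hn a).mp ha
  rw [inv_inv] at ha'
  have hc := (Subgroup.mem_centralizer_iff.mp hv'.2) _ ha'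
  -- hc : m⁻¹ * a * m * v = v * (m⁻¹ * a * m)
  calc a * (m * v * m⁻¹) = m * ((m⁻¹ * a * m) * v) * m⁻¹ := by group
    _ = m * (v * (m⁻¹ * a * m)) * m⁻¹ := by rw [hc]
    _ = m * v * m⁻¹ * a := by group

/-- elements of `E` of order in `τ₃(M)` lie in `E₃`. -/
theorem mem_E3_of_tau3 (h : CaseII M E E1 E3) {e : G} (he : e ∈ E)
    (ht : orderOf e ∈ Cfsg.tau3 M) : e ∈ E3 := by
  have hle : Subgroup.zpowers e ≤ E3 := by
    apply le_of_coprime_relIndex h.hE3E h.E_le_normE3 (Subgroup.zpowers_le.mpr he)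
    rw [Nat.card_zpowers]
    exact (Nat.Prime.coprime_iff_not_dvd ht.1).mpr (h.hE3.2.2 _ ht.1 ht)
  exact hle (Subgroup.mem_zpowers e)

/-- elements of `E` of prime order in `τ₁(M)` are conjugate in `E` to elements of `E₁`. -/
theorem exists_conj_mem_E1 (h : CaseII M E E1 E3) {e : G} (he : e ∈ E)
    (ht : orderOf e ∈ Cfsg.tau1 M) : ∃ m ∈ E, ∃ w ∈ E1, e = m * w * m⁻¹ := by
  have htp : (orderOf e).Prime := ht.1
  haveI : Fact (orderOf e).Prime := ⟨htp⟩
  have hU : IsPGroup (orderOf e) (Subgroup.zpowers e) :=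
    IsPGroup.of_card (n := 1) (by rw [Nat.card_zpowers, pow_one])
  obtain ⟨S, hS, hUS⟩ := Cfsg.Agent.Lib.Helper8.BGEx.exists_isSylIn_ge hU
    (Subgroup.zpowers_le.mpr he)
  obtain ⟨T⟩ : Nonempty (Sylow (orderOf e) ↥E1) := inferInstance
  have hT := Cfsg.Agent.Lib.Helper8.sylow_map_subtype_isSylIn T
  have hTE : Cfsg.Agent.Lib.Helper8.IsSylIn (orderOf e) ((T : Subgroup ↥E1).map E1.subtype) E :=
    Cfsg.Agent.Lib.Helper8.BGEx.isSylIn_of_not_dvd_relIndex hT h.hE1E (h.hE1.2.2 _ htp ht)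
  obtain ⟨m, hm, hSm⟩ := Cfsg.Agent.Lib.Helper8.BGEx.isSylIn_exists_conj hTE hS
  have heS : e ∈ S := hUS (Subgroup.mem_zpowers e)
  rw [hSm, mem_map_conj] at heS
  refine ⟨m, hm, m⁻¹ * e * m, hT.1 heS, ?_⟩
  group

/-- `C_{M_σ}(E) = T₁ ∩ T₃`. -/
theorem cent_E_eq (h : CaseII M E E1 E3) :
    Cfsg.sigmaCore M ⊓ Subgroup.centralizer (E : Set G) =
      (Cfsg.sigmaCore M ⊓ Subgroup.centralizer (E1 : Set G)) ⊓
        (Cfsg.sigmaCore M ⊓ Subgroup.centralizer (E3 : Set G)) := by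
  apply le_antisymm
  · exact le_inf (inf_le_inf_left _ (Subgroup.centralizer_le h.hE1E))
      (inf_le_inf_left _ (Subgroup.centralizer_le h.hE3E))
  · intro u hu
    have hu1 := Subgroup.mem_inf.mp (Subgroup.mem_inf.mp hu).1
    have hu3 := Subgroup.mem_inf.mp (Subgroup.mem_inf.mp hu).2
    refine Subgroup.mem_inf.mpr ⟨hu1.1, ?_⟩
    rw [Subgroup.mem_centralizer_iff]
    intro e he
    obtain ⟨a, ha, b, hb, rfl⟩ := h.mem_E he
    have h1 : a * u = u * a := (Subgroup.mem_centralizer_iff.mp hu3.2) a ha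
    have h2 : b * u = u * b := (Subgroup.mem_centralizer_iff.mp hu1.2) b hb
    rw [mul_assoc, h2, ← mul_assoc, h1, mul_assoc]

/-- **Type (P), prime action**: if `T₁ = T₃` then `C_{M_σ}(e) = T₃` for every `e ∈ E^#`. -/
theorem cent_eq_T3_of_T1_eq_T3 (h : CaseII M E E1 E3)
    (hT : Cfsg.sigmaCore M ⊓ Subgroup.centralizer (E1 : Set G) =
      Cfsg.sigmaCore M ⊓ Subgroup.centralizer (E3 : Set G)) {e : G} (he : e ∈ E) (he1 : e ≠ 1) :
    Cfsg.sigmaCore M ⊓ Subgroup.centralizer ({e} : Set G) =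
      Cfsg.sigmaCore M ⊓ Subgroup.centralizer (E3 : Set G) := by
  have hCE : Cfsg.sigmaCore M ⊓ Subgroup.centralizer (E : Set G) =
      Cfsg.sigmaCore M ⊓ Subgroup.centralizer (E3 : Set G) := by
    rw [h.cent_E_eq, hT, inf_idem]
  apply le_antisymm
  · intro u hu
    have hu' := Subgroup.mem_inf.mp hu
    have ho1 : orderOf e ≠ 1 := fun h0 => he1 (orderOf_eq_one_iff.mp h0)
    obtain ⟨t, ht, htd⟩ := Nat.exists_prime_and_dvd ho1
    have ho0 : orderOf e ≠ 0 := (orderOf_pos e).ne'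
    obtain ⟨e', he'def⟩ : ∃ e' : G, e' = e ^ (orderOf e / t) := ⟨_, rfl⟩
    have he'o : orderOf e' = t := by
      rw [he'def]; exact orderOf_pow_orderOf_div ho0 htd
    have he'E : e' ∈ E := by rw [he'def]; exact E.pow_mem he _
    have he'1 : e' ≠ 1 := by
      intro h0
      rw [h0, orderOf_one] at he'o
      exact ht.one_lt.ne he'o
    have hue : u * e = e * u := (Subgroup.mem_centralizer_singleton_iff.mp hu'.2)
    have hue' : u * e' = e' * u := by
      rw [he'def]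
      exact ((show Commute u e from hue).pow_right _).eq
    have htE : t ∣ Nat.card E := by
      rw [← he'o]
      have := orderOf_dvd_natCard (⟨e', he'E⟩ : ↥E)
      rwa [Subgroup.orderOf_mk] at this
    rcases h.tau1_or_tau3 ht htE with h1 | h3
    · -- `e'` is conjugate to an element of `E₁`
      obtain ⟨m, hm, w, hw, hew⟩ := h.exists_conj_mem_E1 he'E (he'o ▸ h1)
      have hw1 : w ≠ 1 := by
        rintro rfl
        apply he'1
        rw [hew]; group
      -- `m⁻¹ u m` commutes with `w`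
      have hmu : m⁻¹ * u * m ∈ Cfsg.sigmaCore M := by
        have := Cfsg.Agent.Lib.Helper2.BGCor.conj_mem_sigmaCore (h.hEM (E.inv_mem hm)) hu'.1
        rwa [inv_inv] at this
      have hcomm : (m⁻¹ * u * m) * w = w * (m⁻¹ * u * m) := by
        have h5 : u * (m * w * m⁻¹) = (m * w * m⁻¹) * u := by rw [← hew]; exact hue'
        calc (m⁻¹ * u * m) * w = m⁻¹ * (u * (m * w * m⁻¹)) * m := by group
          _ = m⁻¹ * ((m * w * m⁻¹) * u) * m := by rw [h5]
          _ = w * (m⁻¹ * u * m) := by group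
      have h6 : m⁻¹ * u * m ∈ Cfsg.sigmaCore M ⊓ Subgroup.centralizer ({w} : Set G) :=
        Subgroup.mem_inf.mpr ⟨hmu, Subgroup.mem_centralizer_singleton_iff.mpr hcomm⟩
      rw [h.cent_E1 hw hw1, hT] at h6
      have h7 := h.conj_mem_T3 hm h6
      have h8 : m * (m⁻¹ * u * m) * m⁻¹ = u := by group
      rwa [h8] at h7
    · have he'E3 : e' ∈ E3 := h.mem_E3_of_tau3 he'E (he'o ▸ h3)
      rw [← h.cent_E3 he'E3 he'1]
      exact Subgroup.mem_inf.mpr ⟨hu'.1, Subgroup.mem_centralizer_singleton_iff.mpr hue'⟩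
  · rw [← hCE]
    exact inf_le_inf_left _ (Subgroup.centralizer_le (Set.singleton_subset_iff.mpr he))

/-- if `x ∈ E₁` centralizes all subgroups of prime order of `E₃` then it centralizes `E₃`
(S1443 on the cyclic Sylow subgroups of `E₃`). -/
theorem le_centralizer_of_forall_prime (h : CaseII M E E1 E3) {x : G} (hx : x ∈ E1)
    (hc : ∀ X : Subgroup G, X ≤ E3 → (Nat.card X).Prime → ∀ a ∈ X, x * a = a * x) :
    E3 ≤ Subgroup.centralizer ({x} : Set G) := by
  apply Cfsg.Agent.Lib.Helper21.Camina.le_of_sylows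
  intro t ht
  obtain ⟨T⟩ : Nonempty (Sylow t ↥E3) := inferInstance
  refine ⟨T, ?_⟩
  have hT := Cfsg.Agent.Lib.Helper8.sylow_map_subtype_isSylIn T
  obtain ⟨P, hPdef⟩ : ∃ P : Subgroup G, P = (T : Subgroup ↥E3).map E3.subtype := ⟨_, rfl⟩
  rw [← hPdef] at hT ⊢
  by_cases hP1 : P = ⊥
  · rw [hP1]; exact bot_le
  have htp : t.Prime := ht.out
  obtain ⟨u, huP, huo⟩ := exists_orderOf_eq_of_isPGroup hT.isPGroup hP1
  have hXE3 : Subgroup.zpowers u ≤ E3 := Subgroup.zpowers_le.mpr (hT.1 huP)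
  have hXc : Nat.card (Subgroup.zpowers u) = t := by rw [Nat.card_zpowers, huo]
  have hXp : IsPGroup t (Subgroup.zpowers u) := IsPGroup.of_card (n := 1) (by rw [hXc, pow_one])
  have hX1 : Subgroup.zpowers u ≠ ⊥ := by
    intro h0
    rw [h0, Subgroup.card_bot] at hXc
    exact htp.one_lt.ne hXc
  have hxX : ∀ a ∈ Subgroup.zpowers u, x * a = a * x := hc _ hXE3 (hXc ▸ htp)
  have ht2 : t ≠ 2 := by
    rintro rfl
    have h2 : 2 ∣ Nat.card G := by
      have h3 : 2 ∣ Nat.card (Subgroup.zpowers u) := by rw [hXc]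
      exact h3.trans (Subgroup.card_subgroup_dvd_card _)
    exact (Nat.not_even_iff_odd.mpr h.hG.1) (even_iff_two_dvd.mpr h2)
  have htτ : t ∈ Cfsg.tau3 M := h.hE3.2.1 t htp (hXc ▸ Subgroup.card_dvd_of_le hXE3)
  have hxo1 : ∀ q : ℕ, q.Prime → q ∣ Nat.card (Subgroup.zpowers x) → q ∈ Cfsg.tau1 M := by
    intro q hq hqd
    exact h.hE1.2.1 q hq (hqd.trans (Subgroup.card_dvd_of_le (Subgroup.zpowers_le.mpr hx)))
  have hcop : (Nat.card (Subgroup.zpowers x)).Coprime t := by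
    rw [Nat.coprime_comm]
    apply (Nat.Prime.coprime_iff_not_dvd htp).mpr
    intro hd
    exact not_tau1_and_tau3 (hxo1 t htp hd) htτ
  have hres := Cfsg.Agent.S1443.result t ht2 P (Subgroup.zpowers u) (Subgroup.zpowers x)
    hT.isPGroup (Subgroup.zpowers_le.mpr huP)
    ⟨inferInstance, fun a ha => by
      obtain ⟨k, rfl⟩ := Subgroup.mem_zpowers_iff.mp ha
      rw [← zpow_natCast, ← zpow_mul, mul_comm, zpow_mul, zpow_natCast, ← huo,
        pow_orderOf_eq_one, one_zpow]⟩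
    ((Subgroup.zpowers_le.mpr (h.hE1E hx)).trans (h.E_le_normalizer hT.1)) hcop
    (by
      intro w hw hwo
      have hw' := Subgroup.mem_inf.mp hw
      have hwX : w ∈ Subgroup.zpowers u :=
        mem_of_isCyclic_of_orderOf_prime h.E3_cyclic hXE3 hXp hX1 (hT.1 hw'.1) hwo
      rw [Subgroup.zpowers_le, Subgroup.mem_centralizer_singleton_iff]
      exact hxX w hwX)
  intro w hw
  rw [Subgroup.mem_centralizer_singleton_iff]
  exact (Subgroup.mem_centralizer_iff.mp (hres (Subgroup.mem_zpowers x))) w hw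

/-- **Type (P)**: if no faithful pair exists, every `x ∈ E₁` of prime order is central in `E`. -/
theorem central_of_no_faithful (h : CaseII M E E1 E3)
    (hnf : ∀ X : Subgroup G, X ≤ E3 → (Nat.card X).Prime → ∀ x ∈ E1, (orderOf x).Prime →
      ∀ a ∈ X, x * a = a * x) {x : G} (hx : x ∈ E1) (hxo : (orderOf x).Prime) :
    ∀ e ∈ E, x * e = e * x := by
  have h3 := h.le_centralizer_of_forall_prime hx (fun X hX hXp => hnf X hX hXp x hx hxo)
  intro e he
  obtain ⟨a, ha, b, hb, rfl⟩ := h.mem_E he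
  have h1 : a * x = x * a := Subgroup.mem_centralizer_singleton_iff.mp (h3 ha)
  have h2 : x * b = b * x := h.E1_comm x hx b hb
  rw [← mul_assoc, ← h1, mul_assoc, h2, mul_assoc]

/-- **(12.5) dichotomy**: type (P) (`T₁ = T₃` and no faithful pair) or type (F) (every Sylow
subgroup `R` of `E₁` not centralizing a subgroup `X` of prime order of `E₃` has prime order
and acts faithfully on `X`). -/
theorem typeP_or_typeF (h : CaseII M E E1 E3) :
    (Cfsg.sigmaCore M ⊓ Subgroup.centralizer (E1 : Set G) =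
        Cfsg.sigmaCore M ⊓ Subgroup.centralizer (E3 : Set G) ∧
      ∀ X : Subgroup G, X ≤ E3 → (Nat.card X).Prime → ∀ x ∈ E1, (orderOf x).Prime →
        ∀ a ∈ X, x * a = a * x) ∨
    (∀ X : Subgroup G, X ≤ E3 → (Nat.card X).Prime → ∀ (r : ℕ) (R : Subgroup G), r.Prime →
      Cfsg.Agent.Lib.Helper8.IsSylIn r R E1 → (∃ y ∈ R, ∃ a ∈ X, y * a ≠ a * y) →
        Nat.card R = r ∧ ∀ x ∈ R, x ≠ 1 → ∃ a ∈ X, x * a ≠ a * x) := by
  by_cases hN : ∃ (X : Subgroup G) (r : ℕ) (R : Subgroup G) (x : G), X ≤ E3 ∧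
      (Nat.card X).Prime ∧ r.Prime ∧ R ≤ E1 ∧ IsPGroup r R ∧ x ∈ R ∧ orderOf x = r ∧
      (∀ a ∈ X, x * a = a * x) ∧ ∃ y ∈ R, ∃ a ∈ X, y * a ≠ a * y
  · left
    obtain ⟨X, r, R, x, hXE3, hXp, hr, hRE1, hRp, hxR, hxr, hxX, hRX⟩ := hN
    haveI : Fact (Nat.card X).Prime := ⟨hXp⟩
    haveI : Fact r.Prime := ⟨hr⟩
    refine ⟨h.T1_eq_T3_of_typeN hXE3 rfl hRE1 hRp hxR hxr hxX hRX, ?_⟩
    intro X' hX'E3 hX'p x' hx'E1 hx'o
    by_contra hcon
    push Not at hcon
    haveI : Fact (Nat.card X').Prime := ⟨hX'p⟩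
    exact h.typeN_faithful_false hXE3 rfl hRE1 hRp hxR hxr hxX hRX hX'E3 rfl hx'E1 hx'o hcon
  · right
    intro X hXE3 hXp r R hr hR hRX
    haveI : Fact (Nat.card X).Prime := ⟨hXp⟩
    haveI : Fact r.Prime := ⟨hr⟩
    have hRp : IsPGroup r R := hR.isPGroup
    -- every element of order `r` of `R` acts nontrivially on `X`
    have hkey : ∀ x ∈ R, orderOf x = r → ∃ a ∈ X, x * a ≠ a * x := by
      intro x hxR hxr
      by_contra hcon
      push Not at hcon
      exact hN ⟨X, r, R, x, hXE3, hXp, hr, hR.1, hRp, hxR, hxr, hcon, hRX⟩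
    have hR1 : R ≠ ⊥ := by
      rintro rfl
      obtain ⟨y, hy, a, ha, hya⟩ := hRX
      rw [Subgroup.mem_bot] at hy
      rw [hy, one_mul, mul_one] at hya
      exact hya rfl
    obtain ⟨x₀, hx₀R, hx₀r⟩ := exists_orderOf_eq_of_isPGroup hRp hR1
    have hcard : Nat.card R = r :=
      (h.faithful_pair hXE3 rfl (hR.1 hx₀R) hx₀r (hkey x₀ hx₀R hx₀r) hR).1
    refine ⟨hcard, ?_⟩
    intro x hxR hx1
    apply hkey x hxR
    have h1 : orderOf x ∣ r := by
      rw [← hcard]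
      have := orderOf_dvd_natCard (⟨x, hxR⟩ : ↥R)
      rwa [Subgroup.orderOf_mk] at this
    rcases (Nat.dvd_prime hr).mp h1 with h2 | h2
    · exact absurd (orderOf_eq_one_iff.mp h2) hx1
    · exact h2

end CaseII

end Cfsg.Agent.Lib.Helper17.BGC2
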