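/-
helper17: MAIN CLAIM (κ(M) ∩ τ₃(M) = ∅), interface for Theorem T2 (type (P)) of
notes/bg14/NOTES_h20.md sec. 13: `FaithfulPair`, and the consequences of `¬ FaithfulPair`.
-/
import Mathlib
import Cfsg.Prelude.Def_OddOrderLocal
import Cfsg.Agent.Lib.Helper17.BGC2D

set_option autoImplicit false
set_option linter.unusedSectionVars false
set_option linter.unusedVariables false
set_option linter.style.haveILetI false

namespace Cfsg.Agent.Lib.Helper17.BGC2

open Cfsg.Agent.Lib.Helper17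
open Cfsg.Agent.Lib.Helper17.BGR2
open scoped commutatorElement

universe u

variable {G : Type u} [Group G]

/-- A *faithful pair*: a subgroup `X ≤ E₃` of prime order and an element `x ∈ E₁` of prime order
not centralizing `X`. -/
def FaithfulPair (E1 E3 : Subgroup G) : Prop :=
  ∃ X : Subgroup G, X ≤ E3 ∧ ∃ x ∈ E1, (Nat.card X).Prime ∧ (orderOf x).Prime ∧
    ∃ a ∈ X, x * a ≠ a * x

theorem forall_comm_of_not_faithfulPair {E1 E3 : Subgroup G} (hnf : ¬ FaithfulPair E1 E3) :
    ∀ X : Subgroup G, X ≤ E3 → (Nat.card X).Prime → ∀ x ∈ E1, (orderOf x).Prime →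
      ∀ a ∈ X, x * a = a * x := by
  intro X hX hXp x hx hxo a ha
  by_contra hcon
  exact hnf ⟨X, hX, x, hx, hXp, hxo, a, ha, hcon⟩

namespace CaseII

variable [Finite G] {M E E1 E3 : Subgroup G}

/-- type (P): no faithful pair forces `T₁ = T₃`. -/
theorem T1_eq_T3_of_no_faithful (h : CaseII M E E1 E3) (hnf : ¬ FaithfulPair E1 E3) :
    Cfsg.sigmaCore M ⊓ Subgroup.centralizer (E1 : Set G) =
      Cfsg.sigmaCore M ⊓ Subgroup.centralizer (E3 : Set G) := by
  obtain ⟨k, hk, hkp, hkτ⟩ := h.exists_prime_order_E3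
  haveI : Fact (orderOf k).Prime := ⟨hkp⟩
  have hXE3 : Subgroup.zpowers k ≤ E3 := Subgroup.zpowers_le.mpr hk
  have hXp : Nat.card (Subgroup.zpowers k) = orderOf k := Nat.card_zpowers k
  obtain ⟨r, R, hr, hR, y, hy, a, ha, hya⟩ := h.exists_nontrivial_pair hXE3 hXp
  haveI : Fact r.Prime := ⟨hr⟩
  have hR1 : R ≠ ⊥ := by
    rintro rfl
    rw [Subgroup.mem_bot] at hy
    rw [hy, one_mul, mul_one] at hya
    exact hya rfl
  obtain ⟨x, hxR, hxr⟩ := exists_orderOf_eq_of_isPGroup hR.isPGroup hR1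
  have hxX : ∀ b ∈ Subgroup.zpowers k, x * b = b * x :=
    forall_comm_of_not_faithfulPair hnf _ hXE3 (hXp ▸ hkp) x (hR.1 hxR) (hxr ▸ hr)
  exact h.T1_eq_T3_of_typeN hXE3 hXp hR.1 hR.isPGroup hxR hxr hxX ⟨y, hy, a, ha, hya⟩

/-- type (P): `E` acts in a prime manner on `M_σ`. -/
theorem prime_action_of_no_faithful (h : CaseII M E E1 E3) (hnf : ¬ FaithfulPair E1 E3) :
    ∀ e ∈ E, e ≠ 1 → Cfsg.sigmaCore M ⊓ Subgroup.centralizer ({e} : Set G) =
      Cfsg.sigmaCore M ⊓ Subgroup.centralizer (E3 : Set G) :=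
  fun e he he1 => h.cent_eq_T3_of_T1_eq_T3 (h.T1_eq_T3_of_no_faithful hnf) he he1

/-- type (P): `C_{M_σ}(E) = T₃`. -/
theorem cent_E_of_no_faithful (h : CaseII M E E1 E3) (hnf : ¬ FaithfulPair E1 E3) :
    Cfsg.sigmaCore M ⊓ Subgroup.centralizer (E : Set G) =
      Cfsg.sigmaCore M ⊓ Subgroup.centralizer (E3 : Set G) := by
  rw [h.cent_E_eq, h.T1_eq_T3_of_no_faithful hnf, inf_idem]

/-- type (P): every subgroup of prime order of `E` is normal in `E`. -/
theorem le_normalizer_of_no_faithful (h : CaseII M E E1 E3) (hnf : ¬ FaithfulPair E1 E3)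
    {X : Subgroup G} (hXE : X ≤ E) (hXp : (Nat.card X).Prime) :
    E ≤ Subgroup.normalizer (X : Set G) := by
  haveI : Fact (Nat.card X).Prime := ⟨hXp⟩
  obtain ⟨u, hu, hu1⟩ : ∃ u ∈ X, u ≠ 1 := by
    by_contra hno
    push Not at hno
    exact X_ne_bot (rfl : Nat.card X = Nat.card X) ((Subgroup.eq_bot_iff_forall X).mpr hno)
  have hXz : X = Subgroup.zpowers u := eq_zpowers_of_card_prime hXp rfl hu hu1
  have huo : orderOf u = Nat.card X := by
    rw [hXz, Nat.card_zpowers]
  have hdE : Nat.card X ∣ Nat.card E := Subgroup.card_dvd_of_le hXE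
  rcases h.tau1_or_tau3 hXp hdE with h1 | h3
  · -- `u` is conjugate to a central element of `E`
    obtain ⟨m, hm, w, hw, huw⟩ := h.exists_conj_mem_E1 (hXE hu) (huo ▸ h1)
    have hwo : (orderOf w).Prime := by
      have : orderOf w = orderOf u := by
        rw [huw]
        exact ((MulAut.conj m).orderOf_eq w).symm
      rw [this, huo]; exact hXp
    have hcen := h.central_of_no_faithful (forall_comm_of_not_faithfulPair hnf) hw hwo
    have huw' : u = w := by
      rw [huw, ← hcen m hm]; group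
    intro e he
    rw [hXz, huw']
    have hec : e * w = w * e := (hcen e he).symm
    rw [Subgroup.mem_normalizer_iff]
    intro z
    have hconj : ∀ z ∈ Subgroup.zpowers w, e * z * e⁻¹ = z := by
      intro z hz
      obtain ⟨n, rfl⟩ := Subgroup.mem_zpowers_iff.mp hz
      have : Commute e (w ^ n) := (show Commute e w from hec).zpow_right n
      rw [this.eq, mul_inv_cancel_right]
    constructor
    · intro hz
      rw [hconj z hz]; exact hz
    · intro hz
      have h5 := hconj _ hz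
      have h6 : e⁻¹ * (e * z * e⁻¹) * e = z := by group
      have h7 : e⁻¹ * (e * z * e⁻¹) * e = e * z * e⁻¹ := by
        have hec' : e⁻¹ * w = w * e⁻¹ := by
          have := (show Commute e w from hec).inv_left
          exact this.eq
        obtain ⟨n, hn⟩ := Subgroup.mem_zpowers_iff.mp hz
        rw [← hn]
        have : Commute e⁻¹ (w ^ n) := (show Commute e⁻¹ w from hec').zpow_right n
        rw [this.eq, mul_assoc, inv_mul_cancel, mul_one]
      rw [← h6, h7]; exact hz
  · have hXE3 : X ≤ E3 := by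
      rw [hXz, Subgroup.zpowers_le]
      exact h.mem_E3_of_tau3 (hXE hu) (huo ▸ h3)
    exact h.E_le_normalizer hXE3

/-- Case II: every prime divisor of `|M|` outside `σ(M)` lies in `κ(M)`. -/
theorem mem_kappa_of_not_sigma (h : CaseII M E E1 E3) {q : ℕ} (hq : q.Prime)
    (hqM : q ∣ Nat.card M) (hqσ : q ∉ Cfsg.sigma M) : q ∈ Cfsg.kappa M := by
  have hr1 : Cfsg.PRankLE q 1 ↥M := by
    by_contra hr1
    exact h.tau2_empty q
      (Cfsg.Agent.Lib.Helper23.BGY.mem_tau2_of_not_rank_one h.hG h.hM hq hqσ hr1)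
  by_cases hd' : q ∣ Nat.card ↥⁅M, M⁆
  · exact h.tau3_subset_kappa ⟨hq, hqσ, hd', hr1⟩
  · exact h.tau1_subset_kappa ⟨hq, hqσ, hqM, hd', hr1⟩

end CaseII

end Cfsg.Agent.Lib.Helper17.BGC2
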