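/-
helper17: S4642 leaf FULL `isDefectGroup_of_full_defect` (planner helper2, `notes/S4642_leaves.lean`):
in a block of full defect every `p`-subgroup of index prime to `p` is a defect group.
-/
import Mathlib
import Cfsg.Prelude.Def_BrauerPairs
import Cfsg.Agent.Lib.Helper2.FongPTDefs
import Cfsg.Agent.Lib.Helper6.KnoerrGen
import Cfsg.Agent.Lib.Helper6.Fong
import Cfsg.Agent.Lib.Helper6.MinMax
import Cfsg.Agent.Lib.Helper23.PairIndA
import Cfsg.Agent.Lib.Helper23.PairIndB
import Cfsg.Agent.Lib.Helper24.MaxPair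
import Cfsg.Agent.Lib.Helper23.BrauerInduced
import Cfsg.Agent.Lib.Helper23.QuotDefectAux
import Cfsg.Agent.Lib.Helper6.DefectOrder

set_option autoImplicit false

namespace Cfsg.Agent.Lib.Helper17.FPTFULL

open Cfsg Cfsg.Agent.CharLib Cfsg.Agent.Lib.Helper24 Cfsg.Agent.Lib.Helper23
  Cfsg.Agent.Lib.Helper6 Cfsg.Agent.Lib.Helper2.FongPT
open scoped ComplexConjugate

universe u

variable {G : Type u} [Group G] [Fintype G] {p : ℕ} [hpp : Fact p.Prime] {M : Ideal AlgInt}

/-- a `p`-subgroup of index prime to `p` has order `p ^ (|G|.factorization p)` -/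
theorem card_eq_of_not_dvd_index (P : Subgroup G) (hP : IsPGroup p P) (hidx : ¬ p ∣ P.index) :
    Nat.card P = p ^ (Nat.card G).factorization p := by
  have hp : p.Prime := hpp.out
  obtain ⟨k, hk⟩ := IsPGroup.iff_card.mp hP
  have hmul := Subgroup.card_mul_index P
  have hidx0 : P.index ≠ 0 := Subgroup.index_ne_zero_of_finite
  have h1 : (Nat.card G).factorization p = k := by
    rw [← hmul, hk, Nat.factorization_mul (pow_ne_zero _ hp.ne_zero) hidx0]
    simp [hp.factorization, Nat.factorization_eq_zero_of_not_dvd hidx]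
  rw [h1, hk]

/-- (FULL) In a block of full defect every `p`-subgroup of index prime to `p` is a defect group. -/
theorem isDefectGroup_of_full_defect (hM : IsPModular p M) (B : Set (IrrCharacter G))
    (hB : IsPBlock M B) (hfull : blockDefect p B = (Nat.card G).factorization p)
    (P : Subgroup G) (hP : IsPGroup p P) (hidx : ¬ p ∣ P.index) : IsDefectGroup p M B P := by
  classical
  obtain ⟨D, hD⟩ := exists_isDefectGroup hM B hB
  have hDcard : Nat.card D = p ^ (Nat.card G).factorization p := by
    rw [card_defectGroup_eq hM B hB D hD, hfull]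
  have hPcard := card_eq_of_not_dvd_index P hP hidx
  have hDp : IsPGroup p D := IsPGroup.of_card hDcard
  obtain ⟨QD, hQD⟩ := hDp.exists_le_sylow
  obtain ⟨QP, hQP⟩ := hP.exists_le_sylow
  have hDQ : D = (QD : Subgroup G) := by
    apply Subgroup.eq_of_le_of_card_ge hQD
    rw [hDcard, Sylow.card_eq_multiplicity]
  have hPQ : P = (QP : Subgroup G) := by
    apply Subgroup.eq_of_le_of_card_ge hQP
    rw [hPcard, Sylow.card_eq_multiplicity]
  obtain ⟨c, hc⟩ := MulAction.exists_smul_eq G QD QP
  have hle : D.map (MulAut.conj c).toMonoidHom ≤ P := by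
    rintro _ ⟨x, hx, rfl⟩
    rw [hPQ, ← hc, Sylow.coe_subgroup_smul]
    have hx' : x ∈ (QD : Subgroup G) := hQD hx
    have := Subgroup.smul_mem_pointwise_smul x (MulAut.conj c) (QD : Subgroup G) hx'
    simpa [MulAut.smul_def] using this
  have heq : D.map (MulAut.conj c).toMonoidHom = P := by
    apply Subgroup.eq_of_le_of_card_ge hle
    rw [Subgroup.card_map_of_injective (MulAut.conj c).injective, hDcard, hPcard]
  rw [← heq]
  exact isDefectGroup_conj hM hB hD c

end Cfsg.Agent.Lib.Helper17.FPTFULL
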