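import Mathlib
import Cfsg.Agent.S0914

/-!
# Blocks of defect zero and irreducible characters of `p`-defect zero (any finite group)

Via S0914: the blocks of defect zero are exactly the singletons `{χ}` with
`|G|_p ∣ χ(1)`.  Used for the first conjunct of S4538.
-/

set_option autoImplicit false

namespace Cfsg.Agent.Lib.Helper17.BlkDefZero

open Cfsg Cfsg.Agent.Lib.Helper6 Cfsg.Agent.Lib.Helper24

universe u

variable {G : Type u} [Group G] [Finite G]

/-- `p`-defect zero for an irreducible character: the full `p`-part of `|G|` divides the degree. -/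
def IsDefZero (p : ℕ) (χ : IrrCharacter G) : Prop :=
  (Nat.card G).factorization p ≤ (charDegree (χ : G → ℂ)).factorization p

theorem isDefZero_iff_not_dvd (p : ℕ) [Fact p.Prime] (χ : IrrCharacter G) :
    IsDefZero p χ ↔ ¬ p ∣ Nat.card G / charDegree (χ : G → ℂ) := by
  have hp : p.Prime := Fact.out
  have hdvd := irr_charDegree_dvd_card χ
  have hdpos := irr_charDegree_pos χ
  obtain ⟨m, hm⟩ := hdvd
  have hm' : Nat.card G / charDegree (χ : G → ℂ) = m := by
    rw [hm]; exact Nat.mul_div_cancel_left m hdpos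
  have hm0 : m ≠ 0 := by
    intro h0
    rw [h0, mul_zero] at hm
    exact Nat.card_pos.ne' hm
  unfold IsDefZero
  rw [hm', hm, Nat.factorization_mul hdpos.ne' hm0, Finsupp.add_apply]
  constructor
  · intro h hpm
    have : 0 < m.factorization p := hp.factorization_pos_of_dvd hm0 hpm
    omega
  · intro h
    have : m.factorization p = 0 := Nat.factorization_eq_zero_of_not_dvd h
    omega

/-- The defect of the block of `χ` is zero iff `χ` has `p`-defect zero. -/
theorem blockDefect_blockOf_eq_zero_iff (p : ℕ) [Fact p.Prime] (M : Ideal AlgInt)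
    (hM : IsPModular p M) (χ : IrrCharacter G) :
    blockDefect p (blockOf M (χ : G → ℂ)) = 0 ↔ IsDefZero p χ := by
  have hprime : M.IsPrime := isPrime_of_isPModular hM
  constructor
  · intro h
    unfold blockDefect at h
    rw [Nat.sub_eq_zero_iff_le] at h
    refine h.trans (Nat.sInf_le ?_)
    exact ⟨χ, mem_blockOf_self χ, rfl⟩
  · intro h
    have hB : blockOf M (χ : G → ℂ) = {χ} :=
      (Cfsg.Agent.S0914.result p M hM χ).mp ((isDefZero_iff_not_dvd p χ).mp h)
    unfold blockDefect
    rw [hB, Set.image_singleton, csInf_singleton, Nat.sub_eq_zero_iff_le]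
    exact h

theorem blockOf_eq_singleton_of_isDefZero (p : ℕ) [Fact p.Prime] (M : Ideal AlgInt)
    (hM : IsPModular p M) (χ : IrrCharacter G) (h : IsDefZero p χ) :
    blockOf M (χ : G → ℂ) = {χ} :=
  (Cfsg.Agent.S0914.result p M hM χ).mp ((isDefZero_iff_not_dvd p χ).mp h)

/-- The map `χ ↦ blockOf M χ` on characters of `p`-defect zero. -/
noncomputable def defZeroFun (p : ℕ) [Fact p.Prime] (M : Ideal AlgInt) (hM : IsPModular p M)
    (χ : {χ : IrrCharacter G // IsDefZero p χ}) :
    {B : Set (IrrCharacter G) // IsPBlock M B ∧ blockDefect p B = 0} :=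
  ⟨blockOf M ((χ.1 : IrrCharacter G) : G → ℂ), ⟨χ.1, rfl⟩,
    (blockDefect_blockOf_eq_zero_iff p M hM χ.1).mpr χ.2⟩

theorem defZeroFun_val (p : ℕ) [Fact p.Prime] (M : Ideal AlgInt) (hM : IsPModular p M)
    (χ : {χ : IrrCharacter G // IsDefZero p χ}) :
    (defZeroFun p M hM χ).1 = blockOf M ((χ.1 : IrrCharacter G) : G → ℂ) := rfl

theorem defZeroFun_bijective (p : ℕ) [Fact p.Prime] (M : Ideal AlgInt) (hM : IsPModular p M) :
    Function.Bijective (defZeroFun (G := G) p M hM) := by
  constructor
  · intro χ ψ h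
    have h1 : (defZeroFun p M hM χ).1 = (defZeroFun p M hM ψ).1 := by rw [h]
    rw [defZeroFun_val, defZeroFun_val, blockOf_eq_singleton_of_isDefZero p M hM χ.1 χ.2,
      blockOf_eq_singleton_of_isDefZero p M hM ψ.1 ψ.2] at h1
    apply Subtype.ext
    exact Set.singleton_injective h1
  · intro B
    obtain ⟨B, hB, hB0⟩ := B
    obtain ⟨χ, hχ⟩ := hB
    have hχ0 : IsDefZero p χ := by
      rw [hχ] at hB0
      exact (blockDefect_blockOf_eq_zero_iff p M hM χ).mp hB0
    refine ⟨⟨χ, hχ0⟩, ?_⟩
    apply Subtype.ext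
    rw [defZeroFun_val]
    exact hχ.symm

theorem card_defect_zero_blocks (p : ℕ) [Fact p.Prime] (M : Ideal AlgInt) (hM : IsPModular p M) :
    Nat.card {B : Set (IrrCharacter G) // IsPBlock M B ∧ blockDefect p B = 0} =
      Nat.card {χ : IrrCharacter G // (Nat.card G).factorization p ≤
        (charDegree (χ : G → ℂ)).factorization p} :=
  (Nat.card_congr (Equiv.ofBijective _ (defZeroFun_bijective p M hM))).symm

/-- If exactly one irreducible character has `p`-defect zero then there is exactly one block of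
defect zero. -/
theorem card_eq_one_of_existsUnique (p : ℕ) [Fact p.Prime] (M : Ideal AlgInt)
    (hM : IsPModular p M)
    (h : ∃! χ : IrrCharacter G, (Nat.card G).factorization p ≤
      (charDegree (χ : G → ℂ)).factorization p) :
    Nat.card {B : Set (IrrCharacter G) // IsPBlock M B ∧ blockDefect p B = 0} = 1 := by
  rw [card_defect_zero_blocks p M hM]
  obtain ⟨χ, hχ, huniq⟩ := h
  have : Unique {χ : IrrCharacter G // (Nat.card G).factorization p ≤
      (charDegree (χ : G → ℂ)).factorization p} :=
    { default := ⟨χ, hχ⟩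
      uniq := fun ψ => Subtype.ext (huniq ψ.1 ψ.2) }
  exact Nat.card_unique

end Cfsg.Agent.Lib.Helper17.BlkDefZero
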