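import Mathlib

/-!
# DOM-CORE, part A (helper17): pure linear algebra

`X` an endomorphism of `V`, `V₀` an `X`-stable subspace with `X ^ n = 0` on `V₀` (`0 < n`), `T ≤ V₀` a
subspace on which `X ^ (n - 1)` is injective.  Then `U = ∑_{i<n} X^i T` is a direct sum of the
`X^i T`, `U ⊓ ker X = X^(n-1) T`, and there is a linear retraction `π₀ : V → U` commuting with `X`
on `V₀`.
-/

set_option autoImplicit false

namespace Cfsg.Agent.Lib.Helper17.DOMCoreA

open Finset

variable {F : Type*} [Field F] {V : Type*} [AddCommGroup V] [Module F V]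

/-- INJ: the sum `∑_{i<m} X^(n-m+i) T` is direct. -/
theorem inj_aux (X : Module.End F V) (T : Submodule F V) (n : ℕ)
    (hT0 : ∀ t ∈ T, (X ^ (n - 1)) t = 0 → t = 0) (hTn : ∀ t ∈ T, (X ^ n) t = 0) :
    ∀ m : ℕ, m ≤ n → ∀ t : ℕ → V, (∀ i, t i ∈ T) →
      ∑ i ∈ range m, (X ^ (n - m + i)) (t i) = 0 → ∀ i < m, t i = 0 := by
  intro m
  induction m with
  | zero => intro _ t _ _ i hi; omega
  | succ m ih =>
    intro hm t ht hsum
    -- high powers vanish on `T`
    have hhigh : ∀ k, n ≤ k → ∀ v ∈ T, (X ^ k) v = 0 := by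
      intro k hk v hv
      obtain ⟨j, rfl⟩ := Nat.exists_eq_add_of_le hk
      rw [add_comm, pow_add, Module.End.mul_apply, hTn v hv, map_zero]
    have h0 : t 0 = 0 := by
      apply hT0 (t 0) (ht 0)
      have h1 := congrArg (X ^ m) hsum
      rw [map_sum, map_zero] at h1
      rw [Finset.sum_eq_single 0] at h1
      · rw [← Module.End.mul_apply, ← pow_add] at h1
        have : m + (n - (m + 1) + 0) = n - 1 := by omega
        rw [this] at h1
        exact h1
      · intro i _ hi0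
        rw [← Module.End.mul_apply, ← pow_add]
        exact hhigh _ (by omega) _ (ht i)
      · intro h
        exact absurd (Finset.mem_range.mpr (Nat.succ_pos m)) h
    have htail : ∑ i ∈ range m, (X ^ (n - m + i)) (t (i + 1)) = 0 := by
      rw [Finset.sum_range_succ'] at hsum
      rw [h0, map_zero, add_zero] at hsum
      rw [← hsum]
      apply Finset.sum_congr rfl
      intro i _
      have : n - (m + 1) + (i + 1) = n - m + i := by omega
      rw [this]
    have hrest := ih (by omega) (fun i => t (i + 1)) (fun i => ht (i + 1)) htail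
    intro i hi
    rcases i with _ | i
    · exact h0
    · exact hrest i (by omega)

section main

variable (X : Module.End F V) (V₀ T : Submodule F V) (n : ℕ)

/-- `(t_i) ↦ ∑ X^i t_i` -/
noncomputable def Phi : (Fin n → T) →ₗ[F] V :=
  ∑ i : Fin n, (X ^ (i : ℕ)) ∘ₗ T.subtype ∘ₗ LinearMap.proj i

theorem Phi_apply (t : Fin n → T) : Phi X T n t = ∑ i : Fin n, (X ^ (i : ℕ)) (t i : V) := by
  simp [Phi, LinearMap.sum_apply]

theorem Phi_single (k : Fin n) (t : T) : Phi X T n (Pi.single k t) = (X ^ (k : ℕ)) (t : V) := by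
  rw [Phi_apply, Finset.sum_eq_single k]
  · rw [Pi.single_eq_same]
  · intro i _ hik
    rw [Pi.single_eq_of_ne hik]
    simp
  · intro h
    exact absurd (Finset.mem_univ k) h

variable {X V₀ T n}

theorem Phi_injective (hT0 : ∀ t ∈ T, (X ^ (n - 1)) t = 0 → t = 0)
    (hTn : ∀ t ∈ T, (X ^ n) t = 0) : Function.Injective (Phi X T n) := by
  rw [← LinearMap.ker_eq_bot, LinearMap.ker_eq_bot']
  intro t ht
  rw [Phi_apply] at ht
  let t' : ℕ → V := fun i => if h : i < n then ((t ⟨i, h⟩ : T) : V) else 0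
  have ht'T : ∀ i, t' i ∈ T := by
    intro i
    by_cases h : i < n
    · simp only [t', dif_pos h]; exact (t ⟨i, h⟩).2
    · simp only [t', dif_neg h]; exact T.zero_mem
  have hsum : ∑ i ∈ range n, (X ^ (n - n + i)) (t' i) = 0 := by
    rw [← ht, ← Fin.sum_univ_eq_sum_range (fun i => (X ^ (n - n + i)) (t' i)) n]
    apply Finset.sum_congr rfl
    intro i _
    simp only [t', dif_pos i.2, Nat.sub_self, zero_add]
  have h0 := inj_aux X T n hT0 hTn n le_rfl t' ht'T hsum
  funext i
  have := h0 i i.2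
  simp only [t', dif_pos i.2] at this
  exact Subtype.ext this

/-- `X^k t ∈ U` for all `k`. -/
theorem pow_mem_range (hTn : ∀ t ∈ T, (X ^ n) t = 0) (k : ℕ) (t : V) (ht : t ∈ T) :
    (X ^ k) t ∈ LinearMap.range (Phi X T n) := by
  by_cases hk : k < n
  · exact ⟨Pi.single ⟨k, hk⟩ ⟨t, ht⟩, Phi_single X T n ⟨k, hk⟩ ⟨t, ht⟩⟩
  · push Not at hk
    obtain ⟨j, rfl⟩ := Nat.exists_eq_add_of_le hk
    rw [add_comm, pow_add, Module.End.mul_apply, hTn t ht, map_zero]
    exact Submodule.zero_mem _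

theorem T_le_range (hn : 0 < n) : T ≤ LinearMap.range (Phi X T n) := by
  intro t ht
  have := Phi_single X T n ⟨0, hn⟩ ⟨t, ht⟩
  simp only [pow_zero, Module.End.one_apply] at this
  exact ⟨_, this⟩

theorem X_mem_range (hTn : ∀ t ∈ T, (X ^ n) t = 0) (u : V)
    (hu : u ∈ LinearMap.range (Phi X T n)) : X u ∈ LinearMap.range (Phi X T n) := by
  obtain ⟨t, rfl⟩ := hu
  rw [Phi_apply, map_sum]
  apply Submodule.sum_mem
  intro i _
  rw [← Module.End.mul_apply, ← pow_succ']
  exact pow_mem_range hTn _ _ (t i).2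

theorem range_le (hT : T ≤ V₀) (hV₀X : ∀ v ∈ V₀, X v ∈ V₀) :
    LinearMap.range (Phi X T n) ≤ V₀ := by
  rintro _ ⟨t, rfl⟩
  rw [Phi_apply]
  apply Submodule.sum_mem
  intro i _
  have : ∀ k : ℕ, ∀ v ∈ V₀, (X ^ k) v ∈ V₀ := by
    intro k
    induction k with
    | zero => intro v hv; simpa using hv
    | succ k ih =>
      intro v hv
      rw [pow_succ', Module.End.mul_apply]
      exact hV₀X _ (ih v hv)
  exact this _ _ (hT (t i).2)

/-- `U ⊓ ker X = X^(n-1) T`. -/
theorem range_inf_ker (hn : 0 < n) (hT0 : ∀ t ∈ T, (X ^ (n - 1)) t = 0 → t = 0)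
    (hTn : ∀ t ∈ T, (X ^ n) t = 0) :
    LinearMap.range (Phi X T n) ⊓ LinearMap.ker X = T.map (X ^ (n - 1)) := by
  apply le_antisymm
  · rintro u ⟨⟨t, rfl⟩, hker⟩
    rw [SetLike.mem_coe, LinearMap.mem_ker, Phi_apply, map_sum] at hker
    let t' : ℕ → V := fun i => if h : i < n then ((t ⟨i, h⟩ : T) : V) else 0
    have ht'T : ∀ i, t' i ∈ T := by
      intro i
      by_cases h : i < n
      · simp only [t', dif_pos h]; exact (t ⟨i, h⟩).2
      · simp only [t', dif_neg h]; exact T.zero_mem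
    have hsum0 : ∑ i ∈ range n, (X ^ (i + 1)) (t' i) = 0 := by
      rw [← hker, ← Fin.sum_univ_eq_sum_range (fun i => (X ^ (i + 1)) (t' i)) n]
      apply Finset.sum_congr rfl
      intro i _
      simp only [t', dif_pos i.2]
      rw [pow_succ', Module.End.mul_apply]
    obtain ⟨m, rfl⟩ : ∃ m, n = m + 1 := ⟨n - 1, by omega⟩
    have hsum : ∑ i ∈ range m, (X ^ (m + 1 - m + i)) (t' i) = 0 := by
      rw [Finset.sum_range_succ] at hsum0
      rw [hTn _ (ht'T m), add_zero] at hsum0
      rw [← hsum0]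
      apply Finset.sum_congr rfl
      intro i _
      have : m + 1 - m + i = i + 1 := by omega
      rw [this]
    have h0 := inj_aux X T (m + 1) hT0 hTn m (Nat.le_succ m) t' ht'T hsum
    refine ⟨(t ⟨m, Nat.lt_succ_self m⟩ : V), (t ⟨m, Nat.lt_succ_self m⟩).2, ?_⟩
    rw [Phi_apply, Finset.sum_eq_single ⟨m, Nat.lt_succ_self m⟩]
    · simp
    · intro i _ him
      have hi : (i : ℕ) < m := by
        have := i.2
        have h2 : (i : ℕ) ≠ m := fun h => him (Fin.ext h)
        omega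
      have := h0 i hi
      simp only [t', dif_pos i.2] at this
      rw [this, map_zero]
    · intro h
      exact absurd (Finset.mem_univ _) h
  · rintro _ ⟨t, ht, rfl⟩
    refine ⟨pow_mem_range hTn _ t ht, ?_⟩
    rw [SetLike.mem_coe, LinearMap.mem_ker, ← Module.End.mul_apply, ← pow_succ']
    have : n - 1 + 1 = n := by omega
    rw [this]
    exact hTn t ht

/-- the last coordinate, extended to `V`. -/
theorem exists_lam (hn : 0 < n) (hT0 : ∀ t ∈ T, (X ^ (n - 1)) t = 0 → t = 0)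
    (hTn : ∀ t ∈ T, (X ^ n) t = 0) :
    ∃ lam : V →ₗ[F] V, (∀ v, lam v ∈ T) ∧ (∀ t ∈ T, lam ((X ^ (n - 1)) t) = t) ∧
      (∀ t ∈ T, ∀ j, j < n - 1 → lam ((X ^ j) t) = 0) := by
  have hinj := Phi_injective hT0 hTn
  obtain ⟨g, hg⟩ := (Phi X T n).exists_leftInverse_of_injective (LinearMap.ker_eq_bot.mpr hinj)
  have hg' : ∀ t, g (Phi X T n t) = t := fun t => LinearMap.congr_fun hg t
  refine ⟨T.subtype ∘ₗ LinearMap.proj ⟨n - 1, by omega⟩ ∘ₗ g, ?_, ?_, ?_⟩
  · intro v
    exact Submodule.coe_mem _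
  · intro t ht
    have h1 := Phi_single X T n ⟨n - 1, by omega⟩ ⟨t, ht⟩
    simp only at h1
    rw [← h1]
    simp only [LinearMap.coe_comp, Function.comp_apply, hg']
    simp
  · intro t ht j hj
    have h1 := Phi_single X T n ⟨j, by omega⟩ ⟨t, ht⟩
    simp only at h1
    rw [← h1]
    simp only [LinearMap.coe_comp, Function.comp_apply, hg']
    have hne : (⟨n - 1, by omega⟩ : Fin n) ≠ ⟨j, by omega⟩ := by
      intro h
      have := congrArg Fin.val h
      simp only at this
      omega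
    simp [Pi.single_eq_of_ne hne]

/-- the `X`-equivariant retraction onto `U`. -/
theorem exists_retraction (hn : 0 < n) (hT : T ≤ V₀) (hV₀n : ∀ v ∈ V₀, (X ^ n) v = 0)
    (hT0 : ∀ t ∈ T, (X ^ (n - 1)) t = 0 → t = 0) :
    ∃ π₀ : V →ₗ[F] V, (∀ v, π₀ v ∈ LinearMap.range (Phi X T n)) ∧
      (∀ u ∈ LinearMap.range (Phi X T n), π₀ u = u) ∧ (∀ v ∈ V₀, π₀ (X v) = X (π₀ v)) := by
  have hTn : ∀ t ∈ T, (X ^ n) t = 0 := fun t ht => hV₀n t (hT ht)
  obtain ⟨lam, hlT, hl1, hl0⟩ := exists_lam hn hT0 hTn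
  have hhigh : ∀ k, n ≤ k → ∀ v ∈ V₀, (X ^ k) v = 0 := by
    intro k hk v hv
    obtain ⟨j, rfl⟩ := Nat.exists_eq_add_of_le hk
    rw [add_comm, pow_add, Module.End.mul_apply, hV₀n v hv, map_zero]
  let π₀ : V →ₗ[F] V := ∑ i ∈ range n, (X ^ i) ∘ₗ lam ∘ₗ (X ^ (n - 1 - i))
  have hπ : ∀ v, π₀ v = ∑ i ∈ range n, (X ^ i) (lam ((X ^ (n - 1 - i)) v)) := by
    intro v
    simp [π₀, LinearMap.sum_apply]
  refine ⟨π₀, ?_, ?_, ?_⟩
  · intro v
    rw [hπ]
    apply Submodule.sum_mem
    intro i _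
    exact pow_mem_range hTn i _ (hlT _)
  · rintro _ ⟨t, rfl⟩
    rw [Phi_apply, map_sum]
    apply Finset.sum_congr rfl
    intro k _
    rw [hπ]
    have hcomb : ∀ (a b : ℕ) (v : V), (X ^ a) ((X ^ b) v) = (X ^ (a + b)) v := by
      intro a b v
      rw [pow_add, Module.End.mul_apply]
    rw [Finset.sum_eq_single (k : ℕ)]
    · rw [hcomb]
      have : n - 1 - (k : ℕ) + (k : ℕ) = n - 1 := by have := k.2; omega
      rw [this, hl1 _ (t k).2]
    · intro i hi hik
      rw [hcomb]
      rw [Finset.mem_range] at hi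
      rcases Nat.lt_or_gt_of_ne hik with h | h
      · -- `i < k`: exponent `≥ n`
        rw [hhigh _ (by have := k.2; omega) _ (hT (t k).2), map_zero, map_zero]
      · -- `i > k`: exponent `< n - 1`
        rw [hl0 _ (t k).2 _ (by omega), map_zero]
    · intro h
      exact absurd (Finset.mem_range.mpr k.2) h
  · intro v hv
    -- `b j = X^j lam (X^(n-j) v)`, `j ≤ n`
    let b : ℕ → V := fun j => (X ^ j) (lam ((X ^ (n - j)) v))
    have hb0 : b 0 = 0 := by
      simp only [b, pow_zero, Module.End.one_apply, Nat.sub_zero]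
      rw [hV₀n v hv, map_zero]
    have hbn : b n = 0 := by
      simp only [b]
      exact hTn _ (hlT _)
    have h1 : π₀ (X v) = ∑ j ∈ range n, b j := by
      rw [hπ]
      apply Finset.sum_congr rfl
      intro i hi
      rw [Finset.mem_range] at hi
      simp only [b]
      rw [← Module.End.mul_apply (X ^ (n - 1 - i)) X, ← pow_succ]
      have : n - 1 - i + 1 = n - i := by omega
      rw [this]
    have h2 : X (π₀ v) = ∑ j ∈ range n, b (j + 1) := by
      rw [hπ, map_sum]
      apply Finset.sum_congr rfl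
      intro i hi
      rw [Finset.mem_range] at hi
      simp only [b]
      rw [← Module.End.mul_apply X (X ^ i), ← pow_succ']
      have : n - (i + 1) = n - 1 - i := by omega
      rw [this]
    rw [h1, h2]
    have h3 : ∑ j ∈ range (n + 1), b j = ∑ j ∈ range n, b j + b n := Finset.sum_range_succ b n
    have h4 : ∑ j ∈ range (n + 1), b j = ∑ j ∈ range n, b (j + 1) + b 0 :=
      Finset.sum_range_succ' b n
    rw [hbn, add_zero] at h3
    rw [hb0, add_zero] at h4
    rw [← h3, h4]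

end main

end Cfsg.Agent.Lib.Helper17.DOMCoreA
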