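import Mathlib
import Cfsg.Agent.Lib.Helper8.DOMDefs

/-!
# DOM-CORE, part B (helper17): averaging a linear map over a subgroup `H` of order prime to `char F`

`avg ρ H π₀ = |H|⁻¹ ∑_{h ∈ H} ρ h ∘ π₀ ∘ ρ h⁻¹` and a Maschke complement lemma for `H`-stable
subspaces `W₁ ≤ W₂` of `V`.
-/

set_option autoImplicit false

namespace Cfsg.Agent.Lib.Helper17.DOMCoreB

open Cfsg.Agent.Lib.Helper8.DOM

variable {F : Type*} [Field F] {G : Type*} [Group G] {V : Type*} [AddCommGroup V] [Module F V]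

/-- the average of the conjugates of `π₀` under `H` -/
noncomputable def avg (ρ : Representation F G V) (H : Subgroup G) (π₀ : V →ₗ[F] V) : V →ₗ[F] V :=
  ((Nat.card H : F)⁻¹) • tr1 ρ ρ H π₀

theorem avg_apply (ρ : Representation F G V) (H : Subgroup G) [Fintype H] (π₀ : V →ₗ[F] V)
    (v : V) :
    avg ρ H π₀ v = ((Nat.card H : F)⁻¹) • ∑ h : H, ρ (h : G) (π₀ (ρ ((h : G)⁻¹) v)) := by
  rw [avg, tr1_eq_sum, LinearMap.smul_apply, LinearMap.sum_apply]
  rfl

/-- (A1) `avg` commutes with `ρ k`, `k ∈ H`. -/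
theorem avg_comm (ρ : Representation F G V) (H : Subgroup G) [Finite H] (π₀ : V →ₗ[F] V)
    (k : G) (hk : k ∈ H) (v : V) : ρ k (avg ρ H π₀ v) = avg ρ H π₀ (ρ k v) := by
  classical
  have _ : Fintype H := Fintype.ofFinite H
  rw [avg_apply, avg_apply, map_smul, map_sum]
  congr 1
  apply Fintype.sum_equiv (Equiv.mulLeft (⟨k, hk⟩ : H))
  intro h
  simp only [Equiv.coe_mulLeft, Subgroup.coe_mul, mul_inv_rev]
  rw [← Module.End.mul_apply (ρ k), ← map_mul, ← Module.End.mul_apply (ρ ((h : G)⁻¹ * k⁻¹)),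
    ← map_mul, inv_mul_cancel_right]

/-- (A2) `avg` maps into an `H`-stable subspace containing the range of `π₀`. -/
theorem avg_mem (ρ : Representation F G V) (H : Subgroup G) [Finite H] (π₀ : V →ₗ[F] V)
    (W : Submodule F V) (hW : IsInv ρ H W) (hπ : ∀ v, π₀ v ∈ W) (v : V) : avg ρ H π₀ v ∈ W := by
  classical
  have _ : Fintype H := Fintype.ofFinite H
  rw [avg_apply]
  apply Submodule.smul_mem
  apply Submodule.sum_mem
  intro h _
  exact hW h h.2 _ (hπ _)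

/-- (A3) `avg` is the identity on an `H`-stable subspace on which `π₀` is the identity. -/
theorem avg_eq_self (ρ : Representation F G V) (H : Subgroup G) [Finite H]
    (hc : (Nat.card H : F) ≠ 0) (π₀ : V →ₗ[F] V)
    (W : Submodule F V) (hW : IsInv ρ H W) (hπ : ∀ w ∈ W, π₀ w = w) (w : V) (hw : w ∈ W) :
    avg ρ H π₀ w = w := by
  classical
  have _ : Fintype H := Fintype.ofFinite H
  rw [avg_apply]
  have h1 : ∀ h : H, ρ (h : G) (π₀ (ρ ((h : G)⁻¹) w)) = w := by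
    intro h
    rw [hπ _ (hW _ (H.inv_mem h.2) w hw), ← Module.End.mul_apply, ← map_mul, mul_inv_cancel,
      map_one, Module.End.one_apply]
  rw [Finset.sum_congr rfl (fun h _ => h1 h), Finset.sum_const, Finset.card_univ,
    ← Nat.card_eq_fintype_card, ← Nat.cast_smul_eq_nsmul F, smul_smul, inv_mul_cancel₀ hc,
    one_smul]

/-- (A4) equivariance of `avg` for an element `y` all of whose `H`-conjugates commute with `π₀` on an
`H`-stable subspace `V₀`. -/
theorem avg_equivariant (ρ : Representation F G V) (H : Subgroup G) [Finite H] (π₀ : V →ₗ[F] V)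
    (V₀ : Submodule F V) (hV₀ : IsInv ρ H V₀) (y : G)
    (hy : ∀ h ∈ H, ∀ v ∈ V₀, π₀ (ρ (h⁻¹ * y * h) v) = ρ (h⁻¹ * y * h) (π₀ v))
    (v : V) (hv : v ∈ V₀) : avg ρ H π₀ (ρ y v) = ρ y (avg ρ H π₀ v) := by
  classical
  have _ : Fintype H := Fintype.ofFinite H
  rw [avg_apply, avg_apply, map_smul, map_sum]
  congr 1
  apply Finset.sum_congr rfl
  intro h _
  have h1 : ρ ((h : G)⁻¹) (ρ y v) = ρ ((h : G)⁻¹ * y * h) (ρ ((h : G)⁻¹) v) := by
    rw [← Module.End.mul_apply, ← map_mul, ← Module.End.mul_apply, ← map_mul,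
      mul_inv_cancel_right]
  rw [h1, hy h h.2 _ (hV₀ _ (H.inv_mem h.2) v hv), ← Module.End.mul_apply (ρ (h : G)), ← map_mul,
    ← Module.End.mul_apply (ρ y), ← map_mul]
  congr 2
  group

/-- Maschke for `H`-stable subspaces `W₁ ≤ W₂` of `V`. -/
theorem exists_stable_compl (ρ : Representation F G V) (H : Subgroup G) [Finite H]
    (hc : (Nat.card H : F) ≠ 0) (W₁ W₂ : Submodule F V) (h12 : W₁ ≤ W₂)
    (hW₁ : IsInv ρ H W₁) (hW₂ : IsInv ρ H W₂) :
    ∃ T : Submodule F V, T ≤ W₂ ∧ IsInv ρ H T ∧ W₁ ⊓ T = ⊥ ∧ W₁ ⊔ T = W₂ := by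
  obtain ⟨g, hg⟩ := W₁.subtype.exists_leftInverse_of_injective W₁.ker_subtype
  let π₀ : V →ₗ[F] V := W₁.subtype ∘ₗ g
  have hπmem : ∀ v, π₀ v ∈ W₁ := fun v => Submodule.coe_mem _
  have hπid : ∀ w ∈ W₁, π₀ w = w := by
    intro w hw
    have := LinearMap.congr_fun hg ⟨w, hw⟩
    simp only [LinearMap.coe_comp, Function.comp_apply, Submodule.subtype_apply,
      LinearMap.id_coe, id_eq] at this
    simp only [π₀, LinearMap.coe_comp, Function.comp_apply, Submodule.subtype_apply, this]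
  set π := avg ρ H π₀ with hπdef
  have hA2 : ∀ v, π v ∈ W₁ := avg_mem ρ H π₀ W₁ hW₁ hπmem
  have hA3 : ∀ w ∈ W₁, π w = w := avg_eq_self ρ H hc π₀ W₁ hW₁ hπid
  refine ⟨W₂ ⊓ LinearMap.ker π, inf_le_left, ?_, ?_, ?_⟩
  · intro h hh v hv
    refine ⟨hW₂ h hh v hv.1, ?_⟩
    rw [SetLike.mem_coe, LinearMap.mem_ker, hπdef, ← avg_comm ρ H π₀ h hh v]
    have : avg ρ H π₀ v = 0 := hv.2
    rw [this, map_zero]
  · rw [eq_bot_iff]
    rintro w ⟨hw1, _, hw3⟩
    rw [Submodule.mem_bot, ← hA3 w hw1]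
    exact hw3
  · apply le_antisymm
    · exact sup_le h12 inf_le_left
    · intro v hv
      have h1 : v = π v + (v - π v) := by abel
      rw [h1]
      apply Submodule.add_mem_sup (hA2 v)
      refine ⟨W₂.sub_mem hv (h12 (hA2 v)), ?_⟩
      rw [SetLike.mem_coe, LinearMap.mem_ker, map_sub, hA3 _ (hA2 v), sub_self]

end Cfsg.Agent.Lib.Helper17.DOMCoreB
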