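import Mathlib
import Cfsg.Agent.Lib.Helper8.DOMDefs

/-!
# DOM-CORE, part C (helper17): the group-theoretic set-up

`P ≤ G` of prime order `p = char F`, `x` a generator, `Y = ρ x`, `X = Y - 1`:
* `exists_gen`        : a generator `x` of `P`
* `fixed_eq_ker`      : `fixed ρ P = ker X`
* `X_pow_p`           : `X ^ p = 0`
* `nrm_eq_pow`        : `nrm ρ P = X ^ (p - 1)`
* `exists_twist`      : for `g ∈ N_G(P)`: `ρ g * X = (∑_{j<a} Y^j) * X * ρ g` for some `a`
* `exists_compl`      : a complement `H` of `P` in `N_G(P)` of order prime to `p` (Schur-Zassenhaus)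
-/

set_option autoImplicit false
set_option linter.unusedSectionVars false

namespace Cfsg.Agent.Lib.Helper17.DOMCoreC

open Cfsg.Agent.Lib.Helper8.DOM Finset

variable {F : Type*} [Field F] {G : Type*} [Group G] [Finite G]
variable {V : Type*} [AddCommGroup V] [Module F V]
variable (p : ℕ) [Fact p.Prime]

/-- a generator of `P`. -/
theorem exists_gen (P : Subgroup G) (hP : Nat.card P = p) :
    ∃ x ∈ P, (∀ y ∈ P, ∃ k : ℕ, y = x ^ k) ∧ x ^ p = 1 ∧ orderOf x = p := by
  have hcyc : IsCyclic P := isCyclic_of_prime_card hP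
  obtain ⟨g, hg⟩ := hcyc.exists_generator
  have hord : orderOf g = p := by rw [orderOf_eq_card_of_forall_mem_zpowers hg, hP]
  have hord' : orderOf (g : G) = p := by rw [Subgroup.orderOf_coe, hord]
  refine ⟨g, g.2, ?_, ?_, hord'⟩
  · intro y hy
    have h1 : (⟨y, hy⟩ : P) ∈ Subgroup.zpowers g := hg _
    rw [← mem_powers_iff_mem_zpowers, Submonoid.mem_powers_iff] at h1
    obtain ⟨k, hk⟩ := h1
    refine ⟨k, ?_⟩
    have := congrArg Subtype.val hk
    simpa using this.symm
  · rw [← hord']; exact pow_orderOf_eq_one _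

/-- `fixed ρ P = ker (ρ x - 1)`. -/
theorem fixed_eq_ker (ρ : Representation F G V) (P : Subgroup G) (x : G) (hx : x ∈ P)
    (hgen : ∀ y ∈ P, ∃ k : ℕ, y = x ^ k) :
    fixed ρ P = LinearMap.ker (ρ x - 1 : Module.End F V) := by
  ext v
  rw [mem_fixed, LinearMap.mem_ker, LinearMap.sub_apply, Module.End.one_apply, sub_eq_zero]
  constructor
  · intro h; exact h x hx
  · intro h y hy
    obtain ⟨k, rfl⟩ := hgen y hy
    rw [map_pow]
    clear hy
    induction k with
    | zero => simp
    | succ k ih => rw [pow_succ, Module.End.mul_apply, h, ih]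

section poly

variable [CharP F p]

open Polynomial in
theorem poly_sub_one_pow : ((Polynomial.X : F[X]) - 1) ^ p = Polynomial.X ^ p - 1 := by
  rw [sub_pow_char, one_pow]

open Polynomial in
theorem poly_geom : ∑ i ∈ range p, (Polynomial.X : F[X]) ^ i = (Polynomial.X - 1) ^ (p - 1) := by
  have hp : 0 < p := (Fact.out : p.Prime).pos
  have h1 : (∑ i ∈ range p, (Polynomial.X : F[X]) ^ i) * (Polynomial.X - 1) =
      (Polynomial.X - 1) ^ (p - 1) * (Polynomial.X - 1) := by
    rw [geom_sum_mul, ← pow_succ, Nat.sub_add_cancel hp, poly_sub_one_pow]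
  have hne : (Polynomial.X : F[X]) - 1 ≠ 0 := by
    have := Polynomial.X_sub_C_ne_zero (1 : F)
    simpa using this
  exact mul_right_cancel₀ hne h1

/-- `(Y - 1) ^ p = Y ^ p - 1` for an endomorphism in characteristic `p`. -/
theorem end_sub_one_pow (Y : Module.End F V) : (Y - 1) ^ p = Y ^ p - 1 := by
  have := congrArg (Polynomial.aeval Y) (poly_sub_one_pow (F := F) p)
  simpa using this

/-- `∑_{i<p} Y^i = (Y - 1)^(p-1)` for an endomorphism in characteristic `p`. -/
theorem end_geom (Y : Module.End F V) : ∑ i ∈ range p, Y ^ i = (Y - 1) ^ (p - 1) := by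
  have := congrArg (Polynomial.aeval Y) (poly_geom (F := F) p)
  simpa using this

/-- `X ^ p = 0`. -/
theorem X_pow_p (ρ : Representation F G V) (x : G) (hxp : x ^ p = 1) :
    (ρ x - 1 : Module.End F V) ^ p = 0 := by
  rw [end_sub_one_pow, ← map_pow, hxp, map_one, sub_self]

/-- `nrm ρ P = X ^ (p - 1)`. -/
theorem nrm_eq_pow (ρ : Representation F G V) (P : Subgroup G) (hP : Nat.card P = p) (x : G)
    (hx : x ∈ P) (hord : orderOf x = p) :
    nrm ρ P = (ρ x - 1 : Module.End F V) ^ (p - 1) := by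
  classical
  have _ : Fintype P := Fintype.ofFinite P
  rw [nrm_eq_sum, ← end_geom]
  let e : Fin p → P := fun i => ⟨x ^ (i : ℕ), P.pow_mem hx _⟩
  have hinj : Function.Injective e := by
    intro i j hij
    have h1 : x ^ (i : ℕ) = x ^ (j : ℕ) := congrArg Subtype.val hij
    have h2 := (pow_inj_mod).mp h1
    rw [hord, Nat.mod_eq_of_lt i.2, Nat.mod_eq_of_lt j.2] at h2
    exact Fin.ext h2
  have hbij : Function.Bijective e := by
    rw [Fintype.bijective_iff_injective_and_card]
    refine ⟨hinj, ?_⟩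
    rw [Fintype.card_fin, ← Nat.card_eq_fintype_card, hP]
  rw [← hbij.sum_comp (fun h : P => ρ (h : G))]
  rw [← Fin.sum_univ_eq_sum_range (fun i => (ρ x) ^ i) p]
  apply Finset.sum_congr rfl
  intro i _
  simp only [e, map_pow]

end poly

/-- stability under a geometric sum of powers of `Y`. -/
theorem geom_mem (Y : Module.End F V) (W : Submodule F V) (hW : ∀ w ∈ W, Y w ∈ W) (a : ℕ) :
    ∀ w ∈ W, (∑ j ∈ range a, Y ^ j) w ∈ W := by
  have hpow : ∀ j : ℕ, ∀ w ∈ W, (Y ^ j) w ∈ W := by
    intro j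
    induction j with
    | zero => intro w hw; simpa using hw
    | succ j ih =>
      intro w hw
      rw [pow_succ', Module.End.mul_apply]
      exact hW _ (ih w hw)
  intro w hw
  rw [LinearMap.sum_apply]
  exact Submodule.sum_mem _ (fun j _ => hpow j w hw)

theorem pow_mem_of_mem (Q : Module.End F V) (W : Submodule F V) (hW : ∀ w ∈ W, Q w ∈ W) (i : ℕ) :
    ∀ w ∈ W, (Q ^ i) w ∈ W := by
  induction i with
  | zero => intro w hw; simpa using hw
  | succ j ih =>
    intro w hw
    rw [pow_succ', Module.End.mul_apply]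
    exact hW _ (ih w hw)

/-- the twisted commutation relation of `g ∈ N_G(P)` with `X = ρ x - 1`. -/
theorem exists_twist (ρ : Representation F G V) (P : Subgroup G) (x : G) (hx : x ∈ P)
    (hgen : ∀ y ∈ P, ∃ k : ℕ, y = x ^ k) (g : G) (hg : g ∈ Nz P) :
    ∃ a : ℕ, (ρ g : Module.End F V) * (ρ x - 1) =
      (∑ j ∈ range a, (ρ x : Module.End F V) ^ j) * (ρ x - 1) * ρ g := by
  have h1 : g * x * g⁻¹ ∈ P := (Subgroup.mem_normalizer_iff.mp hg x).mp hx
  obtain ⟨a, ha⟩ := hgen _ h1
  refine ⟨a, ?_⟩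
  rw [geom_sum_mul, mul_sub, sub_mul, mul_one, one_mul, ← map_pow, ← map_mul, ← map_mul, ← ha]
  congr 2
  group

/-- powers of the twisted relation. -/
theorem twist_pow (R X Q : Module.End F V) (hQX : Commute Q X) (h : R * X = Q * X * R) (i : ℕ) :
    R * X ^ i = Q ^ i * X ^ i * R := by
  induction i with
  | zero => simp
  | succ i ih =>
    calc R * X ^ (i + 1) = (R * X ^ i) * X := by rw [pow_succ, mul_assoc]
      _ = Q ^ i * X ^ i * (R * X) := by rw [ih]; simp only [mul_assoc]
      _ = Q ^ i * X ^ i * (Q * X * R) := by rw [h]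
      _ = Q ^ i * (X ^ i * Q) * X * R := by simp only [mul_assoc]
      _ = Q ^ i * (Q * X ^ i) * X * R := by rw [(hQX.pow_right i).eq]
      _ = (Q ^ i * Q) * (X ^ i * X) * R := by simp only [mul_assoc]
      _ = Q ^ (i + 1) * X ^ (i + 1) * R := by rw [← pow_succ, ← pow_succ]

/-- a complement of `P` in its normalizer. -/
theorem exists_compl [CharP F p] (P : Subgroup G) (hP : Nat.card P = p)
    (hidx : ¬ p ∣ P.relIndex (Nz P)) :
    ∃ H : Subgroup G, H ≤ Nz P ∧ (Nat.card H : F) ≠ 0 ∧
      ∀ g ∈ Nz P, ∃ y ∈ P, ∃ h ∈ H, g = y * h := by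
  have hp : p.Prime := Fact.out
  have hPle : P ≤ Nz P := Subgroup.le_normalizer
  have hcardP' : Nat.card (P.subgroupOf (Nz P)) = p := by
    rw [← hP]
    exact Nat.card_congr (Subgroup.subgroupOfEquivOfLe hPle).toEquiv
  have hcop : Nat.Coprime (Nat.card (P.subgroupOf (Nz P))) (P.subgroupOf (Nz P)).index := by
    rw [hcardP']
    exact (Nat.Prime.coprime_iff_not_dvd hp).mpr hidx
  obtain ⟨H', hH'⟩ := Subgroup.exists_right_complement'_of_coprime hcop
  refine ⟨H'.map (Nz P).subtype, Subgroup.map_subtype_le H', ?_, ?_⟩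
  · have h1 : Nat.card (H'.map (Nz P).subtype) = Nat.card H' :=
      Subgroup.card_map_of_injective (Subgroup.subtype_injective _)
    have h2 := hH'.card_mul_card
    have h3 := (P.subgroupOf (Nz P)).card_mul_index
    have h4 : Nat.card H' = (P.subgroupOf (Nz P)).index := by
      have h5 : Nat.card (P.subgroupOf (Nz P)) * Nat.card H' =
          Nat.card (P.subgroupOf (Nz P)) * (P.subgroupOf (Nz P)).index := by rw [h2, h3]
      exact Nat.eq_of_mul_eq_mul_left (by rw [hcardP']; exact hp.pos) h5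
    rw [h1, h4]
    intro h0
    exact hidx ((CharP.cast_eq_zero_iff F p _).mp h0)
  · intro g hg
    obtain ⟨⟨y, h⟩, hyh, _⟩ := (Subgroup.isComplement'_def.mp hH').existsUnique ⟨g, hg⟩
    refine ⟨(y : Nz P), y.2, (h : Nz P), ⟨h, h.2, rfl⟩, ?_⟩
    have := congrArg Subtype.val hyh
    simpa using this.symm

end Cfsg.Agent.Lib.Helper17.DOMCoreC
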