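import Mathlib
import Cfsg.Agent.Lib.Helper8.DOMDefs
import Cfsg.Agent.Lib.Helper17.DOMCoreA
import Cfsg.Agent.Lib.Helper17.DOMCoreB
import Cfsg.Agent.Lib.Helper17.DOMCoreC

/-!
# DOM-CORE, part D (helper17): assembly of `exists_summand`

Route (no minimal-`U` argument, no quotient modules): `x` a generator of `P`, `X = ρ x - 1`, `n` the
nilpotency index of `X` on `V₀`, `H` a complement of `P` in `N = N_G(P)` (Schur-Zassenhaus; `p ∤ |H|`).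
`S₁` a minimal nonzero `N`-stable subspace of `X^(n-1) V₀`; `T` an `H`-stable complement of
`V₀ ⊓ ker X^(n-1)` in `V₀ ⊓ (X^(n-1))⁻¹ S₁` (Maschke for `H`); `U = ∑_{i<n} X^i T` is free over
`F[X]/(X^n)`, `N`-stable, `U ⊓ ker X = X^(n-1) T = S₁`; an explicit `X`-equivariant retraction
`π₀ : V₀ → U`, averaged over `H`, gives the `N`-stable complement.
-/

set_option autoImplicit false

namespace Cfsg.Agent.Lib.Helper17.DOMCoreD

open Cfsg.Agent.Lib.Helper8.DOM Finset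
open Cfsg.Agent.Lib.Helper17

variable {F : Type*} [Field F] {G : Type*} [Group G] [Finite G]
variable {V : Type*} [AddCommGroup V] [Module F V]
variable (p : ℕ) [Fact p.Prime] [CharP F p]

theorem exists_summand_core [FiniteDimensional F V] (ρ : Representation F G V) (P : Subgroup G)
    (hP : Nat.card P = p) (hidx : ¬ p ∣ P.relIndex (Nz P))
    (V₀ : Submodule F V) (hV₀ : IsInv ρ (Nz P) V₀) (hne : V₀ ≠ ⊥) :
    ∃ U V₁ : Submodule F V, IsInv ρ (Nz P) U ∧ IsInv ρ (Nz P) V₁ ∧ U ≠ ⊥ ∧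
      Disjoint U V₁ ∧ U ⊔ V₁ = V₀ ∧
      (∀ W : Submodule F V, IsInv ρ (Nz P) W → W ≤ U ⊓ fixed ρ P →
        W = ⊥ ∨ W = U ⊓ fixed ρ P) ∧
      (U ≤ LinearMap.ker (nrm ρ P) ∨ U ⊓ fixed ρ P ≤ U.map (nrm ρ P)) := by
  classical
  have hp : p.Prime := Fact.out
  obtain ⟨x, hxP, hgen, hxp, hord⟩ := DOMCoreC.exists_gen p P hP
  have hPle : P ≤ Nz P := Subgroup.le_normalizer
  have hfix0 := DOMCoreC.fixed_eq_ker ρ P x hxP hgen
  have hnrm0 := DOMCoreC.nrm_eq_pow (F := F) p ρ P hP x hxP hord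
  have hXp0 := DOMCoreC.X_pow_p (F := F) p ρ x hxp
  have htwist0 := DOMCoreC.exists_twist ρ P x hxP hgen
  obtain ⟨Y, hYdef⟩ : ∃ Y : Module.End F V, Y = ρ x := ⟨_, rfl⟩
  obtain ⟨X, hXdef⟩ : ∃ X : Module.End F V, X = Y - 1 := ⟨_, rfl⟩
  rw [← hYdef, ← hXdef] at hfix0 hnrm0 hXp0
  have hYX : ∀ v, Y v = X v + v := by
    intro v
    rw [hXdef, LinearMap.sub_apply, Module.End.one_apply, sub_add_cancel]
  -- `V₀` is `Y`- and `X`-stable
  have hV₀Y : ∀ v ∈ V₀, Y v ∈ V₀ := fun v hv => by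
    rw [hYdef]; exact hV₀ x (hPle hxP) v hv
  have hV₀X : ∀ v ∈ V₀, X v ∈ V₀ := by
    intro v hv
    rw [hXdef, LinearMap.sub_apply, Module.End.one_apply]
    exact V₀.sub_mem (hV₀Y v hv) hv
  -- `Y`-stable subspaces are stable under `ρ y`, `y ∈ P`
  have hPstab : ∀ W : Submodule F V, (∀ w ∈ W, Y w ∈ W) → ∀ y ∈ P, ∀ w ∈ W, ρ y w ∈ W := by
    intro W hW y hy w hw
    obtain ⟨k, rfl⟩ := hgen y hy
    rw [map_pow, ← hYdef]
    exact DOMCoreC.pow_mem_of_mem Y W hW k w hw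
  -- nilpotency index
  have hex : ∃ n, ∀ v ∈ V₀, (X ^ n) v = 0 := ⟨p, fun v _ => by rw [hXp0]; rfl⟩
  obtain ⟨n, hnfind⟩ : ∃ n, n = Nat.find hex := ⟨_, rfl⟩
  have hXn : ∀ v ∈ V₀, (X ^ n) v = 0 := by rw [hnfind]; exact Nat.find_spec hex
  have hnp : n ≤ p := by
    rw [hnfind]; exact Nat.find_min' hex (fun v _ => by rw [hXp0]; rfl)
  have hn0 : 0 < n := by
    by_contra h0
    have hn0' : n = 0 := by omega
    apply hne
    rw [eq_bot_iff]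
    intro v hv
    have := hXn v hv
    rw [hn0', pow_zero, Module.End.one_apply] at this
    rw [Submodule.mem_bot]; exact this
  have hXn1 : ∃ v ∈ V₀, (X ^ (n - 1)) v ≠ 0 := by
    by_contra hcon
    push Not at hcon
    have hlt : n - 1 < Nat.find hex := by rw [← hnfind]; omega
    exact Nat.find_min hex hlt hcon
  have hhigh : ∀ k, n ≤ k → ∀ v ∈ V₀, (X ^ k) v = 0 := by
    intro k hk v hv
    obtain ⟨j, rfl⟩ := Nat.exists_eq_add_of_le hk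
    rw [add_comm, pow_add, Module.End.mul_apply, hXn v hv, map_zero]
  -- the complement `H`
  obtain ⟨H, hHN, hHc, hdecomp⟩ := DOMCoreC.exists_compl (F := F) p P hP hidx
  -- twisted relations
  have htw : ∀ g ∈ Nz P, ∃ Q : Module.End F V,
      (∀ W : Submodule F V, (∀ w ∈ W, Y w ∈ W) → ∀ w ∈ W, Q w ∈ W) ∧
      ∀ i, (ρ g : Module.End F V) * X ^ i = Q ^ i * X ^ i * ρ g := by
    intro g hg
    obtain ⟨a, ha⟩ := htwist0 g hg
    rw [← hYdef, ← hXdef] at ha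
    have hcomm : Commute (∑ j ∈ range a, Y ^ j) X := by
      apply Commute.sum_left
      intro j _
      rw [hXdef]
      exact ((Commute.refl Y).pow_left j).sub_right (Commute.one_right _)
    exact ⟨∑ j ∈ range a, Y ^ j, fun W hW => DOMCoreC.geom_mem Y W hW a,
      fun i => DOMCoreC.twist_pow _ X _ hcomm ha i⟩
  have htw' : ∀ g ∈ Nz P, ∃ Q : Module.End F V,
      (∀ W : Submodule F V, (∀ w ∈ W, Y w ∈ W) → ∀ w ∈ W, Q w ∈ W) ∧
      ∀ i, X ^ i * (ρ g : Module.End F V) = ρ g * (Q ^ i * X ^ i) := by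
    intro g hg
    obtain ⟨Q, hQW, hQ⟩ := htw g⁻¹ (inv_mem hg)
    refine ⟨Q, hQW, fun i => ?_⟩
    have h1 := hQ i
    calc X ^ i * (ρ g : Module.End F V)
        = ρ g * (ρ g⁻¹ * X ^ i) * ρ g := by
          rw [← mul_assoc, ← map_mul, mul_inv_cancel, map_one, one_mul]
      _ = ρ g * (Q ^ i * X ^ i * ρ g⁻¹) * ρ g := by rw [h1]
      _ = ρ g * (Q ^ i * X ^ i) * (ρ g⁻¹ * ρ g) := by simp only [mul_assoc]
      _ = ρ g * (Q ^ i * X ^ i) := by rw [← map_mul, inv_mul_cancel, map_one, mul_one]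
  -- `S = X^(n-1) V₀`
  obtain ⟨S, hSdef⟩ : ∃ S : Submodule F V, S = V₀.map (X ^ (n - 1)) := ⟨_, rfl⟩
  have hSker : ∀ s ∈ S, X s = 0 := by
    intro s hs
    rw [hSdef] at hs
    obtain ⟨v, hv, rfl⟩ := hs
    rw [← Module.End.mul_apply, ← pow_succ']
    have : n - 1 + 1 = n := by omega
    rw [this]; exact hXn v hv
  have hkerY : ∀ W : Submodule F V, (∀ w ∈ W, X w = 0) → ∀ w ∈ W, Y w ∈ W := by
    intro W hW w hw
    rw [hYX, hW w hw, zero_add]; exact hw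
  have hSinv : IsInv ρ (Nz P) S := by
    intro g hg s hs
    obtain ⟨Q, hQW, hQ⟩ := htw g hg
    have hs' := hs
    rw [hSdef] at hs
    obtain ⟨v, hv, rfl⟩ := hs
    have h1 : ρ g ((X ^ (n - 1)) v) = (Q ^ (n - 1)) ((X ^ (n - 1)) (ρ g v)) := by
      have := LinearMap.congr_fun (hQ (n - 1)) v
      simpa [Module.End.mul_apply] using this
    rw [h1]
    apply DOMCoreC.pow_mem_of_mem Q S (hQW S (hkerY S hSker))
    rw [hSdef]
    exact ⟨ρ g v, hV₀ g hg v hv, rfl⟩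
  have hSne : S ≠ ⊥ := by
    obtain ⟨v, hv, hv0⟩ := hXn1
    intro hbot
    apply hv0
    have : (X ^ (n - 1)) v ∈ S := by rw [hSdef]; exact ⟨v, hv, rfl⟩
    rw [hbot, Submodule.mem_bot] at this
    exact this
  have hSV₀ : S ≤ V₀ := by
    rw [hSdef]
    rintro _ ⟨v, hv, rfl⟩
    exact DOMCoreC.pow_mem_of_mem X V₀ hV₀X (n - 1) v hv
  -- a minimal nonzero `N`-stable subspace `S₁` of `S`
  let 𝒮 : Set (Submodule F V) := {W | W ≤ S ∧ W ≠ ⊥ ∧ IsInv ρ (Nz P) W}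
  have h𝒮 : 𝒮.Nonempty := ⟨S, le_rfl, hSne, hSinv⟩
  obtain ⟨S₁, hS₁mem, hS₁min⟩ := wellFounded_lt.has_min 𝒮 h𝒮
  obtain ⟨hS₁S, hS₁ne, hS₁inv⟩ := hS₁mem
  have hS₁ker : ∀ s ∈ S₁, X s = 0 := fun s hs => hSker s (hS₁S hs)
  have hS₁Y : ∀ w ∈ S₁, Y w ∈ S₁ := hkerY S₁ hS₁ker
  -- `K₀` and `V₀'`
  obtain ⟨K₀, hK₀def⟩ : ∃ K₀ : Submodule F V, K₀ = V₀ ⊓ LinearMap.ker (X ^ (n - 1)) := ⟨_, rfl⟩
  obtain ⟨V₀', hV₀'def⟩ : ∃ V₀' : Submodule F V, V₀' = V₀ ⊓ S₁.comap (X ^ (n - 1)) := ⟨_, rfl⟩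
  have hrev : ∀ g ∈ Nz P, ∃ Q : Module.End F V,
      (∀ W : Submodule F V, (∀ w ∈ W, Y w ∈ W) → ∀ w ∈ W, Q w ∈ W) ∧
      ∀ v, (X ^ (n - 1)) (ρ g v) = ρ g ((Q ^ (n - 1)) ((X ^ (n - 1)) v)) := by
    intro g hg
    obtain ⟨Q, hQW, hQ⟩ := htw' g hg
    refine ⟨Q, hQW, fun v => ?_⟩
    have := LinearMap.congr_fun (hQ (n - 1)) v
    simpa [Module.End.mul_apply] using this
  have hK₀inv : IsInv ρ (Nz P) K₀ := by
    intro g hg v hv
    rw [hK₀def] at hv ⊢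
    obtain ⟨Q, _, hQ⟩ := hrev g hg
    refine ⟨hV₀ g hg v hv.1, ?_⟩
    have hv2 : (X ^ (n - 1)) v = 0 := hv.2
    rw [SetLike.mem_coe, LinearMap.mem_ker, hQ, hv2, map_zero, map_zero]
  have hV₀'inv : IsInv ρ (Nz P) V₀' := by
    intro g hg v hv
    rw [hV₀'def] at hv ⊢
    obtain ⟨Q, hQW, hQ⟩ := hrev g hg
    refine ⟨hV₀ g hg v hv.1, ?_⟩
    have hv2 : (X ^ (n - 1)) v ∈ S₁ := hv.2
    show (X ^ (n - 1)) (ρ g v) ∈ S₁
    rw [hQ]
    exact hS₁inv g hg _ (DOMCoreC.pow_mem_of_mem Q S₁ (hQW S₁ hS₁Y) (n - 1) _ hv2)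
  have hK₀V₀' : K₀ ≤ V₀' := by
    rw [hK₀def, hV₀'def]
    intro v hv
    refine ⟨hv.1, ?_⟩
    have hv2 : (X ^ (n - 1)) v = 0 := hv.2
    show (X ^ (n - 1)) v ∈ S₁
    rw [hv2]; exact S₁.zero_mem
  have hHinv : ∀ W : Submodule F V, IsInv ρ (Nz P) W → IsInv ρ H W :=
    fun W hW h hh w hw => hW h (hHN hh) w hw
  -- Maschke for `H`
  obtain ⟨T, hTV₀', hTinv, hKT, hKTsup⟩ :=
    DOMCoreB.exists_stable_compl ρ H hHc K₀ V₀' hK₀V₀' (hHinv K₀ hK₀inv) (hHinv V₀' hV₀'inv)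
  have hT : T ≤ V₀ := fun t ht => by
    have := hTV₀' ht
    rw [hV₀'def] at this
    exact this.1
  have hT0 : ∀ t ∈ T, (X ^ (n - 1)) t = 0 → t = 0 := by
    intro t ht h0
    have h1 : t ∈ K₀ ⊓ T := by
      refine ⟨?_, ht⟩
      rw [hK₀def]
      exact ⟨hT ht, h0⟩
    rw [hKT, Submodule.mem_bot] at h1
    exact h1
  have hTn : ∀ t ∈ T, (X ^ n) t = 0 := fun t ht => hXn t (hT ht)
  have hTS₁ : T.map (X ^ (n - 1)) = S₁ := by
    apply le_antisymm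
    · rintro _ ⟨t, ht, rfl⟩
      have := hTV₀' ht
      rw [hV₀'def] at this
      exact this.2
    · intro s hs
      have hsS := hS₁S hs
      rw [hSdef] at hsS
      obtain ⟨v, hv, rfl⟩ := hsS
      have hvV₀' : v ∈ V₀' := by
        rw [hV₀'def]; exact ⟨hv, hs⟩
      rw [← hKTsup] at hvV₀'
      obtain ⟨k, hk, t, ht, rfl⟩ := Submodule.mem_sup.mp hvV₀'
      refine ⟨t, ht, ?_⟩
      rw [hK₀def] at hk
      have hk2 : (X ^ (n - 1)) k = 0 := hk.2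
      rw [map_add, hk2, zero_add]
  -- `U`
  obtain ⟨U, hUdef⟩ : ∃ U : Submodule F V, U = LinearMap.range (DOMCoreA.Phi X T n) := ⟨_, rfl⟩
  have hUle : U ≤ V₀ := by rw [hUdef]; exact DOMCoreA.range_le hT hV₀X
  have hUX : ∀ u ∈ U, X u ∈ U := by rw [hUdef]; exact DOMCoreA.X_mem_range hTn
  have hTU : T ≤ U := by rw [hUdef]; exact DOMCoreA.T_le_range hn0
  have hUker : U ⊓ LinearMap.ker X = S₁ := by
    rw [hUdef, DOMCoreA.range_inf_ker hn0 hT0 hTn, hTS₁]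
  have hpowU : ∀ k, ∀ t ∈ T, (X ^ k) t ∈ U := by
    rw [hUdef]; exact fun k t ht => DOMCoreA.pow_mem_range hTn k t ht
  obtain ⟨π₀, hπ₀U, hπ₀id, hπ₀X⟩ := DOMCoreA.exists_retraction (V₀ := V₀) hn0 hT hXn hT0
  rw [← hUdef] at hπ₀U hπ₀id
  have hUY : ∀ u ∈ U, Y u ∈ U := by
    intro u hu
    rw [hYX]; exact U.add_mem (hUX u hu) hu
  have hUH : IsInv ρ H U := by
    intro h hh u hu
    obtain ⟨Q, hQW, hQ⟩ := htw h (hHN hh)
    rw [hUdef] at hu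
    obtain ⟨t, rfl⟩ := hu
    rw [DOMCoreA.Phi_apply, map_sum]
    apply Submodule.sum_mem
    intro i _
    have h1 : ρ h ((X ^ (i : ℕ)) (t i : V)) = (Q ^ (i : ℕ)) ((X ^ (i : ℕ)) (ρ h (t i : V))) := by
      have := LinearMap.congr_fun (hQ (i : ℕ)) (t i : V)
      simpa [Module.End.mul_apply] using this
    rw [h1]
    exact DOMCoreC.pow_mem_of_mem Q U (hQW U hUY) _ _ (hpowU _ _ (hTinv h hh _ (t i).2))
  have hNstab : ∀ W : Submodule F V, (∀ w ∈ W, Y w ∈ W) → IsInv ρ H W → IsInv ρ (Nz P) W := by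
    intro W hWY hWH g hg w hw
    obtain ⟨y, hy, h, hh, rfl⟩ := hdecomp g hg
    rw [map_mul, Module.End.mul_apply]
    exact hPstab W hWY y hy _ (hWH h hh w hw)
  have hUinv : IsInv ρ (Nz P) U := hNstab U hUY hUH
  -- the averaged projection
  obtain ⟨π, hπdef⟩ : ∃ π : V →ₗ[F] V, π = DOMCoreB.avg ρ H π₀ := ⟨_, rfl⟩
  have hπU : ∀ v, π v ∈ U := by
    rw [hπdef]; exact DOMCoreB.avg_mem ρ H π₀ U hUH hπ₀U
  have hπid : ∀ u ∈ U, π u = u := by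
    rw [hπdef]; exact DOMCoreB.avg_eq_self ρ H hHc π₀ U hUH hπ₀id
  have hπH : ∀ h ∈ H, ∀ v, ρ h (π v) = π (ρ h v) := by
    rw [hπdef]; exact fun h hh v => DOMCoreB.avg_comm ρ H π₀ h hh v
  have hπ₀Y : ∀ k : ℕ, ∀ v ∈ V₀, π₀ ((Y ^ k) v) = (Y ^ k) (π₀ v) := by
    intro k
    induction k with
    | zero => intro v _; simp
    | succ k ih =>
      intro v hv
      have hk : (Y ^ k) v ∈ V₀ := DOMCoreC.pow_mem_of_mem Y V₀ hV₀Y k v hv
      rw [pow_succ', Module.End.mul_apply, Module.End.mul_apply, hYX, map_add, hπ₀X _ hk, ih v hv,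
        ← hYX]
  have hπP : ∀ y ∈ P, ∀ v ∈ V₀, π (ρ y v) = ρ y (π v) := by
    intro y hy v hv
    rw [hπdef]
    apply DOMCoreB.avg_equivariant ρ H π₀ V₀ (hHinv V₀ hV₀) y _ v hv
    intro h hh w hw
    have hconj : h⁻¹ * y * h ∈ P := by
      have := (Subgroup.mem_normalizer_iff''.mp (hHN hh) y).mp hy
      exact this
    obtain ⟨k, hk⟩ := hgen _ hconj
    rw [hk, map_pow, ← hYdef]
    exact hπ₀Y k w hw
  obtain ⟨V₁, hV₁def⟩ : ∃ V₁ : Submodule F V, V₁ = V₀ ⊓ LinearMap.ker π := ⟨_, rfl⟩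
  have hV₁H : IsInv ρ H V₁ := by
    intro h hh v hv
    rw [hV₁def] at hv ⊢
    refine ⟨hV₀ h (hHN hh) v hv.1, ?_⟩
    have hv2 : π v = 0 := hv.2
    rw [SetLike.mem_coe, LinearMap.mem_ker, ← hπH h hh, hv2, map_zero]
  have hV₁P : ∀ y ∈ P, ∀ v ∈ V₁, ρ y v ∈ V₁ := by
    intro y hy v hv
    rw [hV₁def] at hv ⊢
    refine ⟨hV₀ y (hPle hy) v hv.1, ?_⟩
    have hv2 : π v = 0 := hv.2
    rw [SetLike.mem_coe, LinearMap.mem_ker, hπP y hy v hv.1, hv2, map_zero]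
  have hV₁inv : IsInv ρ (Nz P) V₁ := by
    intro g hg w hw
    obtain ⟨y, hy, h, hh, rfl⟩ := hdecomp g hg
    rw [map_mul, Module.End.mul_apply]
    exact hV₁P y hy _ (hV₁H h hh w hw)
  have hUfix : U ⊓ fixed ρ P = S₁ := by rw [hfix0, hUker]
  refine ⟨U, V₁, hUinv, hV₁inv, ?_, ?_, ?_, ?_, ?_⟩
  · intro hbot
    apply hS₁ne
    rw [← hUker, hbot, bot_inf_eq]
  · rw [Submodule.disjoint_def]
    intro u hu hu1
    rw [hV₁def] at hu1
    have h2 : π u = 0 := hu1.2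
    rw [← hπid u hu, h2]
  · apply le_antisymm
    · apply sup_le hUle
      rw [hV₁def]; exact inf_le_left
    · intro v hv
      have h1 : v = π v + (v - π v) := by abel
      rw [h1]
      apply Submodule.add_mem_sup (hπU v)
      rw [hV₁def]
      refine ⟨V₀.sub_mem hv (hUle (hπU v)), ?_⟩
      rw [SetLike.mem_coe, LinearMap.mem_ker, map_sub, hπid _ (hπU v), sub_self]
  · intro W hW hWle
    rw [hUfix] at hWle ⊢
    by_cases hWbot : W = ⊥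
    · left; exact hWbot
    · right
      rcases lt_or_eq_of_le hWle with hlt | heq
      · exact absurd hlt (hS₁min W ⟨hWle.trans hS₁S, hWbot, hW⟩)
      · exact heq
  · rw [hnrm0]
    by_cases hnlt : n < p
    · left
      intro u hu
      rw [LinearMap.mem_ker]
      exact hhigh (p - 1) (by omega) u (hUle hu)
    · right
      have hnp' : n = p := by omega
      rw [hUfix, ← hTS₁, hnp']
      exact Submodule.map_mono hTU

end Cfsg.Agent.Lib.Helper17.DOMCoreD
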