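import Mathlib
import Cfsg.Prelude.Def_BlockRank
import Cfsg.Agent.Lib.Helper8.DOMDefs
import Cfsg.Agent.Lib.Helper27.BlkAlgDefs2
import Cfsg.Agent.Lib.Helper27.BlkAlgL3
import Cfsg.Agent.Lib.Helper19.BlkAlgB1
import Cfsg.Agent.Lib.Helper18.BlkAlgB3
import Cfsg.Agent.Lib.Helper17.DOMCoreD

/-!
# DOM-CORE (helper17): `exists_summand`, exact name + binders of `notes/S4442_M_leaves.lean`
(the proof is `Cfsg.Agent.Lib.Helper17.DOMCoreD.exists_summand_core`, which imports only Mathlib +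
`Helper8.DOMDefs`).
-/

set_option autoImplicit false

namespace Cfsg.Agent.Lib.Helper17.DOMCORE

open Cfsg Cfsg.Agent.Lib.Helper8.DOM Cfsg.Agent.Lib.Helper27.BlkAlg

universe u v w

section modules

variable {F : Type u} [Field F] {G : Type v} [Group G] [Finite G]
variable {V : Type w} [AddCommGroup V] [Module F V]
variable (p : ℕ) [Fact p.Prime] [CharP F p]

/-- CORE -/
theorem exists_summand [FiniteDimensional F V] (ρ : Representation F G V) (P : Subgroup G)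
    (hP : Nat.card P = p) (hidx : ¬ p ∣ P.relIndex (Nz P))
    (V₀ : Submodule F V) (hV₀ : IsInv ρ (Nz P) V₀) (hne : V₀ ≠ ⊥) :
    ∃ U V₁ : Submodule F V, IsInv ρ (Nz P) U ∧ IsInv ρ (Nz P) V₁ ∧ U ≠ ⊥ ∧
      Disjoint U V₁ ∧ U ⊔ V₁ = V₀ ∧
      (∀ W : Submodule F V, IsInv ρ (Nz P) W → W ≤ U ⊓ fixed ρ P →
        W = ⊥ ∨ W = U ⊓ fixed ρ P) ∧
      (U ≤ LinearMap.ker (nrm ρ P) ∨ U ⊓ fixed ρ P ≤ U.map (nrm ρ P)) :=
  Cfsg.Agent.Lib.Helper17.DOMCoreD.exists_summand_core p ρ P hP hidx V₀ hV₀ hne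

end modules

end Cfsg.Agent.Lib.Helper17.DOMCORE
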