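import Mathlib
import Cfsg.Prelude.Def_BlockRank
import Cfsg.Agent.Lib.Helper8.DOMDefs
import Cfsg.Agent.Lib.Helper27.BlkAlgDefs2
import Cfsg.Agent.Lib.Helper27.BlkAlgL3
import Cfsg.Agent.Lib.Helper19.BlkAlgB1
import Cfsg.Agent.Lib.Helper18.BlkAlgB3

/-!
# DOM-DECOMP (helper17): `exists_decomp_of`

Strong induction on the dimension of an `N`-stable subspace `V₀`: split off a summand by `hcore`, apply
the induction hypothesis to the complement.
-/

set_option autoImplicit false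
set_option linter.unusedSectionVars false

namespace Cfsg.Agent.Lib.Helper17.DOMDECOMP

open Cfsg Cfsg.Agent.Lib.Helper8.DOM Cfsg.Agent.Lib.Helper27.BlkAlg

universe u v w

section modules

variable {F : Type u} [Field F] {G : Type v} [Group G] [Finite G]
variable {V : Type w} [AddCommGroup V] [Module F V]

/-- independence of a family extended by a summand disjoint from its span. -/
theorem iSupIndep_cons {n : ℕ} (U₀ : Submodule F V) (U : Fin n → Submodule F V) (V₁ : Submodule F V)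
    (hind : iSupIndep U) (hsup : (⨆ i, U i) = V₁) (hdisj : Disjoint U₀ V₁) :
    iSupIndep (Fin.cons U₀ U : Fin (n + 1) → Submodule F V) := by
  rw [iSupIndep_def]
  intro i
  refine Fin.cases ?_ (fun k => ?_) i
  · -- `i = 0`
    have hle : (⨆ (j : Fin (n + 1)) (_ : j ≠ 0), (Fin.cons U₀ U : Fin (n + 1) → Submodule F V) j)
        ≤ V₁ := by
      apply iSup_le
      intro j
      apply iSup_le
      intro hj
      obtain ⟨l, rfl⟩ := Fin.exists_succ_eq.mpr hj
      rw [Fin.cons_succ, ← hsup]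
      exact le_iSup U l
    rw [Fin.cons_zero]
    exact hdisj.mono_right hle
  · -- `i = succ k`
    have hle : (⨆ (j : Fin (n + 1)) (_ : j ≠ k.succ),
        (Fin.cons U₀ U : Fin (n + 1) → Submodule F V) j) ≤ U₀ ⊔ ⨆ (l : Fin n) (_ : l ≠ k), U l := by
      apply iSup_le
      intro j
      apply iSup_le
      intro hj
      refine Fin.cases ?_ (fun l => ?_) j (motive := fun j => j ≠ k.succ →
        (Fin.cons U₀ U : Fin (n + 1) → Submodule F V) j ≤ U₀ ⊔ ⨆ (l : Fin n) (_ : l ≠ k), U l) hj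
      · intro _
        rw [Fin.cons_zero]
        exact le_sup_left
      · intro hl
        rw [Fin.cons_succ]
        have hlk : l ≠ k := fun h => hl (by rw [h])
        exact le_sup_of_le_right (le_iSup₂ (f := fun (l : Fin n) (_ : l ≠ k) => U l) l hlk)
    rw [Fin.cons_succ]
    refine Disjoint.mono_right hle ?_
    rw [Submodule.disjoint_def]
    intro v hv hv'
    obtain ⟨u₀, hu₀, w, hw, rfl⟩ := Submodule.mem_sup.mp hv'
    have hkV₁ : U k ≤ V₁ := by rw [← hsup]; exact le_iSup U k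
    have hwV₁ : w ∈ V₁ := by
      have : (⨆ (l : Fin n) (_ : l ≠ k), U l) ≤ V₁ := by
        apply iSup_le
        intro l
        apply iSup_le
        intro _
        rw [← hsup]; exact le_iSup U l
      exact this hw
    have hu₀0 : u₀ = 0 := by
      have h1 : u₀ ∈ V₁ := by
        have : u₀ = (u₀ + w) - w := by abel
        rw [this]
        exact V₁.sub_mem (hkV₁ hv) hwV₁
      exact (Submodule.disjoint_def.mp hdisj) u₀ hu₀ h1
    rw [hu₀0, zero_add] at hv ⊢
    exact (Submodule.disjoint_def.mp ((iSupIndep_def.mp hind) k)) w hv hw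

theorem iSup_cons {n : ℕ} (U₀ : Submodule F V) (U : Fin n → Submodule F V) :
    (⨆ i, (Fin.cons U₀ U : Fin (n + 1) → Submodule F V) i) = U₀ ⊔ ⨆ i, U i := by
  apply le_antisymm
  · apply iSup_le
    intro i
    refine Fin.cases ?_ (fun k => ?_) i
    · rw [Fin.cons_zero]; exact le_sup_left
    · rw [Fin.cons_succ]; exact le_sup_of_le_right (le_iSup U k)
  · apply sup_le
    · have := le_iSup (Fin.cons U₀ U : Fin (n + 1) → Submodule F V) 0
      rwa [Fin.cons_zero] at this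
    · apply iSup_le
      intro k
      have := le_iSup (Fin.cons U₀ U : Fin (n + 1) → Submodule F V) k.succ
      rwa [Fin.cons_succ] at this

theorem decomp_aux [FiniteDimensional F V] (ρ : Representation F G V) (P : Subgroup G)
    (hcore : ∀ V₀ : Submodule F V, IsInv ρ (Nz P) V₀ → V₀ ≠ ⊥ →
      ∃ U V₁ : Submodule F V, IsInv ρ (Nz P) U ∧ IsInv ρ (Nz P) V₁ ∧ U ≠ ⊥ ∧
        Disjoint U V₁ ∧ U ⊔ V₁ = V₀ ∧
        (∀ W : Submodule F V, IsInv ρ (Nz P) W → W ≤ U ⊓ fixed ρ P →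
          W = ⊥ ∨ W = U ⊓ fixed ρ P) ∧
        (U ≤ LinearMap.ker (nrm ρ P) ∨ U ⊓ fixed ρ P ≤ U.map (nrm ρ P))) :
    ∀ (d : ℕ) (V₀ : Submodule F V), Module.finrank F V₀ = d → IsInv ρ (Nz P) V₀ →
    ∃ (n : ℕ) (U : Fin n → Submodule F V), iSupIndep U ∧ (⨆ i, U i) = V₀ ∧
      ∀ i, IsInv ρ (Nz P) (U i) ∧
        (∀ W : Submodule F V, IsInv ρ (Nz P) W → W ≤ U i ⊓ fixed ρ P →
          W = ⊥ ∨ W = U i ⊓ fixed ρ P) ∧
        (U i ≤ LinearMap.ker (nrm ρ P) ∨ U i ⊓ fixed ρ P ≤ (U i).map (nrm ρ P)) := by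
  intro d
  induction d using Nat.strong_induction_on with
  | _ d ih =>
    intro V₀ hd hV₀
    by_cases hbot : V₀ = ⊥
    · refine ⟨0, fun i => i.elim0, iSupIndep_subsingleton _, ?_, fun i => i.elim0⟩
      rw [hbot]
      exact iSup_of_empty _
    · obtain ⟨U₀, V₁, hU₀inv, hV₁inv, hU₀ne, hdisj, hsup, hsimple, hlast⟩ := hcore V₀ hV₀ hbot
      have hrank : Module.finrank F V₁ < d := by
        have h1 := Submodule.finrank_sup_add_finrank_inf_eq U₀ V₁
        rw [hsup, hdisj.eq_bot, finrank_bot, add_zero, hd] at h1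
        have h2 : 0 < Module.finrank F U₀ := by
          rw [Module.finrank_pos_iff, Submodule.nontrivial_iff_ne_bot]
          exact hU₀ne
        omega
      obtain ⟨n, U, hind, hUsup, hU⟩ := ih _ hrank V₁ rfl hV₁inv
      refine ⟨n + 1, Fin.cons U₀ U, iSupIndep_cons U₀ U V₁ hind hUsup hdisj, ?_, ?_⟩
      · rw [iSup_cons, hUsup, hsup]
      · intro i
        refine Fin.cases ?_ (fun k => ?_) i
        · rw [Fin.cons_zero]
          exact ⟨hU₀inv, hsimple, hlast⟩
        · rw [Fin.cons_succ]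
          exact hU k

/-- DECOMP (`_of` form over CORE) -/
theorem exists_decomp_of [FiniteDimensional F V] (ρ : Representation F G V) (P : Subgroup G)
    (hcore : ∀ V₀ : Submodule F V, IsInv ρ (Nz P) V₀ → V₀ ≠ ⊥ →
      ∃ U V₁ : Submodule F V, IsInv ρ (Nz P) U ∧ IsInv ρ (Nz P) V₁ ∧ U ≠ ⊥ ∧
        Disjoint U V₁ ∧ U ⊔ V₁ = V₀ ∧
        (∀ W : Submodule F V, IsInv ρ (Nz P) W → W ≤ U ⊓ fixed ρ P →
          W = ⊥ ∨ W = U ⊓ fixed ρ P) ∧
        (U ≤ LinearMap.ker (nrm ρ P) ∨ U ⊓ fixed ρ P ≤ U.map (nrm ρ P))) :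
    ∃ (n : ℕ) (U : Fin n → Submodule F V), iSupIndep U ∧ (⨆ i, U i) = ⊤ ∧
      ∀ i, IsInv ρ (Nz P) (U i) ∧
        (∀ W : Submodule F V, IsInv ρ (Nz P) W → W ≤ U i ⊓ fixed ρ P →
          W = ⊥ ∨ W = U i ⊓ fixed ρ P) ∧
        (U i ≤ LinearMap.ker (nrm ρ P) ∨ U i ⊓ fixed ρ P ≤ (U i).map (nrm ρ P)) :=
  decomp_aux ρ P hcore _ ⊤ rfl (fun _ _ _ _ => Submodule.mem_top)

end modules

end Cfsg.Agent.Lib.Helper17.DOMDECOMP
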