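import Mathlib

/-!
Chevalley-Warning for two quadratic forms (any characteristic): a common non-trivial zero in at least five variables (helper17).
-/

set_option autoImplicit false

namespace Cfsg.Agent.Lib.Helper17.CWQuad

open MvPolynomial

section
variable {ι : Type*} [Fintype ι] [DecidableEq ι] {F : Type*} [Field F]

/-- the polynomial of a bilinear map on `ι → F` -/
noncomputable def bilPoly (B : LinearMap.BilinMap F (ι → F) F) : MvPolynomial ι F :=
  ∑ i, ∑ j, C (B (Pi.single i 1) (Pi.single j 1)) * X i * X j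

theorem eval_bilPoly (B : LinearMap.BilinMap F (ι → F) F) (x : ι → F) :
    eval x (bilPoly B) = B x x := by
  unfold bilPoly
  have hx : x = ∑ i, x i • (Pi.single i (1 : F) : ι → F) := by
    funext k
    simp [Finset.sum_apply, Pi.single_apply]
  conv_rhs => rw [hx]
  simp only [map_sum, map_smul, LinearMap.sum_apply, LinearMap.smul_apply, smul_eq_mul, eval_mul, eval_C,
    eval_X, Finset.mul_sum]
  rw [Finset.sum_comm]
  refine Finset.sum_congr rfl (fun i _ => Finset.sum_congr rfl (fun j _ => ?_))
  ring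

theorem totalDegree_bilPoly (B : LinearMap.BilinMap F (ι → F) F) : (bilPoly B).totalDegree ≤ 2 := by
  unfold bilPoly
  refine totalDegree_finsetSum_le (fun i _ => totalDegree_finsetSum_le (fun j _ => ?_))
  refine (totalDegree_mul _ _).trans ?_
  have h1 : (C (B (Pi.single i 1) (Pi.single j 1)) * X i : MvPolynomial ι F).totalDegree ≤ 1 := by
    refine (totalDegree_mul _ _).trans ?_
    rw [totalDegree_C, zero_add]
    exact (totalDegree_X i).le
  have h2 : (X j : MvPolynomial ι F).totalDegree ≤ 1 := (totalDegree_X j).le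
  omega

end

/-- Chevalley-Warning: two quadratic forms in at least five variables over a finite field have a common
non-trivial zero -/
theorem exists_common_singular {ι : Type*} [Fintype ι] [DecidableEq ι] {F : Type*} [Field F] [Fintype F]
    (Q Q' : QuadraticForm F (ι → F)) (hn : 5 ≤ Fintype.card ι) :
    ∃ x : ι → F, x ≠ 0 ∧ Q x = 0 ∧ Q' x = 0 := by
  classical
  obtain ⟨B, rfl⟩ := LinearMap.BilinMap.toQuadraticMap_surjective Q
  obtain ⟨B', rfl⟩ := LinearMap.BilinMap.toQuadraticMap_surjective Q'
  obtain ⟨p, hp⟩ := CharP.exists F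
  have : Fact p.Prime := ⟨CharP.char_is_prime F p⟩
  have hdeg : (bilPoly B).totalDegree + (bilPoly B').totalDegree < Fintype.card ι := by
    have h1 := totalDegree_bilPoly B
    have h2 := totalDegree_bilPoly B'
    omega
  have hdvd := char_dvd_card_solutions_of_add_lt p hdeg
  have hpos : 0 < Fintype.card { x : ι → F // eval x (bilPoly B) = 0 ∧ eval x (bilPoly B') = 0 } :=
    Fintype.card_pos_iff.mpr ⟨⟨0, by rw [eval_bilPoly, eval_bilPoly]; simp⟩⟩
  have hp2 : 2 ≤ p := (Fact.out : p.Prime).two_le
  have hle : 2 ≤ Fintype.card { x : ι → F // eval x (bilPoly B) = 0 ∧ eval x (bilPoly B') = 0 } :=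
    hp2.trans (Nat.le_of_dvd hpos hdvd)
  obtain ⟨⟨x, hx⟩, ⟨y, hy⟩, hxy⟩ := Fintype.one_lt_card_iff.mp hle
  rw [eval_bilPoly, eval_bilPoly] at hx hy
  by_cases hx0 : x = 0
  · refine ⟨y, ?_, hy.1, hy.2⟩
    rintro rfl
    exact hxy (by simp [hx0])
  · exact ⟨x, hx0, hx.1, hx.2⟩

end Cfsg.Agent.Lib.Helper17.CWQuad
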