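/-
helper17: S4648 leaf (CENT) `sum_conv_mul_irr`: a class function acts on an irreducible character through its
central character.
-/
import Mathlib
import Cfsg.Prelude.Def_BlockRank
import Cfsg.Prelude.Def_BrauerPairs
import Cfsg.Agent.Lib.Helper27.SymAlgDefs
import Cfsg.Agent.Lib.Helper27.BlkAlgDefs2
import Cfsg.Agent.Lib.Helper18.BlkAlgB2
import Cfsg.Agent.Lib.Helper18.BlkAlgB3
import Cfsg.Agent.Lib.Helper19.BlkAlgB1
import Cfsg.Agent.Lib.Helper24.BlkAlgB5a
import Cfsg.Agent.Lib.Helper6.Osima2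

set_option autoImplicit false

namespace Cfsg.Agent.Lib.Helper17.K4CENT

open Cfsg Cfsg.Agent.Lib.Helper6 Cfsg.Agent.Lib.Helper24
open Cfsg.Agent.Lib.Helper27.SymAlg Cfsg.Agent.Lib.Helper27.BlkAlg
open Cfsg.Agent.Lib.Helper24.BlkAlgB5a (gmat)

universe u

variable (M : Ideal AlgInt) [M.IsMaximal] {p : ℕ} [Fact p.Prime]

variable {G : Type u} [Group G] [Fintype G]

/-- (CENT) a class function acts on an irreducible character through its central character -/
theorem sum_conv_mul_irr (χ : IrrCharacter G) (e a : G → ℂ) (he : IsClassFunction G e) :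
    ∑ g, conv e a g * (χ : G → ℂ) g = omegaFun (χ : G → ℂ) e * ∑ g, a g * (χ : G → ℂ) g := by
  have h1 : ∑ g, conv e a g * (χ : G → ℂ) g =
      ∑ k : G, a k * ∑ h : G, e h * (χ : G → ℂ) (h * k) := by
    unfold conv
    simp_rw [Finset.sum_mul, Finset.mul_sum]
    rw [Finset.sum_comm]
    rw [Finset.sum_comm (f := fun k h => a k * (e h * (χ : G → ℂ) (h * k)))]
    apply Finset.sum_congr rfl
    intro h _
    rw [← Equiv.sum_comp (Equiv.mulLeft h)]
    apply Finset.sum_congr rfl
    intro k _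
    rw [Equiv.coe_mulLeft, inv_mul_cancel_left]
    ring
  rw [h1, Finset.mul_sum]
  apply Finset.sum_congr rfl
  intro k _
  rw [sum_mul_char_mul_right χ he k]
  ring

end Cfsg.Agent.Lib.Helper17.K4CENT
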