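/-
Helper lemmas (helper17): conjugacy class products for elements of coprime class size
(Bertram–Herzog–Mann style), the right stabilizer of a class, and consequences.
-/
import Mathlib
import Cfsg.Agent.Lib.Helper4.CoprimeIndex
import Cfsg.Agent.Lib.Helper17.Card

set_option autoImplicit false

namespace Cfsg.Agent.Lib.Helper17.ClassGraph

open scoped commutatorElement

variable {G : Type*} [Group G]

/-- The conjugacy class of `x`, as the range of conjugation. -/
def cl (x : G) : Set G := Set.range (fun g : G => g * x * g⁻¹)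

theorem mem_cl {x y : G} : y ∈ cl x ↔ ∃ g : G, g * x * g⁻¹ = y := Iff.rfl

theorem self_mem_cl (x : G) : x ∈ cl x := ⟨1, by simp⟩

theorem conj_mem_cl {x y : G} (h : y ∈ cl x) (g : G) : g * y * g⁻¹ ∈ cl x := by
  obtain ⟨u, rfl⟩ := h
  exact ⟨g * u, by group⟩

/-- The class size of `x`: index of its centralizer. -/
noncomputable abbrev ind (x : G) : ℕ := (Subgroup.centralizer ({x} : Set G)).index

theorem ncard_cl (x : G) : (cl x).ncard = ind x := by
  have h1 : MulAction.orbit (ConjAct G) x = cl x := by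
    ext y
    constructor
    · rintro ⟨g, rfl⟩
      exact ⟨ConjAct.ofConjAct g, (ConjAct.smul_def g x).symm⟩
    · rintro ⟨g, rfl⟩
      exact ⟨ConjAct.toConjAct g, by simp [ConjAct.smul_def]⟩
  rw [← h1, ← MulAction.index_stabilizer, ind, Subgroup.centralizer_eq_comap_stabilizer]
  exact (Subgroup.index_comap_of_surjective _ ConjAct.toConjAct.surjective).symm

theorem cl_conj (g x : G) : cl (g * x * g⁻¹) = cl x := by
  ext y; constructor
  · rintro ⟨u, rfl⟩; exact ⟨u * g, by group⟩
  · rintro ⟨u, rfl⟩; exact ⟨u * g⁻¹, by group⟩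

theorem ind_conj (g x : G) : ind (g * x * g⁻¹) = ind x := by
  rw [← ncard_cl, ← ncard_cl, cl_conj]

theorem ind_pos [Finite G] (x : G) : 0 < ind x :=
  Nat.pos_of_ne_zero Subgroup.index_ne_zero_of_finite

theorem ind_eq_one_iff (x : G) : ind x = 1 ↔ x ∈ Subgroup.center G := by
  rw [ind, Subgroup.index_eq_one, Subgroup.centralizer_eq_top_iff_subset, Set.singleton_subset_iff]
  rfl

theorem mem_centralizer_singleton {x c : G} :
    c ∈ Subgroup.centralizer ({x} : Set G) ↔ c * x = x * c :=
  Subgroup.mem_centralizer_singleton_iff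

theorem ind_dvd_of_le {x y : G}
    (h : Subgroup.centralizer ({y} : Set G) ≤ Subgroup.centralizer ({x} : Set G)) :
    ind x ∣ ind y := Subgroup.index_dvd_of_le h

theorem centralizer_inv (x : G) :
    Subgroup.centralizer ({x⁻¹} : Set G) = Subgroup.centralizer ({x} : Set G) := by
  ext c
  rw [mem_centralizer_singleton, mem_centralizer_singleton]
  exact (Commute.inv_right_iff (a := c) (b := x))

theorem ind_inv (x : G) : ind x⁻¹ = ind x := by rw [ind, centralizer_inv]

theorem centralizer_central_mul {z : G} (hz : z ∈ Subgroup.center G) (x : G) :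
    Subgroup.centralizer ({z * x} : Set G) = Subgroup.centralizer ({x} : Set G) := by
  ext c
  rw [mem_centralizer_singleton, mem_centralizer_singleton]
  have hzc : c * z = z * c := (Subgroup.mem_center_iff.mp hz c)
  constructor
  · intro h
    have h1 : z * (c * x) = z * (x * c) := by
      calc z * (c * x) = (c * z) * x := by rw [hzc, mul_assoc]
        _ = c * (z * x) := by rw [mul_assoc]
        _ = z * x * c := h
        _ = z * (x * c) := by rw [mul_assoc]
    exact mul_left_cancel h1
  · intro h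
    calc c * (z * x) = (c * z) * x := by rw [mul_assoc]
      _ = z * (c * x) := by rw [hzc, mul_assoc]
      _ = z * (x * c) := by rw [h]
      _ = z * x * c := by rw [mul_assoc]

theorem ind_central_mul {z : G} (hz : z ∈ Subgroup.center G) (x : G) : ind (z * x) = ind x := by
  rw [ind, centralizer_central_mul hz]

theorem ind_mul_central {z : G} (hz : z ∈ Subgroup.center G) (x : G) : ind (x * z) = ind x := by
  have : x * z = z * x := (Subgroup.mem_center_iff.mp hz x)
  rw [this, ind_central_mul hz]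

/-- Products of conjugates of two elements of coprime class sizes are conjugates of the product. -/
theorem conj_mul_conj [Finite G] {x b : G} (hcop : (ind x).Coprime (ind b)) (u v : G) :
    ∃ w : G, (u * x * u⁻¹) * (v * b * v⁻¹) = w * (x * b) * w⁻¹ := by
  obtain ⟨c, hc, d, hd, hcd⟩ :=
    Cfsg.Agent.Lib.Helper4.forall_mul_of_coprime_index _ _ hcop (u⁻¹ * v)
  rw [mem_centralizer_singleton] at hc hd
  refine ⟨u * c, ?_⟩
  have hv : v = u * c * d := by
    calc v = u * (u⁻¹ * v) := by group
      _ = u * (c * d) := by rw [hcd]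
      _ = u * c * d := by group
  have h1 : d * b * d⁻¹ = b := by rw [hd]; group
  have h2 : c * x * c⁻¹ = x := by rw [hc]; group
  have e1 : (u * x * u⁻¹) * (v * b * v⁻¹) = u * x * (c * (d * b * d⁻¹) * c⁻¹) * u⁻¹ := by
    rw [hv]; group
  have e2 : u * c * (x * b) * (u * c)⁻¹ = u * (c * x * c⁻¹) * (c * b * c⁻¹) * u⁻¹ := by group
  rw [e1, e2, h1, h2]

theorem ind_le_ind_mul [Finite G] {x b : G} (hcop : (ind x).Coprime (ind b)) :
    ind x ≤ ind (x * b) := by
  rw [← ncard_cl, ← ncard_cl]
  apply Set.ncard_le_ncard_of_injOn (fun y => y * b)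
  · rintro y ⟨u, rfl⟩
    obtain ⟨w, hw⟩ := conj_mul_conj hcop u 1
    refine ⟨w, ?_⟩
    change w * (x * b) * w⁻¹ = u * x * u⁻¹ * b
    rw [← hw]; group
  · intro y _ y' _ h; exact mul_right_cancel h

theorem ind_mul_comm (x b : G) : ind (b * x) = ind (x * b) := by
  have : b * x = b * (x * b) * b⁻¹ := by group
  rw [this, ind_conj]

theorem ind_le_ind_mul' [Finite G] {x b : G} (hcop : (ind x).Coprime (ind b)) :
    ind x ≤ ind (b * x) := by
  rw [ind_mul_comm]; exact ind_le_ind_mul hcop

theorem ind_mul_dvd [Finite G] {x b : G} (hcop : (ind x).Coprime (ind b)) :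
    ind (x * b) ∣ ind x * ind b := by
  rw [← Cfsg.Agent.Lib.Helper4.index_inf_of_coprime _ _ hcop]
  apply Subgroup.index_dvd_of_le
  intro c hc
  rw [Subgroup.mem_inf, mem_centralizer_singleton, mem_centralizer_singleton] at hc
  rw [mem_centralizer_singleton, ← mul_assoc, hc.1, mul_assoc, hc.2, mul_assoc]

/-- The right stabilizer of a set. -/
def rstab (X : Set G) : Subgroup G where
  carrier := {t | ∀ y, y ∈ X ↔ y * t ∈ X}
  one_mem' := fun y => by rw [mul_one]
  mul_mem' := fun {s t} hs ht y => by rw [hs y, ht (y * s), mul_assoc]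
  inv_mem' := fun {t} ht y => by rw [ht (y * t⁻¹), inv_mul_cancel_right]

theorem mem_rstab {X : Set G} {t : G} : t ∈ rstab X ↔ ∀ y, y ∈ X ↔ y * t ∈ X := Iff.rfl

theorem rstab_normal (X : Set G) (hX : ∀ y ∈ X, ∀ g : G, g * y * g⁻¹ ∈ X) :
    (rstab X).Normal := by
  have hX' : ∀ y g, g * y * g⁻¹ ∈ X ↔ y ∈ X := by
    intro y g
    constructor
    · intro h
      have := hX _ h g⁻¹
      simpa [mul_assoc] using this
    · intro h; exact hX y h g
  constructor
  intro t ht g y
  rw [mem_rstab] at ht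
  have e : y * (g * t * g⁻¹) = g * ((g⁻¹ * y * g⁻¹⁻¹) * t) * g⁻¹ := by group
  rw [e, hX', ← ht, hX']

theorem card_rstab_dvd [Finite G] (X : Set G) : Nat.card (rstab X) ∣ X.ncard := by
  have h : X = QuotientGroup.mk ⁻¹' (QuotientGroup.mk '' X : Set (G ⧸ rstab X)) := by
    ext y; constructor
    · intro hy; exact ⟨y, hy, rfl⟩
    · rintro ⟨y', hy', h⟩
      rw [QuotientGroup.eq] at h
      have := (h y').mp hy'
      simpa using this
  have h2 := QuotientGroup.card_preimage_mk (rstab X) (QuotientGroup.mk '' X)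
  have h3 : Nat.card X = Nat.card (QuotientGroup.mk ⁻¹' (QuotientGroup.mk '' X : Set (G ⧸ rstab X))) :=
    Nat.card_congr (Equiv.setCongr h)
  rw [← Nat.card_coe_set_eq, h3, h2]; exact dvd_mul_right _ _

theorem mul_conj_inv_mem [Finite G] {x b : G} (hcop : (ind x).Coprime (ind b))
    (hle : ind (x * b) ≤ ind x) (v w y : G) (hy : y ∈ cl x) :
    y * (v * b * v⁻¹) * (w * b * w⁻¹)⁻¹ ∈ cl x := by
  have key : ∀ v : G, (fun y => y * (v * b * v⁻¹)) '' cl x = cl (x * b) := by
    intro v
    apply Set.eq_of_subset_of_ncard_le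
    · rintro _ ⟨y, ⟨u, rfl⟩, rfl⟩
      obtain ⟨w, hw⟩ := conj_mul_conj hcop u v
      exact ⟨w, hw.symm⟩
    · rw [Set.ncard_image_of_injective _ (mul_left_injective _), ncard_cl, ncard_cl]; exact hle
    · exact Set.toFinite _
  have h1 : y * (v * b * v⁻¹) ∈ (fun y => y * (w * b * w⁻¹)) '' cl x := by
    rw [key w, ← key v]; exact ⟨y, hy, rfl⟩
  obtain ⟨y', hy', h⟩ := h1
  have : y * (v * b * v⁻¹) * (w * b * w⁻¹)⁻¹ = y' := by rw [← h]; group
  rw [this]; exact hy'

/-- Key lemma: if `x`, `b` have coprime class sizes and `|(xb)^G| ≤ |x^G|`, then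
`[g, b]` stabilizes the class of `x` under right multiplication. -/
theorem comm_mem_rstab [Finite G] {x b : G} (hcop : (ind x).Coprime (ind b))
    (hle : ind (x * b) ≤ ind x) (g : G) : ⁅g, b⁆ ∈ rstab (cl x) := by
  intro y
  constructor
  · intro hy
    have := mul_conj_inv_mem hcop hle g 1 y hy
    convert this using 1
    rw [commutatorElement_def]; group
  · intro hy
    have := mul_conj_inv_mem hcop hle 1 g _ hy
    convert this using 1
    rw [commutatorElement_def]; group

/-- `|T : T ∩ C|` divides `|G : C|` for `T` normal. -/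
theorem relIndex_dvd_index_of_normal' [Finite G] (C T : Subgroup G) [T.Normal] :
    C.relIndex T ∣ C.index := by
  have a1 := Cfsg.Agent.Lib.Helper17.card_eq_relIndex_mul_card_inf T C
  have a2 := Cfsg.Agent.Lib.Helper17.card_eq_relIndex_mul_card_inf C T
  have a3 := Cfsg.Agent.Lib.Helper17.card_sup_eq_relIndex_mul_card C T
  have a4 := Cfsg.Agent.Lib.Helper17.card_sup_eq_relIndex_mul_card T C
  have a5 : T.relIndex (C ⊔ T) = T.relIndex C := Subgroup.relIndex_sup_right C T
  have e : C.relIndex T = C.relIndex (T ⊔ C) := by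
    rw [a5, a1] at a3
    rw [sup_comm T C, a2] at a4
    rw [a3, inf_comm T C] at a4
    have hpos : 0 < T.relIndex C * Nat.card ↥(C ⊓ T) := by
      rw [← a2]; exact Nat.card_pos
    have : (T.relIndex C * Nat.card ↥(C ⊓ T)) * C.relIndex T
        = (T.relIndex C * Nat.card ↥(C ⊓ T)) * C.relIndex (C ⊔ T) := by
      calc (T.relIndex C * Nat.card ↥(C ⊓ T)) * C.relIndex T
          = T.relIndex C * (C.relIndex T * Nat.card ↥(C ⊓ T)) := by ring
        _ = C.relIndex (C ⊔ T) * (T.relIndex C * Nat.card ↥(C ⊓ T)) := a4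
        _ = _ := by ring
    rw [sup_comm T C]
    exact Nat.eq_of_mul_eq_mul_left hpos this
  rw [e]
  exact Subgroup.relIndex_dvd_index_of_le le_sup_right

theorem le_centralizer_of_coprime [Finite G] (T : Subgroup G) [T.Normal] (x : G)
    (hcop : (Nat.card T).Coprime (ind x)) : T ≤ Subgroup.centralizer ({x} : Set G) := by
  have h1 : (Subgroup.centralizer ({x} : Set G)).relIndex T ∣ Nat.card T :=
    Subgroup.relIndex_dvd_card _ _
  have h2 := relIndex_dvd_index_of_normal' (Subgroup.centralizer ({x} : Set G)) T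
  exact Subgroup.relIndex_eq_one.mp (Nat.eq_one_of_dvd_coprimes hcop h1 h2)

/-- If all `[g, x]` lie in a subgroup `T` centralizing `x`, then `x ^ |T|` is central. -/
theorem pow_card_mem_center [Finite G] (T : Subgroup G) (x : G)
    (hT : T ≤ Subgroup.centralizer ({x} : Set G)) (hc : ∀ g : G, ⁅g, x⁆ ∈ T) :
    x ^ Nat.card T ∈ Subgroup.center G := by
  rw [Subgroup.mem_center_iff]
  intro g
  have h1 : g * x * g⁻¹ = ⁅g, x⁆ * x := by rw [commutatorElement_def]; group
  have h2 : Commute ⁅g, x⁆ x := by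
    have := hT (hc g)
    rw [mem_centralizer_singleton] at this
    exact this
  have h3 : ⁅g, x⁆ ^ Nat.card T = 1 := by
    have := pow_card_eq_one' (G := T) (x := ⟨⁅g, x⁆, hc g⟩)
    have h := congrArg (Subtype.val) this
    rw [Subgroup.coe_pow, Subgroup.coe_one] at h
    exact h
  have h4 : g * x ^ Nat.card T * g⁻¹ = x ^ Nat.card T := by
    rw [← conj_pow, h1, h2.mul_pow, h3, one_mul]
  calc g * x ^ Nat.card T = g * x ^ Nat.card T * g⁻¹ * g := by group
    _ = x ^ Nat.card T * g := by rw [h4]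

/-- If `x`, `b` commute, `x ^ n` and `b ^ m` are central with `n`, `m` coprime, then
`C(xb) ≤ C(x)`. -/
theorem centralizer_mul_le {x b : G} {n m : ℕ} (hxb : Commute x b)
    (hx : x ^ n ∈ Subgroup.center G) (hb : b ^ m ∈ Subgroup.center G) (hnm : n.Coprime m) :
    Subgroup.centralizer ({x * b} : Set G) ≤ Subgroup.centralizer ({x} : Set G) := by
  intro c hc
  rw [mem_centralizer_singleton] at hc ⊢
  have hc' : Commute c (x * b) := hc
  have h1 : Commute c ((x * b) ^ m) := hc'.pow_right m
  rw [hxb.mul_pow] at h1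
  have h2 : Commute c (b ^ m) := (Subgroup.mem_center_iff.mp hb c)
  have h3 : Commute c (x ^ m) := by
    have := h1.mul_right (h2.inv_right)
    simpa using this
  have h4 : Commute c (x ^ n) := (Subgroup.mem_center_iff.mp hx c)
  have h5 : x = (x ^ m) ^ (Nat.gcdB n m) * (x ^ n) ^ (Nat.gcdA n m) := by
    rw [← zpow_natCast x m, ← zpow_natCast x n, ← zpow_mul, ← zpow_mul, ← zpow_add]
    have := Nat.gcd_eq_gcd_ab n m
    rw [hnm] at this
    have e : (m : ℤ) * Nat.gcdB n m + n * Nat.gcdA n m = 1 := by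
      rw [add_comm]; exact_mod_cast this.symm
    rw [e, zpow_one]
  have h6 : Commute c x := by
    rw [h5]
    exact (h3.zpow_right _).mul_right (h4.zpow_right _)
  exact h6

/-- If all `[g, y]` lie in `T` then the class of `y` has at most `|T|` elements. -/
theorem ind_le_card_of_comm_mem [Finite G] (T : Subgroup G) (y : G) (hc : ∀ g : G, ⁅g, y⁆ ∈ T) :
    ind y ≤ Nat.card T := by
  have e : Nat.card T = (T : Set G).ncard := Nat.card_coe_set_eq (T : Set G)
  rw [← ncard_cl, e]
  apply Set.ncard_le_ncard_of_injOn (fun y' => y' * y⁻¹)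
  · rintro _ ⟨g, rfl⟩
    have := hc g
    rw [commutatorElement_def] at this
    exact this
  · intro a _ b _ h; exact mul_right_cancel h

theorem exists_sylow_le_of_not_dvd_index [Finite G] {q : ℕ} [Fact q.Prime] (C : Subgroup G)
    (h : ¬ q ∣ C.index) : ∃ Q : Sylow q G, (Q : Subgroup G) ≤ C := by
  obtain ⟨Q₀⟩ : Nonempty (Sylow q C) := inferInstance
  have h1 : Nat.card ((Q₀ : Subgroup C).map C.subtype) = q ^ (Nat.card G).factorization q := by
    rw [Subgroup.card_map_of_injective C.subtype_injective, Q₀.card_eq_multiplicity]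
    congr 1
    rw [← Subgroup.card_mul_index C, Nat.factorization_mul Nat.card_pos.ne'
      Subgroup.index_ne_zero_of_finite, Finsupp.add_apply,
      Nat.factorization_eq_zero_of_not_dvd h, add_zero]
  refine ⟨Sylow.ofCard _ h1, ?_⟩
  rw [Sylow.coe_ofCard]
  exact Subgroup.map_subtype_le _

theorem exists_conj_mem_centralizer_sylow [Finite G] {q : ℕ} [Fact q.Prime] (Q : Sylow q G)
    (x : G) (h : ¬ q ∣ ind x) :
    ∃ g : G, g * x * g⁻¹ ∈ Subgroup.centralizer ((Q : Subgroup G) : Set G) := by
  obtain ⟨Q', hQ'⟩ := exists_sylow_le_of_not_dvd_index (Subgroup.centralizer ({x} : Set G)) h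
  obtain ⟨g, hg⟩ := MulAction.exists_smul_eq G Q' Q
  refine ⟨g, ?_⟩
  rw [Subgroup.mem_centralizer_iff]
  intro y hy
  have hy' : y ∈ ((g • Q' : Sylow q G) : Subgroup G) := by rw [hg]; exact hy
  rw [Sylow.smul_def, Sylow.pointwise_smul_def] at hy'
  obtain ⟨y₀, hy₀, rfl⟩ := hy'
  have hc := hQ' hy₀
  rw [mem_centralizer_singleton] at hc
  change g * y₀ * g⁻¹ * (g * x * g⁻¹) = g * x * g⁻¹ * (g * y₀ * g⁻¹)
  have e1 : g * y₀ * g⁻¹ * (g * x * g⁻¹) = g * (y₀ * x) * g⁻¹ := by group
  have e2 : g * x * g⁻¹ * (g * y₀ * g⁻¹) = g * (x * y₀) * g⁻¹ := by group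
  rw [e1, e2, hc]

end Cfsg.Agent.Lib.Helper17.ClassGraph
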