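import Mathlib
import Cfsg.Agent.S4888
import Cfsg.Agent.Lib.Helper6.CharExtra
import Cfsg.Agent.Lib.Lead.CharOrtho

/-!
# S4711, leaf L6

If `λ(H) = ∑_{θ ∈ B₀(H)} θ(1)² ≤ |P|` for a Sylow `p`-subgroup `P` of `H`, then `H` has a normal
`p`-complement.

Route: helper24's identity `|P| ∑_{θ ∈ B₀} θ(1) [θ_P, μ] = λ(H)` for every linear `μ` of `P`.
With `μ = 1` (and `θ = 1`) it gives `λ ≥ |P|`, so `λ = |P|` and `∑_{θ ∈ B₀} θ(1) [θ_P, μ] = 1` for
all linear `μ`; a `θ ∈ B₀` of `p'`-degree has a linear constituent `μ` on `P`, so `θ(1) = 1`.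
Then all height-zero members of `B₀` have degree `1` and S4888 applies.
-/

set_option autoImplicit false

namespace Cfsg.Agent.Lib.Helper17.PLenBlkL6

open Cfsg Cfsg.Agent.CharLib Cfsg.Agent.Lib.Helper24 Cfsg.Agent.Lib.Helper6
open scoped ComplexConjugate

universe u

/-- a character of `p'`-degree of a finite `p`-group has a linear constituent. -/
theorem exists_linear_constituent {P : Type u} [Group P] [Fintype P] (p : ℕ) [hpp : Fact p.Prime]
    (hP : IsPGroup p P) {Φ : P → ℂ} (hΦ : IsCharacter P Φ) (n : ℕ) (hn : Φ 1 = n)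
    (hpn : ¬ p ∣ n) :
    ∃ μ : P →* ℂˣ, classInner Φ (fun y : P => ((μ y : ℂˣ) : ℂ)) ≠ 0 := by
  classical
  have : Finite (IrrCharacter P) := inferInstance
  let _ : Fintype (IrrCharacter P) := Fintype.ofFinite _
  obtain ⟨m, hm, hmψ⟩ := IsCharacter.exists_decomp_sum hΦ
  -- evaluate at `1`
  have h1 : (n : ℂ) = ∑ ψ : IrrCharacter P, ((m ψ * charDegree (ψ : P → ℂ) : ℕ) : ℂ) := by
    rw [← hn]
    conv_lhs => rw [hm]
    rw [Finset.sum_apply]
    apply Finset.sum_congr rfl
    intro ψ _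
    rw [Pi.smul_apply, irr_apply_one, Nat.cast_mul, nsmul_eq_mul]
  have h2 : n = ∑ ψ : IrrCharacter P, m ψ * charDegree (ψ : P → ℂ) := by
    rw [← Nat.cast_sum] at h1
    exact_mod_cast h1
  -- some constituent has degree prime to `p`
  have h3 : ∃ ψ : IrrCharacter P, m ψ ≠ 0 ∧ ¬ p ∣ charDegree (ψ : P → ℂ) := by
    by_contra hcon
    push Not at hcon
    apply hpn
    rw [h2]
    apply Finset.dvd_sum
    intro ψ _
    by_cases hmz : m ψ = 0
    · rw [hmz, zero_mul]; exact dvd_zero p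
    · exact Dvd.dvd.mul_left (hcon ψ hmz) _
  obtain ⟨ψ, hmψ0, hψp⟩ := h3
  -- its degree is `1`
  have hdeg : charDegree (ψ : P → ℂ) = 1 := by
    have hdvd := irr_charDegree_dvd_card ψ
    obtain ⟨k, hk⟩ := IsPGroup.iff_card.mp hP
    rw [hk] at hdvd
    obtain ⟨i, -, hi⟩ := (Nat.dvd_prime_pow hpp.out).mp hdvd
    rcases Nat.eq_zero_or_pos i with h0 | hpos
    · rw [hi, h0, pow_zero]
    · exfalso
      apply hψp
      rw [hi]
      exact dvd_pow_self p hpos.ne'
  have hψ1 : (ψ : P → ℂ) 1 = 1 := by rw [irr_apply_one, hdeg, Nat.cast_one]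
  refine ⟨linCharUnitsHom (IsIrrCharacter.isCharacter ψ.2) hψ1, ?_⟩
  have e : (fun y : P => ((linCharUnitsHom (IsIrrCharacter.isCharacter ψ.2) hψ1 y : ℂˣ) : ℂ))
      = (ψ : P → ℂ) := rfl
  rw [e, hmψ ψ]
  exact_mod_cast hmψ0

/-- the multiplicity `linMult` is non-zero for a linear constituent of the restriction. -/
theorem exists_linMult_ne_zero {H : Type u} [Group H] [Fintype H] (p : ℕ) [hpp : Fact p.Prime]
    (P : Subgroup H) [Fintype P] (hP : IsPGroup p P) {χ : H → ℂ} (hχ : IsCharacter H χ) (n : ℕ)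
    (hn : χ 1 = n) (hpn : ¬ p ∣ n) : ∃ μ : P →* ℂˣ, linMult P χ μ ≠ 0 := by
  have hres : IsCharacter P (resFun P χ) := isCharacter_resFun P hχ
  obtain ⟨μ, hμ⟩ := exists_linear_constituent p hP hres n (by rw [resFun_apply]; exact hn) hpn
  refine ⟨μ, ?_⟩
  intro h0
  apply hμ
  have hspec := linMult_spec P hχ μ
  rw [h0, Nat.cast_zero, mul_zero] at hspec
  unfold classInner
  have : ∑ g : P, resFun P χ g * conj ((fun y : P => ((μ y : ℂˣ) : ℂ)) g)
      = ∑ y : P, χ y * conj ((μ y : ℂˣ) : ℂ) := rfl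
  rw [this, hspec, mul_zero]

/-- **L6.** -/
theorem hasNormalPComplement_of_lambda_le {H : Type u} [Group H] [Finite H] (p : ℕ)
    [hpp : Fact p.Prime] (M : Ideal AlgInt) (hM : IsPModular p M) (P : Sylow p H)
    (hle : (∑ᶠ θ ∈ principalBlock M H, charDegree (θ : H → ℂ) ^ 2) ≤ Nat.card P) :
    HasNormalPComplement p H := by
  classical
  let _ : Fintype H := Fintype.ofFinite H
  have : Finite (IrrCharacter H) := inferInstance
  let _ : Fintype (IrrCharacter H) := Fintype.ofFinite _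
  let _ : Fintype (P : Subgroup H) := Fintype.ofFinite _
  have hPp : IsPGroup p (P : Subgroup H) := P.isPGroup'
  -- the sum as a Finset sum
  have hlam : (∑ᶠ θ ∈ principalBlock M H, charDegree (θ : H → ℂ) ^ 2)
      = ∑ θ : IrrCharacter H, (if θ ∈ principalBlock M H then
          charDegree (θ : H → ℂ) * charDegree (θ : H → ℂ) else 0) := by
    rw [finsum_mem_eq_sum_ite]
    apply Finset.sum_congr rfl
    intro θ _
    split_ifs
    · rw [sq]
    · rfl
  -- the key identity in `ℕ`
  have key : ∀ μ : (P : Subgroup H) →* ℂˣ,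
      Nat.card (P : Subgroup H) * ∑ θ : IrrCharacter H, (if θ ∈ principalBlock M H then
        charDegree (θ : H → ℂ) * linMult (P : Subgroup H) (θ : H → ℂ) μ else 0)
      = ∑ θ : IrrCharacter H, (if θ ∈ principalBlock M H then
          charDegree (θ : H → ℂ) * charDegree (θ : H → ℂ) else 0) := by
    intro μ
    have h := sum_principal_deg_mul_linMult hM (P : Subgroup H) hPp μ
    have e1 : ((Nat.card (P : Subgroup H) * ∑ θ : IrrCharacter H,
        (if θ ∈ principalBlock M H then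
          charDegree (θ : H → ℂ) * linMult (P : Subgroup H) (θ : H → ℂ) μ else 0) : ℕ) : ℂ)
        = (Nat.card (P : Subgroup H) : ℂ) * ∑ χ : IrrCharacter H,
          (if χ ∈ principalBlock M H then
            (χ : H → ℂ) 1 * (linMult (P : Subgroup H) (χ : H → ℂ) μ : ℂ) else 0) := by
      rw [Nat.cast_mul, Nat.cast_sum]
      congr 1
      apply Finset.sum_congr rfl
      intro χ _
      split_ifs
      · rw [Nat.cast_mul, irr_apply_one]
      · simp
    have e2 : ((∑ θ : IrrCharacter H, (if θ ∈ principalBlock M H then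
          charDegree (θ : H → ℂ) * charDegree (θ : H → ℂ) else 0) : ℕ) : ℂ)
        = ∑ χ : IrrCharacter H, (if χ ∈ principalBlock M H then
            (χ : H → ℂ) 1 * (χ : H → ℂ) 1 else 0) := by
      rw [Nat.cast_sum]
      apply Finset.sum_congr rfl
      intro χ _
      split_ifs
      · rw [Nat.cast_mul, irr_apply_one]
      · simp
    have : ((Nat.card (P : Subgroup H) * ∑ θ : IrrCharacter H,
        (if θ ∈ principalBlock M H then
          charDegree (θ : H → ℂ) * linMult (P : Subgroup H) (θ : H → ℂ) μ else 0) : ℕ) : ℂ)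
        = ((∑ θ : IrrCharacter H, (if θ ∈ principalBlock M H then
          charDegree (θ : H → ℂ) * charDegree (θ : H → ℂ) else 0) : ℕ) : ℂ) := by
      rw [e1, e2, h]
    exact_mod_cast this
  set S : ((P : Subgroup H) →* ℂˣ) → ℕ := fun μ => ∑ θ : IrrCharacter H,
    (if θ ∈ principalBlock M H then
      charDegree (θ : H → ℂ) * linMult (P : Subgroup H) (θ : H → ℂ) μ else 0) with hS
  have hcardpos : 0 < Nat.card (P : Subgroup H) := Nat.card_pos
  -- `S μ ≤ 1` for all `μ`
  have hSle : ∀ μ, S μ ≤ 1 := by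
    intro μ
    have h1 := key μ
    rw [← hlam] at h1
    have h2 : Nat.card (P : Subgroup H) * S μ ≤ Nat.card (P : Subgroup H) * 1 := by
      rw [mul_one]; rw [h1]; exact hle
    exact Nat.le_of_mul_le_mul_left h2 hcardpos
  -- all height zero members of `B₀` are linear
  apply (Cfsg.Agent.S4888.result' p M hM).mp
  refine ⟨1, fun χ hχ hht => ?_⟩
  rw [blockHeight_principal hM] at hht
  have hdpos := irr_charDegree_pos χ
  have hpd : ¬ p ∣ charDegree (χ : H → ℂ) := by
    intro h
    have := hpp.out.factorization_pos_of_dvd hdpos.ne' h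
    omega
  obtain ⟨μ, hμ⟩ := exists_linMult_ne_zero p (P : Subgroup H) hPp
    (IsIrrCharacter.isCharacter χ.2) (charDegree (χ : H → ℂ)) (irr_apply_one χ) hpd
  have hterm : charDegree (χ : H → ℂ) * linMult (P : Subgroup H) (χ : H → ℂ) μ ≤ S μ := by
    have := Finset.single_le_sum (f := fun θ : IrrCharacter H =>
      (if θ ∈ principalBlock M H then
        charDegree (θ : H → ℂ) * linMult (P : Subgroup H) (θ : H → ℂ) μ else 0))
      (fun θ _ => Nat.zero_le _) (Finset.mem_univ χ)
    simp only [if_pos hχ] at this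
    exact this
  have h1 := hterm.trans (hSle μ)
  have h2 : 1 ≤ linMult (P : Subgroup H) (χ : H → ℂ) μ := Nat.one_le_iff_ne_zero.mpr hμ
  have h3 : charDegree (χ : H → ℂ) * 1 ≤ 1 :=
    (Nat.mul_le_mul_left _ h2).trans h1
  omega

end Cfsg.Agent.Lib.Helper17.PLenBlkL6
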