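import Mathlib
import Cfsg.Prelude.Def_Transfer
import Cfsg.Prelude.Def_Solvable
import Cfsg.Prelude.Def_Local
import Cfsg.Agent.Lib.Helper13.R3Defs

/-!
# S4404 leaf SMALL (helper17): `not_isCyclic_fixer`

An elementary abelian `F` of order `r^3` (`r` odd) normalizing a subgroup `b` of the elementary
abelian 2-group `M` with `|b| ≤ 8` has `C_F(b)` non-cyclic.

Proof without `|Aut b|`: if `F` moves some `m ∈ b`, the `F`-orbit of `m` lies in `b \ 1` (at most 7
points), so it has length `r` and the stabilizer `F_m` has order `r^2`.  Each `f ∈ F_m` fixes the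
orbit and `1`, at least 4 elements of `b`; hence `[b, f]` has at most 2 elements, `f` fixes it
pointwise, and `f • m' = m' v` with `v ^ r = 1`, `v ^ 2 = 1`, so `v = 1`: `F_m ≤ C_F(b)`.
-/

set_option autoImplicit false

namespace Cfsg.Agent.Lib.Helper17.R3SMALL

open Pointwise Cfsg.Agent.Lib.Helper13.R3

section aux

variable {H : Type*} [Group H] {M : Type*} [CommGroup M] [MulDistribMulAction H M]

/-- `y • ((y • m) / m) = (y • (y • m)) / (y • m)`. -/
theorem smul_cHom (y : H) (m : M) : y • (cHom M y m) = cHom M y (y • m) := by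
  simp only [cHom_apply, smul_div']

/-- An element `f` with `f ^ r = 1` (`r` odd) leaving invariant a subgroup `b` with `|b| ≤ 8` of an
elementary abelian 2-group and fixing at least 4 elements of `b` fixes `b` pointwise. -/
theorem fix_of_card_fixed_ge [Finite M] (hM2 : ∀ m : M, m ^ 2 = 1) (b : Subgroup M)
    (hb : Nat.card b ≤ 8) (r : ℕ) (hrodd : Odd r) (f : H) (hfr : f ^ r = 1)
    (hfb : ∀ m ∈ b, f • m ∈ b) (hC : 4 ≤ Nat.card ↥(b ⊓ fSub M f)) : ∀ m ∈ b, f • m = m := by
  set R : Subgroup M := b.map (cHom M f) with hR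
  have hcard : Nat.card ↥(b ⊓ fSub M f) * Nat.card R = Nat.card b := by
    have h1 : (fSub M f).relIndex b = Nat.card R := Subgroup.relIndex_ker b (cHom M f)
    have h2 : Nat.card ((fSub M f).subgroupOf b) * ((fSub M f).subgroupOf b).index = Nat.card b :=
      Subgroup.card_mul_index _
    have h3 : Nat.card ((fSub M f).subgroupOf b) = Nat.card ↥(b ⊓ fSub M f) := by
      rw [← Subgroup.inf_subgroupOf_left]
      exact Nat.card_congr (Subgroup.subgroupOfEquivOfLe inf_le_left).toEquiv
    rw [← h3, ← h1]; exact h2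
  have hR2 : Nat.card R ≤ 2 := by
    by_contra hcon
    push Not at hcon
    have h12 : 4 * 3 ≤ Nat.card ↥(b ⊓ fSub M f) * Nat.card R := Nat.mul_le_mul hC hcon
    omega
  have hRinv : ∀ v ∈ R, f • v ∈ R := by
    rintro v ⟨m, hm, rfl⟩
    exact ⟨f • m, hfb m hm, (smul_cHom f m).symm⟩
  have hRfix : ∀ v ∈ R, f • v = v := by
    intro v hv
    by_contra hne
    have hv1 : v ≠ 1 := by
      rintro rfl
      exact hne (smul_one f)
    have hfv1 : f • v ≠ 1 := by
      intro h
      apply hv1
      have := congrArg (fun z => f⁻¹ • z) h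
      simpa using this
    have h3 : ({1, v, f • v} : Set M).ncard = 3 :=
      Set.ncard_eq_three.mpr ⟨1, v, f • v, hv1.symm, hfv1.symm, Ne.symm hne, rfl⟩
    have hsub : ({1, v, f • v} : Set M) ⊆ (R : Set M) := by
      rintro x (rfl | rfl | rfl)
      · exact R.one_mem
      · exact hv
      · exact hRinv _ hv
    have h4 := Set.ncard_le_ncard hsub (Set.toFinite _)
    rw [h3, ← Nat.card_coe_set_eq] at h4
    have h5 : Nat.card (↥R) = Nat.card ((R : Set M)) := rfl
    omega
  intro m hm
  have hv : cHom M f m ∈ R := ⟨m, hm, rfl⟩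
  have h1 : f • m = m * cHom M f m := by rw [cHom_apply, mul_div_cancel]
  have hpow : ∀ k : ℕ, (f ^ k) • m = m * (cHom M f m) ^ k := by
    intro k
    induction k with
    | zero => simp
    | succ k ih =>
      rw [pow_succ', mul_smul, ih, smul_mul', h1, smul_pow', hRfix _ hv, pow_succ, mul_assoc,
        mul_comm (cHom M f m) ((cHom M f m) ^ k)]
  have h2 := hpow r
  rw [hfr, one_smul] at h2
  have h3 : (cHom M f m) ^ r = 1 := by
    have : m * 1 = m * (cHom M f m) ^ r := by rw [mul_one]; exact h2
    exact (mul_left_cancel this).symm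
  obtain ⟨j, hj⟩ := hrodd
  rw [hj, pow_succ, pow_mul, hM2, one_pow, one_mul] at h3
  rw [h1, h3, mul_one]

end aux

section pair

variable {H : Type*} [Group H] [Finite H] {M : Type*} [CommGroup M] [Finite M]
  [MulDistribMulAction H M]

/-- SMALL `not_isCyclic_fixer`. -/
theorem not_isCyclic_fixer (hM2 : ∀ m : M, m ^ 2 = 1) (b : Subgroup M) (hb : Nat.card b ≤ 8)
    (r : ℕ) (hr : r.Prime) (hr2 : r ≠ 2) (F : Subgroup H) (hF : Cfsg.IsElementaryAbelian r F)
    (hF3 : Nat.card F = r ^ 3) (hFb : ∀ f ∈ F, f • b = b) : ¬ IsCyclic ↥(F ⊓ fixer b) := by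
  intro hcyc
  have hr3 : 3 ≤ r := by
    have := hr.two_le
    omega
  have hrodd : Odd r := hr.odd_of_ne_two hr2
  -- `|K| ≤ r`
  have hKle : Nat.card ↥(F ⊓ fixer b) ≤ r := by
    obtain ⟨g, hg⟩ := hcyc.exists_generator
    have h1 : orderOf g = Nat.card ↥(F ⊓ fixer b) := orderOf_eq_card_of_forall_mem_zpowers hg
    have h2 : g ^ r = 1 := by
      apply Subtype.ext
      rw [Subgroup.coe_pow]
      exact hF.2 g g.2.1
    rw [← h1]
    exact Nat.le_of_dvd hr.pos (orderOf_dvd_of_pow_eq_one h2)
  -- `r ^ 2 ≤ |K|`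
  have hKge : r ^ 2 ≤ Nat.card ↥(F ⊓ fixer b) := by
    by_cases hall : ∀ f ∈ F, ∀ m ∈ b, f • m = m
    · have hKF : F ⊓ fixer b = F := inf_eq_left.mpr (fun f hf => hall f hf)
      rw [hKF, hF3]
      exact Nat.pow_le_pow_right hr.pos (by norm_num)
    · push Not at hall
      obtain ⟨f₀, hf₀, m, hm, hne⟩ := hall
      have hmem : ∀ f ∈ F, ∀ m' ∈ b, f • m' ∈ b := by
        intro f hf m' hm'
        have := Subgroup.smul_mem_pointwise_smul m' f b hm'
        rwa [hFb f hf] at this
      have hm1 : m ≠ 1 := by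
        rintro rfl
        exact hne (smul_one f₀)
      set O : Set M := MulAction.orbit ↥F m with hO
      have hOb : O ⊆ (b : Set M) := by
        rintro _ ⟨g, rfl⟩
        exact hmem g g.2 m hm
      have hO1 : (1 : M) ∉ O := by
        rintro ⟨g, hg⟩
        apply hm1
        have hg' : (g : H) • m = 1 := hg
        have := congrArg (fun z => (g : H)⁻¹ • z) hg'
        simpa using this
      have hOfin : O.Finite := Set.toFinite O
      have hidx : (MulAction.stabilizer ↥F m).index = O.ncard := MulAction.index_stabilizer ↥F m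
      have hmul : Nat.card (MulAction.stabilizer ↥F m) * O.ncard = r ^ 3 := by
        rw [← hidx, Subgroup.card_mul_index, hF3]
      have hO7 : O.ncard + 1 ≤ 8 := by
        have h1 : (insert (1 : M) O).ncard = O.ncard + 1 := Set.ncard_insert_of_notMem hO1 hOfin
        have h2 : insert (1 : M) O ⊆ (b : Set M) := Set.insert_subset b.one_mem hOb
        have h3 := Set.ncard_le_ncard h2 (Set.toFinite _)
        rw [← h1]
        refine h3.trans ?_
        rw [← Nat.card_coe_set_eq]
        exact hb
      have hO2 : 2 ≤ O.ncard := by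
        have h1 : ({m, f₀ • m} : Set M) ⊆ O := by
          rintro x (rfl | rfl)
          · exact MulAction.mem_orbit_self _
          · exact ⟨⟨f₀, hf₀⟩, rfl⟩
        have h2 : ({m, f₀ • m} : Set M).ncard = 2 := Set.ncard_pair (Ne.symm hne)
        calc 2 = ({m, f₀ • m} : Set M).ncard := h2.symm
          _ ≤ O.ncard := Set.ncard_le_ncard h1 hOfin
      have hOr : O.ncard = r := by
        have hdvd : O.ncard ∣ r ^ 3 := Dvd.intro_left _ hmul
        obtain ⟨k, _, hk⟩ := (Nat.dvd_prime_pow hr).mp hdvd
        rcases k with _ | _ | k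
        · rw [pow_zero] at hk
          omega
        · rw [hk]; simp
        · exfalso
          have h1 : r ^ 2 ≤ r ^ (k + 1 + 1) := Nat.pow_le_pow_right hr.pos (by omega)
          have h2 : 9 ≤ r ^ 2 := by nlinarith
          omega
      have hstab : Nat.card (MulAction.stabilizer ↥F m) = r ^ 2 := by
        rw [hOr] at hmul
        have h1 : Nat.card (MulAction.stabilizer ↥F m) * r = r ^ 2 * r := by
          rw [hmul]; ring
        exact Nat.eq_of_mul_eq_mul_right hr.pos h1
      have hle : (MulAction.stabilizer ↥F m).map F.subtype ≤ F ⊓ fixer b := by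
        rintro _ ⟨g, hg, rfl⟩
        refine ⟨g.2, ?_⟩
        have hgm : (g : H) • m = m := hg
        apply fix_of_card_fixed_ge hM2 b hb r hrodd (g : H) (hF.2 g g.2) (hmem g g.2)
        have hsub : insert (1 : M) O ⊆ ((b ⊓ fSub M (g : H) : Subgroup M) : Set M) := by
          apply Set.insert_subset (Subgroup.one_mem _)
          rintro _ ⟨g', rfl⟩
          refine ⟨hmem g' g'.2 m hm, mem_fSub.mpr ?_⟩
          have hcomm : (g : H) * (g' : H) = (g' : H) * (g : H) := by
            have := hF.1.is_comm.comm g g'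
            exact congrArg Subtype.val this
          show (g : H) • ((g' : H) • m) = (g' : H) • m
          rw [← mul_smul, hcomm, mul_smul, hgm]
        have h1 : (insert (1 : M) O).ncard = O.ncard + 1 := Set.ncard_insert_of_notMem hO1 hOfin
        have h3 := Set.ncard_le_ncard hsub (Set.toFinite _)
        rw [h1, hOr, ← Nat.card_coe_set_eq] at h3
        have h5 : Nat.card ↥(b ⊓ fSub M (g : H)) =
          Nat.card (((b ⊓ fSub M (g : H) : Subgroup M) : Set M)) := rfl
        omega
      calc r ^ 2 = Nat.card (MulAction.stabilizer ↥F m) := hstab.symm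
        _ = Nat.card ((MulAction.stabilizer ↥F m).map F.subtype) :=
          (Subgroup.card_map_of_injective (Subgroup.subtype_injective F)).symm
        _ ≤ Nat.card ↥(F ⊓ fixer b) := Subgroup.card_le_of_le hle
  have h9 : r ^ 2 ≤ r := hKge.trans hKle
  nlinarith

end pair

end Cfsg.Agent.Lib.Helper17.R3SMALL
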