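import Mathlib
import Cfsg.Prelude.Def_Transfer
import Cfsg.Prelude.Def_Solvable
import Cfsg.Prelude.Def_Local
import Cfsg.Prelude.Def_OddOrderLocal
import Cfsg.Prelude.Def_CaseTheorems
import Cfsg.Agent.Lib.Helper13.R3Defs2
import Cfsg.Agent.Lib.Helper17.R3SMALL

/-!
# S4404 wave 2 leaf AUTR (helper17): `relIndex_fixer_le`

An `r`-group `R` (`r` odd) normalizing `b`, `|b| ≤ 8`, has `|R : C_R(b)| ≤ r`.

If `R` moves some `m ∈ b`, the orbit of `m` lies in `b \ 1` (at most 7 points), so it has length `r`;
the stabilizer `R_m` has index `r` = the smallest prime factor of `|R|`, hence is normal, hence fixes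
the whole orbit pointwise; each of its elements fixes at least 4 elements of `b` and so fixes `b`
pointwise (`R3SMALL.fix_of_card_fixed_ge`).  So `R_m ≤ C_R(b)`.
-/

set_option autoImplicit false

namespace Cfsg.Agent.Lib.Helper17.R3AUTR

open Pointwise Cfsg.Agent.Lib.Helper13.R3
open scoped commutatorElement

section act

variable {H : Type*} [Group H] [Finite H] {M : Type*} [CommGroup M] [Finite M]
  [MulDistribMulAction H M]

/-- AUTR `relIndex_fixer_le`. -/
theorem relIndex_fixer_le (hM2 : ∀ m : M, m ^ 2 = 1) (b : Subgroup M) (hb : Nat.card b ≤ 8)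
    (r : ℕ) (hr : r.Prime) (hr2 : r ≠ 2) (R : Subgroup H) (hR : IsPGroup r R)
    (hRb : ∀ f ∈ R, f • b = b) : (R ⊓ fixer b).relIndex R ≤ r := by
  have hr3 : 3 ≤ r := by
    have := hr.two_le
    omega
  have hrodd : Odd r := hr.odd_of_ne_two hr2
  by_cases hall : ∀ f ∈ R, ∀ m ∈ b, f • m = m
  · have hKR : R ⊓ fixer b = R := inf_eq_left.mpr (fun f hf => hall f hf)
    rw [hKR, Subgroup.relIndex_self]
    exact hr.one_le
  · push Not at hall
    obtain ⟨f₀, hf₀, m, hm, hne⟩ := hall
    have hrfact : Fact r.Prime := ⟨hr⟩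
    obtain ⟨n, hn⟩ := hR.exists_card_eq
    have hmem : ∀ f ∈ R, ∀ m' ∈ b, f • m' ∈ b := by
      intro f hf m' hm'
      have := Subgroup.smul_mem_pointwise_smul m' f b hm'
      rwa [hRb f hf] at this
    have hm1 : m ≠ 1 := by
      rintro rfl
      exact hne (smul_one f₀)
    set O : Set M := MulAction.orbit ↥R m with hO
    have hOb : O ⊆ (b : Set M) := by
      rintro _ ⟨g, rfl⟩
      exact hmem g g.2 m hm
    have hO1 : (1 : M) ∉ O := by
      rintro ⟨g, hg⟩
      apply hm1
      have hg' : (g : H) • m = 1 := hg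
      have := congrArg (fun z => (g : H)⁻¹ • z) hg'
      simpa using this
    have hOfin : O.Finite := Set.toFinite O
    have hidx : (MulAction.stabilizer ↥R m).index = O.ncard := MulAction.index_stabilizer ↥R m
    have hmul : Nat.card (MulAction.stabilizer ↥R m) * O.ncard = r ^ n := by
      rw [← hidx, Subgroup.card_mul_index, hn]
    have hO7 : O.ncard + 1 ≤ 8 := by
      have h1 : (insert (1 : M) O).ncard = O.ncard + 1 := Set.ncard_insert_of_notMem hO1 hOfin
      have h2 : insert (1 : M) O ⊆ (b : Set M) := Set.insert_subset b.one_mem hOb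
      have h3 := Set.ncard_le_ncard h2 (Set.toFinite _)
      rw [← h1]
      refine h3.trans ?_
      rw [← Nat.card_coe_set_eq]
      exact hb
    have hO2 : 2 ≤ O.ncard := by
      have h1 : ({m, f₀ • m} : Set M) ⊆ O := by
        rintro x (rfl | rfl)
        · exact MulAction.mem_orbit_self _
        · exact ⟨⟨f₀, hf₀⟩, rfl⟩
      have h2 : ({m, f₀ • m} : Set M).ncard = 2 := Set.ncard_pair (Ne.symm hne)
      calc 2 = ({m, f₀ • m} : Set M).ncard := h2.symm
        _ ≤ O.ncard := Set.ncard_le_ncard h1 hOfin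
    have hOr : O.ncard = r := by
      have hdvd : O.ncard ∣ r ^ n := Dvd.intro_left _ hmul
      obtain ⟨k, _, hk⟩ := (Nat.dvd_prime_pow hr).mp hdvd
      rcases k with _ | _ | k
      · rw [pow_zero] at hk
        omega
      · rw [hk]; simp
      · exfalso
        have h1 : r ^ 2 ≤ r ^ (k + 1 + 1) := Nat.pow_le_pow_right hr.pos (by omega)
        have h2 : 9 ≤ r ^ 2 := by nlinarith
        omega
    have hn0 : n ≠ 0 := by
      rintro rfl
      have hdvd : O.ncard ∣ r ^ 0 := Dvd.intro_left _ hmul
      rw [pow_zero, Nat.dvd_one] at hdvd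
      omega
    have hnormal : (MulAction.stabilizer ↥R m).Normal := by
      apply Subgroup.normal_of_index_eq_minFac_card
      rw [hidx, hOr, hn, hr.pow_minFac hn0]
    -- the stabilizer fixes `b` pointwise
    have hSt : ∀ g : ↥R, g ∈ MulAction.stabilizer ↥R m → (g : H) ∈ fixer b := by
      intro g hg
      obtain ⟨k, hk⟩ := (IsPGroup.iff_orderOf.mp hR) g
      have hgk : (g : H) ^ r ^ k = 1 := by
        have h1 : g ^ r ^ k = 1 := by rw [← hk]; exact pow_orderOf_eq_one g
        have := congrArg Subtype.val h1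
        simpa using this
      apply Cfsg.Agent.Lib.Helper17.R3SMALL.fix_of_card_fixed_ge hM2 b hb (r ^ k) hrodd.pow
        (g : H) hgk (hmem g g.2)
      have hsub : insert (1 : M) O ⊆ ((b ⊓ fSub M (g : H) : Subgroup M) : Set M) := by
        apply Set.insert_subset (Subgroup.one_mem _)
        rintro _ ⟨g', rfl⟩
        refine ⟨hmem g' g'.2 m hm, mem_fSub.mpr ?_⟩
        have hconj : g'⁻¹ * g * g' ∈ MulAction.stabilizer ↥R m := by
          have := hnormal.conj_mem g hg g'⁻¹
          simpa using this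
        have hfix : ((g'⁻¹ * g * g' : ↥R) : H) • m = m := hconj
        show (g : H) • ((g' : H) • m) = (g' : H) • m
        have h1 : (g : H) * (g' : H) = (g' : H) * (((g'⁻¹ * g * g' : ↥R)) : H) := by
          simp only [Subgroup.coe_mul, Subgroup.coe_inv]
          group
        rw [← mul_smul, h1, mul_smul, hfix]
      have h1 : (insert (1 : M) O).ncard = O.ncard + 1 := Set.ncard_insert_of_notMem hO1 hOfin
      have h3 := Set.ncard_le_ncard hsub (Set.toFinite _)
      rw [h1, hOr, ← Nat.card_coe_set_eq] at h3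
      have h5 : Nat.card ↥(b ⊓ fSub M (g : H)) =
        Nat.card (((b ⊓ fSub M (g : H) : Subgroup M) : Set M)) := rfl
      omega
    have hle : MulAction.stabilizer ↥R m ≤ (R ⊓ fixer b).subgroupOf R := by
      intro g hg
      rw [Subgroup.mem_subgroupOf]
      exact ⟨g.2, hSt g hg⟩
    have hdvd : ((R ⊓ fixer b).subgroupOf R).index ∣ (MulAction.stabilizer ↥R m).index :=
      Subgroup.index_dvd_of_le hle
    rw [hidx, hOr] at hdvd
    exact Nat.le_of_dvd hr.pos hdvd

end act

end Cfsg.Agent.Lib.Helper17.R3AUTR
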