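import Mathlib
import Cfsg.Prelude.Def_Local
import Cfsg.Agent.Lib.Helper17.Bender

/-!
Bender's lemma (helper17): `A` maximal in a simple group `G`, `S ≤ F*(A)` subnormal in `F*(A)` with
`C_{F*(A)}(S) ≤ S`, `B ≥ S`.
-/

set_option autoImplicit false

namespace Cfsg.Agent.Lib.Helper17

open Cfsg.Agent.Lib.Helper1 Cfsg.Agent.Lib.Helper8 Cfsg.Agent.Lib.Helper21

section
variable {G : Type*} [Group G]

theorem normalizer_map_subtype_eq_of_coatom [IsSimpleGroup G] {A : Subgroup G} (hA : IsCoatom A)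
    (N : Subgroup ↥A) [hNn : N.Normal] (hN : N ≠ ⊥) :
    Subgroup.normalizer ((N.map A.subtype : Subgroup G) : Set G) = A := by
  have h1 : A ≤ Subgroup.normalizer ((N.map A.subtype : Subgroup G) : Set G) := by
    have := Subgroup.le_normalizer_map (H := N) A.subtype
    rw [Subgroup.normalizer_eq_top_iff.mpr hNn, ← MonoidHom.range_eq_map, Subgroup.range_subtype]
      at this
    exact this
  rcases eq_or_lt_of_le h1 with h | h
  · exact h.symm
  · exfalso
    have htop := hA.2 _ h
    have hn : (N.map A.subtype).Normal := Subgroup.normalizer_eq_top_iff.mp htop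
    rcases hn.eq_bot_or_eq_top with hb | ht
    · apply hN
      exact (Subgroup.map_eq_bot_iff_of_injective N A.subtype_injective).mp hb
    · apply hA.1
      rw [eq_top_iff, ← ht]
      exact Subgroup.map_subtype_le N

theorem mem_of_mem_centralizer_map_subtype [IsSimpleGroup G] {A : Subgroup G} (hA : IsCoatom A)
    (N : Subgroup ↥A) [hNn : N.Normal] (hN : N ≠ ⊥) {x : G}
    (hx : x ∈ Subgroup.centralizer ((N.map A.subtype : Subgroup G) : Set G)) : x ∈ A := by
  rw [← normalizer_map_subtype_eq_of_coatom hA N hN]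
  exact Subgroup.centralizer_le_normalizer _ hx

theorem le_normalizer_pCore_map (p : ℕ) (B : Subgroup G) :
    B ≤ Subgroup.normalizer (((Cfsg.pCore p ↥B).map B.subtype : Subgroup G) : Set G) := by
  have hn := pCore_normal p ↥B
  have := Subgroup.le_normalizer_map (H := Cfsg.pCore p ↥B) B.subtype
  rw [Subgroup.normalizer_eq_top_iff.mpr hn, ← MonoidHom.range_eq_map, Subgroup.range_subtype]
    at this
  exact this

end

section
variable {G : Type*} [Group G] [Finite G]

/-- transfer of the hypotheses of S1247 to `↥A`. -/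
theorem benderHyp_subgroupOf (A S : Subgroup G)
    (hSF : S ≤ (Cfsg.generalizedFittingSubgroup ↥A).map A.subtype)
    (hSsn : (S.subgroupOf ((Cfsg.generalizedFittingSubgroup ↥A).map A.subtype)).IsSubnormal)
    (hSC : (Cfsg.generalizedFittingSubgroup ↥A).map A.subtype ⊓ Subgroup.centralizer (S : Set G) ≤ S) :
    BenderHyp (S.subgroupOf A) := by
  refine ⟨?_, ?_, ?_⟩
  · intro s hs
    rw [Subgroup.mem_subgroupOf] at hs
    obtain ⟨f, hf, hfs⟩ := hSF hs
    have : f = s := Subtype.ext hfs
    rw [← this]; exact hf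
  · set e : ↥(Cfsg.generalizedFittingSubgroup ↥A) ≃*
        ↥((Cfsg.generalizedFittingSubgroup ↥A).map A.subtype) :=
      (Cfsg.generalizedFittingSubgroup ↥A).equivMapOfInjective A.subtype A.subtype_injective with he
    have h1 := hSsn.comap e.toMonoidHom
    have h2 : (S.subgroupOf ((Cfsg.generalizedFittingSubgroup ↥A).map A.subtype)).comap
        e.toMonoidHom = (S.subgroupOf A).subgroupOf (Cfsg.generalizedFittingSubgroup ↥A) := by
      ext x
      simp only [Subgroup.mem_comap, Subgroup.mem_subgroupOf]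
      rfl
    rw [h2] at h1
    exact h1
  · intro x hx
    obtain ⟨hx1, hx2⟩ := Subgroup.mem_inf.1 hx
    rw [Subgroup.mem_subgroupOf]
    apply hSC
    refine Subgroup.mem_inf.2 ⟨⟨x, hx1, rfl⟩, ?_⟩
    rw [Subgroup.mem_centralizer_iff] at hx2 ⊢
    intro s hs
    have hsA : s ∈ A := (hSF.trans (Subgroup.map_subtype_le _)) hs
    have := hx2 ⟨s, hsA⟩ (by rw [SetLike.mem_coe, Subgroup.mem_subgroupOf]; exact hs)
    exact congrArg Subtype.val this

/-- `S` (inside `↥A`) normalizes the trace on `A` of any subgroup normalized by `S`. -/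
theorem subgroupOf_le_normalizer_subgroupOf {A S P : Subgroup G}
    (hSP : S ≤ Subgroup.normalizer (P : Set G)) :
    S.subgroupOf A ≤ Subgroup.normalizer ((P.subgroupOf A : Subgroup ↥A) : Set ↥A) := by
  intro s hs
  rw [Subgroup.mem_subgroupOf] at hs
  rw [Subgroup.mem_normalizer_iff]
  intro h
  rw [Subgroup.mem_subgroupOf, Subgroup.mem_subgroupOf]
  exact Subgroup.mem_normalizer_iff.mp (hSP hs) (h : G)

/-- S1247 (a). -/
theorem bender_part_a (A S : Subgroup G)
    (hSF : S ≤ (Cfsg.generalizedFittingSubgroup ↥A).map A.subtype)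
    (hSsn : (S.subgroupOf ((Cfsg.generalizedFittingSubgroup ↥A).map A.subtype)).IsSubnormal)
    (hSC : (Cfsg.generalizedFittingSubgroup ↥A).map A.subtype ⊓ Subgroup.centralizer (S : Set G) ≤ S)
    (B : Subgroup G) (hSB : S ≤ B) (q : ℕ) (hq : q.Prime)
    (hq' : ¬ q ∣ Nat.card (Cfsg.fittingSubgroup ↥A)) :
    (Cfsg.pCore q ↥B).map B.subtype ⊓ A = ⊥ := by
  have hqf : Fact q.Prime := ⟨hq⟩
  have hS := benderHyp_subgroupOf A S hSF hSsn hSC
  have hP : IsPGroup q ((Cfsg.pCore q ↥B).map B.subtype) := (pCore_isPGroup q ↥B).map _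
  have h1 := hS.eq_bot_of_not_dvd q (((Cfsg.pCore q ↥B).map B.subtype).subgroupOf A)
    hP.comap_subtype
    (subgroupOf_le_normalizer_subgroupOf (hSB.trans (le_normalizer_pCore_map q B))) hq'
  rw [Subgroup.subgroupOf_eq_bot] at h1
  exact disjoint_iff.mp h1

/-- S1247 (b). -/
theorem bender_part_b [IsSimpleGroup G] (A : Subgroup G) (hA : IsCoatom A) (S : Subgroup G)
    (hSF : S ≤ (Cfsg.generalizedFittingSubgroup ↥A).map A.subtype)
    (hSsn : (S.subgroupOf ((Cfsg.generalizedFittingSubgroup ↥A).map A.subtype)).IsSubnormal)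
    (hSC : (Cfsg.generalizedFittingSubgroup ↥A).map A.subtype ⊓ Subgroup.centralizer (S : Set G) ≤ S)
    (B : Subgroup G) (hSB : S ≤ B) (p : ℕ) (hp : p.Prime)
    (hp' : p ∣ Nat.card (Cfsg.fittingSubgroup ↥A)) :
    (Cfsg.pResidual p ↥(Cfsg.generalizedFittingSubgroup ↥A)).map
        ((Cfsg.generalizedFittingSubgroup ↥A).subtype) ≤
      (Subgroup.centralizer (((Cfsg.pCore p ↥B).map B.subtype : Subgroup G) : Set G)).subgroupOf A := by
  have hpf : Fact p.Prime := ⟨hp⟩
  have hS := benderHyp_subgroupOf A S hSF hSsn hSC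
  set PB : Subgroup G := (Cfsg.pCore p ↥B).map B.subtype with hPBdef
  have hPB : IsPGroup p PB := (pCore_isPGroup p ↥B).map _
  have hSN : S ≤ Subgroup.normalizer (PB : Set G) := hSB.trans (le_normalizer_pCore_map p B)
  have hP0 : IsPGroup p (PB.subgroupOf A) := hPB.comap_subtype
  have hSP0 := subgroupOf_le_normalizer_subgroupOf (A := A) hSN
  have hK3 := hS.le_centralizer_benderC p (PB.subgroupOf A) hP0 hSP0
  have hOp : Cfsg.pCore p ↥A ≠ ⊥ := pCore_ne_bot_of_dvd_card_fitting p hp'
  have hOpp := pCore_isPGroup p ↥A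
  -- (ii)
  have hii : ∀ x : G, x ∈ Subgroup.centralizer
      ((((S.subgroupOf A ⊓ Cfsg.pCore p ↥A : Subgroup ↥A).map A.subtype : Subgroup G)) : Set G) →
      x ∈ A := by
    intro x hx
    have hZn := center_pCore_normal (H := ↥A) p
    apply mem_of_mem_centralizer_map_subtype hA _ (center_pCore_ne_bot p hOp)
    refine Subgroup.centralizer_le ?_ hx
    have : (Cfsg.pCore p ↥A ⊓ Subgroup.centralizer (Cfsg.pCore p ↥A : Set ↥A)).map A.subtype ≤
        (S.subgroupOf A ⊓ Cfsg.pCore p ↥A : Subgroup ↥A).map A.subtype :=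
      Subgroup.map_mono (le_inf (hS.center_pCore_le p) inf_le_left)
    exact_mod_cast this
  -- (iii)
  have hiii : ∀ y : ↥A, y ∈ S.subgroupOf A → (orderOf y).Coprime p →
      y ∈ (Subgroup.centralizer (PB : Set G)).subgroupOf A := by
    intro y hyS hyc
    have hyC : y ∈ benderC p ↥A := mem_benderC_of_coprime p (hS.le hyS) hyc
    have hyO := benderC_le_centralizer_pCore p hyC
    rw [Subgroup.mem_centralizer_iff] at hyO
    have hyG : (y : G) ∈ S := by rw [Subgroup.mem_subgroupOf] at hyS; exact hyS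
    rw [Subgroup.mem_subgroupOf]
    have key := Cfsg.Agent.S0028.result p
      ((S.subgroupOf A ⊓ Cfsg.pCore p ↥A : Subgroup ↥A).map A.subtype)
      (Subgroup.zpowers (y : G)) PB ((hOpp.to_le inf_le_right).map _) ?_ hPB ?_ ?_ ?_ ?_
    · exact key (Subgroup.mem_zpowers _)
    · rw [Nat.card_zpowers, Subgroup.orderOf_coe]; exact hyc
    · rintro _ ⟨s, hs, rfl⟩
      rw [Subgroup.mem_centralizer_iff]
      intro h hh
      obtain ⟨n, rfl⟩ := Subgroup.mem_zpowers_iff.mp hh
      have h1 : (s : ↥A) * y = y * s := hyO s (Subgroup.mem_inf.1 hs).2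
      have h2 : Commute (A.subtype s) (y : G) := congrArg Subtype.val h1
      exact (h2.zpow_right n).eq.symm
    · rintro _ ⟨s, hs, rfl⟩
      apply hSN
      have := (Subgroup.mem_inf.1 hs).1
      rw [Subgroup.mem_subgroupOf] at this
      exact this
    · rw [Subgroup.zpowers_le]; exact hSN hyG
    · intro x hx
      obtain ⟨hx1, hx2⟩ := Subgroup.mem_inf.1 hx
      have hxA : x ∈ A := hii x hx2
      have h1 : (⟨x, hxA⟩ : ↥A) ∈ PB.subgroupOf A := by
        rw [Subgroup.mem_subgroupOf]; exact hx1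
      have h2 := hK3 h1
      rw [Subgroup.mem_centralizer_iff] at h2
      have h3 : y * (⟨x, hxA⟩ : ↥A) = ⟨x, hxA⟩ * y := h2 y hyC
      have h4 : Commute (y : G) x := congrArg Subtype.val h3
      rw [Subgroup.mem_centralizer_iff]
      intro h hh
      obtain ⟨n, rfl⟩ := Subgroup.mem_zpowers_iff.mp hh
      exact (h4.zpow_left n).eq
  -- (iv)
  have hiv : Cfsg.layer ↥A ≤ (Subgroup.centralizer (PB : Set G)).subgroupOf A := by
    apply sSup_le
    intro L hL
    exact component_le_of_coprime_mem p hL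
      (fun y hy hc => hiii y (hS.layer_le (component_le_layer hL hy)) hc)
  -- (v)
  have hv : ∀ r : ℕ, ∀ _ : Fact r.Prime, r ≠ p →
      Cfsg.pCore r ↥A ≤ (Subgroup.centralizer (PB : Set G)).subgroupOf A := by
    intro r hr hrp
    by_cases hOr : Cfsg.pCore r ↥A = ⊥
    · rw [hOr]; exact bot_le
    have hZn := center_pCore_normal (H := ↥A) r
    have hZne := center_pCore_ne_bot r hOr
    have hZC : Cfsg.pCore r ↥A ⊓ Subgroup.centralizer (Cfsg.pCore r ↥A : Set ↥A) ≤
        (Subgroup.centralizer (PB : Set G)).subgroupOf A := by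
      intro z hz
      apply hiii z (hS.center_pCore_le r hz)
      obtain ⟨k, hk⟩ := (pCore_isPGroup r ↥A) ⟨z, (Subgroup.mem_inf.1 hz).1⟩
      have hk' : z ^ (r ^ k) = 1 := by simpa using congrArg Subtype.val hk
      have hdvd := orderOf_dvd_of_pow_eq_one hk'
      exact Nat.Coprime.coprime_dvd_left hdvd
        (Nat.Coprime.pow_left _ ((Nat.coprime_primes hr.out hp).mpr hrp))
    have hPBA : PB ≤ A := by
      intro x hx
      apply mem_of_mem_centralizer_map_subtype hA _ hZne
      rw [Subgroup.mem_centralizer_iff]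
      rintro _ ⟨z, hz, rfl⟩
      have := hZC hz
      rw [Subgroup.mem_subgroupOf, Subgroup.mem_centralizer_iff] at this
      exact (this x hx).symm
    intro u hu
    rw [Subgroup.mem_subgroupOf, Subgroup.mem_centralizer_iff]
    intro x hx
    have h1 : (⟨x, hPBA hx⟩ : ↥A) ∈ PB.subgroupOf A := by
      rw [Subgroup.mem_subgroupOf]; exact hx
    have h2 := hS.le_centralizer_pCore p (PB.subgroupOf A) hP0 hSP0 r hrp h1
    rw [Subgroup.mem_centralizer_iff] at h2
    have h3 := h2 u hu
    exact (congrArg Subtype.val h3).symm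
  -- (vi)
  have hvi : benderC p ↥A ≤ (Subgroup.centralizer (PB : Set G)).subgroupOf A := benderC_le hiv hv
  unfold Cfsg.pResidual
  rw [MonoidHom.map_closure, Subgroup.closure_le]
  rintro _ ⟨g, hg, rfl⟩
  apply hvi
  apply mem_benderC_of_coprime p g.2
  rw [Subgroup.orderOf_coe]; exact hg

end

end Cfsg.Agent.Lib.Helper17
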