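import Mathlib
import Cfsg.Prelude.Def_Local
import Cfsg.Agent.Lib.Helper17.Bender

/-!
Bender's theorem on primitive pairs, abstract part (helper17).
-/

set_option autoImplicit false

namespace Cfsg.Agent.Lib.Helper17

open Cfsg.Agent.Lib.Helper1 Cfsg.Agent.Lib.Helper8 Cfsg.Agent.Lib.Helper21

section
variable {H : Type*} [Group H] [Finite H]

/-- `O_{p'}(F(H))` has order prime to `p`. -/
theorem coprime_card_iSup_pCore_ne (p : ℕ) [hp : Fact p.Prime] :
    (Nat.card ↥(⨆ r : {r : Nat.Primes // (r : ℕ) ≠ p}, Cfsg.pCore ((r : Nat.Primes) : ℕ) H)).Coprime p := by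
  classical
  let ι := ((Nat.card H).primeFactors.erase p)
  let K : ι → Subgroup H := fun r => Cfsg.pCore (r : ℕ) H
  have hprime : ∀ r : ι, Fact (Nat.Prime (r : ℕ)) := fun r =>
    ⟨Nat.prime_of_mem_primeFactors (Finset.mem_of_mem_erase r.2)⟩
  have hne : ∀ r : ι, (r : ℕ) ≠ p := fun r => Finset.ne_of_mem_erase r.2
  have hcomm : Pairwise fun i j : ι => ∀ x y : H, x ∈ K i → y ∈ K j → Commute x y := by
    intro i j hij x y hx hy
    have := hprime i
    have := hprime j
    exact pCore_commute (fun h => hij (Subtype.ext h)) x y hx hy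
  have hrange : (Subgroup.noncommPiCoprod hcomm).range = ⨆ i : ι, K i :=
    Subgroup.noncommPiCoprod_range
  have heq : (⨆ r : {r : Nat.Primes // (r : ℕ) ≠ p}, Cfsg.pCore ((r : Nat.Primes) : ℕ) H) =
      ⨆ i : ι, K i := by
    apply le_antisymm
    · apply iSup_le
      rintro ⟨r, hr⟩
      have : Fact (Nat.Prime (r : ℕ)) := ⟨r.2⟩
      by_cases hdvd : (r : ℕ) ∣ Nat.card H
      · have hmem : (r : ℕ) ∈ (Nat.card H).primeFactors.erase p :=
          Finset.mem_erase.mpr ⟨hr, Nat.mem_primeFactors.mpr ⟨r.2, hdvd, Nat.card_pos.ne'⟩⟩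
        exact le_iSup K ⟨(r : ℕ), hmem⟩
      · show Cfsg.pCore (r : ℕ) H ≤ _
        rw [pCore_eq_bot_of_not_dvd hdvd]
        exact bot_le
    · apply iSup_le
      intro i
      exact le_iSup (fun r : {r : Nat.Primes // (r : ℕ) ≠ p} =>
        Cfsg.pCore ((r : Nat.Primes) : ℕ) H) ⟨⟨(i : ℕ), (hprime i).out⟩, hne i⟩
  rw [heq, ← hrange]
  have hdvd := Subgroup.card_range_dvd (Subgroup.noncommPiCoprod hcomm)
  apply Nat.Coprime.coprime_dvd_left hdvd
  rw [Nat.card_pi]
  apply Nat.Coprime.prod_left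
  intro i _
  have := hprime i
  obtain ⟨n, hn⟩ := IsPGroup.iff_card.mp (pCore_isPGroup (i : ℕ) H)
  show (Nat.card ↥(Cfsg.pCore (i : ℕ) H)).Coprime p
  rw [hn]
  exact Nat.Coprime.pow_left _ ((Nat.coprime_primes (hprime i).out hp.out).mpr (hne i))

/-- with trivial layer, `benderC p H` has no `p`-torsion. -/
theorem eq_one_of_mem_benderC_of_pow (p : ℕ) [hp : Fact p.Prime] (hE : Cfsg.layer H = ⊥) {b : H}
    (hb : b ∈ benderC p H) {n : ℕ} (hbn : b ^ (p ^ n) = 1) : b = 1 := by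
  unfold benderC at hb
  rw [hE, bot_sup_eq] at hb
  have h1 := coprime_card_iSup_pCore_ne (H := H) p
  have h2 : orderOf (⟨b, hb⟩ : ↥(⨆ r : {r : Nat.Primes // (r : ℕ) ≠ p},
      Cfsg.pCore ((r : Nat.Primes) : ℕ) H)) ∣ Nat.card ↥(⨆ r : {r : Nat.Primes // (r : ℕ) ≠ p},
      Cfsg.pCore ((r : Nat.Primes) : ℕ) H) := orderOf_dvd_natCard _
  rw [Subgroup.orderOf_mk] at h2
  have h3 : orderOf b ∣ p ^ n := orderOf_dvd_of_pow_eq_one hbn
  have h4 : orderOf b ∣ Nat.gcd (Nat.card ↥(⨆ r : {r : Nat.Primes // (r : ℕ) ≠ p},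
      Cfsg.pCore ((r : Nat.Primes) : ℕ) H)) (p ^ n) := Nat.dvd_gcd h2 h3
  rw [Nat.Coprime.pow_right n h1] at h4
  exact orderOf_eq_one_iff.mp (Nat.dvd_one.mp h4)

theorem benderHyp_fstar : BenderHyp (Cfsg.generalizedFittingSubgroup H) := by
  refine ⟨le_rfl, ?_, inf_le_left⟩
  rw [Subgroup.subgroupOf_self]
  exact Subgroup.IsSubnormal.top

/-- (H1) a `p`-subgroup normalized by `F*(H)` centralizes `E(H) O_{p'}(F(H))`. -/
theorem le_centralizer_benderC_of_fstar_le_normalizer (p : ℕ) [hp : Fact p.Prime] (X : Subgroup H)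
    (hX : IsPGroup p X)
    (hFX : Cfsg.generalizedFittingSubgroup H ≤ Subgroup.normalizer (X : Set H)) :
    X ≤ Subgroup.centralizer (benderC p H : Set H) :=
  benderHyp_fstar.le_centralizer_benderC p X hX hFX

/-- (H2) a nontrivial `p`-subgroup normalized by `F*(H)` forces `O_p(H) ≠ 1`. -/
theorem pCore_ne_bot_of_fstar_le_normalizer (p : ℕ) [hp : Fact p.Prime] (X : Subgroup H)
    (hX : IsPGroup p X)
    (hFX : Cfsg.generalizedFittingSubgroup H ≤ Subgroup.normalizer (X : Set H)) (hne : X ≠ ⊥) :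
    Cfsg.pCore p H ≠ ⊥ := by
  apply pCore_ne_bot_of_dvd_card_fitting
  by_contra hnd
  exact hne (benderHyp_fstar.eq_bot_of_not_dvd p X hX hFX hnd)

/-- (H3) -/
theorem mem_centralizer_of_coprime_of_mem_centralizer_pCore (p : ℕ) [hp : Fact p.Prime]
    (hE : Cfsg.layer H = ⊥) (X : Subgroup H) (hX : IsPGroup p X)
    (hXW : X ≤ Subgroup.centralizer (benderC p H : Set H)) {k : H}
    (hk : k ∈ Subgroup.centralizer (Cfsg.pCore p H : Set H)) (hkc : (orderOf k).Coprime p) :
    k ∈ Subgroup.centralizer (X : Set H) := by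
  have hPn := pCore_normal p H
  have hWn := benderC_normal (H := H) p
  have hCPn : (Subgroup.centralizer (Cfsg.pCore p H : Set H)).Normal := Subgroup.normal_centralizer
  have hCWn : (Subgroup.centralizer (benderC p H : Set H)).Normal := Subgroup.normal_centralizer
  rw [Subgroup.mem_centralizer_iff]
  intro x hx
  set c := k * x * k⁻¹ * x⁻¹ with hc
  have hc1 : c ∈ Subgroup.centralizer (Cfsg.pCore p H : Set H) := by
    have h1 : x * k⁻¹ * x⁻¹ ∈ Subgroup.centralizer (Cfsg.pCore p H : Set H) :=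
      hCPn.conj_mem _ (Subgroup.inv_mem _ hk) x
    have : c = k * (x * k⁻¹ * x⁻¹) := by rw [hc]; group
    rw [this]; exact Subgroup.mul_mem _ hk h1
  have hc2 : c ∈ Subgroup.centralizer (benderC p H : Set H) := by
    have h1 : k * x * k⁻¹ ∈ Subgroup.centralizer (benderC p H : Set H) :=
      hCWn.conj_mem _ (hXW hx) k
    exact Subgroup.mul_mem _ h1 (Subgroup.inv_mem _ (hXW hx))
  have hc3 : c ∈ Cfsg.generalizedFittingSubgroup H := by
    apply centralizer_fstar_le
    rw [Subgroup.mem_centralizer_iff]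
    intro f hf
    have h1 := fstar_le_benderC_sup p hf
    rw [← SetLike.mem_coe, Subgroup.normal_mul] at h1
    obtain ⟨w, hw, a, ha, rfl⟩ := Set.mem_mul.mp h1
    rw [Subgroup.mem_centralizer_iff] at hc1 hc2
    have e1 := hc1 a ha
    have e2 := hc2 w hw
    calc w * a * c = w * (a * c) := by group
      _ = w * (c * a) := by rw [e1]
      _ = (w * c) * a := by group
      _ = (c * w) * a := by rw [e2]
      _ = c * (w * a) := by group
  have h1 := fstar_le_benderC_sup p hc3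
  rw [← SetLike.mem_coe, Subgroup.normal_mul] at h1
  obtain ⟨b, hb, a, ha, hba⟩ := Set.mem_mul.mp h1
  -- `b` commutes with `a` and `x`
  have hba' : Commute b a := by
    have := benderC_le_centralizer_pCore p hb
    rw [Subgroup.mem_centralizer_iff] at this
    exact (this a ha).symm
  have hbx : Commute b x := by
    have := hXW hx
    rw [Subgroup.mem_centralizer_iff] at this
    exact (this b hb)
  have hbax : Commute b (a * x) := hba'.mul_right hbx
  -- `a * x` is a `p`-element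
  have hPX : IsPGroup p ↥(Cfsg.pCore p H ⊔ X) :=
    IsPGroup.to_sup_of_normal_left (pCore_isPGroup p H) hX
  obtain ⟨n₁, hn₁⟩ := hPX ⟨a * x, Subgroup.mul_mem _ (le_sup_left (a := Cfsg.pCore p H) ha)
    (le_sup_right (b := X) hx)⟩
  have hn₁' : (a * x) ^ (p ^ n₁) = 1 := by simpa using congrArg Subtype.val hn₁
  obtain ⟨n₂, hn₂⟩ := hX ⟨x, hx⟩
  have hn₂' : x ^ (p ^ n₂) = 1 := by simpa using congrArg Subtype.val hn₂
  have hkx : k * x * k⁻¹ = b * (a * x) := by
    have : k * x * k⁻¹ = c * x := by rw [hc]; group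
    rw [this, ← hba]; group
  have hb1 : b = 1 := by
    apply eq_one_of_mem_benderC_of_pow p hE hb (n := n₁ + n₂)
    have e1 : (k * x * k⁻¹) ^ (p ^ (n₁ + n₂)) = 1 := by
      rw [conj_pow, pow_add, mul_comm, pow_mul, hn₂', one_pow]; group
    rw [hkx, hbax.mul_pow] at e1
    have e2 : (a * x) ^ (p ^ (n₁ + n₂)) = 1 := by
      rw [pow_add, pow_mul, hn₁', one_pow]
    rw [e2, mul_one] at e1
    exact e1
  have hca : c = a := by rw [← hba, hb1, one_mul]
  have hcP : c ∈ Cfsg.pCore p H := by rw [hca]; exact ha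
  -- `x k x⁻¹ = c⁻¹ k`
  have hkc' : Commute c k := by
    rw [Subgroup.mem_centralizer_iff] at hk
    exact (hk c hcP)
  have hxk : x * k * x⁻¹ = c⁻¹ * k := by rw [hc]; group
  have e3 : (x * k * x⁻¹) ^ (orderOf k) = 1 := by
    rw [conj_pow, pow_orderOf_eq_one]; group
  rw [hxk, (hkc'.inv_left).mul_pow, pow_orderOf_eq_one, mul_one, inv_pow, inv_eq_one] at e3
  obtain ⟨n₃, hn₃⟩ := (pCore_isPGroup p H) ⟨c, hcP⟩
  have hn₃' : c ^ (p ^ n₃) = 1 := by simpa using congrArg Subtype.val hn₃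
  have hc1' : c = 1 := by
    have d1 : orderOf c ∣ orderOf k := orderOf_dvd_of_pow_eq_one e3
    have d2 : orderOf c ∣ p ^ n₃ := orderOf_dvd_of_pow_eq_one hn₃'
    have d3 : orderOf c ∣ Nat.gcd (orderOf k) (p ^ n₃) := Nat.dvd_gcd d1 d2
    rw [Nat.Coprime.pow_right n₃ hkc] at d3
    exact orderOf_eq_one_iff.mp (Nat.dvd_one.mp d3)
  have : k * x * k⁻¹ * x⁻¹ = 1 := by rw [← hc, hc1']
  calc x * k = (k * x * k⁻¹ * x⁻¹)⁻¹ * (k * x) := by group
    _ = k * x := by rw [this, inv_one, one_mul]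

/-- (H4) -/
theorem centralizer_pCore_le_of_forall_eq_bot (p : ℕ) [hp : Fact p.Prime]
    (hE : Cfsg.layer H = ⊥)
    (hO : ∀ r : ℕ, ∀ _ : Fact r.Prime, r ≠ p → Cfsg.pCore r H = ⊥) :
    Subgroup.centralizer (Cfsg.pCore p H : Set H) ≤ Cfsg.pCore p H := by
  have h1 : Cfsg.generalizedFittingSubgroup H ≤ Cfsg.pCore p H := by
    apply fstar_le_of
    · rw [hE]; exact bot_le
    · intro r hr
      by_cases hrp : r = p
      · subst hrp; exact le_rfl
      · rw [hO r hr hrp]; exact bot_le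
  calc Subgroup.centralizer (Cfsg.pCore p H : Set H)
      ≤ Subgroup.centralizer (Cfsg.generalizedFittingSubgroup H : Set H) :=
        Subgroup.centralizer_le (by exact_mod_cast h1)
    _ ≤ Cfsg.generalizedFittingSubgroup H := centralizer_fstar_le
    _ ≤ Cfsg.pCore p H := h1

end

end Cfsg.Agent.Lib.Helper17
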