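import Mathlib
import Cfsg.Prelude.Def_Local
import Cfsg.Agent.Lib.Helper1.Zipper
import Cfsg.Agent.Lib.Helper17.Bender2
import Cfsg.Agent.Lib.Helper17.Bender3

/-!
Bender's theorem on primitive pairs (helper17), group-level part.
-/

set_option autoImplicit false

namespace Cfsg.Agent.Lib.Helper17

open Cfsg.Agent.Lib.Helper1 Cfsg.Agent.Lib.Helper8 Cfsg.Agent.Lib.Helper21

section
variable {G : Type*} [Group G]

/-- one-directional primitivity of the pair `(M₁, M₂)`. -/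
def PrimDir (M₁ M₂ : Subgroup G) : Prop :=
  ∀ A : Subgroup G, A ≠ ⊥ → A ≤ M₁ ⊓ M₂ → M₁ ≤ Subgroup.normalizer (A : Set G) →
    M₂ ⊓ Subgroup.normalizer (A : Set G) ≤ M₁

theorem false_of_common_normal {M₁ M₂ : Subgroup G} (h12 : PrimDir M₁ M₂) (h21 : PrimDir M₂ M₁)
    (hne : M₁ ≠ M₂) {A : Subgroup G} (hA : A ≠ ⊥) (hAD : A ≤ M₁ ⊓ M₂)
    (h1 : M₁ ≤ Subgroup.normalizer (A : Set G)) (h2 : M₂ ≤ Subgroup.normalizer (A : Set G)) :
    False := by
  apply hne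
  apply le_antisymm
  · have := h21 A hA (by rw [inf_comm]; exact hAD) h2
    exact (le_inf le_rfl h1).trans this
  · have := h12 A hA hAD h1
    exact (le_inf le_rfl h2).trans this

theorem le_normalizer_map_subtype (M : Subgroup G) (N : Subgroup ↥M) [hN : N.Normal] :
    M ≤ Subgroup.normalizer ((N.map M.subtype : Subgroup G) : Set G) := by
  have := Subgroup.le_normalizer_map (H := N) M.subtype
  rw [Subgroup.normalizer_eq_top_iff.mpr hN, ← MonoidHom.range_eq_map, Subgroup.range_subtype]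
    at this
  exact this

theorem subgroupOf_map_subtype_self (M : Subgroup G) (N : Subgroup ↥M) :
    (N.map M.subtype).subgroupOf M = N :=
  Subgroup.comap_map_eq_self_of_injective M.subtype_injective N

theorem le_normalizer_closure_of_conj_mem {M : Subgroup G} {S : Set G}
    (h : ∀ m ∈ M, ∀ s ∈ S, m * s * m⁻¹ ∈ S) : M ≤ Subgroup.normalizer (Subgroup.closure S : Set G) := by
  have key : ∀ m ∈ M, ∀ x ∈ Subgroup.closure S, m * x * m⁻¹ ∈ Subgroup.closure S := by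
    intro m hm x hx
    have : Subgroup.closure S ≤ (Subgroup.closure S).comap (MulAut.conj m).toMonoidHom := by
      rw [Subgroup.closure_le]
      intro s hs
      exact Subgroup.subset_closure (h m hm s hs)
    exact this hx
  intro m hm
  rw [Subgroup.mem_normalizer_iff]
  intro x
  constructor
  · exact key m hm x
  · intro hx
    have := key m⁻¹ (M.inv_mem hm) _ hx
    simpa [mul_assoc] using this

/-- the subgroup generated by the `p'`-elements of `Y`. -/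
def opUp (p : ℕ) (Y : Subgroup G) : Subgroup G :=
  Subgroup.closure {g : G | g ∈ Y ∧ (orderOf g).Coprime p}

theorem opUp_le (p : ℕ) (Y : Subgroup G) : opUp p Y ≤ Y := by
  unfold opUp
  rw [Subgroup.closure_le]
  intro g hg
  exact hg.1

theorem opUp_le_opUp {p : ℕ} {Y Y' : Subgroup G}
    (h : ∀ g ∈ Y, (orderOf g).Coprime p → g ∈ Y') : opUp p Y ≤ opUp p Y' := by
  unfold opUp
  apply Subgroup.closure_mono
  intro g hg
  exact ⟨h g hg.1 hg.2, hg.2⟩

theorem le_normalizer_opUp {p : ℕ} {M Y : Subgroup G}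
    (h : M ≤ Subgroup.normalizer (Y : Set G)) : M ≤ Subgroup.normalizer (opUp p Y : Set G) := by
  apply le_normalizer_closure_of_conj_mem
  intro m hm s hs
  refine ⟨(Subgroup.mem_normalizer_iff.mp (h hm) s).mp hs.1, ?_⟩
  have : orderOf (m * s * m⁻¹) = orderOf s := by
    have := orderOf_injective (MulAut.conj m).toMonoidHom (MulAut.conj m).injective s
    simpa [MulAut.conj_apply] using this
  rw [this]; exact hs.2

theorem le_opUp_of_forall_coprime {p : ℕ} {R Y : Subgroup G} (hRY : R ≤ Y)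
    (h : ∀ g ∈ R, (orderOf g).Coprime p) : R ≤ opUp p Y := by
  intro g hg
  exact Subgroup.subset_closure ⟨hRY hg, h g hg⟩

end

section
variable {G : Type*} [Group G] [Finite G]

/-- a subgroup `K ≤ M`, subnormal in `M` and quasisimple, lies in the layer of `M`. -/
theorem le_layer_map_of_subIn {K M : Subgroup G} (h : SubIn K M) (hq : Cfsg.IsQuasisimple ↥K) :
    K ≤ (Cfsg.layer ↥M).map M.subtype := by
  have hc : Cfsg.IsComponent (K.subgroupOf M) :=
    ⟨h.2, (isQuasisimple_subgroupOf_iff h.1).mpr hq⟩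
  intro x hx
  exact ⟨⟨x, h.1 hx⟩, component_le_layer hc (by rw [Subgroup.mem_subgroupOf]; exact hx), rfl⟩

/-- (G1) components of `M₁` are components of `M₂`. -/
theorem layer_map_le_layer_map {M₁ M₂ : Subgroup G}
    (h₁ : (Cfsg.generalizedFittingSubgroup ↥M₁).map M₁.subtype ≤ M₂)
    (h₂ : (Cfsg.generalizedFittingSubgroup ↥M₂).map M₂.subtype ≤ M₁) :
    (Cfsg.layer ↥M₁).map M₁.subtype ≤ (Cfsg.layer ↥M₂).map M₂.subtype := by
  rw [Subgroup.map_le_iff_le_comap]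
  apply sSup_le
  intro K hK
  rw [← Subgroup.map_le_iff_le_comap]
  set KG : Subgroup G := K.map M₁.subtype with hKG
  set F₂ : Subgroup G := (Cfsg.generalizedFittingSubgroup ↥M₂).map M₂.subtype with hF₂
  have hF₂M₂ : F₂ ≤ M₂ := Subgroup.map_subtype_le _
  have hKM₁ : KG ≤ M₁ := Subgroup.map_subtype_le _
  have hKF₁ : KG ≤ (Cfsg.generalizedFittingSubgroup ↥M₁).map M₁.subtype :=
    Subgroup.map_mono ((component_le_layer hK).trans le_sup_left)
  have hKM₂ : KG ≤ M₂ := hKF₁.trans h₁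
  have hKD : KG ≤ M₁ ⊓ M₂ := le_inf hKM₁ hKM₂
  have hF₂D : F₂ ≤ M₁ ⊓ M₂ := le_inf h₂ hF₂M₂
  have hq : Cfsg.IsQuasisimple ↥KG := (isQuasisimple_map_subtype_iff M₁ K).mpr hK.2
  have hsub1 : SubIn KG M₁ := ⟨hKM₁, by rw [hKG, subgroupOf_map_subtype_self]; exact hK.1⟩
  have hsubD : SubIn KG (M₁ ⊓ M₂) := hsub1.restrict hKD inf_le_left
  have hFn := generalizedFittingSubgroup_normal ↥M₂
  have hM₂F₂ : M₂ ≤ Subgroup.normalizer (F₂ : Set G) := le_normalizer_map_subtype M₂ _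
  -- `KG ≤ F₂`
  have hKF₂ : KG ≤ F₂ := by
    have hcomp : Cfsg.IsComponent (KG.subgroupOf (M₁ ⊓ M₂)) :=
      ⟨hsubD.2, (isQuasisimple_subgroupOf_iff hKD).mpr hq⟩
    have hnorm : (F₂.subgroupOf (M₁ ⊓ M₂)).Normal :=
      (Subgroup.normal_subgroupOf_iff_le_normalizer hF₂D).mpr (inf_le_right.trans hM₂F₂)
    rcases component_le_or_commutator_eq_bot _ _ hcomp hnorm.isSubnormal with h | h
    · intro x hx
      have h1 : (⟨x, hKD hx⟩ : ↥(M₁ ⊓ M₂)) ∈ KG.subgroupOf (M₁ ⊓ M₂) := by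
        rw [Subgroup.mem_subgroupOf]; exact hx
      have h2 := h h1
      rw [Subgroup.mem_subgroupOf] at h2
      exact h2
    · have h1 := commutator_subgroupOf_eq_bot hKD hF₂D h
      rw [Subgroup.commutator_eq_bot_iff_le_centralizer] at h1
      intro x hx
      have hx2 : (⟨x, hKM₂ hx⟩ : ↥M₂) ∈ Subgroup.centralizer
          (Cfsg.generalizedFittingSubgroup ↥M₂ : Set ↥M₂) := by
        rw [Subgroup.mem_centralizer_iff]
        intro f hf
        have h3 := h1 hx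
        rw [Subgroup.mem_centralizer_iff] at h3
        exact Subtype.ext (h3 (f : G) ⟨f, hf, rfl⟩)
      exact ⟨⟨x, hKM₂ hx⟩, centralizer_fstar_le hx2, rfl⟩
  have hsubF : SubIn KG F₂ := hsubD.restrict hKF₂ hF₂D
  have hsub2 : SubIn KG M₂ := hsubF.trans (SubIn.of_le_normalizer hF₂M₂ hM₂F₂)
  exact le_layer_map_of_subIn hsub2 hq

/-- (G3) in a primitive pair with `F*(M_i) ≤ M_j` both layers are trivial. -/
theorem layer_eq_bot_of_primitive {M₁ M₂ : Subgroup G} (h12 : PrimDir M₁ M₂) (h21 : PrimDir M₂ M₁)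
    (hne : M₁ ≠ M₂)
    (h₁ : (Cfsg.generalizedFittingSubgroup ↥M₁).map M₁.subtype ≤ M₂)
    (h₂ : (Cfsg.generalizedFittingSubgroup ↥M₂).map M₂.subtype ≤ M₁) :
    Cfsg.layer ↥M₁ = ⊥ := by
  by_contra hE
  have heq : (Cfsg.layer ↥M₁).map M₁.subtype = (Cfsg.layer ↥M₂).map M₂.subtype :=
    le_antisymm (layer_map_le_layer_map h₁ h₂) (layer_map_le_layer_map h₂ h₁)
  have hn1 := layer_normal ↥M₁
  have hn2 := layer_normal ↥M₂
  apply false_of_common_normal h12 h21 hne (A := (Cfsg.layer ↥M₁).map M₁.subtype)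
  · intro hb
    exact hE ((Subgroup.map_eq_bot_iff_of_injective _ M₁.subtype_injective).mp hb)
  · refine le_inf (Subgroup.map_subtype_le _) ?_
    rw [heq]; exact Subgroup.map_subtype_le _
  · exact le_normalizer_map_subtype M₁ _
  · rw [heq]; exact le_normalizer_map_subtype M₂ _

/-- (G4) -/
theorem pCore_transfer {M₁ M₂ : Subgroup G}
    (h₁ : (Cfsg.generalizedFittingSubgroup ↥M₁).map M₁.subtype ≤ M₂)
    (h₂ : (Cfsg.generalizedFittingSubgroup ↥M₂).map M₂.subtype ≤ M₁)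
    (p : ℕ) [hp : Fact p.Prime] :
    (((Cfsg.pCore p ↥M₁).map M₁.subtype).subgroupOf M₂ ≤
        Subgroup.centralizer (benderC p ↥M₂ : Set ↥M₂)) ∧
      (Cfsg.pCore p ↥M₁ ≠ ⊥ → Cfsg.pCore p ↥M₂ ≠ ⊥) := by
  set P₁ : Subgroup G := (Cfsg.pCore p ↥M₁).map M₁.subtype with hP₁
  have hP₁M₂ : P₁ ≤ M₂ := (Subgroup.map_mono (pCore_le_fstar p)).trans h₁
  have hXp : IsPGroup p ↥(P₁.subgroupOf M₂) :=
    ((pCore_isPGroup p ↥M₁).map _).comap_subtype
  have hn := pCore_normal p ↥M₁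
  have hnorm : Cfsg.generalizedFittingSubgroup ↥M₂ ≤
      Subgroup.normalizer ((P₁.subgroupOf M₂ : Subgroup ↥M₂) : Set ↥M₂) := by
    have h3 : (Cfsg.generalizedFittingSubgroup ↥M₂).map M₂.subtype ≤
        Subgroup.normalizer (P₁ : Set G) := h₂.trans (le_normalizer_map_subtype M₁ _)
    have := subgroupOf_le_normalizer_subgroupOf (A := M₂) h3
    rw [subgroupOf_map_subtype_self] at this
    exact this
  refine ⟨le_centralizer_benderC_of_fstar_le_normalizer p _ hXp hnorm, ?_⟩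
  intro hne
  apply pCore_ne_bot_of_fstar_le_normalizer p _ hXp hnorm
  intro hb
  rw [Subgroup.subgroupOf_eq_bot] at hb
  apply hne
  have : P₁ = ⊥ := by
    rw [eq_bot_iff]
    intro x hx
    exact (disjoint_iff.mp hb) ▸ Subgroup.mem_inf.2 ⟨hx, hP₁M₂ hx⟩
  exact (Subgroup.map_eq_bot_iff_of_injective _ M₁.subtype_injective).mp this

omit [Finite G] in
theorem le_normalizer_inf_centralizer {M P : Subgroup G}
    (h : M ≤ Subgroup.normalizer (P : Set G)) :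
    M ≤ Subgroup.normalizer ((M ⊓ Subgroup.centralizer (P : Set G) : Subgroup G) : Set G) := by
  intro n hn
  have hnP := h hn
  rw [Subgroup.mem_normalizer_iff]
  intro x
  rw [Subgroup.mem_inf, Subgroup.mem_inf]
  have hM : x ∈ M ↔ n * x * n⁻¹ ∈ M := by
    constructor
    · intro hx; exact M.mul_mem (M.mul_mem hn hx) (M.inv_mem hn)
    · intro hx
      have := M.mul_mem (M.mul_mem (M.inv_mem hn) hx) hn
      simpa [mul_assoc] using this
  have hC : x ∈ Subgroup.centralizer (P : Set G) ↔ n * x * n⁻¹ ∈ Subgroup.centralizer (P : Set G) := by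
    constructor
    · intro hx
      rw [Subgroup.mem_centralizer_iff] at hx ⊢
      intro b hb
      have hb' : n⁻¹ * b * n ∈ P := (Subgroup.mem_normalizer_iff''.1 hnP b).1 hb
      have := hx _ hb'
      have e1 : b * (n * x * n⁻¹) = n * ((n⁻¹ * b * n) * x) * n⁻¹ := by group
      have e2 : n * x * n⁻¹ * b = n * (x * (n⁻¹ * b * n)) * n⁻¹ := by group
      rw [e1, e2, this]
    · intro hx
      rw [Subgroup.mem_centralizer_iff] at hx ⊢
      intro b hb
      have hb' : n * b * n⁻¹ ∈ P := (Subgroup.mem_normalizer_iff.1 hnP b).1 hb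
      have := hx _ hb'
      have e1 : b * x = n⁻¹ * ((n * b * n⁻¹) * (n * x * n⁻¹)) * n := by group
      have e2 : x * b = n⁻¹ * ((n * x * n⁻¹) * (n * b * n⁻¹)) * n := by group
      rw [e1, e2, this]
  rw [hM, hC]

/-- (G5) `p'`-elements of `C_{M₂}(O_p(M₂))` lie in `C_{M₁}(O_p(M₁))`. -/
theorem coprime_mem_transfer {M₁ M₂ : Subgroup G} (h12 : PrimDir M₁ M₂)
    (h₁ : (Cfsg.generalizedFittingSubgroup ↥M₁).map M₁.subtype ≤ M₂)
    (h₂ : (Cfsg.generalizedFittingSubgroup ↥M₂).map M₂.subtype ≤ M₁)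
    (p : ℕ) [hp : Fact p.Prime] (hE₂ : Cfsg.layer ↥M₂ = ⊥) (hP₁ : Cfsg.pCore p ↥M₁ ≠ ⊥)
    {k : G} (hkM : k ∈ M₂)
    (hkC : k ∈ Subgroup.centralizer (((Cfsg.pCore p ↥M₂).map M₂.subtype : Subgroup G) : Set G))
    (hkc : (orderOf k).Coprime p) :
    k ∈ M₁ ∧ k ∈ Subgroup.centralizer (((Cfsg.pCore p ↥M₁).map M₁.subtype : Subgroup G) : Set G) := by
  set P₁ : Subgroup G := (Cfsg.pCore p ↥M₁).map M₁.subtype with hP₁def
  have hP₁M₂ : P₁ ≤ M₂ := (Subgroup.map_mono (pCore_le_fstar p)).trans h₁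
  have hP₁M₁ : P₁ ≤ M₁ := Subgroup.map_subtype_le _
  have hXp : IsPGroup p ↥(P₁.subgroupOf M₂) :=
    ((pCore_isPGroup p ↥M₁).map _).comap_subtype
  have hXW := (pCore_transfer h₁ h₂ p).1
  have hk1 : (⟨k, hkM⟩ : ↥M₂) ∈ Subgroup.centralizer (Cfsg.pCore p ↥M₂ : Set ↥M₂) := by
    rw [Subgroup.mem_centralizer_iff] at hkC ⊢
    intro a ha
    exact Subtype.ext (hkC (a : G) ⟨a, ha, rfl⟩)
  have hk2 : (orderOf (⟨k, hkM⟩ : ↥M₂)).Coprime p := by
    rw [Subgroup.orderOf_mk]; exact hkc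
  have hk3 := mem_centralizer_of_coprime_of_mem_centralizer_pCore p hE₂ _ hXp hXW hk1 hk2
  have hkP₁ : k ∈ Subgroup.centralizer (P₁ : Set G) := by
    rw [Subgroup.mem_centralizer_iff] at hk3 ⊢
    intro y hy
    have := hk3 ⟨y, hP₁M₂ hy⟩ (by rw [SetLike.mem_coe, Subgroup.mem_subgroupOf]; exact hy)
    exact congrArg Subtype.val this
  refine ⟨?_, hkP₁⟩
  have hn := pCore_normal p ↥M₁
  apply h12 P₁ ?_ (le_inf hP₁M₁ hP₁M₂) (le_normalizer_map_subtype M₁ _)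
  · exact Subgroup.mem_inf.2 ⟨hkM, Subgroup.centralizer_le_normalizer _ hkP₁⟩
  · intro hb
    exact hP₁ ((Subgroup.map_eq_bot_iff_of_injective _ M₁.subtype_injective).mp hb)

/-- (G6)-(G7) two primes in `π(F(M₂))` are impossible. -/
theorem false_of_two_primes {M₁ M₂ : Subgroup G} (h12 : PrimDir M₁ M₂) (h21 : PrimDir M₂ M₁)
    (hne : M₁ ≠ M₂)
    (h₁ : (Cfsg.generalizedFittingSubgroup ↥M₁).map M₁.subtype ≤ M₂)
    (h₂ : (Cfsg.generalizedFittingSubgroup ↥M₂).map M₂.subtype ≤ M₁)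
    (p : ℕ) [hp : Fact p.Prime] (hE₁ : Cfsg.layer ↥M₁ = ⊥) (hE₂ : Cfsg.layer ↥M₂ = ⊥)
    (hP₁ : Cfsg.pCore p ↥M₁ ≠ ⊥) (hP₂ : Cfsg.pCore p ↥M₂ ≠ ⊥)
    (r : ℕ) [hr : Fact r.Prime] (hrp : r ≠ p) (hR : Cfsg.pCore r ↥M₂ ≠ ⊥) : False := by
  set P₁ : Subgroup G := (Cfsg.pCore p ↥M₁).map M₁.subtype with hP₁def
  set P₂ : Subgroup G := (Cfsg.pCore p ↥M₂).map M₂.subtype with hP₂def
  set K₁ : Subgroup G := M₁ ⊓ Subgroup.centralizer (P₁ : Set G) with hK₁
  set K₂ : Subgroup G := M₂ ⊓ Subgroup.centralizer (P₂ : Set G) with hK₂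
  have hn1 := pCore_normal p ↥M₁
  have hn2 := pCore_normal p ↥M₂
  have hM₁P₁ : M₁ ≤ Subgroup.normalizer (P₁ : Set G) := le_normalizer_map_subtype M₁ _
  have hM₂P₂ : M₂ ≤ Subgroup.normalizer (P₂ : Set G) := le_normalizer_map_subtype M₂ _
  have heq : opUp p K₁ = opUp p K₂ := by
    apply le_antisymm
    · apply opUp_le_opUp
      intro g hg hc
      obtain ⟨hg1, hg2⟩ := Subgroup.mem_inf.1 hg
      have := coprime_mem_transfer h21 h₂ h₁ p hE₁ hP₂ hg1 hg2 hc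
      exact Subgroup.mem_inf.2 this
    · apply opUp_le_opUp
      intro g hg hc
      obtain ⟨hg1, hg2⟩ := Subgroup.mem_inf.1 hg
      have := coprime_mem_transfer h12 h₁ h₂ p hE₂ hP₁ hg1 hg2 hc
      exact Subgroup.mem_inf.2 this
  have hA1 : M₁ ≤ Subgroup.normalizer (opUp p K₂ : Set G) := by
    rw [← heq]
    exact le_normalizer_opUp (le_normalizer_inf_centralizer hM₁P₁)
  have hA2 : M₂ ≤ Subgroup.normalizer (opUp p K₂ : Set G) :=
    le_normalizer_opUp (le_normalizer_inf_centralizer hM₂P₂)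
  have hAD : opUp p K₂ ≤ M₁ ⊓ M₂ := by
    refine le_inf ?_ ((opUp_le p K₂).trans inf_le_left)
    rw [← heq]
    exact (opUp_le p K₁).trans inf_le_left
  -- nontriviality
  set R₂ : Subgroup G := (Cfsg.pCore r ↥M₂).map M₂.subtype with hR₂
  have hR₂ne : R₂ ≠ ⊥ := by
    intro hb
    exact hR ((Subgroup.map_eq_bot_iff_of_injective _ M₂.subtype_injective).mp hb)
  have hR₂A : R₂ ≤ opUp p K₂ := by
    apply le_opUp_of_forall_coprime
    · refine le_inf (Subgroup.map_subtype_le _) ?_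
      rintro _ ⟨y, hy, rfl⟩
      rw [Subgroup.mem_centralizer_iff]
      rintro _ ⟨a, ha, rfl⟩
      have := pCore_commute hrp y a hy ha
      exact (congrArg Subtype.val this.eq).symm
    · rintro _ ⟨y, hy, rfl⟩
      obtain ⟨k, hk⟩ := (pCore_isPGroup r ↥M₂) ⟨y, hy⟩
      have hk' : (M₂.subtype y) ^ (r ^ k) = 1 := by
        have := congrArg Subtype.val hk
        simpa using congrArg Subtype.val this
      have hdvd := orderOf_dvd_of_pow_eq_one hk'
      exact Nat.Coprime.coprime_dvd_left hdvd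
        (Nat.Coprime.pow_left _ ((Nat.coprime_primes hr.out hp.out).mpr hrp))
  have hAne : opUp p K₂ ≠ ⊥ := by
    intro hb
    apply hR₂ne
    rw [eq_bot_iff, ← hb]
    exact hR₂A
  exact false_of_common_normal h12 h21 hne hAne hAD hA1 hA2

theorem bender_primitive_aux {M₁ M₂ : Subgroup G} (h12 : PrimDir M₁ M₂) (h21 : PrimDir M₂ M₁)
    (hne : M₁ ≠ M₂)
    (h₁ : (Cfsg.generalizedFittingSubgroup ↥M₁).map M₁.subtype ≤ M₂)
    (h₂ : (Cfsg.generalizedFittingSubgroup ↥M₂).map M₂.subtype ≤ M₁)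
    (p : ℕ) [hp : Fact p.Prime] (hP₁ : Cfsg.pCore p ↥M₁ ≠ ⊥) :
    Subgroup.centralizer (Cfsg.pCore p ↥M₁ : Set ↥M₁) ≤ Cfsg.pCore p ↥M₁ ∧
      Subgroup.centralizer (Cfsg.pCore p ↥M₂ : Set ↥M₂) ≤ Cfsg.pCore p ↥M₂ ∧
      (Cfsg.pCore p ↥M₁).map M₁.subtype ⊔ (Cfsg.pCore p ↥M₂).map M₂.subtype ≤ M₁ ⊓ M₂ := by
  have hE₁ := layer_eq_bot_of_primitive h12 h21 hne h₁ h₂
  have hE₂ := layer_eq_bot_of_primitive h21 h12 hne.symm h₂ h₁
  have hP₂ := (pCore_transfer h₁ h₂ p).2 hP₁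
  refine ⟨?_, ?_, ?_⟩
  · apply centralizer_pCore_le_of_forall_eq_bot p hE₁
    intro r hr hrp
    by_contra hR
    exact false_of_two_primes h21 h12 hne.symm h₂ h₁ p hE₂ hE₁ hP₂ hP₁ r hrp hR
  · apply centralizer_pCore_le_of_forall_eq_bot p hE₂
    intro r hr hrp
    by_contra hR
    exact false_of_two_primes h12 h21 hne h₁ h₂ p hE₁ hE₂ hP₁ hP₂ r hrp hR
  · apply sup_le
    · exact le_inf (Subgroup.map_subtype_le _) ((Subgroup.map_mono (pCore_le_fstar p)).trans h₁)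
    · exact le_inf ((Subgroup.map_mono (pCore_le_fstar p)).trans h₂) (Subgroup.map_subtype_le _)

theorem exists_prime_pCore_ne_bot {H : Type*} [Group H] [Finite H] (hE : Cfsg.layer H = ⊥)
    (hH : (⊤ : Subgroup H) ≠ ⊥) : ∃ p : ℕ, p.Prime ∧ Cfsg.pCore p H ≠ ⊥ := by
  by_contra hcon
  push Not at hcon
  apply hH
  have h1 : Cfsg.generalizedFittingSubgroup H ≤ ⊥ := by
    apply fstar_le_of
    · rw [hE]
    · intro r hr
      rw [hcon r hr.out]
  have h2 : Subgroup.centralizer (Cfsg.generalizedFittingSubgroup H : Set H) = ⊤ := by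
    rw [le_bot_iff.mp h1]
    simp
  rw [eq_bot_iff, ← h2]
  exact centralizer_fstar_le.trans h1

/-- Bender's theorem on primitive pairs (S3752). -/
theorem bender_primitive {M₁ M₂ : Subgroup G} (h12 : PrimDir M₁ M₂) (h21 : PrimDir M₂ M₁)
    (hne : M₁ ≠ M₂)
    (h₁ : (Cfsg.generalizedFittingSubgroup ↥M₁).map M₁.subtype ≤ M₂)
    (h₂ : (Cfsg.generalizedFittingSubgroup ↥M₂).map M₂.subtype ≤ M₁) :
    ∃ p : ℕ, p.Prime ∧ Subgroup.centralizer (Cfsg.pCore p ↥M₁ : Set ↥M₁) ≤ Cfsg.pCore p ↥M₁ ∧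
      Subgroup.centralizer (Cfsg.pCore p ↥M₂ : Set ↥M₂) ≤ Cfsg.pCore p ↥M₂ ∧
      (Cfsg.pCore p ↥M₁).map M₁.subtype ⊔ (Cfsg.pCore p ↥M₂).map M₂.subtype ≤ M₁ ⊓ M₂ := by
  have hE₁ := layer_eq_bot_of_primitive h12 h21 hne h₁ h₂
  have hE₂ := layer_eq_bot_of_primitive h21 h12 hne.symm h₂ h₁
  have htop : ∀ M : Subgroup G, M ≠ ⊥ → (⊤ : Subgroup ↥M) ≠ ⊥ := by
    intro M hM hb
    apply hM
    rw [eq_bot_iff]
    intro x hx
    have : (⟨x, hx⟩ : ↥M) ∈ (⊤ : Subgroup ↥M) := Subgroup.mem_top _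
    rw [hb, Subgroup.mem_bot] at this
    rw [Subgroup.mem_bot]
    exact congrArg Subtype.val this
  by_cases hM₁ : M₁ = ⊥
  · have hM₂ : M₂ ≠ ⊥ := fun h => hne (hM₁.trans h.symm)
    obtain ⟨p, hp, hP₂⟩ := exists_prime_pCore_ne_bot hE₂ (htop M₂ hM₂)
    have hpf : Fact p.Prime := ⟨hp⟩
    obtain ⟨a, b, c⟩ := bender_primitive_aux h21 h12 hne.symm h₂ h₁ p hP₂
    refine ⟨p, hp, b, a, ?_⟩
    rw [sup_comm, inf_comm]; exact c
  · obtain ⟨p, hp, hP₁⟩ := exists_prime_pCore_ne_bot hE₁ (htop M₁ hM₁)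
    have hpf : Fact p.Prime := ⟨hp⟩
    exact ⟨p, hp, bender_primitive_aux h12 h21 hne h₁ h₂ p hP₁⟩

end

end Cfsg.Agent.Lib.Helper17
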