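/-
helper17: S2524 leaf (ONE) `one_kappa`: an irreducible module with the surjectivity property has weights in at
most one of the two classes `E_00`, `ν E_00`.
-/
import Mathlib
import Cfsg.Agent.Lib.Helper10.WGDefs
import Cfsg.Agent.Lib.Helper10.WGDefs2

set_option autoImplicit false

namespace Cfsg.Agent.Lib.Helper17.WGONE

open Matrix Cfsg.Agent.Lib.Helper11.LS Cfsg.Agent.Lib.Helper10.WG

universe u

variable {F : Type*} [Field F] [Fintype F] [DecidableEq F]

variable {V V' : Type u} [AddCommGroup V] [Module ℂ V] [AddCommGroup V'] [Module ℂ V']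

omit [Fintype F] [DecidableEq F] in
/-- the identity is a stabiliser map at every weight -/
theorem isStabMap_id {n : ℕ} (ψ : AddChar F ℂ) (ρ : Representation ℂ (SpG F n) V)
    (B : Matrix (Fin n) (Fin n) F) : IsStabMap ψ ρ ρ B LinearMap.id :=
  ⟨fun _ hv => hv, fun _ _ _ _ => rfl⟩

omit [Fintype F] [DecidableEq F] in
/-- the zero map is a stabiliser map at every weight -/
theorem isStabMap_zero_map {n : ℕ} (ψ : AddChar F ℂ) (ρ' : Representation ℂ (SpG F n) V')
    (ρ : Representation ℂ (SpG F n) V) (B : Matrix (Fin n) (Fin n) F) :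
    IsStabMap ψ ρ' ρ B (0 : V' →ₗ[ℂ] V) :=
  ⟨fun _ _ => by simp, fun _ _ _ _ => by simp⟩

omit [Fintype F] [DecidableEq F] in
/-- a homomorphism of irreducible representations (in the sense of `IsHom`) is bijective or zero -/
theorem bijective_or_eq_zero_of_isHom {n : ℕ} (ρ' : Representation ℂ (SpG F n) V')
    (ρ : Representation ℂ (SpG F n) V) (hirr' : ρ'.IsIrreducible) (hirr : ρ.IsIrreducible)
    (Φ : V' →ₗ[ℂ] V) (hΦ : IsHom ρ' ρ Φ) : Function.Bijective Φ ∨ Φ = 0 := by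
  have _ := hirr'
  have _ := hirr
  let f : Representation.IntertwiningMap ρ' ρ :=
    LinearMap.intertwiningMap_of_isIntertwiningMap ρ' ρ Φ (fun g v => hΦ g v)
  rcases Representation.IsIrreducible.bijective_or_eq_zero f with h | h
  · left
    exact h
  · right
    have : f.toLinearMap = 0 := by rw [h]; rfl
    exact this

/-- (ONE) -/
theorem one_kappa {n : ℕ} (ψ : AddChar F ℂ) (ν : F)
    (ρ : Representation ℂ (SpG F (n + 1)) V) (hirr : ρ.IsIrreducible) (hS : SurjAt ψ ν ρ ρ) :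
    ¬ (wt ψ ρ (single 0 0 1) ≠ ⊥ ∧ wt ψ ρ (single 0 0 ν) ≠ ⊥) := by
  rintro ⟨h1, h2⟩
  obtain ⟨Φ, hΦ, hΦ1, hΦ2⟩ := hS LinearMap.id 0 (isStabMap_id ψ ρ _) (isStabMap_zero_map ψ ρ ρ _)
  obtain ⟨v, hv, hv0⟩ := (Submodule.ne_bot_iff _).mp h1
  obtain ⟨w, hw, hw0⟩ := (Submodule.ne_bot_iff _).mp h2
  rcases bijective_or_eq_zero_of_isHom ρ ρ hirr hirr Φ hΦ with h | h
  · have : Φ w = 0 := by rw [hΦ2 w hw]; rfl
    exact hw0 (h.1 (by rw [this, map_zero]))
  · have : Φ v = v := by rw [hΦ1 v hv]; rfl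
    rw [h] at this
    exact hv0 this.symm

end Cfsg.Agent.Lib.Helper17.WGONE
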