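/-
helper17: S2524 leaf (ISO) `equiv_of_type`: two irreducible modules with a common type `(κ, ε)` and the
surjectivity property are isomorphic.
-/
import Mathlib
import Cfsg.Agent.Lib.Helper10.WGDefs
import Cfsg.Agent.Lib.Helper10.WGDefs2
import Cfsg.Agent.Lib.Helper29.WGLVH
import Cfsg.Agent.Lib.Helper17.WGONE

set_option autoImplicit false

namespace Cfsg.Agent.Lib.Helper17.WGISO

open Matrix Cfsg.Agent.Lib.Helper11.LS Cfsg.Agent.Lib.Helper10.WG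

universe u

variable {F : Type*} [Field F] [Fintype F] [DecidableEq F]

variable {V V' : Type u} [AddCommGroup V] [Module ℂ V] [AddCommGroup V'] [Module ℂ V']

omit [Fintype F] [DecidableEq F] in
theorem t1G_neg_one_mul_self {n : ℕ} :
    (t1G (-1 : Fˣ) : GL (Fin (n + 1)) F) * t1G (-1 : Fˣ) = 1 := by
  apply Units.ext
  rw [Units.val_mul]
  show (diagonal fun i => (((Fin.cons (-1 : Fˣ) fun _ => 1 : Fin (n + 1) → Fˣ) i : Fˣ) : F)) *
      (diagonal fun i => (((Fin.cons (-1 : Fˣ) fun _ => 1 : Fin (n + 1) → Fˣ) i : Fˣ) : F)) = 1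
  rw [diagonal_mul_diagonal, ← diagonal_one]
  congr 1
  funext i
  refine Fin.cases ?_ (fun j => ?_) i <;> simp

/-- `t_0` is an involution -/
theorem t0_mul_self {n : ℕ} : (t0 : SpG F (n + 1)) * t0 = 1 := by
  show LvG (t1G (-1)) * LvG (t1G (-1)) = 1
  rw [← Cfsg.Agent.Lib.Helper29.WGLVH.LvG_mul, t1G_neg_one_mul_self,
    Cfsg.Agent.Lib.Helper29.WGLVH.LvG_one]

/-- (ISO) -/
theorem equiv_of_type {n : ℕ} (ψ : AddChar F ℂ) (ν : F)
    (ρ' : Representation ℂ (SpG F (n + 1)) V') (ρ : Representation ℂ (SpG F (n + 1)) V)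
    (hirr' : ρ'.IsIrreducible) (hirr : ρ.IsIrreducible) (hS : SurjAt ψ ν ρ' ρ)
    (κ : F) (hκ : κ = 1 ∨ κ = ν)
    (hF7 : ∀ T : V' →ₗ[ℂ] V, (∀ v ∈ wt ψ ρ' (single 0 0 κ), T v ∈ wt ψ ρ (single 0 0 κ)) →
      (∀ v ∈ wt ψ ρ' (single 0 0 κ), T (ρ' t0 v) = ρ t0 (T v)) → IsStabMap ψ ρ' ρ (single 0 0 κ) T)
    (ε : ℂ) (hε : ε = 1 ∨ ε = -1) (v' : V') (hv'0 : v' ≠ 0) (hv' : v' ∈ wt ψ ρ' (single 0 0 κ))
    (hv't : ρ' t0 v' = ε • v') (v : V) (hv0 : v ≠ 0) (hv : v ∈ wt ψ ρ (single 0 0 κ))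
    (hvt : ρ t0 v = ε • v) : Nonempty (Representation.Equiv ρ' ρ) := by
  have hε2 : ε * ε = 1 := by rcases hε with h | h <;> rw [h] <;> norm_num
  -- a functional with `ℓ v' = 1`
  obtain ⟨ℓ, hℓ⟩ : ∃ ℓ : V' →ₗ[ℂ] ℂ, ℓ v' = 1 := by
    have hinj : Function.Injective (LinearMap.toSpanSingleton ℂ V' v') := by
      intro a b hab
      simp only [LinearMap.toSpanSingleton_apply] at hab
      exact smul_left_injective ℂ hv'0 hab
    obtain ⟨g, hg⟩ := LinearMap.exists_leftInverse_of_injective _ (LinearMap.ker_eq_bot.mpr hinj)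
    refine ⟨g, ?_⟩
    have := LinearMap.congr_fun hg 1
    simpa using this
  -- the map `T`
  let p : V' →ₗ[ℂ] V' := (2⁻¹ : ℂ) • (LinearMap.id + ε • ρ' t0)
  let T : V' →ₗ[ℂ] V := (ℓ ∘ₗ p).smulRight v
  have hTapp : ∀ x, T x = ℓ (p x) • v := fun x => rfl
  have hpapp : ∀ x, p x = (2⁻¹ : ℂ) • (x + ε • ρ' t0 x) := fun x => rfl
  have htt : ∀ x, ρ' t0 (ρ' t0 x) = x := by
    intro x
    have : ρ' (t0 * t0) x = x := by rw [t0_mul_self, map_one]; rfl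
    rwa [map_mul] at this
  have hpt : ∀ x, p (ρ' t0 x) = ε • p x := by
    intro x
    rw [hpapp, hpapp, htt, smul_comm ε (2⁻¹ : ℂ), smul_add ε, smul_smul ε ε, hε2, one_smul,
      add_comm]
  have hpv' : p v' = v' := by
    rw [hpapp, hv't, smul_smul, hε2, one_smul, ← two_smul ℂ v', smul_smul]
    norm_num
  have hTv' : T v' = v := by rw [hTapp, hpv', hℓ, one_smul]
  have hT : IsStabMap ψ ρ' ρ (single 0 0 κ) T := by
    refine hF7 T (fun x _ => ?_) (fun x _ => ?_)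
    · rw [hTapp]
      exact Submodule.smul_mem _ _ hv
    · rw [hTapp, hTapp, hpt, map_smul, map_smul, hvt, smul_eq_mul, smul_smul, mul_comm]
  have h0 : ∀ B, IsStabMap ψ ρ' ρ B (0 : V' →ₗ[ℂ] V) :=
    fun B => Cfsg.Agent.Lib.Helper17.WGONE.isStabMap_zero_map ψ ρ' ρ B
  -- the homomorphism
  obtain ⟨Φ, hΦ, hΦv⟩ : ∃ Φ : V' →ₗ[ℂ] V, IsHom ρ' ρ Φ ∧ Φ v' = v := by
    rcases hκ with h | h
    · subst h
      obtain ⟨Φ, hΦ, hΦ1, -⟩ := hS T 0 hT (h0 _)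
      exact ⟨Φ, hΦ, by rw [hΦ1 v' hv', hTv']⟩
    · subst h
      obtain ⟨Φ, hΦ, -, hΦ2⟩ := hS 0 T (h0 _) hT
      exact ⟨Φ, hΦ, by rw [hΦ2 v' hv', hTv']⟩
  rcases Cfsg.Agent.Lib.Helper17.WGONE.bijective_or_eq_zero_of_isHom ρ' ρ hirr' hirr Φ hΦ with h | h
  · refine ⟨Representation.Equiv.mk (LinearEquiv.ofBijective Φ h) (fun g => ?_)⟩
    ext x
    exact hΦ g x
  · exfalso
    rw [h] at hΦv
    exact hv0 hΦv.symm

end Cfsg.Agent.Lib.Helper17.WGISO
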