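/-
helper17: S2524 leaf WD (planner helper10, `notes/S2524_leaves.lean`): the weight projectors of the
Siegel radical of `Sp_2n(F)`: `wtProj_mem`, `wtProj_of_mem`, `wtProj_of_mem_ne`, `sum_wtProj`,
`wtProj_comm`.
-/
import Mathlib
import Cfsg.Agent.Lib.Helper10.WGDefs

set_option autoImplicit false

namespace Cfsg.Agent.Lib.Helper17.WGWD

open Matrix Cfsg.Agent.Lib.Helper11.LS Cfsg.Agent.Lib.Helper10.WG

universe u

variable {F : Type*} [Field F] [Fintype F] [DecidableEq F]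

section weights

variable {n : ℕ} {V V' : Type u} [AddCommGroup V] [Module ℂ V] [AddCommGroup V'] [Module ℂ V']

omit [Fintype F] [DecidableEq F] in
theorem Xs_mul_Xs (S T : Matrix (Fin n) (Fin n) F) (hS : Sᵀ = S) (hT : Tᵀ = T) :
    (Xs S hS : SpG F n) * Xs T hT = Xs (S + T) (by rw [transpose_add, hS, hT]) := by
  apply Subtype.ext
  show fromBlocks 1 S 0 1 * fromBlocks 1 T 0 1 = fromBlocks 1 (S + T) 0 1
  rw [fromBlocks_multiply]
  simp [add_comm]

omit [Fintype F] [DecidableEq F] in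
theorem Xs_zero : (Xs (0 : Matrix (Fin n) (Fin n) F) (by simp) : SpG F n) = 1 := by
  apply Subtype.ext
  show fromBlocks 1 (0 : Matrix (Fin n) (Fin n) F) 0 1 = (1 : Matrix _ _ F)
  rw [fromBlocks_one]

omit [Fintype F] [DecidableEq F] in
theorem Xs_congr {S T : Matrix (Fin n) (Fin n) F} (h : S = T) (hS : Sᵀ = S) (hT : Tᵀ = T) :
    (Xs S hS : SpG F n) = Xs T hT := by
  subst h; rfl

/-- translation by a symmetric matrix, as a permutation of the symmetric matrices -/
def addSym (T : SymM F n) : SymM F n ≃ SymM F n where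
  toFun S := ⟨S.1 + T.1, by rw [transpose_add, S.2, T.2]⟩
  invFun S := ⟨S.1 - T.1, by rw [transpose_sub, S.2, T.2]⟩
  left_inv S := by
    apply Subtype.ext
    show S.1 + T.1 - T.1 = S.1
    abel
  right_inv S := by
    apply Subtype.ext
    show S.1 - T.1 + T.1 = S.1
    abel

omit [Fintype F] [DecidableEq F] in
theorem trace_mul_single' (D : Matrix (Fin n) (Fin n) F) (i j : Fin n) (c : F) :
    trace (D * single i j c) = D j i * c := by
  rw [Matrix.trace_mul_single]
  simp [mul_comm]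

/-- a nonzero symmetric matrix pairs nontrivially with some symmetric matrix -/
theorem exists_sym_ne_one (h2 : (2 : F) ≠ 0) (ψ : AddChar F ℂ) (hψ : ψ.IsPrimitive)
    (D : Matrix (Fin n) (Fin n) F) (hD : Dᵀ = D) (hD0 : D ≠ 0) :
    ∃ T : SymM F n, ψ (trace (D * T.1)) ≠ 1 := by
  have hex : ∃ i j, D i j ≠ 0 := by
    by_contra hcon
    push Not at hcon
    apply hD0
    ext i j
    exact hcon i j
  obtain ⟨i, j, hij⟩ := hex
  have hji : D j i = D i j := by
    have := congrFun (congrFun hD i) j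
    simpa [transpose_apply] using this
  by_cases hd : D i i ≠ 0 ∨ D j j ≠ 0
  · obtain ⟨k, hk⟩ : ∃ k, D k k ≠ 0 := by
      rcases hd with h | h
      · exact ⟨i, h⟩
      · exact ⟨j, h⟩
    obtain ⟨c, hc⟩ := (AddChar.ne_one_iff).mp (hψ hk)
    refine ⟨⟨single k k c, by simp⟩, ?_⟩
    show ψ (trace (D * single k k c)) ≠ 1
    rw [trace_mul_single']
    exact hc
  · push Not at hd
    have hne : i ≠ j := by
      rintro rfl
      exact hij hd.1
    have h2D : (2 : F) * D i j ≠ 0 := mul_ne_zero h2 hij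
    obtain ⟨c, hc⟩ := (AddChar.ne_one_iff).mp (hψ h2D)
    refine ⟨⟨single i j c + single j i c, by
      rw [transpose_add, transpose_single, transpose_single]; exact add_comm _ _⟩, ?_⟩
    show ψ (trace (D * (single i j c + single j i c))) ≠ 1
    rw [Matrix.mul_add, trace_add, trace_mul_single', trace_mul_single', hji]
    have e : D i j * c + D i j * c = 2 * D i j * c := by ring
    rw [e]
    exact hc

/-- the character sum over the symmetric matrices -/
theorem sum_sym_eq_zero (h2 : (2 : F) ≠ 0) (ψ : AddChar F ℂ) (hψ : ψ.IsPrimitive)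
    (D : Matrix (Fin n) (Fin n) F) (hD : Dᵀ = D) (hD0 : D ≠ 0) :
    ∑ S : SymM F n, ψ (trace (D * S.1)) = 0 := by
  obtain ⟨T, hT⟩ := exists_sym_ne_one h2 ψ hψ D hD hD0
  have h1 : ∑ S : SymM F n, ψ (trace (D * S.1)) =
      ψ (trace (D * T.1)) * ∑ S : SymM F n, ψ (trace (D * S.1)) := by
    rw [Finset.mul_sum]
    rw [← (addSym T).sum_comp]
    apply Finset.sum_congr rfl
    intro S _
    show ψ (trace (D * (S.1 + T.1))) = _
    rw [Matrix.mul_add, trace_add, AddChar.map_add_eq_mul, mul_comm]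
  have h3 : (1 - ψ (trace (D * T.1))) * ∑ S : SymM F n, ψ (trace (D * S.1)) = 0 := by
    rw [sub_mul, one_mul, ← h1, sub_self]
  rcases mul_eq_zero.mp h3 with h | h
  · exact absurd (sub_eq_zero.mp h).symm hT
  · exact h

theorem card_symM_ne_zero : (Fintype.card (SymM F n) : ℂ) ≠ 0 := by
  have : Nonempty (SymM F n) := ⟨⟨0, by simp⟩⟩
  exact_mod_cast Fintype.card_ne_zero

/-- (WD) the weight projectors. -/
theorem wtProj_mem (ψ : AddChar F ℂ) (ρ : Representation ℂ (SpG F n) V)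
    (B : Matrix (Fin n) (Fin n) F) (v : V) : wtProj ψ ρ B v ∈ wt ψ ρ B := by
  intro T hT
  simp only [wtProj, LinearMap.smul_apply, LinearMap.sum_apply, map_smul, map_sum, Finset.smul_sum]
  apply Fintype.sum_equiv (addSym ⟨T, hT⟩)
  intro S
  show (Fintype.card (SymM F n) : ℂ)⁻¹ • ψ (-(trace (B * S.1))) • ρ (Xs T hT) (ρ (Xs S.1 S.2) v) =
    ψ (trace (B * T)) • (Fintype.card (SymM F n) : ℂ)⁻¹ • ψ (-(trace (B * (S.1 + T)))) •
      ρ (Xs (S.1 + T) _) v
  have h1 : ρ (Xs T hT) (ρ (Xs S.1 S.2) v) = ρ (Xs (S.1 + T) (by rw [transpose_add, S.2, hT])) v := by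
    rw [← Module.End.mul_apply, ← map_mul, Xs_mul_Xs]
    exact congrArg (fun x => ρ x v) (Xs_congr (add_comm _ _) _ _)
  have h3 : ψ (trace (B * T)) * ψ (-(trace (B * (S.1 + T)))) = ψ (-(trace (B * S.1))) := by
    rw [← AddChar.map_add_eq_mul]
    congr 1
    rw [Matrix.mul_add, trace_add]
    ring
  rw [h1, smul_smul, smul_smul, smul_smul]
  congr 1
  rw [mul_comm (ψ (trace (B * T))), mul_assoc, h3]

theorem wtProj_of_mem (ψ : AddChar F ℂ) (ρ : Representation ℂ (SpG F n) V)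
    (B : Matrix (Fin n) (Fin n) F) (v : V) (hv : v ∈ wt ψ ρ B) : wtProj ψ ρ B v = v := by
  simp only [wtProj, LinearMap.smul_apply, LinearMap.sum_apply]
  have h1 : ∀ S : SymM F n, ψ (-(trace (B * S.1))) • ρ (Xs S.1 S.2) v = v := by
    intro S
    rw [hv S.1 S.2, smul_smul, ← AddChar.map_add_eq_mul, neg_add_cancel, AddChar.map_zero_eq_one,
      one_smul]
  rw [Finset.sum_congr rfl (fun S _ => h1 S), Finset.sum_const, Finset.card_univ, ← Nat.cast_smul_eq_nsmul ℂ,
    smul_smul, inv_mul_cancel₀ card_symM_ne_zero, one_smul]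

/-- (WD) orthogonality. -/
theorem wtProj_of_mem_ne (h2 : (2 : F) ≠ 0) (ψ : AddChar F ℂ) (hψ : ψ.IsPrimitive)
    (ρ : Representation ℂ (SpG F n) V) (B B' : Matrix (Fin n) (Fin n) F) (hB : Bᵀ = B)
    (hB' : B'ᵀ = B') (hne : B ≠ B') (v : V) (hv : v ∈ wt ψ ρ B') : wtProj ψ ρ B v = 0 := by
  simp only [wtProj, LinearMap.smul_apply, LinearMap.sum_apply]
  have h1 : ∀ S : SymM F n, ψ (-(trace (B * S.1))) • ρ (Xs S.1 S.2) v =
      ψ (trace ((B' - B) * S.1)) • v := by
    intro S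
    rw [hv S.1 S.2, smul_smul, ← AddChar.map_add_eq_mul]
    congr 2
    rw [Matrix.sub_mul, trace_sub]
    ring
  rw [Finset.sum_congr rfl (fun S _ => h1 S), ← Finset.sum_smul,
    sum_sym_eq_zero h2 ψ hψ (B' - B) (by rw [transpose_sub, hB, hB'])
      (sub_ne_zero.mpr (Ne.symm hne)), zero_smul, smul_zero]

/-- (WD) completeness. -/
theorem sum_wtProj (h2 : (2 : F) ≠ 0) (ψ : AddChar F ℂ) (hψ : ψ.IsPrimitive)
    (ρ : Representation ℂ (SpG F n) V) (v : V) :
    ∑ B : SymM F n, wtProj ψ ρ B.1 v = v := by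
  simp only [wtProj, LinearMap.smul_apply, LinearMap.sum_apply]
  rw [← Finset.smul_sum, Finset.sum_comm]
  have h1 : ∀ S : SymM F n, ∑ B : SymM F n, ψ (-(trace (B.1 * S.1))) • ρ (Xs S.1 S.2) v =
      (if S.1 = 0 then (Fintype.card (SymM F n) : ℂ) else 0) • ρ (Xs S.1 S.2) v := by
    intro S
    rw [← Finset.sum_smul]
    congr 1
    split_ifs with h0
    · rw [h0]
      simp
    · have e : ∀ B : SymM F n, ψ (-(trace (B.1 * S.1))) = ψ (trace ((-S.1) * B.1)) := by
        intro B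
        rw [Matrix.neg_mul, trace_neg, trace_mul_comm]
      rw [Finset.sum_congr rfl (fun B _ => e B)]
      exact sum_sym_eq_zero h2 ψ hψ (-S.1) (by rw [transpose_neg, S.2]) (neg_ne_zero.mpr h0)
  rw [Finset.sum_congr rfl (fun S _ => h1 S)]
  rw [Finset.sum_eq_single (⟨0, by simp⟩ : SymM F n)]
  · rw [if_pos rfl, smul_smul, inv_mul_cancel₀ card_symM_ne_zero, one_smul]
    show ρ (Xs 0 _) v = v
    rw [Xs_zero, map_one]
    rfl
  · intro S _ hS
    have : S.1 ≠ 0 := fun h => hS (Subtype.ext h)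
    rw [if_neg this, zero_smul]
  · intro h
    exact absurd (Finset.mem_univ _) h

/-- (WD) naturality. -/
theorem wtProj_comm (ψ : AddChar F ℂ) (ρ' : Representation ℂ (SpG F n) V')
    (ρ : Representation ℂ (SpG F n) V) (φ : V' →ₗ[ℂ] V)
    (hφ : ∀ (S : Matrix (Fin n) (Fin n) F) (hS : Sᵀ = S), Comm ρ' ρ φ (Xs S hS))
    (B : Matrix (Fin n) (Fin n) F) (v : V') : φ (wtProj ψ ρ' B v) = wtProj ψ ρ B (φ v) := by
  simp only [wtProj, LinearMap.smul_apply, LinearMap.sum_apply, map_smul, map_sum]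
  congr 1
  apply Finset.sum_congr rfl
  intro S _
  rw [hφ S.1 S.2 v]

end weights

end Cfsg.Agent.Lib.Helper17.WGWD
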