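/-
helper17: S2524 leaf ZD (planner helper10, `notes/S2524_leaves.lean`): the projectors of the long root
group `Z = {Xs (c E_00)}` of `Sp_2n+2(F)`: `zProj_mem`, `zProj_of_mem`, `sum_zProj`, `zsp_zero`, `wt_le_zsp`.
-/
import Mathlib
import Cfsg.Agent.Lib.Helper10.WGDefs

set_option autoImplicit false

namespace Cfsg.Agent.Lib.Helper17.WGZD

open Matrix Cfsg.Agent.Lib.Helper11.LS Cfsg.Agent.Lib.Helper10.WG

universe u

variable {F : Type*} [Field F] [Fintype F] [DecidableEq F]

section weights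

variable {n : ℕ} {V V' : Type u} [AddCommGroup V] [Module ℂ V] [AddCommGroup V'] [Module ℂ V']

omit [Fintype F] [DecidableEq F] in
theorem xZ_zero : (xZ (0 : F) : SpG F (n + 1)) = 1 := by
  apply Subtype.ext
  show fromBlocks 1 (single 0 0 (0 : F)) 0 1 = (1 : Matrix _ _ F)
  rw [single_zero, fromBlocks_one]

theorem card_F_ne_zero : (Fintype.card F : ℂ) ≠ 0 := by
  exact_mod_cast Fintype.card_ne_zero

/-- (ZD) the projectors of the long root group. -/
theorem zProj_mem (ψ : AddChar F ℂ) (ρ : Representation ℂ (SpG F (n + 1)) V) (l : F) (v : V) :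
    zProj ψ ρ l v ∈ zsp ψ ρ l := by
  intro c
  simp only [zProj, LinearMap.smul_apply, LinearMap.sum_apply, map_smul, map_sum, Finset.smul_sum]
  apply Fintype.sum_equiv (Equiv.addLeft c)
  intro c'
  show (Fintype.card F : ℂ)⁻¹ • ψ (-(l * c')) • ρ (xZ c) (ρ (xZ c') v) =
    ψ (l * c) • (Fintype.card F : ℂ)⁻¹ • ψ (-(l * (c + c'))) • ρ (xZ (c + c')) v
  have h1 : ρ (xZ c) (ρ (xZ c') v) = ρ (xZ (c + c')) v := by
    rw [← xZ_mul, map_mul]
    rfl
  have h3 : ψ (l * c) * ψ (-(l * (c + c'))) = ψ (-(l * c')) := by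
    rw [← AddChar.map_add_eq_mul]
    congr 1
    ring
  rw [h1, smul_smul, smul_smul, smul_smul]
  congr 1
  rw [mul_comm (ψ (l * c)), mul_assoc, h3]

theorem zProj_of_mem (ψ : AddChar F ℂ) (ρ : Representation ℂ (SpG F (n + 1)) V) (l : F) (v : V)
    (hv : v ∈ zsp ψ ρ l) : zProj ψ ρ l v = v := by
  simp only [zProj, LinearMap.smul_apply, LinearMap.sum_apply]
  have h1 : ∀ c : F, ψ (-(l * c)) • ρ (xZ c) v = v := by
    intro c
    rw [hv c, smul_smul, ← AddChar.map_add_eq_mul, neg_add_cancel, AddChar.map_zero_eq_one, one_smul]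
  rw [Finset.sum_congr rfl (fun c _ => h1 c), Finset.sum_const, Finset.card_univ,
    ← Nat.cast_smul_eq_nsmul ℂ, smul_smul, inv_mul_cancel₀ card_F_ne_zero, one_smul]

theorem sum_zProj (ψ : AddChar F ℂ) (hψ : ψ.IsPrimitive) (ρ : Representation ℂ (SpG F (n + 1)) V)
    (v : V) : ∑ l : F, zProj ψ ρ l v = v := by
  simp only [zProj, LinearMap.smul_apply, LinearMap.sum_apply]
  rw [← Finset.smul_sum, Finset.sum_comm]
  have h1 : ∀ c : F, ∑ l : F, ψ (-(l * c)) • ρ (xZ c) v =
      (if c = 0 then (Fintype.card F : ℂ) else 0) • ρ (xZ c) v := by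
    intro c
    rw [← Finset.sum_smul]
    congr 1
    have e : ∀ l : F, ψ (-(l * c)) = ψ (l * (-c)) := by
      intro l
      rw [mul_neg]
    rw [Finset.sum_congr rfl (fun l _ => e l), AddChar.sum_mulShift (-c) hψ]
    simp only [neg_eq_zero]
    split_ifs <;> simp
  rw [Finset.sum_congr rfl (fun c _ => h1 c), Finset.sum_eq_single (0 : F)]
  · rw [if_pos rfl, smul_smul, inv_mul_cancel₀ card_F_ne_zero, one_smul, xZ_zero, map_one]
    rfl
  · intro c _ hc
    rw [if_neg hc, zero_smul]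
  · intro h
    exact absurd (Finset.mem_univ _) h

theorem zsp_zero (ψ : AddChar F ℂ) (ρ : Representation ℂ (SpG F (n + 1)) V) :
    zsp ψ ρ 0 = Ysp ρ := by
  ext v
  rw [mem_zsp, mem_Ysp]
  constructor
  · intro h c
    have := h c
    rwa [zero_mul, AddChar.map_zero_eq_one, one_smul] at this
  · intro h c
    rw [zero_mul, AddChar.map_zero_eq_one, one_smul]
    exact h c

/-- (ZD) a weight vector is a `Z`-eigenvector for `l = B 0 0`. -/
theorem wt_le_zsp (ψ : AddChar F ℂ) (ρ : Representation ℂ (SpG F (n + 1)) V)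
    (B : Matrix (Fin (n + 1)) (Fin (n + 1)) F) : wt ψ ρ B ≤ zsp ψ ρ (B 0 0) := by
  intro v hv c
  have h := hv (single 0 0 c) (by simp)
  have e : trace (B * single 0 0 c) = B 0 0 * c := by
    rw [Matrix.trace_mul_single]
    simp [mul_comm]
  rw [e] at h
  exact h

end weights

end Cfsg.Agent.Lib.Helper17.WGZD
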