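/-
helper17: S2524 leaf TR `isStabMap_toY` (planner helper10, `notes/S2524_leaves.lean`), twin of helper14's take:
transport of a stabiliser map from the weight `κ E_00` of `Sp_{2m+4}` to `Ysp`, through `w01`.
-/
import Mathlib
import Cfsg.Agent.Lib.Helper10.WGDefs
import Cfsg.Agent.Lib.Helper29.WGLVH
import Cfsg.Agent.Lib.Helper23.WGLVW
import Cfsg.Agent.Lib.Helper23.WGINV
import Cfsg.Agent.Lib.Helper14.WGF6
import Cfsg.Agent.Lib.Helper17.WGWD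
import Cfsg.Agent.Lib.Helper17.WGZD

set_option autoImplicit false

namespace Cfsg.Agent.Lib.Helper17.WGTR

open Matrix Cfsg.Agent.Lib.Helper11.LS Cfsg.Agent.Lib.Helper10.WG

universe u

variable {F : Type*} [Field F] [Fintype F] [DecidableEq F]

section mats

variable {n : ℕ}

/-- the action of `GL_n` on weights -/
def act (g : GL (Fin n) F) (B : Matrix (Fin n) (Fin n) F) : Matrix (Fin n) (Fin n) F :=
  ((g⁻¹ : GL (Fin n) F) : Matrix (Fin n) (Fin n) F)ᵀ * B *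
    ((g⁻¹ : GL (Fin n) F) : Matrix (Fin n) (Fin n) F)

omit [Fintype F] in
theorem act_mul (g h : GL (Fin n) F) (B : Matrix (Fin n) (Fin n) F) :
    act (g * h) B = act g (act h B) := by
  unfold act
  rw [_root_.mul_inv_rev, Units.val_mul, transpose_mul]
  simp only [Matrix.mul_assoc]

omit [Fintype F] in
theorem act_one (B : Matrix (Fin n) (Fin n) F) : act (1 : GL (Fin n) F) B = B := by
  unfold act
  simp

variable {m : ℕ}

omit [Fintype F] in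
theorem pm_swap_mul_self :
    (pmG (Equiv.swap (0 : Fin (m + 2)) 1) : GL (Fin (m + 2)) F) * pmG (Equiv.swap 0 1) = 1 := by
  apply Units.ext
  rw [Units.val_mul]
  show (Equiv.swap (0 : Fin (m + 2)) 1).permMatrix F * (Equiv.swap (0 : Fin (m + 2)) 1).permMatrix F = 1
  rw [← Matrix.permMatrix_mul, Equiv.swap_mul_self, Matrix.permMatrix_one]

omit [Fintype F] in
theorem pm_swap_inv :
    ((pmG (Equiv.swap (0 : Fin (m + 2)) 1) : GL (Fin (m + 2)) F))⁻¹ = pmG (Equiv.swap 0 1) :=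
  inv_eq_of_mul_eq_one_right pm_swap_mul_self

omit [Fintype F] in
theorem act_pm_swap (B : Matrix (Fin (m + 2)) (Fin (m + 2)) F) :
    act (pmG (Equiv.swap (0 : Fin (m + 2)) 1)) B =
      B.submatrix (Equiv.swap (0 : Fin (m + 2)) 1) (Equiv.swap (0 : Fin (m + 2)) 1) := by
  unfold act
  rw [pm_swap_inv]
  show ((Equiv.swap (0 : Fin (m + 2)) 1).permMatrix F)ᵀ * B *
    (Equiv.swap (0 : Fin (m + 2)) 1).permMatrix F = _
  rw [Matrix.transpose_permMatrix, Equiv.swap_inv]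
  show (Equiv.swap (0 : Fin (m + 2)) 1).toPEquiv.toMatrix * B *
    (Equiv.swap (0 : Fin (m + 2)) 1).toPEquiv.toMatrix = _
  rw [PEquiv.toMatrix_toPEquiv_mul, PEquiv.mul_toMatrix_toPEquiv, Equiv.symm_swap]
  rfl

omit [Fintype F] in
theorem act_pm_swap_single00 (κ : F) :
    act (pmG (Equiv.swap (0 : Fin (m + 2)) 1)) (single 0 0 κ) = single 1 1 κ := by
  rw [act_pm_swap]
  ext a b
  simp only [submatrix_apply, single_apply]
  have h1 : ∀ x : Fin (m + 2), (0 = Equiv.swap (0 : Fin (m + 2)) 1 x) ↔ (1 = x) := by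
    intro x
    constructor
    · intro h
      have := congrArg (Equiv.swap (0 : Fin (m + 2)) 1) h
      rw [Equiv.swap_apply_self, Equiv.swap_apply_left] at this
      exact this
    · intro h
      rw [← h, Equiv.swap_apply_right]
  simp only [h1]

omit [Fintype F] in
theorem act_pm_swap_single11 (κ : F) :
    act (pmG (Equiv.swap (0 : Fin (m + 2)) 1)) (single 1 1 κ) = single 0 0 κ := by
  rw [act_pm_swap]
  ext a b
  simp only [submatrix_apply, single_apply]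
  have h1 : ∀ x : Fin (m + 2), (1 = Equiv.swap (0 : Fin (m + 2)) 1 x) ↔ (0 = x) := by
    intro x
    constructor
    · intro h
      have := congrArg (Equiv.swap (0 : Fin (m + 2)) 1) h
      rw [Equiv.swap_apply_self, Equiv.swap_apply_right] at this
      exact this
    · intro h
      rw [← h, Equiv.swap_apply_left]
  simp only [h1]

omit [Fintype F] [DecidableEq F] in
theorem bd_single (κ : F) :
    bd (0 : F) (single (0 : Fin (m + 1)) 0 κ) = (single 1 1 κ : Matrix (Fin (m + 2)) (Fin (m + 2)) F) := by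
  ext i j
  refine Fin.cases ?_ (fun i' => ?_) i <;> refine Fin.cases ?_ (fun j' => ?_) j
  · simp [single_apply]
  · simp [single_apply]
  · simp [single_apply, Fin.succ_ne_zero]
  · rw [bd_succ_succ, ← Fin.succ_zero_eq_one]
    simp only [single_apply, Fin.succ_inj]

omit [Fintype F] in
theorem act_upG (h : GL (Fin n) F) (B' : Matrix (Fin n) (Fin n) F) :
    act (upG h) (bd 0 B') = bd 0 (act h B') := by
  unfold act
  show (bd 1 ((h⁻¹ : GL (Fin n) F) : Matrix (Fin n) (Fin n) F))ᵀ * bd 0 B' *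
    bd 1 ((h⁻¹ : GL (Fin n) F) : Matrix (Fin n) (Fin n) F) = _
  rw [bd_transpose, bd_mul, bd_mul, one_mul, zero_mul]

theorem act_t1G (t : Fˣ) (B' : Matrix (Fin n) (Fin n) F) :
    act (t1G t) (bd 0 B') = bd 0 B' := by
  unfold act
  rw [Cfsg.Agent.Lib.Helper23.WGINV.t1G_inv_val, bd_transpose, bd_mul, bd_mul, mul_zero, zero_mul,
    transpose_one, Matrix.one_mul, Matrix.mul_one]

omit [Fintype F] [DecidableEq F] in
theorem bd_zero' : bd (0 : F) (0 : Matrix (Fin n) (Fin n) F) = 0 := by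
  ext i j
  refine Fin.cases ?_ (fun i' => ?_) i <;> refine Fin.cases ?_ (fun j' => ?_) j <;> simp

omit [Fintype F] in
theorem iota_LvG (ι : SpG F n →* SpG F (n + 1)) (hι : IsIota ι) (h : GL (Fin n) F) :
    ι (LvG h) = LvG (upG h) := by
  apply Subtype.ext
  rw [hι (LvG h), LvG_val, LvG_val, iotaMat, toBlocks_fromBlocks₁₁, toBlocks_fromBlocks₁₂,
    toBlocks_fromBlocks₂₁, toBlocks_fromBlocks₂₂, bd_zero']
  show _ = fromBlocks (bd 1 (h : Matrix (Fin n) (Fin n) F)) 0 0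
    (bd 1 ((h⁻¹ : GL (Fin n) F) : Matrix (Fin n) (Fin n) F))ᵀ
  rw [bd_transpose]

end mats

section main

variable {m : ℕ} {V V' : Type u} [AddCommGroup V] [Module ℂ V] [AddCommGroup V'] [Module ℂ V']

theorem w01_mul_self : (w01 : SpG F (m + 2)) * w01 = 1 := by
  show LvG (pmG (Equiv.swap 0 1)) * LvG (pmG (Equiv.swap 0 1)) = 1
  rw [← Cfsg.Agent.Lib.Helper29.WGLVH.LvG_mul, pm_swap_mul_self, Cfsg.Agent.Lib.Helper29.WGLVH.LvG_one]

theorem w01_inv : ((w01 : SpG F (m + 2)))⁻¹ = w01 := inv_eq_of_mul_eq_one_right w01_mul_self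

/-- the Levi factor permutes the weight spaces -/
theorem LvG_mem_wt_act {n : ℕ} (ψ : AddChar F ℂ) (ρ : Representation ℂ (SpG F n) V) (g : GL (Fin n) F)
    (B : Matrix (Fin n) (Fin n) F) (v : V) (hv : v ∈ wt ψ ρ B) : ρ (LvG g) v ∈ wt ψ ρ (act g B) :=
  Cfsg.Agent.Lib.Helper23.WGLVW.LvG_mem_wt ψ ρ g B v hv

/-- the key commutation -/
theorem key_comm (ψ : AddChar F ℂ) (ρ' : Representation ℂ (SpG F (m + 2)) V')
    (ρ : Representation ℂ (SpG F (m + 2)) V) (κ : F) (φ : V' →ₗ[ℂ] V)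
    (hφ : IsStabMap ψ ρ' ρ (single 0 0 κ) φ) (G : GL (Fin (m + 2)) F)
    (hG : act G (single 1 1 κ) = single 1 1 κ) (y : V') (hy : y ∈ wt ψ ρ' (single 1 1 κ)) :
    ρ w01 (φ (ρ' (w01⁻¹) (ρ' (LvG G) y))) = ρ (LvG G) (ρ w01 (φ (ρ' (w01⁻¹) y))) := by
  set P : GL (Fin (m + 2)) F := pmG (Equiv.swap 0 1) with hP
  have hPP : P * P = 1 := pm_swap_mul_self
  have hw : (w01 : SpG F (m + 2)) = LvG P := rfl
  rw [w01_inv, hw]
  set g : GL (Fin (m + 2)) F := P * G * P with hg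
  have h1 : (LvG P : SpG F (m + 2)) * LvG G = LvG g * LvG P := by
    rw [← Cfsg.Agent.Lib.Helper29.WGLVH.LvG_mul, ← Cfsg.Agent.Lib.Helper29.WGLVH.LvG_mul, hg,
      mul_assoc, mul_assoc, hPP, mul_one]
  have h2 : (LvG P : SpG F (m + 2)) * LvG g = LvG G * LvG P := by
    rw [← Cfsg.Agent.Lib.Helper29.WGLVH.LvG_mul, ← Cfsg.Agent.Lib.Helper29.WGLVH.LvG_mul, hg,
      ← mul_assoc, ← mul_assoc, hPP, one_mul]
  have hu : ρ' (LvG P) y ∈ wt ψ ρ' (single 0 0 κ) := by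
    have := LvG_mem_wt_act ψ ρ' P _ y hy
    rwa [hP, act_pm_swap_single11] at this
  have hstab : act g (single 0 0 κ) = single 0 0 κ := by
    rw [hg, act_mul, act_mul, hP, act_pm_swap_single00, hG, act_pm_swap_single11]
  have e1 : ρ' (LvG P) (ρ' (LvG G) y) = ρ' (LvG g) (ρ' (LvG P) y) := by
    rw [← Module.End.mul_apply, ← map_mul, h1, map_mul]
    rfl
  rw [e1, hφ.2 g hstab _ hu, ← Module.End.mul_apply, ← map_mul, h2, map_mul]
  rfl

/-- the transported map on the weight space -/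
theorem toY_apply (h2 : (2 : F) ≠ 0) (ψ : AddChar F ℂ) (hψ : ψ.IsPrimitive)
    (ι : SpG F (m + 1) →* SpG F (m + 2)) (hι : IsIota ι)
    (ρ' : Representation ℂ (SpG F (m + 2)) V') (ρ : Representation ℂ (SpG F (m + 2)) V)
    (hW' : IsW ψ ρ')
    (hinv' : ∀ g, ∀ v ∈ Ysp ρ', ρ' (ι g) v ∈ Ysp ρ')
    (κ : F) (φ : V' →ₗ[ℂ] V) (hφ : IsStabMap ψ ρ' ρ (single 0 0 κ) φ)
    (y : ↥(Ysp ρ')) (hy : y ∈ wt ψ (resY ρ' ι hinv') (single 0 0 κ)) :
    (y : V') ∈ wt ψ ρ' (single 1 1 κ) ∧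
    ρ w01 (φ (ρ' (w01⁻¹) (y : V'))) ∈ wt ψ ρ (single 1 1 κ) ∧
    ((toY ψ ρ' ρ φ y : ↥(Ysp ρ)) : V) = ρ w01 (φ (ρ' (w01⁻¹) (y : V'))) := by
  have hWD' : Cfsg.Agent.Lib.Helper14.WGF6.WDHyp ψ ρ' :=
    ⟨Cfsg.Agent.Lib.Helper17.WGWD.wtProj_mem ψ ρ', Cfsg.Agent.Lib.Helper17.WGWD.sum_wtProj h2 ψ hψ ρ',
      fun f hf B v => Cfsg.Agent.Lib.Helper17.WGWD.wtProj_comm ψ ρ' ρ' f hf B v⟩
  have hy1 : (y : V') ∈ wt ψ ρ' (single 1 1 κ) := by
    have := (Cfsg.Agent.Lib.Helper14.WGF6.wt_resY_iff_of h2 ψ hψ ι hι ρ' hW' hWD' hinv'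
      (single 0 0 κ) (by simp) y).1 hy
    rwa [bd_single] at this
  have hu : ρ' (w01⁻¹) (y : V') ∈ wt ψ ρ' (single 0 0 κ) := by
    rw [w01_inv]
    have := LvG_mem_wt_act ψ ρ' (pmG (Equiv.swap 0 1)) _ (y : V') hy1
    rwa [act_pm_swap_single11] at this
  have hz : ρ w01 (φ (ρ' (w01⁻¹) (y : V'))) ∈ wt ψ ρ (single 1 1 κ) := by
    have := LvG_mem_wt_act ψ ρ (pmG (Equiv.swap 0 1)) _ _ (hφ.1 _ hu)
    rwa [act_pm_swap_single00] at this
  refine ⟨hy1, hz, ?_⟩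
  show zProj ψ ρ 0 (ρ w01 (φ (ρ' (w01⁻¹) (y : V')))) = _
  apply Cfsg.Agent.Lib.Helper17.WGZD.zProj_of_mem
  have := Cfsg.Agent.Lib.Helper17.WGZD.wt_le_zsp ψ ρ (single 1 1 κ) hz
  have e : (single (1 : Fin (m + 2)) 1 κ : Matrix (Fin (m + 2)) (Fin (m + 2)) F) 0 0 = 0 := by
    simp
  rwa [e] at this

/-- (TR) -/
theorem isStabMap_toY {m : ℕ} {V V' : Type u} [AddCommGroup V] [Module ℂ V] [AddCommGroup V']
    [Module ℂ V'] (h2 : (2 : F) ≠ 0) (ψ : AddChar F ℂ) (hψ : ψ.IsPrimitive)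
    (ι : SpG F (m + 1) →* SpG F (m + 2)) (hι : IsIota ι)
    (ρ' : Representation ℂ (SpG F (m + 2)) V') (ρ : Representation ℂ (SpG F (m + 2)) V)
    (hW' : IsW ψ ρ') (hW : IsW ψ ρ)
    (hinv' : ∀ g, ∀ v ∈ Ysp ρ', ρ' (ι g) v ∈ Ysp ρ') (hinv : ∀ g, ∀ v ∈ Ysp ρ, ρ (ι g) v ∈ Ysp ρ)
    (κ : F) (φ : V' →ₗ[ℂ] V) (hφ : IsStabMap ψ ρ' ρ (single 0 0 κ) φ) :
    IsStabMap ψ (resY ρ' ι hinv') (resY ρ ι hinv) (single 0 0 κ) (toY ψ ρ' ρ φ) ∧
    (∀ y : ↥(Ysp ρ'), y ∈ wt ψ (resY ρ' ι hinv') (single 0 0 κ) →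
      ((toY ψ ρ' ρ φ y : ↥(Ysp ρ)) : V) = ρ w01 (φ (ρ' (w01⁻¹) (y : V')))) ∧
    (∀ (t : Fˣ) (y : ↥(Ysp ρ')), y ∈ wt ψ (resY ρ' ι hinv') (single 0 0 κ) →
      ρ w01 (φ (ρ' (w01⁻¹) (ρ' (LvG (t1G t)) (y : V')))) =
        ρ (LvG (t1G t)) (ρ w01 (φ (ρ' (w01⁻¹) (y : V'))))) := by
  have hWD : Cfsg.Agent.Lib.Helper14.WGF6.WDHyp ψ ρ :=
    ⟨Cfsg.Agent.Lib.Helper17.WGWD.wtProj_mem ψ ρ, Cfsg.Agent.Lib.Helper17.WGWD.sum_wtProj h2 ψ hψ ρ,
      fun f hf B v => Cfsg.Agent.Lib.Helper17.WGWD.wtProj_comm ψ ρ ρ f hf B v⟩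
  have hkey := fun y hy => toY_apply h2 ψ hψ ι hι ρ' ρ hW' hinv' κ φ hφ y hy
  refine ⟨⟨?_, ?_⟩, fun y hy => (hkey y hy).2.2, ?_⟩
  · -- maps the weight space to the weight space
    intro y hy
    obtain ⟨-, hz, he⟩ := hkey y hy
    apply (Cfsg.Agent.Lib.Helper14.WGF6.wt_resY_iff_of h2 ψ hψ ι hι ρ hW hWD hinv
      (single 0 0 κ) (by simp) _).2
    rw [bd_single, he]
    exact hz
  · -- commutes with the stabiliser
    intro h hh y hy
    have hy' : resY ρ' ι hinv' (LvG h) y ∈ wt ψ (resY ρ' ι hinv') (single 0 0 κ) := by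
      have := LvG_mem_wt_act ψ (resY ρ' ι hinv') h _ y hy
      have e : act h (single 0 0 κ) = single 0 0 κ := hh
      rwa [e] at this
    apply Subtype.ext
    rw [(hkey _ hy').2.2, resY_apply, resY_apply, (hkey y hy).2.2, iota_LvG ι hι h]
    apply key_comm ψ ρ' ρ κ φ hφ (upG h) _ _ (hkey y hy).1
    have e : act h (single 0 0 κ) = single 0 0 κ := hh
    rw [← bd_single, act_upG, e]
  · intro t y hy
    apply key_comm ψ ρ' ρ κ φ hφ (t1G t) _ _ (hkey y hy).1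
    rw [← bd_single, act_t1G]

end main

end Cfsg.Agent.Lib.Helper17.WGTR
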