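/-
helper17: Zassenhaus cluster, basic group-level definitions.
`z` is the central involution; for elements `a, b` of order three, `Opp z a b` says `(ab)² = z`
and `Rel z a b` says that `a, b` generate the same subgroup or `(ab)² = z` or `(ab)³ = z`.
-/
import Mathlib

set_option autoImplicit false

namespace Cfsg.Agent.Lib.Helper17.Zs

variable {G : Type*} [Group G]

/-- `(ab)² = z` -/
def Opp (z a b : G) : Prop := (a * b) ^ 2 = z

/-- `b ∈ {a, a⁻¹}`, or `(ab)² = z`, or `(ab)³ = z`. -/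
def Rel (z a b : G) : Prop := b = a ∨ b = a⁻¹ ∨ (a * b) ^ 2 = z ∨ (a * b) ^ 3 = z

theorem Opp.rel {z a b : G} (h : Opp z a b) : Rel z a b := Or.inr (Or.inr (Or.inl h))

/-- A chart of degree `n` on the subgroup `K`: a map to `Perm (Fin n)`, multiplicative on `K`
with kernel `{1, z}`. -/
def Chart (z : G) (K : Subgroup G) (n N : ℕ) : Prop :=
  z ∈ K ∧ Nat.card K = N ∧ ∃ ψ : G → Equiv.Perm (Fin n),
    (∀ x ∈ K, ∀ y ∈ K, ψ (x * y) = ψ x * ψ y) ∧ (∀ x ∈ K, ψ x = 1 ↔ x = 1 ∨ x = z)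

/-- good subgroups: abelian, or of type `2.A₄` or `2.A₅` -/
def Good (z : G) (K : Subgroup G) : Prop :=
  (∀ x ∈ K, ∀ y ∈ K, x * y = y * x) ∨ Chart z K 4 24 ∨ Chart z K 5 120

end Cfsg.Agent.Lib.Helper17.Zs
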