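/-
helper17: ring identities for the Zassenhaus theorem cluster.

Elements `a` of a ring with `a * a = -a - 1` ("cubic" elements: images of group elements of order
three acting freely).  For two such elements, `s a b = a b + b a + a + b + 1` is the image of
`ab + (ab)⁻¹`.
* `t_comm_left`: `ab + ba + a + b` commutes with `a` (Zhurtov's lemma).
* `clifford_span`, `cubic_span`: if `s a b`, `s a c` are scalars and the commutant of `a, b, c`
  consists of scalars, then `c` lies in the span of `1, a, b, ab`.
* `lemC_*`: identities showing that four pairwise "opposite" cubic elements cannot exist.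
-/
import Mathlib

set_option autoImplicit false
set_option linter.unusedSimpArgs false

namespace Cfsg.Agent.Lib.Helper17.Zs

section ring
variable {R : Type*} [Ring R]

theorem cub_assoc {a : R} (ha : a * a = -a - 1) (x : R) : a * (a * x) = -(a * x) - x := by
  rw [← mul_assoc, ha]; noncomm_ring

theorem opp_assoc {a b : R} (h : b * a = -(a * b) - a - b - 1) (x : R) :
    b * (a * x) = -(a * (b * x)) - a * x - b * x - x := by
  rw [← mul_assoc, h]; noncomm_ring

/-- `t = ab + ba + a + b` commutes with `a`. -/
theorem t_comm_left {a b : R} (ha : a * a = -a - 1) :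
    a * (a * b + b * a + a + b) = (a * b + b * a + a + b) * a := by
  have ha' := cub_assoc ha
  simp only [mul_add, add_mul, mul_assoc, ha, ha', mul_sub, mul_neg, mul_one]
  abel

/-- `t = ab + ba + a + b` commutes with `b`. -/
theorem t_comm_right {a b : R} (hb : b * b = -b - 1) :
    b * (a * b + b * a + a + b) = (a * b + b * a + a + b) * b := by
  have hb' := cub_assoc hb
  simp only [mul_add, add_mul, mul_assoc, hb, hb', mul_sub, sub_mul, mul_neg, neg_mul, mul_one,
    one_mul]
  abel

/-- the inverse of a cubic element -/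
theorem cub_mul_inv {a : R} (ha : a * a = -a - 1) : a * (-1 - a) = 1 := by
  rw [mul_sub, ha]; noncomm_ring

theorem cub_inv_mul {a : R} (ha : a * a = -a - 1) : (-1 - a) * a = 1 := by
  rw [sub_mul, ha]; noncomm_ring

theorem cub_cube {a : R} (ha : a * a = -a - 1) : a * a * a = 1 := by
  rw [ha, sub_mul, neg_mul, ha]; noncomm_ring

/-- `(a - b)² = 0` when `s a b = -1`. -/
theorem sub_sq_eq_zero {a b : R} (ha : a * a = -a - 1) (hb : b * b = -b - 1)
    (h : a * b + b * a + a + b + 1 = -1) : (a - b) * (a - b) = 0 := by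
  have h' : b * a = -(a * b) - a - b - 1 - 1 := by
    have : b * a = (a * b + b * a + a + b + 1) - (a * b) - a - b - 1 := by abel
    rw [this, h]; abel
  simp only [mul_sub, sub_mul, ha, hb, h']
  abel

/-- `s a b + s a b⁻¹ = 1`. -/
theorem s_add_s_inv {a b : R} :
    (a * b + b * a + a + b + 1) + (a * (-1 - b) + (-1 - b) * a + a + (-1 - b) + 1) = 1 := by
  noncomm_ring

/-- commuting cubic elements: `(a - b)(a - b⁻¹) = 0`. -/
theorem comm_cub {a b : R} (ha : a * a = -a - 1) (hb : b * b = -b - 1) (hab : a * b = b * a) :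
    (a - b) * (a - (-1 - b)) = 0 := by
  have h1 : (a - b) * (a - (-1 - b)) = a * a + a + a * b - b * a - b - b * b := by noncomm_ring
  rw [h1, ha, hb, hab]; noncomm_ring

/-! ### Lemma C -/

theorem lemC_w {b c d : R} (hb : b * b = -b - 1) (hc : c * c = -c - 1) (hd : d * d = -d - 1)
    (hcb : c * b = -(b * c) - b - c - 1) (hdb : d * b = -(b * d) - b - d - 1)
    (hdc : d * c = -(c * d) - c - d - 1) :
    b * (-1 - c) * d * (-1 - b) = -(c * d) - c - b * c + b * d := by
  have hb' := cub_assoc hb
  have hc' := cub_assoc hc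
  have hd' := cub_assoc hd
  have hcb' := opp_assoc hcb
  have hdb' := opp_assoc hdb
  have hdc' := opp_assoc hdc
  simp only [mul_add, add_mul, mul_assoc, mul_sub, sub_mul, mul_neg, neg_mul, mul_one, one_mul,
    hb, hc, hd, hb', hc', hd', hcb, hdb, hdc, hcb', hdb', hdc', neg_neg, neg_add, neg_sub]
  abel

theorem lemC_comm {a b c d : R} (ha : a * a = -a - 1)
    (hb : b * b = -b - 1) (hc : c * c = -c - 1) (hd : d * d = -d - 1)
    (hba : b * a = -(a * b) - a - b - 1) (hca : c * a = -(a * c) - a - c - 1)
    (hda : d * a = -(a * d) - a - d - 1)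
    (hcb : c * b = -(b * c) - b - c - 1) (hdb : d * b = -(b * d) - b - d - 1)
    (hdc : d * c = -(c * d) - c - d - 1) :
    a * (-(c * d) - c - b * c + b * d) = (-(c * d) - c - b * c + b * d) * a := by
  have ha' := cub_assoc ha
  have hb' := cub_assoc hb
  have hc' := cub_assoc hc
  have hd' := cub_assoc hd
  have hba' := opp_assoc hba
  have hca' := opp_assoc hca
  have hda' := opp_assoc hda
  have hcb' := opp_assoc hcb
  have hdb' := opp_assoc hdb
  have hdc' := opp_assoc hdc
  simp only [mul_add, add_mul, mul_assoc, mul_sub, sub_mul, mul_neg, neg_mul, mul_one, one_mul,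
    ha, ha', hba, hca, hda, hba', hca', hda',
    hb, hc, hd, hb', hc', hd', hcb, hdb, hdc, hcb', hdb', hdc', neg_neg, neg_add, neg_sub]
  abel

/-- `w² = w - 1` -/
theorem lemC_sq {b c d : R} (hb : b * b = -b - 1) (hc : c * c = -c - 1) (hd : d * d = -d - 1)
    (hcb : c * b = -(b * c) - b - c - 1) (hdb : d * b = -(b * d) - b - d - 1)
    (hdc : d * c = -(c * d) - c - d - 1) :
    (-(c * d) - c - b * c + b * d) * (-(c * d) - c - b * c + b * d)
      = (-(c * d) - c - b * c + b * d) - 1 := by
  have hb' := cub_assoc hb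
  have hc' := cub_assoc hc
  have hd' := cub_assoc hd
  have hcb' := opp_assoc hcb
  have hdb' := opp_assoc hdb
  have hdc' := opp_assoc hdc
  simp only [mul_add, add_mul, mul_assoc, mul_sub, sub_mul, mul_neg, neg_mul, mul_one, one_mul,
    hb, hc, hd, hb', hc', hd', hcb, hdb, hdc, hcb', hdb', hdc', neg_neg, neg_add, neg_sub]
  abel

/-- `r² = r + 1` -/
theorem lemC_r {b c d : R} (hb : b * b = -b - 1) (hc : c * c = -c - 1) (hd : d * d = -d - 1)
    (hcb : c * b = -(b * c) - b - c - 1) (hdb : d * b = -(b * d) - b - d - 1)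
    (hdc : d * c = -(c * d) - c - d - 1) (w r : R) (hw : w = -(c * d) - c - b * c + b * d)
    (hr : r = w * b + b * w + w - b) :
    r * r = r + 1 := by
  have hb' := cub_assoc hb
  have hc' := cub_assoc hc
  have hd' := cub_assoc hd
  have hcb' := opp_assoc hcb
  have hdb' := opp_assoc hdb
  have hdc' := opp_assoc hdc
  have hr' : r = -(b * (c * d)) - b * (c * d) - b * d - c * d - b * c - b - d := by
    rw [hr, hw]
    simp only [mul_add, add_mul, mul_assoc, mul_sub, sub_mul, mul_neg, neg_mul, mul_one, one_mul,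
      hb, hc, hd, hb', hc', hd', hcb, hdb, hdc, hcb', hdb', hdc', neg_neg, neg_add, neg_sub]
    abel
  rw [hr']
  simp only [mul_add, add_mul, mul_assoc, mul_sub, sub_mul, mul_neg, neg_mul, mul_one, one_mul,
    hb, hc, hd, hb', hc', hd', hcb, hdb, hdc, hcb', hdb', hdc', neg_neg, neg_add, neg_sub]
  abel

/-- **Lemma C**, ring form: four pairwise opposite cubic elements `a, b, c, d`, with `a` equal to
`w²` or `w⁴` for `w = b c⁻¹ d b⁻¹`, force `1 = 0`. -/
theorem lemC_false {a b c d : R}
    (hb : b * b = -b - 1) (hc : c * c = -c - 1) (hd : d * d = -d - 1)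
    (hba : b * a = -(a * b) - a - b - 1)
    (hcb : c * b = -(b * c) - b - c - 1) (hdb : d * b = -(b * d) - b - d - 1)
    (hdc : d * c = -(c * d) - c - d - 1)
    (h : a = (-(c * d) - c - b * c + b * d) - 1 ∨ a = -(-(c * d) - c - b * c + b * d)) :
    (1 : R) = 0 := by
  obtain ⟨w, hw⟩ : ∃ w : R, w = -(c * d) - c - b * c + b * d := ⟨_, rfl⟩
  obtain ⟨r, hr⟩ : ∃ r : R, r = w * b + b * w + w - b := ⟨_, rfl⟩
  have hrr := lemC_r hb hc hd hcb hdb hdc w r hw hr
  rw [← hw] at h
  rcases h with h | h
  · -- `r = 0`
    have : r = 0 := by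
      have h0 : a * b + b * a + a + b + 1 = 0 := by rw [hba]; noncomm_ring
      rw [hr, ← h0, h]; noncomm_ring
    rw [this] at hrr
    simpa using hrr.symm
  · -- `r = 1`
    have : r = 1 := by
      have h0 : a * b + b * a + a + b + 1 = 0 := by rw [hba]; noncomm_ring
      have : r = 1 - (a * b + b * a + a + b + 1) := by rw [hr, h]; noncomm_ring
      rw [this, h0, sub_zero]
    rw [this] at hrr
    have h2 : (1 : R) = 1 + 1 := by simpa using hrr
    have : (1 : R) + 0 = 1 + 1 := by rw [add_zero]; exact h2
    exact (add_left_cancel this).symm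

end ring

section clifford
variable {F R : Type*} [Field F] [Ring R] [Algebra F R]

theorem jacobi_ring {A B C l m : R} (hl : ∀ x, l * x = x * l) (hm : ∀ x, m * x = x * m)
    (hAB : A * B = l - B * A) (hAC : A * C = m - C * A) :
    A * (B * C + C * B) = (B * C + C * B) * A := by
  calc A * (B * C + C * B) = (A * B) * C + (A * C) * B := by noncomm_ring
    _ = (l - B * A) * C + (m - C * A) * B := by rw [hAB, hAC]
    _ = l * C - B * (A * C) + m * B - C * (A * B) := by noncomm_ring
    _ = l * C - B * (m - C * A) + m * B - C * (l - B * A) := by rw [hAB, hAC]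
    _ = (B * C + C * B) * A + (l * C - C * l) + (m * B - B * m) := by noncomm_ring
    _ = (B * C + C * B) * A := by rw [hl C, hm B]; noncomm_ring

theorem anti_comm_sq {A B : R} (hB : B * B = -3) :
    B * (A * B + B * A) = (A * B + B * A) * B := by
  calc B * (A * B + B * A) = B * A * B + (B * B) * A := by noncomm_ring
    _ = B * A * B + A * (B * B) := by rw [hB]; noncomm_ring
    _ = (A * B + B * A) * B := by noncomm_ring

theorem iota_anti_left {A B : R} (hA : A * A = -3) :
    A * (A * B - B * A) + (A * B - B * A) * A = 0 := by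
  calc A * (A * B - B * A) + (A * B - B * A) * A = (A * A) * B - B * (A * A) := by noncomm_ring
    _ = 0 := by rw [hA]; noncomm_ring

theorem iota_anti_right {A B : R} (hB : B * B = -3) :
    B * (A * B - B * A) + (A * B - B * A) * B = 0 := by
  calc B * (A * B - B * A) + (A * B - B * A) * B = A * (B * B) - (B * B) * A := by noncomm_ring
    _ = 0 := by rw [hB]; noncomm_ring

theorem iota_sq {A B l : R} (hl : ∀ x, l * x = x * l) (hA : A * A = -3) (hB : B * B = -3)
    (hBA : B * A = l - A * B) :
    (A * B - B * A) * (A * B - B * A) = l * l - 36 := by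
  have h1 : A * B - B * A = 2 * (A * B) - l := by rw [hBA]; noncomm_ring
  have h2 : A * B * (A * B) = l * (A * B) - 9 := by
    calc A * B * (A * B) = A * (B * A) * B := by noncomm_ring
      _ = A * (l - A * B) * B := by rw [hBA]
      _ = A * l * B - (A * A) * (B * B) := by noncomm_ring
      _ = l * (A * B) - 9 := by
        rw [hA, hB, ← hl A]
        have : ((-3 : R)) * (-3) = 9 := by norm_num
        rw [this]; noncomm_ring
  rw [h1]
  calc (2 * (A * B) - l) * (2 * (A * B) - l)
      = 4 * (A * B * (A * B)) - 2 * ((A * B) * l) - 2 * (l * (A * B)) + l * l := by noncomm_ring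
    _ = l * l - 36 := by
        rw [h2, ← hl (A * B)]
        have : (4 : R) * 9 = 36 := by norm_num
        rw [mul_sub, this]; noncomm_ring

/-- anticommuting twice = commuting -/
theorem comm_of_anti_anti {A d i : R} (h1 : d * A = -(A * d)) (h2 : i * A = -(A * i)) :
    (d * i) * A = A * (d * i) := by
  calc (d * i) * A = d * (i * A) := by rw [mul_assoc]
    _ = -((d * A) * i) := by rw [h2]; noncomm_ring
    _ = A * (d * i) := by rw [h1]; noncomm_ring

/-- **Clifford lemma.** `A² = B² = C² = -3`, `{A,B}` and `{A,C}` scalars, `{A,B}² ≠ 36`, and the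
commutant of `A, B, C` consists of scalars: then `C` lies in the span of `1, A, B, AB`. -/
theorem clifford_span {A B C : R} {Λ M : F}
    (hA : A * A = -3) (hB : B * B = -3) (hC : C * C = -3)
    (hAB : A * B + B * A = algebraMap F R Λ) (hAC : A * C + C * A = algebraMap F R M)
    (hΛ : Λ ^ 2 ≠ 36)
    (schur : ∀ T : R, Commute T A → Commute T B → Commute T C → ∃ κ : F, T = algebraMap F R κ) :
    C ∈ Submodule.span F ({1, A, B, A * B} : Set R) := by
  have hl : ∀ x, algebraMap F R Λ * x = x * algebraMap F R Λ := fun x => Algebra.commutes Λ x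
  have hm : ∀ x, algebraMap F R M * x = x * algebraMap F R M := fun x => Algebra.commutes M x
  -- N is central
  obtain ⟨ν, hν⟩ : ∃ ν : F, B * C + C * B = algebraMap F R ν := by
    apply schur
    · exact (jacobi_ring hl hm (eq_sub_of_add_eq hAB) (eq_sub_of_add_eq hAC)).symm
    · have := anti_comm_sq (A := C) hB
      rw [add_comm] at this
      exact this.symm
    · exact (anti_comm_sq (A := B) hC).symm
  have hD : (36 - Λ ^ 2 : F) ≠ 0 := fun h => hΛ (by linear_combination -h)
  obtain ⟨α, hα⟩ : ∃ α : F, α = (-6 * M - Λ * ν) / (36 - Λ ^ 2) := ⟨_, rfl⟩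
  obtain ⟨β, hβ⟩ : ∃ β : F, β = (-6 * ν - Λ * M) / (36 - Λ ^ 2) := ⟨_, rfl⟩
  have e1 : M + 6 * α - Λ * β = 0 := by
    rw [hα, hβ]; field_simp; ring
  have e2 : ν - Λ * α + 6 * β = 0 := by
    rw [hα, hβ]; field_simp; ring
  obtain ⟨d, hd⟩ : ∃ d : R, d = C - α • A - β • B := ⟨_, rfl⟩
  have hBA : B * A = algebraMap F R Λ - A * B := eq_sub_of_add_eq' hAB
  have hm3 : (-3 : R) = algebraMap F R (-3) := by rw [map_neg, map_ofNat]
  have hAd : d * A = -(A * d) := by
    rw [eq_neg_iff_add_eq_zero, add_comm]
    calc A * d + d * A = (A * C + C * A) - α • (A * A + A * A) - β • (A * B + B * A) := by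
          rw [hd]; simp only [mul_sub, sub_mul, mul_smul_comm, smul_mul_assoc, smul_add]; abel
      _ = algebraMap F R (M + 6 * α - Λ * β) := by
          rw [hAC, hAB, hA, hm3]
          simp only [Algebra.smul_def, ← map_mul, ← map_add, ← map_sub]
          congr 1; ring
      _ = 0 := by rw [e1, map_zero]
  have hBd : d * B = -(B * d) := by
    rw [eq_neg_iff_add_eq_zero, add_comm]
    calc B * d + d * B = (B * C + C * B) - α • (A * B + B * A) - β • (B * B + B * B) := by
          rw [hd]; simp only [mul_sub, sub_mul, mul_smul_comm, smul_mul_assoc, smul_add]; abel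
      _ = algebraMap F R (ν - Λ * α + 6 * β) := by
          rw [hν, hAB, hB, hm3]
          simp only [Algebra.smul_def, ← map_mul, ← map_add, ← map_sub]
          congr 1; ring
      _ = 0 := by rw [e2, map_zero]
  obtain ⟨ι, hι⟩ : ∃ ι : R, ι = A * B - B * A := ⟨_, rfl⟩
  have hιA : ι * A = -(A * ι) := by
    rw [eq_neg_iff_add_eq_zero, add_comm, hι]; exact iota_anti_left hA
  have hιB : ι * B = -(B * ι) := by
    rw [eq_neg_iff_add_eq_zero, add_comm, hι]; exact iota_anti_right hB
  have hιι : ι * ι = algebraMap F R (Λ ^ 2 - 36) := by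
    rw [hι, iota_sq hl hA hB hBA, map_sub, pow_two, map_mul, map_ofNat]
  -- w = d ι is central
  have hwA : Commute (d * ι) A := comm_of_anti_anti hAd hιA
  have hwB : Commute (d * ι) B := comm_of_anti_anti hBd hιB
  have hdι : d * ι = ι * d := by
    rw [hι]
    calc d * (A * B - B * A) = (d * A) * B - (d * B) * A := by noncomm_ring
      _ = -(A * d) * B + (B * d) * A := by rw [hAd, hBd]; noncomm_ring
      _ = -(A * (d * B)) + B * (d * A) := by noncomm_ring
      _ = A * (B * d) - B * (A * d) := by rw [hAd, hBd]; noncomm_ring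
      _ = (A * B - B * A) * d := by noncomm_ring
  have hwd : Commute (d * ι) d := by
    change d * ι * d = d * (d * ι)
    rw [mul_assoc, ← hdι]
  have hCd : C = d + α • A + β • B := by rw [hd]; abel
  have hwC : Commute (d * ι) C := by
    rw [hCd]
    exact (hwd.add_right (hwA.smul_right α)).add_right (hwB.smul_right β)
  obtain ⟨κ, hκ⟩ := schur _ hwA hwB hwC
  have hD' : (Λ ^ 2 - 36 : F) ≠ 0 := fun h => hΛ (by linear_combination h)
  have hd2 : d = (κ / (Λ ^ 2 - 36)) • ι := by
    have h1 : d * (ι * ι) = algebraMap F R κ * ι := by rw [← mul_assoc, hκ]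
    rw [hιι, ← Algebra.commutes, ← Algebra.smul_def, ← Algebra.smul_def] at h1
    rw [div_eq_inv_mul, mul_smul, ← h1, smul_smul, inv_mul_cancel₀ hD', one_smul]
  rw [hCd, hd2, hι, hBA]
  have h1 : (1 : R) ∈ Submodule.span F ({1, A, B, A * B} : Set R) :=
    Submodule.subset_span (by simp)
  have hA' : A ∈ Submodule.span F ({1, A, B, A * B} : Set R) :=
    Submodule.subset_span (by simp)
  have hB' : B ∈ Submodule.span F ({1, A, B, A * B} : Set R) :=
    Submodule.subset_span (by simp)
  have hAB' : A * B ∈ Submodule.span F ({1, A, B, A * B} : Set R) :=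
    Submodule.subset_span (by simp)
  have hΛ' : algebraMap F R Λ ∈ Submodule.span F ({1, A, B, A * B} : Set R) := by
    rw [Algebra.algebraMap_eq_smul_one]; exact Submodule.smul_mem _ _ h1
  exact Submodule.add_mem _ (Submodule.add_mem _
    (Submodule.smul_mem _ _ (Submodule.sub_mem _ hAB' (Submodule.sub_mem _ hΛ' hAB')))
    (Submodule.smul_mem _ _ hA')) (Submodule.smul_mem _ _ hB')

/-- **Lemma B**, ring form: cubic elements `a, b, c` with `s a b`, `s a c` scalars (not `2` or
`-1`) and scalar commutant: `c` lies in the span of `1, a, b, ab`. -/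
theorem cubic_span {a b c : R} {lam mu : F} (h2 : (2 : F) ≠ 0)
    (ha : a * a = -a - 1) (hb : b * b = -b - 1) (hc : c * c = -c - 1)
    (hab : a * b + b * a + a + b + 1 = algebraMap F R lam)
    (hac : a * c + c * a + a + c + 1 = algebraMap F R mu)
    (hlam : (4 * lam - 2) ^ 2 ≠ 36)
    (schur : ∀ T : R, Commute T a → Commute T b → Commute T c → ∃ κ : F, T = algebraMap F R κ) :
    c ∈ Submodule.span F ({1, a, b, a * b} : Set R) := by
  have sq : ∀ x : R, x * x = -x - 1 → (x + x + 1) * (x + x + 1) = -3 := by
    intro x hx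
    have : (x + x + 1) * (x + x + 1) = (x * x + x * x + x * x + x * x) + (x + x + x + x) + 1 := by
      noncomm_ring
    rw [this, hx]
    have : (-3 : R) = -1 - 1 - 1 := by norm_num
    rw [this]; abel
  have anti : ∀ x y : R, (x + x + 1) * (y + y + 1) + (y + y + 1) * (x + x + 1)
      = 4 * (x * y + y * x + x + y + 1) - 2 := by
    intro x y
    have h4 : (4 : R) = 1 + 1 + 1 + 1 := by norm_num
    have h2' : (2 : R) = 1 + 1 := by norm_num
    rw [h4, h2']; noncomm_ring
  have two_smul' : ∀ x : R, (2 : F)⁻¹ • ((x + x + 1) - 1) = x := by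
    intro x
    have : (x + x + 1) - 1 = (2 : F) • x := by rw [two_smul]; abel
    rw [this, smul_smul, inv_mul_cancel₀ h2, one_smul]
  have comm_of : ∀ T x : R, Commute T (x + x + 1) → Commute T x := by
    intro T x h
    rw [← two_smul' x]
    exact (h.sub_right (Commute.one_right T)).smul_right _
  have hAB : (a + a + 1) * (b + b + 1) + (b + b + 1) * (a + a + 1)
      = algebraMap F R (4 * lam - 2) := by
    rw [anti, hab, map_sub, map_mul, map_ofNat, map_ofNat]
  have hAC : (a + a + 1) * (c + c + 1) + (c + c + 1) * (a + a + 1)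
      = algebraMap F R (4 * mu - 2) := by
    rw [anti, hac, map_sub, map_mul, map_ofNat, map_ofNat]
  have key := clifford_span (sq a ha) (sq b hb) (sq c hc) hAB hAC hlam
    (fun T hTa hTb hTc => schur T (comm_of T a hTa) (comm_of T b hTb) (comm_of T c hTc))
  have h1 : (1 : R) ∈ Submodule.span F ({1, a, b, a * b} : Set R) :=
    Submodule.subset_span (by simp)
  have ha' : a ∈ Submodule.span F ({1, a, b, a * b} : Set R) :=
    Submodule.subset_span (by simp)
  have hb' : b ∈ Submodule.span F ({1, a, b, a * b} : Set R) :=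
    Submodule.subset_span (by simp)
  have hab' : a * b ∈ Submodule.span F ({1, a, b, a * b} : Set R) :=
    Submodule.subset_span (by simp)
  have hle : Submodule.span F ({1, a + a + 1, b + b + 1, (a + a + 1) * (b + b + 1)} : Set R)
      ≤ Submodule.span F ({1, a, b, a * b} : Set R) := by
    rw [Submodule.span_le]
    intro x hx
    simp only [Set.mem_insert_iff, Set.mem_singleton_iff] at hx
    rcases hx with rfl | rfl | rfl | rfl
    · exact h1
    · exact Submodule.add_mem _ (Submodule.add_mem _ ha' ha') h1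
    · exact Submodule.add_mem _ (Submodule.add_mem _ hb' hb') h1
    · have : (a + a + 1) * (b + b + 1)
          = (a * b + a * b + a * b + a * b) + (a + a) + (b + b) + 1 := by noncomm_ring
      rw [this]
      exact Submodule.add_mem _ (Submodule.add_mem _ (Submodule.add_mem _
        (Submodule.add_mem _ (Submodule.add_mem _ (Submodule.add_mem _ hab' hab') hab') hab')
        (Submodule.add_mem _ ha' ha')) (Submodule.add_mem _ hb' hb')) h1
  rw [← two_smul' c]
  exact Submodule.smul_mem _ _ (Submodule.sub_mem _ (hle key) h1)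

end clifford

end Cfsg.Agent.Lib.Helper17.Zs
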