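import Mathlib
import Cfsg.Agent.Lib.Helper17.ZsRing
import Cfsg.Agent.Lib.Helper17.ZsDefs

set_option autoImplicit false

namespace Cfsg.Agent.Lib.Helper17.Zs

section free
variable {F : Type*} [Field F] {G : Type*} [Group G] {V : Type*} [AddCommGroup V] [Module F V]

/-- free (fixed-point-free) linear representation -/
def IsFree (ρ : G →* Module.End F V) : Prop := ∀ g : G, g ≠ 1 → ∀ v : V, ρ g v = v → v = 0

variable {ρ : G →* Module.End F V}

theorem IsFree.sub_apply_eq_zero (h : IsFree ρ) {g k : G} (hne : g ≠ k) {v : V}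
    (hv : (ρ g - ρ k) v = 0) : v = 0 := by
  apply h (k⁻¹ * g) (fun h1 => hne (by rw [inv_mul_eq_one] at h1; exact h1.symm))
  rw [map_mul, Module.End.mul_apply]
  have h1 : ρ g v = ρ k v := by
    rw [LinearMap.sub_apply, sub_eq_zero] at hv; exact hv
  rw [h1, ← Module.End.mul_apply, ← map_mul, inv_mul_cancel, map_one, Module.End.one_apply]

/-- left cancellation of `ρ g - ρ k`. -/
theorem IsFree.eq_zero_of_sub_mul (h : IsFree ρ) {g k : G} (hne : g ≠ k) {Y : Module.End F V}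
    (hY : (ρ g - ρ k) * Y = 0) : Y = 0 := by
  ext v
  apply h.sub_apply_eq_zero hne
  rw [← Module.End.mul_apply, hY]; rfl

theorem IsFree.injective [Nontrivial V] (h : IsFree ρ) : Function.Injective ρ := by
  intro g k hgk
  by_contra hne
  have : (ρ g - ρ k) * 1 = 0 := by rw [hgk, sub_self, zero_mul]
  exact one_ne_zero (h.eq_zero_of_sub_mul hne this)

/-- elements of order three act as cubic elements -/
theorem IsFree.cubic (h : IsFree ρ) {a : G} (ha : orderOf a = 3) :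
    ρ a * ρ a = -ρ a - 1 := by
  have ha1 : a ≠ 1 := by
    intro h1; rw [h1, orderOf_one] at ha; omega
  have h3 : ρ a * ρ a * ρ a = 1 := by
    rw [← map_mul, ← map_mul, ← pow_three', ← ha, pow_orderOf_eq_one, map_one]
  have : (ρ a - ρ 1) * (ρ a * ρ a + ρ a + 1) = 0 := by
    rw [map_one]
    calc (ρ a - 1) * (ρ a * ρ a + ρ a + 1) = ρ a * ρ a * ρ a - 1 := by noncomm_ring
      _ = 0 := by rw [h3, sub_self]
  have := h.eq_zero_of_sub_mul ha1 this
  rw [eq_sub_iff_add_eq, eq_neg_iff_add_eq_zero, add_right_comm]; exact this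

/-- involutions act as `-1` -/
theorem IsFree.neg_one (h : IsFree ρ) {z : G} (hz : z ≠ 1) (hz2 : z * z = 1) : ρ z = -1 := by
  have : (ρ z - ρ 1) * (ρ z + 1) = 0 := by
    rw [map_one]
    calc (ρ z - 1) * (ρ z + 1) = ρ z * ρ z - 1 := by noncomm_ring
      _ = 0 := by rw [← map_mul, hz2, map_one, sub_self]
  exact eq_neg_of_add_eq_zero_left (h.eq_zero_of_sub_mul hz this)

theorem IsFree.involution_unique [Nontrivial V] (h : IsFree ρ) {z g : G} (hz : z ≠ 1)
    (hz2 : z * z = 1) (hg2 : g * g = 1) : g = 1 ∨ g = z := by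
  by_cases hg : g = 1
  · exact Or.inl hg
  · right
    apply h.injective
    rw [h.neg_one hz hz2, h.neg_one hg hg2]

theorem IsFree.involution_central [Nontrivial V] (h : IsFree ρ) {z : G} (hz : z ≠ 1)
    (hz2 : z * z = 1) (g : G) : z * g = g * z := by
  apply h.injective
  rw [map_mul, map_mul, h.neg_one hz hz2]; noncomm_ring

theorem IsFree.two_ne_zero [Nontrivial V] (h : IsFree ρ) {z : G} (hz : z ≠ 1)
    (hz2 : z * z = 1) : (2 : F) ≠ 0 := by
  intro h2
  apply hz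
  apply h.injective
  rw [h.neg_one hz hz2, map_one]
  have : (2 : F) • (1 : Module.End F V) = 0 := by rw [h2, zero_smul]
  rw [two_smul] at this
  exact neg_eq_of_add_eq_zero_left this

/-- the image of the inverse of an element of order three -/
theorem IsFree.map_inv_cubic (h : IsFree ρ) {a : G} (ha : orderOf a = 3) :
    ρ a⁻¹ = -1 - ρ a := by
  have h1 : a⁻¹ = a * a := by
    rw [inv_eq_iff_mul_eq_one, ← pow_three, ← ha, pow_orderOf_eq_one]
  rw [h1, map_mul, h.cubic ha]; abel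

/-- `s a b` is the image of `ab + (ab)⁻¹`. -/
theorem IsFree.s_eq (h : IsFree ρ) {a b : G} (ha : orderOf a = 3) (hb : orderOf b = 3) :
    ρ a * ρ b + ρ b * ρ a + ρ a + ρ b + 1 = ρ (a * b) + ρ (a * b)⁻¹ := by
  rw [mul_inv_rev, map_mul, map_mul, h.map_inv_cubic ha, h.map_inv_cubic hb]
  noncomm_ring

end free


section relations
variable {F : Type*} [Field F] {G : Type*} [Group G] {V : Type*} [AddCommGroup V] [Module F V]
  {ρ : G →* Module.End F V}

theorem IsFree.s_of_opp (h : IsFree ρ) {z a b : G} (hz : z ≠ 1) (hz2 : z * z = 1)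
    (ha : orderOf a = 3) (hb : orderOf b = 3) (hab : Opp z a b) :
    ρ a * ρ b + ρ b * ρ a + ρ a + ρ b + 1 = 0 := by
  rw [h.s_eq ha hb]
  have h1 : ρ (a * b) * ρ (a * b) = -1 := by
    rw [← map_mul, ← pow_two, hab, h.neg_one hz hz2]
  have h2 : ρ (a * b) * ρ (a * b)⁻¹ = 1 := by rw [← map_mul, mul_inv_cancel, map_one]
  have h3 : ρ (a * b) = -ρ (a * b)⁻¹ := by
    calc ρ (a * b) = ρ (a * b) * (ρ (a * b) * ρ (a * b)⁻¹) := by rw [h2, mul_one]
      _ = (ρ (a * b) * ρ (a * b)) * ρ (a * b)⁻¹ := by rw [mul_assoc]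
      _ = -ρ (a * b)⁻¹ := by rw [h1]; noncomm_ring
  rw [h3]; abel

theorem IsFree.s_of_same [Nontrivial V] (h : IsFree ρ) {z a b : G} (hz : z ≠ 1) (hz2 : z * z = 1)
    (ha : orderOf a = 3) (hb : orderOf b = 3) (hab : (a * b) ^ 3 = z) :
    ρ a * ρ b + ρ b * ρ a + ρ a + ρ b + 1 = 1 := by
  rw [h.s_eq ha hb]
  have hne : a * b ≠ z := by
    intro h1
    have hb' : b = a⁻¹ * z := by rw [← h1]; group
    have hzc := h.involution_central hz hz2
    have : b ^ 3 = z := by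
      have e1 : (a⁻¹) ^ 3 = 1 := by rw [inv_pow, ← ha, pow_orderOf_eq_one, inv_one]
      have e2 : z ^ 3 = z := by rw [pow_three, hz2, mul_one]
      rw [hb', (show Commute a⁻¹ z from (hzc a⁻¹).symm).mul_pow, e1, e2, one_mul]
    rw [← hb, pow_orderOf_eq_one] at this
    exact hz this.symm
  have h2 : ρ (a * b) * ρ (a * b)⁻¹ = 1 := by rw [← map_mul, mul_inv_cancel, map_one]
  have h1 : (ρ (a * b) - ρ z) * (ρ (a * b) * ρ (a * b) - ρ (a * b) + 1) = 0 := by
    rw [h.neg_one hz hz2]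
    calc (ρ (a * b) - -1) * (ρ (a * b) * ρ (a * b) - ρ (a * b) + 1)
        = ρ (a * b) * ρ (a * b) * ρ (a * b) + 1 := by noncomm_ring
      _ = 0 := by
        rw [← map_mul, ← map_mul, ← pow_three', hab, h.neg_one hz hz2]; abel
  have h3 := h.eq_zero_of_sub_mul hne h1
  have h4 : (ρ (a * b) * ρ (a * b) - ρ (a * b) + 1) * ρ (a * b)⁻¹ = 0 := by rw [h3, zero_mul]
  have h5 : (ρ (a * b) * ρ (a * b) - ρ (a * b) + 1) * ρ (a * b)⁻¹
      = ρ (a * b) + ρ (a * b)⁻¹ - 1 := by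
    calc (ρ (a * b) * ρ (a * b) - ρ (a * b) + 1) * ρ (a * b)⁻¹
        = ρ (a * b) * (ρ (a * b) * ρ (a * b)⁻¹) - ρ (a * b) * ρ (a * b)⁻¹ + ρ (a * b)⁻¹ := by
          noncomm_ring
      _ = ρ (a * b) + ρ (a * b)⁻¹ - 1 := by rw [h2]; noncomm_ring
  rw [h5] at h4
  exact sub_eq_zero.mp h4

/-- **Ax5**: `(ab)³ = 1` for `a, b` of order three forces `b ∈ {a, a⁻¹}`. -/
theorem IsFree.cube_one [Nontrivial V] (h : IsFree ρ) {a b : G}
    (ha : orderOf a = 3) (hb : orderOf b = 3) (hab : (a * b) ^ 3 = 1) : b = a ∨ b = a⁻¹ := by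
  by_cases h1 : a * b = 1
  · right; exact (eq_inv_of_mul_eq_one_right h1)
  left
  have h2 : ρ (a * b) * ρ (a * b)⁻¹ = 1 := by rw [← map_mul, mul_inv_cancel, map_one]
  have h3 : (ρ (a * b) - ρ 1) * (ρ (a * b) * ρ (a * b) + ρ (a * b) + 1) = 0 := by
    rw [map_one]
    calc (ρ (a * b) - 1) * (ρ (a * b) * ρ (a * b) + ρ (a * b) + 1)
        = ρ (a * b) * ρ (a * b) * ρ (a * b) - 1 := by noncomm_ring
      _ = 0 := by rw [← map_mul, ← map_mul, ← pow_three', hab, map_one, sub_self]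
  have h4 := h.eq_zero_of_sub_mul h1 h3
  have h5 : ρ (a * b) + ρ (a * b)⁻¹ = -1 := by
    have : (ρ (a * b) * ρ (a * b) + ρ (a * b) + 1) * ρ (a * b)⁻¹
        = ρ (a * b) + ρ (a * b)⁻¹ + 1 := by
      calc (ρ (a * b) * ρ (a * b) + ρ (a * b) + 1) * ρ (a * b)⁻¹
          = ρ (a * b) * (ρ (a * b) * ρ (a * b)⁻¹) + ρ (a * b) * ρ (a * b)⁻¹ + ρ (a * b)⁻¹ := by
            noncomm_ring
        _ = ρ (a * b) + ρ (a * b)⁻¹ + 1 := by rw [h2]; noncomm_ring
    rw [h4, zero_mul] at this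
    exact eq_neg_of_add_eq_zero_left this.symm
  have h6 := sub_sq_eq_zero (h.cubic ha) (h.cubic hb) ((h.s_eq ha hb).trans h5)
  by_contra hne
  have h7 := h.eq_zero_of_sub_mul (Ne.symm hne) h6
  exact hne (h.injective (sub_eq_zero.mp h7)).symm

/-- **Ax1**: commuting elements of order three generate the same subgroup. -/
theorem IsFree.comm_three [Nontrivial V] (h : IsFree ρ) {a b : G}
    (ha : orderOf a = 3) (hb : orderOf b = 3) (hab : a * b = b * a) : b = a ∨ b = a⁻¹ := by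
  apply h.cube_one ha hb
  rw [(show Commute a b from hab).mul_pow, ← ha, pow_orderOf_eq_one, ha, ← hb, pow_orderOf_eq_one,
    one_mul]

theorem IsFree.rel_of_opp (h : IsFree ρ) {z a b : G} (hz : z ≠ 1) (hz2 : z * z = 1)
    (ha : orderOf a = 3) (hb : orderOf b = 3) (hab : Opp z a b) :
    ρ b * ρ a = -(ρ a * ρ b) - ρ a - ρ b - 1 := by
  have := h.s_of_opp hz hz2 ha hb hab
  have e : ρ b * ρ a = (ρ a * ρ b + ρ b * ρ a + ρ a + ρ b + 1) - ρ a * ρ b - ρ a - ρ b - 1 := by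
    abel
  rw [e, this]; abel

/-- `(ab)³ = z` implies `(ab⁻¹)² = z`. -/
theorem IsFree.opp_inv_of_same [Nontrivial V] (h : IsFree ρ) {z a b : G} (hz : z ≠ 1)
    (hz2 : z * z = 1) (ha : orderOf a = 3) (hb : orderOf b = 3) (hab : (a * b) ^ 3 = z) :
    Opp z a b⁻¹ := by
  have hb' : orderOf b⁻¹ = 3 := by rw [orderOf_inv]; exact hb
  have h1 := h.s_of_same hz hz2 ha hb hab
  have h2 := h.s_eq ha hb'
  rw [h.map_inv_cubic hb] at h2
  have h3 : ρ (a * b⁻¹) + ρ (a * b⁻¹)⁻¹ = 0 := by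
    rw [← h2]
    have := s_add_s_inv (a := ρ a) (b := ρ b)
    rw [h1] at this
    exact add_left_cancel (a := (1 : Module.End F V)) (by rw [add_zero]; exact this)
  have h4 : ρ (a * b⁻¹) * ρ (a * b⁻¹)⁻¹ = 1 := by rw [← map_mul, mul_inv_cancel, map_one]
  have h5 : ρ (a * b⁻¹) * ρ (a * b⁻¹) = -1 := by
    have : ρ (a * b⁻¹) * (ρ (a * b⁻¹) + ρ (a * b⁻¹)⁻¹) = 0 := by rw [h3, mul_zero]
    rw [mul_add, h4] at this
    exact eq_neg_of_add_eq_zero_left this
  unfold Opp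
  apply h.injective
  rw [pow_two, map_mul, h5, h.neg_one hz hz2]

/-- **Lemma C**: no four pairwise opposite elements of order three. -/
theorem IsFree.no_four [Nontrivial V] (h : IsFree ρ) {z a b c d : G} (hz : z ≠ 1)
    (hz2 : z * z = 1) (ha : orderOf a = 3) (hb : orderOf b = 3) (hc : orderOf c = 3)
    (hd : orderOf d = 3) (hab : Opp z a b) (hac : Opp z a c) (had : Opp z a d)
    (hbc : Opp z b c) (hbd : Opp z b d) (hcd : Opp z c d) : False := by
  have ca := h.cubic ha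
  have cb := h.cubic hb
  have cc := h.cubic hc
  have cd := h.cubic hd
  have hba := h.rel_of_opp hz hz2 ha hb hab
  have hca := h.rel_of_opp hz hz2 ha hc hac
  have hda := h.rel_of_opp hz hz2 ha hd had
  have hcb := h.rel_of_opp hz hz2 hb hc hbc
  have hdb := h.rel_of_opp hz hz2 hb hd hbd
  have hdc := h.rel_of_opp hz hz2 hc hd hcd
  obtain ⟨w, hw⟩ : ∃ w : G, w = b * c⁻¹ * d * b⁻¹ := ⟨_, rfl⟩
  obtain ⟨W, hW⟩ : ∃ W : Module.End F V, W = -(ρ c * ρ d) - ρ c - ρ b * ρ c + ρ b * ρ d := ⟨_, rfl⟩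
  have hρw : ρ w = W := by
    rw [hw, map_mul, map_mul, map_mul, h.map_inv_cubic hc, h.map_inv_cubic hb, hW]
    exact lemC_w cb cc cd hcb hdb hdc
  have hcomm : ρ a * W = W * ρ a := by
    rw [hW]; exact lemC_comm ca cb cc cd hba hca hda hcb hdb hdc
  have hWW : W * W = W - 1 := by rw [hW]; exact lemC_sq cb cc cd hcb hdb hdc
  have hY : (W - 1) * (W - 1) = -(W - 1) - 1 := by
    calc (W - 1) * (W - 1) = W * W - W - W + 1 := by noncomm_ring
      _ = -(W - 1) - 1 := by rw [hWW]; abel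
  have hρww : ρ (w * w) = W - 1 := by rw [map_mul, hρw, hWW]
  have hcomm' : ρ a * (W - 1) = (W - 1) * ρ a := by
    rw [mul_sub, sub_mul, hcomm, mul_one, one_mul]
  have key := comm_cub ca hY hcomm'
  have hdich : ρ a = W - 1 ∨ ρ a = -W := by
    by_cases hne : a = w * w
    · left; rw [hne, hρww]
    · right
      rw [← hρww] at key
      have := h.eq_zero_of_sub_mul hne key
      rw [sub_eq_zero] at this
      rw [this, hρww]; abel
  rw [hW] at hdich
  exact one_ne_zero (lemC_false cb cc cd hba hcb hdb hdc hdich)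

end relations

end Cfsg.Agent.Lib.Helper17.Zs
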