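import Mathlib
import Cfsg.Agent.Lib.Helper17.ZsFree

set_option autoImplicit false

namespace Cfsg.Agent.Lib.Helper17.Zs

open TensorProduct

section base
variable {k : Type*} [Field k] (A : Type*) [Field A] [Algebra k A]
  {G : Type*} [Group G] {V₀ : Type*} [AddCommGroup V₀] [Module k V₀]

/-- base change of a representation -/
noncomputable def baseRep (ρ₀ : G →* Module.End k V₀) : G →* Module.End A (A ⊗[k] V₀) where
  toFun g := (ρ₀ g).baseChange A
  map_one' := by rw [map_one]; exact LinearMap.baseChange_id (R := k) (A := A) (M := V₀)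
  map_mul' := by
    intro x y
    rw [map_mul]
    exact LinearMap.baseChange_comp (R := k) (A := A) (ρ₀ y) (ρ₀ x)

theorem IsFree.baseRep {ρ₀ : G →* Module.End k V₀} (h : IsFree ρ₀) : IsFree (baseRep A ρ₀) := by
  intro g hg v hv
  have hinj : Function.Injective ⇑(ρ₀ g - (1 : Module.End k V₀)) := by
    rw [← LinearMap.ker_eq_bot, LinearMap.ker_eq_bot']
    intro w hw
    apply h g hg
    rw [LinearMap.sub_apply, sub_eq_zero] at hw
    exact hw
  have hinj' : Function.Injective ⇑((ρ₀ g - (1 : Module.End k V₀)).lTensor A) :=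
    Module.Flat.lTensor_preserves_injective_linearMap _ hinj
  apply hinj'
  rw [map_zero]
  have : ((ρ₀ g - (1 : Module.End k V₀)).lTensor A) v = ((ρ₀ g - (1 : Module.End k V₀)).baseChange A) v := rfl
  rw [this, LinearMap.baseChange_sub, LinearMap.sub_apply]
  have h1 : ((1 : Module.End k V₀).baseChange A) v = v := by
    have := LinearMap.baseChange_id (R := k) (A := A) (M := V₀)
    rw [show (1 : Module.End k V₀) = LinearMap.id from rfl, this]; rfl
  rw [h1, sub_eq_zero]
  exact hv

end base

end Cfsg.Agent.Lib.Helper17.Zs
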