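import Mathlib
import Cfsg.Agent.Lib.Helper17.ZsFree

set_option autoImplicit false

namespace Cfsg.Agent.Lib.Helper17.Zs

section irr
variable {F : Type*} [Field F] {G : Type*} [Group G] {V : Type*} [AddCommGroup V] [Module F V]

/-- invariant submodule -/
def IsInv (ρ : G →* Module.End F V) (U : Submodule F V) : Prop := ∀ g : G, ∀ u ∈ U, ρ g u ∈ U

/-- irreducible representation -/
def IsIrr (ρ : G →* Module.End F V) : Prop := ∀ W : Submodule F V, IsInv ρ W → W = ⊥ ∨ W = ⊤

/-- restriction to an invariant submodule -/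
def subRep (ρ : G →* Module.End F V) (U : Submodule F V) (hU : IsInv ρ U) :
    G →* Module.End F U where
  toFun g := (ρ g).restrict (hU g)
  map_one' := by ext u; simp
  map_mul' := by intro g k; ext u; simp

@[simp] theorem subRep_apply (ρ : G →* Module.End F V) (U : Submodule F V) (hU : IsInv ρ U)
    (g : G) (u : U) : ((subRep ρ U hU g) u : V) = ρ g u := rfl

theorem IsFree.subRep {ρ : G →* Module.End F V} (h : IsFree ρ) (U : Submodule F V)
    (hU : IsInv ρ U) : IsFree (subRep ρ U hU) := by
  intro g hg u hu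
  have := h g hg (u : V) (by rw [← subRep_apply ρ U hU, hu])
  exact Subtype.ext this

theorem exists_irr_sub [FiniteDimensional F V] [Nontrivial V] (ρ : G →* Module.End F V) :
    ∃ (U : Submodule F V) (hU : IsInv ρ U), U ≠ ⊥ ∧ IsIrr (subRep ρ U hU) := by
  have hne : {U : Submodule F V | U ≠ ⊥ ∧ IsInv ρ U}.Nonempty :=
    ⟨⊤, top_ne_bot, fun g u _ => Submodule.mem_top⟩
  obtain ⟨U, ⟨hU0, hU⟩, hmin⟩ := WellFounded.has_min
    (wellFounded_lt : WellFounded ((· < ·) : Submodule F V → Submodule F V → Prop)) _ hne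
  refine ⟨U, hU, hU0, ?_⟩
  intro W hW
  by_cases hW0 : W = ⊥
  · exact Or.inl hW0
  right
  have hW' : IsInv ρ (W.map U.subtype) := by
    intro g v hv
    obtain ⟨u, hu, rfl⟩ := Submodule.mem_map.mp hv
    exact Submodule.mem_map.mpr ⟨subRep ρ U hU g u, hW g u hu, rfl⟩
  have hne' : W.map U.subtype ≠ ⊥ := by
    intro h0
    apply hW0
    rw [eq_bot_iff]
    intro u hu
    have : (u : V) ∈ W.map U.subtype := Submodule.mem_map.mpr ⟨u, hu, rfl⟩
    rw [h0, Submodule.mem_bot] at this
    rw [Submodule.mem_bot]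
    exact Subtype.ext this
  have hle : W.map U.subtype ≤ U := Submodule.map_subtype_le U W
  have heq : W.map U.subtype = U := by
    by_contra hneq
    exact hmin _ ⟨hne', hW'⟩ (lt_of_le_of_ne hle hneq)
  rw [eq_top_iff]
  intro u _
  have : (u : V) ∈ W.map U.subtype := by rw [heq]; exact u.2
  obtain ⟨u', hu', h1⟩ := Submodule.mem_map.mp this
  have : u' = u := Subtype.ext h1
  rw [← this]; exact hu'

/-- **Schur's lemma** over an algebraically closed field. -/
theorem IsIrr.schur [IsAlgClosed F] [FiniteDimensional F V] [Nontrivial V]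
    {ρ : G →* Module.End F V} (h : IsIrr ρ) (T : Module.End F V)
    (hT : ∀ g, Commute T (ρ g)) : ∃ κ : F, T = algebraMap F (Module.End F V) κ := by
  obtain ⟨κ, hκ⟩ := Module.End.exists_eigenvalue T
  refine ⟨κ, ?_⟩
  have hinv : IsInv ρ (Module.End.eigenspace T κ) := by
    intro g u hu
    rw [Module.End.mem_eigenspace_iff] at hu ⊢
    have := (hT g).eq
    calc T (ρ g u) = (T * ρ g) u := rfl
      _ = (ρ g * T) u := by rw [this]
      _ = ρ g (T u) := rfl
      _ = κ • ρ g u := by rw [hu, map_smul]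
  rcases h _ hinv with h0 | h1
  · exact (hκ h0).elim
  · ext v
    have : v ∈ Module.End.eigenspace T κ := by rw [h1]; exact Submodule.mem_top
    rw [Module.End.mem_eigenspace_iff] at this
    rw [this, Module.algebraMap_end_apply]

end irr


section dim
variable {F : Type*} [Field F] {G : Type*} [Group G] {V : Type*} [AddCommGroup V] [Module F V]

theorem commute_map_inv (ρ : G →* Module.End F V) (T : Module.End F V) (g : G)
    (h : Commute T (ρ g)) : Commute T (ρ g⁻¹) := by
  have h1 : ρ g⁻¹ * ρ g = 1 := by rw [← map_mul, inv_mul_cancel, map_one]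
  have h2 : ρ g * ρ g⁻¹ = 1 := by rw [← map_mul, mul_inv_cancel, map_one]
  change T * ρ g⁻¹ = ρ g⁻¹ * T
  calc T * ρ g⁻¹ = (ρ g⁻¹ * ρ g) * T * ρ g⁻¹ := by rw [h1, one_mul]
    _ = ρ g⁻¹ * (ρ g * T) * ρ g⁻¹ := by noncomm_ring
    _ = ρ g⁻¹ * (T * ρ g) * ρ g⁻¹ := by rw [h.eq]
    _ = ρ g⁻¹ * T * (ρ g * ρ g⁻¹) := by noncomm_ring
    _ = ρ g⁻¹ * T := by rw [h2, mul_one]

theorem commute_of_closure (ρ : G →* Module.End F V) (T : Module.End F V) (S : Set G)
    (hS : Subgroup.closure S = ⊤) (h : ∀ s ∈ S, Commute T (ρ s)) (g : G) : Commute T (ρ g) := by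
  have hg : g ∈ Subgroup.closure S := by rw [hS]; exact Subgroup.mem_top g
  induction hg using Subgroup.closure_induction with
  | mem x hx => exact h x hx
  | one => rw [map_one]; exact Commute.one_right T
  | mul x y _ _ hx hy => rw [map_mul]; exact hx.mul_right hy
  | inv x _ hx => exact commute_map_inv ρ T x hx

theorem isInv_of_closure [Finite G] (ρ : G →* Module.End F V) (W : Submodule F V) (S : Set G)
    (hS : Subgroup.closure S = ⊤) (h : ∀ s ∈ S, ∀ w ∈ W, ρ s w ∈ W) : IsInv ρ W := by
  have hpow : ∀ (g : G), (∀ w ∈ W, ρ g w ∈ W) → ∀ n : ℕ, ∀ w ∈ W, ρ (g ^ n) w ∈ W := by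
    intro g hg n
    induction n with
    | zero => intro w hw; rw [pow_zero, map_one]; exact hw
    | succ n ih =>
      intro w hw
      rw [pow_succ, map_mul]
      exact ih _ (hg w hw)
  intro g
  have hg : g ∈ Subgroup.closure S := by rw [hS]; exact Subgroup.mem_top g
  induction hg using Subgroup.closure_induction with
  | mem x hx => exact h x hx
  | one => intro w hw; rw [map_one]; exact hw
  | mul x y _ _ hx hy => intro w hw; rw [map_mul]; exact hx _ (hy w hw)
  | inv x _ hx =>
    have hx1 : x⁻¹ = x ^ (Nat.card G - 1) := by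
      symm
      apply eq_inv_of_mul_eq_one_right
      rw [← pow_succ', Nat.sub_add_cancel Nat.card_pos, pow_card_eq_one']
    rw [hx1]
    exact hpow x hx _

theorem finrank_le_two [IsAlgClosed F] [FiniteDimensional F V] [Nontrivial V] [Finite G]
    {ρ : G →* Module.End F V} (hirr : IsIrr ρ) (S : Set G) (hS : Subgroup.closure S = ⊤)
    (a b : G) (ha : ρ a * ρ a = -ρ a - 1) (hb : ρ b * ρ b = -ρ b - 1)
    (hspan : ∀ s ∈ S, ρ s ∈ Submodule.span F ({1, ρ a, ρ b, ρ a * ρ b} : Set (Module.End F V))) :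
    Module.finrank F V ≤ 2 := by
  obtain ⟨t, ht⟩ : ∃ t : Module.End F V, t = ρ a * ρ b + ρ b * ρ a + ρ a + ρ b := ⟨_, rfl⟩
  have hta : Commute t (ρ a) := by rw [ht]; exact (t_comm_left ha).symm
  have htb : Commute t (ρ b) := by rw [ht]; exact (t_comm_right hb).symm
  have htS : ∀ s ∈ S, Commute t (ρ s) := by
    intro s hs
    refine Submodule.span_induction (p := fun X _ => Commute t X) ?_ ?_ ?_ ?_ (hspan s hs)
    · intro X hX
      simp only [Set.mem_insert_iff, Set.mem_singleton_iff] at hX
      rcases hX with rfl | rfl | rfl | rfl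
      · exact Commute.one_right t
      · exact hta
      · exact htb
      · exact hta.mul_right htb
    · exact Commute.zero_right t
    · intro X Y _ _ hX hY; exact hX.add_right hY
    · intro c X _ hX; exact hX.smul_right c
  obtain ⟨τ, hτ⟩ := hirr.schur t (commute_of_closure ρ t S hS htS)
  obtain ⟨ω, hω⟩ := Module.End.exists_eigenvalue (ρ a)
  obtain ⟨u, hu⟩ := hω.exists_hasEigenvector
  have hu0 : u ≠ 0 := hu.2
  have hau : ρ a u = ω • u := hu.apply_eq_smul
  obtain ⟨W, hW⟩ : ∃ W : Submodule F V, W = Submodule.span F {u, ρ b u} := ⟨_, rfl⟩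
  have huW : u ∈ W := by rw [hW]; exact Submodule.subset_span (by simp)
  have hbuW : ρ b u ∈ W := by rw [hW]; exact Submodule.subset_span (by simp)
  have hgen : ∀ X : Module.End F V, X u ∈ W → X (ρ b u) ∈ W → ∀ w ∈ W, X w ∈ W := by
    intro X h1 h2 w hw
    rw [hW] at hw
    refine Submodule.span_induction (p := fun w _ => X w ∈ W) ?_ ?_ ?_ ?_ hw
    · intro x hx
      simp only [Set.mem_insert_iff, Set.mem_singleton_iff] at hx
      rcases hx with rfl | rfl
      · exact h1
      · exact h2
    · rw [map_zero]; exact W.zero_mem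
    · intro x y _ _ hx hy; rw [map_add]; exact W.add_mem hx hy
    · intro c x _ hx; rw [map_smul]; exact W.smul_mem c hx
  have hPa : ∀ w ∈ W, ρ a w ∈ W := by
    apply hgen
    · rw [hau]; exact W.smul_mem _ huW
    · have e : ρ a (ρ b u) = (t - ρ b * ρ a - ρ a - ρ b) u := by
        rw [ht]
        have : ρ a * ρ b + ρ b * ρ a + ρ a + ρ b - ρ b * ρ a - ρ a - ρ b = ρ a * ρ b := by abel
        rw [this]; rfl
      rw [e, hτ]
      simp only [LinearMap.sub_apply, Module.algebraMap_end_apply, Module.End.mul_apply, hau,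
        map_smul]
      exact W.sub_mem (W.sub_mem (W.sub_mem (W.smul_mem _ huW) (W.smul_mem _ hbuW))
        (W.smul_mem _ huW)) hbuW
  have hPb : ∀ w ∈ W, ρ b w ∈ W := by
    apply hgen
    · exact hbuW
    · have e : ρ b (ρ b u) = (ρ b * ρ b) u := rfl
      rw [e, hb]
      simp only [LinearMap.sub_apply, LinearMap.neg_apply, Module.End.one_apply]
      exact W.sub_mem (W.neg_mem hbuW) huW
  have hPS : ∀ s ∈ S, ∀ w ∈ W, ρ s w ∈ W := by
    intro s hs
    refine Submodule.span_induction (p := fun X _ => ∀ w ∈ W, X w ∈ W) ?_ ?_ ?_ ?_ (hspan s hs)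
    · intro X hX
      simp only [Set.mem_insert_iff, Set.mem_singleton_iff] at hX
      rcases hX with rfl | rfl | rfl | rfl
      · intro w hw; exact hw
      · exact hPa
      · exact hPb
      · intro w hw; exact hPa _ (hPb w hw)
    · intro w _; rw [LinearMap.zero_apply]; exact W.zero_mem
    · intro X Y _ _ hX hY w hw; rw [LinearMap.add_apply]; exact W.add_mem (hX w hw) (hY w hw)
    · intro c X _ hX w hw; rw [LinearMap.smul_apply]; exact W.smul_mem c (hX w hw)
  have hinv : IsInv ρ W := isInv_of_closure ρ W S hS hPS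
  have htop : W = ⊤ := by
    rcases hirr W hinv with h0 | h1
    · exfalso; apply hu0
      rw [h0, Submodule.mem_bot] at huW; exact huW
    · exact h1
  classical
  have h2 : Module.finrank F W ≤ 2 := by
    have e : (W : Submodule F V) = Submodule.span F (({u, ρ b u} : Finset V) : Set V) := by
      rw [hW]; congr 1; simp
    rw [e]
    exact (finrank_span_finset_le_card _).trans Finset.card_le_two
  rw [htop, finrank_top] at h2
  exact h2

end dim

end Cfsg.Agent.Lib.Helper17.Zs
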