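import Mathlib
import Cfsg.Agent.Lib.Helper17.ZsIrr
import Cfsg.Agent.Lib.Helper13.DkEmb

set_option autoImplicit false

namespace Cfsg.Agent.Lib.Helper17.Zs

open Matrix Cfsg.Agent.Lib.Helper13.Dk

section mat
variable {F : Type*} [Field F]

theorem cayley_hamilton_two (X : Matrix (Fin 2) (Fin 2) F) :
    X * X = X.trace • X - X.det • (1 : Matrix (Fin 2) (Fin 2) F) := by
  ext i j
  fin_cases i <;> fin_cases j <;>
    simp [Matrix.mul_apply, Fin.sum_univ_two, Matrix.trace_fin_two, Matrix.det_fin_two] <;> ring

theorem det_eq_one_of_cubic (X : Matrix (Fin 2) (Fin 2) F) (hX : X * X = -X - 1)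
    (hsc : ¬ Emb.sc X) : X.det = 1 := by
  have h00 := congrFun (congrFun hX 0) 0
  have h01 := congrFun (congrFun hX 0) 1
  have h10 := congrFun (congrFun hX 1) 0
  have h11 := congrFun (congrFun hX 1) 1
  simp [Matrix.mul_apply, Fin.sum_univ_two] at h00 h01 h10 h11
  have key : X 0 0 + X 1 1 + 1 = 0 := by
    by_contra hne
    apply hsc
    have e01 : X 0 1 * (X 0 0 + X 1 1 + 1) = 0 := by linear_combination h01
    have e10 : X 1 0 * (X 0 0 + X 1 1 + 1) = 0 := by linear_combination h10
    have e : (X 0 0 - X 1 1) * (X 0 0 + X 1 1 + 1) = 0 := by linear_combination h00 - h11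
    refine ⟨?_, ?_, ?_⟩
    · exact (mul_eq_zero.mp e01).resolve_right hne
    · exact (mul_eq_zero.mp e10).resolve_right hne
    · exact sub_eq_zero.mp ((mul_eq_zero.mp e).resolve_right hne)
  rw [Matrix.det_fin_two]
  linear_combination (-1 : F) * h00 + X 0 0 * key

end mat


section emb
variable {F : Type*} [Field F] {G : Type*} [Group G] {V : Type*} [AddCommGroup V] [Module F V]

theorem comm_of_finrank_one (h : Module.finrank F V = 1) (X Y : Module.End F V) :
    X * Y = Y * X := by
  obtain ⟨v, -, hv⟩ := finrank_eq_one_iff'.mp h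
  obtain ⟨α, hα⟩ := hv (X v)
  obtain ⟨β, hβ⟩ := hv (Y v)
  ext w
  obtain ⟨c, rfl⟩ := hv w
  simp only [Module.End.mul_apply, map_smul, ← hα, ← hβ]
  rw [smul_comm α β]

theorem sc_eq_smul {X : Matrix (Fin 2) (Fin 2) F} (h : Emb.sc X) :
    X = (X 0 0) • (1 : Matrix (Fin 2) (Fin 2) F) := by
  obtain ⟨h01, h10, h11⟩ := h
  ext i j
  fin_cases i <;> fin_cases j <;> simp [h01, h10, ← h11]

theorem abelian_or_emb [FiniteDimensional F V] [Nontrivial V] {ρ : G →* Module.End F V}
    (hfree : IsFree ρ) (hdim : Module.finrank F V ≤ 2) (S : Set G)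
    (hS : Subgroup.closure S = ⊤) (hS3 : ∀ s ∈ S, orderOf s = 3) :
    (∀ x y : G, x * y = y * x) ∨
      ∃ E : Emb F G, ∀ y : G, ¬ Emb.sc (E.m y) → E.tr y ^ 2 ≠ 4 := by
  have hpos : 0 < Module.finrank F V := Module.finrank_pos
  have hinj := hfree.injective
  rcases (show Module.finrank F V = 1 ∨ Module.finrank F V = 2 by omega) with h1 | h2
  · left
    intro x y
    apply hinj
    rw [map_mul, map_mul]
    exact comm_of_finrank_one h1 _ _
  obtain ⟨Φ, hΦ⟩ : ∃ Φ : Module.End F V ≃ₐ[F] Matrix (Fin 2) (Fin 2) F, Φ = Φ :=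
    ⟨LinearMap.toMatrixAlgEquiv (Module.finBasisOfFinrankEq F V h2), rfl⟩
  by_cases hall : ∀ s ∈ S, ¬ Emb.sc (Φ (ρ s))
  · right
    have hdet : ∀ g : G, (Φ (ρ g)).det = 1 := by
      let H : Subgroup G :=
        { carrier := {g | (Φ (ρ g)).det = 1}
          mul_mem' := by
            intro x y hx hy
            simp only [Set.mem_ofPred_eq] at hx hy ⊢
            rw [map_mul, map_mul, Matrix.det_mul, hx, hy, one_mul]
          one_mem' := by simp
          inv_mem' := by
            intro x hx
            simp only [Set.mem_ofPred_eq] at hx ⊢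
            have : (Φ (ρ x⁻¹)).det * (Φ (ρ x)).det = 1 := by
              rw [← Matrix.det_mul, ← map_mul, ← map_mul, inv_mul_cancel, map_one, map_one,
                Matrix.det_one]
            rw [hx, mul_one] at this
            exact this }
      have hSH : S ⊆ H := by
        intro s hs
        change (Φ (ρ s)).det = 1
        apply det_eq_one_of_cubic _ _ (hall s hs)
        rw [← map_mul, hfree.cubic (hS3 s hs), map_sub, map_neg, map_one]
      have : Subgroup.closure S ≤ H := (Subgroup.closure_le H).mpr hSH
      rw [hS] at this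
      exact fun g => this (Subgroup.mem_top g)
    let φ : G →* SpecialLinearGroup (Fin 2) F :=
      { toFun := fun g => (⟨Φ (ρ g), hdet g⟩ : SpecialLinearGroup (Fin 2) F)
        map_one' := by
          apply Subtype.ext
          change Φ (ρ 1) = 1
          rw [map_one, map_one]
        map_mul' := by
          intro x y
          apply Subtype.ext
          change Φ (ρ (x * y)) = Φ (ρ x) * Φ (ρ y)
          rw [map_mul, map_mul] }
    have hφ : Function.Injective φ := by
      intro x y hxy
      apply hinj
      apply Φ.injective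
      exact congrArg Subtype.val hxy
    refine ⟨⟨φ, hφ⟩, ?_⟩
    intro g hsc htr
    apply hsc
    have hm : (⟨φ, hφ⟩ : Emb F G).m g = Φ (ρ g) := rfl
    rw [Emb.tr, hm] at htr
    rw [hm]
    obtain ⟨X, hX⟩ : ∃ X, X = Φ (ρ g) := ⟨_, rfl⟩
    rw [← hX] at htr ⊢
    have hXdet : X.det = 1 := by rw [hX]; exact hdet g
    have hCH := cayley_hamilton_two X
    rw [hXdet, one_smul] at hCH
    -- first case as a lemma
    have case1 : X.trace = 2 → Emb.sc X := by
      intro ht
      rw [ht] at hCH
      have h0 : (X - 1) * (X - 1) = 0 := by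
        calc (X - 1) * (X - 1) = X * X - (2 : F) • X + 1 := by rw [two_smul]; noncomm_ring
          _ = 0 := by rw [hCH]; abel
      have h0' : (ρ g - ρ 1) * (ρ g - 1) = 0 := by
        apply Φ.injective
        rw [map_one, map_mul, map_sub, map_one, ← hX, h0, map_zero]
      have hg1 : g = 1 := by
        by_contra hg
        have := hfree.eq_zero_of_sub_mul hg h0'
        rw [sub_eq_zero, ← map_one ρ] at this
        exact hg (hinj this)
      rw [hX, hg1, map_one, map_one]
      exact ⟨by simp, by simp, by simp⟩
    have hcases : X.trace = 2 ∨ X.trace = -2 := by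
      have : (X.trace - 2) * (X.trace + 2) = 0 := by linear_combination htr
      rcases mul_eq_zero.mp this with h | h
      · left; exact sub_eq_zero.mp h
      · right; exact eq_neg_of_add_eq_zero_left h
    rcases hcases with ht | ht
    · exact case1 ht
    · by_cases h2F : (2 : F) = 0
      · apply case1
        rw [ht]
        linear_combination (-2 : F) * h2F
      · rw [ht] at hCH
        have h0 : (X + 1) * (X + 1) = 0 := by
          calc (X + 1) * (X + 1) = X * X + (2 : F) • X + 1 := by rw [two_smul]; noncomm_ring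
            _ = 0 := by rw [hCH, neg_smul]; abel
        have h0' : (ρ g + 1) * (ρ g + 1) = 0 := by
          apply Φ.injective
          rw [map_mul, map_add, map_one, ← hX, h0, map_zero]
        have h3 : ρ (g * g) - ρ 1 = -((2 : F) • (ρ g + 1)) := by
          rw [map_mul, map_one]
          calc ρ g * ρ g - 1 = (ρ g + 1) * (ρ g + 1) - (2 : F) • (ρ g + 1) := by
                rw [two_smul]; noncomm_ring
            _ = -((2 : F) • (ρ g + 1)) := by rw [h0', zero_sub]
        have h4 : ρ (g * g) - ρ 1 = 0 := by
          by_cases hgg : g * g = 1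
          · rw [hgg, sub_self]
          · apply hfree.eq_zero_of_sub_mul hgg
            rw [h3, neg_mul_neg, smul_mul_smul_comm, h0', smul_zero]
        rw [h4] at h3
        have h5 : ρ g + 1 = 0 := by
          have := neg_eq_zero.mp h3.symm
          exact (smul_eq_zero.mp this).resolve_left h2F
        have h6 : X = -1 := by
          rw [hX, eq_neg_of_add_eq_zero_left h5, map_neg, map_one]
        rw [h6]
        exact ⟨by simp, by simp, by simp⟩
  · left
    push Not at hall
    obtain ⟨s, hs, hsc⟩ := hall
    have hρs : ρ s = algebraMap F _ ((Φ (ρ s)) 0 0) := by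
      apply Φ.injective
      rw [AlgEquiv.commutes, Algebra.algebraMap_eq_smul_one]
      exact sc_eq_smul hsc
    have hcen : ∀ g : G, s * g = g * s := by
      intro g
      apply hinj
      rw [map_mul, map_mul, hρs]
      exact Algebra.commutes _ _
    have hSz : S ⊆ Subgroup.zpowers s := by
      intro s' hs'
      rcases hfree.comm_three (hS3 s hs) (hS3 s' hs') (hcen s') with h | h
      · rw [h]; exact Subgroup.mem_zpowers s
      · rw [h]; exact Subgroup.inv_mem _ (Subgroup.mem_zpowers s)
    have htop : Subgroup.zpowers s = ⊤ := by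
      rw [eq_top_iff, ← hS]
      exact (Subgroup.closure_le _).mpr hSz
    intro x y
    have hx : x ∈ Subgroup.zpowers s := by rw [htop]; exact Subgroup.mem_top x
    have hy : y ∈ Subgroup.zpowers s := by rw [htop]; exact Subgroup.mem_top y
    obtain ⟨i, rfl⟩ := Subgroup.mem_zpowers_iff.mp hx
    obtain ⟨j, rfl⟩ := Subgroup.mem_zpowers_iff.mp hy
    exact (zpow_mul_comm s i j)

end emb

end Cfsg.Agent.Lib.Helper17.Zs
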