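import Mathlib
import Cfsg.Agent.Lib.Helper17.ZsEmb

set_option autoImplicit false

namespace Cfsg.Agent.Lib.Helper17.Zs

open Matrix Cfsg.Agent.Lib.Helper13.Dk

section descent
universe u
variable {F : Type u} [Field F] {G : Type*} [Group G] [Finite G]

/-- descent of a finite subgroup of `SL₂(F)` to a finite subfield -/
theorem exists_finite_emb (p : ℕ) [Fact p.Prime] [Algebra (ZMod p) F]
    [Algebra.IsAlgebraic (ZMod p) F] (E : Emb F G) (hss : ∀ y : G, ¬ Emb.sc (E.m y) → E.tr y ^ 2 ≠ 4) :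
    ∃ (F₁ : Type u) (_ : Field F₁) (_ : Fintype F₁) (E₁ : Emb F₁ G),
      ∀ y : G, ¬ Emb.sc (E₁.m y) → E₁.tr y ^ 2 ≠ 4 := by
  classical
  obtain ⟨T, hT⟩ : ∃ T : Set F, T = Set.range (fun x : G × Fin 2 × Fin 2 => E.m x.1 x.2.1 x.2.2) :=
    ⟨_, rfl⟩
  have : Finite T := by rw [hT]; exact Set.finite_range _
  obtain ⟨K, hK⟩ : ∃ K : IntermediateField (ZMod p) F, K = IntermediateField.adjoin (ZMod p) T :=
    ⟨_, rfl⟩
  have : FiniteDimensional (ZMod p) K := by
    rw [hK]
    exact IntermediateField.finiteDimensional_adjoin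
      (fun x _ => (Algebra.IsAlgebraic.isAlgebraic x).isIntegral)
  have : Finite K := Module.finite_of_finite (ZMod p)
  have hmem : ∀ g i j, E.m g i j ∈ K := by
    intro g i j
    rw [hK]
    apply IntermediateField.subset_adjoin
    rw [hT]
    exact ⟨(g, i, j), rfl⟩
  let ι : K →+* F := algebraMap K F
  have hι : Function.Injective ι := (algebraMap K F).injective
  let M₁ : G → Matrix (Fin 2) (Fin 2) K := fun g => Matrix.of fun i j => ⟨E.m g i j, hmem g i j⟩
  have hM₁ : ∀ g, ι.mapMatrix (M₁ g) = E.m g := by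
    intro g; ext i j; rfl
  have hmapinj : Function.Injective (ι.mapMatrix : Matrix (Fin 2) (Fin 2) K → _) := by
    intro A B hAB
    ext i j
    have := congrFun (congrFun hAB i) j
    exact this
  have hdet : ∀ g, (M₁ g).det = 1 := by
    intro g
    apply hι
    rw [RingHom.map_det, hM₁, map_one]
    exact E.m_det g
  let φ₁ : G →* SpecialLinearGroup (Fin 2) K :=
    { toFun := fun g => (⟨M₁ g, hdet g⟩ : SpecialLinearGroup (Fin 2) K)
      map_one' := by
        apply Subtype.ext
        change M₁ 1 = 1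
        apply hmapinj
        rw [hM₁, map_one, E.m_one]
      map_mul' := by
        intro x y
        apply Subtype.ext
        change M₁ (x * y) = M₁ x * M₁ y
        apply hmapinj
        rw [map_mul, hM₁, hM₁, hM₁, E.m_mul] }
  have hφ₁ : Function.Injective φ₁ := by
    intro x y hxy
    apply E.m_injective
    rw [← hM₁, ← hM₁]
    congr 1
    exact congrArg Subtype.val hxy
  refine ⟨K, inferInstance, Fintype.ofFinite K, ⟨φ₁, hφ₁⟩, ?_⟩
  intro y hsc htr
  have hm : (⟨φ₁, hφ₁⟩ : Emb K G).m y = M₁ y := rfl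
  apply hss y
  · intro h
    apply hsc
    rw [hm]
    obtain ⟨h01, h10, h11⟩ := h
    refine ⟨?_, ?_, ?_⟩
    · apply hι; rw [map_zero]; exact h01
    · apply hι; rw [map_zero]; exact h10
    · apply hι; exact h11
  · have : E.tr y = ι ((⟨φ₁, hφ₁⟩ : Emb K G).tr y) := by
      rw [Emb.tr_eq, Emb.tr_eq, hm, map_add]; rfl
    rw [this, ← map_pow, htr, map_ofNat]

end descent

end Cfsg.Agent.Lib.Helper17.Zs
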