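import Mathlib
import Cfsg.Agent.Lib.Helper17.ZsDescent

set_option autoImplicit false

namespace Cfsg.Agent.Lib.Helper17.Zs

open Matrix Cfsg.Agent.Lib.Helper13.Dk

universe u v w

section spanmem
variable {F : Type u} [Field F]

theorem span_mem_one {R : Type*} [Ring R] [Algebra F R] (a b : R) :
    (1 : R) ∈ Submodule.span F ({1, a, b, a * b} : Set R) := Submodule.subset_span (by simp)

theorem span_mem_fst {R : Type*} [Ring R] [Algebra F R] (a b : R) :
    a ∈ Submodule.span F ({1, a, b, a * b} : Set R) := Submodule.subset_span (by simp)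

theorem span_mem_snd {R : Type*} [Ring R] [Algebra F R] (a b : R) :
    b ∈ Submodule.span F ({1, a, b, a * b} : Set R) := Submodule.subset_span (by simp)

end spanmem

section lin
variable (p : ℕ) [Fact p.Prime] {F : Type u} [Field F] [Algebra (ZMod p) F]
  [Algebra.IsAlgebraic (ZMod p) F] [IsAlgClosed F] {G : Type v} [Group G] [Finite G]
  {V : Type w} [AddCommGroup V] [Module F V] [FiniteDimensional F V] [Nontrivial V]

/-- the conclusion: abelian, or embedded in `SL₂` of a finite field with all nonscalar elements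
semisimple -/
def LinGood (G : Type v) [Group G] : Prop :=
  (∀ x y : G, x * y = y * x) ∨
    ∃ (F₁ : Type u) (_ : Field F₁) (_ : Fintype F₁) (E₁ : Emb F₁ G),
      ∀ y : G, ¬ Emb.sc (E₁.m y) → E₁.tr y ^ 2 ≠ 4

include p in
theorem linGood_of_span {ρ : G →* Module.End F V} (hfree : IsFree ρ) (S : Set G)
    (hS : Subgroup.closure S = ⊤) (hS3 : ∀ s ∈ S, orderOf s = 3)
    (H : ∀ (U : Submodule F V) (hU : IsInv ρ U), U ≠ ⊥ → IsIrr (subRep ρ U hU) →
      ∃ a b : G, orderOf a = 3 ∧ orderOf b = 3 ∧ ∀ s ∈ S, subRep ρ U hU s ∈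
        Submodule.span F ({1, subRep ρ U hU a, subRep ρ U hU b,
          subRep ρ U hU a * subRep ρ U hU b} : Set (Module.End F U))) :
    LinGood.{u} G := by
  obtain ⟨U, hU, hU0, hirr⟩ := exists_irr_sub ρ
  have : Nontrivial U := Submodule.nontrivial_iff_ne_bot.mpr hU0
  have hfreeU := hfree.subRep U hU
  obtain ⟨a, b, ha, hb, hspan⟩ := H U hU hU0 hirr
  have hdim := finrank_le_two hirr S hS a b (hfreeU.cubic ha) (hfreeU.cubic hb) hspan
  rcases abelian_or_emb hfreeU hdim S hS hS3 with h | ⟨E, hE⟩
  · exact Or.inl h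
  · right
    exact exists_finite_emb p E hE

end lin


section pairtriple
variable (p : ℕ) [Fact p.Prime] {F : Type u} [Field F] [Algebra (ZMod p) F]
  [Algebra.IsAlgebraic (ZMod p) F] [IsAlgClosed F] {G : Type v} [Group G] [Finite G]
  {V : Type w} [AddCommGroup V] [Module F V] [FiniteDimensional F V] [Nontrivial V]

include p in
theorem linGood_pair {ρ : G →* Module.End F V} (hfree : IsFree ρ) {a b : G}
    (ha : orderOf a = 3) (hb : orderOf b = 3) (hgen : Subgroup.closure {a, b} = ⊤) :
    LinGood.{u} G := by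
  apply linGood_of_span p hfree {a, b} hgen
  · intro s hs
    simp only [Set.mem_insert_iff, Set.mem_singleton_iff] at hs
    rcases hs with rfl | rfl
    · exact ha
    · exact hb
  · intro U hU _ _
    refine ⟨a, b, ha, hb, ?_⟩
    intro s hs
    simp only [Set.mem_insert_iff, Set.mem_singleton_iff] at hs
    rcases hs with rfl | rfl
    · exact span_mem_fst _ _
    · exact span_mem_snd _ _

include p in
theorem linGood_triple {ρ : G →* Module.End F V} (hfree : IsFree ρ) {z a b c : G}
    (hz : z ≠ 1) (hz2 : z * z = 1)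
    (ha : orderOf a = 3) (hb : orderOf b = 3) (hc : orderOf c = 3)
    (hab : Rel z a b) (hac : Rel z a c) (hgen : Subgroup.closure {a, b, c} = ⊤) :
    LinGood.{u} G := by
  apply linGood_of_span p hfree {a, b, c} hgen
  · intro s hs
    simp only [Set.mem_insert_iff, Set.mem_singleton_iff] at hs
    rcases hs with rfl | rfl | rfl
    · exact ha
    · exact hb
    · exact hc
  · intro U hU hU0 hirr
    have : Nontrivial U := Submodule.nontrivial_iff_ne_bot.mpr hU0
    have hfreeU := hfree.subRep U hU
    obtain ⟨σ, hσ⟩ : ∃ σ : G →* Module.End F U, σ = subRep ρ U hU := ⟨_, rfl⟩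
    rw [← hσ] at hfreeU hirr ⊢
    -- degenerate cases
    have hdeg : ∀ x y : G, orderOf x = 3 → orderOf y = 3 → (y = x ∨ y = x⁻¹) → ∀ y' : G,
        σ y ∈ Submodule.span F ({1, σ x, σ y', σ x * σ y'} : Set (Module.End F U)) := by
      intro x y hx _ hxy y'
      rcases hxy with rfl | rfl
      · exact span_mem_fst _ _
      · rw [hfreeU.map_inv_cubic hx]
        exact Submodule.sub_mem _ (Submodule.neg_mem _ (span_mem_one _ _)) (span_mem_fst _ _)
    by_cases hab' : b = a ∨ b = a⁻¹
    · refine ⟨a, c, ha, hc, ?_⟩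
      intro s hs
      simp only [Set.mem_insert_iff, Set.mem_singleton_iff] at hs
      rcases hs with rfl | rfl | rfl
      · exact span_mem_fst _ _
      · exact hdeg _ _ ha hb hab' _
      · exact span_mem_snd _ _
    by_cases hac' : c = a ∨ c = a⁻¹
    · refine ⟨a, b, ha, hb, ?_⟩
      intro s hs
      simp only [Set.mem_insert_iff, Set.mem_singleton_iff] at hs
      rcases hs with rfl | rfl | rfl
      · exact span_mem_fst _ _
      · exact span_mem_snd _ _
      · exact hdeg _ _ ha hc hac' _
    refine ⟨a, b, ha, hb, ?_⟩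
    -- the scalars
    have hscal : ∀ y : G, orderOf y = 3 → Rel z a y → ¬ (y = a ∨ y = a⁻¹) →
        ∃ l : F, (l = 0 ∨ l = 1) ∧
          σ a * σ y + σ y * σ a + σ a + σ y + 1 = algebraMap F (Module.End F U) l := by
      intro y hy hrel hne
      rcases hrel with h | h | h | h
      · exact (hne (Or.inl h)).elim
      · exact (hne (Or.inr h)).elim
      · exact ⟨0, Or.inl rfl, by rw [map_zero]; exact hfreeU.s_of_opp hz hz2 ha hy h⟩
      · exact ⟨1, Or.inr rfl, by rw [map_one]; exact hfreeU.s_of_same hz hz2 ha hy h⟩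
    obtain ⟨l, hl, hsab⟩ := hscal b hb hab hab'
    obtain ⟨m, -, hsac⟩ := hscal c hc hac hac'
    have h2 : (2 : F) ≠ 0 := hfreeU.two_ne_zero hz hz2
    have hl' : (4 * l - 2) ^ 2 ≠ 36 := by
      have h32 : (32 : F) ≠ 0 := by
        have : (32 : F) = 2 ^ 5 := by norm_num
        rw [this]; exact pow_ne_zero _ h2
      rcases hl with rfl | rfl
      · intro h; apply h32; linear_combination -h
      · intro h; apply h32; linear_combination -h
    have hschur : ∀ T : Module.End F U, Commute T (σ a) → Commute T (σ b) → Commute T (σ c) →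
        ∃ κ : F, T = algebraMap F (Module.End F U) κ := by
      intro T hTa hTb hTc
      apply hirr.schur T
      apply commute_of_closure σ T {a, b, c} hgen
      intro s hs
      simp only [Set.mem_insert_iff, Set.mem_singleton_iff] at hs
      rcases hs with rfl | rfl | rfl
      · exact hTa
      · exact hTb
      · exact hTc
    have key := cubic_span h2 (hfreeU.cubic ha) (hfreeU.cubic hb) (hfreeU.cubic hc) hsab hsac hl'
      hschur
    intro s hs
    simp only [Set.mem_insert_iff, Set.mem_singleton_iff] at hs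
    rcases hs with rfl | rfl | rfl
    · exact span_mem_fst _ _
    · exact span_mem_snd _ _
    · exact key

end pairtriple

end Cfsg.Agent.Lib.Helper17.Zs
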