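import Mathlib
import Cfsg.Agent.Lib.Helper17.ZsLin
import Cfsg.Agent.Lib.Helper13.DkFinal

set_option autoImplicit false

namespace Cfsg.Agent.Lib.Helper17.Zs

open Matrix Cfsg.Agent.Lib.Helper13.Dk Subgroup

universe u v

section chart
variable {K : Type v} [Group K] [Finite K]

/-- the structure of a nonabelian `LinGood` group generated by elements of order three -/
theorem structure_of_emb {F₁ : Type u} [Field F₁] [Fintype F₁] (E : Emb F₁ K)
    (hss : ∀ y : K, ¬ Emb.sc (E.m y) → E.tr y ^ 2 ≠ 4)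
    (hna : ∃ x y : K, x * y ≠ y * x) (S : Set K) (hS : closure S = ⊤)
    (hS3 : ∀ s ∈ S, s ^ 3 = 1) :
    (Nat.card K = Nat.card (center K) * 12 ∧
      ∃ ψ : K →* Equiv.Perm (Fin 4), ψ.ker = center K) ∨
    (Nat.card K = Nat.card (center K) * 60 ∧
      ∃ ψ : K →* Equiv.Perm (Fin 5), ψ.ker = center K) := by
  let π : K →* K ⧸ center K := QuotientGroup.mk' (center K)
  have hπ : Function.Surjective π := QuotientGroup.mk'_surjective _
  have hZ : π.ker = center K := QuotientGroup.ker_mk' _
  have htriv : ∀ f : K →* ℤˣ, ∀ g : K, f g = 1 := by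
    intro f g
    have hle : closure S ≤ f.ker := by
      rw [closure_le]
      intro s hs
      rw [SetLike.mem_coe, MonoidHom.mem_ker]
      have h3 : f s ^ 3 = 1 := by rw [← map_pow, hS3 s hs, map_one]
      have h2 : f s ^ 2 = 1 := Int.units_sq (f s)
      calc f s = f s ^ 3 * (f s ^ 2)⁻¹ := by group
        _ = 1 := by rw [h3, h2, inv_one, one_mul]
    rw [hS] at hle
    exact hle (mem_top g)
  rcases E.caseI hna hss with h | h | h | ⟨h, h5⟩
  · -- dihedral type: impossible
    exfalso
    obtain ⟨g, -, hg⟩ := h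
    obtain ⟨C, hC⟩ : ∃ C : Subgroup K, C = centralizer ({g} : Set K) := ⟨_, rfl⟩
    rw [← hC] at hg
    have hidx : C.index = 2 := by
      have := C.card_mul_index
      rw [← hg] at this
      exact Nat.eq_of_mul_eq_mul_left Nat.card_pos this
    have : C.Normal := normal_of_index_eq_two hidx
    have hSC : S ⊆ C := by
      intro s hs
      rw [SetLike.mem_coe, ← QuotientGroup.eq_one_iff]
      have h3 : (s : K ⧸ C) ^ 3 = 1 := by rw [← QuotientGroup.mk_pow, hS3 s hs]; rfl
      have h2 : (s : K ⧸ C) ^ 2 = 1 := by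
        have : Nat.card (K ⧸ C) = 2 := hidx
        rw [← this]; exact pow_card_eq_one'
      calc (s : K ⧸ C) = (s : K ⧸ C) ^ 3 * ((s : K ⧸ C) ^ 2)⁻¹ := by group
        _ = 1 := by rw [h3, h2, inv_one, one_mul]
    have : closure S ≤ C := (closure_le C).mpr hSC
    rw [hS, top_le_iff] at this
    rw [this, index_top] at hidx
    omega
  · left
    obtain ⟨e⟩ := alt4_of_small π hπ hZ h
    refine ⟨h.1, ((alternatingGroup (Fin 4)).subtype.comp e.toMonoidHom).comp π, ?_⟩
    ext x
    rw [← (show x ∈ π.ker ↔ x ∈ center K from by rw [hZ])]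
    simp only [MonoidHom.mem_ker, MonoidHom.comp_apply]
    constructor
    · intro hx
      have : e (π x) = 1 := Subtype.ext hx
      exact e.injective (this.trans (map_one e).symm)
    · intro hx
      rw [hx, map_one]; rfl
  · -- `S₄`: impossible
    exfalso
    obtain ⟨e⟩ := sym4_of_small π hπ hZ h
    let f : K →* ℤˣ := (Equiv.Perm.sign.comp e.toMonoidHom).comp π
    have hf : Function.Surjective f := by
      intro u
      obtain ⟨σ, hσ⟩ := Equiv.Perm.sign_surjective (Fin 4) u
      obtain ⟨q, hq⟩ := e.surjective σ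
      obtain ⟨k, hk⟩ := hπ q
      exact ⟨k, by simp [f, hk, hq, hσ]⟩
    obtain ⟨k, hk⟩ := hf (-1)
    rw [htriv f k] at hk
    exact absurd hk (by decide)
  · right
    obtain ⟨e⟩ := alt5_of_small π hπ hZ h h5
    refine ⟨h.1, ((alternatingGroup (Fin 5)).subtype.comp e.toMonoidHom).comp π, ?_⟩
    ext x
    rw [← (show x ∈ π.ker ↔ x ∈ center K from by rw [hZ])]
    simp only [MonoidHom.mem_ker, MonoidHom.comp_apply]
    constructor
    · intro hx
      have : e (π x) = 1 := Subtype.ext hx
      exact e.injective (this.trans (map_one e).symm)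
    · intro hx
      rw [hx, map_one]; rfl

end chart


section good
variable {G : Type v} [Group G] [Finite G]

theorem good_of_linGood {z : G} (hz : z ≠ 1) (hzc : ∀ g : G, z * g = g * z)
    (huniq : ∀ g : G, g * g = 1 → g = 1 ∨ g = z) (S : Set G) (hS3 : ∀ s ∈ S, orderOf s = 3)
    (h : LinGood.{u} (closure S)) : Good z (closure S) := by
  obtain ⟨K, hK⟩ : ∃ K : Subgroup G, K = closure S := ⟨_, rfl⟩
  rw [← hK] at h ⊢
  have hab : (∀ x y : K, x * y = y * x) → Good z K := by
    intro hc
    left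
    intro x hx y hy
    exact congrArg Subtype.val (hc ⟨x, hx⟩ ⟨y, hy⟩)
  rcases h with h | ⟨F₁, _, _, E, hss⟩
  · exact hab h
  by_cases hna : ∃ x y : K, x * y ≠ y * x
  swap
  · push Not at hna; exact hab hna
  obtain ⟨S', hS'⟩ : ∃ S' : Set K, S' = ((↑) : K → G) ⁻¹' S := ⟨_, rfl⟩
  have hcl : closure S' = ⊤ := by
    rw [hS']
    subst hK
    exact closure_closure_coe_preimage
  have hS3' : ∀ s ∈ S', s ^ 3 = 1 := by
    intro s hs
    rw [hS'] at hs
    apply Subtype.ext
    rw [SubgroupClass.coe_pow, ← hS3 _ hs, pow_orderOf_eq_one]; rfl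
  -- the centre
  have hc1 : ∀ x : K, x ∈ center K → (x : G) = 1 ∨ (x : G) = z := by
    intro x hx
    apply huniq
    have hsc := (E.mem_center_iff_sc hna x).mp hx
    have : x * x = 1 := by
      apply E.m_injective
      rw [E.m_mul, E.m_one]
      rcases E.m_eq_of_sc hsc with h1 | h1
      · rw [h1, one_mul]
      · rw [h1, neg_mul_neg, one_mul]
    exact congrArg Subtype.val this
  have key : ∀ n : ℕ, Even n → Nat.card K = Nat.card (center K) * n →
      z ∈ K ∧ Nat.card K = 2 * n ∧ ∀ x : K, x ∈ center K ↔ (x : G) = 1 ∨ (x : G) = z := by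
    intro n hn hcard
    have heven : 2 ∣ Nat.card K := by
      rw [hcard]; exact Dvd.dvd.mul_left hn.two_dvd _
    have : Fact (Nat.Prime 2) := ⟨Nat.prime_two⟩
    obtain ⟨x, hx⟩ := exists_prime_orderOf_dvd_card' (G := K) 2 heven
    have hx1 : (x : G) ≠ 1 := by
      intro h1
      have : x = 1 := Subtype.ext h1
      rw [this, orderOf_one] at hx; omega
    have hx2 : (x : G) * (x : G) = 1 := by
      have : x * x = 1 := by rw [← pow_two, ← hx, pow_orderOf_eq_one]
      exact congrArg Subtype.val this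
    have hxz : (x : G) = z := (huniq _ hx2).resolve_left hx1
    have hzK : z ∈ K := hxz ▸ x.2
    have hzcen : (⟨z, hzK⟩ : K) ∈ center K := by
      rw [mem_center_iff]
      intro g
      apply Subtype.ext
      exact (hzc g).symm
    have hiff : ∀ x : K, x ∈ center K ↔ (x : G) = 1 ∨ (x : G) = z := by
      intro y
      constructor
      · exact hc1 y
      · rintro (h1 | h1)
        · have : y = 1 := Subtype.ext h1
          rw [this]; exact one_mem _
        · have : y = ⟨z, hzK⟩ := Subtype.ext h1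
          rw [this]; exact hzcen
    have hcard2 : Nat.card (center K) = 2 := by
      rw [Nat.card_eq_two_iff]
      refine ⟨1, ⟨⟨z, hzK⟩, hzcen⟩, ?_, ?_⟩
      · intro h1
        have := congrArg (fun t : center K => ((t : K) : G)) h1
        exact hz this.symm
      · ext y
        simp only [Set.mem_insert_iff, Set.mem_singleton_iff, Set.mem_univ, iff_true]
        rcases hc1 y.1 y.2 with h1 | h1
        · left; exact Subtype.ext (Subtype.ext h1)
        · right; exact Subtype.ext (Subtype.ext h1)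
    exact ⟨hzK, by rw [hcard, hcard2], hiff⟩
  have mkChart : ∀ (n N : ℕ) (ψ₀ : K →* Equiv.Perm (Fin n)), ψ₀.ker = center K → z ∈ K →
      Nat.card K = N → (∀ x : K, x ∈ center K ↔ (x : G) = 1 ∨ (x : G) = z) → Chart z K n N := by
    intro n N ψ₀ hker hzK hN hiff
    classical
    refine ⟨hzK, hN, fun g => if hg : g ∈ K then ψ₀ ⟨g, hg⟩ else 1, ?_, ?_⟩
    · intro x hx y hy
      beta_reduce
      rw [dif_pos hx, dif_pos hy, dif_pos (K.mul_mem hx hy), ← map_mul]; rfl
    · intro x hx
      beta_reduce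
      rw [dif_pos hx, ← MonoidHom.mem_ker, hker, hiff]
  rcases structure_of_emb E hss hna S' hcl hS3' with ⟨hcard, ψ₀, hker⟩ | ⟨hcard, ψ₀, hker⟩
  · obtain ⟨hzK, hN, hiff⟩ := key 12 (by decide) hcard
    exact Or.inr (Or.inl (mkChart 4 24 ψ₀ hker hzK hN hiff))
  · obtain ⟨hzK, hN, hiff⟩ := key 60 (by decide) hcard
    exact Or.inr (Or.inr (mkChart 5 120 ψ₀ hker hzK hN hiff))

end good

end Cfsg.Agent.Lib.Helper17.Zs
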