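import Mathlib
import Cfsg.Agent.Lib.Helper17.ZsBase
import Cfsg.Agent.Lib.Helper17.ZsChart

set_option autoImplicit false

namespace Cfsg.Agent.Lib.Helper17.Zs

open TensorProduct Subgroup

/-- the abstract (group-theoretic) axioms used by the geometric part of the argument -/
structure ZsAx (G : Type*) [Group G] (z : G) : Prop where
  z_ne : z ≠ 1
  z_sq : z * z = 1
  z_central : ∀ g : G, z * g = g * z
  inv_unique : ∀ g : G, g * g = 1 → g = 1 ∨ g = z
  cube_one : ∀ a b : G, orderOf a = 3 → orderOf b = 3 → (a * b) ^ 3 = 1 → b = a ∨ b = a⁻¹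
  same_opp : ∀ a b : G, orderOf a = 3 → orderOf b = 3 → (a * b) ^ 3 = z → Opp z a b⁻¹
  pair : ∀ a b : G, orderOf a = 3 → orderOf b = 3 → Good z (closure {a, b})
  triple : ∀ a b c : G, orderOf a = 3 → orderOf b = 3 → orderOf c = 3 → Rel z a b → Rel z a c →
    Good z (closure {a, b, c})
  no_four : ∀ a b c d : G, orderOf a = 3 → orderOf b = 3 → orderOf c = 3 → orderOf d = 3 →
    Opp z a b → Opp z a c → Opp z a d → Opp z b c → Opp z b d → Opp z c d → False

section ax
variable (p : ℕ) [Fact p.Prime] {G : Type*} [Group G] [Finite G] {V₀ : Type*} [AddCommGroup V₀]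
  [Module (ZMod p) V₀] [Module.Finite (ZMod p) V₀] [Nontrivial V₀]

include p in
theorem zsAx_of_free (ρ₀ : G →* Module.End (ZMod p) V₀) (h₀ : IsFree ρ₀) {z : G} (hz : z ≠ 1)
    (hz2 : z * z = 1) : ZsAx G z := by
  obtain ⟨F, hF⟩ : ∃ F : Type, F = AlgebraicClosure (ZMod p) := ⟨_, rfl⟩
  subst hF
  obtain ⟨ρ, hρ⟩ : ∃ ρ, ρ = baseRep (AlgebraicClosure (ZMod p)) ρ₀ := ⟨_, rfl⟩
  have hfree : IsFree ρ := by rw [hρ]; exact h₀.baseRep _
  have : Nontrivial (AlgebraicClosure (ZMod p) ⊗[ZMod p] V₀) := by
    apply Module.nontrivial_of_finrank_pos (R := AlgebraicClosure (ZMod p))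
    rw [Module.finrank_baseChange]
    exact Module.finrank_pos
  have hzc := hfree.involution_central hz hz2
  have huniq : ∀ g : G, g * g = 1 → g = 1 ∨ g = z :=
    fun g hg => hfree.involution_unique hz hz2 hg
  -- restriction to subgroups
  have hsub : ∀ K : Subgroup G, IsFree (ρ.comp K.subtype) := by
    intro K g hg v hv
    apply hfree (g : G) _ v hv
    intro h1; exact hg (Subtype.ext h1)
  refine ⟨hz, hz2, hzc, huniq, fun a b ha hb hab => hfree.cube_one ha hb hab,
    fun a b ha hb hab => hfree.opp_inv_of_same hz hz2 ha hb hab, ?_, ?_,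
    fun a b c d ha hb hc hd => hfree.no_four hz hz2 ha hb hc hd⟩
  · -- pairs
    intro a b ha hb
    obtain ⟨S, hS⟩ : ∃ S : Set G, S = {a, b} := ⟨_, rfl⟩
    rw [← hS]
    have hS3 : ∀ s ∈ S, orderOf s = 3 := by
      intro s hs; rw [hS] at hs
      rcases hs with rfl | rfl
      · exact ha
      · exact hb
    apply good_of_linGood.{0} hz hzc huniq S hS3
    have haK : a ∈ closure S := subset_closure (by rw [hS]; simp)
    have hbK : b ∈ closure S := subset_closure (by rw [hS]; simp)
    apply linGood_pair p (hsub (closure S)) (a := ⟨a, haK⟩) (b := ⟨b, hbK⟩)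
    · rw [← Subgroup.orderOf_coe]; exact ha
    · rw [← Subgroup.orderOf_coe]; exact hb
    · have : ({⟨a, haK⟩, ⟨b, hbK⟩} : Set (closure S)) = ((↑) : closure S → G) ⁻¹' S := by
        have hmem : ∀ y : G, y ∈ S ↔ y = a ∨ y = b := by intro y; rw [hS]; simp
        ext x
        simp only [Set.mem_preimage, hmem, Set.mem_insert_iff, Set.mem_singleton_iff,
          Subtype.ext_iff]
      rw [this]
      exact closure_closure_coe_preimage
  · -- triples
    intro a b c ha hb hc hab hac
    obtain ⟨S, hS⟩ : ∃ S : Set G, S = {a, b, c} := ⟨_, rfl⟩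
    rw [← hS]
    have hS3 : ∀ s ∈ S, orderOf s = 3 := by
      intro s hs; rw [hS] at hs
      rcases hs with rfl | rfl | rfl
      · exact ha
      · exact hb
      · exact hc
    have haK : a ∈ closure S := subset_closure (by rw [hS]; simp)
    have hbK : b ∈ closure S := subset_closure (by rw [hS]; simp)
    have hcK : c ∈ closure S := subset_closure (by rw [hS]; simp)
    by_cases hzK : z ∈ closure S
    · apply good_of_linGood.{0} hz hzc huniq S hS3
      apply linGood_triple p (hsub (closure S)) (z := ⟨z, hzK⟩) (a := ⟨a, haK⟩) (b := ⟨b, hbK⟩)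
        (c := ⟨c, hcK⟩)
      · intro h1; exact hz (congrArg Subtype.val h1)
      · exact Subtype.ext hz2
      · rw [← Subgroup.orderOf_coe]; exact ha
      · rw [← Subgroup.orderOf_coe]; exact hb
      · rw [← Subgroup.orderOf_coe]; exact hc
      · rcases hab with h | h | h | h
        · exact Or.inl (Subtype.ext h)
        · exact Or.inr (Or.inl (Subtype.ext h))
        · exact Or.inr (Or.inr (Or.inl (Subtype.ext h)))
        · exact Or.inr (Or.inr (Or.inr (Subtype.ext h)))
      · rcases hac with h | h | h | h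
        · exact Or.inl (Subtype.ext h)
        · exact Or.inr (Or.inl (Subtype.ext h))
        · exact Or.inr (Or.inr (Or.inl (Subtype.ext h)))
        · exact Or.inr (Or.inr (Or.inr (Subtype.ext h)))
      · have : ({⟨a, haK⟩, ⟨b, hbK⟩, ⟨c, hcK⟩} : Set (closure S))
            = ((↑) : closure S → G) ⁻¹' S := by
          have hmem : ∀ y : G, y ∈ S ↔ y = a ∨ y = b ∨ y = c := by intro y; rw [hS]; simp
          ext x
          simp only [Set.mem_preimage, hmem, Set.mem_insert_iff, Set.mem_singleton_iff,
            Subtype.ext_iff]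
        rw [this]
        exact closure_closure_coe_preimage
    · -- `z ∉ K`: then `b, c ∈ ⟨a⟩`
      left
      have hb' : b = a ∨ b = a⁻¹ := by
        rcases hab with h | h | h | h
        · exact Or.inl h
        · exact Or.inr h
        · exact (hzK (h ▸ pow_mem (mul_mem haK hbK) 2)).elim
        · exact (hzK (h ▸ pow_mem (mul_mem haK hbK) 3)).elim
      have hc' : c = a ∨ c = a⁻¹ := by
        rcases hac with h | h | h | h
        · exact Or.inl h
        · exact Or.inr h
        · exact (hzK (h ▸ pow_mem (mul_mem haK hcK) 2)).elim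
        · exact (hzK (h ▸ pow_mem (mul_mem haK hcK) 3)).elim
      have hle : closure S ≤ zpowers a := by
        rw [closure_le, hS]
        intro s hs
        rcases hs with rfl | rfl | rfl
        · exact mem_zpowers _
        · rcases hb' with h | h
          · rw [h]; exact mem_zpowers _
          · rw [h]; exact inv_mem (mem_zpowers _)
        · rcases hc' with h | h
          · rw [h]; exact mem_zpowers _
          · rw [h]; exact inv_mem (mem_zpowers _)
      intro x hx y hy
      obtain ⟨i, rfl⟩ := mem_zpowers_iff.mp (hle hx)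
      obtain ⟨j, rfl⟩ := mem_zpowers_iff.mp (hle hy)
      exact zpow_mul_comm a i j

end ax

end Cfsg.Agent.Lib.Helper17.Zs
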