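/-
helper17: Zassenhaus cluster, finite facts about 3-cycles in `S₄` and `S₅`
(evaluated by the kernel on Boolean encodings).
-/
import Mathlib

set_option autoImplicit false

namespace Cfsg.Agent.Lib.Helper17.Zs

abbrev P5 := Equiv.Perm (Fin 5)
abbrev P4 := Equiv.Perm (Fin 4)

/-- "3-cycle": nontrivial with cube one -/
def Is3 {n : ℕ} (x : Equiv.Perm (Fin n)) : Prop := x ≠ 1 ∧ x ^ 3 = 1

/-- the product has order dividing two or three -/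
def RelP {n : ℕ} (x y : Equiv.Perm (Fin n)) : Prop := (x * y) ^ 2 = 1 ∨ (x * y) ^ 3 = 1

/-- the product is an involution -/
def OppP {n : ℕ} (x y : Equiv.Perm (Fin n)) : Prop := (x * y) ^ 2 = 1 ∧ x * y ≠ 1

instance {n : ℕ} (x : Equiv.Perm (Fin n)) : Decidable (Is3 x) := by unfold Is3; infer_instance

/-- the twenty 3-cycles of `S₅` -/
def L3 : List P5 :=
  [Equiv.swap 0 1 * Equiv.swap 1 2,
   Equiv.swap 0 1 * Equiv.swap 1 3,
   Equiv.swap 0 1 * Equiv.swap 1 4,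
   Equiv.swap 0 2 * Equiv.swap 2 1,
   Equiv.swap 0 2 * Equiv.swap 2 3,
   Equiv.swap 0 2 * Equiv.swap 2 4,
   Equiv.swap 0 3 * Equiv.swap 3 1,
   Equiv.swap 0 3 * Equiv.swap 3 2,
   Equiv.swap 0 3 * Equiv.swap 3 4,
   Equiv.swap 0 4 * Equiv.swap 4 1,
   Equiv.swap 0 4 * Equiv.swap 4 2,
   Equiv.swap 0 4 * Equiv.swap 4 3,
   Equiv.swap 1 2 * Equiv.swap 2 3,
   Equiv.swap 1 2 * Equiv.swap 2 4,
   Equiv.swap 1 3 * Equiv.swap 3 2,
   Equiv.swap 1 3 * Equiv.swap 3 4,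
   Equiv.swap 1 4 * Equiv.swap 4 2,
   Equiv.swap 1 4 * Equiv.swap 4 3,
   Equiv.swap 2 3 * Equiv.swap 3 4,
   Equiv.swap 2 4 * Equiv.swap 4 3]

/-- the eight 3-cycles of `S₄` -/
def L3' : List P4 :=
  [Equiv.swap 0 1 * Equiv.swap 1 2,
   Equiv.swap 0 1 * Equiv.swap 1 3,
   Equiv.swap 0 2 * Equiv.swap 2 1,
   Equiv.swap 0 2 * Equiv.swap 2 3,
   Equiv.swap 0 3 * Equiv.swap 3 1,
   Equiv.swap 0 3 * Equiv.swap 3 2,
   Equiv.swap 1 2 * Equiv.swap 2 3,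
   Equiv.swap 1 3 * Equiv.swap 3 2]

set_option maxRecDepth 100000 in
theorem mem_L3 : ∀ x : P5, Is3 x → x ∈ L3 := by
  decide +kernel

set_option maxRecDepth 100000 in
theorem mem_L3' : ∀ x : P4, Is3 x → x ∈ L3' := by
  decide +kernel

def eq5 (x y : P5) : Bool :=
  (x 0 == y 0) && (x 1 == y 1) && (x 2 == y 2) && (x 3 == y 3) && (x 4 == y 4)

theorem eq5_iff (x y : P5) : eq5 x y = true ↔ x = y := by
  unfold eq5
  simp only [Bool.and_eq_true, beq_iff_eq]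
  constructor
  · rintro ⟨⟨⟨⟨h0, h1⟩, h2⟩, h3⟩, h4⟩
    ext i
    fin_cases i <;> simp [h0, h1, h2, h3, h4]
  · rintro rfl
    exact ⟨⟨⟨⟨rfl, rfl⟩, rfl⟩, rfl⟩, rfl⟩

def eq4 (x y : P4) : Bool :=
  (x 0 == y 0) && (x 1 == y 1) && (x 2 == y 2) && (x 3 == y 3)

theorem eq4_iff (x y : P4) : eq4 x y = true ↔ x = y := by
  unfold eq4
  simp only [Bool.and_eq_true, beq_iff_eq]
  constructor
  · rintro ⟨⟨⟨h0, h1⟩, h2⟩, h3⟩
    ext i
    fin_cases i <;> simp [h0, h1, h2, h3]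
  · rintro rfl
    exact ⟨⟨⟨rfl, rfl⟩, rfl⟩, rfl⟩

def relB (x y : P5) : Bool := eq5 ((x * y) * (x * y)) 1 || eq5 ((x * y) * (x * y) * (x * y)) 1

def oppB (x y : P5) : Bool := eq5 ((x * y) * (x * y)) 1 && !(eq5 (x * y) 1)

theorem relB_iff (x y : P5) : relB x y = true ↔ RelP x y := by
  unfold relB RelP
  rw [Bool.or_eq_true, eq5_iff, eq5_iff, pow_two, pow_three']

theorem oppB_iff (x y : P5) : oppB x y = true ↔ OppP x y := by
  unfold oppB OppP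
  rw [Bool.and_eq_true, eq5_iff, Bool.not_eq_true', ← Bool.not_eq_true, eq5_iff, pow_two]

end Cfsg.Agent.Lib.Helper17.Zs
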