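import Mathlib
import Cfsg.Agent.Lib.Helper17.ZsFin

set_option autoImplicit false

namespace Cfsg.Agent.Lib.Helper17.Zs

theorem relB_false (x y : P5) : relB x y = false ↔ ¬ RelP x y := by
  rw [← relB_iff, Bool.not_eq_true]

theorem oppB_false (x y : P5) : oppB x y = false ↔ ¬ OppP x y := by
  rw [← oppB_iff, Bool.not_eq_true]

theorem eq5_false (x y : P5) : eq5 x y = false ↔ x ≠ y := by
  rw [Ne, ← eq5_iff, Bool.not_eq_true]

/-! ### F1 -/

set_option maxRecDepth 100000 in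
theorem F1_bool : (L3'.all fun x => L3'.all fun y =>
    eq4 ((x * y) * (x * y)) 1 || eq4 ((x * y) * (x * y) * (x * y)) 1) = true := by
  decide +kernel

theorem F1 (x y : P4) (hx : Is3 x) (hy : Is3 y) : RelP x y := by
  have H := F1_bool
  simp only [List.all_eq_true, Bool.or_eq_true, eq4_iff] at H
  have := H x (mem_L3' x hx) y (mem_L3' y hy)
  unfold RelP
  rw [pow_two, pow_three']
  exact this

/-! ### F2 -/

set_option maxRecDepth 100000 in
theorem F2_bool : (L3.all fun x => L3.all fun y =>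
    relB x y || eq5 ((x * y) * (x * y) * (x * y) * (x * y) * (x * y)) 1) = true := by
  decide +kernel

theorem F2 (x y : P5) (hx : Is3 x) (hy : Is3 y) : RelP x y ∨ (x * y) ^ 5 = 1 := by
  have H := F2_bool
  simp only [List.all_eq_true, Bool.or_eq_true, eq5_iff, relB_iff] at H
  have := H x (mem_L3 x hx) y (mem_L3 y hy)
  rcases this with h | h
  · exact Or.inl h
  · right
    rw [← h]
    simp only [pow_succ, pow_zero, one_mul]

/-! ### F3 -/

set_option maxRecDepth 100000 in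
theorem F3_bool : (L3.all fun x => L3.all fun y =>
    relB x y || (relB x (y * x * y⁻¹) && !(eq5 (y * x * y⁻¹) x) && !(eq5 (y * x * y⁻¹) x⁻¹)))
      = true := by
  decide +kernel

theorem F3 (x y : P5) (hx : Is3 x) (hy : Is3 y) (h : ¬ RelP x y) :
    RelP x (y * x * y⁻¹) ∧ y * x * y⁻¹ ≠ x ∧ y * x * y⁻¹ ≠ x⁻¹ := by
  have H := F3_bool
  simp only [List.all_eq_true, Bool.or_eq_true, Bool.and_eq_true, Bool.not_eq_true', eq5_false,
    relB_iff] at H
  rcases H x (mem_L3 x hx) y (mem_L3 y hy) with h1 | ⟨⟨h1, h2⟩, h3⟩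
  · exact (h h1).elim
  · exact ⟨h1, h2, h3⟩

/-! ### F4 -/

set_option maxRecDepth 100000 in
theorem F4_bool : (L3.all fun x => L3.all fun y =>
    relB x y || (eq5 y (((y * x) * y * (y * x)⁻¹) * ((x⁻¹ * y) * x⁻¹ * (x⁻¹ * y)⁻¹)) &&
      relB x ((y * x) * y * (y * x)⁻¹) && relB x ((x⁻¹ * y) * x⁻¹ * (x⁻¹ * y)⁻¹)))
      = true := by
  decide +kernel

theorem F4 (x y : P5) (hx : Is3 x) (hy : Is3 y) (h : ¬ RelP x y) :
    y = ((y * x) * y * (y * x)⁻¹) * ((x⁻¹ * y) * x⁻¹ * (x⁻¹ * y)⁻¹) ∧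
      RelP x ((y * x) * y * (y * x)⁻¹) ∧ RelP x ((x⁻¹ * y) * x⁻¹ * (x⁻¹ * y)⁻¹) := by
  have H := F4_bool
  simp only [List.all_eq_true, Bool.or_eq_true, Bool.and_eq_true, eq5_iff, relB_iff] at H
  rcases H x (mem_L3 x hx) y (mem_L3 y hy) with h1 | ⟨⟨h1, h2⟩, h3⟩
  · exact (h h1).elim
  · exact ⟨h1, h2, h3⟩


/-! ### F6 -/

/-- the conjugates of `v, v⁻¹` under powers of `s` -/
def cand {M : Type*} [Group M] (s v : M) : List M :=
  [v, v⁻¹, s⁻¹ * v * s, s⁻¹ * v⁻¹ * s, s * v * s⁻¹, s * v⁻¹ * s⁻¹]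

set_option maxRecDepth 100000 in
theorem F6_bool : (L3.all fun s => L3.all fun h => !(oppB s h) || L3.all fun v =>
    !(relB s v) || eq5 v s || eq5 v s⁻¹ || ((cand s v).any fun y => oppB s y && oppB h y) ||
      (cand s h).any fun y => eq5 v y) = true := by
  decide +kernel

theorem F6 (s h v : P5) (hs : Is3 s) (hh : Is3 h) (hv : Is3 v) (o1 : OppP s h) (r1 : RelP s v)
    (n1 : v ≠ s) (n2 : v ≠ s⁻¹) :
    (∃ y ∈ cand s v, OppP s y ∧ OppP h y) ∨ v ∈ cand s h := by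
  have H := F6_bool
  simp only [List.all_eq_true, Bool.or_eq_true, Bool.and_eq_true, Bool.not_eq_true', eq5_iff,
    relB_false, oppB_false, List.any_eq_true, oppB_iff] at H
  rcases H s (mem_L3 s hs) h (mem_L3 h hh) with h1 | h1
  · exact (h1 o1).elim
  rcases h1 v (mem_L3 v hv) with (((h2 | h2) | h2) | h2) | h2
  · exact (h2 r1).elim
  · exact (n1 h2).elim
  · exact (n2 h2).elim
  · exact Or.inl h2
  · right
    obtain ⟨y, hy, rfl⟩ := h2
    exact hy

/-! ### F7 -/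

set_option maxRecDepth 100000 in
theorem F7_bool : (L3.all fun s => L3.all fun h2 => !(oppB s h2) || L3.all fun h3 =>
    !(oppB s h3) || !(eq5 ((h2 * h3) * (h2 * h3) * (h2 * h3)) 1) ||
      eq5 h3 h2 || eq5 h3 (s⁻¹ * h2 * s) || eq5 h3 (s * h2 * s⁻¹)) = true := by
  decide +kernel

theorem F7 (s h2 h3 : P5) (hs : Is3 s) (hh2 : Is3 h2) (hh3 : Is3 h3) (o2 : OppP s h2)
    (o3 : OppP s h3) (c : (h2 * h3) ^ 3 = 1) :
    h3 = h2 ∨ h3 = s⁻¹ * h2 * s ∨ h3 = s * h2 * s⁻¹ := by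
  have H := F7_bool
  simp only [List.all_eq_true, Bool.or_eq_true, Bool.not_eq_true', eq5_iff, eq5_false,
    oppB_false] at H
  rcases H s (mem_L3 s hs) h2 (mem_L3 h2 hh2) with h1 | h1
  · exact (h1 o2).elim
  rcases h1 h3 (mem_L3 h3 hh3) with (((h4 | h4) | h4) | h4) | h4
  · exact (h4 o3).elim
  · rw [pow_three'] at c; exact (h4 c).elim
  · exact Or.inl h4
  · exact Or.inr (Or.inl h4)
  · exact Or.inr (Or.inr h4)

/-! ### F8 -/

set_option maxRecDepth 100000 in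
theorem F8_bool : (L3.all fun s => L3.all fun h1 => !(oppB s h1) || L3.all fun h2 =>
    !(oppB s h2 && oppB h1 h2) || L3.all fun h3 => !(oppB s h3 && oppB h1 h3) || eq5 h2 h3)
      = true := by
  decide +kernel

theorem F8 (s h1 h2 h3 : P5) (hs : Is3 s) (hh1 : Is3 h1) (hh2 : Is3 h2) (hh3 : Is3 h3)
    (o1 : OppP s h1) (o2 : OppP s h2) (o3 : OppP s h3) (o12 : OppP h1 h2) (o13 : OppP h1 h3) :
    h2 = h3 := by
  have H := F8_bool
  simp only [List.all_eq_true, Bool.or_eq_true, Bool.not_eq_true', Bool.and_eq_false_iff,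
    eq5_iff, oppB_false] at H
  rcases H s (mem_L3 s hs) h1 (mem_L3 h1 hh1) with h | h
  · exact (h o1).elim
  rcases h h2 (mem_L3 h2 hh2) with (h | h) | h
  · exact (h o2).elim
  · exact (h o12).elim
  rcases h h3 (mem_L3 h3 hh3) with (h | h) | h
  · exact (h o3).elim
  · exact (h o13).elim
  · exact h

end Cfsg.Agent.Lib.Helper17.Zs
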