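import Mathlib
import Cfsg.Agent.Lib.Helper17.ZsAx
import Cfsg.Agent.Lib.Helper17.ZsFin2

set_option autoImplicit false

namespace Cfsg.Agent.Lib.Helper17.Zs

open Subgroup

variable {G : Type*} [Group G] {z : G}

/-! ### consequences of the axioms -/

namespace ZsAx

variable (A : ZsAx G z)
include A

theorem orderOf_z : orderOf z = 2 := by
  apply orderOf_eq_prime
  · rw [pow_two]; exact A.z_sq
  · exact A.z_ne

theorem ne_of_three {a : G} (ha : orderOf a = 3) : a ≠ 1 ∧ a ≠ z := by
  constructor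
  · intro h; rw [h, orderOf_one] at ha; omega
  · intro h; rw [h, A.orderOf_z] at ha; omega

theorem comm3 {a b : G} (ha : orderOf a = 3) (hb : orderOf b = 3) (hab : a * b = b * a) :
    b = a ∨ b = a⁻¹ := by
  apply A.cube_one a b ha hb
  rw [(show Commute a b from hab).mul_pow, ← ha, pow_orderOf_eq_one, ha, ← hb, pow_orderOf_eq_one,
    one_mul]

theorem z_mul_not_three {a : G} (ha : orderOf a = 3) : orderOf (z * a) ≠ 3 := by
  intro h
  have h1 : (z * a) ^ 3 = 1 := by rw [← h, pow_orderOf_eq_one]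
  have e1 : a ^ 3 = 1 := by rw [← ha, pow_orderOf_eq_one]
  have e2 : z ^ 3 = z := by rw [pow_three, A.z_sq, mul_one]
  rw [(show Commute z a from A.z_central a).mul_pow, e1, e2, mul_one] at h1
  exact A.z_ne h1

theorem opp_ne {u y : G} (hu : orderOf u = 3) (h : Opp z u y) : y ≠ u ∧ y ≠ u⁻¹ := by
  constructor
  · intro h1
    rw [h1] at h
    unfold Opp at h
    have : (u * u) ^ 2 = u := by
      have h3 : u ^ 3 = 1 := by rw [← hu, pow_orderOf_eq_one]
      calc (u * u) ^ 2 = u ^ 3 * u := by simp only [pow_two, pow_three, mul_assoc]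
        _ = u := by rw [h3, one_mul]
    rw [this] at h
    exact (A.ne_of_three hu).2 h
  · intro h1
    rw [h1] at h
    unfold Opp at h
    rw [mul_inv_cancel, one_pow] at h
    exact A.z_ne h.symm

theorem opp_symm {a b : G} (h : Opp z a b) : Opp z b a := by
  unfold Opp at h ⊢
  have : (b * a) ^ 2 = a⁻¹ * (a * b) ^ 2 * a := by simp only [pow_two]; group
  rw [this, h, mul_assoc, A.z_central a, ← mul_assoc, inv_mul_cancel, one_mul]

end ZsAx

/-! ### charts -/

/-- bundled chart data -/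
structure CD (z : G) (K : Subgroup G) (n : ℕ) where
  ψ : G → Equiv.Perm (Fin n)
  mul : ∀ x ∈ K, ∀ y ∈ K, ψ (x * y) = ψ x * ψ y
  ker : ∀ x ∈ K, ψ x = 1 ↔ x = 1 ∨ x = z
  zmem : z ∈ K

theorem Chart.exists_cd {K : Subgroup G} {n N : ℕ} (h : Chart z K n N) :
    Nat.card K = N ∧ Nonempty (CD z K n) := by
  obtain ⟨hz, hN, ψ, hmul, hker⟩ := h
  exact ⟨hN, ⟨⟨ψ, hmul, hker, hz⟩⟩⟩

namespace CD

variable {K : Subgroup G} {n : ℕ} (C : CD z K n)

theorem map_one : C.ψ 1 = 1 := (C.ker 1 K.one_mem).mpr (Or.inl rfl)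

theorem map_z : C.ψ z = 1 := (C.ker z C.zmem).mpr (Or.inr rfl)

theorem map_inv {x : G} (hx : x ∈ K) : C.ψ x⁻¹ = (C.ψ x)⁻¹ := by
  rw [eq_inv_iff_mul_eq_one, ← C.mul _ (K.inv_mem hx) _ hx, inv_mul_cancel, C.map_one]

theorem map_pow {x : G} (hx : x ∈ K) (m : ℕ) : C.ψ (x ^ m) = (C.ψ x) ^ m := by
  induction m with
  | zero => rw [pow_zero, pow_zero, C.map_one]
  | succ m ih => rw [pow_succ, pow_succ, C.mul _ (K.pow_mem hx m) _ hx, ih]

theorem eq_or {x y : G} (hx : x ∈ K) (hy : y ∈ K) (h : C.ψ x = C.ψ y) : x = y ∨ x = z * y := by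
  have h1 : C.ψ (x * y⁻¹) = 1 := by
    rw [C.mul _ hx _ (K.inv_mem hy), C.map_inv hy, h, mul_inv_cancel]
  rcases (C.ker _ (K.mul_mem hx (K.inv_mem hy))).mp h1 with h2 | h2
  · left; exact mul_inv_eq_one.mp h2
  · right; exact mul_inv_eq_iff_eq_mul.mp h2

variable (A : ZsAx G z)
include A

theorem is3 {a : G} (ha : a ∈ K) (h3 : orderOf a = 3) : Is3 (C.ψ a) := by
  constructor
  · intro h
    rcases (C.ker a ha).mp h with h1 | h1
    · exact (A.ne_of_three h3).1 h1
    · exact (A.ne_of_three h3).2 h1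
  · rw [← C.map_pow ha, ← h3, pow_orderOf_eq_one, C.map_one]

theorem inj3 {a b : G} (ha : a ∈ K) (hb : b ∈ K) (h3a : orderOf a = 3) (h3b : orderOf b = 3)
    (h : C.ψ a = C.ψ b) : a = b := by
  rcases C.eq_or ha hb h with h1 | h1
  · exact h1
  · exfalso
    rw [h1] at h3a
    exact A.z_mul_not_three h3b h3a

theorem opp_iff {a b : G} (ha : a ∈ K) (hb : b ∈ K) : OppP (C.ψ a) (C.ψ b) ↔ Opp z a b := by
  have hab : a * b ∈ K := K.mul_mem ha hb
  unfold OppP Opp
  rw [← C.mul a ha b hb, ← C.map_pow hab]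
  constructor
  · rintro ⟨h1, h2⟩
    rcases (C.ker _ (K.pow_mem hab 2)).mp h1 with h3 | h3
    · exfalso
      apply h2
      rw [C.ker _ hab]
      apply A.inv_unique
      rw [← pow_two]; exact h3
    · exact h3
  · intro h
    constructor
    · rw [h, C.map_z]
    · intro h1
      rcases (C.ker _ hab).mp h1 with h2 | h2
      · rw [h2, one_pow] at h; exact A.z_ne h.symm
      · rw [h2, pow_two, A.z_sq] at h; exact A.z_ne h.symm

theorem rel_iff {a b : G} (ha : a ∈ K) (hb : b ∈ K) (h3a : orderOf a = 3) (h3b : orderOf b = 3) :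
    RelP (C.ψ a) (C.ψ b) ↔ Rel z a b := by
  have hab : a * b ∈ K := K.mul_mem ha hb
  unfold RelP Rel
  rw [← C.mul a ha b hb, ← C.map_pow hab, ← C.map_pow hab]
  constructor
  · rintro (h1 | h1)
    · rcases (C.ker _ (K.pow_mem hab 2)).mp h1 with h3 | h3
      · rw [pow_two] at h3
        rcases A.inv_unique _ h3 with h4 | h4
        · right; left; exact eq_inv_of_mul_eq_one_right h4
        · exfalso
          have : b = z * a⁻¹ := by
            rw [A.z_central a⁻¹, ← h4]; group
          have h5 : orderOf a⁻¹ = 3 := by rw [orderOf_inv]; exact h3a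
          rw [this] at h3b
          exact A.z_mul_not_three h5 h3b
      · right; right; left; exact h3
    · rcases (C.ker _ (K.pow_mem hab 3)).mp h1 with h3 | h3
      · rcases A.cube_one a b h3a h3b h3 with h4 | h4
        · left; exact h4
        · right; left; exact h4
      · right; right; right; exact h3
  · rintro (h | h | h | h)
    · right
      rw [h, ← pow_two, ← pow_mul, (show 2 * 3 = 3 * 2 by norm_num), pow_mul, ← h3a,
        pow_orderOf_eq_one, one_pow, C.map_one]
    · left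
      rw [h, mul_inv_cancel, one_pow, C.map_one]
    · left; rw [h, C.map_z]
    · right; rw [h, C.map_z]

end CD

end Cfsg.Agent.Lib.Helper17.Zs
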