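import Mathlib
import Cfsg.Agent.Lib.Helper17.ZsGeomA

set_option autoImplicit false

namespace Cfsg.Agent.Lib.Helper17.Zs

open Subgroup

variable {G : Type*} [Group G] {z : G}

/-! ### types of good subgroups -/

section types
variable (A : ZsAx G z)
include A

/-- a good subgroup containing two non-commuting elements of order three has a chart -/
theorem Good.chart_of_noncomm {K : Subgroup G} (hK : Good z K) {a b : G} (ha : a ∈ K)
    (hb : b ∈ K) (h3a : orderOf a = 3) (h3b : orderOf b = 3) (hne : b ≠ a) (hne' : b ≠ a⁻¹) :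
    Chart z K 4 24 ∨ Chart z K 5 120 := by
  rcases hK with h | h
  · exfalso
    rcases A.comm3 h3a h3b (h a ha b hb) with h1 | h1
    · exact hne h1
    · exact hne' h1
  · exact h

/-- in a chart of degree four all pairs are related -/
theorem rel_of_chart_four {K : Subgroup G} (hK : Chart z K 4 24) {a b : G} (ha : a ∈ K)
    (hb : b ∈ K) (h3a : orderOf a = 3) (h3b : orderOf b = 3) : Rel z a b := by
  obtain ⟨-, ⟨C⟩⟩ := hK.exists_cd
  rw [← C.rel_iff A ha hb h3a h3b]
  exact F1 _ _ (C.is3 A ha h3a) (C.is3 A hb h3b)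

/-- a good subgroup containing an unrelated pair is of type `2.A₅` -/
theorem Good.chart_five_of_golden {K : Subgroup G} (hK : Good z K) {a b : G} (ha : a ∈ K)
    (hb : b ∈ K) (h3a : orderOf a = 3) (h3b : orderOf b = 3) (hg : ¬ Rel z a b) :
    Chart z K 5 120 := by
  have hne : b ≠ a := fun h => hg (Or.inl h)
  have hne' : b ≠ a⁻¹ := fun h => hg (Or.inr (Or.inl h))
  rcases hK.chart_of_noncomm A ha hb h3a h3b hne hne' with h | h
  · exact (hg (rel_of_chart_four A h ha hb h3a h3b)).elim
  · exact h

/-- strict containment forces the types `2.A₄ < 2.A₅` -/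
theorem Good.chart_five_of_lt [Finite G] {H K : Subgroup G} (hH : Good z H) (hK : Good z K)
    (hle : H ≤ K) {x : G} (hxK : x ∈ K) (hxH : x ∉ H) {a b : G} (ha : a ∈ H) (hb : b ∈ H)
    (h3a : orderOf a = 3) (h3b : orderOf b = 3) (hne : b ≠ a) (hne' : b ≠ a⁻¹) :
    Chart z K 5 120 := by
  have hHc := hH.chart_of_noncomm A ha hb h3a h3b hne hne'
  have hKc := hK.chart_of_noncomm A (hle ha) (hle hb) h3a h3b hne hne'
  have hdvd : Nat.card H ∣ Nat.card K := Subgroup.card_dvd_of_le hle
  have hneq : Nat.card H ≠ Nat.card K := by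
    intro h
    have := Subgroup.eq_of_le_of_card_ge hle h.ge
    rw [this] at hxH
    exact hxH hxK
  rcases hKc with hK4 | hK5
  · exfalso
    rcases hHc with hH4 | hH5
    · exact hneq (hH4.2.1.trans hK4.2.1.symm)
    · rw [hH5.2.1, hK4.2.1] at hdvd
      omega
  · exact hK5

end types

/-! ### the candidate lists -/

section cand

theorem cand_mem_closure {u v y : G} (h : y ∈ cand u v) : y ∈ closure ({u, v} : Set G) := by
  have hu : u ∈ closure ({u, v} : Set G) := subset_closure (by simp)
  have hv : v ∈ closure ({u, v} : Set G) := subset_closure (by simp)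
  simp only [cand, List.mem_cons, List.not_mem_nil, or_false] at h
  rcases h with rfl | rfl | rfl | rfl | rfl | rfl
  · exact hv
  · exact inv_mem hv
  · exact mul_mem (mul_mem (inv_mem hu) hv) hu
  · exact mul_mem (mul_mem (inv_mem hu) (inv_mem hv)) hu
  · exact mul_mem (mul_mem hu hv) (inv_mem hu)
  · exact mul_mem (mul_mem hu (inv_mem hv)) (inv_mem hu)

theorem mem_closure_of_cand {u v y : G} (h : y ∈ cand u v) : v ∈ closure ({u, y} : Set G) := by
  have hu : u ∈ closure ({u, y} : Set G) := subset_closure (by simp)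
  have hy : y ∈ closure ({u, y} : Set G) := subset_closure (by simp)
  simp only [cand, List.mem_cons, List.not_mem_nil, or_false] at h
  rcases h with h | h | h | h | h | h
  · rw [← h]; exact hy
  · have : v = y⁻¹ := by rw [h, inv_inv]
    rw [this]; exact inv_mem hy
  · have : v = u * y * u⁻¹ := by rw [h]; group
    rw [this]; exact mul_mem (mul_mem hu hy) (inv_mem hu)
  · have : v = u * y⁻¹ * u⁻¹ := by rw [h]; group
    rw [this]; exact mul_mem (mul_mem hu (inv_mem hy)) (inv_mem hu)
  · have : v = u⁻¹ * y * u := by rw [h]; group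
    rw [this]; exact mul_mem (mul_mem (inv_mem hu) hy) hu
  · have : v = u⁻¹ * y⁻¹ * u := by rw [h]; group
    rw [this]; exact mul_mem (mul_mem (inv_mem hu) (inv_mem hy)) hu

theorem closure_pair_cand {u v y : G} (h : y ∈ cand u v) :
    closure ({u, y} : Set G) = closure ({u, v} : Set G) := by
  apply le_antisymm
  · rw [closure_le]
    intro x hx
    rcases hx with rfl | rfl
    · exact subset_closure (by simp)
    · exact cand_mem_closure h
  · rw [closure_le]
    intro x hx
    rcases hx with rfl | rfl
    · exact subset_closure (by simp)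
    · exact mem_closure_of_cand h

theorem orderOf_conj' (g x : G) : orderOf (g * x * g⁻¹) = orderOf x :=
  (MulAut.conj g).orderOf_eq x

theorem orderOf_conj'' (g x : G) : orderOf (g⁻¹ * x * g) = orderOf x := by
  have := orderOf_conj' g⁻¹ x
  rwa [inv_inv] at this

theorem cand_order {u v y : G} (hv : orderOf v = 3) (h : y ∈ cand u v) : orderOf y = 3 := by
  simp only [cand, List.mem_cons, List.not_mem_nil, or_false] at h
  rcases h with rfl | rfl | rfl | rfl | rfl | rfl
  · exact hv
  · rw [orderOf_inv]; exact hv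
  · rw [orderOf_conj'']; exact hv
  · rw [orderOf_conj'', orderOf_inv]; exact hv
  · rw [orderOf_conj']; exact hv
  · rw [orderOf_conj', orderOf_inv]; exact hv

theorem cand_map {K : Subgroup G} {n : ℕ} (C : CD z K n) {u v : G} (hu : u ∈ K) (hv : v ∈ K) :
    (cand u v).map C.ψ = cand (C.ψ u) (C.ψ v) := by
  have hu' := K.inv_mem hu
  have hv' := K.inv_mem hv
  simp only [cand, List.map_cons, List.map_nil]
  rw [C.mul _ (K.mul_mem hu' hv) _ hu, C.mul _ hu' _ hv,
    C.mul _ (K.mul_mem hu' hv') _ hu, C.mul _ hu' _ hv',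
    C.mul _ (K.mul_mem hu hv) _ hu', C.mul _ hu _ hv,
    C.mul _ (K.mul_mem hu hv') _ hu', C.mul _ hu _ hv', C.map_inv hu, C.map_inv hv]

end cand

end Cfsg.Agent.Lib.Helper17.Zs
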