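import Mathlib
import Cfsg.Agent.Lib.Helper17.ZsGeomB

set_option autoImplicit false

namespace Cfsg.Agent.Lib.Helper17.Zs

open Subgroup

variable {G : Type*} [Group G] {z : G}

section pre

theorem closure_pair_inv (u v : G) :
    closure ({u, v⁻¹} : Set G) = closure ({u, v} : Set G) :=
  closure_pair_cand (y := v⁻¹) (by simp [cand])

/-- `z` lies on every line through two opposite points -/
theorem z_mem_of_opp {u y : G} (h : Opp z u y) : z ∈ closure ({u, y} : Set G) := by
  unfold Opp at h
  rw [← h]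
  exact pow_mem (mul_mem (subset_closure (by simp)) (subset_closure (by simp))) 2

end pre

section g3
variable (A : ZsAx G z)
include A

/-- a related, non-equivalent point can be replaced by an opposite one on the same line -/
theorem exists_opp {u v : G} (hv : orderOf v = 3) (r : Rel z u v) (n : v ≠ u)
    (n' : v ≠ u⁻¹) (hu : orderOf u = 3) :
    ∃ y, orderOf y = 3 ∧ Opp z u y ∧ closure ({u, y} : Set G) = closure ({u, v} : Set G) := by
  rcases r with h | h | h | h
  · exact (n h).elim
  · exact (n' h).elim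
  · exact ⟨v, hv, h, rfl⟩
  · exact ⟨v⁻¹, by rw [orderOf_inv]; exact hv, A.same_opp u v hu hv h, closure_pair_inv u v⟩

theorem step2 [Finite G] {u y₁ v : G} (hu : orderOf u = 3) (hy₁ : orderOf y₁ = 3)
    (hv : orderOf v = 3) (o1 : Opp z u y₁) (r : Rel z u v)
    (hvR : v ∉ closure ({u, y₁} : Set G)) :
    ∃ y, orderOf y = 3 ∧ Opp z u y ∧ Opp z y₁ y ∧
      closure ({u, y} : Set G) = closure ({u, v} : Set G) := by
  obtain ⟨H, hH⟩ : ∃ H : Subgroup G, H = closure ({u, y₁, v} : Set G) := ⟨_, rfl⟩
  have huH : u ∈ H := by rw [hH]; exact subset_closure (by simp)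
  have hyH : y₁ ∈ H := by rw [hH]; exact subset_closure (by simp)
  have hvH : v ∈ H := by rw [hH]; exact subset_closure (by simp)
  have hRH : closure ({u, y₁} : Set G) ≤ H := by
    rw [closure_le]
    intro x hx
    rcases hx with rfl | rfl
    · exact huH
    · exact hyH
  have hgood : Good z H := by rw [hH]; exact A.triple u y₁ v hu hy₁ hv o1.rel r
  have hne := A.opp_ne hu o1
  have hch : Chart z H 5 120 :=
    Good.chart_five_of_lt A (A.pair u y₁ hu hy₁) hgood hRH hvH hvR
      (subset_closure (by simp)) (subset_closure (by simp)) hu hy₁ hne.1 hne.2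
  obtain ⟨-, ⟨C⟩⟩ := hch.exists_cd
  have hvu : v ≠ u := fun h => hvR (h ▸ subset_closure (by simp))
  have hvu' : v ≠ u⁻¹ := fun h => hvR (h ▸ inv_mem (subset_closure (by simp)))
  have key := F6 (C.ψ u) (C.ψ y₁) (C.ψ v) (C.is3 A huH hu) (C.is3 A hyH hy₁) (C.is3 A hvH hv)
    ((C.opp_iff A huH hyH).mpr o1) ((C.rel_iff A huH hvH hu hv).mpr r)
    (fun h => hvu (C.inj3 A hvH huH hv hu h))
    (fun h => hvu' (C.inj3 A hvH (H.inv_mem huH) hv (by rw [orderOf_inv]; exact hu)
      (by rw [h, C.map_inv huH])))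
  have hcandH : ∀ {a b y : G}, a ∈ H → b ∈ H → y ∈ cand a b → y ∈ H := by
    intro a b y ha hb hy
    have h1 := cand_mem_closure hy
    have h2 : closure ({a, b} : Set G) ≤ H := by
      rw [closure_le]
      intro x hx
      rcases hx with rfl | rfl
      · exact ha
      · exact hb
    exact h2 h1
  rcases key with ⟨y', hy', o2, o3⟩ | h
  · rw [← cand_map C huH hvH, List.mem_map] at hy'
    obtain ⟨y, hy, rfl⟩ := hy'
    have hyH' : y ∈ H := hcandH huH hvH hy
    exact ⟨y, cand_order hv hy, (C.opp_iff A huH hyH').mp o2, (C.opp_iff A hyH hyH').mp o3,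
      closure_pair_cand hy⟩
  · exfalso
    rw [← cand_map C huH hyH, List.mem_map] at h
    obtain ⟨y, hy, hyv⟩ := h
    have hyH' : y ∈ H := hcandH huH hyH hy
    have : y = v := C.inj3 A hyH' hvH (cand_order hy₁ hy) hv hyv
    rw [← this] at hvR
    exact hvR (cand_mem_closure hy)

end g3

end Cfsg.Agent.Lib.Helper17.Zs
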