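import Mathlib
import Cfsg.Agent.Lib.Helper17.ZsGeomC

set_option autoImplicit false

namespace Cfsg.Agent.Lib.Helper17.Zs

open Subgroup

variable {G : Type*} [Group G] {z : G}

section pre

theorem pair_le {K : Subgroup G} {a b : G} (ha : a ∈ K) (hb : b ∈ K) :
    closure ({a, b} : Set G) ≤ K := by
  rw [closure_le]
  intro x hx
  rcases hx with rfl | rfl
  · exact ha
  · exact hb

end pre

section g3
variable (A : ZsAx G z)
include A

/-- **(G3)**: at most two lines through a point. -/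
theorem g3 [Finite G] {u v₁ v₂ v₃ : G} (hu : orderOf u = 3) (hv₁ : orderOf v₁ = 3)
    (hv₂ : orderOf v₂ = 3) (hv₃ : orderOf v₃ = 3) (r₁ : Rel z u v₁) (r₂ : Rel z u v₂)
    (r₃ : Rel z u v₃) (n₁ : v₁ ≠ u) (n₁' : v₁ ≠ u⁻¹)
    (h21 : v₂ ∉ closure ({u, v₁} : Set G)) (h31 : v₃ ∉ closure ({u, v₁} : Set G))
    (h32 : v₃ ∉ closure ({u, v₂} : Set G)) : False := by
  obtain ⟨y₁, hy₁, o1, e1⟩ := exists_opp A hv₁ r₁ n₁ n₁' hu
  rw [← e1] at h21 h31
  obtain ⟨y₂, hy₂, o2, o12, e2⟩ := step2 A hu hy₁ hv₂ o1 r₂ h21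
  obtain ⟨y₃, hy₃, o3, o13, e3⟩ := step2 A hu hy₁ hv₃ o1 r₃ h31
  -- `y₃` is not on the line `u y₂`
  have h32' : y₃ ∉ closure ({u, y₂} : Set G) := by
    intro h
    apply h32
    rw [← e2]
    have hle : closure ({u, y₃} : Set G) ≤ closure ({u, y₂} : Set G) :=
      pair_le (subset_closure (by simp)) h
    apply hle
    rw [e3]
    exact subset_closure (by simp)
  obtain ⟨H, hH⟩ : ∃ H : Subgroup G, H = closure ({u, y₂, y₃} : Set G) := ⟨_, rfl⟩
  have huH : u ∈ H := by rw [hH]; exact subset_closure (by simp)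
  have hy₂H : y₂ ∈ H := by rw [hH]; exact subset_closure (by simp)
  have hy₃H : y₃ ∈ H := by rw [hH]; exact subset_closure (by simp)
  have hgood : Good z H := by rw [hH]; exact A.triple u y₂ y₃ hu hy₂ hy₃ o2.rel o3.rel
  have hne2 := A.opp_ne hu o2
  have hch : Chart z H 5 120 :=
    Good.chart_five_of_lt A (A.pair u y₂ hu hy₂) hgood (pair_le huH hy₂H) hy₃H h32'
      (subset_closure (by simp)) (subset_closure (by simp)) hu hy₂ hne2.1 hne2.2
  obtain ⟨hcardH, ⟨C⟩⟩ := hch.exists_cd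
  have i_u := C.is3 A huH hu
  have i_2 := C.is3 A hy₂H hy₂
  have i_3 := C.is3 A hy₃H hy₃
  have p2 := (C.opp_iff A huH hy₂H).mpr o2
  have p3 := (C.opp_iff A huH hy₃H).mpr o3
  have hzR : z ∈ closure ({u, y₂} : Set G) := z_mem_of_opp o2
  have hR2 : closure ({u, y₂} : Set G) ≤ H := pair_le huH hy₂H
  have huR : u ∈ closure ({u, y₂} : Set G) := subset_closure (by simp)
  have hyR : y₂ ∈ closure ({u, y₂} : Set G) := subset_closure (by simp)
  -- the case `(η₂ η₃)³ = 1`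
  have case3 : (C.ψ y₂ * C.ψ y₃) ^ 3 = 1 → False := by
    intro c
    rcases F7 _ _ _ i_u i_2 i_3 p2 p3 c with h | h | h
    · have := C.inj3 A hy₃H hy₂H hy₃ hy₂ h
      exact h32' (this ▸ hyR)
    · have hm : u⁻¹ * y₂ * u ∈ H := H.mul_mem (H.mul_mem (H.inv_mem huH) hy₂H) huH
      have : y₃ = u⁻¹ * y₂ * u := by
        apply C.inj3 A hy₃H hm hy₃ (by rw [orderOf_conj'']; exact hy₂)
        rw [h, C.mul _ (H.mul_mem (H.inv_mem huH) hy₂H) _ huH, C.mul _ (H.inv_mem huH) _ hy₂H,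
          C.map_inv huH]
      exact h32' (this ▸ mul_mem (mul_mem (inv_mem huR) hyR) huR)
    · have hm : u * y₂ * u⁻¹ ∈ H := H.mul_mem (H.mul_mem huH hy₂H) (H.inv_mem huH)
      have : y₃ = u * y₂ * u⁻¹ := by
        apply C.inj3 A hy₃H hm hy₃ (by rw [orderOf_conj']; exact hy₂)
        rw [h, C.mul _ (H.mul_mem huH hy₂H) _ (H.inv_mem huH), C.mul _ huH _ hy₂H,
          C.map_inv huH]
      exact h32' (this ▸ mul_mem (mul_mem huR hyR) (inv_mem huR))
  rcases F2 _ _ i_2 i_3 with hrel | h5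
  · rcases hrel with h2 | h3
    · by_cases h1 : C.ψ y₂ * C.ψ y₃ = 1
      · -- `y₃ = y₂⁻¹` up to `z`
        rw [← C.mul _ hy₂H _ hy₃H] at h1
        rcases (C.ker _ (H.mul_mem hy₂H hy₃H)).mp h1 with h | h
        · have : y₃ = y₂⁻¹ := eq_inv_of_mul_eq_one_right h
          exact h32' (this ▸ inv_mem hyR)
        · have : y₃ = y₂⁻¹ * z := by rw [← h]; group
          exact h32' (this ▸ mul_mem (inv_mem hyR) hzR)
      · have o23 : Opp z y₂ y₃ := (C.opp_iff A hy₂H hy₃H).mp ⟨h2, h1⟩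
        exact A.no_four u y₁ y₂ y₃ hu hy₁ hy₂ hy₃ o1 o2 o3 o12 o13 o23
    · exact case3 h3
  · -- the golden case
    have hgold : ¬ Rel z y₂ y₃ := by
      intro hr
      rcases (C.rel_iff A hy₂H hy₃H hy₂ hy₃).mpr hr with h2 | h3
      · -- order divides 2 and 5
        have h1 : C.ψ y₂ * C.ψ y₃ = 1 := by
          have : (C.ψ y₂ * C.ψ y₃) ^ 1 = 1 := by
            have e : (1 : ℕ) = 5 - 2 * 2 := by norm_num
            calc (C.ψ y₂ * C.ψ y₃) ^ 1
                = (C.ψ y₂ * C.ψ y₃) ^ 5 * (((C.ψ y₂ * C.ψ y₃) ^ 2) ^ 2)⁻¹ := by group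
              _ = 1 := by rw [h5, h2, one_pow, inv_one, one_mul]
          rwa [pow_one] at this
        rw [← C.mul _ hy₂H _ hy₃H] at h1
        rcases (C.ker _ (H.mul_mem hy₂H hy₃H)).mp h1 with h | h
        · have : y₃ = y₂⁻¹ := eq_inv_of_mul_eq_one_right h
          exact h32' (this ▸ inv_mem hyR)
        · have : y₃ = y₂⁻¹ * z := by rw [← h]; group
          exact h32' (this ▸ mul_mem (inv_mem hyR) hzR)
      · exact case3 h3
    obtain ⟨P, hP⟩ : ∃ P : Subgroup G, P = closure ({y₂, y₃} : Set G) := ⟨_, rfl⟩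
    have hPgood : Good z P := by rw [hP]; exact A.pair y₂ y₃ hy₂ hy₃
    have hPch := hPgood.chart_five_of_golden A (by rw [hP]; exact subset_closure (by simp))
      (by rw [hP]; exact subset_closure (by simp)) hy₂ hy₃ hgold
    have hPH : P = H := by
      apply Subgroup.eq_of_le_of_card_ge
      · rw [hP]; exact pair_le hy₂H hy₃H
      · rw [hPch.2.1, hcardH]
    obtain ⟨K', hK'⟩ : ∃ K' : Subgroup G, K' = closure ({y₁, y₂, y₃} : Set G) := ⟨_, rfl⟩
    have hK'good : Good z K' := by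
      rw [hK']; exact A.triple y₁ y₂ y₃ hy₁ hy₂ hy₃ o12.rel o13.rel
    have hy₂K : y₂ ∈ K' := by rw [hK']; exact subset_closure (by simp)
    have hy₃K : y₃ ∈ K' := by rw [hK']; exact subset_closure (by simp)
    have hK'ch := hK'good.chart_five_of_golden A hy₂K hy₃K hy₂ hy₃ hgold
    have hPK : P = K' := by
      apply Subgroup.eq_of_le_of_card_ge
      · rw [hP]; exact pair_le hy₂K hy₃K
      · rw [hPch.2.1, hK'ch.2.1]
    have hy₁H : y₁ ∈ H := by
      rw [← hPH, hPK, hK']; exact subset_closure (by simp)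
    have i_1 := C.is3 A hy₁H hy₁
    have p1 := (C.opp_iff A huH hy₁H).mpr o1
    have p12 := (C.opp_iff A hy₁H hy₂H).mpr o12
    have p13 := (C.opp_iff A hy₁H hy₃H).mpr o13
    have := F8 _ _ _ _ i_u i_1 i_2 i_3 p1 p2 p3 p12 p13
    have := C.inj3 A hy₂H hy₃H hy₂ hy₃ this
    exact h32' (this ▸ hyR)

end g3

end Cfsg.Agent.Lib.Helper17.Zs
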