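import Mathlib
import Cfsg.Agent.Lib.Helper17.ZsGeomD

set_option autoImplicit false

namespace Cfsg.Agent.Lib.Helper17.Zs

open Subgroup

variable {G : Type*} [Group G] {z : G}

section main
variable (A : ZsAx G z)
include A

/-- consequences of an unrelated ("golden") pair `u, c` -/
theorem golden_words {u c : G} (hu : orderOf u = 3) (hc : orderOf c = 3) (hg : ¬ Rel z u c) :
    (∃ w, orderOf w = 3 ∧ Rel z u w ∧ w ≠ u ∧ w ≠ u⁻¹) ∧
    ∃ W₁ W₂, orderOf W₁ = 3 ∧ orderOf W₂ = 3 ∧ Rel z u W₁ ∧ Rel z u W₂ ∧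
      (c = W₁ * W₂ ∨ c = z * (W₁ * W₂)) := by
  obtain ⟨K, hK⟩ : ∃ K : Subgroup G, K = closure ({u, c} : Set G) := ⟨_, rfl⟩
  have huK : u ∈ K := by rw [hK]; exact subset_closure (by simp)
  have hcK : c ∈ K := by rw [hK]; exact subset_closure (by simp)
  have hgood : Good z K := by rw [hK]; exact A.pair u c hu hc
  have hch := hgood.chart_five_of_golden A huK hcK hu hc hg
  obtain ⟨-, ⟨C⟩⟩ := hch.exists_cd
  have i_u := C.is3 A huK hu
  have i_c := C.is3 A hcK hc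
  have hg' : ¬ RelP (C.ψ u) (C.ψ c) := fun h => hg ((C.rel_iff A huK hcK hu hc).mp h)
  have hu' := K.inv_mem huK
  have hc' := K.inv_mem hcK
  constructor
  · obtain ⟨f1, f2, f3⟩ := F3 _ _ i_u i_c hg'
    have hwK : c * u * c⁻¹ ∈ K := K.mul_mem (K.mul_mem hcK huK) hc'
    have hw3 : orderOf (c * u * c⁻¹) = 3 := by rw [orderOf_conj']; exact hu
    have hψ : C.ψ (c * u * c⁻¹) = C.ψ c * C.ψ u * (C.ψ c)⁻¹ := by
      rw [C.mul _ (K.mul_mem hcK huK) _ hc', C.mul _ hcK _ huK, C.map_inv hcK]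
    refine ⟨c * u * c⁻¹, hw3, ?_, ?_, ?_⟩
    · rw [← C.rel_iff A huK hwK hu hw3, hψ]; exact f1
    · intro h; apply f2; rw [← hψ, h]
    · intro h; apply f3; rw [← hψ, h, C.map_inv huK]
  · obtain ⟨f1, f2, f3⟩ := F4 _ _ i_u i_c hg'
    have hcu : c * u ∈ K := K.mul_mem hcK huK
    have huc : u⁻¹ * c ∈ K := K.mul_mem hu' hcK
    have hW1K : (c * u) * c * (c * u)⁻¹ ∈ K := K.mul_mem (K.mul_mem hcu hcK) (K.inv_mem hcu)
    have hW2K : (u⁻¹ * c) * u⁻¹ * (u⁻¹ * c)⁻¹ ∈ K :=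
      K.mul_mem (K.mul_mem huc hu') (K.inv_mem huc)
    have hW13 : orderOf ((c * u) * c * (c * u)⁻¹) = 3 := by rw [orderOf_conj']; exact hc
    have hW23 : orderOf ((u⁻¹ * c) * u⁻¹ * (u⁻¹ * c)⁻¹) = 3 := by
      rw [orderOf_conj', orderOf_inv]; exact hu
    have hψ1 : C.ψ ((c * u) * c * (c * u)⁻¹)
        = (C.ψ c * C.ψ u) * C.ψ c * (C.ψ c * C.ψ u)⁻¹ := by
      rw [C.mul _ (K.mul_mem hcu hcK) _ (K.inv_mem hcu), C.mul _ hcu _ hcK, C.map_inv hcu,
        C.mul _ hcK _ huK]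
    have hψ2 : C.ψ ((u⁻¹ * c) * u⁻¹ * (u⁻¹ * c)⁻¹)
        = ((C.ψ u)⁻¹ * C.ψ c) * (C.ψ u)⁻¹ * ((C.ψ u)⁻¹ * C.ψ c)⁻¹ := by
      rw [C.mul _ (K.mul_mem huc hu') _ (K.inv_mem huc), C.mul _ huc _ hu', C.map_inv huc,
        C.mul _ hu' _ hcK, C.map_inv huK]
    refine ⟨_, _, hW13, hW23, ?_, ?_, ?_⟩
    · rw [← C.rel_iff A huK hW1K hu hW13, hψ1]; exact f2
    · rw [← C.rel_iff A huK hW2K hu hW23, hψ2]; exact f3
    · apply C.eq_or hcK (K.mul_mem hW1K hW2K)
      rw [C.mul _ hW1K _ hW2K, hψ1, hψ2]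
      exact f1

/-- if all neighbours of `u` lie in `K ∋ z`, then so do all elements of order three -/
theorem all_mem_of_nbrs {u : G} (hu : orderOf u = 3) (K : Subgroup G) (hz : z ∈ K)
    (hn : ∀ v : G, orderOf v = 3 → Rel z u v → v ∈ K) (c : G) (hc : orderOf c = 3) : c ∈ K := by
  by_cases hr : Rel z u c
  · exact hn c hc hr
  · obtain ⟨-, W₁, W₂, h1, h2, r1, r2, h⟩ := golden_words A hu hc hr
    have m1 := hn W₁ h1 r1
    have m2 := hn W₂ h2 r2
    rcases h with h | h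
    · rw [h]; exact K.mul_mem m1 m2
    · rw [h]; exact K.mul_mem hz (K.mul_mem m1 m2)

/-- **Core theorem**: the subgroup generated by all elements of order three is good. -/
theorem good_closure_three [Finite G] : Good z (closure {g : G | orderOf g = 3}) := by
  obtain ⟨L, hL⟩ : ∃ L : Subgroup G, L = closure {g : G | orderOf g = 3} := ⟨_, rfl⟩
  rw [← hL]
  have hmemL : ∀ g : G, orderOf g = 3 → g ∈ L := by
    intro g hg; rw [hL]; exact subset_closure hg
  have hLle : ∀ K : Subgroup G, (∀ c : G, orderOf c = 3 → c ∈ K) → L ≤ K := by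
    intro K hK
    rw [hL, closure_le]
    intro g hg
    exact hK g hg
  by_cases hT : ∃ u : G, orderOf u = 3
  swap
  · left
    push Not at hT
    have : L = ⊥ := by
      rw [eq_bot_iff]
      apply hLle
      intro c hc
      exact (hT c hc).elim
    intro x hx y hy
    rw [this, mem_bot] at hx hy
    rw [hx, hy]
  obtain ⟨u, hu⟩ := hT
  by_cases h0 : ∀ v : G, orderOf v = 3 → Rel z u v → v = u ∨ v = u⁻¹
  · -- Case 0
    left
    have hall : ∀ c : G, orderOf c = 3 → c ∈ zpowers u := by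
      intro c hc
      have hr : Rel z u c := by
        by_contra hr
        obtain ⟨⟨w, hw, r, n, n'⟩, -⟩ := golden_words A hu hc hr
        rcases h0 w hw r with h | h
        · exact n h
        · exact n' h
      rcases h0 c hc hr with h | h
      · rw [h]; exact mem_zpowers u
      · rw [h]; exact inv_mem (mem_zpowers u)
    have hle := hLle _ hall
    intro x hx y hy
    obtain ⟨i, rfl⟩ := mem_zpowers_iff.mp (hle hx)
    obtain ⟨j, rfl⟩ := mem_zpowers_iff.mp (hle hy)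
    exact zpow_mul_comm u i j
  push Not at h0
  obtain ⟨v₁, hv₁, r₁, n₁, n₁'⟩ := h0
  obtain ⟨R₁, hR₁⟩ : ∃ R₁ : Subgroup G, R₁ = closure ({u, v₁} : Set G) := ⟨_, rfl⟩
  have huR : u ∈ R₁ := by rw [hR₁]; exact subset_closure (by simp)
  have hvR : v₁ ∈ R₁ := by rw [hR₁]; exact subset_closure (by simp)
  have hRgood : Good z R₁ := by rw [hR₁]; exact A.pair u v₁ hu hv₁
  have hzR : z ∈ R₁ := by
    rcases hRgood.chart_of_noncomm A huR hvR hu hv₁ n₁ n₁' with h | h
    · exact h.1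
    · exact h.1
  by_cases h1 : ∀ v : G, orderOf v = 3 → Rel z u v → v ∈ R₁
  · -- Case 1
    have hle := hLle R₁ (all_mem_of_nbrs A hu R₁ hzR h1)
    have hge : R₁ ≤ L := by
      rw [hR₁]; exact pair_le (hmemL u hu) (hmemL v₁ hv₁)
    rw [le_antisymm hle hge]
    exact hRgood
  · -- Case 2
    push Not at h1
    obtain ⟨v₂, hv₂, r₂, hv₂R⟩ := h1
    obtain ⟨K, hK⟩ : ∃ K : Subgroup G, K = closure ({u, v₁, v₂} : Set G) := ⟨_, rfl⟩
    have huK : u ∈ K := by rw [hK]; exact subset_closure (by simp)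
    have hv₁K : v₁ ∈ K := by rw [hK]; exact subset_closure (by simp)
    have hv₂K : v₂ ∈ K := by rw [hK]; exact subset_closure (by simp)
    have hKgood : Good z K := by rw [hK]; exact A.triple u v₁ v₂ hu hv₁ hv₂ r₁ r₂
    have hRK : R₁ ≤ K := by rw [hR₁]; exact pair_le huK hv₁K
    have hzK : z ∈ K := hRK hzR
    have hnb : ∀ v : G, orderOf v = 3 → Rel z u v → v ∈ K := by
      intro v hv r
      by_contra hvK
      apply g3 A hu hv₁ hv₂ hv r₁ r₂ r n₁ n₁'
      · rw [← hR₁]; exact hv₂R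
      · rw [← hR₁]; exact fun h => hvK (hRK h)
      · exact fun h => hvK (pair_le huK hv₂K h)
    have hle := hLle K (all_mem_of_nbrs A hu K hzK hnb)
    have hge : K ≤ L := by
      rw [hK, closure_le]
      intro x hx
      rcases hx with rfl | rfl | rfl
      · exact hmemL _ hu
      · exact hmemL _ hv₁
      · exact hmemL _ hv₂
    rw [le_antisymm hle hge]
    exact hKgood

end main

end Cfsg.Agent.Lib.Helper17.Zs
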