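/-
helper17: Zassenhaus cluster.  Automorphisms induced on a quotient of a normal subgroup:
if `L` is normal in `X` and `f : L →* Q` is onto with `X`-invariant kernel, conjugation induces
`indAut : X →* MulAut Q`.
-/
import Mathlib

set_option autoImplicit false

namespace Cfsg.Agent.Lib.Helper17.Zs

open Subgroup

section induced
variable {X : Type*} [Group X] (L : Subgroup X) [hn : L.Normal] {Q : Type*} [Group Q]
  (f : L →* Q) (hf : Function.Surjective f)
  (hker : ∀ g : X, ∀ x : L, f x = 1 → f (MulAut.conjNormal g x) = 1)

/-- the endomorphism of `Q` induced by conjugation with `g` -/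
noncomputable def indHom (g : X) : Q →* Q :=
  f.liftOfSurjective hf ⟨f.comp (MulAut.conjNormal g : MulAut L).toMonoidHom, fun x hx => by
    rw [MonoidHom.mem_ker] at hx ⊢
    exact hker g x hx⟩

theorem indHom_apply (g : X) (x : L) :
    indHom L f hf hker g (f x) = f (MulAut.conjNormal g x) :=
  MonoidHom.liftOfRightInverse_comp_apply _ _ _ _ x

theorem indHom_mul (g h : X) :
    indHom L f hf hker (g * h) = (indHom L f hf hker g).comp (indHom L f hf hker h) := by
  ext q
  obtain ⟨x, rfl⟩ := hf q
  rw [MonoidHom.comp_apply, indHom_apply, indHom_apply, indHom_apply, map_mul, MulAut.mul_apply]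

theorem indHom_one : indHom L f hf hker 1 = MonoidHom.id Q := by
  ext q
  obtain ⟨x, rfl⟩ := hf q
  rw [indHom_apply, map_one, MulAut.one_apply, MonoidHom.id_apply]

/-- the automorphism of `Q` induced by conjugation with `g` -/
noncomputable def indAut : X →* MulAut Q where
  toFun g :=
    { toFun := indHom L f hf hker g
      invFun := indHom L f hf hker g⁻¹
      left_inv := fun q => by
        have := indHom_mul L f hf hker g⁻¹ g
        rw [inv_mul_cancel, indHom_one] at this
        have h2 := congrArg (fun φ : Q →* Q => φ q) this
        exact h2.symm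
      right_inv := fun q => by
        have := indHom_mul L f hf hker g g⁻¹
        rw [mul_inv_cancel, indHom_one] at this
        have h2 := congrArg (fun φ : Q →* Q => φ q) this
        exact h2.symm
      map_mul' := map_mul _ }
  map_one' := by
    ext q
    show indHom L f hf hker 1 q = q
    rw [indHom_one]; rfl
  map_mul' g h := by
    ext q
    show indHom L f hf hker (g * h) q = indHom L f hf hker g (indHom L f hf hker h q)
    rw [indHom_mul]; rfl

theorem indAut_apply (g : X) (x : L) :
    indAut L f hf hker g (f x) = f (MulAut.conjNormal g x) :=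
  indHom_apply L f hf hker g x

theorem indAut_coe (l : L) : indAut L f hf hker (l : X) = MulAut.conj (f l) := by
  ext q
  obtain ⟨x, rfl⟩ := hf q
  rw [indAut_apply, MulAut.conj_apply, ← map_mul, ← map_inv, ← map_mul]
  exact congrArg f (Subtype.ext (by rw [MulAut.conjNormal_apply]; rfl))

theorem indAut_eq_one_iff (g : X) :
    indAut L f hf hker g = 1 ↔ ∀ x : L, f (MulAut.conjNormal g x) = f x := by
  constructor
  · intro h x
    rw [← indAut_apply L f hf hker, h, MulAut.one_apply]
  · intro h
    ext q
    obtain ⟨x, rfl⟩ := hf q
    rw [indAut_apply, h, MulAut.one_apply]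

end induced

end Cfsg.Agent.Lib.Helper17.Zs
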