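/-
helper17: Zassenhaus cluster.  From a chart on `L = ⟨elements of order three⟩` to a homomorphism
onto an alternating group, and the induced map `X →* MulAut (alternatingGroup (Fin n))` whose
kernel is the centralizer of `L`.
-/
import Mathlib
import Cfsg.Agent.Lib.Helper17.ZsGeomE
import Cfsg.Agent.Lib.Helper17.ZsQuot

set_option autoImplicit false

namespace Cfsg.Agent.Lib.Helper17.Zs

open Subgroup

/-- the subgroup generated by the elements of order three -/
def T3 (X : Type*) [Group X] : Subgroup X := closure {g : X | orderOf g = 3}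

section t3
variable {X : Type*} [Group X]

theorem mem_T3 {g : X} (hg : orderOf g = 3) : g ∈ T3 X := Subgroup.subset_closure hg

instance T3_normal : (T3 X).Normal := by
  constructor
  intro x hx g
  unfold T3 at hx ⊢
  induction hx using closure_induction with
  | mem y hy =>
    apply Subgroup.subset_closure
    show orderOf (g * y * g⁻¹) = 3
    have : g * y * g⁻¹ = MulAut.conj g y := by simp [MulAut.conj_apply]
    rw [this, MulEquiv.orderOf_eq]
    exact hy
  | one => simp
  | mul a b _ _ ha hb =>
    have : g * (a * b) * g⁻¹ = (g * a * g⁻¹) * (g * b * g⁻¹) := by group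
    rw [this]; exact mul_mem ha hb
  | inv a _ ha =>
    have : g * a⁻¹ * g⁻¹ = (g * a * g⁻¹)⁻¹ := by group
    rw [this]; exact inv_mem ha

theorem centralizer_T3 (g : X) :
    g ∈ centralizer (T3 X : Set X) ↔ ∀ t : X, orderOf t = 3 → t * g = g * t := by
  unfold T3
  rw [Subgroup.centralizer_closure, Subgroup.mem_centralizer_iff]
  rfl

end t3

section hom
variable {X : Type*} [Group X] {z : X}

/-- a chart of full size gives a homomorphism onto the alternating group with kernel `{1, z}` -/
theorem Chart.exists_hom {L : Subgroup X} {n N : ℕ} (hz1 : z ≠ 1) (hc : Chart z L n N)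
    (hN : Nat.card (Equiv.Perm (Fin n)) = N) :
    ∃ f : L →* alternatingGroup (Fin n), Function.Surjective f ∧
      ∀ x : L, f x = 1 ↔ (x : X) = 1 ∨ (x : X) = z := by
  obtain ⟨hzL, hcard, ψ, hmul, hker⟩ := hc
  let f₀ : L →* Equiv.Perm (Fin n) := MonoidHom.mk' (fun x => ψ x) (fun x y => hmul x x.2 y y.2)
  have hker₀ : ∀ x : L, f₀ x = 1 ↔ (x : X) = 1 ∨ (x : X) = z := fun x => hker x x.2
  have hk2 : Nat.card f₀.ker = 2 := by
    rw [Nat.card_eq_two_iff]
    refine ⟨⟨1, one_mem _⟩, ⟨⟨z, hzL⟩, ?_⟩, ?_, ?_⟩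
    · rw [MonoidHom.mem_ker, hker₀]; exact Or.inr rfl
    · intro h
      apply hz1
      have := congrArg (fun t : f₀.ker => ((t : L) : X)) h
      exact this.symm
    · ext ⟨x, hx⟩
      simp only [Set.mem_insert_iff, Set.mem_singleton_iff, Set.mem_univ, iff_true]
      rw [MonoidHom.mem_ker, hker₀] at hx
      rcases hx with hx | hx
      · left; apply Subtype.ext; apply Subtype.ext; exact hx
      · right; apply Subtype.ext; apply Subtype.ext; exact hx
  have h1 : 2 * Nat.card f₀.range = N := by
    rw [← hk2, ← Subgroup.index_ker, Subgroup.card_mul_index, hcard]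
  have h2 : f₀.range.index * Nat.card f₀.range = N := by
    rw [Subgroup.index_mul_card, hN]
  have hNpos : 0 < N := by rw [← hN]; exact Nat.card_pos
  have hidx : f₀.range.index = 2 := by
    have hR : 0 < Nat.card f₀.range := Nat.card_pos
    have : f₀.range.index * Nat.card f₀.range = 2 * Nat.card f₀.range := by rw [h1, h2]
    exact Nat.eq_of_mul_eq_mul_right hR this
  have hrange : f₀.range = alternatingGroup (Fin n) :=
    Equiv.Perm.eq_alternatingGroup_of_index_eq_two hidx
  refine ⟨f₀.codRestrict (alternatingGroup (Fin n)) (fun x => by rw [← hrange]; exact ⟨x, rfl⟩),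
    ?_, ?_⟩
  · rintro ⟨σ, hσ⟩
    rw [← hrange] at hσ
    obtain ⟨x, hx⟩ := hσ
    exact ⟨x, Subtype.ext hx⟩
  · intro x
    rw [← hker₀ x]
    constructor
    · intro h
      exact congrArg Subtype.val h
    · intro h
      exact Subtype.ext h

variable (A : ZsAx X z)
include A

/-- the map to the automorphism group of the alternating group induced by a chart on `T3 X` -/
theorem exists_indAut {n N : ℕ} (hc : Chart z (T3 X) n N)
    (hN : Nat.card (Equiv.Perm (Fin n)) = N) :
    ∃ (f : T3 X →* alternatingGroup (Fin n)) (Φ : X →* MulAut (alternatingGroup (Fin n))),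
      Function.Surjective f ∧ (∀ x : T3 X, f x = 1 ↔ (x : X) = 1 ∨ (x : X) = z) ∧
      Φ.ker = centralizer (T3 X : Set X) ∧ (∀ l : T3 X, Φ (l : X) = MulAut.conj (f l)) ∧
      ∀ (g : X) (x : T3 X), Φ g (f x) = f (MulAut.conjNormal g x) := by
  obtain ⟨f, hf, hfk⟩ := hc.exists_hom A.z_ne hN
  have hker : ∀ g : X, ∀ x : T3 X, f x = 1 → f (MulAut.conjNormal g x) = 1 := by
    intro g x hx
    rw [hfk] at hx ⊢
    rw [MulAut.conjNormal_apply]
    rcases hx with hx | hx
    · left; rw [hx]; group
    · right; rw [hx, ← A.z_central g]; group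
  refine ⟨f, indAut (T3 X) f hf hker, hf, hfk, ?_, indAut_coe (T3 X) f hf hker,
    indAut_apply (T3 X) f hf hker⟩
  ext g
  rw [MonoidHom.mem_ker, indAut_eq_one_iff, centralizer_T3]
  constructor
  · intro h t ht
    have h1 := h ⟨t, mem_T3 ht⟩
    have h2 : f ((MulAut.conjNormal g ⟨t, mem_T3 ht⟩) * (⟨t, mem_T3 ht⟩ : T3 X)⁻¹) = 1 := by
      rw [map_mul, h1, map_inv, mul_inv_cancel]
    rw [hfk] at h2
    have h3 : ((MulAut.conjNormal g (⟨t, mem_T3 ht⟩ : T3 X) * (⟨t, mem_T3 ht⟩ : T3 X)⁻¹ : T3 X) : X)
        = g * t * g⁻¹ * t⁻¹ := by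
      rw [Subgroup.coe_mul, MulAut.conjNormal_apply, Subgroup.coe_inv]
    rw [h3] at h2
    rcases h2 with h2 | h2
    · have : g * t * g⁻¹ = t := by
        calc g * t * g⁻¹ = (g * t * g⁻¹ * t⁻¹) * t := by group
          _ = t := by rw [h2, one_mul]
      calc t * g = (g * t * g⁻¹) * g := by rw [this]
        _ = g * t := by group
    · exfalso
      have h4 : g * t * g⁻¹ = z * t := by
        calc g * t * g⁻¹ = (g * t * g⁻¹ * t⁻¹) * t := by group
          _ = z * t := by rw [h2]
      have h5 : orderOf (g * t * g⁻¹) = 3 := by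
        have : g * t * g⁻¹ = MulAut.conj g t := by simp [MulAut.conj_apply]
        rw [this, MulEquiv.orderOf_eq]; exact ht
      rw [h4] at h5
      exact A.z_mul_not_three ht h5
  · intro h x
    congr 1
    apply Subtype.ext
    rw [MulAut.conjNormal_apply]
    have hx : g ∈ centralizer (T3 X : Set X) := (centralizer_T3 g).mpr h
    rw [Subgroup.mem_centralizer_iff] at hx
    rw [← hx x x.2]
    group

end hom

end Cfsg.Agent.Lib.Helper17.Zs
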