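import Mathlib
import Cfsg.Agent.Lib.Helper17.ZsFree
import Cfsg.Agent.Lib.Helper8.ThNilpD

set_option autoImplicit false

namespace Cfsg.Agent.Lib.Helper17.Zs

open Subgroup

universe u v

section linz
variable {G : Type v} {K : Type u} [Group G] [Group K]

theorem aut_mem_center (φ : MulAut K) {c : K} (hc : c ∈ center K) : φ c ∈ center K := by
  rw [mem_center_iff] at hc ⊢
  intro k
  have := hc (φ.symm k)
  have h2 := congrArg φ this
  rw [map_mul, map_mul, MulEquiv.apply_symm_apply] at h2
  exact h2

/-- the `p`-torsion of the centre -/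
def torV (K : Type u) [Group K] (p : ℕ) : Subgroup (center K) where
  carrier := {c | (c : K) ^ p = 1}
  one_mem' := by
    change ((1 : center K) : K) ^ p = 1
    rw [OneMemClass.coe_one, one_pow]
  mul_mem' := by
    intro a b ha hb
    change ((a * b : center K) : K) ^ p = 1
    have hc : Commute (a : K) (b : K) := ((mem_center_iff.mp a.2) b).symm
    rw [MulMemClass.coe_mul, hc.mul_pow, ha, hb, one_mul]
  inv_mem' := by
    intro a ha
    change ((a⁻¹ : center K) : K) ^ p = 1
    rw [InvMemClass.coe_inv, inv_pow, ha, inv_one]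

theorem mem_torV {p : ℕ} (c : center K) : c ∈ torV K p ↔ (c : K) ^ p = 1 := Iff.rfl

/-- an automorphism acts on the `p`-torsion of the centre -/
def actV (p : ℕ) (φ : MulAut K) : torV K p →* torV K p where
  toFun v := ⟨⟨φ v.1.1, aut_mem_center φ v.1.2⟩, by
    rw [mem_torV]
    change (φ v.1.1) ^ p = 1
    rw [← map_pow, (mem_torV v.1).mp v.2, map_one]⟩
  map_one' := by
    apply Subtype.ext; apply Subtype.ext
    change φ 1 = 1
    exact map_one φ
  map_mul' := by
    intro x y
    apply Subtype.ext; apply Subtype.ext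
    change φ (x.1.1 * y.1.1) = φ x.1.1 * φ y.1.1
    exact map_mul φ _ _

@[simp] theorem actV_coe (p : ℕ) (φ : MulAut K) (v : torV K p) :
    (((actV p φ v : torV K p) : center K) : K) = φ v.1.1 := rfl

instance torVCommGroup (p : ℕ) : CommGroup (torV K p) :=
  { (inferInstance : Group (torV K p)) with
    mul_comm := by
      intro a b
      apply Subtype.ext; apply Subtype.ext
      exact ((mem_center_iff.mp a.1.2) b.1.1).symm }

theorem torV_nsmul (p : ℕ) (x : Additive (torV K p)) : p • x = 0 := by
  have h1 : (Additive.toMul x) ^ p = 1 := by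
    apply Subtype.ext; apply Subtype.ext
    exact (mem_torV (Additive.toMul x).1).mp (Additive.toMul x).2
  change Additive.ofMul ((Additive.toMul x) ^ p) = 0
  rw [h1]; rfl

instance torVModule (p : ℕ) : Module (ZMod p) (Additive (torV K p)) :=
  AddCommGroup.zmodModule (torV_nsmul p)

/-- the linear action on the `p`-torsion of the centre -/
def linV (p : ℕ) (φ : MulAut K) : Module.End (ZMod p) (Additive (torV K p)) :=
  AddMonoidHom.toZModLinearMap p (MonoidHom.toAdditive (actV p φ))

theorem linV_apply (p : ℕ) (φ : MulAut K) (v : Additive (torV K p)) :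
    (((Additive.toMul (linV p φ v) : torV K p) : center K) : K) = φ (Additive.toMul v).1.1 := rfl

theorem linV_one (p : ℕ) : linV p (1 : MulAut K) = 1 := by
  apply LinearMap.ext
  intro v
  apply Additive.toMul.injective
  apply Subtype.ext; apply Subtype.ext
  rw [linV_apply]; rfl

theorem linV_mul (p : ℕ) (φ ψ : MulAut K) : linV p (φ * ψ) = linV p φ * linV p ψ := by
  apply LinearMap.ext
  intro v
  apply Additive.toMul.injective
  apply Subtype.ext; apply Subtype.ext
  rw [linV_apply, Module.End.mul_apply, linV_apply, linV_apply]; rfl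

end linz

section rep
variable {G : Type v} {K : Type u} [Group G] [Group K]

theorem iterate_toMonoidHom (φ : MulAut K) (n : ℕ) (k : K) :
    (φ.toMonoidHom)^[n] k = (φ ^ n) k := by
  induction n with
  | zero => rfl
  | succ n ih =>
    rw [Function.iterate_succ_apply', ih, pow_succ', MulAut.mul_apply]
    rfl

/-- **Linearisation**: a fixed-point-free group of automorphisms of a finite group has a free
linear representation over a prime field. -/
theorem exists_free_rep [Finite G] [Finite K] [Nontrivial K] [Nontrivial G] (α : G →* MulAut K)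
    (hfpf : ∀ g : G, g ≠ 1 → ∀ k : K, α g k = k → k = 1) :
    ∃ (p : ℕ) (_ : Fact p.Prime) (V₀ : Type u) (_ : AddCommGroup V₀) (_ : Module (ZMod p) V₀)
      (_ : Module.Finite (ZMod p) V₀) (_ : Nontrivial V₀) (ρ₀ : G →* Module.End (ZMod p) V₀),
      IsFree ρ₀ := by
  -- an element of prime order
  have hcard : Nat.card G ≠ 1 := by
    intro h
    have := (Nat.card_eq_one_iff_unique.mp h).1
    exact not_subsingleton G this
  obtain ⟨r, hr, hrd⟩ := Nat.exists_prime_and_dvd hcard
  have : Fact r.Prime := ⟨hr⟩
  obtain ⟨g, hg⟩ := exists_prime_orderOf_dvd_card' (G := G) r hrd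
  have hg1 : g ≠ 1 := by
    intro h; rw [h, orderOf_one] at hg; exact hr.one_lt.ne hg
  have hnil : Group.IsNilpotent K := by
    apply Cfsg.Agent.Lib.Helper8.ThNilp.isNilpotent_of_fpf (α g).toMonoidHom hr
    · intro k
      rw [iterate_toMonoidHom, ← map_pow, ← hg, pow_orderOf_eq_one, map_one]; rfl
    · intro k hk
      exact hfpf g hg1 k hk
  have hcen : center K ≠ ⊥ := Group.IsNilpotent.center_ne_bot K
  have hcard2 : Nat.card (center K) ≠ 1 := by
    intro h
    exact hcen ((center K).card_eq_one.mp h)
  obtain ⟨p, hp, hpd⟩ := Nat.exists_prime_and_dvd hcard2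
  have : Fact p.Prime := ⟨hp⟩
  obtain ⟨c, hc⟩ := exists_prime_orderOf_dvd_card' (G := center K) p hpd
  have hc1 : c ≠ 1 := by
    intro h; rw [h, orderOf_one] at hc; exact hp.one_lt.ne hc
  have hcV : c ∈ torV K p := by
    rw [mem_torV, ← SubgroupClass.coe_pow, ← hc, pow_orderOf_eq_one]; rfl
  have hnt : Nontrivial (Additive (torV K p)) := by
    refine ⟨⟨Additive.ofMul ⟨c, hcV⟩, 0, ?_⟩⟩
    intro h
    apply hc1
    have : (⟨c, hcV⟩ : torV K p) = 1 := h
    exact congrArg Subtype.val this
  let ρ₀ : G →* Module.End (ZMod p) (Additive (torV K p)) :=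
    { toFun := fun g => linV p (α g)
      map_one' := by rw [map_one, linV_one]
      map_mul' := fun x y => by rw [map_mul, linV_mul] }
  refine ⟨p, inferInstance, Additive (torV K p), inferInstance, inferInstance,
    Module.Finite.of_finite, hnt, ρ₀, ?_⟩
  intro g hg v hv
  have h1 : (α g) (Additive.toMul v).1.1 = (Additive.toMul v).1.1 := by
    have := congrArg (fun w : Additive (torV K p) => ((Additive.toMul w).1.1 : K)) hv
    exact this
  have h2 := hfpf g hg _ h1
  have : Additive.toMul v = 1 := by
    apply Subtype.ext; apply Subtype.ext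
    exact h2
  exact this

end rep

end Cfsg.Agent.Lib.Helper17.Zs
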