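/-
helper17: Zassenhaus cluster.  `HasFree X`: the finite group `X` has a free (fixed-point-free)
linear representation over a prime field.  Basic consequences: abelian subgroups are cyclic,
Sylow subgroups for odd primes are cyclic, at most one involution, the abstract axioms `ZsAx`.
-/
import Mathlib
import Cfsg.Agent.Lib.Helper17.ZsAx
import Cfsg.Agent.Lib.Helper17.ZsLinz
import Cfsg.Agent.Lib.Helper9.FpfAction
import Cfsg.Agent.Lib.Helper18.PowerMap

set_option autoImplicit false

namespace Cfsg.Agent.Lib.Helper17.Zs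

open Subgroup

universe u v w

/-- `X` has a free linear representation on a nonzero finite-dimensional space over a prime field -/
def HasFree (X : Type u) [Group X] : Prop :=
  ∃ (p : ℕ) (_ : Fact p.Prime) (V₀ : Type v) (_ : AddCommGroup V₀) (_ : Module (ZMod p) V₀)
    (_ : Module.Finite (ZMod p) V₀) (_ : Nontrivial V₀) (ρ₀ : X →* Module.End (ZMod p) V₀),
    IsFree ρ₀

section basic
variable {X : Type u} [Group X]

theorem HasFree.of_injective {Y : Type w} [Group Y] (h : HasFree.{u, v} X) (f : Y →* X)
    (hf : Function.Injective f) : HasFree.{w, v} Y := by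
  obtain ⟨p, hp, V₀, i1, i2, i3, i4, ρ₀, h₀⟩ := h
  refine ⟨p, hp, V₀, i1, i2, i3, i4, ρ₀.comp f, ?_⟩
  intro g hg v hv
  apply h₀ (f g) _ v hv
  intro h1
  apply hg
  apply hf
  rw [h1, map_one]

theorem HasFree.subgroup (h : HasFree.{u, v} X) (Y : Subgroup X) : HasFree.{u, v} Y :=
  h.of_injective Y.subtype Y.subtype_injective

theorem HasFree.of_mulEquiv {Y : Type w} [Group Y] (h : HasFree.{u, v} X) (e : Y ≃* X) :
    HasFree.{w, v} Y :=
  h.of_injective e.toMonoidHom e.injective

/-- a fixed-point-free group of automorphisms of a finite group has a free representation -/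
theorem hasFree_of_fpf {K : Type v} [Group K] [Finite X] [Finite K] [Nontrivial K] [Nontrivial X]
    (α : X →* MulAut K) (hfpf : ∀ g : X, g ≠ 1 → ∀ k : K, α g k = k → k = 1) :
    HasFree.{u, v} X :=
  exists_free_rep α hfpf

end basic

section act
variable {X : Type u} [Group X] {p : ℕ} [Fact p.Prime] {V₀ : Type v} [AddCommGroup V₀]
  [Module (ZMod p) V₀]

/-- the multiplicative action attached to a linear representation -/
@[reducible] def repAct (ρ₀ : X →* Module.End (ZMod p) V₀) :
    MulDistribMulAction X (Multiplicative V₀) where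
  smul g v := Multiplicative.ofAdd (ρ₀ g (Multiplicative.toAdd v))
  one_smul v := by
    show Multiplicative.ofAdd (ρ₀ 1 (Multiplicative.toAdd v)) = v
    rw [map_one]; rfl
  mul_smul g h v := by
    show Multiplicative.ofAdd (ρ₀ (g * h) (Multiplicative.toAdd v)) = _
    rw [map_mul]; rfl
  smul_mul g v w := by
    show Multiplicative.ofAdd (ρ₀ g (Multiplicative.toAdd v + Multiplicative.toAdd w)) = _
    rw [map_add]; rfl
  smul_one g := by
    show Multiplicative.ofAdd (ρ₀ g 0) = 1
    rw [map_zero]; rfl

theorem isFpfAction_of_free (ρ₀ : X →* Module.End (ZMod p) V₀) (h₀ : IsFree ρ₀) :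
    @Cfsg.Agent.Lib.Helper9.IsFpfAction X (Multiplicative V₀) _ _ (repAct ρ₀) := by
  intro g hg v hv
  have h1 : ρ₀ g (Multiplicative.toAdd v) = Multiplicative.toAdd v := by
    have := congrArg Multiplicative.toAdd hv
    exact this
  have h2 := h₀ g hg _ h1
  exact Multiplicative.toAdd.injective h2

end act

section cons
variable {X : Type u} [Group X] [Finite X]

/-- abelian groups with a free representation are cyclic -/
theorem HasFree.isCyclic_of_comm (h : HasFree.{u, v} X) (hcomm : ∀ x y : X, x * y = y * x) :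
    IsCyclic X := by
  obtain ⟨p, hp, V₀, i1, i2, i3, i4, ρ₀, h₀⟩ := h
  let _ := repAct ρ₀
  have : Finite V₀ := Module.finite_of_finite (ZMod p)
  have : Finite (Multiplicative V₀) := ‹Finite V₀›
  have : Nontrivial (Multiplicative V₀) := ‹Nontrivial V₀›
  exact (isFpfAction_of_free ρ₀ h₀).isCyclic_of_comm hcomm

/-- two independent commuting elements of the same prime order cannot exist -/
theorem HasFree.false_of_pair (h : HasFree.{u, v} X) {a b : X} {r : ℕ} (hr : r.Prime)
    (ha : orderOf a = r) (hb : orderOf b = r) (hab : a * b = b * a)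
    (hdisj : a ∉ zpowers b) : False := by
  obtain ⟨p, hp, V₀, i1, i2, i3, i4, ρ₀, h₀⟩ := h
  let _ := repAct ρ₀
  have : Finite V₀ := Module.finite_of_finite (ZMod p)
  have : Finite (Multiplicative V₀) := ‹Finite V₀›
  have : Nontrivial (Multiplicative V₀) := ‹Nontrivial V₀›
  have hf := isFpfAction_of_free ρ₀ h₀
  exact hf.false_of_pow_prime hr ha
    (fun v => hf.pow_prime_eq_one_of_commute hr ha hb hab hdisj v)

/-- Sylow subgroups for odd primes are cyclic -/
theorem HasFree.isCyclic_sylow (h : HasFree.{u, v} X) (q : ℕ) [hq : Fact q.Prime] (hq2 : q ≠ 2)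
    (P : Sylow q X) : IsCyclic (P : Subgroup X) := by
  by_contra hnc
  obtain ⟨a, b, hab, ha, hb, hb1, hnot⟩ :=
    Cfsg.Agent.Lib.Helper18.exists_rank_two_of_not_cyclic q hq2 (Nat.card (P : Subgroup X))
      (P : Subgroup X) P.isPGroup' le_rfl hnc
  have ha1 : a ≠ 1 := by
    rintro rfl
    exact hnot (one_mem _)
  have hoa : orderOf (a : X) = q := by
    rw [Subgroup.orderOf_coe]; exact orderOf_eq_prime ha ha1
  have hob : orderOf (b : X) = q := by
    rw [Subgroup.orderOf_coe]; exact orderOf_eq_prime hb hb1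
  apply h.false_of_pair hq.out hoa hob
  · have := congrArg Subtype.val hab
    simpa using this
  · intro hmem
    apply hnot
    obtain ⟨k, hk⟩ := mem_zpowers_iff.mp hmem
    refine mem_zpowers_iff.mpr ⟨k, ?_⟩
    apply Subtype.ext
    rw [← hk]; simp

omit [Finite X] in
/-- a group with a free representation has at most one involution -/
theorem HasFree.involution_unique (h : HasFree.{u, v} X) (s t : X) (hs : orderOf s = 2)
    (ht : orderOf t = 2) : s = t := by
  obtain ⟨p, hp, V₀, i1, i2, i3, i4, ρ₀, h₀⟩ := h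
  have hs1 : s ≠ 1 := by rintro rfl; rw [orderOf_one] at hs; omega
  have ht1 : t ≠ 1 := by rintro rfl; rw [orderOf_one] at ht; omega
  have hs2 : s * s = 1 := by rw [← pow_two, ← hs, pow_orderOf_eq_one]
  have ht2 : t * t = 1 := by rw [← pow_two, ← ht, pow_orderOf_eq_one]
  rcases h₀.involution_unique hs1 hs2 ht2 with h1 | h1
  · exact (ht1 h1).elim
  · exact h1.symm

/-- the abstract axioms -/
theorem HasFree.zsAx (h : HasFree.{u, v} X) {z : X} (hz : z ≠ 1) (hz2 : z * z = 1) : ZsAx X z := by
  obtain ⟨p, hp, V₀, i1, i2, i3, i4, ρ₀, h₀⟩ := h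
  exact zsAx_of_free p ρ₀ h₀ hz hz2

/-- groups of odd order with a free representation are Z-groups -/
theorem HasFree.isZGroup_of_odd (h : HasFree.{u, v} X) (hodd : Odd (Nat.card X)) : IsZGroup X := by
  refine ⟨fun q hq P => ?_⟩
  have : Fact q.Prime := ⟨hq⟩
  by_cases hq2 : q = 2
  · subst hq2
    -- the Sylow 2-subgroup is trivial
    have h1 : Nat.card (P : Subgroup X) = 1 := by
      obtain ⟨k, hk⟩ := IsPGroup.iff_card.mp P.isPGroup'
      have hd : Nat.card (P : Subgroup X) ∣ Nat.card X := Subgroup.card_subgroup_dvd_card _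
      rcases Nat.eq_zero_or_pos k with h0 | hpos
      · rw [hk, h0, pow_zero]
      · exfalso
        have : 2 ∣ Nat.card X := dvd_trans (by rw [hk]; exact dvd_pow_self 2 hpos.ne') hd
        exact (Nat.not_even_iff_odd.mpr hodd) (even_iff_two_dvd.mpr this)
    have : Subsingleton (P : Subgroup X) := (Nat.card_eq_one_iff_unique.mp h1).1
    exact isCyclic_of_subsingleton
  · exact h.isCyclic_sylow q hq2 P

end cons

end Cfsg.Agent.Lib.Helper17.Zs
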