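/-
helper17: Zassenhaus cluster.  Solvability criteria for groups with a free representation:
* `solvable_of_not_three_dvd`: order prime to `3` (Frobenius' normal 2-complement theorem);
* `solvable_of_three_central`: all elements of order three central (transfer into a Sylow
  3-subgroup).
-/
import Mathlib
import Cfsg.Agent.Lib.Helper17.ZsHas
import Cfsg.Agent.Lib.Helper20.QuatSylow
import Cfsg.Agent.Lib.Helper23.RankOne
import Cfsg.Agent.Lib.Helper23.QuatOdd
import Cfsg.Agent.Lib.Helper23.Q8Aut
import Cfsg.Agent.Lib.Helper18.UniqueInvolution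
import Cfsg.Agent.Lib.Helper29.Frobenius

set_option autoImplicit false

namespace Cfsg.Agent.Lib.Helper17.Zs

open Subgroup

universe u v

/-- automorphisms of order prime to `6` of a `2`-group with at most one involution are trivial -/
theorem oddAut_of_unique_involution {R : Type*} [Group R] [Finite R] (hR : IsPGroup 2 R)
    (huniq : ∀ s t : R, orderOf s = 2 → orderOf t = 2 → s = t) (θ : MulAut R) (k : ℕ)
    (hk : Odd k) (h3 : ¬ 3 ∣ k) (hθ : θ ^ k = 1) : θ = 1 := by
  rcases Cfsg.Agent.Lib.Helper18.isCyclic_or_quaternion_of_unique_involution hR huniq with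
    hc | ⟨n, hn, ⟨e⟩⟩
  · exact Cfsg.Agent.Lib.Helper23.RankOne.cyclic_odd_aut hR θ k hk hθ
  · rcases Nat.lt_or_ge n 2 with h | h
    · have hn1 : n = 1 := by omega
      subst hn1
      have h1 : (MulAut.congr e θ) ^ k = 1 := by rw [← map_pow, hθ, map_one]
      have h24 : orderOf (MulAut.congr e θ) ∣ 24 := by
        have := orderOf_dvd_natCard (MulAut.congr e θ)
        rwa [show Nat.card (MulAut (QuaternionGroup (2 ^ 1))) = 24 from
          Cfsg.Agent.Lib.Helper23.Q8Aut.card_mulAut] at this
      have hk' : orderOf (MulAut.congr e θ) ∣ k := orderOf_dvd_of_pow_eq_one h1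
      have hcop : Nat.Coprime k 24 := by
        have h2 : Nat.Coprime k 2 := Nat.coprime_two_right.mpr hk
        have h3' : Nat.Coprime k 3 :=
          ((Nat.Prime.coprime_iff_not_dvd (by norm_num)).mpr h3).symm
        have : (24 : ℕ) = 2 ^ 3 * 3 := by norm_num
        rw [this]
        exact Nat.Coprime.mul_right (Nat.Coprime.pow_right 3 h2) h3'
      have h5 : orderOf (MulAut.congr e θ) = 1 := Nat.eq_one_of_dvd_coprimes hcop hk' h24
      have h6 : MulAut.congr e θ = 1 := orderOf_eq_one_iff.mp h5
      apply (MulAut.congr e).injective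
      rw [h6, map_one]
    · exact Cfsg.Agent.Lib.Helper23.RankOne.odd_aut_congr e
        (fun θ k hk hθ => Cfsg.Agent.Lib.Helper23.QuatOdd.mulAut_eq_one_of_odd h θ k hk hθ)
        θ k hk hθ

section sol
variable {X : Type u} [Group X] [Finite X]

/-- a group of order prime to three with a free representation is solvable -/
theorem solvable_of_not_three_dvd (h : HasFree.{u, v} X) (h3 : ¬ 3 ∣ Nat.card X) :
    Group.IsSolvable X := by
  have : Fact (Nat.Prime 2) := ⟨Nat.prime_two⟩
  have hF : Cfsg.Agent.Lib.Helper29.FrobCond 2 X := by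
    intro Q hQ g hg hcop
    rw [← Cfsg.Agent.Lib.Helper20.Q8.conjAut_eq_one_iff Q g hg]
    apply oddAut_of_unique_involution hQ (h.subgroup Q).involution_unique _ (orderOf g)
      (Nat.Coprime.odd_of_right hcop)
      (fun hd => h3 (dvd_trans hd (orderOf_dvd_natCard g)))
      (Cfsg.Agent.Lib.Helper20.Q8.conjAut_pow_orderOf Q g hg)
  obtain ⟨P⟩ : Nonempty (Sylow 2 X) := inferInstance
  obtain ⟨N, hNn, hN⟩ := hF.exists_normal_complement P
  have hNcard : Nat.card N = (P : Subgroup X).index := (hN.index_eq_card).symm
  have hNodd : Odd (Nat.card N) := by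
    rw [hNcard]
    exact Nat.odd_iff.mpr (Nat.two_dvd_ne_zero.mp P.not_dvd_index)
  have hZ : IsZGroup N := (h.subgroup N).isZGroup_of_odd hNodd
  have hNs : Group.IsSolvable N := inferInstance
  have hQp : IsPGroup 2 (X ⧸ N) := by
    obtain ⟨k, hk⟩ := IsPGroup.iff_card.mp P.isPGroup'
    apply IsPGroup.of_card (n := k)
    rw [← hk, ← Subgroup.index_eq_card, hN.symm.index_eq_card]
  have : Group.IsNilpotent (X ⧸ N) := hQp.isNilpotent
  have hQs : Group.IsSolvable (X ⧸ N) := inferInstance
  exact Group.isSolvable_of_ker_le_range N.subtype (QuotientGroup.mk' N) (by simp)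

/-- a central element of order three prevents perfectness -/
theorem commutator_ne_top_of_central (h : HasFree.{u, v} X) (t : X) (ht : orderOf t = 3)
    (htc : ∀ g : X, t * g = g * t) : commutator X ≠ ⊤ := by
  have : Fact (Nat.Prime 3) := ⟨by norm_num⟩
  obtain ⟨P, hP⟩ : ∃ P : Sylow 3 X, t ∈ P := by
    have h1 : IsPGroup 3 (zpowers t) :=
      IsPGroup.of_card (n := 1) (by rw [Nat.card_zpowers, ht, pow_one])
    obtain ⟨P, hP⟩ := h1.exists_le_sylow
    exact ⟨P, hP (mem_zpowers t)⟩
  have hcyc : IsCyclic (P : Subgroup X) := h.isCyclic_sylow 3 (by norm_num) P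
  let _ : CommGroup (P : Subgroup X) := IsCyclic.commGroup
  have hkey : ∀ (k : ℕ) (g₀ : X), g₀⁻¹ * t ^ k * g₀ ∈ (P : Subgroup X) →
      g₀⁻¹ * t ^ k * g₀ = t ^ k := by
    intro k g₀ _
    have : t ^ k * g₀ = g₀ * t ^ k := by
      have hc : Commute t g₀ := htc g₀
      exact (hc.pow_left k).eq
    rw [mul_assoc, this, inv_mul_cancel_left]
  have hT := MonoidHom.transfer_eq_pow (MonoidHom.id (P : Subgroup X)) t hkey
  intro hperf
  have hle : commutator X ≤ (MonoidHom.transfer (MonoidHom.id (P : Subgroup X))).ker :=
    Abelianization.commutator_subset_ker _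
  rw [hperf] at hle
  have h1 := hle (mem_top t)
  rw [MonoidHom.mem_ker, hT] at h1
  have h2 : t ^ (P : Subgroup X).index = 1 := congrArg Subtype.val h1
  have hd : 3 ∣ (P : Subgroup X).index := by
    have := orderOf_dvd_of_pow_eq_one h2
    rwa [ht] at this
  exact P.not_dvd_index hd

end sol

/-- a group with a free representation in which all elements of order three are central is
solvable -/
theorem solvable_of_three_central : ∀ (n : ℕ) (X : Type u) [Group X] [Finite X],
    Nat.card X ≤ n → HasFree.{u, v} X → (∀ t : X, orderOf t = 3 → ∀ g : X, t * g = g * t) →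
    Group.IsSolvable X := by
  intro n
  induction n using Nat.strong_induction_on with
  | _ n ih =>
    intro X _ _ hn h h3
    by_cases hperf : commutator X = ⊤
    · by_cases ht : ∃ t : X, orderOf t = 3
      · obtain ⟨t, ht⟩ := ht
        exact (commutator_ne_top_of_central h t ht (h3 t ht) hperf).elim
      · apply solvable_of_not_three_dvd h
        intro hd
        have : Fact (Nat.Prime 3) := ⟨by norm_num⟩
        obtain ⟨t, ht'⟩ := exists_prime_orderOf_dvd_card' (G := X) 3 hd
        exact ht ⟨t, ht'⟩
    · have hlt : Nat.card (commutator X) < Nat.card X := by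
        have hle : Nat.card (commutator X) ≤ Nat.card X := Subgroup.card_le_card_group _
        refine lt_of_le_of_ne hle (fun he => hperf ?_)
        exact Subgroup.card_eq_iff_eq_top _ |>.mp he
      have hsolv : Group.IsSolvable (commutator X) := by
        apply ih _ (lt_of_lt_of_le hlt hn) (commutator X) le_rfl (h.subgroup _)
        intro t ht g
        apply Subtype.ext
        have := h3 (t : X) (by rw [Subgroup.orderOf_coe]; exact ht) (g : X)
        simpa using this
      have hab : Group.IsSolvable (Abelianization X) := inferInstance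
      exact Group.isSolvable_of_ker_le_range (commutator X).subtype (Abelianization.of (G := X))
        (by rw [Abelianization.ker_of]; simp)

end Cfsg.Agent.Lib.Helper17.Zs
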