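/-
helper17: Zassenhaus cluster.  The dichotomy: a finite group with a free representation is
solvable, or the subgroup generated by its elements of order three is of type `2.A₅`.
-/
import Mathlib
import Cfsg.Agent.Lib.Helper17.ZsSol
import Cfsg.Agent.Lib.Helper17.ZsHom
import Cfsg.Agent.Lib.Helper15.PerfectIndex
import Cfsg.Agent.Lib.Helper9.AltAut

set_option autoImplicit false

namespace Cfsg.Agent.Lib.Helper17.Zs

open Subgroup

universe u v

section main
variable {X : Type u} [Group X] [Finite X]

/-- a homomorphism to a solvable group whose kernel centralizes all elements of order three -/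
theorem solvable_of_hom (h : HasFree.{u, v} X) {S : Type*} [Group S] [Group.IsSolvable S]
    (Φ : X →* S) (hk : Φ.ker ≤ centralizer (T3 X : Set X)) : Group.IsSolvable X := by
  have hC : Group.IsSolvable Φ.ker := by
    apply solvable_of_three_central _ Φ.ker le_rfl (h.subgroup _)
    intro t ht g
    apply Subtype.ext
    have h1 := (centralizer_T3 (g : X)).mp (hk g.2) (t : X)
      (by rw [Subgroup.orderOf_coe]; exact ht)
    simpa using h1
  exact Group.isSolvable_of_ker_le_range Φ.ker.subtype Φ (by simp)

theorem solvable_of_abelian (h : HasFree.{u, v} X)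
    (hab : ∀ x ∈ T3 X, ∀ y ∈ T3 X, x * y = y * x) : Group.IsSolvable X := by
  have hcyc : IsCyclic (T3 X) := by
    apply (h.subgroup (T3 X)).isCyclic_of_comm
    intro x y
    exact Subtype.ext (hab x x.2 y y.2)
  have hS : Group.IsSolvable (MulAut (T3 X)) := by
    let _ := (hcyc.mulAutMulEquiv _).toMonoidHom.commGroupOfInjective
      (hcyc.mulAutMulEquiv _).injective
    infer_instance
  apply solvable_of_hom h (MulAut.conjNormal : X →* MulAut (T3 X))
  intro g hg
  rw [MonoidHom.mem_ker] at hg
  rw [Subgroup.mem_centralizer_iff]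
  intro x hx
  have h1 := congrArg (fun φ : MulAut (T3 X) => ((φ ⟨x, hx⟩ : T3 X) : X)) hg
  simp only [MulAut.conjNormal_apply, MulAut.one_apply] at h1
  calc x * g = (g * x * g⁻¹) * g := by rw [h1]
    _ = g * x := by group

theorem solvable_of_chart_four (h : HasFree.{u, v} X) {z : X} (A : ZsAx X z)
    (hc : Chart z (T3 X) 4 24) : Group.IsSolvable X := by
  obtain ⟨f, Φ, -, -, hker, -, -⟩ := exists_indAut A hc (by
    rw [Nat.card_eq_fintype_card, Fintype.card_perm, Fintype.card_fin]; rfl)
  have hS4 : Group.IsSolvable (Equiv.Perm (Fin 4)) :=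
    Cfsg.Agent.Lib.Helper15.PerfectIndex.isSolvable_perm_fin_four
  have hS : Group.IsSolvable (MulAut (alternatingGroup (Fin 4))) := by
    have hb := Cfsg.Agent.Lib.Helper9.AltAut.conjNormal_bijective (α := Fin 4) (by simp) (by simp)
    exact Group.isSolvable_of_surjective hb.2
  exact solvable_of_hom h Φ (le_of_eq hker)

/-- **Dichotomy**: solvable, or `T3 X` is of type `2.A₅`. -/
theorem solvable_or_chart (h : HasFree.{u, v} X) :
    Group.IsSolvable X ∨ ∃ z : X, ZsAx X z ∧ Chart z (T3 X) 5 120 := by
  by_cases heven : 2 ∣ Nat.card X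
  · have : Fact (Nat.Prime 2) := ⟨Nat.prime_two⟩
    obtain ⟨z, hz⟩ := exists_prime_orderOf_dvd_card' (G := X) 2 heven
    have hz1 : z ≠ 1 := by rintro rfl; rw [orderOf_one] at hz; omega
    have hz2 : z * z = 1 := by rw [← pow_two, ← hz, pow_orderOf_eq_one]
    have A : ZsAx X z := h.zsAx hz1 hz2
    have hgood : Good z (T3 X) := good_closure_three A
    rcases hgood with hab | h4 | h5
    · exact Or.inl (solvable_of_abelian h hab)
    · exact Or.inl (solvable_of_chart_four h A h4)
    · exact Or.inr ⟨z, A, h5⟩
  · left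
    have hodd : Odd (Nat.card X) := by
      rw [← Nat.not_even_iff_odd, even_iff_two_dvd]; exact heven
    have := h.isZGroup_of_odd hodd
    infer_instance

end main

end Cfsg.Agent.Lib.Helper17.Zs
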