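/-
helper17: Zassenhaus cluster.  The `2.A₅` case: `T3 X ≅ SL(2,5)` and the elements of the
centralizer of `T3 X`.
-/
import Mathlib
import Cfsg.Agent.Lib.Helper17.ZsMainA
import Cfsg.Agent.Lib.Helper13.SL2FiveFrob

set_option autoImplicit false

namespace Cfsg.Agent.Lib.Helper17.Zs

open Subgroup Equiv

universe u v

/-- a 3-cycle -/
def sσ : Perm (Fin 5) := c[0, 1, 2]
/-- a 5-cycle with `sσ * tτ` an involution -/
def tτ : Perm (Fin 5) := c[0, 2, 4, 1, 3]

theorem sσ_mem : sσ ∈ alternatingGroup (Fin 5) := by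
  rw [Equiv.Perm.mem_alternatingGroup]; decide
theorem tτ_mem : tτ ∈ alternatingGroup (Fin 5) := by
  rw [Equiv.Perm.mem_alternatingGroup]; decide
theorem sσ_pow : sσ ^ 3 = 1 := by decide
theorem tτ_pow : tτ ^ 5 = 1 := by decide
theorem sσ_tτ_sq : (sσ * tτ) ^ 2 = 1 := by decide
theorem sσ_tτ_ne : sσ * tτ ≠ 1 := by decide
theorem tτ_ne : tτ ≠ 1 := by decide

section five
variable {X : Type u} [Group X] {z : X} (A : ZsAx X z)
  (f : T3 X →* alternatingGroup (Fin 5)) (hf : Function.Surjective f)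
  (hfk : ∀ x : T3 X, f x = 1 ↔ (x : X) = 1 ∨ (x : X) = z)

include A hf hfk in
theorem z_mem_T3 : z ∈ T3 X := by
  by_contra hz
  -- the kernel of `f` would be trivial, so `f` injective; but then no element maps to an involution
  have h1 : ∀ x : T3 X, f x = 1 → x = 1 := by
    intro x hx
    rcases (hfk x).mp hx with h | h
    · exact Subtype.ext h
    · exact (hz (h ▸ x.2)).elim
  obtain ⟨x, hx⟩ := hf ⟨sσ * tτ, mul_mem sσ_mem tτ_mem⟩
  have hx2 : f (x * x) = 1 := by
    rw [map_mul, hx]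
    apply Subtype.ext
    have := sσ_tτ_sq
    rw [pow_two] at this
    exact this
  have hx3 := h1 _ hx2
  have hx4 : (x : X) * (x : X) = 1 := by
    have := congrArg Subtype.val hx3
    simpa using this
  rcases A.inv_unique _ hx4 with h | h
  · have : f x = 1 := (hfk x).mpr (Or.inl h)
    rw [hx] at this
    exact sσ_tτ_ne (congrArg Subtype.val this)
  · exact hz (h ▸ x.2)

include A hf hfk in
/-- adjusting a lift by `z` to make an odd power trivial -/
theorem exists_adjust (x : T3 X) (k : ℕ) (hk : Odd k) (hx : (f x) ^ k = 1) :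
    ∃ x' : T3 X, f x' = f x ∧ (x' : X) ^ k = 1 := by
  have h1 : f (x ^ k) = 1 := by rw [map_pow, hx]
  rcases (hfk _).mp h1 with h | h
  · exact ⟨x, rfl, by simpa using h⟩
  · have hzT : z ∈ T3 X := z_mem_T3 A f hf hfk
    refine ⟨⟨z, hzT⟩ * x, ?_, ?_⟩
    · rw [map_mul, (hfk ⟨z, hzT⟩).mpr (Or.inr rfl), one_mul]
    · have h2 : ((x : X)) ^ k = z := by simpa using h
      have hzk : z ^ k = z := by
        obtain ⟨m, rfl⟩ := hk
        have hz2 : z ^ 2 = 1 := by rw [pow_two]; exact A.z_sq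
        rw [pow_succ, pow_mul, hz2, one_pow, one_mul]
      show (z * (x : X)) ^ k = 1
      rw [(show Commute z (x : X) from A.z_central _).mul_pow, hzk, h2, A.z_sq]

include A hf hfk in
/-- generators satisfying the relations of `SL(2,5)` -/
theorem exists_gens : ∃ a b : X, a ∈ T3 X ∧ b ∈ T3 X ∧ a ^ 3 = 1 ∧ b ^ 5 = 1 ∧ b ≠ 1 ∧
    (a * b) ^ 2 = z := by
  obtain ⟨a₀, ha₀⟩ := hf ⟨sσ, sσ_mem⟩
  obtain ⟨b₀, hb₀⟩ := hf ⟨tτ, tτ_mem⟩
  obtain ⟨a, haf, ha⟩ := exists_adjust A f hf hfk a₀ 3 (by decide) (by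
    rw [ha₀]; exact Subtype.ext sσ_pow)
  obtain ⟨b, hbf, hb⟩ := exists_adjust A f hf hfk b₀ 5 (by decide) (by
    rw [hb₀]; exact Subtype.ext tτ_pow)
  rw [ha₀] at haf
  rw [hb₀] at hbf
  refine ⟨a, b, a.2, b.2, ha, hb, ?_, ?_⟩
  · intro h1
    have : f b = 1 := (hfk b).mpr (Or.inl h1)
    rw [hbf] at this
    exact tτ_ne (congrArg Subtype.val this)
  · have h1 : f ((a * b) ^ 2) = 1 := by
      rw [map_pow, map_mul, haf, hbf]
      exact Subtype.ext sσ_tτ_sq
    rcases (hfk _).mp h1 with h | h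
    · exfalso
      have h2 : ((a : X) * (b : X)) * ((a : X) * (b : X)) = 1 := by
        have : ((a : X) * (b : X)) ^ 2 = 1 := by simpa using h
        rwa [pow_two] at this
      have h3 : f (a * b) = 1 := by
        rw [hfk]
        exact A.inv_unique _ h2
      rw [map_mul, haf, hbf] at h3
      exact sσ_tτ_ne (congrArg Subtype.val h3)
    · simpa using h

include A hf hfk in
/-- `T3 X` is isomorphic to `SL(2,5)` -/
theorem nonempty_T3_equiv [Finite X] (hcard : Nat.card (T3 X) = 120) :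
    Nonempty (T3 X ≃* Matrix.SpecialLinearGroup (Fin 2) (ZMod 5)) := by
  obtain ⟨a, b, haL, hbL, ha, hb, hb1, hab⟩ := exists_gens A f hf hfk
  have hzT : z ∈ T3 X := z_mem_T3 A f hf hfk
  obtain ⟨e⟩ := Cfsg.Agent.Lib.Helper13.nonempty_closure_equiv_SL2_five a b z ha hb
    (by rw [pow_two]; exact A.z_sq) (A.z_central a) (A.z_central b) hab A.z_ne hb1
  have hle : closure ({a, b, z} : Set X) ≤ T3 X := by
    rw [closure_le]
    intro x hx
    rcases hx with rfl | rfl | rfl
    · exact haL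
    · exact hbL
    · exact hzT
  have hc : Nat.card (closure ({a, b, z} : Set X)) = 120 := by
    rw [Nat.card_congr e.toEquiv]
    exact Cfsg.Agent.Lib.Helper13.card_SL2_five
  have heq : closure ({a, b, z} : Set X) = T3 X := by
    apply Subgroup.eq_of_le_of_card_ge hle
    rw [hc, hcard]
  exact ⟨(MulEquiv.subgroupCongr heq).symm.trans e⟩

include hf hfk in
/-- elements of `T3 X` centralizing `T3 X` are `1` or `z` -/
theorem eq_of_mem_inf {x : X} (hx : x ∈ T3 X) (hxc : x ∈ centralizer (T3 X : Set X)) :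
    x = 1 ∨ x = z := by
  have h1 : f ⟨x, hx⟩ ∈ center (alternatingGroup (Fin 5)) := by
    rw [Subgroup.mem_center_iff]
    intro τ
    obtain ⟨y, rfl⟩ := hf τ
    rw [← map_mul, ← map_mul]
    congr 1
    apply Subtype.ext
    rw [Subgroup.mem_centralizer_iff] at hxc
    exact hxc y y.2
  rw [alternatingGroup.center_eq_bot (by simp), Subgroup.mem_bot] at h1
  exact (hfk ⟨x, hx⟩).mp h1

end five

end Cfsg.Agent.Lib.Helper17.Zs
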