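/-
helper17: Zassenhaus cluster.  The `2.A₅` case: structure of the centralizer of `T3 X` and the
index of `T3 X · C(T3 X)`.
-/
import Mathlib
import Cfsg.Agent.Lib.Helper17.ZsMainB
import Cfsg.Agent.Lib.Helper29.Frobenius

set_option autoImplicit false

namespace Cfsg.Agent.Lib.Helper17.Zs

open Subgroup Equiv

universe u v

section cen
variable {X : Type u} [Group X] [Finite X] (h : HasFree.{u, v} X) {z : X} (A : ZsAx X z)
  (f : T3 X →* alternatingGroup (Fin 5)) (hf : Function.Surjective f)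
  (hfk : ∀ x : T3 X, f x = 1 ↔ (x : X) = 1 ∨ (x : X) = z)

include A hf hfk in
omit [Finite X] in
theorem no_three {c : X} (hc : c ∈ centralizer (T3 X : Set X)) : orderOf c ≠ 3 := by
  intro h3
  rcases eq_of_mem_inf f hf hfk (mem_T3 h3) hc with h1 | h1
  · rw [h1, orderOf_one] at h3; omega
  · rw [h1, A.orderOf_z] at h3; omega

include h A hf hfk in
theorem no_five {c : X} (hc : c ∈ centralizer (T3 X : Set X)) : orderOf c ≠ 5 := by
  intro h5
  obtain ⟨a, b, haL, hbL, ha, hb, hb1, hab⟩ := exists_gens A f hf hfk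
  have : Fact (Nat.Prime 5) := ⟨by norm_num⟩
  have hb5 : orderOf b = 5 := orderOf_eq_prime hb hb1
  have hcb : c * b = b * c := ((mem_centralizer_iff.mp hc) b hbL).symm
  apply h.false_of_pair (r := 5) (by norm_num) h5 hb5 hcb
  intro hmem
  have hcL : c ∈ T3 X := (zpowers_le.mpr hbL) hmem
  rcases eq_of_mem_inf f hf hfk hcL hc with h1 | h1
  · rw [h1, orderOf_one] at h5; omega
  · rw [h1, A.orderOf_z] at h5; omega

include A hf hfk in
omit [Finite X] in
theorem sq_of_pow_four {c : X} (hc : c ∈ centralizer (T3 X : Set X)) (h4 : c ^ 4 = 1) :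
    c ^ 2 = 1 := by
  have h1 : c ^ 2 * c ^ 2 = 1 := by rw [← pow_add]; exact h4
  rcases A.inv_unique _ h1 with h2 | h2
  · exact h2
  · exfalso
    obtain ⟨a, b, haL, hbL, ha, hb, hb1, hab⟩ := exists_gens A f hf hfk
    have hiL : a * b ∈ T3 X := mul_mem haL hbL
    have hci : Commute c (a * b) := ((mem_centralizer_iff.mp hc) (a * b) hiL).symm
    have h3 : (c * (a * b)) * (c * (a * b)) = 1 := by
      rw [← pow_two, hci.mul_pow, h2, hab, A.z_sq]
    have hcL : c ∈ T3 X := by
      rcases A.inv_unique _ h3 with h5 | h5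
      · have : c = (a * b)⁻¹ := eq_inv_of_mul_eq_one_left h5
        rw [this]; exact inv_mem hiL
      · have : c = z * (a * b)⁻¹ := by rw [← h5]; group
        rw [this]; exact mul_mem (z_mem_T3 A f hf hfk) (inv_mem hiL)
    rcases eq_of_mem_inf f hf hfk hcL hc with h6 | h6
    · rw [h6, one_pow] at h2; exact A.z_ne h2.symm
    · rw [h6, pow_two, A.z_sq] at h2; exact A.z_ne h2.symm

include A hf hfk in
omit [Finite X] in
theorem eq_of_two_pow : ∀ (k : ℕ) {c : X}, c ∈ centralizer (T3 X : Set X) → c ^ 2 ^ k = 1 →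
    c = 1 ∨ c = z := by
  intro k
  induction k with
  | zero =>
    intro c _ hk
    left; simpa using hk
  | succ k ih =>
    intro c hc hk
    have h1 : (c ^ 2) ^ 2 ^ k = 1 := by rw [← pow_mul, ← pow_succ']; exact hk
    rcases ih (pow_mem hc 2) h1 with h2 | h2
    · exact A.inv_unique c (by rw [← pow_two]; exact h2)
    · exfalso
      have h4 : c ^ 4 = 1 := by
        have : c ^ 4 = (c ^ 2) ^ 2 := by rw [← pow_mul]
        rw [this, h2, pow_two, A.z_sq]
      have := sq_of_pow_four A f hf hfk hc h4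
      rw [this] at h2
      exact A.z_ne h2.symm

include h A hf hfk in
/-- the odd part `M` of the centralizer of `T3 X` -/
theorem exists_M : ∃ M : Subgroup X, M.Normal ∧ Odd (Nat.card M) ∧ (Nat.card M).Coprime 30 ∧
    M ≤ centralizer (T3 X : Set X) ∧ centralizer (T3 X : Set X) ≤ T3 X ⊔ M := by
  have : Fact (Nat.Prime 2) := ⟨Nat.prime_two⟩
  obtain ⟨C, hC⟩ : ∃ C : Subgroup X, C = centralizer (T3 X : Set X) := ⟨_, rfl⟩
  have hCn : C.Normal := by rw [hC]; infer_instance
  rw [← hC]
  obtain ⟨P⟩ : Nonempty (Sylow 2 C) := inferInstance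
  have hPz : ∀ s : C, s ∈ P → (s : X) = 1 ∨ (s : X) = z := by
    intro s hs
    obtain ⟨k, hk⟩ := P.isPGroup' ⟨s, hs⟩
    have hk' : (s : X) ^ 2 ^ k = 1 := by
      have := congrArg (fun t : (P : Subgroup C) => (((t : C)) : X)) hk
      simpa using this
    exact eq_of_two_pow A f hf hfk k (hC ▸ s.2) hk'
  have hP : normalizer (P : Set C) ≤ centralizer (P : Set C) := by
    intro g _
    rw [mem_centralizer_iff]
    intro s hs
    apply Subtype.ext
    rw [Subgroup.coe_mul, Subgroup.coe_mul]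
    rcases hPz s hs with h1 | h1
    · rw [h1, one_mul, mul_one]
    · rw [h1]; exact A.z_central _
  obtain ⟨M₀, hM₀⟩ : ∃ M₀ : Subgroup C, M₀ = (MonoidHom.transferSylow P hP).ker := ⟨_, rfl⟩
  have hM₀n : M₀.Normal := by rw [hM₀]; infer_instance
  have hcomp : IsComplement' M₀ (P : Subgroup C) := by
    rw [hM₀]; exact MonoidHom.ker_transferSylow_isComplement' P hP
  have hcardM₀ : Nat.card M₀ = (P : Subgroup C).index := hcomp.index_eq_card.symm
  have hoddM₀ : Odd (Nat.card M₀) := by
    rw [hcardM₀]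
    exact Nat.odd_iff.mpr (Nat.two_dvd_ne_zero.mp P.not_dvd_index)
  have hcardM : Nat.card (M₀.map C.subtype) = Nat.card M₀ := Subgroup.card_subtype C M₀
  have hMC : M₀.map C.subtype ≤ C := Subgroup.map_subtype_le M₀
  have hzC : z ∈ C := by
    rw [hC, mem_centralizer_iff]
    intro y _
    exact (A.z_central y).symm
  refine ⟨M₀.map C.subtype, ?_, ?_, ?_, hMC, ?_⟩
  · -- normality
    constructor
    intro m hm g
    obtain ⟨m₀, hm₀, rfl⟩ := hm
    have hgm : g * (m₀ : X) * g⁻¹ ∈ C := hCn.conj_mem _ m₀.2 g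
    refine ⟨⟨g * (m₀ : X) * g⁻¹, hgm⟩, ?_, rfl⟩
    apply Cfsg.Agent.Lib.Helper29.mem_normal_complement_of_coprime P M₀ hcomp
    have h1 : orderOf (⟨g * (m₀ : X) * g⁻¹, hgm⟩ : C) = orderOf m₀ := by
      rw [← Subgroup.orderOf_coe, ← Subgroup.orderOf_coe]
      have : g * (m₀ : X) * g⁻¹ = MulAut.conj g (m₀ : X) := by simp [MulAut.conj_apply]
      show orderOf (g * (m₀ : X) * g⁻¹) = _
      rw [this, MulEquiv.orderOf_eq]
    rw [h1]
    have h2 : orderOf m₀ ∣ Nat.card M₀ := by
      have := orderOf_dvd_natCard (⟨m₀, hm₀⟩ : M₀)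
      rwa [← Subgroup.orderOf_coe] at this
    exact Nat.Coprime.coprime_dvd_left h2 (Nat.coprime_two_right.mpr hoddM₀)
  · rw [hcardM]; exact hoddM₀
  · -- coprime to 30
    have h2 : (Nat.card (M₀.map C.subtype)).Coprime 2 := by
      rw [hcardM]; exact Nat.coprime_two_right.mpr hoddM₀
    have h3 : (Nat.card (M₀.map C.subtype)).Coprime 3 := by
      apply Nat.Coprime.symm
      rw [Nat.Prime.coprime_iff_not_dvd (by norm_num)]
      intro hd
      have : Fact (Nat.Prime 3) := ⟨by norm_num⟩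
      obtain ⟨m, hm⟩ := exists_prime_orderOf_dvd_card' (G := M₀.map C.subtype) 3 hd
      rw [← Subgroup.orderOf_coe] at hm
      exact no_three A f hf hfk (hC ▸ hMC m.2) hm
    have h5 : (Nat.card (M₀.map C.subtype)).Coprime 5 := by
      apply Nat.Coprime.symm
      rw [Nat.Prime.coprime_iff_not_dvd (by norm_num)]
      intro hd
      have : Fact (Nat.Prime 5) := ⟨by norm_num⟩
      obtain ⟨m, hm⟩ := exists_prime_orderOf_dvd_card' (G := M₀.map C.subtype) 5 hd
      rw [← Subgroup.orderOf_coe] at hm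
      exact no_five h A f hf hfk (hC ▸ hMC m.2) hm
    have : (30 : ℕ) = 2 * (3 * 5) := by norm_num
    rw [this]
    exact Nat.Coprime.mul_right h2 (Nat.Coprime.mul_right h3 h5)
  · -- `C ≤ T3 X ⊔ M`
    intro c hc
    obtain ⟨⟨m, s⟩, hms, -⟩ := hcomp.existsUnique (⟨c, hc⟩ : C)
    have hms' : ((m : C) : X) * ((s : C) : X) = c := by
      have := congrArg Subtype.val hms
      simpa using this
    rw [← hms']
    apply mul_mem
    · exact (le_sup_right : M₀.map C.subtype ≤ T3 X ⊔ M₀.map C.subtype) ⟨(m : C), m.2, rfl⟩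
    · apply (le_sup_left : T3 X ≤ T3 X ⊔ M₀.map C.subtype)
      rcases hPz (s : C) s.2 with h1 | h1
      · rw [h1]; exact one_mem _
      · rw [h1]; exact z_mem_T3 A f hf hfk

end cen

section idx
variable {X : Type u} [Group X] [Finite X] {z : X}
  (f : T3 X →* alternatingGroup (Fin 5)) (hf : Function.Surjective f)
  (Φ : X →* MulAut (alternatingGroup (Fin 5)))
  (hker : Φ.ker = centralizer (T3 X : Set X))
  (hΦ : ∀ l : T3 X, Φ (l : X) = MulAut.conj (f l))

include hf hker hΦ in
omit [Finite X] in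
/-- `T3 X · C(T3 X)` has index at most two -/
theorem index_sup_centralizer :
    (T3 X ⊔ centralizer (T3 X : Set X)).index = 1 ∨
      (T3 X ⊔ centralizer (T3 X : Set X)).index = 2 := by
  have hb := Cfsg.Agent.Lib.Helper9.AltAut.conjNormal_bijective (α := Fin 5) (by simp) (by simp)
  let e : Perm (Fin 5) ≃* MulAut (alternatingGroup (Fin 5)) :=
    MulEquiv.ofBijective (MulAut.conjNormal : Perm (Fin 5) →* MulAut (alternatingGroup (Fin 5))) hb
  let sgn : X →* ℤˣ := (Perm.sign).comp (e.symm.toMonoidHom.comp Φ)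
  have hsgn : ∀ g : X, sgn g = Perm.sign (e.symm (Φ g)) := fun g => rfl
  have he : ∀ σ : alternatingGroup (Fin 5), e (σ : Perm (Fin 5)) = MulAut.conj σ := by
    intro σ
    show MulAut.conjNormal (σ : Perm (Fin 5)) = MulAut.conj σ
    exact MulAut.conjNormal_val
  have hkersgn : sgn.ker = T3 X ⊔ centralizer (T3 X : Set X) := by
    apply le_antisymm
    · intro g hg
      rw [MonoidHom.mem_ker, hsgn] at hg
      have hmem : e.symm (Φ g) ∈ alternatingGroup (Fin 5) := Perm.mem_alternatingGroup.mpr hg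
      obtain ⟨l, hl⟩ := hf ⟨e.symm (Φ g), hmem⟩
      have h1 : Φ (l : X) = Φ g := by
        rw [hΦ, hl, ← he]
        exact e.apply_symm_apply _
      have h2 : (l : X)⁻¹ * g ∈ centralizer (T3 X : Set X) := by
        rw [← hker, MonoidHom.mem_ker, map_mul, map_inv, h1, inv_mul_cancel]
      have : g = (l : X) * ((l : X)⁻¹ * g) := by group
      rw [this]
      exact mul_mem ((le_sup_left : T3 X ≤ _) l.2) ((le_sup_right : centralizer (T3 X : Set X) ≤ _) h2)
    · rw [sup_le_iff]
      constructor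
      · intro l hl
        rw [MonoidHom.mem_ker, hsgn]
        have h1 : Φ l = e ((f ⟨l, hl⟩ : alternatingGroup (Fin 5)) : Perm (Fin 5)) := by
          rw [he]; exact hΦ ⟨l, hl⟩
        rw [h1, e.symm_apply_apply]
        exact Perm.mem_alternatingGroup.mp (f ⟨l, hl⟩).2
      · intro c hc
        rw [← hker, MonoidHom.mem_ker] at hc
        rw [MonoidHom.mem_ker, hsgn, hc, map_one, map_one]
  rw [← hkersgn, Subgroup.index_ker]
  have h1 : Nat.card sgn.range ∣ 2 := by
    have := Subgroup.card_subgroup_dvd_card sgn.range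
    rwa [Nat.card_eq_fintype_card (α := ℤˣ), Fintype.card_units_int] at this
  exact (Nat.dvd_prime Nat.prime_two).mp h1

end idx

end Cfsg.Agent.Lib.Helper17.Zs
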