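/-
helper17: Zassenhaus cluster.  Structure theorems for finite groups with a free representation:
* `structure_of_nonsolvable`: nonsolvable ⇒ a normal subgroup of index ≤ 2 of the form
  `SL(2,5) × M`, `M` a Z-group of order prime to `30`;
* `structure_of_perfect`: perfect and nontrivial ⇒ `≅ SL(2,5)`.
-/
import Mathlib
import Cfsg.Agent.Lib.Helper17.ZsMainC

set_option autoImplicit false

namespace Cfsg.Agent.Lib.Helper17.Zs

open Subgroup Equiv

universe u v

section str
variable {X : Type u} [Group X] [Finite X]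

/-- the `2.A₅` case -/
theorem chart_five_structure (h : HasFree.{u, v} X) {z : X} (A : ZsAx X z)
    (hc : Chart z (T3 X) 5 120) :
    Nonempty (T3 X ≃* Matrix.SpecialLinearGroup (Fin 2) (ZMod 5)) ∧
    ∃ M : Subgroup X, M.Normal ∧ Odd (Nat.card M) ∧ (Nat.card M).Coprime 30 ∧
      (∀ s ∈ T3 X, ∀ x ∈ M, s * x = x * s) ∧ T3 X ⊓ M = ⊥ ∧
      ((T3 X ⊔ M).index = 1 ∨ (T3 X ⊔ M).index = 2) := by
  obtain ⟨f, Φ, hf, hfk, hker, hΦ, -⟩ := exists_indAut A hc (by
    rw [Nat.card_eq_fintype_card, Fintype.card_perm, Fintype.card_fin]; rfl)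
  have hcard : Nat.card (T3 X) = 120 := hc.2.1
  refine ⟨nonempty_T3_equiv A f hf hfk hcard, ?_⟩
  obtain ⟨M, hMn, hodd, hcop, hMC, hCM⟩ := exists_M h A f hf hfk
  refine ⟨M, hMn, hodd, hcop, ?_, ?_, ?_⟩
  · intro s hs x hx
    exact mem_centralizer_iff.mp (hMC hx) s hs
  · rw [eq_bot_iff]
    intro x hx
    rw [Subgroup.mem_inf] at hx
    rcases eq_of_mem_inf f hf hfk hx.1 (hMC hx.2) with h1 | h1
    · rw [h1]; exact one_mem _
    · exfalso
      have h2 : orderOf (⟨x, hx.2⟩ : M) ∣ Nat.card M := orderOf_dvd_natCard _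
      rw [← Subgroup.orderOf_coe] at h2
      simp only at h2
      rw [h1, A.orderOf_z] at h2
      exact (Nat.not_even_iff_odd.mpr hodd) (even_iff_two_dvd.mpr h2)
  · have : T3 X ⊔ M = T3 X ⊔ centralizer (T3 X : Set X) :=
      le_antisymm (sup_le le_sup_left (hMC.trans le_sup_right)) (sup_le le_sup_left hCM)
    rw [this]
    exact index_sup_centralizer f hf Φ hker hΦ

omit [Finite X] in
/-- a perfect group has no nontrivial homomorphism to a solvable group -/
theorem range_eq_bot_of_perfect (hperf : commutator X = ⊤) {S : Type*} [Group S]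
    [hS : Group.IsSolvable S] (φ : X →* S) : φ.range = ⊥ := by
  have hd : ∀ n : ℕ, derivedSeries X n = ⊤ := by
    intro n
    induction n with
    | zero => rfl
    | succ n ih => rw [derivedSeries_succ, ih, ← commutator_def, hperf]
  obtain ⟨n, hn⟩ := hS.solvable
  have := map_derivedSeries_le_derivedSeries φ n
  rw [hd n, hn, ← MonoidHom.range_eq_map] at this
  exact le_bot_iff.mp this

/-- **Structure of nonsolvable groups with a free representation.** -/
theorem structure_of_nonsolvable (h : HasFree.{u, v} X) (hns : ¬ Group.IsSolvable X) :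
    ∃ G₀ : Subgroup X, G₀.Normal ∧ (G₀.index = 1 ∨ G₀.index = 2) ∧
      ∃ S M : Subgroup X, S ⊔ M = G₀ ∧ S ⊓ M = ⊥ ∧ (∀ s ∈ S, ∀ x ∈ M, s * x = x * s) ∧
        Nonempty (S ≃* Matrix.SpecialLinearGroup (Fin 2) (ZMod 5)) ∧
        (∀ (p : ℕ) [Fact p.Prime] (P : Sylow p M), IsCyclic P) ∧ (Nat.card M).Coprime 30 := by
  rcases solvable_or_chart h with hs | ⟨z, A, hc⟩
  · exact (hns hs).elim
  obtain ⟨hS, M, hMn, hodd, hcop, hcomm, hinf, hidx⟩ := chart_five_structure h A hc
  have hZ : IsZGroup M := (h.subgroup M).isZGroup_of_odd hodd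
  refine ⟨T3 X ⊔ M, inferInstance, hidx, T3 X, M, rfl, hinf, hcomm, hS, ?_, hcop⟩
  intro p _ P
  infer_instance

/-- **Perfect groups with a free representation** are isomorphic to `SL(2,5)`. -/
theorem structure_of_perfect [Nontrivial X] (h : HasFree.{u, v} X) (hperf : commutator X = ⊤) :
    Nonempty (X ≃* Matrix.SpecialLinearGroup (Fin 2) (ZMod 5)) := by
  have hns : ¬ Group.IsSolvable X := by
    intro hs
    have := Group.IsSolvable.commutator_lt_top_of_nontrivial X
    rw [hperf] at this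
    exact lt_irrefl _ this
  rcases solvable_or_chart h with hs | ⟨z, A, hc⟩
  · exact (hns hs).elim
  obtain ⟨⟨e⟩, M, hMn, hodd, hcop, hcomm, hinf, hidx⟩ := chart_five_structure h A hc
  have hZ : IsZGroup M := (h.subgroup M).isZGroup_of_odd hodd
  -- `T3 X ⊔ M = ⊤`
  have htop : T3 X ⊔ M = ⊤ := by
    have h1 := range_eq_bot_of_perfect hperf (QuotientGroup.mk' (T3 X ⊔ M))
      (hS := by
        have hc2 : Nat.card (X ⧸ (T3 X ⊔ M)) ≤ 2 := by
          rw [← Subgroup.index_eq_card]
          rcases hidx with h | h <;> omega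
        have hcyc : IsCyclic (X ⧸ (T3 X ⊔ M)) := by
          rcases Nat.lt_or_ge (Nat.card (X ⧸ (T3 X ⊔ M))) 2 with h2 | h2
          · have h3 : Nat.card (X ⧸ (T3 X ⊔ M)) = 1 := by
              have := Nat.card_pos (α := X ⧸ (T3 X ⊔ M)); omega
            have := (Nat.card_eq_one_iff_unique.mp h3).1
            exact isCyclic_of_subsingleton
          · have h3 : Nat.card (X ⧸ (T3 X ⊔ M)) = 2 := le_antisymm hc2 h2
            have : Fact (Nat.Prime 2) := ⟨Nat.prime_two⟩
            exact isCyclic_of_prime_card h3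
        let _ : CommGroup (X ⧸ (T3 X ⊔ M)) := IsCyclic.commGroup
        infer_instance)
    rw [MonoidHom.range_eq_top.mpr (QuotientGroup.mk'_surjective _)] at h1
    rw [← QuotientGroup.ker_mk' (T3 X ⊔ M), MonoidHom.ker_eq_top_iff]
    ext g
    have : QuotientGroup.mk' (T3 X ⊔ M) g ∈ (⊤ : Subgroup (X ⧸ (T3 X ⊔ M))) := mem_top _
    rw [h1, mem_bot] at this
    rw [this]; rfl
  -- `X ⧸ T3 X` is a quotient of `M`
  have hsurj : Function.Surjective ((QuotientGroup.mk' (T3 X)).comp M.subtype) := by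
    intro q
    obtain ⟨g, rfl⟩ := QuotientGroup.mk'_surjective _ q
    have hg : g ∈ ((T3 X ⊔ M : Subgroup X) : Set X) := by rw [htop]; exact mem_top g
    rw [Subgroup.normal_mul] at hg
    obtain ⟨l, hl, m, hm, rfl⟩ := Set.mem_mul.mp hg
    refine ⟨⟨m, hm⟩, ?_⟩
    rw [MonoidHom.comp_apply, map_mul]
    have : QuotientGroup.mk' (T3 X) l = 1 := (QuotientGroup.eq_one_iff l).mpr hl
    rw [this, one_mul]; rfl
  have hsolv : Group.IsSolvable (X ⧸ T3 X) := Group.isSolvable_of_surjective hsurj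
  have h2 := range_eq_bot_of_perfect hperf (QuotientGroup.mk' (T3 X))
  rw [MonoidHom.range_eq_top.mpr (QuotientGroup.mk'_surjective _)] at h2
  have hT : T3 X = ⊤ := by
    rw [eq_top_iff]
    intro g _
    rw [← QuotientGroup.eq_one_iff]
    have : QuotientGroup.mk' (T3 X) g ∈ (⊤ : Subgroup (X ⧸ T3 X)) := mem_top _
    rw [h2, mem_bot] at this
    exact this
  exact ⟨(Subgroup.topEquiv.symm.trans (MulEquiv.subgroupCongr hT.symm)).trans e⟩

end str

end Cfsg.Agent.Lib.Helper17.Zs
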