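/-
helper17: Zassenhaus cluster.  Frobenius complements have a free representation.
-/
import Mathlib
import Cfsg.Agent.Lib.Helper17.ZsMainD
import Cfsg.Agent.Lib.Lead.FrobConj

set_option autoImplicit false

namespace Cfsg.Agent.Lib.Helper17.Zs

open Subgroup

universe u w

/-- a Frobenius complement has a free representation over a prime field -/
theorem hasFree_of_frobeniusComplement {L : Type u} [Group L] [Finite L] (H : Subgroup L)
    (hH : Cfsg.IsFrobeniusComplement H) : HasFree.{u, u} H := by
  obtain ⟨K, -, hKn, -, hKne, hfpf⟩ := Cfsg.Agent.CharLib.frob_setup H hH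
  have : Nontrivial K := (Subgroup.nontrivial_iff_ne_bot K).mpr hKne
  have : Nontrivial H := (Subgroup.nontrivial_iff_ne_bot H).mpr hH.1
  apply hasFree_of_fpf ((MulAut.conjNormal : L →* MulAut K).comp H.subtype)
  intro g hg k hk
  have h1 : (g : L) * (k : L) * (g : L)⁻¹ = k := by
    have := congrArg Subtype.val hk
    rw [MonoidHom.comp_apply, MulAut.conjNormal_apply] at this
    exact this
  have hmem : (k : L) ∈ K ⊓ centralizer {(g : L)} := by
    refine Subgroup.mem_inf.mpr ⟨k.2, ?_⟩
    rw [Subgroup.mem_centralizer_singleton_iff]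
    symm
    calc (g : L) * (k : L) = ((g : L) * (k : L) * (g : L)⁻¹) * g := by group
      _ = (k : L) * g := by rw [h1]
  rw [hfpf g g.2 (fun h => hg (Subtype.ext h))] at hmem
  exact Subtype.ext (Subgroup.mem_bot.mp hmem)

/-- groups isomorphic to Frobenius complements have a free representation -/
theorem hasFree_of_isFC {G : Type w} [Group G]
    (hFC : ∃ (L : Type) (_ : Group L) (_ : Finite L) (H : Subgroup L),
      Cfsg.IsFrobeniusComplement H ∧ Nonempty (G ≃* H)) : HasFree.{w, 0} G := by
  obtain ⟨L, _, _, H, hH, ⟨e⟩⟩ := hFC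
  exact (hasFree_of_frobeniusComplement H hH).of_mulEquiv e

end Cfsg.Agent.Lib.Helper17.Zs
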