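import Cfsg.Agent.Lib.Helper17.OC2Defs

/-!
# S5677 toolkit leaves (T1–T12)
-/

set_option autoImplicit false
set_option linter.unusedSectionVars false
set_option linter.unusedVariables false
set_option linter.unusedSimpArgs false

namespace Cfsg.Agent.Lib.Helper17.OC2Leaf

open Module QuadraticMap Matrix Cfsg.Agent.Lib.Helper25.CD Cfsg.Agent.Lib.Helper25.Spin
  Cfsg.Agent.Lib.Helper15 Cfsg.Agent.Lib.Helper5.NSMax Cfsg.Agent.Lib.Helper5.PairMax
  Cfsg.Agent.Lib.Helper17.OC2

variable {ι : Type} [Fintype ι] [DecidableEq ι] {F : Type*} [Field F] [Fintype F]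
  {Q : QuadraticForm F (ι → F)} {t : ℕ} {D : Fin t → Submodule F (ι → F)} {k : ℕ}
  {M : Subgroup ↥(Cfsg.isometryGroup F ⇑Q)}

/-- T1 -/
theorem reflM_fixes (hG : Geo Q D k) {i : Fin t} {v : ι → F} (hv : v ∈ D i) :
    Fixes Q D (reflM Q v) := by
  intro j x hx
  rw [toOG_reflM, reflE_apply]
  by_cases hji : j = i
  · subst hji
    exact (D j).sub_mem hx ((D j).smul_mem _ hv)
  · rw [hG.orth i j (Ne.symm hji) v hv x hx, mul_zero, zero_smul, sub_zero]
    exact hx

/-- T1' : a reflection fixes the vectors orthogonal to its root -/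
theorem toOG_reflM_of_perp {v x : ι → F} (h : polar Q v x = 0) : toOG Q (reflM Q v) x = x := by
  rw [toOG_reflM, reflE_of_perp Q h]

/-- T2 -/
theorem rgen_fix {U : Submodule F (ι → F)} {h : ↥(Cfsg.isometryGroup F ⇑Q)} (hh : h ∈ RGen Q U)
    {x : ι → F} (hx : ∀ u ∈ U, polar Q u x = 0) : toOG Q h x = x := by
  unfold RGen at hh
  induction hh using Subgroup.closure_induction with
  | mem g hg =>
    obtain ⟨v, hv, -, rfl⟩ := hg
    exact toOG_reflM_of_perp (hx v hv)
  | one => rw [map_one]; rfl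
  | mul a b _ _ ha hb => rw [map_mul, LinearEquiv.mul_apply, hb, ha]
  | inv a _ ha =>
    rw [map_inv]
    have : (toOG Q a)⁻¹ (toOG Q a x) = x := by
      rw [← LinearEquiv.mul_apply, inv_mul_cancel]; rfl
    rw [ha] at this
    exact this

/-- inverse of a block-fixing isometry fixes the blocks -/
theorem Fixes.inv' (hG : Geo Q D k) {g : ↥(Cfsg.isometryGroup F ⇑Q)} (h : Fixes Q D g) :
    Fixes Q D g⁻¹ := by
  intro i x hx
  have hmap := map_eq_of_mem (toOG Q g) (W := D i) (W' := D i) rfl (h i)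
  have hx' : x ∈ (D i).map ((toOG Q g : (ι → F) ≃ₗ[F] (ι → F)) : (ι → F) →ₗ[F] (ι → F)) := by
    rw [hmap]; exact hx
  obtain ⟨y, hy, rfl⟩ := hx'
  rw [map_inv]
  have : (toOG Q g)⁻¹ (toOG Q g y) = y := by
    rw [← LinearEquiv.mul_apply, inv_mul_cancel]; rfl
  rw [LinearEquiv.coe_coe, this]
  exact hy

/-- T3 -/
theorem rgen_fixes (hG : Geo Q D k) {U : Submodule F (ι → F)} {j : Fin t} (hU : U ≤ D j)
    {h : ↥(Cfsg.isometryGroup F ⇑Q)} (hh : h ∈ RGen Q U) : Fixes Q D h := by
  unfold RGen at hh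
  induction hh using Subgroup.closure_induction with
  | mem g hg =>
    obtain ⟨v, hv, -, rfl⟩ := hg
    exact reflM_fixes hG (hU hv)
  | one => exact fixes_one
  | mul a b _ _ ha hb => exact ha.mul hb
  | inv a _ ha => exact Fixes.inv' hG ha

/-- T4 : every isometry can be corrected into `Ω` by reflections in a nondegenerate subspace of dimension ≥ 2 -/
theorem exists_adjust_in (hG : Geo Q D k) {U : Submodule F (ι → F)} (hU : NdOn Q U)
    (h2U : 2 ≤ finrank F U) (g : ↥(Cfsg.isometryGroup F ⇑Q)) :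
    ∃ h ∈ RGen Q U, h * g ∈ Cfsg.Omega F ⇑Q := by
  obtain ⟨u, hu, hQu⟩ := Cfsg.Agent.Lib.Helper25.OGeom.universal Q hU h2U 1
  obtain ⟨n₀, hn₀⟩ := FiniteField.exists_nonsquare (F := F) (by
    intro h
    apply hG.h2
    have : CharP F 2 := ringChar.of_eq h
    exact CharTwo.two_eq_zero)
  obtain ⟨u', hu', hQu'⟩ := Cfsg.Agent.Lib.Helper25.OGeom.universal Q hU h2U n₀
  have hn₀0 : n₀ ≠ 0 := by
    rintro rfl
    exact hn₀ ⟨0, by ring⟩
  have hmem : ∀ v ∈ U, Q v ≠ 0 → reflM Q v ∈ RGen Q U := fun v hv hQv =>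
    Subgroup.subset_closure ⟨v, hv, hQv, rfl⟩
  have hQu1 : Q u ≠ 0 := by rw [hQu]; exact one_ne_zero
  have hQu'1 : Q u' ≠ 0 := by rw [hQu']; exact hn₀0
  apply Cfsg.Agent.Lib.Helper25.Fam.exists_adjust Q hG.nd (Or.inr (by have := hG.card; omega))
    (RGen Q U) (as := [u])
  · intro v hv
    rw [List.mem_singleton] at hv
    rw [hv]; exact hQu1
  · rw [wordG_singleton]
    exact hmem u hu hQu1
  · exact ⟨0, rfl⟩
  · intro _
    refine ⟨[u, u'], ?_, ?_, ⟨1, rfl⟩, ?_⟩
    · intro v hv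
      simp only [List.mem_cons, List.not_mem_nil, or_false] at hv
      rcases hv with rfl | rfl
      · exact hQu1
      · exact hQu'1
    · rw [wordG_cons, wordG_singleton]
      exact mul_mem (hmem u hu hQu1) (hmem u' hu' hQu'1)
    · rw [normProd_cons, normProd_cons, normProd_nil, mul_one, hQu, hQu', one_mul]
      exact hn₀

/-- T5 -/
theorem egen_fixes (hG : Geo Q D k) {i : Fin t} {z y : ι → F} (hz : z ∈ D i) (hy : y ∈ D i)
    {g : ↥(Cfsg.isometryGroup F ⇑Q)} (hg : ∀ x, toOG Q g x = egen Q z y x) : Fixes Q D g := by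
  intro j x hx
  rw [hg]
  unfold egen
  by_cases hji : j = i
  · subst hji
    exact (D j).sub_mem ((D j).sub_mem ((D j).add_mem hx ((D j).smul_mem _ hy))
      ((D j).smul_mem _ hz)) ((D j).smul_mem _ hz)
  · rw [hG.orth i j (Ne.symm hji) z hz x hx, hG.orth i j (Ne.symm hji) y hy x hx]
    simpa using hx

/-- T7 -/
theorem negRefl_fixes (hG : Geo Q D k) {i : Fin t} {a : ι → F} (ha : a ∈ D i) :
    Fixes Q D (negRefl Q a) := by
  intro j x hx
  rw [toOG_negRefl]
  have := reflM_fixes hG ha j x hx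
  rw [toOG_reflM] at this
  exact (D j).neg_mem this

/-- T8 -/
theorem pair_mem_omega_iff (hG : Geo Q D k) {a b : ι → F} (ha : Q a ≠ 0) (hb : Q b ≠ 0) :
    reflM Q a * reflM Q b ∈ Cfsg.Omega F ⇑Q ↔ IsSquare (Q a * Q b) := by
  have e : reflM Q a * reflM Q b = wordG Q [a, b] := by
    rw [wordG_cons, wordG_singleton]
  have hvs : ∀ v ∈ [a, b], Q v ≠ 0 := by
    intro v hv
    simp only [List.mem_cons, List.not_mem_nil, or_false] at hv
    rcases hv with rfl | rfl
    · exact ha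
    · exact hb
  rw [e, mem_omega_iff Q hG.h2 hG.nd hvs, normProd_cons, normProd_cons, normProd_nil, mul_one]
  exact ⟨fun h => h.2, fun h => ⟨⟨1, rfl⟩, h⟩⟩

/-- T9 : `r_a r_{a+μz} = E_{z,(μ/Q(a)) a}` -/
theorem refl_pair_eq_egen {a z : ι → F} {N μ : F} (hN : N ≠ 0) (ha : Q a = N) (hz : Q z = 0)
    (hza : polar Q z a = 0) (x : ι → F) :
    toOG Q (reflM Q a * reflM Q (a + μ • z)) x = egen Q z ((μ / N) • a) x := by
  have haz : polar Q a z = 0 := by rw [polar_comm]; exact hza
  have hzz : polar Q z z = 0 := by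
    rw [Cfsg.Agent.Lib.Helper25.MaxTS.polar_self, hz, mul_zero]
  have haa : polar Q a a = 2 * N := by
    rw [Cfsg.Agent.Lib.Helper25.MaxTS.polar_self, ha]
  have hQ' : Q (a + μ • z) = N := by
    rw [Cfsg.Agent.Lib.Helper25.MaxTS.Q_add_smul, ha, hz, haz]; ring
  rw [map_mul, LinearEquiv.mul_apply, toOG_reflM, toOG_reflM, reflE_apply, reflE_apply, hQ', ha]
  unfold egen
  simp only [polar_add_left, polar_smul_left, polar_sub_right, polar_smul_right, polar_add_right,
    smul_eq_mul, QuadraticMap.map_smul, ha, haa, haz, hza, hzz]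
  match_scalars <;> field_simp <;> ring

/-- T10 -/
theorem Q_eq_sum (hG : Geo Q D k) (x : ι → F) : Q x = ∑ i, Q (pr hG i x) := by
  have key : ∀ s : Finset (Fin t), Q (∑ i ∈ s, pr hG i x) = ∑ i ∈ s, Q (pr hG i x) := by
    intro s
    induction s using Finset.induction_on with
    | empty => simp
    | insert j s hjs ih =>
      rw [Finset.sum_insert hjs, Finset.sum_insert hjs, Cfsg.Agent.Lib.Helper25.MaxTS.Q_add, ih]
      have : polar Q (pr hG j x) (∑ i ∈ s, pr hG i x) = 0 := by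
        have h1 : polar Q (pr hG j x) (∑ i ∈ s, pr hG i x) =
            polarBilin Q (pr hG j x) (∑ i ∈ s, pr hG i x) := rfl
        rw [h1, map_sum]
        apply Finset.sum_eq_zero
        intro i hi
        rw [polarBilin_apply_apply]
        exact hG.orth j i (fun h => hjs (h ▸ hi)) _ (pr_mem hG j x) _ (pr_mem hG i x)
      rw [this, add_zero]
  have := key Finset.univ
  rwa [sum_pr hG x] at this

/-- T11 : distinct blocks meet trivially -/
theorem disjoint_blocks (hG : Geo Q D k) {i j : Fin t} (hij : i ≠ j) {x : ι → F} (hi : x ∈ D i)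
    (hj : x ∈ D j) : x = 0 := by
  have h1 := pr_same hG hi
  have h2 := pr_ne hG (Ne.symm hij) hj
  rw [← h1, h2]

/-- T12 : `egen (c • u) y = egen u (c • y)` -/
theorem egen_smul_left (u y x : ι → F) (c : F) : egen Q (c • u) y x = egen Q u (c • y) x := by
  unfold egen
  simp only [polar_smul_left, QuadraticMap.map_smul, smul_eq_mul]
  match_scalars <;> ring

end Cfsg.Agent.Lib.Helper17.OC2Leaf
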