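import Cfsg.Agent.Lib.Helper5.NDMax
import Cfsg.Agent.Lib.Helper25.SpinIndex
import Cfsg.Agent.Lib.Helper25.SpinAll
import Cfsg.Agent.Lib.Helper25.OmegaTrans

/-!
# S5677 (KL class C2 in Ω_{2m+1}(q), blocks O_k(q), k ≥ 3 odd): shared definitions

`Q` is a nondegenerate quadratic form on `ι → F` (odd dimension, odd characteristic), `D : Fin t → Submodule` a
decomposition into pairwise orthogonal, pairwise isometric `k`-spaces.  Projections `pr hG i` onto the blocks, the
"negative reflections" `negRefl Q a = -r_a`, block-permuting isometries `IsPerm`, and the configuration `TB`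
(a Siegel element of `M` centred at a singular vector of a block, not lying in the block stabiliser's root group).
-/

set_option autoImplicit false
set_option linter.unusedSectionVars false
set_option linter.unusedVariables false

namespace Cfsg.Agent.Lib.Helper17.OC2

open Module QuadraticMap Matrix Cfsg.Agent.Lib.Helper25.CD Cfsg.Agent.Lib.Helper25.Spin
  Cfsg.Agent.Lib.Helper15 Cfsg.Agent.Lib.Helper5.NSMax Cfsg.Agent.Lib.Helper5.PairMax

variable {ι : Type} [Fintype ι] [DecidableEq ι] {F : Type*} [Field F] [Fintype F]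
  (Q : QuadraticForm F (ι → F)) {t : ℕ} (D : Fin t → Submodule F (ι → F))

/-- The geometric data: a decomposition of an odd-dimensional nondegenerate quadratic space (odd characteristic) into
`t ≥ 3` pairwise orthogonal, pairwise isometric subspaces of dimension `k ≥ 3`, excluding `q = k = 3`. -/
structure Geo (k : ℕ) : Prop where
  nd : (polarBilin Q).Nondegenerate
  card : 7 ≤ Fintype.card ι
  oddn : Odd (Fintype.card ι)
  h2 : (2 : F) ≠ 0
  k3 : 3 ≤ k
  t3 : 3 ≤ t
  fr : ∀ i, finrank F (D i) = k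
  orth : ∀ i j, i ≠ j → ∀ x ∈ D i, ∀ y ∈ D j, polar Q x y = 0
  indep : iSupIndep D
  sup : iSup D = ⊤
  iso : ∀ i j, ∃ e : D i ≃ₗ[F] D j, ∀ w : D i, Q ((e w : D j) : ι → F) = Q (w : ι → F)
  hex : 5 ≤ Fintype.card F ∨ 5 ≤ k

variable {Q D}

/-- the sum of the blocks other than `i` -/
def co (D : Fin t → Submodule F (ι → F)) (i : Fin t) : Submodule F (ι → F) :=
  ⨆ j, ⨆ (_ : j ≠ i), D j

lemma le_co {i j : Fin t} (hji : j ≠ i) : D j ≤ co D i :=
  le_iSup₂_of_le j hji le_rfl

lemma isCompl_co {k : ℕ} (hG : Geo Q D k) (i : Fin t) : IsCompl (D i) (co D i) := by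
  refine ⟨(iSupIndep_def.mp hG.indep) i, ?_⟩
  rw [codisjoint_iff, eq_top_iff, ← hG.sup]
  apply iSup_le
  intro j
  by_cases hji : j = i
  · subst hji; exact le_sup_left
  · exact le_trans (le_co hji) le_sup_right

/-- projection onto the block `D i` along the other blocks -/
noncomputable def pr {k : ℕ} (hG : Geo Q D k) (i : Fin t) : (ι → F) →ₗ[F] (ι → F) :=
  (D i).subtype ∘ₗ (D i).projectionOnto (co D i) (isCompl_co hG i)

section pr
variable {k : ℕ} (hG : Geo Q D k)

lemma pr_mem (i : Fin t) (v : ι → F) : pr hG i v ∈ D i := by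
  unfold pr
  simp

lemma pr_same {i : Fin t} {v : ι → F} (hv : v ∈ D i) : pr hG i v = v := by
  unfold pr
  have := Submodule.projectionOnto_apply_left (isCompl_co hG i) ⟨v, hv⟩
  simp only [LinearMap.coe_comp, Function.comp_apply, Submodule.subtype_apply]
  exact congrArg Subtype.val this

lemma pr_of_mem_co {i : Fin t} {v : ι → F} (hv : v ∈ co D i) : pr hG i v = 0 := by
  unfold pr
  simp only [LinearMap.coe_comp, Function.comp_apply, Submodule.subtype_apply]
  rw [Submodule.projectionOnto_apply_of_mem_right (isCompl_co hG i) hv]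
  rfl

lemma pr_ne {i j : Fin t} (hji : j ≠ i) {v : ι → F} (hv : v ∈ D j) : pr hG i v = 0 :=
  pr_of_mem_co hG (le_co hji hv)

lemma sum_pr (v : ι → F) : ∑ i, pr hG i v = v := by
  have hv : v ∈ ⨆ i, D i := by rw [hG.sup]; exact Submodule.mem_top
  refine Submodule.iSup_induction D (motive := fun v => ∑ i, pr hG i v = v) hv ?_ ?_ ?_
  · intro j x hx
    rw [Finset.sum_eq_single j]
    · exact pr_same hG hx
    · intro i _ hij
      exact pr_ne hG (Ne.symm hij) hx
    · intro h; exact absurd (Finset.mem_univ j) h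
  · simp
  · intro x y hx hy
    simp only [map_add, Finset.sum_add_distrib, hx, hy]

/-- the polar form against a vector of a block only sees the component in that block -/
lemma polar_pr {i : Fin t} (x : ι → F) {y : ι → F} (hy : y ∈ D i) :
    polar Q x y = polar Q (pr hG i x) y := by
  have h1 : polar Q x y = polarBilin Q (∑ j, pr hG j x) y := by
    rw [sum_pr hG x, polarBilin_apply_apply]
  rw [h1, map_sum, LinearMap.sum_apply, Finset.sum_eq_single i]
  · rw [polarBilin_apply_apply]
  · intro j _ hji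
    rw [polarBilin_apply_apply]
    exact hG.orth j i hji _ (pr_mem hG j x) _ hy
  · intro h; exact absurd (Finset.mem_univ i) h

lemma polar_pr' {i : Fin t} {x : ι → F} (hx : x ∈ D i) (y : ι → F) :
    polar Q x y = polar Q x (pr hG i y) := by
  rw [polar_comm, polar_pr hG y hx, polar_comm]

include hG in
/-- every block is a nondegenerate subspace -/
lemma ndOn (i : Fin t) : NdOn Q (D i) := by
  intro w hw hall
  apply hG.nd.1 w
  intro y
  rw [polarBilin_apply_apply, polar_pr' hG hw y]
  exact hall _ (pr_mem hG i y)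

lemma mem_of_pr_eq_zero {i : Fin t} {x : ι → F} (h : ∀ j, j ≠ i → pr hG j x = 0) : x ∈ D i := by
  rw [← sum_pr hG x, Finset.sum_eq_single i]
  · exact pr_mem hG i x
  · intro j _ hji; exact h j hji
  · intro h; exact absurd (Finset.mem_univ i) h

end pr

/-- `g` maps every block into a block, according to a permutation of the blocks -/
def IsPerm (Q : QuadraticForm F (ι → F)) (D : Fin t → Submodule F (ι → F))
    (g : ↥(Cfsg.isometryGroup F ⇑Q)) : Prop :=
  ∃ σ : Equiv.Perm (Fin t), ∀ i, ∀ x ∈ D i, toOG Q g x ∈ D (σ i)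

/-- `g` maps every block into itself -/
def Fixes (Q : QuadraticForm F (ι → F)) (D : Fin t → Submodule F (ι → F))
    (g : ↥(Cfsg.isometryGroup F ⇑Q)) : Prop :=
  ∀ i, ∀ x ∈ D i, toOG Q g x ∈ D i

lemma Fixes.isPerm {g : ↥(Cfsg.isometryGroup F ⇑Q)} (h : Fixes Q D g) : IsPerm Q D g :=
  ⟨1, fun i x hx => h i x hx⟩

lemma Fixes.mul {g g' : ↥(Cfsg.isometryGroup F ⇑Q)} (h : Fixes Q D g) (h' : Fixes Q D g') :
    Fixes Q D (g * g') := by
  intro i x hx
  rw [map_mul, LinearEquiv.mul_apply]
  exact h i _ (h' i x hx)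

lemma fixes_one : Fixes Q D (1 : ↥(Cfsg.isometryGroup F ⇑Q)) := by
  intro i x hx
  rw [map_one]
  exact hx

variable (Q) in
/-- `-1` as an isometry -/
noncomputable def negOne : ↥(Cfsg.isometryGroup F ⇑Q) :=
  ofOG Q (LinearEquiv.neg F) (mem_OG.2 (fun x => by
    rw [LinearEquiv.neg_apply, QuadraticMap.map_neg]))

lemma toOG_negOne (x : ι → F) : toOG Q (negOne Q) x = -x := by
  unfold negOne
  rw [toOG_ofOG, LinearEquiv.neg_apply]

variable (Q) in
/-- the negative of the reflection in `a`: `x ↦ -x + (f(a,x)/Q(a)) a`; it has determinant one in odd dimension -/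
noncomputable def negRefl (a : ι → F) : ↥(Cfsg.isometryGroup F ⇑Q) := negOne Q * reflM Q a

lemma toOG_negRefl (a x : ι → F) : toOG Q (negRefl Q a) x = -(reflE Q a x) := by
  unfold negRefl
  rw [map_mul, LinearEquiv.mul_apply, toOG_negOne, toOG_reflM]

lemma negOne_comm (g : ↥(Cfsg.isometryGroup F ⇑Q)) : negOne Q * g = g * negOne Q := by
  apply toOG_injective
  ext1 x
  rw [map_mul, map_mul, LinearEquiv.mul_apply, LinearEquiv.mul_apply, toOG_negOne, toOG_negOne,
    map_neg]

lemma negOne_mul_self : negOne Q * negOne Q = 1 := by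
  apply toOG_injective
  ext1 x
  rw [map_mul, LinearEquiv.mul_apply, toOG_negOne, toOG_negOne, neg_neg, map_one]
  rfl

/-- the product of two negative reflections is the product of the reflections -/
lemma negRefl_mul (a b : ι → F) : negRefl Q a * negRefl Q b = reflM Q a * reflM Q b := by
  unfold negRefl
  rw [mul_assoc, ← mul_assoc (reflM Q a), ← negOne_comm (reflM Q a), mul_assoc, ← mul_assoc,
    negOne_mul_self, one_mul]

lemma negRefl_mul_self (a : ι → F) : negRefl Q a * negRefl Q a = 1 := by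
  rw [negRefl_mul, reflM_mul_self]

lemma negRefl_inv (a : ι → F) : (negRefl Q a)⁻¹ = negRefl Q a :=
  inv_eq_of_mul_eq_one_left (negRefl_mul_self a)

/-- conjugating a negative reflection -/
lemma conj_negRefl (g : ↥(Cfsg.isometryGroup F ⇑Q)) (a : ι → F) :
    g * negRefl Q a * g⁻¹ = negRefl Q (toOG Q g a) := by
  unfold negRefl
  rw [← mul_assoc, ← negOne_comm g, mul_assoc, mul_assoc, ← mul_assoc g, conj_reflM]
  rfl

/-- a vector lying in no block -/
def Mixed (D : Fin t → Submodule F (ι → F)) (a : ι → F) : Prop := ∀ i, a ∉ D i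

/-- `-r_a ∈ M` -/
def InS (Q : QuadraticForm F (ι → F)) (M : Subgroup ↥(Cfsg.isometryGroup F ⇑Q)) (a : ι → F) : Prop :=
  Q a ≠ 0 ∧ negRefl Q a ∈ M

/-- the single-element version of helper5's `InA`: the generalised Siegel map `egen Q z y` lies in `M` -/
def InE (Q : QuadraticForm F (ι → F)) (M : Subgroup ↥(Cfsg.isometryGroup F ⇑Q)) (z y : ι → F) : Prop :=
  ∃ g ∈ M, ∀ x, toOG Q g x = egen Q z y x

/-- `M` contains a Siegel element centred at the singular vector `z` of the block `D i` whose second vector is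
orthogonal to `z` but not in `D i` -/
def TB (Q : QuadraticForm F (ι → F)) (M : Subgroup ↥(Cfsg.isometryGroup F ⇑Q))
    (D : Fin t → Submodule F (ι → F)) (i : Fin t) (z : ι → F) : Prop :=
  z ∈ D i ∧ z ≠ 0 ∧ Q z = 0 ∧ ∃ y, polar Q z y = 0 ∧ y ∉ D i ∧ InE Q M z y

/-- the overgroup data: `M` lies between the stabiliser of `D` in `Ω` and `Ω` -/
structure MS (Q : QuadraticForm F (ι → F)) (M : Subgroup ↥(Cfsg.isometryGroup F ⇑Q))
    (D : Fin t → Submodule F (ι → F)) (k : ℕ) : Prop extends Geo Q D k where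
  stab : ∀ g ∈ Cfsg.Omega F ⇑Q, IsPerm Q D g → g ∈ M
  le : M ≤ Cfsg.Omega F ⇑Q

/-- the group generated by the reflections in the nonsingular vectors of `U` -/
def RGen (Q : QuadraticForm F (ι → F)) (U : Submodule F (ι → F)) :
    Subgroup ↥(Cfsg.isometryGroup F ⇑Q) :=
  Subgroup.closure {g | ∃ v ∈ U, Q v ≠ 0 ∧ g = reflM Q v}

end Cfsg.Agent.Lib.Helper17.OC2
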