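import Cfsg.Prelude.Def_GeometricClasses

/-!
# "Every maximal subgroup of SL_n(q) is geometric or residual" (rows S5775 ... S5862, n = 3..12): definitions (helper17)

`Good n F M`: `M` is a member of one of the eight linear classes of `Cfsg.Geo.InLinearClass` which in addition satisfies the
side conditions of the tables (lines: `q ≥ 5`, `q ≥ 7` for `n = 4`; planes: `q ≥ 3`, `q ≥ 4` for `n = 4`; degree-`n` field
for `n = 3`: `q ≠ 4`; tensor `2 ⊗ n₂`: `q ≥ 3`).  Plan: notes/SLnMax_plan.md.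
-/

set_option autoImplicit false

namespace Cfsg.Agent.Lib.Helper17.SLM

open Cfsg.Geo Matrix

/-- the refined linear classes -/
def Good (n : ℕ) (F : Type*) [Field F] [Fintype F] (M : Subgroup (GL (Fin n) F)) : Prop :=
  (∃ W : Submodule F (Fin n → F), W ≠ ⊥ ∧ W ≠ ⊤ ∧ M = subspaceStabilizer W) ∨
  (∃ (t m : ℕ) (D : Fin t → Submodule F (Fin n → F)), IsMDecomposition m D ∧
      (m = 1 → 5 ≤ Fintype.card F ∧ (n = 4 → 7 ≤ Fintype.card F)) ∧
      (m = 2 → 3 ≤ Fintype.card F ∧ (n = 4 → 4 ≤ Fintype.card F)) ∧ M = decompositionStabilizer D) ∨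
  (∃ (r : ℕ) (K : Subalgebra F (Matrix (Fin n) (Fin n) F)), r.Prime ∧ IsFieldSubalgebra r K ∧
      ¬ (n = 3 ∧ Fintype.card F = 4) ∧ M = subalgebraNormalizer K) ∨
  (∃ (n₁ n₂ : ℕ) (e : Fin n ≃ Fin n₁ × Fin n₂) (P : GL (Fin n) F), 2 ≤ n₁ ∧ n₁ < n₂ ∧
      (n₁ = 2 → 3 ≤ Fintype.card F) ∧ M = tensorProductSubgroup n₁ n₂ e P) ∨
  (∃ (F₀ : Subfield F) (r : ℕ) (P : GL (Fin n) F), r.Prime ∧ Fintype.card F = Nat.card F₀ ^ r ∧
      M = subfieldSubgroup F₀ P) ∨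
  (∃ (r : ℕ) (R : Subgroup (GL (Fin n) F)), IsLinearSymplecticTypeData r R ∧ M = subgroupNormalizer R) ∨
  (∃ (m t : ℕ) (e : Fin n ≃ (Fin t → Fin m)) (P : GL (Fin n) F), 3 ≤ m ∧ 2 ≤ t ∧
      M = tensorWreathSubgroup m t e P) ∨
  (∃ f : (Fin n → F) → (Fin n → F) → F, IsSymplecticForm f ∧ Even n ∧ 4 ≤ n ∧ M = similarityGroup f) ∨
  (∃ (σ : F ≃+* F) (f : (Fin n → F) → (Fin n → F) → F), IsUnitaryForm σ f ∧ 3 ≤ n ∧ M = similarityGroup f) ∨
  (∃ Q : (Fin n → F) → F, IsNondegenerateQuadraticForm Q ∧ Odd (Fintype.card F) ∧ 3 ≤ n ∧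
      M = quadSimilarityGroup Q)

/-- the conclusion of the refined theorem -/
def Concl (n : ℕ) (F : Type*) [Field F] [Fintype F] (H : Subgroup (GL (Fin n) F)) : Prop :=
  (∃ M : Subgroup (GL (Fin n) F), Good n F M ∧ H = M ⊓ specialLinear (Fin n) F) ∨ InLinearResidualClass H

/-- the conclusion of Aschbacher's theorem S5630 (helper20), used as a black box -/
def Asch (n : ℕ) (F : Type*) [Field F] [Fintype F] (H : Subgroup (GL (Fin n) F)) : Prop :=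
  (∃ M : Subgroup (GL (Fin n) F), InLinearClass n F M ∧ H ≤ M) ∨ InLinearResidualClass H

end Cfsg.Agent.Lib.Helper17.SLM
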