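import Cfsg.Agent.Lib.Helper20.SPT2Calc
import Cfsg.Agent.Lib.Helper20.SPT2Rel
import Cfsg.Agent.Lib.Helper12.SPT2G
import Cfsg.Agent.Lib.Helper5.SPT2ZCONJ
import Cfsg.Agent.Lib.Helper5.SPT2NUCONJ

/-!
# S3713, super-leaf T2 (sub-planner helper20), leaf NX: `Nt * Xt t = Yt (-t) * Nt`
-/

set_option autoImplicit false

namespace Cfsg.Agent.Lib.Helper17.SPT2NX

open Matrix Cfsg.Agent.Lib.Helper5 Cfsg.Agent.Lib.Helper14.SpPerfect Cfsg.Agent.Lib.Helper18.SP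
open Cfsg.Agent.Lib.Helper20.SPT2

variable {F : Type*} [Field F] {n : ℕ} {H : Type*} [Group H] {o p : Fin n}

theorem SS_o_le_P2 (hop : o ≠ p) : SS n F o ≤ PJ n F {o, p} p :=
  GJ_le_PJ (J := {o}) (K := {o, p}) (Set.singleton_subset_iff.mpr (Set.mem_insert o {p}))
    (fun h => hop (Set.mem_singleton_iff.mp h).symm)

theorem SS_p_le_P1 (hop : o ≠ p) : SS n F p ≤ PJ n F {o, p} o :=
  GJ_le_PJ (J := {p}) (K := {o, p})
    (Set.singleton_subset_iff.mpr (Set.mem_insert_of_mem o (Set.mem_singleton p)))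
    (fun h => hop (Set.mem_singleton_iff.mp h))

theorem MM_le_P1 (o p : Fin n) : MM n F o p ≤ PJ n F {o, p} o :=
  MM_le_PJ (Set.mem_insert o {p}) (Set.mem_insert_of_mem o (Set.mem_singleton p)) o

theorem MM_le_P2 (o p : Fin n) : MM n F o p ≤ PJ n F {o, p} p :=
  MM_le_PJ (Set.mem_insert o {p}) (Set.mem_insert_of_mem o (Set.mem_singleton p)) p

/-- `Xt t = ntp⁻¹ * Zt t * ntp` (local in `P1`) -/
theorem Xt_eq (A : T2Hyp n F H o p) (t : F) : A.Xt t = A.ntp⁻¹ * A.Zt t * A.ntp := by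
  have hop := A.hop
  have hnp : nW n F p ∈ SS n F p := nW_mem_SS p
  have hZ : Zg n F o p t ∈ MM n F o p := Cfsg.Agent.Lib.Helper12.SPT2G.Zg_mem_MM t
  unfold T2Hyp.Xt T2Hyp.Zt T2Hyp.ntp
  rw [← Cfsg.Agent.Lib.Helper5.SPT2ZCONJ.nWp_conj_Zg hop t,
    A.hψ₁.map_conj' (SS_p_le_P1 hop hnp) (MM_le_P1 o p hZ), A.h1p _ hnp]

/-- `Yt t = nto⁻¹ * Zt t * nto` (local in `P2`) -/
theorem Yt_eq (A : T2Hyp n F H o p) (t : F) : A.Yt t = A.nto⁻¹ * A.Zt t * A.nto := by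
  have hop := A.hop
  have hno : nW n F o ∈ SS n F o := nW_mem_SS o
  have hZ : Zg n F o p t ∈ MM n F o p := Cfsg.Agent.Lib.Helper12.SPT2G.Zg_mem_MM t
  unfold T2Hyp.Yt T2Hyp.Zt T2Hyp.nto
  rw [← Cfsg.Agent.Lib.Helper5.SPT2ZCONJ.nWo_conj_Zg hop t,
    A.hψ₂.map_conj' (SS_o_le_P2 hop hno) (MM_le_P2 o p hZ), A.h2o _ hno, A.h12 _ hZ]

/-- **NX** -/
theorem Nt_Xt (A : T2Hyp n F H o p) (W : WeylRel A) (C : ConjRel A) (t : F) :
    A.Nt * A.Xt t = A.Yt (-t) * A.Nt := by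
  have hop := A.hop
  have hnp : nW n F p ∈ SS n F p := nW_mem_SS p
  have hC : A.Nt * A.ntp * A.Nt⁻¹ = A.nto := by
    unfold T2Hyp.ntp T2Hyp.nto
    rw [C.C2 _ hnp, Cfsg.Agent.Lib.Helper5.SPT2NUCONJ.νg_conj_nWp hop]
  have hR := W.R5 t
  have key : A.Nt * A.Xt t * A.Nt⁻¹ = A.Yt (-t) := by
    rw [Xt_eq A t, Yt_eq A (-t), ← hC, ← hR]
    group
  calc A.Nt * A.Xt t = (A.Nt * A.Xt t * A.Nt⁻¹) * A.Nt := by group
    _ = A.Yt (-t) * A.Nt := by rw [key]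

end Cfsg.Agent.Lib.Helper17.SPT2NX
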