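import Cfsg.Agent.Lib.Helper20.SPT2Calc
import Cfsg.Agent.Lib.Helper20.SPT2Rel
import Cfsg.Agent.Lib.Helper12.SPT2G
import Cfsg.Agent.Lib.Helper12.SPT2Dec
import Cfsg.Agent.Lib.Helper17.SPT2NX

/-!
# S3713, super-leaf T2 (sub-planner helper20), leaves LOCH, LOCSTEP, REDT
-/

set_option autoImplicit false

namespace Cfsg.Agent.Lib.Helper17.SPT2LOCH

open Matrix Cfsg.Agent.Lib.Helper5 Cfsg.Agent.Lib.Helper14.SpPerfect Cfsg.Agent.Lib.Helper18.SP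
open Cfsg.Agent.Lib.Helper20.SPT2
open Cfsg.Agent.Lib.Helper17.SPT2NX (SS_o_le_P2 SS_p_le_P1 MM_le_P1 MM_le_P2)

variable {F : Type*} [Field F] {n : ℕ} {H : Type*} [Group H] {o p : Fin n}

/-- **LOCH**: on `B2 = Ph1 ⊓ P2 = TT o · MM o p` the homs `φ₁` and `ψ₂` agree -/
theorem phi1_eq_psi2 (A : T2Hyp n F H o p) {φ₁ : Sp n F → H} (P1 : Phi1 A φ₁) {g : Sp n F}
    (hg1 : g ∈ PhJ n F {o, p} o) (hg2 : g ∈ PJ n F {o, p} p) : φ₁ g = A.ψ₂ g := by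
  have hop := A.hop
  have hoo : o ∈ ({o} : Set (Fin n)) := rfl
  have hoK : o ∈ ({o, p} : Set (Fin n)) := Set.mem_insert o {p}
  obtain ⟨t, ht, m, hm, rfl⟩ := Cfsg.Agent.Lib.Helper12.SPT2Dec.B2_decomp hg1 hg2
  have htS : t ∈ SS n F o := TT_le_SS o ht
  have hmP1 : m ∈ PJ n F {o, p} o := MM_le_P1 o p hm
  rw [P1.hom.map_mul (TT_le_PhJ hoK ht) (PJ_le_PhJ _ o hmP1), P1.onB _ (TT_le_PhJ hoo ht), P1.onP _ hmP1,
    A.hψ₂.map_mul (SS_o_le_P2 hop htS) (MM_le_P2 o p hm), A.h2o _ htS, A.h12 _ hm]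

end Cfsg.Agent.Lib.Helper17.SPT2LOCH
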