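import Cfsg.Agent.Lib.Helper20.SPT2Calc
import Cfsg.Agent.Lib.Helper20.SPT2Rel
import Cfsg.Agent.Lib.Helper12.SPT2G
import Cfsg.Agent.Lib.Helper12.SPT2Dec
import Cfsg.Agent.Lib.Helper17.SPT2NX
import Cfsg.Agent.Lib.Helper17.SPT2LOCH

/-!
# S3713, super-leaf T2 (sub-planner helper20), leaf LOCSTEP: everything inside `P2` is fine
-/

set_option autoImplicit false

namespace Cfsg.Agent.Lib.Helper17.SPT2LOCSTEP

open Matrix Cfsg.Agent.Lib.Helper5 Cfsg.Agent.Lib.Helper14.SpPerfect Cfsg.Agent.Lib.Helper18.SP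
open Cfsg.Agent.Lib.Helper20.SPT2
open Cfsg.Agent.Lib.Helper17.SPT2NX (SS_o_le_P2 SS_p_le_P1 MM_le_P1 MM_le_P2)
open Cfsg.Agent.Lib.Helper17.SPT2LOCH (phi1_eq_psi2)

variable {F : Type*} [Field F] {n : ℕ} {H : Type*} [Group H] {o p : Fin n}

theorem yE_mem_P2 (hop : o ≠ p) : yE n F o p ∈ PJ n F {o, p} p := by
  rw [Cfsg.Agent.Lib.Helper12.SPT2G.yE_eq_Yg]
  exact Cfsg.Agent.Lib.Helper12.SPT2G.Yg_mem_P2 hop 1

/-- **LOCSTEP**: everything inside `P2` is fine -/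
theorem locstep (A : T2Hyp n F H o p) {φ₁ : Sp n F → H} (P1 : Phi1 A φ₁) {g : Sp n F} (hg : g ∈ PJ n F {o, p} p) :
    SOK A φ₁ g (A.ψ₂ g) := by
  have hop := A.hop
  have hno : nW n F o ∈ SS n F o := nW_mem_SS o
  have hnoP : nW n F o ∈ PJ n F {o, p} p := SS_o_le_P2 hop hno
  have hyP : yE n F o p ∈ PJ n F {o, p} p := yE_mem_P2 hop
  obtain ⟨p₁, p₂, ⟨h11, h12⟩, ⟨h21, h22⟩, hcase⟩ := Cfsg.Agent.Lib.Helper12.SPT2Dec.P2_decomp hop hg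
  have e1 : φ₁ p₁ = A.ψ₂ p₁ := phi1_eq_psi2 A P1 h11 h12
  have e2 : φ₁ p₂ = A.ψ₂ p₂ := phi1_eq_psi2 A P1 h21 h22
  refine ⟨p₁, h11, p₂, h21, ?_⟩
  rcases hcase with rfl | rfl | rfl
  · left
    exact ⟨rfl, by rw [A.hψ₂.map_mul h12 h22, e1, e2]⟩
  · right; left
    exact ⟨rfl, by rw [A.hψ₂.map_mul (mul_mem h12 hyP) h22, A.hψ₂.map_mul h12 hyP, e1, e2]⟩
  · right; right
    refine ⟨rfl, ?_⟩
    rw [A.hψ₂.map_mul (mul_mem h12 hnoP) h22, A.hψ₂.map_mul h12 hnoP, e1, e2, A.h2o _ hno]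
    rfl

end Cfsg.Agent.Lib.Helper17.SPT2LOCSTEP
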