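import Mathlib
import Cfsg.Agent.Lib.Helper11.Su2Tools

/-! helper17: S2153 market "SU2", auxiliary lemmas for the MULT leaves (`mult_IIa`, `mult_IIb`). -/

set_option autoImplicit false

namespace Cfsg.Agent.Lib.Helper17.Su2Leaf

open MulAction Pointwise Cfsg.Agent.Lib.Helper11.Su2

variable {F V G : Type*} [Field F] [AddCommGroup V] [Module F V] [Group G] [DistribMulAction G V]

/-- two elements of `A` which, together with their sum, avoid a subgroup `B` with `2 |B| < |A|` -/
theorem exists_two_not_mem [Finite V] (A B : AddSubgroup V) (hcard : 2 * Nat.card B < Nat.card A) :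
    ∃ a1 ∈ A, ∃ a2 ∈ A, a1 ∉ B ∧ a2 ∉ B ∧ a1 + a2 ∉ B := by
  classical
  have h1 : ∃ a1 ∈ A, a1 ∉ B := by
    by_contra hcon
    push Not at hcon
    have hle : A ≤ B := fun a ha => hcon a ha
    have := AddSubgroup.card_le_of_le hle
    omega
  obtain ⟨a1, ha1, ha1B⟩ := h1
  by_contra hcon
  push Not at hcon
  have key : ∀ a ∈ A, a ∈ B ∨ a1 + a ∈ B := by
    intro a ha
    by_cases hb : a ∈ B
    · exact Or.inl hb
    · exact Or.inr (hcon a1 ha1 a ha ha1B hb)
  let f : A → B × Bool := fun a =>
    if hb : (a : V) ∈ B then (⟨a, hb⟩, true) else (⟨a1 + a, (key a a.2).resolve_left hb⟩, false)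
  have hf : Function.Injective f := by
    intro a a' haa
    by_cases hb : (a : V) ∈ B <;> by_cases hb' : (a' : V) ∈ B
    · simp only [f, dif_pos hb, dif_pos hb', Prod.mk.injEq, Subtype.mk.injEq, and_true] at haa
      exact Subtype.ext haa
    · simp only [f, dif_pos hb, dif_neg hb', Prod.mk.injEq, Bool.true_eq_false, and_false] at haa
    · simp only [f, dif_neg hb, dif_pos hb', Prod.mk.injEq, Bool.false_eq_true, and_false] at haa
    · simp only [f, dif_neg hb, dif_neg hb', Prod.mk.injEq, Subtype.mk.injEq, and_true] at haa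
      exact Subtype.ext (add_left_cancel haa)
  have := Nat.card_le_card_of_injective f hf
  rw [Nat.card_prod, Nat.card_eq_fintype_card (α := Bool), Fintype.card_bool] at this
  omega

variable (S : Setting F V G)

/-- the common perp of two vectors has at least `|V| / 16` elements -/
theorem card_perp_two_ge [Finite V] (x w : V) :
    Nat.card V ≤ 16 * Nat.card {a : V // S.h a x = 0 ∧ S.h a w = 0} := by
  classical
  have : Finite F := S.finite_F
  let φ : V →+ F × F := AddMonoidHom.mk' (fun v => (S.h v x, S.h v w)) (by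
    intro a b
    simp only [S.h_add_left, Prod.mk_add_mk])
  have hker : ∀ v, v ∈ φ.ker ↔ S.h v x = 0 ∧ S.h v w = 0 := by
    intro v
    rw [AddMonoidHom.mem_ker]
    simp only [φ, AddMonoidHom.mk'_apply, Prod.mk_eq_zero]
  have h1 := AddSubgroup.card_mul_index φ.ker
  rw [AddSubgroup.index_ker] at h1
  have h2 : Nat.card φ.range ≤ 16 := by
    calc Nat.card φ.range ≤ Nat.card (F × F) :=
          Nat.card_le_card_of_injective _ Subtype.val_injective
      _ = 16 := by rw [Nat.card_prod, S.natCard_F]
  have h3 : Nat.card φ.ker = Nat.card {a : V // S.h a x = 0 ∧ S.h a w = 0} :=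
    Nat.card_congr (Equiv.subtypeEquivRight hker)
  rw [← h3, ← h1]
  nlinarith

/-- a totally singular additive subgroup has at most `sqrt |V|` elements (from P1) -/
theorem card_sq_le_of_totally_singular [Finite V] (U : AddSubgroup V)
    (hU0 : ∀ u ∈ U, S.h u u = 0)
    (hP1 : Nat.card U * Nat.card (S.perp U) = Nat.card V) :
    Nat.card U * Nat.card U ≤ Nat.card V := by
  have hle : U ≤ S.perp U := by
    intro v hv
    rw [S.mem_perp]
    intro u hu
    have h1 := S.h_self_add u v
    rw [hU0 u hu, hU0 v hv, hU0 (u + v) (U.add_mem hu hv)] at h1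
    linear_combination -h1
  rw [← hP1]
  exact Nat.mul_le_mul_left _ (AddSubgroup.card_le_of_le hle)

/-- in a totally singular additive subgroup all products `h u u'` are `0` or `1` -/
theorem h_mem_of_totally_singular (U : AddSubgroup V) (hU0 : ∀ u ∈ U, S.h u u = 0) {u u' : V}
    (hu : u ∈ U) (hu' : u' ∈ U) : S.h u u' = 0 ∨ S.h u u' = 1 := by
  have h1 := S.h_self_add u u'
  rw [hU0 u hu, hU0 u' hu', hU0 (u + u') (U.add_mem hu hu')] at h1
  apply (S.tr_eq_zero_iff _).mp
  linear_combination -h1

end Cfsg.Agent.Lib.Helper17.Su2Leaf
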