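import Mathlib
import Cfsg.Agent.Lib.Helper17.Su2MULTAux

/-! helper17: S2153 market "SU2", leaf MULT `mult_IIb` in `_of` form (P1 for `U` as a hypothesis). -/

set_option autoImplicit false

namespace Cfsg.Agent.Lib.Helper17.Su2Leaf

open MulAction Pointwise Cfsg.Agent.Lib.Helper11.Su2

variable {F V G : Type*} [Field F] [AddCommGroup V] [Module F V] [Group G] [DistribMulAction G V]
variable (S : Setting F V G)

/-- the action of `gq w1 a c` on a vector `u` with `h u w1 = 0` -/
theorem gqw_smul_zero {w1 a u : V} {c : F} (hw1 : S.h w1 w1 = 0) (ha : S.h a w1 = 0)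
    (hc : c + c * c = S.h a a) (hu : S.h u w1 = 0) :
    S.gq w1 a c • u = u + S.h u a • w1 := by
  rw [S.gq_smul' hw1 ha hc, hu]; simp

/-- the action of `gq w1 a c` on a vector `u` with `h u w1 = 1` -/
theorem gqw_smul_one {w1 a u : V} {c : F} (hw1 : S.h w1 w1 = 0) (ha : S.h a w1 = 0)
    (hc : c + c * c = S.h a a) (hu : S.h u w1 = 1) :
    S.gq w1 a c • u = u + a + (S.h u a + c) • w1 := by
  rw [S.gq_smul' hw1 ha hc, hu]; simp

theorem mult_IIb_of [Finite V] {n : ℕ} (hV : Nat.card V = 4 ^ n) (hn : 6 ≤ n) {x : V} (hx0 : x ≠ 0)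
    (hx : S.h x x = 0) (U : AddSubgroup V) (hxU : ∀ a : F, a • x ∈ U)
    (hUx : ∀ u ∈ U, S.h u x = 0) (hU0 : ∀ u ∈ U, S.h u u = 0) (hcard : 32 ≤ Nat.card U)
    (hP1 : Nat.card U * Nat.card (S.perp U) = Nat.card V)
    {w1 : V} (hw1 : w1 ∈ U) (hw1' : S.om • w1 ∉ U) {z0 : V} (hz0 : z0 ∈ U)
    (hz0' : S.h z0 w1 ≠ 0) :
    ∃ u0 ∈ U, (∀ a : F, u0 ≠ a • x) ∧ ∃ g : Fin 3 → G, (∀ i, g i • x = x) ∧
      (∀ i, u0 ∈ g i • (U : Set V)) ∧ Function.Injective (fun i => g i • (U : Set V)) := by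
  classical
  have hw1w1 : S.h w1 w1 = 0 := hU0 w1 hw1
  have hw1x : S.h w1 x = 0 := hUx w1 hw1
  have hxw1 : S.h x w1 = 0 := S.h_eq_zero_symm hw1x
  have hz1 : S.h z0 w1 = 1 := by
    rcases h_mem_of_totally_singular S U hU0 hz0 hw1 with h | h
    · exact absurd h hz0'
    · exact h
  -- the two subgroups
  let A : AddSubgroup V :=
    { carrier := {a | S.h a x = 0 ∧ S.h a w1 = 0}
      add_mem' := by
        rintro a b ⟨ha1, ha2⟩ ⟨hb1, hb2⟩
        exact ⟨by rw [S.h_add_left, ha1, hb1, add_zero], by rw [S.h_add_left, ha2, hb2, add_zero]⟩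
      zero_mem' := ⟨S.h_zero_left _, S.h_zero_left _⟩
      neg_mem' := by
        rintro a ha
        rw [S.vneg]; exact ha }
  let B : AddSubgroup V :=
    { carrier := {a | S.h a w1 = 0 ∧ ∃ e : F, a + e • w1 ∈ U}
      add_mem' := by
        rintro a b ⟨ha1, e, ha2⟩ ⟨hb1, e', hb2⟩
        refine ⟨by rw [S.h_add_left, ha1, hb1, add_zero], e + e', ?_⟩
        have := U.add_mem ha2 hb2
        have h2 : a + b + (e + e') • w1 = a + e • w1 + (b + e' • w1) := by module
        rw [h2]; exact this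
      zero_mem' := ⟨S.h_zero_left _, 0, by simp⟩
      neg_mem' := by
        rintro a ha
        rw [S.vneg]; exact ha }
  have hmemA : ∀ a, a ∈ A ↔ S.h a x = 0 ∧ S.h a w1 = 0 := fun a => Iff.rfl
  have hmemB : ∀ a, a ∈ B ↔ S.h a w1 = 0 ∧ ∃ e : F, a + e • w1 ∈ U := fun a => Iff.rfl
  -- |B| ≤ |U|
  have hBU : Nat.card B ≤ Nat.card U := by
    have hstep : ∀ a ∈ B, a ∉ U → a + S.om • w1 ∈ U := by
      rintro a ⟨_, e, he⟩ haU
      rcases S.h4 e with h | h | h | h
      · rw [h, zero_smul, add_zero] at he; exact absurd he haU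
      · rw [h, one_smul] at he
        exfalso; apply haU
        have := U.add_mem he hw1
        rwa [S.vadd_add_cancel_right] at this
      · rwa [h] at he
      · rw [h, add_smul, one_smul, ← add_assoc] at he
        have := U.add_mem he hw1
        rwa [S.vadd_add_cancel_right] at this
    let f : B → U := fun a =>
      if hU : (a : V) ∈ U then ⟨a, hU⟩
      else ⟨(a : V) + S.om • w1 + z0, U.add_mem (hstep a a.2 hU) hz0⟩
    have hval0 : ∀ a : B, (a : V) ∈ U → S.h ((f a : U) : V) w1 = 0 := by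
      intro a hU
      simp only [f, dif_pos hU]
      exact a.2.1
    have hval1 : ∀ a : B, (a : V) ∉ U → S.h ((f a : U) : V) w1 = 1 := by
      intro a hU
      simp only [f, dif_neg hU]
      rw [S.h_add_left, S.h_add_left, S.h_smul_left, hw1w1, a.2.1, hz1]; ring
    have hf : Function.Injective f := by
      intro a a' haa
      by_cases hU : (a : V) ∈ U <;> by_cases hU' : (a' : V) ∈ U
      · simp only [f, dif_pos hU, dif_pos hU', Subtype.mk.injEq] at haa
        exact Subtype.ext haa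
      · exfalso
        have h1 := hval0 a hU
        have h2 := hval1 a' hU'
        rw [haa, h2] at h1
        exact one_ne_zero h1
      · exfalso
        have h1 := hval1 a hU
        have h2 := hval0 a' hU'
        rw [haa, h2] at h1
        exact zero_ne_one h1
      · simp only [f, dif_neg hU, dif_neg hU', Subtype.mk.injEq] at haa
        exact Subtype.ext (add_right_cancel (add_right_cancel haa))
    exact Nat.card_le_card_of_injective f hf
  -- sizes
  have hUsq := card_sq_le_of_totally_singular S U hU0 hP1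
  have hA16 : Nat.card V ≤ 16 * Nat.card A := card_perp_two_ge S x w1
  have hU2n : Nat.card U ≤ 2 ^ n := by
    rw [hV] at hUsq
    have h4 : (4 : ℕ) ^ n = 2 ^ n * 2 ^ n := by rw [← mul_pow]; norm_num
    rw [h4] at hUsq
    exact Nat.mul_self_le_mul_self_iff.mp hUsq
  have hlt : 2 * Nat.card B < Nat.card A := by
    obtain ⟨m, rfl⟩ : ∃ m, n = m + 6 := ⟨n - 6, by omega⟩
    rw [hV] at hA16
    have e1 : (4 : ℕ) ^ (m + 6) = 4096 * (2 ^ m * 2 ^ m) := by
      rw [pow_add, ← mul_pow]; norm_num; ring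
    have e2 : (2 : ℕ) ^ (m + 6) = 64 * 2 ^ m := by rw [pow_add]; ring
    rw [e1] at hA16
    rw [e2] at hU2n
    have hpos : 1 ≤ 2 ^ m := Nat.one_le_two_pow
    nlinarith
  obtain ⟨a1, ha1, a2, ha2, ha1B, ha2B, ha12B⟩ := exists_two_not_mem A B hlt
  obtain ⟨c1, hc1⟩ := S.exists_tr_eq (S.h_self_mem a1)
  obtain ⟨c2, hc2⟩ := S.exists_tr_eq (S.h_self_mem a2)
  have hc0 : (0 : F) + 0 * 0 = S.h (0 : V) 0 := by rw [S.h_zero_left]; ring
  -- the key lemma
  have key : ∀ (a a' : V) (c c' : F), S.h a w1 = 0 → S.h a' w1 = 0 → c + c * c = S.h a a →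
      c' + c' * c' = S.h a' a' →
      S.gq w1 a c • (U : Set V) = S.gq w1 a' c' • (U : Set V) → a ∈ B ∨ a + a' ∈ B := by
    intro a a' c c' ha ha' hc hc' heq
    have hmem : S.gq w1 a c • z0 ∈ S.gq w1 a' c' • (U : Set V) := by
      rw [← heq]; exact Set.smul_mem_smul_set hz0
    obtain ⟨u, hu, hue⟩ := hmem
    have hue' : S.gq w1 a' c' • u = S.gq w1 a c • z0 := hue
    rw [gqw_smul_one S hw1w1 ha hc hz1] at hue'
    rcases h_mem_of_totally_singular S U hU0 hu hw1 with h0 | h0
    · left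
      rw [gqw_smul_zero S hw1w1 ha' hc' h0] at hue'
      refine ⟨ha, S.h u a' + (S.h z0 a + c), ?_⟩
      have h3 : a + (S.h u a' + (S.h z0 a + c)) • w1 = u + z0 := by
        have e1 := S.vadd_self z0
        have e2 := S.vadd_self (S.h u a' • w1)
        linear_combination (norm := module) e2 - hue' - e1
      rw [h3]; exact U.add_mem hu hz0
    · right
      rw [gqw_smul_one S hw1w1 ha' hc' h0] at hue'
      refine ⟨by rw [S.h_add_left, ha, ha', add_zero], (S.h u a' + c') + (S.h z0 a + c), ?_⟩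
      have h3 : a + a' + ((S.h u a' + c') + (S.h z0 a + c)) • w1 = u + z0 := by
        have e1 := S.vadd_self z0
        have e2 := S.vadd_self ((S.h u a' + c') • w1)
        have e3 := S.vadd_self a'
        linear_combination (norm := module) e3 + e2 - hue' - e1
      rw [h3]; exact U.add_mem hu hz0
  have hone : (1 : G) = S.gq w1 0 0 := (S.gq_zero hw1w1).symm
  have h01 : (1 : G) • (U : Set V) ≠ S.gq w1 a1 c1 • (U : Set V) := by
    intro heq
    rw [hone] at heq
    rcases key a1 0 c1 0 ha1.2 (S.h_zero_left _) hc1 hc0 heq.symm with h | h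
    · exact ha1B h
    · rw [add_zero] at h; exact ha1B h
  have h02 : (1 : G) • (U : Set V) ≠ S.gq w1 a2 c2 • (U : Set V) := by
    intro heq
    rw [hone] at heq
    rcases key a2 0 c2 0 ha2.2 (S.h_zero_left _) hc2 hc0 heq.symm with h | h
    · exact ha2B h
    · rw [add_zero] at h; exact ha2B h
  have h12 : S.gq w1 a1 c1 • (U : Set V) ≠ S.gq w1 a2 c2 • (U : Set V) := by
    intro heq
    rcases key a1 a2 c1 c2 ha1.2 ha2.2 hc1 hc2 heq with h | h
    · exact ha1B h
    · exact ha12B h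
  have hfixx : ∀ (a : V) (c : F), a ∈ A → c + c * c = S.h a a → S.gq w1 a c • x = x := by
    intro a c ha hc
    rw [gqw_smul_zero S hw1w1 ha.2 hc hxw1, S.h_eq_zero_symm ha.1, zero_smul, add_zero]
  have hfixw : ∀ (a : V) (c : F), a ∈ A → c + c * c = S.h a a → S.gq w1 a c • w1 = w1 :=
    fun a c ha hc => S.gq_smul_self hw1w1 ha.2 hc
  refine ⟨w1, hw1, ?_, ![1, S.gq w1 a1 c1, S.gq w1 a2 c2], ?_, ?_, ?_⟩
  · intro a hwa
    apply hw1'
    rw [hwa, smul_smul]
    exact hxU _
  · intro i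
    fin_cases i
    · exact one_smul _ _
    · exact hfixx a1 c1 ha1 hc1
    · exact hfixx a2 c2 ha2 hc2
  · intro i
    fin_cases i
    · exact ⟨w1, hw1, one_smul _ _⟩
    · exact ⟨w1, hw1, hfixw a1 c1 ha1 hc1⟩
    · exact ⟨w1, hw1, hfixw a2 c2 ha2 hc2⟩
  · intro i j hij
    fin_cases i <;> fin_cases j
    · rfl
    · exact absurd hij h01
    · exact absurd hij h02
    · exact absurd hij.symm h01
    · rfl
    · exact absurd hij h12
    · exact absurd hij.symm h02
    · exact absurd hij.symm h12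
    · rfl

end Cfsg.Agent.Lib.Helper17.Su2Leaf
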