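import Mathlib
import Cfsg.Prelude.Def_ClassicalGeometry
import Cfsg.Prelude.Def_GeometricClasses
import Cfsg.Agent.Lib.Helper11.T23UDefs
import Cfsg.Agent.Lib.Helper5.UForm

/-!
S5801 conjunct (8) (`GU_2(q) ⊗ GU_3(q) < SU_6(q)`), market C4U (planner helper11, notes/S5801_C4_leaves.lean):
the three small leaves ISO `exists_iso2`, STAB `mem_StabA_of_maps`, XA `mem_XA_iff`, exact signatures.
-/

set_option autoImplicit false
set_option linter.unusedSectionVars false
set_option linter.unusedVariables false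

namespace Cfsg.Agent.Lib.Helper17.C4ULeaf
open Matrix Module
open Cfsg.Agent.Lib.Helper25.Tens Cfsg.Agent.Lib.Helper25.TensLeaf
open Cfsg.Agent.Lib.Helper20.UT Cfsg.Agent.Lib.Helper11.T23U
open scoped Kronecker

variable {F : Type*} [Field F] [Fintype F] {q : ℕ} {M : Subgroup (GL (Idx 2 3) F)}

/-- **ISO** an isotropic vector of `F²`: `x = ![1, ω]`, `ω^(q+1) = -1`. -/
theorem exists_iso2 (hF : Fintype.card F = q ^ 2) : ∃ x : Fin 2 → F, x ≠ 0 ∧ hv q x x = 0 := by
  have hf := Cfsg.Agent.Lib.Helper20.UT.hv_unitary (n := 1) hF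
  obtain ⟨ω, hω⟩ := Cfsg.Agent.Lib.Helper5.UForm.norm_surj hf.involutive hf.ne_refl (-1 : F)
    (neg_ne_zero.mpr one_ne_zero) (by rw [map_neg, map_one])
  rw [Cfsg.Agent.Lib.Helper5.HermBridge.frobQ_apply] at hω
  refine ⟨![1, ω], ?_, ?_⟩
  · intro h
    have := congrFun h 0
    simp at this
  · simp only [hv, Fin.sum_univ_two, Matrix.cons_val_zero, Matrix.cons_val_one, one_pow, mul_one]
    rw [hω]
    ring

/-- **STAB** a `g` mapping the fibre `x ⊗ B` into itself stabilises it. -/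
theorem mem_StabA_of_maps {x : Fin 2 → F} {g : GL (Idx 2 3) F}
    (h : ∀ y : Fin 3 → F, mv g (pt x y) ∈ FibA (b := 3) x) : g ∈ StabA (b := 3) x := by
  rw [mem_StabA]
  -- the restriction of `mv g` to the fibre is an injective endomorphism, hence surjective
  have hmaps : ∀ v ∈ FibA (b := 3) x, mv g v ∈ FibA (b := 3) x := by
    intro v hv
    obtain ⟨y, rfl⟩ := mem_FibA.mp hv
    exact h y
  let φ : FibA (b := 3) x →ₗ[F] FibA (b := 3) x :=
    { toFun := fun v => ⟨mv g v.1, hmaps v.1 v.2⟩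
      map_add' := by
        intro v w
        apply Subtype.ext
        exact mv_add g v.1 w.1
      map_smul' := by
        intro c v
        apply Subtype.ext
        exact mv_smul g c v.1 }
  have hinj : Function.Injective φ := by
    intro v w hvw
    apply Subtype.ext
    apply mv_injective g
    exact congrArg Subtype.val hvw
  have hsurj : Function.Surjective φ := LinearMap.injective_iff_surjective.mp hinj
  intro v
  constructor
  · exact hmaps v
  · intro hgv
    obtain ⟨w, hw⟩ := hsurj ⟨mv g v, hgv⟩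
    have h1 : mv g w.1 = mv g v := congrArg Subtype.val hw
    have h2 : w.1 = v := mv_injective g h1
    rw [← h2]
    exact w.2

/-- the product rule for the root elements `t_x(c) ⊗ 1` -/
lemma kA_mul_kA {x : Fin 2 → F} (hx : hv q x x = 0) (c c' : F) :
    (kA q x c hx : GL (Idx 2 3) F) * kA q x c' hx = kA q x (c + c') hx := by
  apply ext_mv
  intro v
  rw [mv_mul, Cfsg.Agent.Lib.Helper20.UTLeaf.mv_kA, Cfsg.Agent.Lib.Helper20.UTLeaf.mv_kA,
    Cfsg.Agent.Lib.Helper20.UTLeaf.mv_kA, ctA_add, ctA_smul, ctA_cj_pt, hx, zero_smul, smul_zero,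
    add_zero, add_smul]
  abel

lemma kA_zero {x : Fin 2 → F} (hx : hv q x x = 0) : (kA q x 0 hx : GL (Idx 2 3) F) = 1 := by
  apply ext_mv
  intro v
  rw [Cfsg.Agent.Lib.Helper20.UTLeaf.mv_kA, zero_smul, add_zero, mv_one]

lemma kA_inv {x : Fin 2 → F} (hx : hv q x x = 0) (c : F) :
    (kA q x c hx : GL (Idx 2 3) F)⁻¹ = kA q x (-c) hx := by
  rw [inv_eq_iff_mul_eq_one, kA_mul_kA, add_neg_cancel, kA_zero]

/-- **XA** the root group is `{kA q x c | c skew}`. -/
theorem mem_XA_iff (hF : Fintype.card F = q ^ 2) {x : Fin 2 → F} (hx : hv q x x = 0) (t : GL (Idx 2 3) F) :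
    t ∈ XA (b := 3) q x hx ↔ ∃ c : F, c ^ q = -c ∧ t = kA q x c hx := by
  constructor
  · intro ht
    unfold XA at ht
    induction ht using Subgroup.closure_induction with
    | mem t ht => exact ht
    | one => exact ⟨0, by rw [neg_zero, zero_pow]; rintro rfl; have : 2 ≤ Fintype.card F := Fintype.one_lt_card; omega, (kA_zero hx).symm⟩
    | mul t t' _ _ ih ih' =>
      obtain ⟨c, hc, rfl⟩ := ih
      obtain ⟨c', hc', rfl⟩ := ih'
      exact ⟨c + c', by rw [add_pow_q hF, hc, hc']; ring, kA_mul_kA hx c c'⟩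
    | inv t _ ih =>
      obtain ⟨c, hc, rfl⟩ := ih
      exact ⟨-c, by rw [neg_pow_q hF, hc], kA_inv hx c⟩
  · rintro ⟨c, hc, rfl⟩
    exact Subgroup.subset_closure ⟨c, hc, rfl⟩

end Cfsg.Agent.Lib.Helper17.C4ULeaf
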