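import Mathlib
import Cfsg.Agent.Lib.Helper5.TWS.Defs
import Cfsg.Agent.Lib.Helper5.TWS.StageIDefs
import Cfsg.Agent.Lib.Helper23.TWG6
import Cfsg.Agent.Lib.Helper16.TWImg
import Cfsg.Agent.Lib.Helper16.TWRootA
import Cfsg.Agent.Lib.Helper16.TWRootB
import Cfsg.Agent.Lib.Helper6.TWT1
import Cfsg.Agent.Lib.Helper6.TWQMain
import Cfsg.Agent.Lib.Helper9.TWST3

/-!
S5668-I (owner helper5) toolkit leaf ST7 `G_act_RS` (helper17), exact signature of `notes/S5668_I_leaves.lean`: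
`G ∩ Δ` acts on the admissible (symplectic) root data, with their FULL root groups.
Port of `Helper23.TWUIG.G_act_RU` over helper9's adjoint calculus `Helper9.TWST`.
By-products: `adjT_conj_skew`, `eta_of_skew`, `grp_eq_of_N_smul`.
-/

set_option autoImplicit false
set_option linter.unusedSectionVars false
set_option linter.unusedVariables false

namespace Cfsg.Agent.Lib.Helper17.TWSLeaf
open Matrix Cfsg.Geo Cfsg.Agent.Lib.Helper18.AschA89 Cfsg.Agent.Lib.Helper8.TW Cfsg.Agent.Lib.Helper5.TWS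
open Cfsg.Agent.Lib.Helper25.SpT (sf Jm sfv pr)
open Cfsg.Agent.Lib.Helper23.TWUQ (NSp FCp)
open Cfsg.Agent.Lib.Helper9.TWST

variable {F : Type*} [Field F] [Fintype F] {t k : ℕ}

/-- conjugation by a similitude preserves skew-adjointness -/
lemma adjT_conj_skew (hk : Even k) (g : GL (Idx t k) F) (hg : g ∈ DSV t k F)
    (N : Matrix (Idx t k) (Idx t k) F) (hN : adjT hk N = -N) :
    adjT hk ((g : Matrix (Idx t k) (Idx t k) F) * N * ((g⁻¹ : GL (Idx t k) F) : Matrix (Idx t k) (Idx t k) F)) =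
      -((g : Matrix (Idx t k) (Idx t k) F) * N * ((g⁻¹ : GL (Idx t k) F) : Matrix (Idx t k) (Idx t k) F)) := by
  obtain ⟨c, hc⟩ := (mem_DSV_iff hk g).1 hg
  set G : Matrix (Idx t k) (Idx t k) F := (g : Matrix (Idx t k) (Idx t k) F) with hG
  set Gi : Matrix (Idx t k) (Idx t k) F := ((g⁻¹ : GL (Idx t k) F) : Matrix (Idx t k) (Idx t k) F) with hGi
  have hGGi : G * Gi = 1 := by rw [hG, hGi, ← Units.val_mul, mul_inv_cancel, Units.val_one]
  have hGiG : Gi * G = 1 := by rw [hG, hGi, ← Units.val_mul, inv_mul_cancel, Units.val_one]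
  have h1 : adjT hk G = (c : F) • Gi := by
    calc adjT hk G = adjT hk G * (G * Gi) := by rw [hGGi, Matrix.mul_one]
      _ = (adjT hk G * G) * Gi := by rw [Matrix.mul_assoc]
      _ = (c : F) • Gi := by rw [hc, Matrix.smul_mul, Matrix.one_mul]
  have h2 : adjT hk Gi * adjT hk G = 1 := by
    rw [← adjT_mul hk, hGGi, adjT_one hk]
  have h3 : adjT hk Gi = ((c : F))⁻¹ • G := by
    have h4 : adjT hk Gi * Gi = ((c : F))⁻¹ • 1 := by
      rw [h1, Matrix.mul_smul] at h2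
      rw [← h2, smul_smul, inv_mul_cancel₀ c.ne_zero, one_smul]
    calc adjT hk Gi = adjT hk Gi * (Gi * G) := by rw [hGiG, Matrix.mul_one]
      _ = (adjT hk Gi * Gi) * G := by rw [Matrix.mul_assoc]
      _ = ((c : F))⁻¹ • G := by rw [h4, Matrix.smul_mul, Matrix.one_mul]
  rw [adjT_mul hk, adjT_mul hk, hN, h1, h3]
  rw [Matrix.smul_mul, Matrix.mul_smul, Matrix.mul_smul, smul_smul, inv_mul_cancel₀ c.ne_zero, one_smul,
    Matrix.neg_mul, Matrix.mul_neg, Matrix.mul_assoc]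

lemma sfv_apply (hk : Even k) (y : Fin k → F) (c : Fin k) : sfv y c = sg hk c * y (pr hk c) := by
  unfold sfv
  exact gram_mulVec (pr hk) (sg hk) (Jm k) (Jm_eq hk) y c

/-- a skew-adjoint root nilpotent `slot i (y ηᵀ)` has `η = a • y†` -/
lemma eta_of_skew (hk : Even k) (i : Fin t) (y η : Fin k → F) (hy : y ≠ 0) (hη : η ≠ 0)
    (h : adjT hk (rootN i y η) = - rootN i y η) : ∃ a : F, a ≠ 0 ∧ η = a • sfv y := by
  unfold rootN at h
  rw [adjT_slot hk, ← slot_neg'] at h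
  have h1 := Cfsg.Agent.Lib.Helper6.TWLeaf.slot_injective i _ _ h
  obtain ⟨a₀, ha₀⟩ : ∃ a, y a ≠ 0 := by
    by_contra hh
    push Not at hh
    exact hy (funext hh)
  have h2 : ∀ b, η b = (-(sg hk a₀ * η (pr hk a₀)) * (y a₀)⁻¹) * sfv y b := by
    intro b
    have := congrFun (congrFun h1 a₀) b
    rw [adjA_apply, Matrix.neg_apply, Matrix.vecMulVec_apply, Matrix.vecMulVec_apply] at this
    rw [sfv_apply hk]
    have e1 : η b = (y a₀)⁻¹ * (y a₀ * η b) := by rw [← mul_assoc, inv_mul_cancel₀ ha₀, one_mul]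
    have e2 : y a₀ * η b = -(sg hk a₀ * sg hk b * (y (pr hk b) * η (pr hk a₀))) := by
      rw [this, neg_neg]
    rw [e1, e2]
    ring
  refine ⟨-(sg hk a₀ * η (pr hk a₀)) * (y a₀)⁻¹, ?_, ?_⟩
  · intro h0
    apply hη
    funext b
    rw [h2 b, h0, zero_mul]
    rfl
  · funext b
    rw [h2 b]
    rfl

lemma rootN_smul_right (i : Fin t) (y η : Fin k → F) (a : F) : rootN i y (a • η) = a • rootN i y η := by
  unfold rootN
  rw [← slot_smul]
  congr 1
  funext b c
  simp only [Matrix.vecMulVec_apply, Matrix.smul_apply, Pi.smul_apply, smul_eq_mul]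
  ring

lemma kerF_smul (η : Fin k → F) {a : F} (ha : a ≠ 0) : kerF (a • η) = kerF η := by
  ext v
  rw [mem_kerF, mem_kerF, smul_dotProduct, smul_eq_mul]
  constructor
  · intro h
    rcases mul_eq_zero.1 h with h | h
    · exact absurd h ha
    · exact h
  · intro h
    rw [h, mul_zero]

/-- root data whose nilpotents are proportional have the same FULL root group -/
lemma grp_eq_of_N_smul (r r' : RD t k F) (a : F) (ha : a ≠ 0) (hN : r.N = a • r'.N) : r.grp = r'.grp := by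
  have helt : ∀ c : F, r.elt c = r'.elt (a * c) := by
    intro c
    apply Units.ext
    unfold RD.elt
    rw [unip_val, unip_val, hN, smul_smul, mul_comm]
  ext x
  rw [RD.mem_grp, RD.mem_grp]
  constructor
  · rintro ⟨c, rfl⟩
    exact ⟨a * c, helt c⟩
  · rintro ⟨c, rfl⟩
    refine ⟨a⁻¹ * c, ?_⟩
    rw [helt, ← mul_assoc, mul_inv_cancel₀ ha, one_mul]

/-- ST7 (M) `G ∩ Δ` acts on admissible root data, with their FULL root groups -/
theorem G_act_RS (hk : Even k) (hk2 : 2 ≤ k) (g : GL (Idx t k) F) (hgG : g ∈ Gstd t k F)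
    (hgD : g ∈ DSV t k F) (r : RD t k F) (hr : RS r) :
    ∃ r' : RD t k F, RS r' ∧ img g r.W = r'.W ∧ img g r.C = r'.C ∧ conjG g r.grp = r'.grp := by
  obtain ⟨r₀, hW, hC, hT, hN⟩ := Cfsg.Agent.Lib.Helper23.TWLeaf.G_act_RD g hgG r
  have hrN : r.N = rootN r.i r.y (sfv r.y) := RD_N_eq hr
  have hsa : adjT hk r₀.N = - r₀.N := by
    rw [← hN]
    apply adjT_conj_skew hk g hgD
    rw [hrN]
    exact adjT_rootN_sfv hk r.i r.y
  obtain ⟨a, ha0, haη⟩ := eta_of_skew hk r₀.i r₀.y r₀.η r₀.hy r₀.hη hsa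
  set r' : RD t k F := srd hk r₀.i r₀.y r₀.hy with hr'
  have hN' : r₀.N = a • r'.N := by
    show rootN r₀.i r₀.y r₀.η = a • rootN r₀.i r₀.y (sfv r₀.y)
    rw [haη, rootN_smul_right]
  refine ⟨r', srd_RS hk r₀.i r₀.y r₀.hy, hW, ?_, ?_⟩
  · rw [hC]
    show Cf r₀.i r₀.η = Cf r₀.i (sfv r₀.y)
    unfold Cf
    rw [haη, kerF_smul _ ha0]
  · rw [hT]
    exact grp_eq_of_N_smul r₀ r' a ha0 hN'

end Cfsg.Agent.Lib.Helper17.TWSLeaf
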