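import Mathlib
import Cfsg.Agent.Lib.Helper5.TWS.Defs
import Cfsg.Agent.Lib.Helper5.TWS.StageIDefs
import Cfsg.Agent.Lib.Helper23.SOTGTM
import Cfsg.Agent.Lib.Helper23.TWI1
import Cfsg.Agent.Lib.Helper23.TWG6
import Cfsg.Agent.Lib.Helper16.TWImg
import Cfsg.Agent.Lib.Helper16.TWRootA
import Cfsg.Agent.Lib.Helper16.TWRootB

/-!
S5668-I (owner helper5), leaves I2S `exists_xS` (fixed point trick), I3S `keyS` (THE KEY), I3S' `keyS_congr` (helper17):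
CORE forms with the toolkit facts ST3 (`elt_mem_HS`), ST7 (`G_act_RS`), ST7' (`grp_eq_of_W`) as explicit hypotheses.
Port of `Helper23.TWUIKey` (`exists_xU`, `keyU`, `keyU_congr`) to the symplectic layer.
-/

set_option autoImplicit false
set_option linter.unusedSectionVars false
set_option linter.unusedVariables false

namespace Cfsg.Agent.Lib.Helper17.TWSKey
open Matrix Cfsg.Geo Cfsg.Agent.Lib.Helper18.AschA89 Cfsg.Agent.Lib.Helper8.TW Cfsg.Agent.Lib.Helper5.TWS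
open Cfsg.Agent.Lib.Helper25.SpT (sf Jm sfv)
open Cfsg.Agent.Lib.Helper23.TWUQ (NSp FCp)

variable {F : Type*} [Field F] [Fintype F] {t k : ℕ}

/-- ST3 as a hypothesis -/
def ST3 (t k : ℕ) (F : Type*) [Field F] : Prop :=
  ∀ (r : RD t k F), RS r → ∀ c : F, r.elt c ∈ HS t k F

/-- ST7 as a hypothesis -/
def ST7 (t k : ℕ) (F : Type*) [Field F] : Prop :=
  ∀ (g : GL (Idx t k) F), g ∈ Gstd t k F → g ∈ DSV t k F → ∀ (r : RD t k F), RS r →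
    ∃ r' : RD t k F, RS r' ∧ img g r.W = r'.W ∧ img g r.C = r'.C ∧ conjG g r.grp = r'.grp

/-- ST7' as a hypothesis -/
def ST7' (t k : ℕ) (F : Type*) [Field F] : Prop :=
  ∀ (r r' : RD t k F), RS r → RS r' → r.W = r'.W → r.grp = r'.grp

lemma grp_le_HS (h3 : ST3 t k F) (r : RD t k F) (hr : RS r) : r.grp ≤ HS t k F := by
  rintro a ⟨c, rfl⟩
  exact h3 r hr c

lemma sup_le_X (h3 : ST3 t k F) {X : Subgroup (GL (Idx t k) F)} (c : CtxS X) (g : GL (Idx t k) F)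
    (hgX : g ∈ X) (r₁ r₂ : RD t k F) (hr₁ : RS r₁) (hr₂ : RS r₂) :
    r₁.grp ⊔ conjG g r₂.grp ≤ X := by
  apply sup_le
  · exact (grp_le_HS h3 r₁ hr₁).trans c.hHX
  · intro b hb
    rw [mem_conjG] at hb
    obtain ⟨a, ha, rfl⟩ := hb
    exact X.mul_mem (X.mul_mem hgX (c.hHX (grp_le_HS h3 r₂ hr₂ ha))) (X.inv_mem hgX)

/-- I2S core: FIXED POINT TRICK -/
theorem exists_xS_of (h3 : ST3 t k F) {X : Subgroup (GL (Idx t k) F)} (c : CtxS X)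
    (g : GL (Idx t k) F) (hgX : g ∈ X) (r₁ r₂ : RD t k F) (hr₁ : RS r₁) (hr₂ : RS r₂) :
    ∃ x ∈ r₁.grp ⊔ conjG g r₂.grp, x⁻¹ * g ∈ Gstd t k F := by
  classical
  have : Fact (ringChar F).Prime := ⟨CharP.char_is_prime F (ringChar F)⟩
  have : CharP F (ringChar F) := ringChar.charP F
  have hPM : r₁.grp ≤ X := (grp_le_HS h3 r₁ hr₁).trans c.hHX
  have hP'M : conjG g r₂.grp ≤ X := by
    intro b hb
    rw [mem_conjG] at hb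
    obtain ⟨a, ha, rfl⟩ := hb
    exact X.mul_mem (X.mul_mem hgX (c.hHX (grp_le_HS h3 r₂ hr₂ ha))) (X.inv_mem hgX)
  have hP : IsPGroup (ringChar F) r₁.grp :=
    Cfsg.Agent.Lib.Helper16.TWLeaf.RD_isPGroup (ringChar F) r₁
  have hP' : IsPGroup (ringChar F) (conjG g r₂.grp) := by
    unfold conjG
    exact (Cfsg.Agent.Lib.Helper16.TWLeaf.RD_isPGroup (ringChar F) r₂).map _
  have hPH : r₁.grp ≤ Gstd t k F := fun a ha => (grp_le_HS h3 r₁ hr₁ ha).1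
  obtain ⟨x₀, hx₀, hx₀G⟩ := Cfsg.Agent.Lib.Helper23.SOTLeafM.exists_mem_sup_coset (ringChar F) X (Gstd t k F)
    r₁.grp (conjG g r₂.grp) g hgX hPM hP'M hP hP' hPH
    (fun m' hm' h => c.fc r₁ hr₁ m' hm' (fun d _ => h _ ⟨d, rfl⟩))
    (fun m' hm' h => by
      apply c.fc r₂ hr₂ (g⁻¹ * m') (X.mul_mem (X.inv_mem hgX) hm')
      intro d _
      have h1 : g * r₂.elt d * g⁻¹ ∈ conjG g r₂.grp := mem_conjG.2 ⟨r₂.elt d, ⟨d, rfl⟩, rfl⟩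
      have h2 := h _ h1
      have h3 : (g⁻¹ * m')⁻¹ * r₂.elt d * (g⁻¹ * m') = m'⁻¹ * (g * r₂.elt d * g⁻¹) * m' := by group
      rw [h3]
      exact h2)
  refine ⟨x₀, hx₀, ?_⟩
  have : x₀⁻¹ * g = (g⁻¹ * x₀)⁻¹ := by group
  rw [this]
  exact (Gstd t k F).inv_mem hx₀G

/-- I3S core: THE KEY -/
theorem keyS_of (h3 : ST3 t k F) (h7 : ST7 t k F) {X : Subgroup (GL (Idx t k) F)} (c : CtxS X)
    (g : GL (Idx t k) F) (hgX : g ∈ X) (r₁ r₂ : RD t k F) (hr₁ : RS r₁) (hr₂ : RS r₂) :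
    ∃ (x : GL (Idx t k) F) (r₃ : RD t k F), KeyS g r₁ r₂ x r₃ := by
  obtain ⟨x, hx, hh⟩ := exists_xS_of h3 c g hgX r₁ r₂ hr₁ hr₂
  have hxX : x ∈ X := sup_le_X h3 c g hgX r₁ r₂ hr₁ hr₂ hx
  have hhD : x⁻¹ * g ∈ DSV t k F := c.hXD (X.mul_mem (X.inv_mem hxX) hgX)
  obtain ⟨r₃, hr₃, hW3, hC3, hT3⟩ := h7 (x⁻¹ * g) hh hhD r₂ hr₂
  have hxg : x * (x⁻¹ * g) = g := by group
  have hxi : x⁻¹ ∈ r₁.grp ⊔ conjG g r₂.grp := Subgroup.inv_mem _ hx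
  obtain ⟨hx1, hx2⟩ := Cfsg.Agent.Lib.Helper23.TWLeaf.G0_props g r₁ r₂ x hx
  obtain ⟨hxi1, hxi2⟩ := Cfsg.Agent.Lib.Helper23.TWLeaf.G0_props g r₁ r₂ x⁻¹ hxi
  have hW3' : r₃.W = img x⁻¹ (img g r₂.W) := by
    rw [← hW3, Cfsg.Agent.Lib.Helper16.TWLeaf.img_mul]
  have hWC' : img g r₂.W ≤ img g r₂.C :=
    (Cfsg.Agent.Lib.Helper16.TWLeaf.img_le_img_iff g _ _).2 (Cfsg.Agent.Lib.Helper16.TWLeaf.RD_W_le_C r₂)
  refine ⟨x, r₃, ⟨hr₃, hx, hh, ?_, ?_, ?_, ?_, hx1, hx2⟩⟩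
  · rw [← hW3, ← Cfsg.Agent.Lib.Helper16.TWLeaf.img_mul, hxg]
  · rw [← hT3, ← Cfsg.Agent.Lib.Helper16.TWLeaf.conjG_mul, hxg]
  · intro w hw
    rw [hW3', Cfsg.Agent.Lib.Helper16.TWLeaf.mem_img_iff, inv_inv] at hw
    have h1 := hxi1 (mv x w)
    rw [Cfsg.Agent.Lib.Helper23.TWLeaf.i1_mv_inv_mv] at h1
    have : w = mv x w + (w - mv x w) := by abel
    rw [this]
    exact Submodule.add_mem _ (Submodule.mem_sup_right hw) h1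
  · intro v hv'
    have hvD : v ∈ r₁.C ⊓ img g r₂.C := ⟨hv'.2, hWC' hv'.1⟩
    have hfix := hxi2 v hvD
    rw [hW3', ← hfix]
    exact Cfsg.Agent.Lib.Helper23.TWLeaf.i1_mv_mem_img x⁻¹ _ hv'.1

/-- I3S' core: `KeyS` only sees `r₃.W` and admissibility -/
theorem keyS_congr_of (h7' : ST7' t k F) {g x : GL (Idx t k) F} {r₁ r₂ r₃ r₃' : RD t k F}
    (K : KeyS g r₁ r₂ x r₃) (hr : RS r₃') (hW : r₃'.W = r₃.W) : KeyS g r₁ r₂ x r₃' :=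
  ⟨hr, K.x_mem, K.h_mem, by rw [hW]; exact K.hW,
    by rw [h7' r₃' r₃ hr K.hr₃ hW]; exact K.hT,
    by rw [hW]; exact K.h1, by rw [hW]; exact K.h2, K.hx1, K.hx2⟩

end Cfsg.Agent.Lib.Helper17.TWSKey
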