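import Mathlib
import Cfsg.Agent.Lib.Helper17.TWSIKeyCore
import Cfsg.Agent.Lib.Helper17.TWSIGact
import Cfsg.Agent.Lib.Helper23.TWUIG

/-!
S5668-I (owner helper5), leaves I2S `exists_xS`, I3S `keyS`, I3S' `keyS_congr` (helper17), EXACT signatures of
`notes/S5668_I_leaves.lean` (wrappers of `Helper17.TWSIKeyCore` on the toolkit: ST3 = `Helper9.TWST.elt_mem_HS`,
ST7 = `Helper17.TWSLeaf.G_act_RS`, ST7' = `grp_eq_of_W` below).
-/

set_option autoImplicit false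
set_option linter.unusedSectionVars false
set_option linter.unusedVariables false

namespace Cfsg.Agent.Lib.Helper17.TWSLeaf
open Matrix Cfsg.Geo Cfsg.Agent.Lib.Helper18.AschA89 Cfsg.Agent.Lib.Helper8.TW Cfsg.Agent.Lib.Helper5.TWS
open Cfsg.Agent.Lib.Helper25.SpT (sf Jm sfv)
open Cfsg.Agent.Lib.Helper23.TWUQ (NSp FCp)
open Cfsg.Agent.Lib.Helper17.TWSKey

variable {F : Type*} [Field F] [Fintype F] {t k : ℕ}

lemma rootN_smul_left' (i : Fin t) (y η : Fin k → F) (a : F) : rootN i (a • y) η = a • rootN i y η := by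
  unfold rootN
  rw [← slot_smul]
  congr 1
  funext b c
  simp only [Matrix.vecMulVec_apply, Matrix.smul_apply, Pi.smul_apply, smul_eq_mul]
  ring

/-- ST7' two admissible root data with the same fibre have the same root group -/
theorem grp_eq_of_W (hk : Even k) (hk2 : 2 ≤ k) (r r' : RD t k F) (hr : RS r) (hr' : RS r') (hW : r.W = r'.W) :
    r.grp = r'.grp := by
  obtain ⟨hi, a, ha0, hya⟩ :=
    Cfsg.Agent.Lib.Helper23.TWULeaf.Wf_eq_Wf hk2 r.i r'.i r.y r'.y r.hy r'.hy hW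
  have hN : r'.N = (a * a) • r.N := by
    rw [Cfsg.Agent.Lib.Helper9.TWST.RD_N_eq hr, Cfsg.Agent.Lib.Helper9.TWST.RD_N_eq hr', ← hi, hya]
    have : sfv (a • r.y) = a • sfv r.y := by
      unfold sfv
      rw [Matrix.mulVec_smul]
    rw [this, rootN_smul_left', rootN_smul_right, smul_smul]
  exact (grp_eq_of_N_smul r' r (a * a) (mul_ne_zero ha0 ha0) hN).symm

/-- I2S (M) FIXED POINT TRICK = GT -/
theorem exists_xS {X : Subgroup (GL (Idx t k) F)} (c : CtxS X) (g : GL (Idx t k) F) (hgX : g ∈ X)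
    (r₁ r₂ : RD t k F) (hr₁ : RS r₁) (hr₂ : RS r₂) :
    ∃ x ∈ r₁.grp ⊔ conjG g r₂.grp, x⁻¹ * g ∈ Gstd t k F :=
  exists_xS_of (fun r hr c' => Cfsg.Agent.Lib.Helper9.TWST.elt_mem_HS c.hk hr c') c g hgX r₁ r₂ hr₁ hr₂

/-- I3S (M) THE KEY -/
theorem keyS {X : Subgroup (GL (Idx t k) F)} (c : CtxS X) (g : GL (Idx t k) F) (hgX : g ∈ X)
    (r₁ r₂ : RD t k F) (hr₁ : RS r₁) (hr₂ : RS r₂) :
    ∃ (x : GL (Idx t k) F) (r₃ : RD t k F), KeyS g r₁ r₂ x r₃ :=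
  keyS_of (fun r hr c' => Cfsg.Agent.Lib.Helper9.TWST.elt_mem_HS c.hk hr c')
    (fun g' hgG hgD r hr => G_act_RS c.hk c.hk2 g' hgG hgD r hr)
    c g hgX r₁ r₂ hr₁ hr₂

/-- I3S' (S) `KeyS` only sees `r₃.W` and admissibility -/
theorem keyS_congr {X : Subgroup (GL (Idx t k) F)} (c : CtxS X) {g x : GL (Idx t k) F} {r₁ r₂ r₃ r₃' : RD t k F}
    (K : KeyS g r₁ r₂ x r₃) (hr : RS r₃') (hW : r₃'.W = r₃.W) : KeyS g r₁ r₂ x r₃' :=
  keyS_congr_of (fun r r' hr hr' hW => grp_eq_of_W c.hk c.hk2 r r' hr hr' hW) K hr hW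

end Cfsg.Agent.Lib.Helper17.TWSLeaf
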