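import Mathlib
import Cfsg.Prelude.Def_GeometricClasses
import Cfsg.Agent.Lib.Helper20.AschDefs
import Cfsg.Agent.Lib.Helper20.FCDefs
import Cfsg.Agent.Lib.Helper18.C2Defs

/-!
FORM-CLIFFORD market (helper20), leaves (B3) `nondegOn_of_compl` and (B4) `caseA` (helper17).
-/

set_option autoImplicit false
set_option linter.unusedSectionVars false
set_option linter.unusedVariables false

namespace Cfsg.Agent.Lib.Helper17.FCLeaf
open Matrix Cfsg.Geo Cfsg.Agent.Lib.Helper20.Asch Cfsg.Agent.Lib.Helper20.FC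

variable {F : Type*} [Field F] [Fintype F] {n : ℕ}

/-- (B3) a subspace with an orthogonal supplement is non-degenerate. -/
theorem nondegOn_of_compl {σ : F →+* F} {f : (Fin n → F) → (Fin n → F) → F} (hf : RSForm σ f)
    {W W' : Submodule F (Fin n → F)} (hsup : W ⊔ W' = ⊤) (horth : AreOrthogonalFor f W W') :
    IsNondegenerateOn f W := by
  intro w hw hw0
  obtain ⟨⟨x, hx⟩, ⟨x', hx'⟩⟩ := hf.nondeg w hw0
  have hxm : x ∈ W ⊔ W' := by rw [hsup]; exact Submodule.mem_top
  have hxm' : x' ∈ W ⊔ W' := by rw [hsup]; exact Submodule.mem_top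
  obtain ⟨a, ha, b, hb, hab⟩ := Submodule.mem_sup.mp hxm
  obtain ⟨a', ha', b', hb', hab'⟩ := Submodule.mem_sup.mp hxm'
  refine ⟨⟨a, ha, ?_⟩, ⟨a', ha', ?_⟩⟩
  · intro h0
    apply hx
    rw [← hab, hf.add_left, h0, zero_add]
    exact hf.refl _ _ (horth w hw b hb)
  · intro h0
    apply hx'
    rw [← hab', hf.add_right, h0, zero_add]
    exact horth w hw b' hb'

/-- (B4) case A: all components pairwise orthogonal. -/
theorem caseA {σ : F →+* F} {f : (Fin n → F) → (Fin n → F) → F} (hf : RSForm σ f) {t m : ℕ}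
    {D : Fin t → Submodule F (Fin n → F)} (hD : IsMDecomposition m D)
    (horth : ∀ i j, i ≠ j → AreOrthogonalFor f (D i) (D j)) :
    IsNondegenerateMDecomposition f m D := by
  refine ⟨hD, fun i => ?_, horth⟩
  refine nondegOn_of_compl hf (W' := Cfsg.Agent.Lib.Helper18.C2.co D i)
    (Cfsg.Agent.Lib.Helper18.C2.isCompl_co hD i).sup_eq_top ?_
  intro u hu v hv
  -- v ∈ ⨆ j ≠ i, D j
  unfold Cfsg.Agent.Lib.Helper18.C2.co at hv
  refine Submodule.iSup_induction (fun j => ⨆ (_ : j ≠ i), D j) (motive := fun v => f u v = 0) hv ?_ ?_ ?_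
  · intro j x hx
    by_cases hji : j = i
    · subst hji
      simp at hx
      rw [hx]
      exact hf.zero_right u
    · have hx' : x ∈ D j := by
        simpa [hji] using hx
      exact horth i j (Ne.symm hji) u hu x hx'
  · exact hf.zero_right u
  · intro x y hx hy
    rw [hf.add_right, hx, hy, add_zero]

end Cfsg.Agent.Lib.Helper17.FCLeaf
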