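import Mathlib
import Cfsg.Prelude.Def_GeometricClasses
import Cfsg.Agent.Lib.Helper20.AschDefs
import Cfsg.Agent.Lib.Helper20.FCDefs
import Cfsg.Agent.Lib.Helper18.C2Defs

/-!
FORM-CLIFFORD market (helper20), leaf (B2) `dual_props` (helper17).
-/

set_option autoImplicit false
set_option linter.unusedSectionVars false
set_option linter.unusedVariables false

namespace Cfsg.Agent.Lib.Helper17.FCLeaf
open Matrix Cfsg.Geo Cfsg.Agent.Lib.Helper20.Asch Cfsg.Agent.Lib.Helper20.FC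

variable {F : Type*} [Field F] [Fintype F] {n : ℕ}

/-- the members of an `m`-decomposition are non-zero -/
theorem mdec_ne_bot {t m : ℕ} {D : Fin t → Submodule F (Fin n → F)} (hD : IsMDecomposition m D) (i : Fin t) :
    D i ≠ ⊥ := by
  intro h
  have := hD.finrank_eq i
  rw [h, finrank_bot] at this
  have := hD.pos
  omega

/-- the members of an `m`-decomposition are pairwise distinct -/
theorem mdec_injective {t m : ℕ} {D : Fin t → Submodule F (Fin n → F)} (hD : IsMDecomposition m D) :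
    Function.Injective D :=
  hD.indep.injective (mdec_ne_bot hD)

/-- a member of a decomposition orthogonal to all members is impossible -/
theorem not_orth_all {σ : F →+* F} {f : (Fin n → F) → (Fin n → F) → F} (hf : RSForm σ f) {t m : ℕ}
    {D : Fin t → Submodule F (Fin n → F)} (hD : IsMDecomposition m D) (i : Fin t)
    (h : ∀ j, AreOrthogonalFor f (D i) (D j)) : False := by
  obtain ⟨u, hu, hu0⟩ := (Submodule.ne_bot_iff _).mp (mdec_ne_bot hD i)
  obtain ⟨-, ⟨x, hx⟩⟩ := hf.nondeg u hu0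
  apply hx
  rw [← Cfsg.Agent.Lib.Helper18.C2.sum_pr hD x, hf.sum_right]
  exact Finset.sum_eq_zero (fun j _ => h j u hu _ (Cfsg.Agent.Lib.Helper18.C2.pr_mem hD j x))

/-- (B2) `τ` is an involution compatible with `Y`; fixed points: all or none. -/
theorem dual_props {σ : F →+* F} {f : (Fin n → F) → (Fin n → F) → F} (hf : RSForm σ f)
    {Y : Subgroup (GL (Fin n) F)} (hiso : Isoms Y f) {t m : ℕ}
    {D : Fin t → Submodule F (Fin n → F)} (hD : IsMDecomposition m D)
    (hstab : Y ≤ decompositionStabilizer D)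
    (htr : ∀ i j, ∃ y ∈ Y, (D i).map (Matrix.toLin' (y : Matrix (Fin n) (Fin n) F)) = D j)
    (τ : Fin t → Fin t) (hτ : ∀ i j, j ≠ τ i → AreOrthogonalFor f (D i) (D j)) :
    (∀ i, τ (τ i) = i) ∧ (∀ i, ¬ AreOrthogonalFor f (D i) (D (τ i))) ∧
    (∀ y ∈ Y, ∀ ρ : Equiv.Perm (Fin t),
      (∀ i, (D i).map (Matrix.toLin' (y : Matrix (Fin n) (Fin n) F)) = D (ρ i)) → ∀ i, ρ (τ i) = τ (ρ i)) ∧
    ((∀ i, τ i = i) ∨ (∀ i, τ i ≠ i)) := by
  have hN : ∀ i, ¬ AreOrthogonalFor f (D i) (D (τ i)) := by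
    intro i h
    refine not_orth_all hf hD i (fun j => ?_)
    by_cases hj : j = τ i
    · rw [hj]; exact h
    · exact hτ i j hj
  have hinv : ∀ i, τ (τ i) = i := by
    intro i
    by_contra hne
    exact hN i (hf.orth_symm (hτ (τ i) i (fun h => hne h.symm)))
  have hcompat : ∀ y ∈ Y, ∀ ρ : Equiv.Perm (Fin t),
      (∀ i, (D i).map (Matrix.toLin' (y : Matrix (Fin n) (Fin n) F)) = D (ρ i)) → ∀ i, ρ (τ i) = τ (ρ i) := by
    intro y hy ρ hρ i
    by_contra hne
    apply hN i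
    intro u hu v hv
    have h1 : (y : Matrix (Fin n) (Fin n) F) *ᵥ u ∈ D (ρ i) := by
      rw [← hρ i]
      exact ⟨u, hu, by simp [Matrix.toLin'_apply]⟩
    have h2 : (y : Matrix (Fin n) (Fin n) F) *ᵥ v ∈ D (ρ (τ i)) := by
      rw [← hρ (τ i)]
      exact ⟨v, hv, by simp [Matrix.toLin'_apply]⟩
    rw [← hiso y hy u v]
    exact hτ (ρ i) (ρ (τ i)) hne _ h1 _ h2
  refine ⟨hinv, hN, hcompat, ?_⟩
  by_cases hex : ∃ i₀, τ i₀ = i₀
  · left
    obtain ⟨i₀, hi₀⟩ := hex
    intro j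
    obtain ⟨y, hyY, hy⟩ := htr i₀ j
    obtain ⟨ρ, hρ⟩ := hstab hyY
    have hj : ρ i₀ = j := mdec_injective hD (by rw [← hρ i₀, hy])
    rw [← hj, ← hcompat y hyY ρ hρ i₀, hi₀]
  · right
    intro i hi
    exact hex ⟨i, hi⟩

end Cfsg.Agent.Lib.Helper17.FCLeaf
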