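import Mathlib
import Cfsg.Prelude.Def_GeometricClasses
import Cfsg.Agent.Lib.Helper20.AschDefs
import Cfsg.Agent.Lib.Helper20.FCDefs

/-!
FORM-CLIFFORD market (helper20), leaf (C2) `orth_decomp` (helper17).
-/

set_option autoImplicit false
set_option linter.unusedSectionVars false
set_option linter.unusedVariables false

namespace Cfsg.Agent.Lib.Helper17.FCLeaf
open Matrix Cfsg.Geo Cfsg.Agent.Lib.Helper20.Asch Cfsg.Agent.Lib.Helper20.FC

variable {F : Type*} [Field F] [Fintype F] {n : ℕ}

/-- an invertible matrix mapping `W` onto `W'` and preserving `Q` makes `W`, `W'` isometric -/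
theorem areIsometricFor_of_map {Q : (Fin n → F) → F} (y : GL (Fin n) F)
    (hy : ∀ v, Q ((y : Matrix (Fin n) (Fin n) F) *ᵥ v) = Q v) {W W' : Submodule F (Fin n → F)}
    (h : W.map (Matrix.toLin' (y : Matrix (Fin n) (Fin n) F)) = W') : AreIsometricFor Q W W' := by
  have hinj : Function.Injective (Matrix.toLin' (y : Matrix (Fin n) (Fin n) F)) := by
    intro a b hab
    have h1 : ((y⁻¹ : GL (Fin n) F) : Matrix (Fin n) (Fin n) F) *ᵥ ((y : Matrix (Fin n) (Fin n) F) *ᵥ a)
        = ((y⁻¹ : GL (Fin n) F) : Matrix (Fin n) (Fin n) F) *ᵥ ((y : Matrix (Fin n) (Fin n) F) *ᵥ b) := by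
      simp only [Matrix.toLin'_apply] at hab
      rw [hab]
    simpa [Matrix.mulVec_mulVec, ← Units.val_mul] using h1
  refine ⟨(Submodule.equivMapOfInjective _ hinj W).trans (LinearEquiv.ofEq _ _ h), fun w => ?_⟩
  simp only [LinearEquiv.trans_apply, LinearEquiv.coe_ofEq_apply, Submodule.coe_equivMapOfInjective_apply,
    Matrix.toLin'_apply]
  exact hy _

/-- (C2) ORTHOGONAL: a non-degenerate decomposition for the polar form permuted transitively by isometries of `Q` is an
orthogonal decomposition. -/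
theorem orth_decomp {Q : (Fin n → F) → F} {Y : Subgroup (GL (Fin n) F)}
    (hY : FixesQuadForm (matrixSet Y) Q) {t k : ℕ} {D : Fin t → Submodule F (Fin n → F)}
    (hD : IsNondegenerateMDecomposition (QuadraticMap.polar Q) k D)
    (htr : ∀ i j, ∃ y ∈ Y, (D i).map (Matrix.toLin' (y : Matrix (Fin n) (Fin n) F)) = D j) :
    IsOrthogonalMDecomposition Q k D := by
  refine ⟨hD, fun i j => ?_⟩
  obtain ⟨y, hyY, hy⟩ := htr i j
  exact areIsometricFor_of_map y (fun v => hY _ ⟨y, hyY, rfl⟩ v) hy

end Cfsg.Agent.Lib.Helper17.FCLeaf
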