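import Mathlib
import Cfsg.Agent.Lib.Helper12.U3Defs
import Cfsg.Agent.Lib.Helper20.U3CAHOM
import Cfsg.Agent.Lib.Helper8.U3SWAP

/-!
S2148 market "U3" (helper17): conjugation of the unipotent radical `QQ` by the Borel subgroup `PP`
in coordinates (used by the leaf BG2 `borel_gamma2`).
-/

set_option autoImplicit false
set_option linter.unusedSectionVars false
set_option linter.unusedVariables false

namespace Cfsg.Agent.Lib.Helper17.U3Leaf

open Cfsg.Agent.Lib.Helper12.U3 Cfsg.Agent.Lib.Helper18.PSUMod Cfsg.Agent.Lib.Helper5.HermBridge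

noncomputable section

variable {F : Type*} [Field F] [Fintype F] {q : ℕ} (hF : Fintype.card F = q ^ 2)

/-- the elements of `LL` are diagonal: `diag(a, a^q / a, a^(-q))` with `a = ca l` -/
theorem av_of_mem_LL {l : GG hF} (hl : l ∈ LL hF) (x : V F 1) :
    av l x = (ca l * x.1, fun i => (frobHom hF (ca l) / ca l) * x.2.1 i,
      (frobHom hF (ca l))⁻¹ * x.2.2) := by
  have ha : ca l ≠ 0 := ca_ne_zero hl.1
  obtain ⟨d, hd, hdx⟩ := Cfsg.Agent.Lib.Helper8.U3Leaf.exists_diagL hF ha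
  have hcad : ca d = ca l := by
    rw [ca, hdx]; simp [ve]
  have h1 : ca (l * d⁻¹) = 1 := by
    have hdinv : d⁻¹ ∈ LL hF := (LL hF).inv_mem hd
    rw [Cfsg.Agent.Lib.Helper20.U3Leaf.ca_mul' hl.1 hdinv.1]
    have h2 : ca (d * d⁻¹) = ca d * ca d⁻¹ :=
      Cfsg.Agent.Lib.Helper20.U3Leaf.ca_mul' hd.1 hdinv.1
    rw [mul_inv_cancel, Cfsg.Agent.Lib.Helper20.U3Leaf.ca_one', hcad] at h2
    exact h2.symm
  have h3 : l * d⁻¹ = 1 :=
    Cfsg.Agent.Lib.Helper20.U3Leaf.eq_one_of_mem_Le_of_ca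
      ((LL hF).mul_mem hl ((LL hF).inv_mem hd)) h1
  have h4 : l = d := by rwa [mul_inv_eq_one] at h3
  rw [h4, hdx, hcad]

/-- the coordinate group of `QQ` -/
abbrev HSg : Type _ := ↥(HS (frobHom hF) (barOK_frob hF).invol 1)

theorem cb_of_mem_LL {l : GG hF} (hl : l ∈ LL hF) : cb l = (frobHom hF (ca l))⁻¹ := by
  rw [cb, av_of_mem_LL hF hl]; simp [vf]

theorem Bof_of_mem_LL {l : GG hF} (hl : l ∈ LL hF) (w : Fin 1 → F) (i : Fin 1) :
    Bof (l : V F 1 ≃ₗ[F] V F 1) w i = (frobHom hF (ca l) / ca l) * w i := by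
  rw [Bof_apply]
  have := av_of_mem_LL hF hl (vw w)
  rw [av] at this
  rw [this]
  simp [vw]

/-- conjugation of `QQ` by `LL` in coordinates -/
theorem LL_conj {l : GG hF} (hl : l ∈ LL hF) (x : HSg hF) :
    ∃ x' : HSg hF, l * EG (barOK_frob hF).invol x * l⁻¹ = EG (barOK_frob hF).invol x' ∧
      (x' : HP (frobHom hF) 1).w 0 =
        (frobHom hF (ca l) * (frobHom hF (ca l) / ca l)) * (x : HP (frobHom hF) 1).w 0 ∧
      (x' : HP (frobHom hF) 1).c = ca l * frobHom hF (ca l) * (x : HP (frobHom hF) 1).c := by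
  refine ⟨⟨actL l x, actL_mem _ hl x.2⟩, Le_conj _ hl x, ?_, ?_⟩
  · show (actL l (x : HP (frobHom hF) 1)).w 0 = _
    simp only [actL, Pi.smul_apply, smul_eq_mul, Bof_of_mem_LL hF hl, cb_of_mem_LL hF hl, inv_inv]
    ring
  · show (actL l (x : HP (frobHom hF) 1)).c = _
    simp only [actL, cb_of_mem_LL hF hl, inv_inv]

theorem ca_EG (y : HSg hF) : ca (EG (barOK_frob hF).invol y) = 1 := by
  rw [ca, av_EG_ve]; simp [ve]

/-- conjugation of `QQ` by `PP` in coordinates -/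
theorem PP_conj {k : GG hF} (hk : k ∈ PP hF) (x : HSg hF) :
    ∃ x' : HSg hF, k * EG (barOK_frob hF).invol x * k⁻¹ = EG (barOK_frob hF).invol x' ∧
      (x' : HP (frobHom hF) 1).w 0 =
        (frobHom hF (ca k) * (frobHom hF (ca k) / ca k)) * (x : HP (frobHom hF) 1).w 0 ∧
      ((x : HP (frobHom hF) 1).w 0 = 0 →
        (x' : HP (frobHom hF) 1).c = ca k * frobHom hF (ca k) * (x : HP (frobHom hF) 1).c) := by
  have hB := barOK_frob hF
  obtain ⟨y, l, hl, rfl⟩ := Pe_decomp hB.invol hk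
  have hca : ca (EG hB.invol y * l) = ca l := by
    rw [Cfsg.Agent.Lib.Helper20.U3Leaf.ca_mul' (Qe_le_Pe hB.invol ⟨y, rfl⟩) hl.1, ca_EG, one_mul]
  obtain ⟨x1, h1, hw1, hc1⟩ := LL_conj hF hl x
  refine ⟨y * x1 * y⁻¹, ?_, ?_, ?_⟩
  · rw [map_mul, map_mul, map_inv, ← h1]; group
  · rw [hca, ← hw1]
    show ((y : HP (frobHom hF) 1) * (x1 : HP (frobHom hF) 1) * (y : HP (frobHom hF) 1)⁻¹).w 0 = _
    rw [conj_HP_w]
  · intro hx0
    rw [hca, ← hc1]
    show ((y : HP (frobHom hF) 1) * (x1 : HP (frobHom hF) 1) * (y : HP (frobHom hF) 1)⁻¹).c = _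
    rw [conj_HP_c]
    have hw0 : (x1 : HP (frobHom hF) 1).w = 0 := by
      funext i
      have hi : i = 0 := Subsingleton.elim _ _
      rw [hi, hw1, hx0, mul_zero]; rfl
    rw [hw0, hW_zero_right, hW_zero_left, add_zero, sub_zero]

end

end Cfsg.Agent.Lib.Helper17.U3Leaf
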