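import Mathlib
import Cfsg.Agent.Lib.Helper17.U3BG2a

/-!
S2148 market "U3" (helper17): the subgroups `K ≤ PP` with `|K ∩ TT| = 2` in characteristic two:
the `w`-coordinates of `K ∩ QQ` (used by the leaf BG2 `borel_gamma2`).
-/

set_option autoImplicit false
set_option linter.unusedSectionVars false
set_option linter.unusedVariables false

namespace Cfsg.Agent.Lib.Helper17.U3Leaf

open Cfsg.Agent.Lib.Helper12.U3 Cfsg.Agent.Lib.Helper18.PSUMod Cfsg.Agent.Lib.Helper5.HermBridge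

noncomputable section

variable {F : Type*} [Field F] [Fintype F] {q : ℕ} (hF : Fintype.card F = q ^ 2)

theorem hW_one (w w' : Fin 1 → F) : hW (frobHom hF) w w' = w 0 * frobHom hF (w' 0) := by
  simp [hW]

theorem HSg_ext {x y : HSg hF} (hw : (x : HP (frobHom hF) 1).w 0 = (y : HP (frobHom hF) 1).w 0)
    (hc : (x : HP (frobHom hF) 1).c = (y : HP (frobHom hF) 1).c) : x = y := by
  apply Subtype.ext
  apply HP.ext _ hc
  funext i
  have hi : i = 0 := Subsingleton.elim _ _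
  rw [hi, hw]

theorem HSg_mul_w (x y : HSg hF) : ((x * y : HSg hF) : HP (frobHom hF) 1).w 0 =
    (x : HP (frobHom hF) 1).w 0 + (y : HP (frobHom hF) 1).w 0 := rfl

theorem HSg_mul_c (x y : HSg hF) : ((x * y : HSg hF) : HP (frobHom hF) 1).c =
    (x : HP (frobHom hF) 1).c + (y : HP (frobHom hF) 1).c -
      (y : HP (frobHom hF) 1).w 0 * frobHom hF ((x : HP (frobHom hF) 1).w 0) := by
  show ((x : HP (frobHom hF) 1) * (y : HP (frobHom hF) 1)).c = _
  rw [HP.mul_c, hW_one]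

theorem HSg_one_w : ((1 : HSg hF) : HP (frobHom hF) 1).w 0 = 0 := rfl
theorem HSg_one_c : ((1 : HSg hF) : HP (frobHom hF) 1).c = 0 := rfl

/-- the data of `K ∩ TT` of order two -/
theorem exists_x0 (K : Subgroup (GG hF)) (hE : Nat.card ↥(K ⊓ TT hF) = 2) :
    ∃ x0 : HSg hF, (x0 : HP (frobHom hF) 1).w 0 = 0 ∧ (x0 : HP (frobHom hF) 1).c ≠ 0 ∧
      EG (barOK_frob hF).invol x0 ∈ K ∧
      ∀ x : HSg hF, (x : HP (frobHom hF) 1).w 0 = 0 → EG (barOK_frob hF).invol x ∈ K →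
        x = 1 ∨ x = x0 := by
  have hB := barOK_frob hF
  obtain ⟨t0, ht0, huniq⟩ := (Nat.card_eq_two_iff' (1 : ↥(K ⊓ TT hF))).1 hE
  obtain ⟨x0, hx0w, hx0⟩ := (mem_Te hB.invol).1 (Subgroup.mem_inf.1 t0.2).2
  have hx0w0 : (x0 : HP (frobHom hF) 1).w 0 = 0 := by rw [hx0w]; rfl
  refine ⟨x0, hx0w0, ?_, ?_, ?_⟩
  · intro hc
    apply ht0
    apply Subtype.ext
    rw [← hx0]
    have : x0 = 1 := HSg_ext hF hx0w0 hc
    rw [this, map_one]; rfl
  · rw [hx0]; exact (Subgroup.mem_inf.1 t0.2).1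
  · intro x hxw hxK
    have hxw' : (x : HP (frobHom hF) 1).w = 0 := by
      funext i
      have hi : i = 0 := Subsingleton.elim _ _
      rw [hi, hxw]; rfl
    have hmem : EG hB.invol x ∈ K ⊓ TT hF :=
      Subgroup.mem_inf.2 ⟨hxK, (mem_Te hB.invol).2 ⟨x, hxw', rfl⟩⟩
    by_cases h1 : (⟨EG hB.invol x, hmem⟩ : ↥(K ⊓ TT hF)) = 1
    · left
      have h2 : EG hB.invol x = 1 := congrArg Subtype.val h1
      apply EG_injective hB.invol
      rw [h2, map_one]
    · right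
      have h2 := huniq _ h1
      have h3 : EG hB.invol x = (t0 : GG hF) := congrArg Subtype.val h2
      apply EG_injective hB.invol
      rw [h3, hx0]

section wcoord

variable (K : Subgroup (GG hF)) (hK : K ≤ PP hF) (x0 : HSg hF)
  (hx0w : (x0 : HP (frobHom hF) 1).w 0 = 0) (hc0 : (x0 : HP (frobHom hF) 1).c ≠ 0)
  (hx0K : EG (barOK_frob hF).invol x0 ∈ K)
  (huniq : ∀ x : HSg hF, (x : HP (frobHom hF) 1).w 0 = 0 → EG (barOK_frob hF).invol x ∈ K →
        x = 1 ∨ x = x0)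

include hK hx0w hc0 hx0K huniq in
/-- the elements of `K` have `ca` of norm one -/
theorem norm_one_of_mem {k : GG hF} (hk : k ∈ K) : ca k * frobHom hF (ca k) = 1 := by
  have hB := barOK_frob hF
  obtain ⟨x', h1, hw, hc⟩ := PP_conj hF (hK hk) x0
  have hw' : (x' : HP (frobHom hF) 1).w 0 = 0 := by rw [hw, hx0w, mul_zero]
  have hmem : EG hB.invol x' ∈ K := by
    rw [← h1]; exact K.mul_mem (K.mul_mem hk hx0K) (K.inv_mem hk)
  rcases huniq x' hw' hmem with h | h
  · exfalso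
    rw [h, map_one] at h1
    have h2 : EG hB.invol x0 = 1 := by
      have : EG hB.invol x0 = k⁻¹ * (k * EG hB.invol x0 * k⁻¹) * k := by group
      rw [this, h1]; group
    have h3 : x0 = 1 := EG_injective hB.invol (by rw [h2, map_one])
    apply hc0
    rw [h3]; rfl
  · have h4 := hc hx0w
    rw [h] at h4
    have h5 : (ca k * frobHom hF (ca k) - 1) * (x0 : HP (frobHom hF) 1).c = 0 := by
      linear_combination -h4
    rcases mul_eq_zero.1 h5 with h6 | h6
    · linear_combination h6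
    · exact absurd h6 hc0

include hx0w hc0 hx0K huniq in
theorem w_norm (h2 : (2 : F) = 0) (x : HSg hF) (hxK : EG (barOK_frob hF).invol x ∈ K)
    (hx : (x : HP (frobHom hF) 1).w 0 ≠ 0) :
    (x : HP (frobHom hF) 1).w 0 * frobHom hF ((x : HP (frobHom hF) 1).w 0) =
      (x0 : HP (frobHom hF) 1).c := by
  have hB := barOK_frob hF
  have hyw : ((x * x : HSg hF) : HP (frobHom hF) 1).w 0 = 0 := by
    rw [HSg_mul_w]; linear_combination (x : HP (frobHom hF) 1).w 0 * h2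
  have hyK : EG hB.invol (x * x) ∈ K := by rw [map_mul]; exact K.mul_mem hxK hxK
  have hyc := HSg_mul_c hF x x
  rcases huniq _ hyw hyK with h | h
  · exfalso
    rw [h, HSg_one_c] at hyc
    have h3 : (x : HP (frobHom hF) 1).w 0 * frobHom hF ((x : HP (frobHom hF) 1).w 0) = 0 := by
      linear_combination hyc + (x : HP (frobHom hF) 1).c * h2
    rcases mul_eq_zero.1 h3 with h4 | h4
    · exact hx h4
    · exact hx ((map_eq_zero (frobHom hF)).1 h4)
  · rw [h] at hyc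
    linear_combination hyc + (x : HP (frobHom hF) 1).c * h2 - (x0 : HP (frobHom hF) 1).c * h2

include hx0w hc0 hx0K huniq in
theorem w_pair (h2 : (2 : F) = 0) (x y : HSg hF) (hxK : EG (barOK_frob hF).invol x ∈ K)
    (hyK : EG (barOK_frob hF).invol y ∈ K)
    (hx : (x : HP (frobHom hF) 1).w 0 ≠ 0) (hy : (y : HP (frobHom hF) 1).w 0 ≠ 0)
    (hxy : (x : HP (frobHom hF) 1).w 0 ≠ (y : HP (frobHom hF) 1).w 0) :
    (x : HP (frobHom hF) 1).w 0 * frobHom hF ((y : HP (frobHom hF) 1).w 0) +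
      (y : HP (frobHom hF) 1).w 0 * frobHom hF ((x : HP (frobHom hF) 1).w 0) =
      (x0 : HP (frobHom hF) 1).c := by
  have hB := barOK_frob hF
  have hzK : EG hB.invol (x * y) ∈ K := by rw [map_mul]; exact K.mul_mem hxK hyK
  have hzw : ((x * y : HSg hF) : HP (frobHom hF) 1).w 0 ≠ 0 := by
    rw [HSg_mul_w]
    intro h
    apply hxy
    linear_combination h - (y : HP (frobHom hF) 1).w 0 * h2
  have hz := w_norm hF K x0 hx0w hc0 hx0K huniq h2 (x * y) hzK hzw
  have ha := w_norm hF K x0 hx0w hc0 hx0K huniq h2 x hxK hx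
  have hb := w_norm hF K x0 hx0w hc0 hx0K huniq h2 y hyK hy
  rw [HSg_mul_w, map_add] at hz
  linear_combination hz - ha - hb - (x0 : HP (frobHom hF) 1).c * h2

include hx0w hc0 hx0K huniq in
theorem w_triple (h2 : (2 : F) = 0) (x y z : HSg hF) (hxK : EG (barOK_frob hF).invol x ∈ K)
    (hyK : EG (barOK_frob hF).invol y ∈ K) (hzK : EG (barOK_frob hF).invol z ∈ K)
    (hx : (x : HP (frobHom hF) 1).w 0 ≠ 0) (hy : (y : HP (frobHom hF) 1).w 0 ≠ 0)
    (hz : (z : HP (frobHom hF) 1).w 0 ≠ 0)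
    (hxy : (x : HP (frobHom hF) 1).w 0 ≠ (y : HP (frobHom hF) 1).w 0)
    (hxz : (x : HP (frobHom hF) 1).w 0 ≠ (z : HP (frobHom hF) 1).w 0)
    (hyz : (y : HP (frobHom hF) 1).w 0 ≠ (z : HP (frobHom hF) 1).w 0) :
    (z : HP (frobHom hF) 1).w 0 = (x : HP (frobHom hF) 1).w 0 + (y : HP (frobHom hF) 1).w 0 := by
  have hB := barOK_frob hF
  by_contra hne
  have huK : EG hB.invol (x * y) ∈ K := by rw [map_mul]; exact K.mul_mem hxK hyK
  have huw : ((x * y : HSg hF) : HP (frobHom hF) 1).w 0 ≠ 0 := by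
    rw [HSg_mul_w]
    intro h
    apply hxy
    linear_combination h - (y : HP (frobHom hF) 1).w 0 * h2
  have huz : ((x * y : HSg hF) : HP (frobHom hF) 1).w 0 ≠ (z : HP (frobHom hF) 1).w 0 := by
    rw [HSg_mul_w]; exact fun h => hne h.symm
  have h1 := w_pair hF K x0 hx0w hc0 hx0K huniq h2 x z hxK hzK hx hz hxz
  have h3 := w_pair hF K x0 hx0w hc0 hx0K huniq h2 y z hyK hzK hy hz hyz
  have h4 := w_pair hF K x0 hx0w hc0 hx0K huniq h2 (x * y) z huK hzK huw hz huz
  rw [HSg_mul_w, map_add] at h4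
  apply hc0
  linear_combination h4 - h1 - h3

include hK in
theorem w_smul {k : GG hF} (hk : k ∈ K) (x : HSg hF) (hxK : EG (barOK_frob hF).invol x ∈ K) :
    ∃ x' : HSg hF, EG (barOK_frob hF).invol x' ∈ K ∧ (x' : HP (frobHom hF) 1).w 0 =
      (frobHom hF (ca k) * (frobHom hF (ca k) / ca k)) * (x : HP (frobHom hF) 1).w 0 := by
  obtain ⟨x', h1, hw, -⟩ := PP_conj hF (hK hk) x
  refine ⟨x', ?_, hw⟩
  rw [← h1]; exact K.mul_mem (K.mul_mem hk hxK) (K.inv_mem hk)

end wcoord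

end

end Cfsg.Agent.Lib.Helper17.U3Leaf
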