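import Mathlib
import Cfsg.Agent.Lib.Helper17.U3BG2b
import Cfsg.Agent.Lib.Helper20.U3POW

/-!
S2148 market "U3" (helper17): leaf BG2 `borel_gamma2`.
-/

set_option autoImplicit false
set_option linter.unusedSectionVars false
set_option linter.unusedVariables false

namespace Cfsg.Agent.Lib.Helper17.U3Leaf

open Cfsg.Agent.Lib.Helper12.U3 Cfsg.Agent.Lib.Helper18.PSUMod Cfsg.Agent.Lib.Helper5.HermBridge

/-- a finite group in which any three distinct nontrivial elements `a, b, c` satisfy `c = a * b`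
has at most four elements -/
theorem card_le_four_of_triple {A : Type*} [Group A] [Finite A]
    (h : ∀ a b c : A, a ≠ 1 → b ≠ 1 → c ≠ 1 → a ≠ b → a ≠ c → b ≠ c → c = a * b) :
    Nat.card A ≤ 4 := by
  classical
  by_contra hlt
  push Not at hlt
  have := Fintype.ofFinite A
  rw [Nat.card_eq_fintype_card] at hlt
  obtain ⟨a, -, ha⟩ := Finset.exists_mem_notMem_of_card_lt_card (s := ({1} : Finset A))
    (t := Finset.univ) (by rw [Finset.card_singleton, Finset.card_univ]; omega)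
  obtain ⟨b, -, hb⟩ := Finset.exists_mem_notMem_of_card_lt_card (s := ({1, a} : Finset A))
    (t := Finset.univ) (lt_of_le_of_lt Finset.card_le_two (by rw [Finset.card_univ]; omega))
  obtain ⟨c, -, hc⟩ := Finset.exists_mem_notMem_of_card_lt_card
    (s := ({1, a, b, a * b} : Finset A))
    (t := Finset.univ) (lt_of_le_of_lt Finset.card_le_four (by rw [Finset.card_univ]; omega))
  simp only [Finset.mem_insert, Finset.mem_singleton, not_or] at ha hb hc
  exact hc.2.2.2 (h a b c ha hb.1 hc.1 (Ne.symm hb.2) (Ne.symm hc.2.1) (Ne.symm hc.2.2.1))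

noncomputable section

variable {F : Type*} [Field F] [Fintype F] {q : ℕ} (hF : Fintype.card F = q ^ 2)

/-- the `w`-coordinate of an element of `QQ` -/
def wq (g : GG hF) : F := (av g vf).2.1 0

theorem wq_EG (x : HSg hF) : wq hF (EG (barOK_frob hF).invol x) = (x : HP (frobHom hF) 1).w 0 := by
  rw [wq, av_EG_vf]

theorem wq_one : wq hF (1 : GG hF) = 0 := by
  rw [wq, av_one]; rfl

theorem wq_mul {g g' : GG hF} (hg : g ∈ QQ hF) (hg' : g' ∈ QQ hF) :
    wq hF (g * g') = wq hF g + wq hF g' := by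
  obtain ⟨x, rfl⟩ := hg
  obtain ⟨x', rfl⟩ := hg'
  rw [← map_mul, wq_EG, wq_EG, wq_EG, HSg_mul_w]

section main

variable (K : Subgroup (GG hF)) (hK : K ≤ PP hF)

/-- `ca` on `K` -/
def psiK : ↥K →* Fˣ := (Cfsg.Agent.Lib.Helper20.U3Leaf.caHom hF).comp (Subgroup.inclusion hK)

theorem psiK_val (k : ↥K) : ((psiK hF K hK k : Fˣ) : F) = ca (k : GG hF) := rfl

theorem mem_QQ_of_mem_ker (k : ↥K) (hk : k ∈ (psiK hF K hK).ker) : (k : GG hF) ∈ QQ hF := by
  have h1 : Subgroup.inclusion hK k ∈ (Cfsg.Agent.Lib.Helper20.U3Leaf.caHom hF).ker := hk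
  rw [Cfsg.Agent.Lib.Helper20.U3Leaf.caHom_ker, Subgroup.mem_subgroupOf] at h1
  exact h1

theorem mem_ker_of_mem_QQ (k : ↥K) (hk : (k : GG hF) ∈ QQ hF) : k ∈ (psiK hF K hK).ker := by
  show Subgroup.inclusion hK k ∈ (Cfsg.Agent.Lib.Helper20.U3Leaf.caHom hF).ker
  rw [Cfsg.Agent.Lib.Helper20.U3Leaf.caHom_ker, Subgroup.mem_subgroupOf]
  exact hk

/-- the `w`-coordinate on `K ∩ QQ` -/
def thetaK : ↥(psiK hF K hK).ker →* Multiplicative F where
  toFun k := Multiplicative.ofAdd (wq hF ((k : ↥K) : GG hF))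
  map_one' := by
    show Multiplicative.ofAdd (wq hF (1 : GG hF)) = 1
    rw [wq_one]; rfl
  map_mul' k k' := by
    show Multiplicative.ofAdd (wq hF (((k : ↥K) : GG hF) * ((k' : ↥K) : GG hF))) = _
    rw [wq_mul hF (mem_QQ_of_mem_ker hF K hK _ k.2) (mem_QQ_of_mem_ker hF K hK _ k'.2)]
    rfl

theorem thetaK_apply (k : ↥(psiK hF K hK).ker) :
    Multiplicative.toAdd (thetaK hF K hK k) = wq hF ((k : ↥K) : GG hF) := rfl

theorem card_K_eq : Nat.card K =
    Nat.card (thetaK hF K hK).ker * Nat.card (thetaK hF K hK).range *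
      Nat.card (psiK hF K hK).range := by
  rw [← Subgroup.index_ker (thetaK hF K hK), Subgroup.card_mul_index,
    ← Subgroup.index_ker (psiK hF K hK), Subgroup.card_mul_index]

theorem card_thetaK_ker : Nat.card (thetaK hF K hK).ker = Nat.card ↥(K ⊓ TT hF) := by
  have hB := barOK_frob hF
  have hmem : ∀ k : ↥(thetaK hF K hK).ker, (((k : ↥(psiK hF K hK).ker) : ↥K) : GG hF) ∈ K ⊓ TT hF := by
    intro k
    refine Subgroup.mem_inf.2 ⟨(k : ↥(psiK hF K hK).ker).1.2, ?_⟩
    obtain ⟨x, hx⟩ := mem_QQ_of_mem_ker hF K hK _ (k : ↥(psiK hF K hK).ker).2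
    have h1 : wq hF (((k : ↥(psiK hF K hK).ker) : ↥K) : GG hF) = 0 := by
      have := k.2
      rw [MonoidHom.mem_ker] at this
      exact congrArg Multiplicative.toAdd this
    rw [← hx, wq_EG] at h1
    refine (mem_Te hB.invol).2 ⟨x, ?_, hx⟩
    funext i
    have hi : i = 0 := Subsingleton.elim _ _
    rw [hi, h1]; rfl
  apply Nat.card_congr
  refine Equiv.ofBijective (fun k => ⟨_, hmem k⟩) ⟨?_, ?_⟩
  · intro k k' h
    have h1 : (((k : ↥(psiK hF K hK).ker) : ↥K) : GG hF) =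
        (((k' : ↥(psiK hF K hK).ker) : ↥K) : GG hF) :=
      congrArg (fun t : ↥(K ⊓ TT hF) => (t : GG hF)) h
    exact Subtype.ext (Subtype.ext (Subtype.ext h1))
  · intro t
    have htK : (t : GG hF) ∈ K := (Subgroup.mem_inf.1 t.2).1
    have htT : (t : GG hF) ∈ TT hF := (Subgroup.mem_inf.1 t.2).2
    have htQ : (t : GG hF) ∈ QQ hF := Te_le_Qe hB.invol htT
    have hker : (⟨(t : GG hF), htK⟩ : ↥K) ∈ (psiK hF K hK).ker := mem_ker_of_mem_QQ hF K hK _ htQ
    have hker2 : (⟨⟨(t : GG hF), htK⟩, hker⟩ : ↥(psiK hF K hK).ker) ∈ (thetaK hF K hK).ker := by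
      rw [MonoidHom.mem_ker]
      obtain ⟨x, hxw, hx⟩ := (mem_Te hB.invol).1 htT
      show Multiplicative.ofAdd (wq hF (t : GG hF)) = 1
      rw [← hx, wq_EG, hxw]; rfl
    exact ⟨⟨_, hker2⟩, Subtype.ext rfl⟩

theorem exists_coord (k : ↥(psiK hF K hK).ker) : ∃ x : HSg hF,
    EG (barOK_frob hF).invol x ∈ K ∧
      (x : HP (frobHom hF) 1).w 0 = Multiplicative.toAdd (thetaK hF K hK k) := by
  obtain ⟨x, hx⟩ := mem_QQ_of_mem_ker hF K hK _ k.2
  refine ⟨x, ?_, ?_⟩
  · rw [hx]; exact (k : ↥K).2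
  · rw [thetaK_apply, ← hx, wq_EG]

variable (x0 : HSg hF)
  (hx0w : (x0 : HP (frobHom hF) 1).w 0 = 0) (hc0 : (x0 : HP (frobHom hF) 1).c ≠ 0)
  (hx0K : EG (barOK_frob hF).invol x0 ∈ K)
  (huniq : ∀ x : HSg hF, (x : HP (frobHom hF) 1).w 0 = 0 → EG (barOK_frob hF).invol x ∈ K →
        x = 1 ∨ x = x0)

include hx0w hc0 hx0K huniq in
theorem card_thetaK_range_le (h2 : (2 : F) = 0) : Nat.card (thetaK hF K hK).range ≤ 4 := by
  apply card_le_four_of_triple
  rintro ⟨_, ka, rfl⟩ ⟨_, kb, rfl⟩ ⟨_, kc, rfl⟩ ha hb hc hab hac hbc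
  obtain ⟨xa, hxaK, hxa⟩ := exists_coord hF K hK ka
  obtain ⟨xb, hxbK, hxb⟩ := exists_coord hF K hK kb
  obtain ⟨xc, hxcK, hxc⟩ := exists_coord hF K hK kc
  have hne1 : ∀ k : ↥(psiK hF K hK).ker,
      (⟨thetaK hF K hK k, ⟨k, rfl⟩⟩ : ↥(thetaK hF K hK).range) ≠ 1 →
      Multiplicative.toAdd (thetaK hF K hK k) ≠ 0 := by
    intro k hk h0
    apply hk
    apply Subtype.ext
    show thetaK hF K hK k = 1
    exact Multiplicative.toAdd.injective h0
  have hne2 : ∀ k k' : ↥(psiK hF K hK).ker,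
      (⟨thetaK hF K hK k, ⟨k, rfl⟩⟩ : ↥(thetaK hF K hK).range) ≠ ⟨thetaK hF K hK k', ⟨k', rfl⟩⟩ →
      Multiplicative.toAdd (thetaK hF K hK k) ≠ Multiplicative.toAdd (thetaK hF K hK k') := by
    intro k k' hk h0
    apply hk
    apply Subtype.ext
    show thetaK hF K hK k = thetaK hF K hK k'
    exact Multiplicative.toAdd.injective h0
  have key := w_triple hF K x0 hx0w hc0 hx0K huniq h2 xa xb xc hxaK hxbK hxcK
    (by rw [hxa]; exact hne1 ka ha) (by rw [hxb]; exact hne1 kb hb) (by rw [hxc]; exact hne1 kc hc)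
    (by rw [hxa, hxb]; exact hne2 ka kb hab) (by rw [hxa, hxc]; exact hne2 ka kc hac)
    (by rw [hxb, hxc]; exact hne2 kb kc hbc)
  rw [hxa, hxb, hxc] at key
  apply Subtype.ext
  show thetaK hF K hK kc = thetaK hF K hK ka * thetaK hF K hK kb
  apply Multiplicative.toAdd.injective
  rw [key]; rfl

include hx0w hc0 hx0K huniq in
theorem card_psiK_range_dvd : Nat.card (psiK hF K hK).range ∣ q + 1 := by
  rw [← IsCyclic.exponent_eq_card]
  apply Monoid.exponent_dvd_of_forall_pow_eq_one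
  rintro ⟨_, k, rfl⟩
  apply Subtype.ext
  apply Units.ext
  have h1 := norm_one_of_mem hF K hK x0 hx0w hc0 hx0K huniq k.2
  show ((psiK hF K hK k : Fˣ) ^ (q + 1) : Fˣ).val = 1
  rw [Units.val_pow_eq_pow_val, psiK_val, pow_succ']
  exact h1

include hx0w hc0 hx0K huniq in
theorem q4_contra (hq4 : q = 4) (h2 : (2 : F) = 0) (ht : 1 < Nat.card (psiK hF K hK).range)
    (hr : 1 < Nat.card (thetaK hF K hK).range) : False := by
  have hB := barOK_frob hF
  have : Nontrivial ↥(psiK hF K hK).range := Finite.one_lt_card_iff_nontrivial.1 ht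
  obtain ⟨⟨_, k, rfl⟩, hu⟩ := exists_ne (1 : ↥(psiK hF K hK).range)
  have : Nontrivial ↥(thetaK hF K hK).range := Finite.one_lt_card_iff_nontrivial.1 hr
  obtain ⟨⟨_, kk, rfl⟩, hv⟩ := exists_ne (1 : ↥(thetaK hF K hK).range)
  obtain ⟨x, hxK, hx⟩ := exists_coord hF K hK kk
  have ha : (x : HP (frobHom hF) 1).w 0 ≠ 0 := by
    rw [hx]
    intro h0
    apply hv
    apply Subtype.ext
    show thetaK hF K hK kk = 1
    exact Multiplicative.toAdd.injective h0
  have hl1 : ca (k : GG hF) ≠ 1 := by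
    intro h
    apply hu
    apply Subtype.ext
    apply Units.ext
    show ((psiK hF K hK k : Fˣ) : F) = 1
    rw [psiK_val, h]
  have hN := norm_one_of_mem hF K hK x0 hx0w hc0 hx0K huniq k.2
  have hbar : frobHom hF (ca (k : GG hF)) = ca (k : GG hF) ^ 4 := by
    have hz : ∀ z : F, z ^ q = z ^ 4 := fun z => by rw [hq4]
    exact hz _
  set l := ca (k : GG hF) with hl
  have hl0 : l ≠ 0 := ca_ne_zero (hK k.2)
  rw [hbar] at hN
  have h5 : l ^ 5 = 1 := by rw [pow_succ']; exact hN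
  set mu := frobHom hF l * (frobHom hF l / l) with hmu
  have hmu2 : mu = l ^ 2 := by
    rw [hmu, hbar]
    field_simp
    exact h5
  have hmu0 : mu ≠ 0 := by rw [hmu2]; exact pow_ne_zero 2 hl0
  have hmu1 : mu ≠ 1 := by
    rw [hmu2]
    intro h
    apply hl1
    have : l ^ 5 = l := by
      calc l ^ 5 = (l ^ 2) ^ 2 * l := by ring
        _ = l := by rw [h]; ring
    rw [← this, h5]
  have hmu22 : mu * mu ≠ 1 := by
    rw [hmu2]
    intro h
    apply hl1
    have : l ^ 5 = l := by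
      calc l ^ 5 = (l ^ 2 * l ^ 2) * l := by ring
        _ = l := by rw [h]; ring
    rw [← this, h5]
  have hmu3 : mu * mu * mu ≠ 1 := by
    rw [hmu2]
    intro h
    apply hl1
    have : l ^ 2 * l ^ 2 * l ^ 2 = l ^ 5 * l := by ring
    rw [this, h5, one_mul] at h
    exact h
  obtain ⟨x1, hx1K, hx1⟩ := w_smul hF K hK k.2 x hxK
  obtain ⟨x2, hx2K, hx2⟩ := w_smul hF K hK k.2 x1 hx1K
  obtain ⟨x3, hx3K, hx3⟩ := w_smul hF K hK k.2 x2 hx2K
  rw [← hl, ← hmu] at hx1 hx2 hx3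
  set a := (x : HP (frobHom hF) 1).w 0 with hadef
  rw [hx1] at hx2
  rw [hx2] at hx3
  have e1 := w_triple hF K x0 hx0w hc0 hx0K huniq h2 x x1 x2 hxK hx1K hx2K ha
    (by rw [hx1]; exact mul_ne_zero hmu0 ha)
    (by rw [hx2]; exact mul_ne_zero hmu0 (mul_ne_zero hmu0 ha))
    (by
      rw [hx1]; intro h
      exact hmu1 (mul_right_cancel₀ ha (by linear_combination -h)))
    (by
      rw [hx2]; intro h
      exact hmu22 (mul_right_cancel₀ ha (by linear_combination -h)))
    (by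
      rw [hx1, hx2]; intro h
      exact hmu1 (mul_right_cancel₀ (mul_ne_zero hmu0 ha) (by linear_combination -h)))
  have e2 := w_triple hF K x0 hx0w hc0 hx0K huniq h2 x x1 x3 hxK hx1K hx3K ha
    (by rw [hx1]; exact mul_ne_zero hmu0 ha)
    (by rw [hx3]; exact mul_ne_zero hmu0 (mul_ne_zero hmu0 (mul_ne_zero hmu0 ha)))
    (by
      rw [hx1]; intro h
      exact hmu1 (mul_right_cancel₀ ha (by linear_combination -h)))
    (by
      rw [hx3]; intro h
      exact hmu3 (mul_right_cancel₀ ha (by linear_combination -h)))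
    (by
      rw [hx1, hx3]; intro h
      exact hmu22 (mul_right_cancel₀ (mul_ne_zero hmu0 ha) (by linear_combination -h)))
  rw [hx1, hx2] at e1
  rw [hx1, hx3] at e2
  have e3 : (mu - 1) * (mu * (mu * a)) = 0 := by linear_combination e2 - e1
  rcases mul_eq_zero.1 e3 with h | h
  · exact hmu1 (by linear_combination h)
  · exact mul_ne_zero hmu0 (mul_ne_zero hmu0 ha) h

end main

/-- B1 -/
theorem borel_gamma2 (hq : 3 ≤ q) (h2 : (2 : F) = 0) (K : Subgroup (GG hF)) (hK : K ≤ PP hF)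
    (hE : Nat.card ↥(K ⊓ TT hF) = 2) (hcard : q ^ 2 - 1 ≤ Nat.card K) :
    q = 8 ∧ Nat.card K = 72 := by
  obtain ⟨x0, hx0w, hc0, hx0K, huniq⟩ := exists_x0 hF K hE
  have hcardK := card_K_eq hF K hK
  rw [card_thetaK_ker, hE] at hcardK
  have hr := card_thetaK_range_le hF K hK x0 hx0w hc0 hx0K huniq h2
  have ht := card_psiK_range_dvd hF K hK x0 hx0w hc0 hx0K huniq
  have hq4 := q4_contra hF K hK x0 hx0w hc0 hx0K huniq
  have hr0 : 0 < Nat.card (thetaK hF K hK).range := Nat.card_pos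
  have ht0 : 0 < Nat.card (psiK hF K hK).range := Nat.card_pos
  generalize Nat.card (thetaK hF K hK).range = r at hcardK hr hr0 hq4
  generalize Nat.card (psiK hF K hK).range = t at hcardK ht ht0 hq4
  have : Fact (Nat.Prime 2) := ⟨Nat.prime_two⟩
  have : CharP F 2 := CharTwo.of_one_ne_zero_of_two_eq_zero one_ne_zero h2
  obtain ⟨a, ha0, hqa⟩ := Cfsg.Agent.Lib.Helper20.U3Leaf.exists_pow_eq hF (p := 2)
  have htle : t ≤ q + 1 := Nat.le_of_dvd (by omega) ht
  have hKle : Nat.card K ≤ 8 * (q + 1) := by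
    rw [hcardK]
    calc 2 * r * t ≤ 2 * 4 * (q + 1) := Nat.mul_le_mul (Nat.mul_le_mul_left 2 hr) htle
      _ = 8 * (q + 1) := by ring
  have hq9 : q ≤ 9 := by
    by_contra h
    push Not at h
    have h10 : 10 * q ≤ q ^ 2 := by nlinarith
    omega
  have ha3 : a ≤ 3 := by
    by_contra h
    push Not at h
    have h16 : 2 ^ 4 ≤ 2 ^ a := Nat.pow_le_pow_right (by norm_num) h
    omega
  have ha2 : 2 ≤ a := by
    by_contra h
    push Not at h
    have ha1 : a = 1 := by omega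
    rw [ha1] at hqa
    omega
  have hcases : q = 4 ∨ q = 8 := by
    interval_cases a
    · left; rw [hqa]; norm_num
    · right; rw [hqa]; norm_num
  rcases hcases with h4 | h8
  · exfalso
    have ht5 : t ∣ 5 := by
      have : q + 1 = 5 := by omega
      rw [this] at ht; exact ht
    have hc15 : 15 ≤ Nat.card K := by
      have : q ^ 2 - 1 = 15 := by rw [h4]; norm_num
      omega
    have htle5 : t ≤ 5 := Nat.le_of_dvd (by norm_num) ht5
    have h1t : 1 < t := by
      interval_cases t <;> omega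
    have h1r : 1 < r := by
      interval_cases t <;> omega
    exact hq4 h4 h2 h1t h1r
  · refine ⟨h8, ?_⟩
    have ht9 : t ∣ 9 := by
      have : q + 1 = 9 := by omega
      rw [this] at ht; exact ht
    have hc63 : 63 ≤ Nat.card K := by
      have : q ^ 2 - 1 = 63 := by rw [h8]; norm_num
      omega
    have htle9 : t ≤ 9 := Nat.le_of_dvd (by norm_num) ht9
    interval_cases t <;> omega

end

end Cfsg.Agent.Lib.Helper17.U3Leaf
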