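import Mathlib

/-!
Abstract Sylow/transfer helpers for the `kill3_abs` / `kill8_abs` leaves of S2148.
-/

namespace Cfsg.Agent.Lib.Helper17.U3Leaf

open Subgroup

/-- A Sylow `p`-subgroup of a group of order `p * m`, `p ∤ m`, has order `p`. -/
theorem sylow_card_prime {K : Type*} [Group K] [Finite K] {p m : ℕ} [hp : Fact p.Prime]
    (hK : Nat.card K = p * m) (hpm : ¬ p ∣ m) (P : Sylow p K) : Nat.card P = p := by
  have hm0 : m ≠ 0 := by rintro rfl; exact hpm (dvd_zero p)
  rw [P.card_eq_multiplicity, hK, Nat.factorization_mul hp.out.ne_zero hm0]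
  simp [hp.out.factorization_self, Nat.factorization_eq_zero_of_not_dvd hpm]

/-- Transfer of the "no involution centralizes a subgroup of order `p`" hypothesis from `G`
to a subgroup `H`. -/
theorem hC_transfer {G : Type*} [Group G] (H : Subgroup G) (p : ℕ)
    (hC : ∀ R : Subgroup G, Nat.card R = p →
      ∀ g ∈ Subgroup.centralizer (R : Set G), g * g = 1 → g = 1) :
    ∀ P : Subgroup H, Nat.card P = p →
      ∀ x ∈ Subgroup.centralizer (P : Set H), x * x = 1 → x = 1 := by
  intro P hP x hx hxx
  have hcard : Nat.card (P.map H.subtype) = p := by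
    rw [Subgroup.card_map_of_injective H.subtype_injective]; exact hP
  have hmem : (x : G) ∈ Subgroup.centralizer ((P.map H.subtype : Subgroup G) : Set G) := by
    rw [Subgroup.mem_centralizer_iff]
    rintro r ⟨y, hy, rfl⟩
    have := (Subgroup.mem_centralizer_iff.mp hx) y hy
    exact congrArg Subtype.val this
  have h1 : (x : G) = 1 := hC _ hcard _ hmem (by exact_mod_cast congrArg Subtype.val hxx)
  exact Subtype.ext h1

/-- `|N_K(P)| * n_p = |K|`. -/
theorem card_normalizer_mul_card_sylow {K : Type*} [Group K] [Finite K] {p : ℕ} [Fact p.Prime]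
    (P : Sylow p K) :
    Nat.card ↥(normalizer ((P : Subgroup K) : Set K)) * Nat.card (Sylow p K) = Nat.card K := by
  rw [P.card_eq_index_normalizer]
  exact Subgroup.card_mul_index (normalizer ((P : Subgroup K) : Set K))

/-- N/C: `|N_K(P)| = |C_K(P)| * r` with `r ∣ |Aut P|`. -/
theorem card_normalizer_eq_card_centralizer_mul {K : Type*} [Group K] [Finite K]
    (P : Subgroup K) (hP : IsCyclic P) :
    ∃ r : ℕ, r ∣ Nat.totient (Nat.card P) ∧
      Nat.card ↥(centralizer (P : Set K)) * r = Nat.card ↥(normalizer (P : Set K)) := by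
  have key := card_dvd_of_injective _ (QuotientGroup.kerLift_injective P.normalizerMonoidHom)
  rw [normalizerMonoidHom_ker, ← index, ← relIndex, hP.card_mulAut] at key
  refine ⟨_, key, ?_⟩
  have hle : centralizer (P : Set K) ≤ normalizer (P : Set K) := by
    intro g hg
    rw [mem_normalizer_iff]
    intro h
    rw [mem_centralizer_iff] at hg
    constructor
    · intro hh
      have := hg h hh
      rw [← this, mul_inv_cancel_right]; exact hh
    · intro hh
      have h2 := hg _ hh
      -- g * h * g⁻¹ * g = g * (g * h * g⁻¹)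
      have : h = g * h * g⁻¹ := by
        have : g * h = g * (g * h * g⁻¹) := by rw [← h2]; group
        exact mul_left_cancel this
      rw [this]; exact hh
  have h1 := (centralizer (P : Set K)).subgroupOf (normalizer (P : Set K)) |>.card_mul_index
  rw [← relIndex] at h1
  rw [← h1, Nat.card_congr (Subgroup.subgroupOfEquivOfLe hle).toEquiv]

end Cfsg.Agent.Lib.Helper17.U3Leaf
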