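import Mathlib
import Cfsg.Agent.Lib.Helper17.U3KILLAux

/-!
Leaf `kill8_abs` of S2148 (market U3): no subgroup of order `36936 = 19 * 1944` in a group
where subgroups of order `19` have no centralizing involution and products of two involutions
have order dividing `504`.
-/

namespace Cfsg.Agent.Lib.Helper17.U3Leaf

open Subgroup

theorem exists_zpow_of_prime_card {K : Type*} [Group K] (P : Subgroup K) {p : ℕ}
    [Fact p.Prime] (hP : Nat.card P = p) {a b : K} (ha : a ∈ P) (ha1 : a ≠ 1) (hb : b ∈ P) :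
    ∃ k : ℤ, a ^ k = b := by
  have h := mem_zpowers_of_prime_card (G := P) hP (g := ⟨a, ha⟩) (g' := ⟨b, hb⟩)
    (by intro h; exact ha1 (congrArg Subtype.val h))
  obtain ⟨k, hk⟩ := Subgroup.mem_zpowers_iff.mp h
  exact ⟨k, by simpa using congrArg Subtype.val hk⟩

/-- An involution normalizing a subgroup of prime order either centralizes it or inverts a
nontrivial element `g` of it (so that `t * g` is again an involution). -/
theorem invol_normalizer_prime {K : Type*} [Group K] [Finite K] (P : Subgroup K) {p : ℕ}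
    [hp : Fact p.Prime] (hP : Nat.card P = p) {t : K} (ht : t ∈ normalizer (P : Set K))
    (htt : t * t = 1) :
    t ∈ centralizer (P : Set K) ∨ ∃ g ∈ P, g ≠ 1 ∧ (t * g) * (t * g) = 1 := by
  have htinv : t⁻¹ = t := inv_eq_of_mul_eq_one_right htt
  obtain ⟨g, hg, hg1⟩ : ∃ g ∈ P, g ≠ 1 := by
    have hne : P ≠ ⊥ := P.one_lt_card_iff_ne_bot.mp (by rw [hP]; exact hp.out.one_lt)
    exact P.bot_or_exists_ne_one.resolve_left hne
  have hh : t * g * t⁻¹ ∈ P := (mem_normalizer_iff.mp ht g).mp hg
  obtain ⟨k, hk⟩ := exists_zpow_of_prime_card P hP hg hg1 hh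
  have hcomm : g * (t * g * t⁻¹) = (t * g * t⁻¹) * g := by
    rw [← hk]; exact (Commute.refl g).zpow_right k
  rw [htinv] at hh hcomm
  by_cases hc : g * (t * g * t) = 1
  · right
    refine ⟨g, hg, hg1, ?_⟩
    have h1 : t * g * t = g⁻¹ := eq_inv_of_mul_eq_one_right hc
    calc t * g * (t * g) = (t * g * t) * g := by simp only [mul_assoc]
      _ = 1 := by rw [h1, inv_mul_cancel]
  · left
    have hcP : g * (t * g * t) ∈ P := P.mul_mem hg hh
    have hct : Commute (g * (t * g * t)) t := by
      show g * (t * g * t) * t = t * (g * (t * g * t))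
      have e1 : g * (t * g * t) * t = g * (t * g) := by
        calc g * (t * g * t) * t = g * (t * g) * (t * t) := by simp only [mul_assoc]
          _ = g * (t * g) := by rw [htt, mul_one]
      have e2 : t * (g * (t * g * t)) = g * (t * g) := by
        rw [hcomm]
        calc t * (t * g * t * g) = (t * t) * g * t * g := by simp only [mul_assoc]
          _ = g * (t * g) := by rw [htt, one_mul]; simp only [mul_assoc]
      rw [e1, e2]
    rw [mem_centralizer_iff]
    intro y hy
    obtain ⟨j, hj⟩ := exists_zpow_of_prime_card P hP hcP hc hy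
    rw [← hj]
    exact hct.zpow_left j

theorem kill8_core {K : Type*} [Group K] [Finite K] (hK : Nat.card K = 36936)
    (hC : ∀ P : Subgroup K, Nat.card P = 19 →
      ∀ x ∈ Subgroup.centralizer (P : Set K), x * x = 1 → x = 1)
    (hI : ∀ s t : K, s * s = 1 → t * t = 1 → (s * t) ^ 504 = 1) : False := by
  have : Fact (Nat.Prime 19) := ⟨by norm_num⟩
  obtain ⟨P⟩ : Nonempty (Sylow 19 K) := inferInstance
  have hP : Nat.card (P : Subgroup K) = 19 :=
    sylow_card_prime (m := 1944) (by rw [hK]) (by norm_num) P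
  have hn1 : Nat.card (Sylow 19 K) ≡ 1 [MOD 19] := card_sylow_modEq_one 19 K
  have hn3 : Nat.card (Sylow 19 K) ∣ (P : Subgroup K).index := P.card_dvd_index
  have hidx : (P : Subgroup K).index = 1944 := by
    have := (P : Subgroup K).card_mul_index
    rw [hP, hK] at this; omega
  have hNn := card_normalizer_mul_card_sylow P
  rw [hK] at hNn
  rw [hidx] at hn3
  have h2 : 2 ∣ Nat.card ↥(normalizer ((P : Subgroup K) : Set K)) := by
    generalize Nat.card (Sylow 19 K) = n at hn1 hn3 hNn
    generalize Nat.card ↥(normalizer ((P : Subgroup K) : Set K)) = N at hNn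
    by_contra hodd
    have hcop : Nat.Coprime 8 N := by
      have h2N : Nat.Coprime 2 N := (Nat.Prime.coprime_iff_not_dvd Nat.prime_two).mpr hodd
      exact Nat.Coprime.pow_left 3 h2N
    have h8 : 8 ∣ n := by
      have h8' : 8 ∣ N * n := by rw [hNn]; norm_num
      exact hcop.dvd_of_dvd_mul_left h8'
    obtain ⟨k, rfl⟩ := h8
    have hk : k ∣ 3 ^ 5 := by
      have h1 : 8 * k ∣ 8 * 243 := by norm_num; exact hn3
      have h2 := Nat.dvd_of_mul_dvd_mul_left (by norm_num) h1
      norm_num; exact h2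
    obtain ⟨j, hj, rfl⟩ := (Nat.dvd_prime_pow Nat.prime_three).mp hk
    unfold Nat.ModEq at hn1
    interval_cases j <;> simp at hn1
  obtain ⟨t, ht⟩ := exists_prime_orderOf_dvd_card' 2 h2
  have ht1 : t ≠ 1 := by
    intro h; rw [h, orderOf_one] at ht; omega
  have htt : t * t = 1 := by
    rw [← pow_two, ← ht]; exact pow_orderOf_eq_one t
  have htt' : (t : K) * (t : K) = 1 := by exact_mod_cast congrArg Subtype.val htt
  have ht1' : (t : K) ≠ 1 := fun h => ht1 (Subtype.ext h)
  rcases invol_normalizer_prime (P : Subgroup K) hP t.2 htt' with hcen | ⟨g, hg, hg1, hs⟩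
  · exact ht1' (hC (P : Subgroup K) hP (t : K) hcen htt')
  · have h504 := hI (t : K) ((t : K) * g) htt' hs
    rw [← mul_assoc, htt', one_mul] at h504
    have hd1 : orderOf g ∣ 504 := orderOf_dvd_of_pow_eq_one h504
    have hd2 : orderOf g ∣ 19 := by
      have := Subgroup.orderOf_dvd_natCard (P : Subgroup K) hg
      rwa [hP] at this
    have hd3 : orderOf g ∣ Nat.gcd 504 19 := Nat.dvd_gcd hd1 hd2
    have hd4 : orderOf g = 1 := by
      have : Nat.gcd 504 19 = 1 := by norm_num
      rw [this] at hd3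
      exact Nat.dvd_one.mp hd3
    exact hg1 (orderOf_eq_one_iff.mp hd4)

theorem hI_transfer {G : Type*} [Group G] (H : Subgroup G) (m : ℕ)
    (hI : ∀ s t : G, s * s = 1 → t * t = 1 → (s * t) ^ m = 1) :
    ∀ s t : H, s * s = 1 → t * t = 1 → (s * t) ^ m = 1 := by
  intro s t hs ht
  have := hI (s : G) (t : G) (by exact_mod_cast congrArg Subtype.val hs)
    (by exact_mod_cast congrArg Subtype.val ht)
  exact Subtype.ext (by simpa using this)

/-- A7 KILL8-abs (`q = 8`, `|H| = 513 * 72`). -/
theorem kill8_abs {G : Type*} [Group G] [Finite G] (H : Subgroup G) (hH : Nat.card H = 36936)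
    (hN : ∀ R : Subgroup G, Nat.card R = 19 →
      Nat.card ↥(Subgroup.normalizer (R : Set G)) ≤ 27702)
    (hC : ∀ R : Subgroup G, Nat.card R = 19 →
      ∀ g ∈ Subgroup.centralizer (R : Set G), g * g = 1 → g = 1)
    (hI : ∀ s t : G, s * s = 1 → t * t = 1 → (s * t) ^ 504 = 1) : False :=
  kill8_core hH (hC_transfer H 19 hC) (hI_transfer H 504 hI)

end Cfsg.Agent.Lib.Helper17.U3Leaf
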