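import Mathlib
import Cfsg.Prelude.Def_GeometricClasses
import Cfsg.Agent.Lib.Helper18.AschA89Defs

/-!
S5663 (Aschbacher for `GU_n(q)`, planner helper15), SUB-BLOCK E3 = `e3_of_std` (`(q, m) = (2, 3)`: class 6 with `R ≅ 3^(1+2t)`;
sub-planner helper17): shared definitions.  Paper proof: `notes/S5663_plan.md` §E3; leaves: `notes/S5663_E3_leaves.lean`.

`ω ∈ F` with `ω² + ω + 1 = 0`.  `wp ω x = ω^x` (`x : Fin 3`, arithmetic of `Fin 3` is arithmetic mod 3).
`W ω a b = X^a Y^b` on `F^3` (`X = diag(1, ω, ω²)`, `Y` the cyclic shift `e_j ↦ e_{j+1}`): entry `(i, j)` is `ω^(a i)` if `i = j + b`.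
`T ω c a b = ω^c • (W (a 0) (b 0) ⊗ ⋯ ⊗ W (a (t-1)) (b (t-1)))` on `(F^3)^{⊗ t}`.
`Rstd ω t ≤ GL (Fin t → Fin 3) F`: the group generated by all `slot i (W a b)` (`= {T c a b}` for `t ≥ 1`, extraspecial `3^(1+2t)`).
`tr e P S`: transport of a subgroup `S ≤ GL κ F` to `GL (Fin n) F` along `(e, P)` (the shape of `tensorWreathSubgroup`).
-/

set_option autoImplicit false
set_option linter.unusedSectionVars false
set_option linter.unusedVariables false

namespace Cfsg.Agent.Lib.Helper17.E3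
open Matrix Cfsg.Geo Cfsg.Agent.Lib.Helper18.AschA89

variable {F : Type*} [Field F]

/-- `ω ^ x` for `x : Fin 3` -/
def wp (ω : F) (x : Fin 3) : F := ω ^ (x : ℕ)

/-- the Weyl matrix `X^a Y^b` on `F^3`: entry `(i, j)` is `ω^(a i)` if `i = j + b`, and `0` otherwise -/
def W (ω : F) (a b : Fin 3) : Matrix (Fin 3) (Fin 3) F :=
  Matrix.of fun i j => if i = j + b then wp ω (a * i) else 0

lemma W_apply (ω : F) (a b i j : Fin 3) : W ω a b i j = if i = j + b then wp ω (a * i) else 0 := rfl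

/-- the Fourier matrix `(ω^(i j))` on `F^3` -/
def Fo (ω : F) : Matrix (Fin 3) (Fin 3) F := Matrix.of fun i j => wp ω (i * j)

lemma Fo_apply (ω : F) (i j : Fin 3) : Fo ω i j = wp ω (i * j) := rfl

/-- `ω^c • (W (a 0) (b 0) ⊗ ⋯ ⊗ W (a (t-1)) (b (t-1)))` -/
def T (ω : F) {t : ℕ} (c : Fin 3) (a b : Fin t → Fin 3) : Matrix (Fin t → Fin 3) (Fin t → Fin 3) F :=
  wp ω c • ptens 3 t (fun i => W ω (a i) (b i))

/-- the standard group `3^(1+2t)`: generated by the Weyl matrices in the slots -/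
def Rstd (ω : F) (t : ℕ) : Subgroup (GL (Fin t → Fin 3) F) :=
  Subgroup.closure {g | ∃ (i : Fin t) (a b : Fin 3),
    (g : Matrix (Fin t → Fin 3) (Fin t → Fin 3) F) = slot 3 t i (W ω a b)}

/-- transport of a subgroup of `GL κ F` to `GL (Fin n) F` along `(e, P)` (as in `tensorWreathSubgroup`) -/
def tr {n : ℕ} {κ : Type} [Fintype κ] [DecidableEq κ] (e : Fin n ≃ κ) (P : GL (Fin n) F)
    (S : Subgroup (GL κ F)) : Subgroup (GL (Fin n) F) :=
  (S.map (glReindex e.symm).toMonoidHom).map (MulAut.conj P).toMonoidHom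

lemma tensorWreathSubgroup_eq_tr {n m t : ℕ} (e : Fin n ≃ (Fin t → Fin m)) (P : GL (Fin n) F) :
    tensorWreathSubgroup m t e P = tr e P (tensorWreathStandard m t F) := rfl

end Cfsg.Agent.Lib.Helper17.E3
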