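import Mathlib
import Cfsg.Agent.Lib.Helper29.SpAschTools

/-!
S5662 market FQ (helper29), leaves (Q0) `c8_of_vanishing`, (Q3a) `additive_invariant_zero`, (Q3b) `quad_even`,
(F9b) `c8_of_quadratic_elt` (helper17): the characteristic-2 quadratic form lemmas.
-/

set_option autoImplicit false
set_option linter.unusedSectionVars false
set_option linter.unusedVariables false

namespace Cfsg.Agent.Lib.Helper17.SpAschLeaf
open Matrix Cfsg Cfsg.Geo Cfsg.Agent.Lib.Helper20.Asch Cfsg.Agent.Lib.Helper29.SpAsch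
open scoped Kronecker

variable {F : Type*} [Field F] [Fintype F] {n m : ℕ} {J : Matrix (Fin n) (Fin n) F}
  {H N : Subgroup (GL (Fin n) F)}

/-- a function with `Q (a • v) = a² Q v` and polar form `bfm J` (`J` alternating Gram) is a non-degenerate quadratic form -/
theorem isNQF_of_polar (hJ : IsAltGram J) (Q : (Fin n → F) → F)
    (hsmul : ∀ (a : F) (v : Fin n → F), Q (a • v) = a ^ 2 * Q v)
    (hpolar : ∀ u v, QuadraticMap.polar Q u v = bfm J u v) : IsNondegenerateQuadraticForm Q := by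
  have hp : QuadraticMap.polar Q = bfm J := by
    funext u v
    exact hpolar u v
  refine ⟨hsmul, ?_, ?_⟩
  · rw [hp]; exact bfm_bilinear J
  · rw [hp]; exact bfm_nondeg hJ

/-- `Q (u + v) = Q u + Q v + polar` -/
theorem q_add (Q : (Fin n → F) → F) (u v : Fin n → F) :
    Q (u + v) = Q u + Q v + QuadraticMap.polar Q u v := by
  unfold QuadraticMap.polar
  ring

/-- the defect `D v = Q (g v) - Q v` of an isometry `g` of the polar form is additive and `λ²`-homogeneous -/
theorem defect_props (Q : (Fin n → F) → F)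
    (hsmul : ∀ (a : F) (v : Fin n → F), Q (a • v) = a ^ 2 * Q v)
    (hpolar : ∀ u v, QuadraticMap.polar Q u v = bfm J u v) (g : GL (Fin n) F) (hg : g ∈ isoG J) :
    (∀ u v, (Q ((g : Matrix (Fin n) (Fin n) F) *ᵥ (u + v)) - Q (u + v)) =
      (Q ((g : Matrix (Fin n) (Fin n) F) *ᵥ u) - Q u) + (Q ((g : Matrix (Fin n) (Fin n) F) *ᵥ v) - Q v)) ∧
    (∀ (a : F) (v : Fin n → F), (Q ((g : Matrix (Fin n) (Fin n) F) *ᵥ (a • v)) - Q (a • v)) =
      a ^ 2 * (Q ((g : Matrix (Fin n) (Fin n) F) *ᵥ v) - Q v)) := by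
  constructor
  · intro u v
    rw [Matrix.mulVec_add, q_add Q u v, q_add Q _ _, hpolar, hpolar, isoG_apply hg]
    ring
  · intro a v
    rw [Matrix.mulVec_smul, hsmul, hsmul]
    ring

/-- (Q0) a quadratic form with polar form `bfm J` vanishing on an `H`-invariant spanning set is `H`-invariant: C8. -/
theorem c8_of_vanishing (h : SpCtx J m H) (heven : ¬ Odd (Fintype.card F)) (Q : (Fin n → F) → F)
    (hsmul : ∀ (a : F) (v : Fin n → F), Q (a • v) = a ^ 2 * Q v)
    (hpolar : ∀ u v, QuadraticMap.polar Q u v = bfm J u v) (S : Set (Fin n → F))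
    (hS : Submodule.span F S = ⊤) (hQS : ∀ s ∈ S, Q s = 0)
    (hHS : ∀ g ∈ H, ∀ s ∈ S, (g : Matrix (Fin n) (Fin n) F) *ᵥ s ∈ S) : SGeo J m H := by
  have hQ := isNQF_of_polar h.alt Q hsmul hpolar
  have hQ0 : Q 0 = 0 := by
    have := hsmul 0 0
    simpa using this
  refine SGeo.of_C8 h.le Q heven hQ hpolar ?_
  intro g hg
  refine ⟨1, fun v => ?_⟩
  rw [Units.val_one, one_mul]
  obtain ⟨hadd, hsm⟩ := defect_props Q hsmul hpolar g (h.le hg)
  have hv : v ∈ Submodule.span F S := by rw [hS]; exact Submodule.mem_top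
  have key : Q ((g : Matrix (Fin n) (Fin n) F) *ᵥ v) - Q v = 0 := by
    induction hv using Submodule.span_induction with
    | mem s hs => rw [hQS s hs, hQS _ (hHS g hg s hs), sub_zero]
    | zero => rw [Matrix.mulVec_zero, sub_self]
    | add u w _ _ hu hw => rw [hadd, hu, hw, add_zero]
    | smul a u _ hu => rw [hsm, hu, mul_zero]
  exact sub_eq_zero.mp key

/-- (Q3a) an additive, `λ²`-homogeneous, `N`-invariant function vanishes (char 2, `N` irreducible, `n ≥ 2`). -/
theorem additive_invariant_zero (hn : 2 ≤ n) (h2 : (2 : F) = 0) (hirr : Irr N) (D : (Fin n → F) → F)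
    (hadd : ∀ u v, D (u + v) = D u + D v) (hsm : ∀ (a : F) (v : Fin n → F), D (a • v) = a ^ 2 * D v)
    (hinv : ∀ x ∈ N, ∀ v, D ((x : Matrix (Fin n) (Fin n) F) *ᵥ v) = D v) : ∀ v, D v = 0 := by
  have hD0 : D 0 = 0 := by
    have := hsm 0 0
    simpa using this
  let W : Submodule F (Fin n → F) :=
    { carrier := {v | D v = 0}
      add_mem' := by
        intro a b ha hb
        simp only [Set.mem_setOf_eq] at ha hb ⊢
        rw [hadd, ha, hb, add_zero]
      zero_mem' := hD0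
      smul_mem' := by
        intro c v hv
        simp only [Set.mem_setOf_eq] at hv ⊢
        rw [hsm, hv, mul_zero] }
  have hWinv : ∀ s ∈ matrixSet N, W.map (Matrix.toLin' s) ≤ W := by
    rintro s ⟨x, hx, rfl⟩ w ⟨v, hv, rfl⟩
    show D _ = 0
    rw [Matrix.toLin'_apply, hinv x hx]
    exact hv
  rcases hirr W hWinv with hbot | htop
  · exfalso
    -- two independent vectors
    let e0 : Fin n → F := Pi.single ⟨0, by omega⟩ 1
    let e1 : Fin n → F := Pi.single ⟨1, by omega⟩ 1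
    have he0 : D e0 ≠ 0 := by
      intro h0
      have hm : e0 ∈ W := h0
      rw [hbot, Submodule.mem_bot] at hm
      have := congrFun hm ⟨0, by omega⟩
      simp [e0] at this
    haveI : CharP F 2 := CharTwo.of_one_ne_zero_of_two_eq_zero one_ne_zero h2
    have hchar : ringChar F = 2 := ringChar.eq F 2
    obtain ⟨a, ha⟩ := FiniteField.isSquare_of_char_two hchar (D e1 / D e0)
    have hmem : e1 + a • e0 ∈ W := by
      show D (e1 + a • e0) = 0
      rw [hadd, hsm, pow_two, ← ha, div_mul_cancel₀ _ he0, ← two_mul, h2, zero_mul]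
    rw [hbot, Submodule.mem_bot] at hmem
    have := congrFun hmem ⟨1, by omega⟩
    simp [e0, e1, Pi.single_apply, Fin.ext_iff] at this
  · intro v
    have : v ∈ W := by rw [htop]; exact Submodule.mem_top
    exact this

/-- (Q3b) even characteristic: an `N`-invariant quadratic form with polar form `c · bfm J` gives C8. -/
theorem quad_even (h : SpCtx J m H) (heven : ¬ Odd (Fintype.card F)) (hN : N ≤ H) (hnorm : NormBy H N)
    (Q : (Fin n → F) → F) (hQ : IsNondegenerateQuadraticForm Q) (hfix : FixesQuadForm (matrixSet N) Q) (c : F)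
    (hc : ∀ u v, QuadraticMap.polar Q u v = c * bfm J u v)
    (hzero : ∀ D : (Fin n → F) → F, (∀ u v, D (u + v) = D u + D v) →
      (∀ (a : F) (v : Fin n → F), D (a • v) = a ^ 2 * D v) →
      (∀ x ∈ N, ∀ v, D ((x : Matrix (Fin n) (Fin n) F) *ᵥ v) = D v) → ∀ v, D v = 0) : SGeo J m H := by
  have hn0 : 0 < n := by have := h.dim; have := h.two_le; omega
  have hc0 : c ≠ 0 := by
    rintro rfl
    let e0 : Fin n → F := Pi.single ⟨0, hn0⟩ 1
    have he0 : e0 ≠ 0 := by
      intro h0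
      have := congrFun h0 ⟨0, hn0⟩
      simp [e0] at this
    obtain ⟨⟨x, hx⟩, -⟩ := hQ.nondegenerate e0 he0
    apply hx
    rw [hc, zero_mul]
  set Q' : (Fin n → F) → F := fun v => c⁻¹ * Q v with hQ'
  have hsmul' : ∀ (a : F) (v : Fin n → F), Q' (a • v) = a ^ 2 * Q' v := by
    intro a v
    simp only [hQ']
    rw [hQ.smul]
    ring
  have hpolar' : ∀ u v, QuadraticMap.polar Q' u v = bfm J u v := by
    intro u v
    have h1 : QuadraticMap.polar Q' u v = c⁻¹ * QuadraticMap.polar Q u v := by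
      unfold QuadraticMap.polar
      simp only [hQ']
      ring
    rw [h1, hc, ← mul_assoc, inv_mul_cancel₀ hc0, one_mul]
  have hfix' : ∀ x ∈ N, ∀ v, Q' ((x : Matrix (Fin n) (Fin n) F) *ᵥ v) = Q' v := by
    intro x hx v
    simp only [hQ']
    rw [hfix _ ⟨x, hx, rfl⟩]
  refine SGeo.of_C8 h.le Q' heven (isNQF_of_polar h.alt Q' hsmul' hpolar') hpolar' ?_
  intro g hg
  refine ⟨1, fun v => ?_⟩
  rw [Units.val_one, one_mul]
  obtain ⟨hadd, hsm⟩ := defect_props Q' hsmul' hpolar' g (h.le hg)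
  have key := hzero (fun v => Q' ((g : Matrix (Fin n) (Fin n) F) *ᵥ v) - Q' v) hadd hsm ?_ v
  · exact sub_eq_zero.mp key
  · intro x hx v
    show Q' ((g : Matrix (Fin n) (Fin n) F) *ᵥ ((x : Matrix (Fin n) (Fin n) F) *ᵥ v)) - Q' ((x : Matrix (Fin n) (Fin n) F) *ᵥ v)
      = Q' ((g : Matrix (Fin n) (Fin n) F) *ᵥ v) - Q' v
    rw [hfix' x hx v]
    have hy := hnorm g hg x hx
    have e : (g : Matrix (Fin n) (Fin n) F) *ᵥ ((x : Matrix (Fin n) (Fin n) F) *ᵥ v)
        = ((g * x * g⁻¹ : GL (Fin n) F) : Matrix (Fin n) (Fin n) F) *ᵥ ((g : Matrix (Fin n) (Fin n) F) *ᵥ v) := by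
      rw [Matrix.mulVec_mulVec, Matrix.mulVec_mulVec, ← Units.val_mul, ← Units.val_mul]
      congr 2
      group
    rw [e, hfix' _ hy]

/-- (F9b) THE QUADRATIC FORM OF A UNITARY-TYPE QUADRATIC FIELD IN CHARACTERISTIC 2. -/
theorem c8_of_quadratic_elt (h : SpCtx J m H) (heven : ¬ Odd (Fintype.card F)) (h2 : (2 : F) = 0)
    (k₀ : Matrix (Fin n) (Fin n) F) (c : F) (hc : c ≠ 0)
    (hadj : adjM J k₀ = c • (1 : Matrix (Fin n) (Fin n) F) - k₀)
    (hconj : ∀ g ∈ H,
      ((g⁻¹ : GL (Fin n) F) : Matrix (Fin n) (Fin n) F) * k₀ * (g : Matrix (Fin n) (Fin n) F) = k₀ ∨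
      ((g⁻¹ : GL (Fin n) F) : Matrix (Fin n) (Fin n) F) * k₀ * (g : Matrix (Fin n) (Fin n) F) = adjM J k₀) :
    SGeo J m H := by
  have hneg : ∀ x : F, -x = x := by
    intro x
    have : x + x = 0 := by rw [← two_mul, h2, zero_mul]
    exact neg_eq_of_add_eq_zero_left this
  set Q : (Fin n → F) → F := fun v => c⁻¹ * bfm J (k₀ *ᵥ v) v with hQ
  have hsmul : ∀ (a : F) (v : Fin n → F), Q (a • v) = a ^ 2 * Q v := by
    intro a v
    simp only [hQ]
    rw [Matrix.mulVec_smul, bfm_smul_left, bfm_smul_right]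
    ring
  have hadjv : ∀ u : Fin n → F, adjM J k₀ *ᵥ u = c • u - k₀ *ᵥ u := by
    intro u
    rw [hadj, Matrix.sub_mulVec, Matrix.smul_mulVec, Matrix.one_mulVec]
  have hpolar : ∀ u v, QuadraticMap.polar Q u v = bfm J u v := by
    intro u v
    unfold QuadraticMap.polar
    simp only [hQ]
    rw [Matrix.mulVec_add, bfm_add_left, bfm_add_right, bfm_add_right]
    have e1 : bfm J (k₀ *ᵥ v) u = c * bfm J u v - bfm J (k₀ *ᵥ u) v := by
      rw [bfm_adjM h.alt.det k₀ v u, hadjv, bfm_sub_right, bfm_smul_right, bfm_skew h.alt v u,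
        bfm_skew h.alt v (k₀ *ᵥ u), hneg, hneg]
    rw [e1]
    field_simp
    ring
  have hfix : ∀ g ∈ H, ∀ v, Q ((g : Matrix (Fin n) (Fin n) F) *ᵥ v) = Q v := by
    intro g hg v
    simp only [hQ]
    congr 1
    have e : k₀ *ᵥ ((g : Matrix (Fin n) (Fin n) F) *ᵥ v) = (g : Matrix (Fin n) (Fin n) F) *ᵥ
        ((((g⁻¹ : GL (Fin n) F) : Matrix (Fin n) (Fin n) F) * k₀ * (g : Matrix (Fin n) (Fin n) F)) *ᵥ v) := by
      rw [Matrix.mulVec_mulVec, Matrix.mulVec_mulVec]
      congr 1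
      rw [← mul_assoc, ← mul_assoc, ← Units.val_mul, mul_inv_cancel, Units.val_one, one_mul]
    rw [e, isoG_apply (h.le hg)]
    rcases hconj g hg with h1 | h1
    · rw [h1]
    · rw [h1, hadjv, bfm_sub_left, bfm_smul_left, bfm_self h.alt, mul_zero, zero_sub, hneg]
  refine SGeo.of_C8 h.le Q heven (isNQF_of_polar h.alt Q hsmul hpolar) hpolar ?_
  intro g hg
  exact ⟨1, fun v => by rw [hfix g hg v, Units.val_one, one_mul]⟩

end Cfsg.Agent.Lib.Helper17.SpAschLeaf
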