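import Mathlib
import Cfsg.Agent.Lib.Helper29.SpAschTools

/-!
S5662 market FQ (helper29), leaves (Z1) `two_eq_zero_of_not_odd`, (Z2) `two_ne_zero_of_odd`, (Q0') `fixesForm_polar` (helper17).
-/

set_option autoImplicit false
set_option linter.unusedSectionVars false
set_option linter.unusedVariables false

namespace Cfsg.Agent.Lib.Helper17.SpAschLeaf
open Matrix Cfsg Cfsg.Geo Cfsg.Agent.Lib.Helper20.Asch Cfsg.Agent.Lib.Helper29.SpAsch
open scoped Kronecker

variable {F : Type*} [Field F] [Fintype F] {n m : ℕ} {J : Matrix (Fin n) (Fin n) F}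
  {H N : Subgroup (GL (Fin n) F)}

/-- (Z1) `|F|` even ⟹ characteristic 2. -/
theorem two_eq_zero_of_not_odd (heven : ¬ Odd (Fintype.card F)) : (2 : F) = 0 := by
  obtain ⟨p, hp⟩ := CharP.exists F
  haveI := hp
  obtain ⟨k, hprime, hcard⟩ := FiniteField.card F p
  have hev : Even (Fintype.card F) := Nat.not_odd_iff_even.mp heven
  rw [hcard] at hev
  have hpe : Even p := (Nat.even_pow.mp hev).1
  have hp2 : p = 2 := (Nat.Prime.even_iff hprime).mp hpe
  subst hp2
  exact CharTwo.two_eq_zero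

/-- (Z2) `|F|` odd ⟹ `2 ≠ 0`. -/
theorem two_ne_zero_of_odd (hodd : Odd (Fintype.card F)) : (2 : F) ≠ 0 := by
  intro h2
  haveI : CharP F 2 := CharTwo.of_one_ne_zero_of_two_eq_zero one_ne_zero h2
  obtain ⟨k, -, hcard⟩ := FiniteField.card F 2
  rw [hcard] at hodd
  have : Even (2 ^ (k : ℕ)) := (Nat.even_pow.mpr ⟨even_two, k.pos.ne'⟩)
  exact (Nat.not_odd_iff_even.mpr this) hodd

/-- (Q0') isometries of `Q` are isometries of its polar form. -/
theorem fixesForm_polar (S : Set (Matrix (Fin n) (Fin n) F)) (Q : (Fin n → F) → F)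
    (hfix : FixesQuadForm S Q) : FixesForm S (QuadraticMap.polar Q) := by
  intro s hs u v
  unfold QuadraticMap.polar
  rw [← Matrix.mulVec_add, hfix s hs, hfix s hs, hfix s hs]

end Cfsg.Agent.Lib.Helper17.SpAschLeaf
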