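/-
BRP-SEMI (S4504 layer A, planner helper13): a perfect group generated by elements of order dividing
`p = 2^q - 1` has only the trivial homomorphism into the semi-affine group of the field with `2^q` elements.
-/
import Mathlib
import Cfsg.Prelude.Def_Perm

set_option autoImplicit false

namespace Cfsg.Agent.Lib.Helper17.BRPSEMI

open Cfsg
open scoped commutatorElement

universe u

/-- powers of a semi-affine map `x ↦ a * α x + b` are `x ↦ c * α^[n] x + d`. -/
theorem pow_apply_form {K : Type*} [Field K] (σ : Equiv.Perm K) (a b : K) (α : K ≃+* K)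
    (h : ∀ x, σ x = a * α x + b) (n : ℕ) :
    ∃ c d : K, ∀ x, (σ ^ n) x = c * ((⇑α)^[n] x) + d := by
  induction n with
  | zero => exact ⟨1, 0, fun x => by simp⟩
  | succ n ih =>
    obtain ⟨c, d, hcd⟩ := ih
    refine ⟨a * α c, a * α d + b, fun x => ?_⟩
    rw [pow_succ', Equiv.Perm.mul_apply, hcd, h, Function.iterate_succ_apply', map_add, map_mul]
    ring

/-- a ring automorphism of a field with `p + 1` elements whose `p`-th iterate is the identity is the identity. -/
theorem ringAut_eq_id {K : Type*} [Field K] [Finite K] {p : ℕ} (hp : p.Prime) (hK : Nat.card K = p + 1)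
    (α : K ≃+* K) (hα : ∀ x, (⇑α)^[p] x = x) : ∀ x, α x = x := by
  classical
  have : Fintype K := Fintype.ofFinite K
  have : Fact p.Prime := ⟨hp⟩
  set τ : Equiv.Perm K := α.toEquiv with hτ
  have hτp : τ ^ p ^ 1 = 1 := by
    rw [pow_one]
    ext x
    rw [← Equiv.Perm.iterate_eq_pow]
    exact hα x
  have hmod := Equiv.Perm.card_compl_support_modEq hτp
  have hcardK : Fintype.card K = p + 1 := by rw [← Nat.card_eq_fintype_card, hK]
  rw [hcardK] at hmod
  have hle : τ.supportᶜ.card ≤ p + 1 := by
    rw [← hcardK]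
    exact Finset.card_le_univ _
  have h2 : 2 ≤ τ.supportᶜ.card := by
    have hsub : ({0, 1} : Finset K) ⊆ τ.supportᶜ := by
      intro x hx
      rw [Finset.mem_compl, Equiv.Perm.notMem_support]
      rcases Finset.mem_insert.mp hx with rfl | hx
      · exact map_zero α
      · rw [Finset.mem_singleton] at hx
        subst hx
        exact map_one α
    calc 2 = ({0, 1} : Finset K).card := (Finset.card_pair zero_ne_one).symm
      _ ≤ _ := Finset.card_le_card hsub
  have hdvd : p ∣ p + 1 - τ.supportᶜ.card := (Nat.modEq_iff_dvd' hle).mp hmod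
  have hzero : p + 1 - τ.supportᶜ.card = 0 := Nat.eq_zero_of_dvd_of_lt hdvd (by omega)
  have hfull : τ.supportᶜ.card = Fintype.card K := by omega
  have hsupp : τ.support = ∅ := by
    rw [Finset.card_compl] at hfull
    have h0 : τ.support.card = 0 := by
      have := Finset.card_le_univ τ.support
      omega
    exact Finset.card_eq_zero.mp h0
  have hone : τ = 1 := Equiv.Perm.support_eq_empty_iff.mp hsupp
  intro x
  have : τ x = x := by rw [hone]; rfl
  exact this

/-- a semi-affine permutation of order dividing `p` of a field with `p + 1` elements is affine. -/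
theorem mem_affine_of_pow_eq_one {K : Type*} [Field K] [Finite K] {p : ℕ} (hp : p.Prime)
    (hK : Nat.card K = p + 1) (σ : Equiv.Perm K) (hσ : σ ∈ semiaffineGroup K) (hpow : σ ^ p = 1) :
    σ ∈ affineGroup K := by
  obtain ⟨a, b, α, h⟩ := hσ
  obtain ⟨c, d, hcd⟩ := pow_apply_form σ a b α h p
  have h0 : (⇑α)^[p] 0 = 0 := Function.iterate_fixed (map_zero α) p
  have h1 : (⇑α)^[p] 1 = 1 := Function.iterate_fixed (map_one α) p
  have hd : d = 0 := by
    have := hcd 0
    rw [hpow, h0, mul_zero, zero_add] at this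
    exact this.symm
  have hc : c = 1 := by
    have := hcd 1
    rw [hpow, h1, mul_one, hd, add_zero] at this
    exact this.symm
  have hα : ∀ x, (⇑α)^[p] x = x := by
    intro x
    have := hcd x
    rw [hpow, hc, hd, one_mul, add_zero] at this
    exact this.symm
  have hid := ringAut_eq_id hp hK α hα
  exact ⟨a, b, fun x => by rw [h, hid]⟩

/-- the translations of a ring. -/
def translations (K : Type*) [Ring K] : Subgroup (Equiv.Perm K) where
  carrier := {σ | ∃ c : K, ∀ x, σ x = x + c}
  one_mem' := ⟨0, fun x => by simp⟩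
  mul_mem' := by
    rintro σ τ ⟨c, hσ⟩ ⟨d, hτ⟩
    exact ⟨d + c, fun x => by rw [Equiv.Perm.mul_apply, hτ, hσ, add_assoc]⟩
  inv_mem' := by
    rintro σ ⟨c, hσ⟩
    refine ⟨-c, fun x => ?_⟩
    apply σ.injective
    rw [Equiv.Perm.inv_def, Equiv.apply_symm_apply, hσ, neg_add_cancel_right]

theorem translations_comm {K : Type*} [Ring K] (σ τ : Equiv.Perm K) (hσ : σ ∈ translations K)
    (hτ : τ ∈ translations K) : σ * τ = τ * σ := by
  obtain ⟨c, hσ⟩ := hσ
  obtain ⟨d, hτ⟩ := hτ
  ext x
  rw [Equiv.Perm.mul_apply, Equiv.Perm.mul_apply, hτ, hσ, hσ, hτ, add_assoc, add_assoc, add_comm c d]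

/-- the inverse of an affine map. -/
theorem affine_inv_apply {K : Type*} [Field K] (σ : Equiv.Perm K) (a : Kˣ) (b : K)
    (h : ∀ x, σ x = (a : K) * x + b) (x : K) : σ⁻¹ x = ((a⁻¹ : Kˣ) : K) * (x - b) := by
  apply σ.injective
  rw [Equiv.Perm.inv_def, Equiv.apply_symm_apply, h, ← mul_assoc, Units.mul_inv, one_mul, sub_add_cancel]

/-- commutators of affine maps of a field are translations. -/
theorem commutator_mem_translations {K : Type*} [Field K] (σ τ : Equiv.Perm K)
    (hσ : σ ∈ affineGroup K) (hτ : τ ∈ affineGroup K) : ⁅σ, τ⁆ ∈ translations K := by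
  obtain ⟨a, b, hσ⟩ := hσ
  obtain ⟨c, d, hτ⟩ := hτ
  refine ⟨((a : K) - 1) * d - ((c : K) - 1) * b, fun x => ?_⟩
  rw [commutatorElement_def, Equiv.Perm.mul_apply, Equiv.Perm.mul_apply, Equiv.Perm.mul_apply,
    affine_inv_apply τ c d hτ, affine_inv_apply σ a b hσ, hτ, hσ]
  have ha : (a : K) * ((a⁻¹ : Kˣ) : K) = 1 := Units.mul_inv a
  have hc : (c : K) * ((c⁻¹ : Kˣ) : K) = 1 := Units.mul_inv c
  have e1 : (a : K) * ((c : K) * (((a⁻¹ : Kˣ) : K) * (((c⁻¹ : Kˣ) : K) * (x - d) - b)) + d) + b
      = ((a : K) * ((a⁻¹ : Kˣ) : K)) * (((c : K) * ((c⁻¹ : Kˣ) : K)) * (x - d) - (c : K) * b)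
        + (a : K) * d + b := by ring
  rw [e1, ha, hc]
  ring

/-- SEMI : a perfect group generated by elements of order dividing `p = 2^q - 1` has only the trivial
homomorphism into the semi-affine group of the field with `2^q` elements. -/
theorem semiaffine_hom_trivial {p q : ℕ} (hp : p.Prime) (hq : q.Prime) (hpq : p + 1 = 2 ^ q)
    {Γ : Type u} [Group Γ] (S : Set Γ) (hS : ∀ x ∈ S, x ^ p = 1) (hgen : Subgroup.closure S = ⊤)
    (hperf : commutator Γ = ⊤) (φ : Γ →* Equiv.Perm (GaloisField 2 q))
    (hφ : ∀ g : Γ, φ g ∈ Cfsg.semiaffineGroup (GaloisField 2 q)) : ∀ g : Γ, φ g = 1 := by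
  have hK : Nat.card (GaloisField 2 q) = p + 1 := by
    rw [GaloisField.card 2 q hq.ne_zero, hpq]
  -- every `φ g` is affine
  have haff : ∀ g : Γ, φ g ∈ affineGroup (GaloisField 2 q) := by
    have hle : Subgroup.closure S ≤ (affineGroup (GaloisField 2 q)).comap φ := by
      rw [Subgroup.closure_le]
      intro x hx
      refine mem_affine_of_pow_eq_one hp hK (φ x) (hφ x) ?_
      rw [← map_pow, hS x hx, map_one]
    intro g
    have : g ∈ Subgroup.closure S := by rw [hgen]; exact Subgroup.mem_top g
    exact hle this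
  -- every `φ g` is a translation
  have htr : ∀ g : Γ, φ g ∈ translations (GaloisField 2 q) := by
    have hle : commutator Γ ≤ (translations (GaloisField 2 q)).comap φ := by
      rw [commutator_def, Subgroup.commutator_le]
      intro g _ h _
      change φ ⁅g, h⁆ ∈ translations (GaloisField 2 q)
      rw [map_commutatorElement]
      exact commutator_mem_translations _ _ (haff g) (haff h)
    intro g
    have : g ∈ commutator Γ := by rw [hperf]; exact Subgroup.mem_top g
    exact hle this
  -- the image is abelian and the group is perfect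
  have hker : commutator Γ ≤ φ.ker := by
    rw [commutator_def, Subgroup.commutator_le]
    intro g _ h _
    rw [MonoidHom.mem_ker, map_commutatorElement, commutatorElement_eq_one_iff_mul_comm]
    exact translations_comm _ _ (htr g) (htr h)
  intro g
  have : g ∈ commutator Γ := by rw [hperf]; exact Subgroup.mem_top g
  exact MonoidHom.mem_ker.mp (hker this)

end Cfsg.Agent.Lib.Helper17.BRPSEMI
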