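/-
BRP-SEMIG (S4504 layer A, planner helper13): the semi-affine alternative of S0732 is impossible when the
normal closure of a non-normal Sylow `p`-subgroup of order `p` is perfect.
-/
import Mathlib
import Cfsg.Prelude.Def_Perm
import Cfsg.Agent.Lib.Helper17.BRPSEMI

set_option autoImplicit false

namespace Cfsg.Agent.Lib.Helper17.BRPSEMIG

open Cfsg Cfsg.Agent.Lib.Helper17.BRPSEMI

universe u

/-- the action on a set transported along a bijection, as a homomorphism. -/
def transport {Γ X Y : Type*} [Group Γ] [MulAction Γ X] (e : X ≃ Y) : Γ →* Equiv.Perm Y where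
  toFun g := e.symm.trans ((MulAction.toPerm g : Equiv.Perm X).trans e)
  map_one' := by
    ext y
    simp
  map_mul' g h := by
    ext y
    simp [mul_smul]

/-- SEMIG : the semi-affine alternative of S0732 is impossible when the normal closure of `P` is perfect. -/
theorem false_of_semiaffine {p q : ℕ} [Fact p.Prime] (hq : q.Prime) (hpq : p + 1 = 2 ^ q)
    {G : Type u} [Group G] [Finite G] (P : Sylow p G) (hP : Nat.card (P : Subgroup G) = p)
    (hnn : ¬ (P : Subgroup G).Normal)
    (hperf : commutator (Subgroup.normalClosure ((P : Subgroup G) : Set G)) = ⊤)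
    (e : Sylow p G ≃ GaloisField 2 q)
    (he : ∀ g : G, (e.symm.trans ((MulAction.toPerm g : Equiv.Perm (Sylow p G)).trans e)) ∈
      Cfsg.semiaffineGroup (GaloisField 2 q)) : False := by
  have hp : p.Prime := Fact.out
  set H : Subgroup G := Subgroup.normalClosure ((P : Subgroup G) : Set G) with hH
  -- the generating set
  set S : Set H := {x : H | x ^ p = 1} with hSdef
  have hgen : Subgroup.closure S = ⊤ := by
    rw [eq_top_iff]
    have hle : H ≤ (Subgroup.closure S).map H.subtype := by
      have hH' : H = Subgroup.closure (Group.conjugatesOfSet ((P : Subgroup G) : Set G)) := rfl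
      refine hH'.le.trans ?_
      rw [Subgroup.closure_le]
      intro y hy
      have hyH : y ∈ H := Subgroup.conjugatesOfSet_subset_normalClosure hy
      have hyp : y ^ p = 1 := by
        rw [Group.mem_conjugatesOfSet_iff] at hy
        obtain ⟨x, hx, hxy⟩ := hy
        obtain ⟨c, rfl⟩ := isConj_iff.mp hxy
        have hxp : x ^ p = 1 := by
          have := pow_card_eq_one' (G := (P : Subgroup G)) (x := ⟨x, hx⟩)
          rw [hP] at this
          exact congrArg Subtype.val this
        rw [conj_pow, hxp, mul_one, mul_inv_cancel]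
      refine ⟨⟨y, hyH⟩, Subgroup.subset_closure ?_, rfl⟩
      change (⟨y, hyH⟩ : H) ^ p = 1
      exact Subtype.ext hyp
    intro h _
    obtain ⟨h', hh', hh⟩ := hle h.2
    have : h' = h := Subtype.ext hh
    rw [← this]
    exact hh'
  -- the homomorphism
  let φ : H →* Equiv.Perm (GaloisField 2 q) := (transport (Γ := G) e).comp H.subtype
  have hφ : ∀ h : H, φ h ∈ Cfsg.semiaffineGroup (GaloisField 2 q) := fun h => he (h : G)
  have htriv := semiaffine_hom_trivial hp hq hpq S (fun x hx => hx) hgen hperf φ hφ
  -- every element of `H` fixes every Sylow subgroup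
  have hfix : ∀ h : H, ∀ Q : Sylow p G, (h : G) • Q = Q := by
    intro h Q
    have h1 := htriv h
    have h2 : (φ h) (e Q) = e Q := by rw [h1]; rfl
    have h3 : (φ h) (e Q) = e ((h : G) • Q) := by
      change e ((MulAction.toPerm (h : G) : Equiv.Perm (Sylow p G)) (e.symm (e Q))) = _
      rw [Equiv.symm_apply_apply]
      rfl
    rw [h3] at h2
    exact e.injective h2
  -- `P` is the only Sylow subgroup
  have hsub : Subsingleton (Sylow p G) := by
    refine ⟨fun Q₁ Q₂ => ?_⟩
    have key : ∀ Q : Sylow p G, Q = P := by
      intro Q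
      have hle : (P : Subgroup G) ≤ (Q : Subgroup G) := by
        rw [← IsPGroup.sylow_mem_fixedPoints_iff P.2]
        rintro ⟨x, hx⟩
        exact hfix ⟨x, Subgroup.le_normalClosure hx⟩ Q
      exact Sylow.ext (P.3 Q.2 hle)
    rw [key Q₁, key Q₂]
  exact hnn (Sylow.normal_of_subsingleton P)

end Cfsg.Agent.Lib.Helper17.BRPSEMIG
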