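import Mathlib
import Cfsg.Prelude.Def_Classical
import Cfsg.Prelude.Def_ClassicalGeometry
import Cfsg.Prelude.Def_GeometricClasses
import Cfsg.Agent.Lib.Helper5.SUMax
import Cfsg.Agent.Lib.Helper22.C3LDefs
import Cfsg.Agent.Lib.Helper22.C3LTool
import Cfsg.Agent.Lib.Helper16.C3uDefs

/-!
Unitary C3 (cubic field) leaf market (helper16), leaf C3uP `exists_not_mem_normalizer` (helper17), CORE form:
a unitary `F`-transvection with an `fE`-isotropic centre does not normalise `E` (degree `≥ 2`).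
The existence of a non-zero `fE`-isotropic vector (leaf W1 `exists_iso`) is a hypothesis here.
-/

set_option autoImplicit false
set_option linter.unusedSectionVars false
set_option linter.unusedVariables false

namespace Cfsg.Agent.Lib.Helper17.C3uLeaf
open Cfsg Matrix Module Cfsg.Agent.Lib.Helper5.SpMax Cfsg.Agent.Lib.Helper5.SUMax
  Cfsg.Agent.Lib.Helper22.C3L Cfsg.Agent.Lib.Helper16.C3u

universe u
variable {F : Type u} [Field F] [Fintype F] {n q : ℕ} {E : Type u} [Field E] [Algebra F E]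

local notation "𝕍" => (Fin n → F)
local notation "𝕄" => Matrix (Fin n) (Fin n) F
local notation "ℍ" => (Cfsg.GU n F q ⊓ Cfsg.Geo.specialLinear (Fin n) F)

/-- P (core): given a non-zero `fE`-isotropic vector, some element of `SU` does not normalise `E` -/
theorem exists_not_mem_normalizer_core (S : KU n q F E) (hF : Fintype.card F = q ^ 2)
    (hr : 2 ≤ finrank F E) (hiso : ∃ p : 𝕍, p ≠ 0 ∧ S.fE p p = 0) :
    ∃ g ∈ ℍ, g ∉ Cfsg.Geo.subalgebraNormalizer S.ρ.range := by
  classical
  obtain ⟨p, hp0, hpp⟩ := hiso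
  have hf := Cfsg.Agent.Lib.Helper5.HermBridge.herm_unitary (n := n) hF
  have hfpp : Cfsg.hermForm n F q p p = 0 := by rw [S.form_eq', hpp, map_zero]
  obtain ⟨c, hc0, hc⟩ := Cfsg.Agent.Lib.Helper5.UForm.exists_skew hf.involutive hf.ne_refl
  obtain ⟨t, htG, ht⟩ := exists_tvg hF hfpp hc
  refine ⟨t, htG, ?_⟩
  intro hN
  -- an `e` with `e p ∉ F p`
  obtain ⟨e, he⟩ : ∃ e : E, act S.ρ e p ∉ Submodule.span F {p} := by
    by_contra hcon
    push Not at hcon
    have hle : line S.ρ p ≤ Submodule.span F {p} := by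
      intro x hx
      obtain ⟨e, rfl⟩ := mem_line.mp hx
      exact hcon e
    have h1 := Submodule.finrank_mono hle
    rw [finrank_line hp0, finrank_span_singleton hp0] at h1
    omega
  have hk : S.ρ e ∈ S.ρ.range := ⟨e, rfl⟩
  obtain ⟨e', he'⟩ := (hN (S.ρ e)).mp hk
  -- `t ρ(e) = ρ(e') t`
  have hcomm : (t : 𝕄) * S.ρ e = S.ρ e' * (t : 𝕄) := by
    have h2 : S.ρ e' * (t : 𝕄) = (t : 𝕄) * S.ρ e * ((t⁻¹ : GL (Fin n) F) : 𝕄) * (t : 𝕄) := by
      rw [← he']
      rfl
    rw [h2, Matrix.mul_assoc, ← Units.val_mul, inv_mul_cancel, Units.val_one, Matrix.mul_one]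
  have happ : ∀ x : 𝕍, act S.ρ e x + (c * Cfsg.hermForm n F q (act S.ρ e x) p) • p =
      act S.ρ e' (x + (c * Cfsg.hermForm n F q x p) • p) := by
    intro x
    have h3 := congrArg (fun A : 𝕄 => A *ᵥ x) hcomm
    simp only [← Matrix.mulVec_mulVec] at h3
    rw [ht, ht, ← act_def, ← act_def] at h3
    exact h3
  -- `e' = e`
  have hee' : e' = e := by
    have h4 := happ p
    rw [hfpp, mul_zero, zero_smul, add_zero, S.form_act_left, hpp, mul_zero, map_zero, mul_zero,
      zero_smul, add_zero] at h4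
    have h5 : act S.ρ (e - e') p = 0 := by rw [act_sub, h4, sub_self]
    rcases act_eq_zero S.ρ h5 with h6 | h6
    · exact (sub_eq_zero.mp h6).symm
    · exact absurd h6 hp0
  subst hee'
  -- a vector `y` with `f y p ≠ 0`
  obtain ⟨y, hyp⟩ := (hf.nondegenerate p hp0).1
  apply he
  have hcy : c * Cfsg.hermForm n F q y p ≠ 0 := mul_ne_zero hc0 hyp
  have h7 := happ ((c * Cfsg.hermForm n F q y p)⁻¹ • y)
  have h9 : c * Cfsg.hermForm n F q ((c * Cfsg.hermForm n F q y p)⁻¹ • y) p = 1 := by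
    rw [hf.smul_left]
    field_simp
  rw [h9, one_smul, act_vadd] at h7
  have h8 := add_left_cancel h7
  rw [← h8]
  exact Submodule.smul_mem _ _ (Submodule.mem_span_singleton_self p)

end Cfsg.Agent.Lib.Helper17.C3uLeaf
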