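import Mathlib
import Cfsg.Prelude.Def_Classical
import Cfsg.Prelude.Def_ClassicalGeometry
import Cfsg.Prelude.Def_GeometricClasses
import Cfsg.Agent.Lib.Helper5.SUMax
import Cfsg.Agent.Lib.Helper22.C3LDefs
import Cfsg.Agent.Lib.Helper22.C3LTool
import Cfsg.Agent.Lib.Helper16.C3uDefs
import Cfsg.Agent.Lib.Helper17.C3uP
import Cfsg.Agent.Lib.Helper26.C3uW1

/-!
Unitary C3 (cubic field) leaf market (helper16), leaf C3uP `exists_not_mem_normalizer` (helper17), EXACT signature:
the core `Helper17.C3uLeaf.exists_not_mem_normalizer_core` on helper26's W1 `exists_iso`.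
-/

set_option autoImplicit false
set_option linter.unusedSectionVars false
set_option linter.unusedVariables false

namespace Cfsg.Agent.Lib.Helper17.C3uLeaf
open Cfsg Matrix Module Cfsg.Agent.Lib.Helper5.SpMax Cfsg.Agent.Lib.Helper5.SUMax
  Cfsg.Agent.Lib.Helper22.C3L Cfsg.Agent.Lib.Helper16.C3u

universe u
variable {F : Type u} [Field F] [Fintype F] {n q : ℕ} {E : Type u} [Field E] [Algebra F E]

local notation "𝕍" => (Fin n → F)
local notation "𝕄" => Matrix (Fin n) (Fin n) F
local notation "ℍ" => (Cfsg.GU n F q ⊓ Cfsg.Geo.specialLinear (Fin n) F)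

/-- P: some element of `SU` does not normalise `E` (a unitary transvection) -/
theorem exists_not_mem_normalizer (S : KU n q F E) (hF : Fintype.card F = q ^ 2)
    (hr : 2 ≤ finrank F E) (hn : 2 * finrank F E ≤ n) :
    ∃ g ∈ ℍ, g ∉ Cfsg.Geo.subalgebraNormalizer S.ρ.range := by
  have hfd : FiniteDimensional F E := Module.finite_of_finrank_pos (by omega)
  exact exists_not_mem_normalizer_core S hF hr (Cfsg.Agent.Lib.Helper26.C3uLeaf.exists_iso S hF hn)

end Cfsg.Agent.Lib.Helper17.C3uLeaf
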