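import Mathlib
import Cfsg.Prelude.Def_Classical
import Cfsg.Prelude.Def_ClassicalGeometry
import Cfsg.Prelude.Def_GeometricClasses
import Cfsg.Agent.Lib.Helper5.SUMax
import Cfsg.Agent.Lib.Helper5.UForm
import Cfsg.Agent.Lib.Helper22.C3LDefs
import Cfsg.Agent.Lib.Helper22.C3LTool
import Cfsg.Agent.Lib.Helper16.C3uDefs
import Cfsg.Agent.Lib.Helper13.C3qDefs
import Cfsg.Agent.Lib.Helper12.C3uF
import Cfsg.Agent.Lib.Helper27.C3qKC

/-!
S5840 conjunct (7), market C3q (planner helper13): leaf G3 `three_dichotomy` (helper17).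
Pure linear algebra in the quintic extension `E/F` with its involution: `dim B = 3`, `dim Φ = 2`, `B ⊥ Φ` for
`⟨x, y⟩ = τ (x * st y)`.  Core `three_dichotomy_core` takes the bound KC3 on the trace-zero hermitian elements
as a hypothesis.
-/

set_option autoImplicit false
set_option linter.unusedSectionVars false
set_option linter.unusedVariables false

namespace Cfsg.Agent.Lib.Helper17.C3qLeaf
open Cfsg Matrix Module Cfsg.Agent.Lib.Helper5.SpMax Cfsg.Agent.Lib.Helper5.SUMax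
  Cfsg.Agent.Lib.Helper22.C3L Cfsg.Agent.Lib.Helper16.C3u Cfsg.Agent.Lib.Helper13.C3q

universe u
variable {F : Type u} [Field F] [Fintype F] {n q : ℕ} {E : Type u} [Field E] [Algebra F E]

/-- the multiplier subspace `Z = {a | a Φ ≤ B}` -/
def mulZ (B Φ : Submodule F E) : Submodule F E where
  carrier := {a | ∀ φ ∈ Φ, a * φ ∈ B}
  add_mem' := by
    intro a a' ha ha' φ hφ
    rw [add_mul]
    exact B.add_mem (ha φ hφ) (ha' φ hφ)
  zero_mem' := by
    intro φ _
    rw [zero_mul]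
    exact B.zero_mem
  smul_mem' := by
    intro c a ha φ hφ
    rw [smul_mul_assoc]
    exact B.smul_mem c (ha φ hφ)

omit [Fintype F] in
theorem mem_mulZ {B Φ : Submodule F E} {a : E} : a ∈ mulZ B Φ ↔ ∀ φ ∈ Φ, a * φ ∈ B := Iff.rfl

/-- the stabiliser subalgebra of a subspace under right multiplication -/
def stabAlg (Z : Submodule F E) : Subalgebra F E where
  carrier := {e | ∀ z ∈ Z, z * e ∈ Z}
  mul_mem' := by
    intro e e' he he' z hz
    rw [← mul_assoc]
    exact he' _ (he z hz)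
  add_mem' := by
    intro e e' he he' z hz
    rw [mul_add]
    exact Z.add_mem (he z hz) (he' z hz)
  algebraMap_mem' := by
    intro c z hz
    rw [← Algebra.commutes, ← Algebra.smul_def]
    exact Z.smul_mem c hz

omit [Fintype F] in
/-- `dim Z ≤ 2` for the multiplier subspace when `dim B = 3`, `dim Φ = 2` in a quintic extension -/
theorem finrank_mulZ_le [FiniteDimensional F E] (hr5 : finrank F E = 5) (B Φ : Submodule F E)
    (hB : finrank F B = 3) (hΦ : finrank F Φ = 2) : finrank F (mulZ B Φ) ≤ 2 := by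
  by_contra hcon
  have h3 : 3 ≤ finrank F (mulZ B Φ) := by omega
  -- two independent vectors of `Φ`
  have hΦ0 : Φ ≠ ⊥ := by
    intro h
    rw [h, finrank_bot] at hΦ
    omega
  obtain ⟨φ₁, hφ₁, hφ₁0⟩ := Submodule.exists_mem_ne_zero_of_ne_bot hΦ0
  have hspan : ¬ Φ ≤ Submodule.span F {φ₁} := by
    intro hle
    have h1 := Submodule.finrank_mono hle
    rw [finrank_span_singleton hφ₁0, hΦ] at h1
    omega
  obtain ⟨φ₂, hφ₂, hφ₂n⟩ := SetLike.not_le_iff_exists.mp hspan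
  have hφ₂0 : φ₂ ≠ 0 := by
    rintro rfl
    exact hφ₂n (Submodule.zero_mem _)
  -- `Z φ = B` for `φ ∈ Φ`, `φ ≠ 0`
  have hZφ : ∀ φ ∈ Φ, φ ≠ 0 → (mulZ B Φ).map (LinearMap.mulRight F φ) = B := by
    intro φ hφ hφ0
    apply Submodule.eq_of_le_of_finrank_le
    · rintro _ ⟨a, ha, rfl⟩
      exact ha φ hφ
    · have hinj : Function.Injective (LinearMap.mulRight F φ) := by
        intro a a' haa'
        simp only [LinearMap.mulRight_apply] at haa'
        exact mul_right_cancel₀ hφ0 haa'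
      rw [← (Submodule.equivMapOfInjective (LinearMap.mulRight F φ) hinj (mulZ B Φ)).finrank_eq, hB]
      exact h3
  have hx : ∀ z ∈ mulZ B Φ, z * (φ₂ / φ₁) ∈ mulZ B Φ := by
    intro z hz
    have h1 : z * φ₂ ∈ B := hz φ₂ hφ₂
    rw [← hZφ φ₁ hφ₁ hφ₁0] at h1
    obtain ⟨z', hz', hzz'⟩ := h1
    simp only [LinearMap.mulRight_apply] at hzz'
    have : z * (φ₂ / φ₁) = z' := by
      rw [← mul_div_assoc, ← hzz', mul_div_assoc, div_self hφ₁0, mul_one]
    rw [this]
    exact hz'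
  have hxS : φ₂ / φ₁ ∈ stabAlg (mulZ B Φ) := hx
  have hprime : (finrank F E).Prime := by rw [hr5]; norm_num
  have hsimple := Subalgebra.isSimpleOrder_of_finrank_prime F E hprime
  have htop : stabAlg (mulZ B Φ) = ⊤ := by
    rcases hsimple.eq_bot_or_eq_top (stabAlg (mulZ B Φ)) with h | h
    · exfalso
      rw [h, Algebra.mem_bot] at hxS
      obtain ⟨c, hc⟩ := hxS
      apply hφ₂n
      rw [Submodule.mem_span_singleton]
      refine ⟨c, ?_⟩
      rw [Algebra.smul_def, hc, div_mul_cancel₀ _ hφ₁0]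
    · exact h
  have hZ0 : mulZ B Φ ≠ ⊥ := by
    intro h
    rw [h, finrank_bot] at h3
    omega
  obtain ⟨z, hz, hz0⟩ := Submodule.exists_mem_ne_zero_of_ne_bot hZ0
  have hall : ∀ e : E, e ∈ mulZ B Φ := by
    intro e
    have h1 : z⁻¹ * e ∈ stabAlg (mulZ B Φ) := by rw [htop]; exact Algebra.mem_top
    have h2 := h1 z hz
    rwa [mul_inv_cancel_left₀ hz0] at h2
  have hBtop : B = ⊤ := by
    rw [eq_top_iff]
    intro e _
    have h1 := hall (e / φ₁) φ₁ hφ₁
    rwa [div_mul_cancel₀ _ hφ₁0] at h1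
  rw [hBtop, finrank_top, hr5] at hB
  omega

/-- at most `q ^ 2` skew elements `a` with `a Φ ≤ B` -/
theorem card_skew_mulZ_le (S : KU n q F E) (hF : Fintype.card F = q ^ 2) [FiniteDimensional F E]
    (hr5 : finrank F E = 5) (B Φ : Submodule F E) (hB : finrank F B = 3) (hΦ : finrank F Φ = 2) :
    Nat.card {a : E // S.st a = -a ∧ a ∈ mulZ B Φ} ≤ q ^ 2 := by
  have : Finite E := Module.finite_of_finite F
  obtain ⟨θ, hθ⟩ := Cfsg.Agent.Lib.Helper12.C3uLeaf.exists_pow_ne hF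
  have hθ' : θ - θ ^ q ≠ 0 := by
    intro h0
    exact hθ ((sub_eq_zero.mp h0).symm)
  have hq0 : 0 < q := by
    rcases Nat.eq_zero_or_pos q with h | h
    · rw [h] at hF
      have : 0 < Fintype.card F := Fintype.card_pos
      omega
    · exact h
  have hinj : Function.Injective
      (fun p : {a : E // S.st a = -a ∧ a ∈ mulZ B Φ} × {a : E // S.st a = -a ∧ a ∈ mulZ B Φ} =>
        (⟨p.1.1 + θ • p.2.1, (mulZ B Φ).add_mem p.1.2.2 ((mulZ B Φ).smul_mem θ p.2.2.2)⟩ :
          ↥(mulZ B Φ))) := by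
    rintro ⟨⟨a, ha, hma⟩, ⟨a', ha', hma'⟩⟩ ⟨⟨c, hc, hmc⟩, ⟨c', hc', hmc'⟩⟩ h
    have h0 : a + θ • a' = c + θ • c' := congrArg Subtype.val h
    have h1 : S.st (a + θ • a') = S.st (c + θ • c') := by rw [h0]
    rw [map_add, map_add, Algebra.smul_def, Algebra.smul_def, map_mul, map_mul, S.st_alg, ha, ha', hc,
      hc', ← Algebra.smul_def, ← Algebra.smul_def] at h1
    have h2 : (θ - θ ^ q) • (a' - c') = 0 := by
      rw [sub_smul, smul_sub, smul_sub]
      have e1 : θ • a' - θ • c' = c - a := by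
        rw [sub_eq_sub_iff_add_eq_add]
        rw [add_comm (θ • a') a]
        exact h0
      have e2 : θ ^ q • a' - θ ^ q • c' = c - a := by
        rw [sub_eq_sub_iff_add_eq_add]
        have : -a + -(θ ^ q • a') = -c + -(θ ^ q • c') := by
          simpa only [smul_neg] using h1
        have h3 := congrArg (fun x => -x) this
        simp only [neg_add, neg_neg] at h3
        rw [add_comm (θ ^ q • a') a]
        exact h3
      rw [e1, e2, sub_self]
    have h3 : a' = c' := by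
      rcases smul_eq_zero.mp h2 with h | h
      · exact absurd h hθ'
      · exact sub_eq_zero.mp h
    subst h3
    have h4 : a = c := add_right_cancel h0
    subst h4
    rfl
  have h1 := Nat.card_le_card_of_injective _ hinj
  rw [Nat.card_prod] at h1
  have h2 : Nat.card ↥(mulZ B Φ) ≤ q ^ 2 * q ^ 2 := by
    rw [Module.natCard_eq_pow_finrank (K := F), Nat.card_eq_fintype_card, hF]
    calc (q ^ 2) ^ finrank F ↥(mulZ B Φ) ≤ (q ^ 2) ^ 2 :=
          Nat.pow_le_pow_right (by positivity) (finrank_mulZ_le hr5 B Φ hB hΦ)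
      _ = q ^ 2 * q ^ 2 := by ring
  by_contra hcon
  push Not at hcon
  have h3 := Nat.mul_self_lt_mul_self hcon
  omega

/-- **G3**, core: the bound KC3 as a hypothesis -/
theorem three_dichotomy_core (S : KU n q F E) (hF : Fintype.card F = q ^ 2) (hn : 0 < n)
    [FiniteDimensional F E] (hr5 : finrank F E = 5)
    (hK0 : Nat.card {z : E // S.st z = z ∧ S.τ z = 0} * q ≤ q ^ finrank F E)
    (B Φ : Submodule F E)
    (hB : finrank F B = 3) (hΦ : finrank F Φ = 2)
    (hperp : ∀ b ∈ B, ∀ φ ∈ Φ, S.τ (b * S.st φ) = 0) :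
    (∃ a : E, S.st a = -a ∧ smulSub a Φ ⊓ B ≠ ⊥ ∧ ¬ smulSub a Φ ≤ B) ∨
    (∀ φ ∈ Φ, φ ≠ 0 → ∀ z : E, S.st z = z → S.τ z = 0 →
      ∃ b ∈ B, b * S.st φ + S.st b * φ = z) := by
  have : Finite E := Module.finite_of_finite F
  by_contra hcon
  push Not at hcon
  obtain ⟨h1, φ₀, hφ₀, hφ₀0, z₀, hz₀, hτz₀, hno⟩ := hcon
  have hq0 : 0 < q := by
    rcases Nat.eq_zero_or_pos q with h | h
    · rw [h] at hF
      have : 0 < Fintype.card F := Fintype.card_pos
      omega
    · exact h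
  have hstφ₀ : S.st φ₀ ≠ 0 := fun h => hφ₀0 (by rw [← S.st_st φ₀, h, map_zero])
  -- the trace-zero hermitian elements
  let K0 : AddSubgroup E :=
    { carrier := {z | S.st z = z ∧ S.τ z = 0}
      add_mem' := by
        rintro a b ⟨ha, ha'⟩ ⟨hb, hb'⟩
        exact ⟨by rw [map_add, ha, hb], by rw [map_add, ha', hb', add_zero]⟩
      zero_mem' := ⟨map_zero _, map_zero _⟩
      neg_mem' := by
        rintro a ⟨ha, ha'⟩
        exact ⟨by rw [map_neg, ha], by rw [map_neg, ha', neg_zero]⟩ }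
  -- the additive map `b ↦ b φ₀* + b* φ₀`
  let η : ↥B →+ E :=
    { toFun := fun b => (b : E) * S.st φ₀ + S.st (b : E) * φ₀
      map_zero' := by simp
      map_add' := by
        intro b b'
        simp only [Submodule.coe_add, map_add]
        ring }
  have hηK : η.range ≤ K0 := by
    rintro _ ⟨b, rfl⟩
    show S.st ((b : E) * S.st φ₀ + S.st (b : E) * φ₀) = (b : E) * S.st φ₀ + S.st (b : E) * φ₀ ∧
      S.τ ((b : E) * S.st φ₀ + S.st (b : E) * φ₀) = 0
    have e1 : S.st ((b : E) * S.st φ₀) = S.st (b : E) * φ₀ := by rw [map_mul, S.st_st]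
    constructor
    · rw [map_add, e1, map_mul, S.st_st]
      exact add_comm _ _
    · rw [map_add, ← e1, S.τ_st, hperp b b.2 φ₀ hφ₀, zero_pow hq0.ne', add_zero]
  have hz₀K : z₀ ∈ K0 := ⟨hz₀, hτz₀⟩
  have hz₀r : z₀ ∉ η.range := by
    rintro ⟨b, hb⟩
    exact hno b b.2 hb
  -- cardinalities
  have hdvd : Nat.card ↥η.range ∣ Nat.card ↥K0 := AddSubgroup.card_dvd_of_le hηK
  have hlt : Nat.card ↥η.range < Nat.card ↥K0 := by
    have hss : (η.range : Set E) ⊂ (K0 : Set E) := by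
      refine ⟨hηK, fun h => hz₀r (h hz₀K)⟩
    exact Set.Finite.card_lt_card (Set.toFinite _) hss
  have hK0' : Nat.card ↥K0 * q ≤ q ^ 5 := by
    have e : Nat.card ↥K0 = Nat.card {z : E // S.st z = z ∧ S.τ z = 0} :=
      Nat.card_congr (Equiv.subtypeEquivRight (fun _ => Iff.rfl))
    rw [e, ← hr5]
    exact hK0
  have hkr : Nat.card ↥η.ker * Nat.card ↥η.range = (q ^ 2) ^ 3 := by
    rw [← AddSubgroup.index_ker, AddSubgroup.card_mul_index, Module.natCard_eq_pow_finrank (K := F),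
      Nat.card_eq_fintype_card, hF, hB]
  -- the kernel embeds into the skew multipliers
  have hker : Nat.card ↥η.ker ≤ q ^ 2 := by
    refine le_trans ?_ (card_skew_mulZ_le S hF hr5 B Φ hB hΦ)
    have hmem : ∀ b : ↥η.ker, S.st (((b : ↥B) : E) / φ₀) = -(((b : ↥B) : E) / φ₀) ∧
        ((b : ↥B) : E) / φ₀ ∈ mulZ B Φ := by
      rintro ⟨b, hb⟩
      have hb' : (b : E) * S.st φ₀ + S.st (b : E) * φ₀ = 0 := hb
      have hsk : S.st ((b : E) / φ₀) = -((b : E) / φ₀) := by
        rw [map_div₀, div_eq_iff hstφ₀, neg_mul, div_mul_eq_mul_div, eq_neg_iff_add_eq_zero,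
          ← eq_neg_iff_add_eq_zero, eq_comm, ← neg_div, div_eq_iff hφ₀0]
        linear_combination (-1 : E) * hb'
      refine ⟨hsk, ?_⟩
      by_cases hb0 : (b : E) = 0
      · show (b : E) / φ₀ ∈ mulZ B Φ
        rw [hb0, zero_div]
        exact (mulZ B Φ).zero_mem
      · have hle : smulSub ((b : E) / φ₀) Φ ≤ B := by
          apply h1 _ hsk
          intro hbot
          have hmem : (b : E) ∈ smulSub ((b : E) / φ₀) Φ ⊓ B := by
            refine ⟨mem_smulSub.mpr ⟨φ₀, hφ₀, div_mul_cancel₀ _ hφ₀0⟩, b.2⟩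
          rw [hbot, Submodule.mem_bot] at hmem
          exact hb0 hmem
        intro φ hφ
        exact hle (mem_smulSub.mpr ⟨φ, hφ, rfl⟩)
    refine Nat.card_le_card_of_injective
      (fun b : ↥η.ker => (⟨((b : ↥B) : E) / φ₀, hmem b⟩ :
        {a : E // S.st a = -a ∧ a ∈ mulZ B Φ})) ?_
    intro b b' hbb'
    have h2 : ((b : ↥B) : E) / φ₀ = ((b' : ↥B) : E) / φ₀ := congrArg Subtype.val hbb'
    have h3 : ((b : ↥B) : E) = ((b' : ↥B) : E) := by
      rw [div_left_inj' hφ₀0] at h2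
      exact h2
    exact Subtype.ext (Subtype.ext h3)
  -- arithmetic
  obtain ⟨i, hi⟩ := hdvd
  have hi2 : 2 ≤ i := by
    rcases Nat.lt_or_ge i 2 with h | h
    · interval_cases i
      · rw [hi, mul_zero] at hlt
        omega
      · rw [hi, mul_one] at hlt
        omega
    · exact h
  set k := Nat.card ↥η.ker with hk
  set r := Nat.card ↥η.range with hr
  set K := Nat.card ↥K0 with hK
  have hq2 : 0 < q ^ 2 := by positivity
  -- `q^6 = k r ≤ q^2 r`, so `q^4 ≤ r`
  have hr4 : q ^ 4 ≤ r := by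
    have h2 : (q ^ 2) ^ 3 ≤ q ^ 2 * r := by
      rw [← hkr]
      exact Nat.mul_le_mul_right r hker
    have h3 : q ^ 2 * q ^ 4 ≤ q ^ 2 * r := by
      calc q ^ 2 * q ^ 4 = (q ^ 2) ^ 3 := by ring
        _ ≤ q ^ 2 * r := h2
    exact Nat.le_of_mul_le_mul_left h3 hq2
  have h5 : 2 * q ^ 4 * q ≤ q ^ 5 := by
    calc 2 * q ^ 4 * q ≤ i * r * q := by
          exact Nat.mul_le_mul_right q (Nat.mul_le_mul hi2 hr4)
      _ = K * q := by rw [hi]; ring
      _ ≤ q ^ 5 := hK0'
  have h6 : 2 * q ^ 4 * q = 2 * q ^ 5 := by ring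
  have h7 : 0 < q ^ 5 := by positivity
  omega

/-- **G3** `r = 5`, `dim B = 3`: either a growing skew `a`, or every trace-zero hermitian element is
`b φ* + b* φ` (`b ∈ B`) for every `φ ∈ Φ \ 0` -/
theorem three_dichotomy (S : KU n q F E) (hF : Fintype.card F = q ^ 2) (hn : 0 < n)
    [FiniteDimensional F E] (hr5 : finrank F E = 5) (B Φ : Submodule F E)
    (hB : finrank F B = 3) (hΦ : finrank F Φ = 2)
    (hperp : ∀ b ∈ B, ∀ φ ∈ Φ, S.τ (b * S.st φ) = 0) :
    (∃ a : E, S.st a = -a ∧ smulSub a Φ ⊓ B ≠ ⊥ ∧ ¬ smulSub a Φ ≤ B) ∨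
    (∀ φ ∈ Φ, φ ≠ 0 → ∀ z : E, S.st z = z → S.τ z = 0 →
      ∃ b ∈ B, b * S.st φ + S.st b * φ = z) :=
  three_dichotomy_core S hF hn hr5 (Cfsg.Agent.Lib.Helper27.C3qLeaf.card_K0_le S hF hn) B Φ hB hΦ hperp

end Cfsg.Agent.Lib.Helper17.C3qLeaf
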