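/-
helper17: Package A (part 1) of helper23's S4064 project (CTI-groups):
A1 `isCTI_subgroup`, A2 `isCTI_cn`, A3 `nilpotent_of_center_ne_bot`.
-/
import Cfsg.Agent.Lib.Helper23.CTIDefs
import Cfsg.Agent.S3937

set_option autoImplicit false

namespace Cfsg.Agent.Lib.Helper17.CTIA

open Cfsg Cfsg.Agent.Lib.Helper23.CTI

variable {G : Type*} [Group G]

theorem mem_cent_singleton {x y : G} : y ∈ Subgroup.centralizer ({x} : Set G) ↔ x * y = y * x := by
  rw [Subgroup.mem_centralizer_iff]
  constructor
  · intro h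
    exact h x rfl
  · rintro h _ rfl
    exact h

/-- the basic consequence of the CTI hypothesis -/
theorem cti_mem_normalizer (h : IsCTI G) {x y g : G}
    (hy : y ∈ Subgroup.centralizer ({x} : Set G)) (hy1 : y ≠ 1)
    (hg : g * y * g⁻¹ ∈ Subgroup.centralizer ({x} : Set G)) :
    g ∈ Subgroup.normalizer ((Subgroup.centralizer ({x} : Set G) : Subgroup G) : Set G) := by
  by_contra hn
  exact hy1 (h x g hn y hy hg)

/-- **A1**: subgroups of CTI-groups are CTI-groups. -/
theorem isCTI_subgroup (h : IsCTI G) (K : Subgroup G) : IsCTI K := by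
  intro x g hg y hy hgy
  by_contra hy1
  apply hg
  have hy' : (y : G) ∈ Subgroup.centralizer ({(x : G)} : Set G) := by
    rw [mem_cent_singleton]
    have := mem_cent_singleton.1 hy
    exact congrArg Subtype.val this
  have hgy' : (g : G) * y * (g : G)⁻¹ ∈ Subgroup.centralizer ({(x : G)} : Set G) := by
    rw [mem_cent_singleton]
    have := mem_cent_singleton.1 hgy
    exact congrArg Subtype.val this
  have hy1' : (y : G) ≠ 1 := fun e => hy1 (Subtype.ext e)
  have hn := cti_mem_normalizer h hy' hy1' hgy'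
  rw [Subgroup.mem_set_normalizer_iff] at hn ⊢
  intro n
  have := hn (n : G)
  rw [SetLike.mem_coe, SetLike.mem_coe, mem_cent_singleton, mem_cent_singleton] at this
  rw [SetLike.mem_coe, SetLike.mem_coe, mem_cent_singleton, mem_cent_singleton,
    Subtype.ext_iff, Subtype.ext_iff]
  exact this

/-- a finite group in which every element centralizer is normal is nilpotent (Baer). -/
theorem nilpotent_of_centralizers_normal {H : Type*} [Group H] [Finite H]
    (hN : ∀ y : H, (Subgroup.centralizer ({y} : Set H)).Normal) : Group.IsNilpotent H := by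
  have hF : Cfsg.fittingSubgroup H = ⊤ := by
    rw [eq_top_iff]
    intro g _
    rw [Cfsg.Agent.S3937.result]
    intro c
    refine ⟨2, ?_⟩
    have h1 : c * g * c⁻¹ ∈ Subgroup.centralizer ({g} : Set H) :=
      (hN g).conj_mem g (mem_cent_singleton.2 rfl) c
    have h2 : g * (c * g * c⁻¹) = (c * g * c⁻¹) * g := mem_cent_singleton.1 h1
    simp only [List.replicate, List.foldl]
    have h3 : (c * g * c⁻¹ * g⁻¹) * g = g * (c * g * c⁻¹ * g⁻¹) := by
      rw [inv_mul_cancel_right, ← mul_assoc, h2, mul_inv_cancel_right]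
    rw [h3, mul_inv_cancel_right, mul_inv_cancel]
  have hnil : Group.IsNilpotent (Cfsg.fittingSubgroup H) :=
    Cfsg.Agent.Lib.Helper1.fittingSubgroup_isNilpotent H
  rw [hF] at hnil
  exact Group.nilpotent_of_mulEquiv (Subgroup.topEquiv : (⊤ : Subgroup H) ≃* H)

/-- **A2**: in a finite CTI-group the centralizers of non-identity elements are nilpotent. -/
theorem isCTI_cn [Finite G] (h : IsCTI G) (x : G) (hx : x ≠ 1) :
    Group.IsNilpotent (Subgroup.centralizer ({x} : Set G)) := by
  apply nilpotent_of_centralizers_normal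
  intro y
  refine ⟨fun n hn c => ?_⟩
  -- `c ∈ C(x)` normalizes `C_G(y)` since `x ∈ C_G(y) ∩ C_G(y)^c`
  have hxy : x ∈ Subgroup.centralizer ({(y : G)} : Set G) := by
    rw [mem_cent_singleton]
    exact (mem_cent_singleton.1 y.2).symm
  have hcx : (c : G) * x * (c : G)⁻¹ ∈ Subgroup.centralizer ({(y : G)} : Set G) := by
    have : (c : G) * x * (c : G)⁻¹ = x := by
      rw [← mem_cent_singleton.1 c.2, mul_inv_cancel_right]
    rw [this]
    exact hxy
  have hnorm := cti_mem_normalizer h hxy hx hcx
  rw [Subgroup.mem_set_normalizer_iff] at hnorm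
  have hn' : (n : G) ∈ Subgroup.centralizer ({(y : G)} : Set G) := by
    rw [mem_cent_singleton]
    exact congrArg Subtype.val (mem_cent_singleton.1 hn)
  have := (hnorm (n : G)).1 hn'
  rw [SetLike.mem_coe, mem_cent_singleton] at this
  rw [mem_cent_singleton, Subtype.ext_iff]
  exact this

/-- **A3**: a finite CTI-group with nontrivial center is nilpotent. -/
theorem nilpotent_of_center_ne_bot [Finite G] (h : IsCTI G) (hZ : Subgroup.center G ≠ ⊥) :
    Group.IsNilpotent G := by
  obtain ⟨⟨z, hz⟩, hz1⟩ := (Subgroup.ne_bot_iff_exists_ne_one).1 hZ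
  have hz1' : z ≠ 1 := fun e => hz1 (Subtype.ext e)
  apply nilpotent_of_centralizers_normal
  intro y
  have hzy : z ∈ Subgroup.centralizer ({y} : Set G) := by
    rw [mem_cent_singleton]
    exact (Subgroup.mem_center_iff.1 hz y)
  refine ⟨fun n hn c => ?_⟩
  have hcz : c * z * c⁻¹ ∈ Subgroup.centralizer ({y} : Set G) := by
    have : c * z * c⁻¹ = z := by
      rw [Subgroup.mem_center_iff.1 hz c, mul_inv_cancel_right]
    rw [this]
    exact hzy
  have hnorm := cti_mem_normalizer h hzy hz1' hcz
  rw [Subgroup.mem_set_normalizer_iff] at hnorm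
  exact (hnorm n).1 hn

end Cfsg.Agent.Lib.Helper17.CTIA
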