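import Mathlib
import Cfsg.Agent.Lib.Helper5.USubB

/-!
S5659 (orthogonal-type subfield subgroup of `SU_n(q)`, `q` odd): the standing data `Setup`
(`|F| = q²`, `F₀` the subfield of order `q`, `q` odd, the standard unitary form takes values in
`F₀` on the rational vectors for `P`) and its basic consequences.
-/

set_option autoImplicit false
set_option linter.unusedSectionVars false
set_option linter.unusedVariables false
set_option linter.unusedSimpArgs false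

namespace Cfsg.Agent.Lib.Helper17.OSub
open Cfsg Matrix Cfsg.Agent.Lib.Helper5.SpMax
  Cfsg.Agent.Lib.Helper5.UForm Cfsg.Agent.Lib.Helper5.HermBridge
  Cfsg.Agent.Lib.Helper5.SUGen Cfsg.Agent.Lib.Helper5.SUMax Cfsg.Agent.Lib.Helper5.USub

variable {F : Type*} [Field F] [Fintype F] {q n : ℕ}

/-- the data of an orthogonal rational structure for the standard unitary form, `q` odd -/
structure Setup (hF : Fintype.card F = q ^ 2) (F₀ : Subfield F) (P : GL (Fin n) F) : Prop where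
  card : Nat.card F₀ = q
  odd : Odd q
  form : ∀ x y, IsRat F₀ P x → IsRat F₀ P y → Cfsg.hermForm n F q x y ∈ F₀

/-- `g` acts as the unitary transvection `x ↦ x + c h(x,z) z` -/
def IsTv (q : ℕ) (g : GL (Fin n) F) (z : Fin n → F) (c : F) : Prop :=
  ∀ x, (g : Matrix (Fin n) (Fin n) F) *ᵥ x = x + (c * Cfsg.hermForm n F q x z) • z

/-- `g` acts as the Siegel element
`x ↦ x + h(x,z) w - (h(x,w) + h(w,w) h(x,z) / 2) z` (`z` isotropic, `h(w,z) = 0`) -/
def IsSiegel (q : ℕ) (g : GL (Fin n) F) (z w : Fin n → F) : Prop :=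
  ∀ x, (g : Matrix (Fin n) (Fin n) F) *ᵥ x = x + Cfsg.hermForm n F q x z • w -
    (Cfsg.hermForm n F q x w +
      2⁻¹ * Cfsg.hermForm n F q w w * Cfsg.hermForm n F q x z) • z

/-- rational, non-zero and isotropic -/
def RS (q : ℕ) (F₀ : Subfield F) (P : GL (Fin n) F) (z : Fin n → F) : Prop :=
  IsRat F₀ P z ∧ z ≠ 0 ∧ Cfsg.hermForm n F q z z = 0

/-- no non-trivial unitary transvection of `M` has a rational isotropic centre -/
def NT (hF : Fintype.card F = q ^ 2) (F₀ : Subfield F) (P : GL (Fin n) F)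
    (M : Subgroup (GL (Fin n) F)) : Prop :=
  ∀ (z : Fin n → F) (c : F) (t : GL (Fin n) F), RS q F₀ P z →
    frobQ hF c = -c → IsTv q t z c → t ∈ M → c = 0

namespace Setup
variable {hF : Fintype.card F = q ^ 2} {F₀ : Subfield F} {P : GL (Fin n) F}
  (S : Setup hF F₀ P)
include S

lemma fix_iff (x : F) : x ∈ F₀ ↔ frobQ hF x = x := mem_iff hF F₀ S.card x

lemma two_ne_zero : (2 : F) ≠ 0 := by
  intro h2
  have hchar : ringChar F = 2 :=
    CharP.ringChar_of_prime_eq_zero Nat.prime_two (by exact_mod_cast h2)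
  have hev := FiniteField.even_card_iff_char_two.mp hchar
  rw [hF] at hev
  obtain ⟨m, hm⟩ := S.odd
  have : (q ^ 2) % 2 = 1 := by
    rw [hm, Nat.pow_mod]
    norm_num [Nat.add_mod, Nat.mul_mod]
  omega

lemma sym {x y : Fin n → F} (hx : IsRat F₀ P x) (hy : IsRat F₀ P y) :
    Cfsg.hermForm n F q y x = Cfsg.hermForm n F q x y := by
  have hf := herm_unitary (n := n) hF
  rw [hf.herm y x, ← S.fix_iff]
  exact S.form x y hx hy

lemma exists_zeta : ∃ ζ : F, ζ ≠ 0 ∧ frobQ hF ζ = -ζ := by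
  have hf := herm_unitary (n := n) hF
  exact exists_skew hf.involutive hf.ne_refl

lemma zeta_moved {ζ : F} (hζ0 : ζ ≠ 0) (hζ : frobQ hF ζ = -ζ) : frobQ hF ζ ≠ ζ := by
  intro h
  rw [hζ] at h
  have : (2 : F) * ζ = 0 := by linear_combination -h
  rcases mul_eq_zero.mp this with h2 | h2
  · exact S.two_ne_zero h2
  · exact hζ0 h2

lemma decomp_vec {ω : F} (hω : frobQ hF ω ≠ ω) (x : Fin n → F) :
    ∃ x₁ x₂ : Fin n → F, IsRat F₀ P x₁ ∧ IsRat F₀ P x₂ ∧ x = x₁ + ω • x₂ := by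
  have h := fun i => decomp_field hF F₀ S.card hω
    ((((P⁻¹ : GL (Fin n) F) : Matrix (Fin n) (Fin n) F) *ᵥ x) i)
  choose α β hα hβ hαβ using h
  refine ⟨(P : Matrix (Fin n) (Fin n) F) *ᵥ α, (P : Matrix (Fin n) (Fin n) F) *ᵥ β,
    isRat_mulVec hα, isRat_mulVec hβ, ?_⟩
  have h1 : ((P⁻¹ : GL (Fin n) F) : Matrix (Fin n) (Fin n) F) *ᵥ x = α + ω • β := by
    funext i
    rw [hαβ i]
    simp
  calc x = (P : Matrix (Fin n) (Fin n) F) *ᵥ
        (((P⁻¹ : GL (Fin n) F) : Matrix (Fin n) (Fin n) F) *ᵥ x) := (mul_inv_mulVec P x).symm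
    _ = _ := by rw [h1, Matrix.mulVec_add, Matrix.mulVec_smul]

lemma field_unique {ω : F} (hω : frobQ hF ω ≠ ω) {α β : F} (hα : α ∈ F₀) (hβ : β ∈ F₀)
    (h : α + ω * β = 0) : α = 0 ∧ β = 0 := by
  have hβ0 : β = 0 := by
    by_contra hβ0
    apply hω
    have : ω = -α / β := by
      rw [eq_div_iff hβ0]
      linear_combination h
    rw [← S.fix_iff, this]
    exact F₀.div_mem (F₀.neg_mem hα) hβ
  refine ⟨?_, hβ0⟩
  rw [hβ0, mul_zero, add_zero] at h
  exact h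

lemma decomp_unique {ω : F} (hω : frobQ hF ω ≠ ω) {d₁ d₂ : Fin n → F} (h₁ : IsRat F₀ P d₁)
    (h₂ : IsRat F₀ P d₂) (h : d₁ + ω • d₂ = 0) : d₁ = 0 ∧ d₂ = 0 := by
  have h1 : ((P⁻¹ : GL (Fin n) F) : Matrix (Fin n) (Fin n) F) *ᵥ d₁ +
      ω • (((P⁻¹ : GL (Fin n) F) : Matrix (Fin n) (Fin n) F) *ᵥ d₂) = 0 := by
    rw [← Matrix.mulVec_smul, ← Matrix.mulVec_add, h, Matrix.mulVec_zero]
  have h2 : ∀ i, (((P⁻¹ : GL (Fin n) F) : Matrix (Fin n) (Fin n) F) *ᵥ d₁) i = 0 ∧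
      (((P⁻¹ : GL (Fin n) F) : Matrix (Fin n) (Fin n) F) *ᵥ d₂) i = 0 := fun i => by
    apply S.field_unique hω (h₁ i) (h₂ i)
    have := congrFun h1 i
    simpa using this
  have e1 : ((P⁻¹ : GL (Fin n) F) : Matrix (Fin n) (Fin n) F) *ᵥ d₁ = 0 :=
    funext fun i => (h2 i).1
  have e2 : ((P⁻¹ : GL (Fin n) F) : Matrix (Fin n) (Fin n) F) *ᵥ d₂ = 0 :=
    funext fun i => (h2 i).2
  refine ⟨?_, ?_⟩
  · rw [← mul_inv_mulVec P d₁, e1, Matrix.mulVec_zero]
  · rw [← mul_inv_mulVec P d₂, e2, Matrix.mulVec_zero]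

/-- the form is non-degenerate on the rational vectors -/
lemma nd {x : Fin n → F} (hx : IsRat F₀ P x) (hx0 : x ≠ 0) :
    ∃ p, IsRat F₀ P p ∧ Cfsg.hermForm n F q x p ≠ 0 := by
  have hf := herm_unitary (n := n) hF
  obtain ⟨ζ, hζ0, hζ⟩ := S.exists_zeta
  have hω := S.zeta_moved hζ0 hζ
  obtain ⟨y, hy⟩ := (hf.nondegenerate x hx0).2
  obtain ⟨y₁, y₂, h₁, h₂, rfl⟩ := S.decomp_vec hω y
  by_cases h1 : Cfsg.hermForm n F q x y₁ = 0
  · refine ⟨y₂, h₂, fun h2 => hy ?_⟩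
    rw [u_add_right hf, u_smul_right hf, h1, h2, mul_zero, add_zero]
  · exact ⟨y₁, h₁, h1⟩

/-- an element of `GU ⊓ SL` mapping rational vectors to rational vectors lies in the subfield
group -/
lemma mem_H_of_maps (hn : 0 < n) {g : GL (Fin n) F}
    (hg : g ∈ Cfsg.GU n F q ⊓ Cfsg.Geo.specialLinear (Fin n) F)
    (hmap : ∀ x, IsRat F₀ P x → IsRat F₀ P ((g : Matrix (Fin n) (Fin n) F) *ᵥ x)) :
    g ∈ Cfsg.Geo.subfieldSubgroup F₀ P ⊓
      (Cfsg.GU n F q ⊓ Cfsg.Geo.specialLinear (Fin n) F) :=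
  ⟨mem_subfield_of_maps hn g (fun x hx => ⟨1, _, hmap x hx, (one_smul _ _).symm⟩), hg⟩

end Setup

end Cfsg.Agent.Lib.Helper17.OSub
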