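import Mathlib
import Cfsg.Agent.Lib.Helper17.OSubDefs

/-!
S5659 leaf A1: Siegel elements exist in `SU`.  Also the rank-one building block `exists_rk1`.
-/

set_option autoImplicit false
set_option linter.unusedSectionVars false
set_option linter.unusedVariables false

namespace Cfsg.Agent.Lib.Helper17.OSubLeaf
open Cfsg Matrix Cfsg.Agent.Lib.Helper5.SpMax
  Cfsg.Agent.Lib.Helper5.UForm Cfsg.Agent.Lib.Helper5.HermBridge
  Cfsg.Agent.Lib.Helper5.SUGen Cfsg.Agent.Lib.Helper5.SUMax Cfsg.Agent.Lib.Helper5.USub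
  Cfsg.Agent.Lib.Helper17.OSub

variable {F : Type*} [Field F] [Fintype F] {q n : ℕ}

/-- the rank-one map `x ↦ x + h(x,b) a` with `h(a,b) = 0` as an element of `SL` inside `GL` -/
theorem exists_rk1 (a b : Fin n → F) (hab : Cfsg.hermForm n F q a b = 0) :
    ∃ g : GL (Fin n) F, g ∈ Cfsg.Geo.specialLinear (Fin n) F ∧
      ∀ x, (g : Matrix (Fin n) (Fin n) F) *ᵥ x = x + Cfsg.hermForm n F q x b • a := by
  have hdet : (1 + Matrix.vecMulVec a (fun j => b j ^ q) : Matrix (Fin n) (Fin n) F).det = 1 := by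
    rw [det_rank_one, pow_dot, hab, add_zero]
  refine ⟨Matrix.GeneralLinearGroup.mkOfDetNeZero _ (by rw [hdet]; exact one_ne_zero), ?_, ?_⟩
  · change Matrix.GeneralLinearGroup.det _ = 1
    apply Units.ext
    change (1 + Matrix.vecMulVec a (fun j => b j ^ q) : Matrix (Fin n) (Fin n) F).det = 1
    exact hdet
  · intro x
    change (1 + Matrix.vecMulVec a (fun j => b j ^ q) : Matrix (Fin n) (Fin n) F) *ᵥ x = _
    rw [Matrix.add_mulVec, Matrix.one_mulVec, Matrix.vecMulVec_mulVec, pow_dot]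
    congr 1
    ext i
    simp only [Pi.smul_apply, smul_eq_mul, MulOpposite.smul_eq_mul_unop, MulOpposite.unop_op]
    ring

/-- LEAF A1: Siegel elements exist in `SU`. -/
theorem exists_siegel (hF : Fintype.card F = q ^ 2) (h2 : (2 : F) ≠ 0) {z w : Fin n → F}
    (hzz : Cfsg.hermForm n F q z z = 0) (hwz : Cfsg.hermForm n F q w z = 0) :
    ∃ g : GL (Fin n) F, g ∈ Cfsg.GU n F q ⊓ Cfsg.Geo.specialLinear (Fin n) F ∧
      IsSiegel q g z w := by
  have hf := herm_unitary (n := n) hF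
  have hzw : Cfsg.hermForm n F q z w = 0 := u_symm_zero hf hwz
  have h2' : frobQ hF (2 : F) = 2 := map_ofNat (frobQ hF) 2
  have h2i : frobQ hF (2⁻¹ : F) = 2⁻¹ := by rw [map_inv₀, h2']
  have hκ : frobQ hF (Cfsg.hermForm n F q w w) = Cfsg.hermForm n F q w w := u_self_fixed hf w
  obtain ⟨κ, hκdef⟩ : ∃ κ, κ = Cfsg.hermForm n F q w w := ⟨_, rfl⟩
  rw [← hκdef] at hκ
  obtain ⟨gA, hgA, hA⟩ := exists_rk1 (q := q) w z hwz
  have hb0 : Cfsg.hermForm n F q z (-w + (2⁻¹ * κ) • z) = 0 := by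
    rw [u_add_right hf, u_neg_right hf, u_smul_right hf, hzw, hzz]; ring
  obtain ⟨gB, hgB, hB⟩ := exists_rk1 (q := q) z (-w + (2⁻¹ * κ) • z) hb0
  have hform : ∀ x, ((gB * gA : GL (Fin n) F) : Matrix (Fin n) (Fin n) F) *ᵥ x =
      x + Cfsg.hermForm n F q x z • w -
        (Cfsg.hermForm n F q x w + 2⁻¹ * κ * Cfsg.hermForm n F q x z) • z := by
    intro x
    rw [Units.val_mul, ← Matrix.mulVec_mulVec, hA, hB, hf.add_left, hf.smul_left,
      u_add_right hf, u_add_right hf, u_neg_right hf, u_neg_right hf, u_smul_right hf,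
      u_smul_right hf, ← hκdef, hwz, map_mul, h2i, hκ]
    have e : (Cfsg.hermForm n F q x w + 2⁻¹ * κ * Cfsg.hermForm n F q x z) =
        -(-Cfsg.hermForm n F q x w + 2⁻¹ * κ * Cfsg.hermForm n F q x z +
          Cfsg.hermForm n F q x z * (-κ + 2⁻¹ * κ * 0)) := by
      have h22 : (2 : F) * 2⁻¹ = 1 := mul_inv_cancel₀ h2
      linear_combination (κ * Cfsg.hermForm n F q x z) * h22
    rw [e]
    module
  have hGU : gB * gA ∈ Cfsg.GU n F q := by
    rw [mem_GU]
    intro x y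
    rw [hform, hform]
    simp only [hf.add_left, hf.smul_left, u_add_right hf, u_smul_right hf, u_sub_left hf,
      u_sub_right hf, map_add, map_mul, h2i, hκ, hzz, hwz, hzw, ← hκdef]
    rw [hf.herm z y, hf.herm w y]
    have h22 : (2 : F) * 2⁻¹ = 1 := mul_inv_cancel₀ h2
    linear_combination (-(κ * Cfsg.hermForm n F q x z * frobQ hF (Cfsg.hermForm n F q y z))) * h22
  refine ⟨gB * gA, ⟨hGU, (Cfsg.Geo.specialLinear (Fin n) F).mul_mem hgB hgA⟩, ?_⟩
  intro x
  rw [hform, hκdef]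

end Cfsg.Agent.Lib.Helper17.OSubLeaf
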