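import Mathlib
import Cfsg.Agent.Lib.Helper17.OSubDefs

/-!
S5659 leaves A2, A3: conjugation and rescaling of Siegel elements and transvections.
-/

set_option autoImplicit false
set_option linter.unusedSectionVars false
set_option linter.unusedVariables false

namespace Cfsg.Agent.Lib.Helper17.OSubLeaf
open Cfsg Matrix Cfsg.Agent.Lib.Helper5.SpMax
  Cfsg.Agent.Lib.Helper5.UForm Cfsg.Agent.Lib.Helper5.HermBridge
  Cfsg.Agent.Lib.Helper5.SUGen Cfsg.Agent.Lib.Helper5.SUMax Cfsg.Agent.Lib.Helper5.USub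
  Cfsg.Agent.Lib.Helper17.OSub

variable {F : Type*} [Field F] [Fintype F] {q n : ℕ}

omit [Fintype F] in
lemma form_inv {g : GL (Fin n) F} (hg : g ∈ Cfsg.GU n F q) (x y : Fin n → F) :
    Cfsg.hermForm n F q (((g⁻¹ : GL (Fin n) F) : Matrix (Fin n) (Fin n) F) *ᵥ x) y =
      Cfsg.hermForm n F q x ((g : Matrix (Fin n) (Fin n) F) *ᵥ y) := by
  have := mem_GU.mp hg (((g⁻¹ : GL (Fin n) F) : Matrix (Fin n) (Fin n) F) *ᵥ x) y
  rw [mul_inv_mulVec] at this
  exact this.symm

omit [Fintype F] in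
lemma conj_mulVec (g E : GL (Fin n) F) (x : Fin n → F) :
    ((g * E * g⁻¹ : GL (Fin n) F) : Matrix (Fin n) (Fin n) F) *ᵥ x =
      (g : Matrix (Fin n) (Fin n) F) *ᵥ ((E : Matrix (Fin n) (Fin n) F) *ᵥ
        (((g⁻¹ : GL (Fin n) F) : Matrix (Fin n) (Fin n) F) *ᵥ x)) := by
  rw [Units.val_mul, Units.val_mul, ← Matrix.mulVec_mulVec, ← Matrix.mulVec_mulVec]

/-- LEAF A2: conjugation of Siegel elements and of transvections. -/
theorem siegel_conj (hF : Fintype.card F = q ^ 2) {g E : GL (Fin n) F} {z w : Fin n → F}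
    (hg : g ∈ Cfsg.GU n F q) (hE : IsSiegel q E z w) :
    IsSiegel q (g * E * g⁻¹) ((g : Matrix (Fin n) (Fin n) F) *ᵥ z)
      ((g : Matrix (Fin n) (Fin n) F) *ᵥ w) := by
  intro x
  rw [conj_mulVec, hE, Matrix.mulVec_sub, Matrix.mulVec_add, Matrix.mulVec_smul,
    Matrix.mulVec_smul, mul_inv_mulVec, form_inv hg, form_inv hg, mem_GU.mp hg w w]

theorem tv_conj (hF : Fintype.card F = q ^ 2) {g t : GL (Fin n) F} {z : Fin n → F} {c : F}
    (hg : g ∈ Cfsg.GU n F q) (ht : IsTv q t z c) :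
    IsTv q (g * t * g⁻¹) ((g : Matrix (Fin n) (Fin n) F) *ᵥ z) c := by
  intro x
  rw [conj_mulVec, ht, Matrix.mulVec_add, Matrix.mulVec_smul, mul_inv_mulVec, form_inv hg]

/-- LEAF A3: rescaling the centre. -/
theorem tv_smul (hF : Fintype.card F = q ^ 2) {t : GL (Fin n) F} {z : Fin n → F} {c l : F}
    (ht : IsTv q t (l • z) c) : IsTv q t z (c * (l * frobQ hF l)) := by
  have hf := herm_unitary (n := n) hF
  intro x
  rw [ht, u_smul_right hf, smul_smul]
  congr 2
  ring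

theorem siegel_smul (hF : Fintype.card F = q ^ 2) {g : GL (Fin n) F} {z w : Fin n → F} {l : F}
    (hg : IsSiegel q g (l • z) w) : IsSiegel q g z (frobQ hF l • w) := by
  have hf := herm_unitary (n := n) hF
  intro x
  rw [hg, u_smul_right hf, u_smul_right hf, hf.smul_left, u_smul_right hf, hf.involutive,
    smul_smul, smul_smul]
  congr 1
  · rw [mul_comm]
  · congr 1
    ring

end Cfsg.Agent.Lib.Helper17.OSubLeaf
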