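import Mathlib
import Cfsg.Agent.Lib.Helper17.OSubDefs

/-!
S5659 leaf B4: rational Siegel elements lie in the subfield group.
-/

set_option autoImplicit false
set_option linter.unusedSectionVars false
set_option linter.unusedVariables false

namespace Cfsg.Agent.Lib.Helper17.OSubLeaf
open Cfsg Matrix Cfsg.Agent.Lib.Helper5.SpMax
  Cfsg.Agent.Lib.Helper5.UForm Cfsg.Agent.Lib.Helper5.HermBridge
  Cfsg.Agent.Lib.Helper5.SUGen Cfsg.Agent.Lib.Helper5.SUMax Cfsg.Agent.Lib.Helper5.USub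
  Cfsg.Agent.Lib.Helper17.OSub

variable {F : Type*} [Field F] [Fintype F] {q n : ℕ}

section Rat
variable {hF : Fintype.card F = q ^ 2} {F₀ : Subfield F} {P : GL (Fin n) F}
  (S : Setup hF F₀ P)
include S

omit [Fintype F] S in
lemma two_inv_mem (F₀ : Subfield F) : (2⁻¹ : F) ∈ F₀ := by
  apply F₀.inv_mem
  have : (2 : F) = ((2 : ℕ) : F) := by norm_num
  rw [this]
  exact natCast_mem F₀ 2

/-- LEAF B4: rational Siegel elements lie in the subfield group. -/
theorem siegel_mem_H (hn : 0 < n) {g : GL (Fin n) F} {z w : Fin n → F}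
    (hz : IsRat F₀ P z) (hw : IsRat F₀ P w)
    (hg : g ∈ Cfsg.GU n F q ⊓ Cfsg.Geo.specialLinear (Fin n) F) (hs : IsSiegel q g z w) :
    g ∈ Cfsg.Geo.subfieldSubgroup F₀ P ⊓
      (Cfsg.GU n F q ⊓ Cfsg.Geo.specialLinear (Fin n) F) := by
  apply S.mem_H_of_maps hn hg
  intro x hx
  rw [hs]
  refine isRat_sub (isRat_add hx (isRat_smul (S.form x z hx hz) hw)) (isRat_smul ?_ hz)
  exact F₀.add_mem (S.form x w hx hw)
    (F₀.mul_mem (F₀.mul_mem (two_inv_mem F₀) (S.form w w hw hw)) (S.form x z hx hz))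

end Rat

end Cfsg.Agent.Lib.Helper17.OSubLeaf
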