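import Mathlib
import Cfsg.Prelude.Def_PLocal
import Cfsg.Prelude.Def_TwoFusion
import Cfsg.Agent.Lib.Helper27.ZJ4

/-!
# Glauberman's ZJ-theorem for strongly closed subgroups (generic form)

Adaptation of helper27's generic ZJ-theorem (`Lib/Helper27/ZJ2`, `ZJ4`) to a subgroup `D` of a Sylow
`p`-subgroup `S` that is strongly closed in `S` with respect to `G`: `W_𝔛(D)` is normal in `G`.
-/

set_option autoImplicit false
open scoped commutatorElement

namespace Cfsg.Agent.Lib.Helper17

open Cfsg.Agent.Lib.Helper27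

section main

variable {G : Type*} [Group G] [Finite G] {p : ℕ} [Fact p.Prime] {𝔛 : Subgroup G → Prop}

theorem stronglyClosed_le_normalizer {D S : Subgroup G} (hD : Cfsg.IsStronglyClosed D S) :
    S ≤ Subgroup.normalizer (D : Set G) := by
  intro s hs
  apply Subgroup.mem_normalizer_fintype
  intro x hx
  exact hD.2 x hx s (S.mul_mem (S.mul_mem hs (hD.1 hx)) (S.inv_mem hs))

/-- a strongly closed subgroup meets a normal subgroup contained in `S` in a normal subgroup -/
theorem stronglyClosed_inf_normal {D S : Subgroup G} (hD : Cfsg.IsStronglyClosed D S)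
    (B : Subgroup G) [hBn : B.Normal] (hBS : B ≤ S) : (B ⊓ D).Normal := by
  refine ⟨fun x hx g => ⟨hBn.conj_mem x hx.1 g, ?_⟩⟩
  exact hD.2 x hx.2 g (hBS (hBn.conj_mem x hx.1 g))

/-- `W(D ∩ K) ∩ B` is normal in `G` for `K = kSub p B`, `D` strongly closed in `S`. -/
theorem wSubD_inf_kSub_normal (h𝔛 : GoodClass 𝔛) (S : Sylow p G) (D : Subgroup G)
    (hD : Cfsg.IsStronglyClosed D (S : Subgroup G)) (B : Subgroup G) [hBn : B.Normal] :
    (wSub 𝔛 (D ⊓ kSub p B) ⊓ B).Normal := by
  rw [← Subgroup.normalizer_eq_top_iff]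
  have hBN : Subgroup.normalizer (B : Set G) = ⊤ := Subgroup.normalizer_eq_top_iff.mpr hBn
  have h0 : Subgroup.normalizer ((((S : Subgroup G) ⊓ kSub p B : Subgroup G)) : Set G) ≤
      Subgroup.normalizer (((D ⊓ kSub p B : Subgroup G)) : Set G) := by
    intro n hn
    apply Subgroup.mem_normalizer_fintype
    intro x hx
    have h1 : n * x * n⁻¹ ∈ (S : Subgroup G) ⊓ kSub p B :=
      (Subgroup.mem_normalizer_iff.mp hn x).mp ⟨hD.1 hx.1, hx.2⟩
    exact ⟨hD.2 x hx.1 n h1.1, h1.2⟩
  have h1 : Subgroup.normalizer ((((S : Subgroup G) ⊓ kSub p B : Subgroup G)) : Set G) ≤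
      Subgroup.normalizer ((wSub 𝔛 (D ⊓ kSub p B) ⊓ B : Subgroup G) : Set G) := by
    intro n hn
    have hnW := normalizer_le_normalizer_wSub h𝔛 _ (h0 hn)
    have hnB : n ∈ Subgroup.normalizer (B : Set G) := by rw [hBN]; exact Subgroup.mem_top n
    rw [Subgroup.mem_normalizer_iff] at hnW hnB ⊢
    intro x
    rw [Subgroup.mem_inf, Subgroup.mem_inf, ← hnW x, ← hnB x]
  have h2 : Subgroup.centralizer (B : Set G) ≤
      Subgroup.normalizer ((wSub 𝔛 (D ⊓ kSub p B) ⊓ B : Subgroup G) : Set G) := by
    intro c hc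
    apply Subgroup.mem_normalizer_fintype
    intro x hx
    have hcx := (Subgroup.mem_centralizer_iff.mp hc) x hx.2
    have : c * x * c⁻¹ = x := by
      calc c * x * c⁻¹ = (x * c) * c⁻¹ := by rw [hcx]
        _ = x := by group
    rw [this]; exact hx
  have h3 : (Subgroup.normalizer ((((S : Subgroup G) ⊓ kSub p B : Subgroup G)) : Set G)) ⊔
      Subgroup.centralizer (B : Set G) = ⊤ := by
    have hF := frattini_inf S (kSub p B)
    rw [eq_top_iff, ← hF]
    apply sup_le le_sup_left
    refine (kSub_le_sup S B).trans (sup_le ?_ le_sup_right)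
    exact Subgroup.le_normalizer.trans le_sup_left
  rw [eq_top_iff, ← h3]
  exact sup_le h1 h2

theorem wSubD_inf_normal (h𝔛 : GoodClass 𝔛) (S : Sylow p G) (D : Subgroup G)
    (hD : Cfsg.IsStronglyClosed D (S : Subgroup G)) (GR : ReplHyp 𝔛 D)
    (hq : QuadHyp p (S : Subgroup G)) :
    ∀ (n : ℕ) (B : Subgroup G) [B.Normal], IsPGroup p B → B ≤ D → Nat.card B ≤ n →
      (wSub 𝔛 D ⊓ B).Normal := by
  classical
  intro n
  induction n with
  | zero =>
    intro B _ _ _ hcard
    have := Nat.card_pos (α := B)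
    omega
  | succ n ih =>
    intro B hBn hB hBD hcard
    have hDNW : D ≤ Subgroup.normalizer (wSub 𝔛 D : Set G) :=
      Subgroup.le_normalizer.trans (normalizer_le_normalizer_wSub h𝔛 _)
    -- B₁ = normal closure of X
    have hB₁le : Subgroup.normalClosure ((wSub 𝔛 D ⊓ B : Subgroup G) : Set G) ≤ B :=
      Subgroup.normalClosure_le_normal (fun x hx => hx.2)
    have hXB₁ : wSub 𝔛 D ⊓ B ≤
        Subgroup.normalClosure ((wSub 𝔛 D ⊓ B : Subgroup G) : Set G) :=
      Subgroup.subset_normalClosure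
    by_cases hB₁ : Subgroup.normalClosure ((wSub 𝔛 D ⊓ B : Subgroup G) : Set G) = B
    swap
    · -- proper normal closure: use induction
      have hlt : Nat.card ↥(Subgroup.normalClosure
          ((wSub 𝔛 D ⊓ B : Subgroup G) : Set G)) < Nat.card B := by
        by_contra hge
        push Not at hge
        exact hB₁ (Subgroup.eq_of_le_of_card_ge hB₁le hge)
      have hN := ih (Subgroup.normalClosure ((wSub 𝔛 D ⊓ B : Subgroup G) : Set G))
        (hB.to_le hB₁le) (hB₁le.trans hBD) (by omega)
      have heq : wSub 𝔛 D ⊓ B = wSub 𝔛 D ⊓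
          Subgroup.normalClosure ((wSub 𝔛 D ⊓ B : Subgroup G) : Set G) :=
        le_antisymm (le_inf inf_le_left hXB₁) (inf_le_inf_left _ hB₁le)
      rw [heq]; exact hN
    · by_cases hBbot : B = ⊥
      · rw [hBbot, inf_bot_eq]; infer_instance
      · -- B' = [B,B] < B
        have hB'lt : ⁅B, B⁆ < B := commutator_lt_of_isPGroup hB hBbot
        have hB'card : Nat.card ↥⁅B, B⁆ ≤ n := by
          have : Nat.card ↥⁅B, B⁆ < Nat.card B := by
            by_contra hge
            push Not at hge
            exact hB'lt.ne (Subgroup.eq_of_le_of_card_ge hB'lt.le hge)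
          omega
        have hY : (wSub 𝔛 D ⊓ ⁅B, B⁆).Normal :=
          ih ⁅B, B⁆ (hB.to_le hB'lt.le) (hB'lt.le.trans hBD) hB'card
        -- Claim 1/2: [B,B] ≤ Y
        have hBBY : ⁅B, B⁆ ≤ wSub 𝔛 D ⊓ ⁅B, B⁆ := by
          -- H = {g | ∀ v ∈ B, ⁅g,v⁆ ∈ Y} is a normal subgroup containing X
          let H : Subgroup G :=
            { carrier := {g | ∀ v ∈ B, ⁅g, v⁆ ∈ wSub 𝔛 D ⊓ ⁅B, B⁆}
              one_mem' := by
                intro v _
                rw [commutatorElement_one_left]; exact Subgroup.one_mem _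
              mul_mem' := by
                intro g k hg hk v hv
                have h1 : ⁅g * k, v⁆ = g * ⁅k, v⁆ * g⁻¹ * ⁅g, v⁆ := by
                  simp only [commutatorElement_def]; group
                rw [h1]
                exact Subgroup.mul_mem _ (hY.conj_mem _ (hk v hv) g) (hg v hv)
              inv_mem' := by
                intro g hg v hv
                have h1 : ⁅g⁻¹, v⁆ = g⁻¹ * ⁅g, v⁆⁻¹ * g⁻¹⁻¹ := by
                  simp only [commutatorElement_def]; group
                rw [h1]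
                exact hY.conj_mem _ (Subgroup.inv_mem _ (hg v hv)) g⁻¹ }
          have hHn : H.Normal := by
            refine ⟨fun g hg t v hv => ?_⟩
            have h1 : ⁅t * g * t⁻¹, v⁆ = t * ⁅g, t⁻¹ * v * t⁻¹⁻¹⁆ * t⁻¹ := by
              simp only [commutatorElement_def]; group
            rw [h1]
            exact hY.conj_mem _ (hg _ (hBn.conj_mem v hv t⁻¹)) t
          have hXH : ((wSub 𝔛 D ⊓ B : Subgroup G) : Set G) ⊆ H := by
            intro x hx v hv
            refine ⟨?_, Subgroup.commutator_mem_commutator hx.2 hv⟩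
            have hvN := hDNW (hBD hv)
            have h1 : ⁅x, v⁆ = x * (v * x⁻¹ * v⁻¹) := by
              simp only [commutatorElement_def]; group
            rw [h1]
            exact Subgroup.mul_mem _ hx.1
              ((Subgroup.mem_normalizer_iff.mp hvN x⁻¹).mp (Subgroup.inv_mem _ hx.1))
          have hBH : B ≤ H := by
            rw [← hB₁]
            exact Subgroup.normalClosure_le_normal hXH
          rw [Subgroup.commutator_le]
          intro g hg v hv
          exact hBH hg v hv
        have hBBW : ⁅B, B⁆ ≤ wSub 𝔛 D := hBBY.trans inf_le_left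
        -- Claim 4
        have hDB : D ≤ Subgroup.normalizer (B : Set G) := by
          rw [Subgroup.normalizer_eq_top_iff.mpr hBn]; exact le_top
        have hall : ∀ A ∈ maxIn 𝔛 D, A ≤ kSub p B := by
          by_contra hcon
          push Not at hcon
          have hfin : {A : Subgroup G | A ∈ maxIn 𝔛 D ∧ ¬ A ≤ kSub p B}.Finite :=
            Set.toFinite _
          obtain ⟨A₀, hA₀⟩ := hcon
          obtain ⟨A, hA, hmax⟩ := Set.exists_max_image _
            (fun A : Subgroup G => Nat.card ↥(A ⊓ B)) hfin ⟨A₀, hA₀⟩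
          have hAab : AbSub A := h𝔛.ab A hA.1.2.1
          have hnotN : ¬ B ≤ Subgroup.normalizer (A : Set G) := by
            intro hle
            apply hA.2
            apply hq B hB A (hA.1.1.trans hD.1) hAab
            intro a ha b hb
            have h1 : ⁅b, a⁆ = (b * a * b⁻¹) * a⁻¹ := by simp only [commutatorElement_def]
            rw [h1]
            exact A.mul_mem ((Subgroup.mem_normalizer_iff.mp (hle hb) a).mp ha) (A.inv_mem ha)
          obtain ⟨A', hA', hlt, hA'N⟩ := GR A hA.1 B hBD hDB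
            (hBBW.trans (wSub_le_of_mem_maxIn h𝔛 hA.1)) hnotN
          have hA'K : A' ≤ kSub p B := by
            by_contra hnK
            have := hmax A' ⟨hA', hnK⟩
            exact hlt.ne (Subgroup.eq_of_le_of_card_ge hlt.le this)
          have hA'T : A' ≤ D ⊓ kSub p B := le_inf hA'.1 hA'K
          have hWW : wSub 𝔛 D ≤ wSub 𝔛 (D ⊓ kSub p B) :=
            wSub_le_wSub_of_mem h𝔛 hA' hA'T inf_le_left
          have hNT := wSubD_inf_kSub_normal h𝔛 S D hD B
          have hBle : B ≤ wSub 𝔛 (D ⊓ kSub p B) ⊓ B := by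
            have hcl : Subgroup.normalClosure
                ((wSub 𝔛 D ⊓ B : Subgroup G) : Set G) ≤
                wSub 𝔛 (D ⊓ kSub p B) ⊓ B := by
              apply Subgroup.normalClosure_le_normal
              intro x hx
              exact ⟨hWW hx.1, hx.2⟩
            exact (le_of_eq hB₁.symm).trans hcl
          have hBA' : B ≤ A' :=
            (hBle.trans inf_le_left).trans
              (wSub_le_of_mem_maxIn h𝔛 (mem_maxIn_of_le hA' hA'T inf_le_left))
          apply hA.2
          apply hq B hB A (hA.1.1.trans hD.1) hAab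
          intro a ha b hb
          have h1 : ⁅b, a⁆ = (b * a * b⁻¹) * a⁻¹ := by simp only [commutatorElement_def]
          rw [h1]
          exact A.mul_mem ((Subgroup.mem_normalizer_iff.mp (hA'N (hBA' hb)) a).mp ha)
            (A.inv_mem ha)
        -- Claim 5
        have hWeq : wSub 𝔛 (D ⊓ kSub p B) = wSub 𝔛 D :=
          wSub_eq_of_forall_le h𝔛 (fun A hA => le_inf hA.1 (hall A hA)) inf_le_left
        rw [← hWeq]
        exact wSubD_inf_kSub_normal h𝔛 S D hD B

/-- Generic ZJ-theorem for a strongly closed subgroup: `W_𝔛(D)` is normal. -/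
theorem wSubD_normal (h𝔛 : GoodClass 𝔛) (S : Sylow p G) (D : Subgroup G)
    (hD : Cfsg.IsStronglyClosed D (S : Subgroup G)) (GR : ReplHyp 𝔛 D)
    (hc : Subgroup.centralizer (Cfsg.pCore p G : Set G) ≤ Cfsg.pCore p G)
    (hq : QuadHyp p (S : Subgroup G)) :
    (wSub 𝔛 D).Normal := by
  haveI hOn : (Cfsg.pCore p G).Normal := pCore_normal p G
  have hO : IsPGroup p (Cfsg.pCore p G) := pCore_isPGroup p G
  have hOS : Cfsg.pCore p G ≤ (S : Subgroup G) := hO.le_sylow_of_normal S
  have hSNW : (S : Subgroup G) ≤ Subgroup.normalizer (wSub 𝔛 D : Set G) :=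
    (stronglyClosed_le_normalizer hD).trans (normalizer_le_normalizer_wSub h𝔛 _)
  have h1 : wSub 𝔛 D ≤ kSub p (Cfsg.pCore p G) := by
    apply hq (Cfsg.pCore p G) hO _ ((wSub_le _).trans hD.1) (abSub_wSub h𝔛 _)
    intro a ha b hb
    have h1 : ⁅b, a⁆ = (b * a * b⁻¹) * a⁻¹ := by simp only [commutatorElement_def]
    rw [h1]
    exact Subgroup.mul_mem _ ((Subgroup.mem_normalizer_iff.mp (hSNW (hOS hb)) a).mp ha)
      (Subgroup.inv_mem _ ha)
  have h2 : kSub p (Cfsg.pCore p G) ≤ Cfsg.pCore p G :=
    le_pCore (kSub_normal p _) (isPGroup_kSub _ (hO.to_le hc))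
  haveI hB₀n : (Cfsg.pCore p G ⊓ D).Normal := stronglyClosed_inf_normal hD _ hOS
  have h3 := wSubD_inf_normal h𝔛 S D hD GR hq (Nat.card ↥(Cfsg.pCore p G ⊓ D)) (Cfsg.pCore p G ⊓ D)
    (hO.to_le inf_le_left) inf_le_right le_rfl
  rwa [inf_eq_left.mpr (le_inf (h1.trans h2) (wSub_le _))] at h3

end main

end Cfsg.Agent.Lib.Helper17
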