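import Mathlib
import Cfsg.Prelude.Def_PLocal
import Cfsg.Prelude.Def_TwoFusion
import Cfsg.Prelude.Def_LocalEven
import Cfsg.Agent.Lib.Helper27.ZJ3
import Cfsg.Agent.Lib.Helper17.ZJClosed

/-!
# ZJ-theorem for strongly closed subgroups: the two concrete versions, and the bridge from
`p`-stability in the normalizer form.
-/

set_option autoImplicit false
open scoped commutatorElement

namespace Cfsg.Agent.Lib.Helper17

open Cfsg.Agent.Lib.Helper27

section conv

variable {G : Type*} [Group G]

/-- `Ω₁(Z(J_e(D)))` (ambient form) is the generic `W` for the elementary abelian class. -/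
theorem omegaOne_centerThompsonOf_eq (p : ℕ) (D : Subgroup G) :
    Cfsg.omegaOne p (Cfsg.centerThompsonOf p D) = wSub (Cfsg.IsElementaryAbelian p) D := by
  unfold Cfsg.omegaOne Cfsg.centerThompsonOf wSub
  rw [thompsonSubgroupOf_eq_jSub]
  congr 1
  ext x
  simp only [Set.mem_setOf_eq, Subgroup.mem_inf]
  constructor
  · rintro ⟨⟨h1, h2⟩, h3⟩
    exact ⟨h1, h2, Cfsg.Agent.Lib.Helper4.elemAb_zpowers h3⟩
  · rintro ⟨h1, h2, h3⟩
    exact ⟨⟨h1, h2⟩, h3.2 x (Subgroup.mem_zpowers x)⟩

end conv

section bridge

variable {G : Type*} [Group G] [Finite G] {p : ℕ} [Fact p.Prime]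

/-- `p`-stability in the normalizer form gives `p`-stability on every normal `p`-subgroup. -/
theorem isPStableOn_of_isNormalizerPStable (hst : Cfsg.IsNormalizerPStable p G)
    (V : Subgroup G) [hV : V.Normal] (hVp : IsPGroup p V) : Cfsg.IsPStableOn p V := by
  intro a hquad
  have hN : Subgroup.normalizer (V : Set G) = ⊤ := Subgroup.normalizer_eq_top_iff.mpr hV
  have ha : a ∈ Subgroup.normalizer (V : Set G) := by rw [hN]; exact Subgroup.mem_top a
  have h1 := hst V hVp a ha hquad
  -- the comparison map
  let φ : (↥(Subgroup.normalizer (V : Set G)) ⧸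
      (Subgroup.centralizer (V : Set G)).subgroupOf (Subgroup.normalizer (V : Set G))) →*
      (G ⧸ Subgroup.centralizer (V : Set G)) :=
    QuotientGroup.map _ _ (Subgroup.normalizer (V : Set G)).subtype (fun x hx => hx)
  have hφs : Function.Surjective φ := by
    intro y
    obtain ⟨g, rfl⟩ := QuotientGroup.mk_surjective y
    exact ⟨QuotientGroup.mk ⟨g, by rw [hN]; exact Subgroup.mem_top g⟩, rfl⟩
  have hle : (Cfsg.pCore p (↥(Subgroup.normalizer (V : Set G)) ⧸
      (Subgroup.centralizer (V : Set G)).subgroupOf (Subgroup.normalizer (V : Set G)))).map φ ≤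
      Cfsg.pCore p (G ⧸ Subgroup.centralizer (V : Set G)) := by
    apply le_pCore
    · exact Subgroup.Normal.map (pCore_normal p _) φ hφs
    · exact (pCore_isPGroup p _).map φ
  have h2 := hle (Subgroup.mem_map_of_mem φ h1)
  exact h2

theorem quadHyp_of_isNormalizerPStable (hst : Cfsg.IsNormalizerPStable p G) (S : Subgroup G) :
    QuadHyp p S :=
  quadHyp_of_stable S (fun P _ hP => isPStableOn_of_isNormalizerPStable hst P hP)

end bridge

end Cfsg.Agent.Lib.Helper17
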