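import Mathlib
import Cfsg.Prelude.Def_Transfer
import Cfsg.Prelude.Def_Solvable
import Cfsg.Prelude.Def_Local
import Cfsg.Prelude.Def_OddOrderLocal
import Cfsg.Prelude.Def_CaseTheorems
import Cfsg.Agent.Lib.Helper13.R3Defs2
import Cfsg.Agent.Lib.Helper17.R3SMALL

/-!
# S4404 wave 2 leaf CASE1 (helper17): `case_one`

A conjugate `F = h E h⁻¹` of `E` normalizes `b₀`: SMALL for `F`, then `fixer b₀ ≤ fixer [M,x]`.
-/

set_option autoImplicit false
set_option linter.unusedSectionVars false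

namespace Cfsg.Agent.Lib.Helper17.R3CASE1

open Pointwise Cfsg.Agent.Lib.Helper13.R3
open scoped commutatorElement

section act

variable {H : Type*} [Group H] [Finite H] {M : Type*} [CommGroup M] [Finite M]
  [MulDistribMulAction H M]

/-- CASE1 `case_one`. -/
theorem case_one (hM2 : ∀ m : M, m ^ 2 = 1) (x : H) (b₀ : Subgroup M) (hb : Blk x b₀)
    (p : ℕ) (hp : p.Prime) (hp2 : p ≠ 2) (E : Subgroup H) (hE : Cfsg.IsElementaryAbelian p E)
    (hE3 : Nat.card E = p ^ 3) (h : H) (hh : ∀ e ∈ E, (h * e * h⁻¹) • b₀ = b₀) :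
    ∃ (r : ℕ) (F : Subgroup H), r.Prime ∧ r ≠ 2 ∧ Cfsg.IsElementaryAbelian r F ∧ Nat.card F = r ^ 3 ∧
      ¬ IsCyclic ↥(F ⊓ fixer (cSub M x)) := by
  set F : Subgroup H := E.map (MulAut.conj h).toMonoidHom with hFdef
  have hFmem : ∀ f ∈ F, ∃ e ∈ E, h * e * h⁻¹ = f := by
    rintro f ⟨e, he, rfl⟩
    exact ⟨e, he, by simp [MulAut.conj_apply]⟩
  have hFel : Cfsg.IsElementaryAbelian p F := by
    refine ⟨⟨⟨fun a b => ?_⟩⟩, ?_⟩
    · obtain ⟨ea, hea, ha⟩ := hFmem a a.2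
      obtain ⟨eb, heb, hbb⟩ := hFmem b b.2
      have hcomm : ea * eb = eb * ea := by
        have := hE.1.is_comm.comm (⟨ea, hea⟩ : E) ⟨eb, heb⟩
        exact congrArg Subtype.val this
      apply Subtype.ext
      simp only [Subgroup.coe_mul]
      rw [← ha, ← hbb]
      calc h * ea * h⁻¹ * (h * eb * h⁻¹) = h * (ea * eb) * h⁻¹ := by group
        _ = h * (eb * ea) * h⁻¹ := by rw [hcomm]
        _ = h * eb * h⁻¹ * (h * ea * h⁻¹) := by group
    · intro f hf
      obtain ⟨e, he, rfl⟩ := hFmem f hf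
      rw [conj_pow, hE.2 e he]
      group
  have hFcard : Nat.card F = p ^ 3 := by
    rw [hFdef, Subgroup.card_map_of_injective (MulAut.conj h).injective, hE3]
  have hFb : ∀ f ∈ F, f • b₀ = b₀ := by
    intro f hf
    obtain ⟨e, he, rfl⟩ := hFmem f hf
    exact hh e he
  have hnc := Cfsg.Agent.Lib.Helper17.R3SMALL.not_isCyclic_fixer hM2 b₀ hb.2.1 p hp hp2 F hFel
    hFcard hFb
  refine ⟨p, F, hp, hp2, hFel, hFcard, ?_⟩
  intro hcyc
  apply hnc
  have hle : F ⊓ fixer b₀ ≤ F ⊓ fixer (cSub M x) :=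
    inf_le_inf_left F (fun g hg m hm => hg m (hb.1 hm))
  exact isCyclic_of_injective (Subgroup.inclusion hle) (Subgroup.inclusion_injective hle)

end act

end Cfsg.Agent.Lib.Helper17.R3CASE1
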