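import Mathlib
import Cfsg.Prelude.Def_Transfer
import Cfsg.Prelude.Def_Solvable
import Cfsg.Prelude.Def_Local
import Cfsg.Agent.Lib.Helper13.R3Defs

/-!
# S4404 leaf DICH (helper17): `root_dichotomy`

If the plane `[M,y]` of a root `y` lies in `U ⊔ U'` with `U ⊓ U' = ⊥`, both `y`-invariant, then it
lies in one of them and `y` fixes the other pointwise.  Self-contained (local copies of the short
facts ROOT1, ROOT4, ROOT5 with primed names).
-/

set_option autoImplicit false

namespace Cfsg.Agent.Lib.Helper17.R3DICH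

open Pointwise Cfsg.Agent.Lib.Helper13.R3

section basic

variable {H : Type*} [Group H] {M : Type*} [CommGroup M] [MulDistribMulAction H M]

/-- `y • ((y • m) / m) = (y • (y • m)) / (y • m)`. -/
theorem smul_cHom (y : H) (m : M) : y • (cHom M y m) = cHom M y (y • m) := by
  simp only [cHom_apply, smul_div']

/-- local ROOT1. -/
theorem smul_mem_cSub' (y : H) (v : M) (hv : v ∈ cSub M y) : y • v ∈ cSub M y := by
  obtain ⟨m, rfl⟩ := hv
  exact ⟨y • m, (smul_cHom y m).symm⟩

/-- local ROOT4. -/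
theorem eq_one_of_fixed' (hM2 : ∀ m : M, m ^ 2 = 1) (y : H) (hy3 : ∀ m : M, (y ^ 3) • m = m)
    (v : M) (hv : v ∈ cSub M y) (hfix : y • v = v) : v = 1 := by
  obtain ⟨m, hm⟩ := hv
  have h1 : y • m = m * v := by
    rw [← hm, cHom_apply, mul_div_cancel]
  have h2 : y • (y • m) = m * v * v := by rw [h1, smul_mul', h1, hfix]
  have h3 : y • (y • (y • m)) = m * v * v * v := by rw [h2, smul_mul', smul_mul', h1, hfix]
  have h4 : (y ^ 3) • m = y • (y • (y • m)) := by
    rw [pow_succ, pow_succ, pow_one, mul_smul, mul_smul]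
  have h5 := hy3 m
  rw [h4, h3] at h5
  have h6 : v * v * v = 1 := by
    have : m * (v * v * v) = m * 1 := by rw [mul_one, ← mul_assoc, ← mul_assoc]; exact h5
    exact mul_left_cancel this
  have h7 : v * v = 1 := by rw [← pow_two]; exact hM2 v
  rw [h7, one_mul] at h6
  exact h6

/-- local ROOT5. -/
theorem eq_bot_or_eq_of_invariant' [Finite M] (hM2 : ∀ m : M, m ^ 2 = 1) (y : H) (hy : IsRoot M y)
    (W : Subgroup M) (hW : W ≤ cSub M y) (hinv : ∀ w ∈ W, y • w ∈ W) : W = ⊥ ∨ W = cSub M y := by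
  have hdvd : Nat.card W ∣ 4 := by
    rw [← hy.2]; exact Subgroup.card_dvd_of_le hW
  have hle4 : Nat.card W ≤ 4 := Nat.le_of_dvd (by norm_num) hdvd
  have hpos : 0 < Nat.card W := Nat.card_pos
  have hcases : Nat.card W = 1 ∨ Nat.card W = 2 ∨ Nat.card W = 4 := by
    interval_cases h : Nat.card W
    · left; rfl
    · right; left; rfl
    · exfalso; omega
    · right; right; rfl
  rcases hcases with h1 | h2 | h4
  · left; exact Subgroup.card_eq_one.mp h1
  · exfalso
    obtain ⟨w, hw, huniq⟩ := (Nat.card_eq_two_iff' (1 : W)).mp h2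
    have hyw : y • (w : M) ∈ W := hinv w w.2
    have hne : (⟨y • (w : M), hyw⟩ : W) ≠ 1 := by
      intro h
      have h' : y • (w : M) = 1 := congrArg Subtype.val h
      have : (w : M) = 1 := by
        have := congrArg (fun z => y⁻¹ • z) h'
        simpa using this
      exact hw (Subtype.ext this)
    have heq : (⟨y • (w : M), hyw⟩ : W) = w := huniq _ hne
    have hfix : y • (w : M) = w := congrArg Subtype.val heq
    have : (w : M) = 1 := eq_one_of_fixed' hM2 y hy.1 w (hW w.2) hfix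
    exact hw (Subtype.ext this)
  · right
    exact Subgroup.eq_of_le_of_card_ge hW (by rw [h4, hy.2])

/-- DICH `root_dichotomy`. -/
theorem root_dichotomy [Finite M] (hM2 : ∀ m : M, m ^ 2 = 1) (y : H) (hy : IsRoot M y)
    (U U' : Subgroup M) (hUU' : U ⊓ U' = ⊥)
    (hU : ∀ u ∈ U, y • u ∈ U) (hU' : ∀ u ∈ U', y • u ∈ U') (hle : cSub M y ≤ U ⊔ U') :
    (cSub M y ≤ U ∧ ∀ u ∈ U', y • u = u) ∨ (cSub M y ≤ U' ∧ ∀ u ∈ U, y • u = u) := by
  -- key: for `u` in a `y`-invariant `X` with `X ⊓ cSub = ⊥`-like hypothesis, `y` fixes `u`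
  have hkey : ∀ X : Subgroup M, (∀ u ∈ X, y • u ∈ X) → X ⊓ cSub M y = ⊥ → ∀ u ∈ X, y • u = u := by
    intro X hX hbot u hu
    have hmem : (y • u) / u ∈ X ⊓ cSub M y :=
      ⟨X.div_mem (hX u hu) hu, ⟨u, rfl⟩⟩
    rw [hbot, Subgroup.mem_bot] at hmem
    exact div_eq_one.mp hmem
  have hinvW : ∀ X : Subgroup M, (∀ u ∈ X, y • u ∈ X) → ∀ w ∈ X ⊓ cSub M y, y • w ∈ X ⊓ cSub M y := by
    intro X hX w hw
    exact ⟨hX w hw.1, smul_mem_cSub' y w hw.2⟩
  rcases eq_bot_or_eq_of_invariant' hM2 y hy (U ⊓ cSub M y) inf_le_right (hinvW U hU) with hW | hW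
  · rcases eq_bot_or_eq_of_invariant' hM2 y hy (U' ⊓ cSub M y) inf_le_right (hinvW U' hU')
      with hW' | hW'
    · exfalso
      have hfU := hkey U hU hW
      have hfU' := hkey U' hU' hW'
      have hUle : U ≤ fSub M y := fun u hu => mem_fSub.mpr (hfU u hu)
      have hU'le : U' ≤ fSub M y := fun u hu => mem_fSub.mpr (hfU' u hu)
      have hPle : cSub M y ≤ fSub M y := hle.trans (sup_le hUle hU'le)
      have hbot : cSub M y = ⊥ := by
        rw [eq_bot_iff]
        intro v hv
        rw [Subgroup.mem_bot]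
        exact eq_one_of_fixed' hM2 y hy.1 v hv (mem_fSub.mp (hPle hv))
      have h4 := hy.2
      rw [hbot, Subgroup.card_bot] at h4
      omega
    · right
      have hPU' : cSub M y ≤ U' := by
        rw [← hW']; exact inf_le_left
      refine ⟨hPU', hkey U hU ?_⟩
      rw [eq_bot_iff, ← hUU']
      exact le_inf inf_le_left (inf_le_right.trans hPU')
  · left
    have hPU : cSub M y ≤ U := by
      rw [← hW]; exact inf_le_left
    refine ⟨hPU, hkey U' hU' ?_⟩
    rw [eq_bot_iff, ← hUU']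
    exact le_inf (inf_le_right.trans hPU) inf_le_left

end basic

end Cfsg.Agent.Lib.Helper17.R3DICH
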