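import Mathlib
import Cfsg.Prelude.Def_Transfer
import Cfsg.Prelude.Def_Solvable
import Cfsg.Prelude.Def_Local
import Cfsg.Prelude.Def_OddOrderLocal
import Cfsg.Prelude.Def_CaseTheorems
import Cfsg.Agent.Lib.Helper13.R3Defs2
import Cfsg.Agent.Lib.Helper17.R3DICH

/-!
# S4404 wave 2 leaves CONJ (helper17): `conj_fixes`, `conj_stabilizes`, `conj_moves`
-/

set_option autoImplicit false
set_option linter.unusedSectionVars false

namespace Cfsg.Agent.Lib.Helper17.R3CONJ

open Pointwise Cfsg.Agent.Lib.Helper13.R3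
open scoped commutatorElement

section act

variable {H : Type*} [Group H] [Finite H] {M : Type*} [CommGroup M] [Finite M]
  [MulDistribMulAction H M]

/-- CONJ1 `conj_fixes`: `g x g⁻¹` fixes every block other than `g • b₀` pointwise. -/
theorem conj_fixes (x : H) (b₀ : Subgroup M) (hb : Blk x b₀) (g h : H) (hne : h • b₀ ≠ g • b₀)
    (m : M) (hm : m ∈ h • b₀) : (g * x * g⁻¹) • m = m := by
  have hne' : (g⁻¹ * h) • b₀ ≠ b₀ := by
    intro heq
    apply hne
    rw [mul_smul] at heq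
    have := congrArg (fun B : Subgroup M => g • B) heq
    simpa using this
  have hm' : g⁻¹ • m ∈ (g⁻¹ * h) • b₀ := by
    rw [mul_smul]
    exact Subgroup.smul_mem_pointwise_smul m g⁻¹ (h • b₀) hm
  have hfix := hb.2.2.2 (g⁻¹ * h) hne' (g⁻¹ • m) hm'
  rw [mul_smul, mul_smul, hfix, smul_inv_smul]

/-- CONJ2 `conj_stabilizes`. -/
theorem conj_stabilizes (x : H) (b₀ : Subgroup M) (hb : Blk x b₀) (g : H) :
    (g * x * g⁻¹) • (g • b₀) = g • b₀ := by
  rw [mul_smul, mul_smul, inv_smul_smul, hb.2.2.1]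

/-- CONJ3 `conj_moves`: `g x g⁻¹` does not fix `g • b₀` pointwise. -/
theorem conj_moves (hM2 : ∀ m : M, m ^ 2 = 1) (x : H) (hx : IsRoot M x) (b₀ : Subgroup M)
    (hb : Blk x b₀) (g : H) : ∃ m ∈ g • b₀, (g * x * g⁻¹) • m ≠ m := by
  have hne : cSub M x ≠ ⊥ := by
    intro hbot
    have h4 := hx.2
    rw [hbot, Subgroup.card_bot] at h4
    omega
  obtain ⟨v, hv, hv1'⟩ := (Subgroup.bot_or_exists_ne_one (cSub M x)).resolve_left hne
  refine ⟨g • (v : M), Subgroup.smul_mem_pointwise_smul _ g b₀ (hb.1 hv), ?_⟩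
  intro heq
  rw [mul_smul, mul_smul, inv_smul_smul] at heq
  have hfix : x • (v : M) = v := by
    have := congrArg (fun z => g⁻¹ • z) heq
    simpa using this
  exact hv1' (Cfsg.Agent.Lib.Helper17.R3DICH.eq_one_of_fixed' hM2 x hx.1 v hv hfix)

end act

end Cfsg.Agent.Lib.Helper17.R3CONJ
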