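import Mathlib
import Cfsg.Prelude.Def_Transfer
import Cfsg.Prelude.Def_Solvable
import Cfsg.Prelude.Def_Local
import Cfsg.Prelude.Def_OddOrderLocal
import Cfsg.Prelude.Def_CaseTheorems
import Cfsg.Agent.Lib.Helper13.R3Defs2

/-!
# S4404 wave 2 leaves KR (helper17): `conj_mem_kerB`, `fixer_conj_of_mem_kerB`, `conj_mem_fixB`
-/

set_option autoImplicit false
set_option linter.unusedSectionVars false

namespace Cfsg.Agent.Lib.Helper17.R3KR

open Pointwise Cfsg.Agent.Lib.Helper13.R3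
open scoped commutatorElement

section act

variable {H : Type*} [Group H] [Finite H] {M : Type*} [CommGroup M] [Finite M]
  [MulDistribMulAction H M]

/-- `e⁻¹ • (e ^ i • b₀)` is again one of the blocks `e ^ j • b₀`, `j < p`. -/
theorem inv_smul_pow_smul (p : ℕ) (hp : 0 < p) (e : H) (he : e ^ p = 1) (b₀ : Subgroup M) (i : ℕ) :
    e⁻¹ • (e ^ i • b₀) = e ^ ((i + (p - 1)) % p) • b₀ := by
  have h1 : e⁻¹ = e ^ (p - 1) := by
    have : e ^ (p - 1) * e = 1 := by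
      rw [← pow_succ, Nat.sub_add_cancel hp, he]
    exact (eq_inv_of_mul_eq_one_left this).symm ▸ rfl
  rw [← mul_smul, ← pow_eq_pow_mod _ he, pow_add, h1, (Commute.pow_pow_self e (p - 1) i).eq]

/-- KR1 `conj_mem_kerB`: `e` normalizes `kerB`. -/
theorem conj_mem_kerB (p : ℕ) (hp : p.Prime) (e : H) (he : e ^ p = 1) (b₀ : Subgroup M) (t : H)
    (ht : t ∈ kerB e b₀ p) : e * t * e⁻¹ ∈ kerB e b₀ p := by
  rw [mem_kerB] at ht ⊢
  intro i
  have hj := ht ⟨((i : ℕ) + (p - 1)) % p, Nat.mod_lt _ hp.pos⟩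
  rw [mul_smul, mul_smul, inv_smul_pow_smul p hp.pos e he b₀ i]
  simp only at hj
  rw [hj, ← inv_smul_pow_smul p hp.pos e he b₀ i, smul_inv_smul]

/-- KR2 `fixer_conj_of_mem_kerB`: `kerB` normalizes each `C_H(b_i)`. -/
theorem fixer_conj_of_mem_kerB (p : ℕ) (e : H) (b₀ : Subgroup M) (i : Fin p) (g : H)
    (hg : g ∈ kerB e b₀ p) (f : H) (hf : f ∈ fixer (e ^ (i : ℕ) • b₀)) :
    g * f * g⁻¹ ∈ fixer (e ^ (i : ℕ) • b₀) := by
  rw [mem_kerB] at hg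
  rw [mem_fixer] at hf ⊢
  intro m hm
  have hgi := hg i
  have hm' : g⁻¹ • m ∈ e ^ (i : ℕ) • b₀ := by
    have h1 : g⁻¹ • m ∈ g⁻¹ • (e ^ (i : ℕ) • b₀) :=
      Subgroup.smul_mem_pointwise_smul m g⁻¹ _ hm
    have h2 : g⁻¹ • (e ^ (i : ℕ) • b₀) = e ^ (i : ℕ) • b₀ := by
      rw [inv_smul_eq_iff, hgi]
    rwa [h2] at h1
  rw [mul_smul, mul_smul, hf _ hm', smul_inv_smul]

/-- KR3 `conj_mem_fixB`: `e` normalizes `fixB` (for `p = 3`, `e^3 = 1`). -/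
theorem conj_mem_fixB (e : H) (he : e ^ 3 = 1) (b₀ : Subgroup M) (g : H)
    (hg : g ∈ fixB e b₀ 3) : e * g * e⁻¹ ∈ fixB e b₀ 3 := by
  rw [mem_fixB] at hg ⊢
  intro i
  have hj := hg ⟨((i : ℕ) + (3 - 1)) % 3, Nat.mod_lt _ (by norm_num)⟩
  rw [mem_fixer] at hj ⊢
  intro m hm
  have hm' : e⁻¹ • m ∈ e ^ (((i : ℕ) + (3 - 1)) % 3) • b₀ := by
    rw [← inv_smul_pow_smul 3 (by norm_num) e he b₀ i]
    exact Subgroup.smul_mem_pointwise_smul m e⁻¹ _ hm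
  rw [mul_smul, mul_smul, hj _ hm', smul_inv_smul]

end act

end Cfsg.Agent.Lib.Helper17.R3KR
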