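import Mathlib
import Cfsg.Prelude.Def_Transfer
import Cfsg.Prelude.Def_Solvable
import Cfsg.Prelude.Def_Local
import Cfsg.Prelude.Def_OddOrderLocal
import Cfsg.Prelude.Def_CaseTheorems
import Cfsg.Agent.Lib.Helper13.R3Defs2

/-!
# S4404 wave 2, TYPE2 half (a) (helper17): structure of a 3-group of type (ii)

`G = ⟨x, y, z⟩`, `|G| = 3^n`, `n ≥ 4`, `x^3 = y^3 = 1`, `z^(3^(n-2)) = 1`, `z` central,
`x⁻¹ y x = y z^(3^(n-3))`.

* `nf_mul`: `x^a y^b z^c * x^a' y^b' z^c' = x^(a+a') y^(b+b') z^(m b a' + (c + c'))`, `m = 3^(n-3)`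
* `exists_nf`: every element is `x^a y^b z^c`
* `orderOf_z`: `z` has order exactly `3^(n-2)`
* `center_eq_zpow` (S1), `dvd_of_mem` (S2), `exists_mod_of_cube` (S3).
-/

set_option autoImplicit false
set_option linter.unusedSectionVars false

namespace Cfsg.Agent.Lib.Helper17.R3TYPE2A

open Pointwise Cfsg.Agent.Lib.Helper13.R3
open scoped commutatorElement

section abstract

variable {G : Type*} [Group G] (x y z : G) (m : ℕ)

/-- `y^b x = x y^b z^(m b)`. -/
theorem pow_mul_base (hzy : ∀ g : G, Commute z g) (hyx : y * x = x * y * z ^ m) (b : ℕ) :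
    y ^ b * x = x * y ^ b * z ^ (m * b) := by
  induction b with
  | zero => simp
  | succ b ih =>
    have hc : z ^ (m * b) * y = y * z ^ (m * b) := ((hzy y).pow_left _).eq
    calc y ^ (b + 1) * x = y ^ b * (y * x) := by rw [pow_succ, mul_assoc]
      _ = y ^ b * x * y * z ^ m := by rw [hyx]; simp only [mul_assoc]
      _ = x * y ^ b * z ^ (m * b) * y * z ^ m := by rw [ih]
      _ = x * y ^ b * (z ^ (m * b) * y) * z ^ m := by simp only [mul_assoc]
      _ = x * y ^ b * (y * z ^ (m * b)) * z ^ m := by rw [hc]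
      _ = x * (y ^ b * y) * (z ^ (m * b) * z ^ m) := by simp only [mul_assoc]
      _ = x * y ^ (b + 1) * z ^ (m * (b + 1)) := by rw [← pow_succ, ← pow_add, mul_add, mul_one]

/-- `y^b x^a = x^a y^b z^(m b a)`. -/
theorem pow_mul_pow (hzy : ∀ g : G, Commute z g) (hyx : y * x = x * y * z ^ m) (b a : ℕ) :
    y ^ b * x ^ a = x ^ a * y ^ b * z ^ (m * b * a) := by
  induction a with
  | zero => simp
  | succ a ih =>
    have hc : z ^ (m * b * a) * x = x * z ^ (m * b * a) := ((hzy x).pow_left _).eq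
    calc y ^ b * x ^ (a + 1) = y ^ b * x ^ a * x := by rw [pow_succ, mul_assoc]
      _ = x ^ a * y ^ b * z ^ (m * b * a) * x := by rw [ih]
      _ = x ^ a * y ^ b * (z ^ (m * b * a) * x) := by simp only [mul_assoc]
      _ = x ^ a * y ^ b * (x * z ^ (m * b * a)) := by rw [hc]
      _ = x ^ a * (y ^ b * x) * z ^ (m * b * a) := by simp only [mul_assoc]
      _ = x ^ a * (x * y ^ b * z ^ (m * b)) * z ^ (m * b * a) := by
        rw [pow_mul_base x y z m hzy hyx b]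
      _ = (x ^ a * x) * y ^ b * (z ^ (m * b) * z ^ (m * b * a)) := by simp only [mul_assoc]
      _ = x ^ (a + 1) * y ^ b * z ^ (m * b * (a + 1)) := by
        rw [← pow_succ, ← pow_add]
        congr 2
        ring

/-- the multiplication rule for normal forms. -/
theorem nf_mul (hzy : ∀ g : G, Commute z g) (hyx : y * x = x * y * z ^ m) (a b c a' b' c' : ℕ) :
    x ^ a * y ^ b * z ^ c * (x ^ a' * y ^ b' * z ^ c') =
      x ^ (a + a') * y ^ (b + b') * z ^ (m * b * a' + (c + c')) := by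
  have h1 : z ^ c * (x ^ a' * y ^ b') = x ^ a' * y ^ b' * z ^ c := ((hzy _).pow_left _).eq
  have h2 : z ^ (m * b * a') * y ^ b' = y ^ b' * z ^ (m * b * a') := ((hzy _).pow_left _).eq
  calc x ^ a * y ^ b * z ^ c * (x ^ a' * y ^ b' * z ^ c')
      = x ^ a * y ^ b * (z ^ c * (x ^ a' * y ^ b')) * z ^ c' := by simp only [mul_assoc]
    _ = x ^ a * y ^ b * (x ^ a' * y ^ b' * z ^ c) * z ^ c' := by rw [h1]
    _ = x ^ a * (y ^ b * x ^ a') * y ^ b' * (z ^ c * z ^ c') := by simp only [mul_assoc]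
    _ = x ^ a * (x ^ a' * y ^ b * z ^ (m * b * a')) * y ^ b' * (z ^ c * z ^ c') := by
      rw [pow_mul_pow x y z m hzy hyx b a']
    _ = x ^ a * x ^ a' * y ^ b * (z ^ (m * b * a') * y ^ b') * (z ^ c * z ^ c') := by
      simp only [mul_assoc]
    _ = x ^ a * x ^ a' * y ^ b * (y ^ b' * z ^ (m * b * a')) * (z ^ c * z ^ c') := by rw [h2]
    _ = (x ^ a * x ^ a') * (y ^ b * y ^ b') * (z ^ (m * b * a') * (z ^ c * z ^ c')) := by
      simp only [mul_assoc]
    _ = x ^ (a + a') * y ^ (b + b') * z ^ (m * b * a' + (c + c')) := by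
      rw [← pow_add, ← pow_add, ← pow_add, ← pow_add]

/-- the cube of a normal form. -/
theorem nf_cube (hzy : ∀ g : G, Commute z g) (hyx : y * x = x * y * z ^ m) (hx : x ^ 3 = 1)
    (hy : y ^ 3 = 1) (a b c : ℕ) :
    (x ^ a * y ^ b * z ^ c) ^ 3 = z ^ (3 * (m * a * b + c)) := by
  rw [pow_succ, pow_two, nf_mul x y z m hzy hyx, nf_mul x y z m hzy hyx]
  have hxa : x ^ (a + a + a) = 1 := by
    rw [show a + a + a = 3 * a by ring, pow_mul, hx, one_pow]
  have hyb : y ^ (b + b + b) = 1 := by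
    rw [show b + b + b = 3 * b by ring, pow_mul, hy, one_pow]
  rw [hxa, hyb, one_mul, one_mul]
  congr 1
  ring

end abstract

section typeTwo

variable {G : Type*} [Group G] [Finite G]

/-- `z` is central. -/
theorem z_commute (x y z : G) (hgen : Subgroup.closure ({x, y, z} : Set G) = ⊤)
    (hxz : x * z = z * x) (hyz : y * z = z * y) : ∀ g : G, Commute z g := by
  intro g
  have hle : Subgroup.closure ({x, y, z} : Set G) ≤ Subgroup.centralizer {z} := by
    rw [Subgroup.closure_le]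
    rintro u (rfl | rfl | rfl)
    · intro h hh
      rw [Set.mem_singleton_iff] at hh
      subst hh
      exact hxz.symm
    · intro h hh
      rw [Set.mem_singleton_iff] at hh
      subst hh
      exact hyz.symm
    · intro h hh
      rw [Set.mem_singleton_iff] at hh
      subst hh
      rfl
  have hg : g ∈ Subgroup.centralizer {z} := hle (hgen ▸ Subgroup.mem_top g)
  exact (Subgroup.mem_centralizer_iff.mp hg z rfl)

/-- the relation in the form used by `nf_mul`. -/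
theorem rel_form (n : ℕ) (x y z : G) (hxy : x⁻¹ * y * x = y * z ^ 3 ^ (n - 3)) :
    y * x = x * y * z ^ 3 ^ (n - 3) := by
  rw [mul_assoc x, ← hxy]
  group

/-- every element is `x^a y^b z^c`. -/
theorem exists_nf (n : ℕ) (x y z : G) (hgen : Subgroup.closure ({x, y, z} : Set G) = ⊤)
    (hxz : x * z = z * x) (hyz : y * z = z * y) (hxy : x⁻¹ * y * x = y * z ^ 3 ^ (n - 3))
    (g : G) : ∃ a b c : ℕ, g = x ^ a * y ^ b * z ^ c := by
  have hzc := z_commute x y z hgen hxz hyz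
  have hyx := rel_form n x y z hxy
  have hg : g ∈ Subgroup.closure ({x, y, z} : Set G) := hgen ▸ Subgroup.mem_top g
  have hmul : ∀ u v : G, (∃ a b c : ℕ, u = x ^ a * y ^ b * z ^ c) →
      (∃ a b c : ℕ, v = x ^ a * y ^ b * z ^ c) → ∃ a b c : ℕ, u * v = x ^ a * y ^ b * z ^ c := by
    rintro u v ⟨a, b, c, rfl⟩ ⟨a', b', c', rfl⟩
    exact ⟨_, _, _, nf_mul x y z _ hzc hyx a b c a' b' c'⟩
  have hone : ∃ a b c : ℕ, (1 : G) = x ^ a * y ^ b * z ^ c := ⟨0, 0, 0, by simp⟩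
  have hpow : ∀ (u : G) (k : ℕ), (∃ a b c : ℕ, u = x ^ a * y ^ b * z ^ c) →
      ∃ a b c : ℕ, u ^ k = x ^ a * y ^ b * z ^ c := by
    intro u k hu
    induction k with
    | zero => simpa using hone
    | succ k ih => rw [pow_succ]; exact hmul _ _ ih hu
  induction hg using Subgroup.closure_induction with
  | mem u hu =>
    rcases hu with rfl | rfl | rfl
    · exact ⟨1, 0, 0, by simp⟩
    · exact ⟨0, 1, 0, by simp⟩
    · exact ⟨0, 0, 1, by simp⟩
  | one => exact hone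
  | mul u v _ _ hu hv => exact hmul u v hu hv
  | inv u _ hu =>
    have h1 : u ^ (Nat.card G - 1) * u = 1 := by
      rw [← pow_succ, Nat.sub_add_cancel Nat.card_pos, pow_card_eq_one']
    rw [← eq_inv_of_mul_eq_one_left h1]
    exact hpow u _ hu

/-- `z` has order exactly `3^(n-2)`. -/
theorem orderOf_z (n : ℕ) (x y z : G) (hcard : Nat.card G = 3 ^ n) (hn : 4 ≤ n)
    (hgen : Subgroup.closure ({x, y, z} : Set G) = ⊤)
    (hx : x ^ 3 = 1) (hy : y ^ 3 = 1) (hz : z ^ 3 ^ (n - 2) = 1) (hxz : x * z = z * x)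
    (hyz : y * z = z * y) (hxy : x⁻¹ * y * x = y * z ^ 3 ^ (n - 3)) :
    orderOf z = 3 ^ (n - 2) := by
  have hpos : 0 < orderOf z := orderOf_pos z
  let f : Fin 3 × Fin 3 × Fin (orderOf z) → G :=
    fun t => x ^ (t.1 : ℕ) * y ^ (t.2.1 : ℕ) * z ^ (t.2.2 : ℕ)
  have hsurj : Function.Surjective f := by
    intro g
    obtain ⟨a, b, c, rfl⟩ := exists_nf n x y z hgen hxz hyz hxy g
    refine ⟨(⟨a % 3, Nat.mod_lt _ (by norm_num)⟩, ⟨b % 3, Nat.mod_lt _ (by norm_num)⟩,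
      ⟨c % orderOf z, Nat.mod_lt _ hpos⟩), ?_⟩
    show x ^ (a % 3) * y ^ (b % 3) * z ^ (c % orderOf z) = _
    rw [← pow_eq_pow_mod a hx, ← pow_eq_pow_mod b hy, pow_mod_orderOf]
  have hle : Nat.card G ≤ Nat.card (Fin 3 × Fin 3 × Fin (orderOf z)) :=
    Nat.card_le_card_of_surjective f hsurj
  have hcardF : Nat.card (Fin 3 × Fin 3 × Fin (orderOf z)) = 9 * orderOf z := by
    rw [Nat.card_prod, Nat.card_prod, Nat.card_fin, Nat.card_fin]
    ring
  rw [hcard, hcardF] at hle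
  have hdvd : orderOf z ∣ 3 ^ (n - 2) := orderOf_dvd_of_pow_eq_one hz
  obtain ⟨j, hj, hjeq⟩ := (Nat.dvd_prime_pow Nat.prime_three).mp hdvd
  rw [hjeq] at hle ⊢
  have h2 : 3 ^ n ≤ 3 ^ (j + 2) := by
    rw [pow_add]
    calc 3 ^ n ≤ 9 * 3 ^ j := hle
      _ = 3 ^ j * 3 ^ 2 := by ring
  have h3 : n ≤ j + 2 := (Nat.pow_le_pow_iff_right (by norm_num)).mp h2
  have : j = n - 2 := by omega
  rw [this]

/-- (S1) the centre consists of powers of `z`. -/
theorem center_eq_zpow (n : ℕ) (x y z : G) (hcard : Nat.card G = 3 ^ n) (hn : 4 ≤ n)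
    (hgen : Subgroup.closure ({x, y, z} : Set G) = ⊤)
    (hx : x ^ 3 = 1) (hy : y ^ 3 = 1) (hz : z ^ 3 ^ (n - 2) = 1) (hxz : x * z = z * x)
    (hyz : y * z = z * y) (hxy : x⁻¹ * y * x = y * z ^ 3 ^ (n - 3)) :
    ∀ g ∈ Subgroup.center G, ∃ k : ℕ, g = z ^ k := by
  intro g hg
  have hzc := z_commute x y z hgen hxz hyz
  have hyx := rel_form n x y z hxy
  have hord := orderOf_z n x y z hcard hn hgen hx hy hz hxz hyz hxy
  obtain ⟨a, b, c, rfl⟩ := exists_nf n x y z hgen hxz hyz hxy g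
  rw [Subgroup.mem_center_iff] at hg
  -- `3 ∣ k` from `z ^ (3^(n-3) * k) = 1`
  have hkey : ∀ k : ℕ, z ^ (3 ^ (n - 3) * k) = 1 → 3 ∣ k := by
    intro k hk
    have h1 : 3 ^ (n - 2) ∣ 3 ^ (n - 3) * k := by
      rw [← hord]; exact orderOf_dvd_of_pow_eq_one hk
    have h2 : 3 ^ (n - 2) = 3 ^ (n - 3) * 3 := by
      rw [← pow_succ]; congr 1; omega
    rw [h2] at h1
    exact Nat.dvd_of_mul_dvd_mul_left (by positivity) h1
  -- commuting with `x` gives `3 ∣ b`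
  have hb : 3 ∣ b := by
    have h1 := hg x
    have e1 : x * (x ^ a * y ^ b * z ^ c) = x ^ (1 + a) * y ^ (0 + b) * z ^ (3 ^ (n - 3) * 0 * a + (0 + c)) := by
      have := nf_mul x y z _ hzc hyx 1 0 0 a b c
      simpa using this
    have e2 : x ^ a * y ^ b * z ^ c * x = x ^ (a + 1) * y ^ (b + 0) * z ^ (3 ^ (n - 3) * b * 1 + (c + 0)) := by
      have := nf_mul x y z _ hzc hyx a b c 1 0 0
      simpa using this
    rw [e1, e2] at h1
    simp only [zero_add, add_zero, mul_zero, zero_mul, mul_one] at h1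
    rw [add_comm 1 a] at h1
    have h2 : z ^ c = z ^ (3 ^ (n - 3) * b + c) := mul_left_cancel h1
    rw [pow_add] at h2
    have h3 : z ^ (3 ^ (n - 3) * b) = 1 := by
      have : 1 * z ^ c = z ^ (3 ^ (n - 3) * b) * z ^ c := by rw [one_mul]; exact h2
      exact (mul_right_cancel this).symm
    exact hkey b h3
  -- commuting with `y` gives `3 ∣ a`
  have ha : 3 ∣ a := by
    have h1 := hg y
    have e1 : y * (x ^ a * y ^ b * z ^ c) = x ^ (0 + a) * y ^ (1 + b) * z ^ (3 ^ (n - 3) * 1 * a + (0 + c)) := by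
      have := nf_mul x y z _ hzc hyx 0 1 0 a b c
      simpa using this
    have e2 : x ^ a * y ^ b * z ^ c * y = x ^ (a + 0) * y ^ (b + 1) * z ^ (3 ^ (n - 3) * b * 0 + (c + 0)) := by
      have := nf_mul x y z _ hzc hyx a b c 0 1 0
      simpa using this
    rw [e1, e2] at h1
    simp only [zero_add, add_zero, mul_zero, mul_one] at h1
    rw [add_comm 1 b] at h1
    have h2 : z ^ (3 ^ (n - 3) * a + c) = z ^ c := mul_left_cancel h1
    rw [pow_add] at h2
    have h3 : z ^ (3 ^ (n - 3) * a) = 1 := by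
      have : z ^ (3 ^ (n - 3) * a) * z ^ c = 1 * z ^ c := by rw [one_mul]; exact h2
      exact mul_right_cancel this
    exact hkey a h3
  obtain ⟨a', rfl⟩ := ha
  obtain ⟨b', rfl⟩ := hb
  refine ⟨c, ?_⟩
  rw [pow_mul, hx, one_pow, pow_mul, hy, one_pow, one_mul, one_mul]

/-- (S2) independence of `x, y, z` modulo `N`. -/
theorem dvd_of_mem (n : ℕ) (x y z : G)
    (hgen : Subgroup.closure ({x, y, z} : Set G) = ⊤)
    (hxz : x * z = z * x)
    (hyz : y * z = z * y) (hxy : x⁻¹ * y * x = y * z ^ 3 ^ (n - 3))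
    (N : Subgroup G) [N.Normal] (h3 : ∀ g : G, g ^ 3 ∈ N) (hidx : N.index = 27) :
    ∀ a b c : ℕ, x ^ a * y ^ b * z ^ c ∈ N → 3 ∣ a ∧ 3 ∣ b ∧ 3 ∣ c := by
  have hπ3 : ∀ g : G, (QuotientGroup.mk' N g) ^ 3 = 1 := by
    intro g
    rw [← map_pow]
    exact (QuotientGroup.eq_one_iff _).mpr (h3 g)
  let f : Fin 3 × Fin 3 × Fin 3 → G ⧸ N :=
    fun t => (QuotientGroup.mk' N x) ^ (t.1 : ℕ) * (QuotientGroup.mk' N y) ^ (t.2.1 : ℕ) *
      (QuotientGroup.mk' N z) ^ (t.2.2 : ℕ)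
  have hfmk : ∀ a b c : ℕ, QuotientGroup.mk' N (x ^ a * y ^ b * z ^ c) =
      f (⟨a % 3, Nat.mod_lt _ (by norm_num)⟩, ⟨b % 3, Nat.mod_lt _ (by norm_num)⟩,
        ⟨c % 3, Nat.mod_lt _ (by norm_num)⟩) := by
    intro a b c
    show _ = (QuotientGroup.mk' N x) ^ (a % 3) * (QuotientGroup.mk' N y) ^ (b % 3) *
      (QuotientGroup.mk' N z) ^ (c % 3)
    rw [← pow_eq_pow_mod a (hπ3 x), ← pow_eq_pow_mod b (hπ3 y), ← pow_eq_pow_mod c (hπ3 z),
      map_mul, map_mul, map_pow, map_pow, map_pow]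
  have hsurj : Function.Surjective f := by
    intro q
    obtain ⟨g, rfl⟩ := QuotientGroup.mk'_surjective N q
    obtain ⟨a, b, c, rfl⟩ := exists_nf n x y z hgen hxz hyz hxy g
    exact ⟨_, (hfmk a b c).symm⟩
  have hcardF : Nat.card (Fin 3 × Fin 3 × Fin 3) = 27 := by
    rw [Nat.card_prod, Nat.card_prod, Nat.card_fin]
  have hcardQ : Nat.card (G ⧸ N) = 27 := hidx
  have hbij : Function.Bijective f :=
    hsurj.bijective_of_nat_card_le (by rw [hcardF, hcardQ])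
  intro a b c hmem
  have h1 : QuotientGroup.mk' N (x ^ a * y ^ b * z ^ c) = 1 := (QuotientGroup.eq_one_iff _).mpr hmem
  rw [hfmk] at h1
  have h0 : f (⟨0, by norm_num⟩, ⟨0, by norm_num⟩, ⟨0, by norm_num⟩) = 1 := by
    show (QuotientGroup.mk' N x) ^ 0 * (QuotientGroup.mk' N y) ^ 0 * (QuotientGroup.mk' N z) ^ 0 = 1
    simp
  have h2 := hbij.1 (h1.trans h0.symm)
  simp only [Prod.mk.injEq, Fin.mk.injEq] at h2
  exact ⟨Nat.dvd_of_mod_eq_zero h2.1, Nat.dvd_of_mod_eq_zero h2.2.1, Nat.dvd_of_mod_eq_zero h2.2.2⟩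

/-- (S3) elements of order dividing 3 lie in `⟨x, y⟩ N`. -/
theorem exists_mod_of_cube (n : ℕ) (x y z : G) (hcard : Nat.card G = 3 ^ n) (hn : 4 ≤ n)
    (hgen : Subgroup.closure ({x, y, z} : Set G) = ⊤)
    (hx : x ^ 3 = 1) (hy : y ^ 3 = 1) (hz : z ^ 3 ^ (n - 2) = 1) (hxz : x * z = z * x)
    (hyz : y * z = z * y) (hxy : x⁻¹ * y * x = y * z ^ 3 ^ (n - 3))
    (N : Subgroup G) (h3 : ∀ g : G, g ^ 3 ∈ N) :
    ∀ g : G, g ^ 3 = 1 → ∃ a b : ℕ, g * (x ^ a * y ^ b)⁻¹ ∈ N := by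
  intro g hg3
  have hzc := z_commute x y z hgen hxz hyz
  have hyx := rel_form n x y z hxy
  have hord := orderOf_z n x y z hcard hn hgen hx hy hz hxz hyz hxy
  obtain ⟨a, b, c, rfl⟩ := exists_nf n x y z hgen hxz hyz hxy g
  refine ⟨a, b, ?_⟩
  rw [nf_cube x y z _ hzc hyx hx hy] at hg3
  have h1 : 3 ^ (n - 2) ∣ 3 * (3 ^ (n - 3) * a * b + c) := by
    rw [← hord]; exact orderOf_dvd_of_pow_eq_one hg3
  have h2 : 3 ^ (n - 2) = 3 * 3 ^ (n - 3) := by
    rw [← pow_succ']; congr 1; omega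
  rw [h2] at h1
  have h4 : 3 ^ (n - 3) ∣ 3 ^ (n - 3) * a * b + c := Nat.dvd_of_mul_dvd_mul_left (by norm_num) h1
  have h5 : 3 ^ (n - 3) ∣ c := by
    have h6 : 3 ^ (n - 3) ∣ 3 ^ (n - 3) * a * b := ⟨a * b, by ring⟩
    exact (Nat.dvd_add_right h6).mp h4
  have h7 : 3 ∣ c := by
    have h8 : 3 ∣ 3 ^ (n - 3) := dvd_pow_self 3 (by omega)
    exact h8.trans h5
  obtain ⟨c', rfl⟩ := h7
  have h9 : x ^ a * y ^ b * z ^ (3 * c') * (x ^ a * y ^ b)⁻¹ = (z ^ c') ^ 3 := by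
    have hcomm : z ^ (3 * c') * (x ^ a * y ^ b)⁻¹ = (x ^ a * y ^ b)⁻¹ * z ^ (3 * c') :=
      ((hzc _).pow_left _).eq
    rw [mul_assoc, hcomm, ← mul_assoc, mul_inv_cancel, one_mul, ← pow_mul, mul_comm]
  rw [h9]
  exact h3 _

end typeTwo

end Cfsg.Agent.Lib.Helper17.R3TYPE2A
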