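import Mathlib
import Cfsg.Prelude.Def_Transfer
import Cfsg.Prelude.Def_Solvable
import Cfsg.Prelude.Def_Local
import Cfsg.Prelude.Def_OddOrderLocal
import Cfsg.Prelude.Def_CaseTheorems
import Cfsg.Agent.Lib.Helper13.R3Defs2
import Cfsg.Agent.Lib.Helper17.R3CONJ
import Cfsg.Agent.Lib.Helper17.R3KR

/-!
# S4404 wave 2 leaf ZROOT (helper17): `exists_indep_elements`

For each block `e ^ i • b₀` a conjugate (inside `P`, by an element of `kerB`) of the root
`e ^ i * x * (e ^ i)⁻¹`.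
-/

set_option autoImplicit false
set_option linter.unusedSectionVars false

namespace Cfsg.Agent.Lib.Helper17.R3ZROOT

open Pointwise Cfsg.Agent.Lib.Helper13.R3
open scoped commutatorElement

section act

variable {H : Type*} [Group H] [Finite H] {M : Type*} [CommGroup M] [Finite M]
  [MulDistribMulAction H M]

/-- An element fixing a subgroup pointwise stabilizes it. -/
theorem smul_eq_of_mem_fixer (B : Subgroup M) (g : H) (hg : g ∈ fixer B) : g • B = B := by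
  ext m
  rw [Subgroup.mem_pointwise_smul_iff_inv_smul_mem]
  constructor
  · intro h
    have := hg _ h
    rw [smul_inv_smul] at this
    rw [this]; exact h
  · intro h
    have : g⁻¹ • m = m := by
      rw [inv_smul_eq_iff, hg m h]
    rw [this]; exact h

/-- local ORBIT (the half needed here): distinct exponents below `p` give distinct blocks. -/
theorem pow_smul_ne_of_lt (p : ℕ) (hp : p.Prime) (e : H) (he : e ^ p = 1) (b₀ : Subgroup M)
    (hne : e • b₀ ≠ b₀) (i j : ℕ) (hij : i < j) (hj : j < p) : e ^ i • b₀ ≠ e ^ j • b₀ := by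
  intro heq
  apply hne
  have hd : e ^ (j - i) • b₀ = b₀ := by
    have h1 : e ^ j = e ^ i * e ^ (j - i) := by
      rw [← pow_add, Nat.add_sub_cancel' hij.le]
    rw [h1, mul_smul] at heq
    exact (smul_left_cancel _ heq).symm
  have hcop : Nat.Coprime (j - i) p := by
    apply Nat.Coprime.symm
    rw [Nat.Prime.coprime_iff_not_dvd hp]
    exact Nat.not_dvd_of_pos_of_lt (by omega) (by omega)
  obtain ⟨a, -, ha⟩ := Nat.exists_mul_mod_eq_one_of_coprime hcop hp.one_lt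
  have h2 : e = (e ^ (j - i)) ^ a := by
    rw [← pow_mul, pow_eq_pow_mod _ he, ha, pow_one]
  have hmem : e ^ (j - i) ∈ MulAction.stabilizer H b₀ := hd
  have hmem2 : e ∈ MulAction.stabilizer H b₀ := by
    rw [h2]; exact Subgroup.pow_mem _ hmem a
  exact hmem2

theorem pow_smul_ne_of_ne (p : ℕ) (hp : p.Prime) (e : H) (he : e ^ p = 1) (b₀ : Subgroup M)
    (hne : e • b₀ ≠ b₀) (i j : Fin p) (hij : i ≠ j) :
    e ^ (i : ℕ) • b₀ ≠ e ^ (j : ℕ) • b₀ := by
  have hij' : (i : ℕ) ≠ (j : ℕ) := fun h => hij (Fin.ext h)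
  rcases Nat.lt_or_gt_of_ne hij' with h | h
  · exact pow_smul_ne_of_lt p hp e he b₀ hne i j h j.2
  · exact (pow_smul_ne_of_lt p hp e he b₀ hne j i h i.2).symm

/-- ZROOT `exists_indep_elements`. -/
theorem exists_indep_elements (hM2 : ∀ m : M, m ^ 2 = 1) (x : H) (hx : IsRoot M x)
    (hx3 : ∃ k : ℕ, x ^ 3 ^ k = 1) (b₀ : Subgroup M) (hb : Blk x b₀) (p : ℕ) (hp : p.Prime)
    (e : H) (hep : e ^ p = 1) (hne : e • b₀ ≠ b₀) (P : Subgroup H) (hPT : P ≤ kerB e b₀ p)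
    (hPconj : ∀ g ∈ kerB e b₀ p, (∃ k : ℕ, g ^ 3 ^ k = 1) → ∃ t ∈ kerB e b₀ p, t * g * t⁻¹ ∈ P) :
    ∃ z : Fin p → H, (∀ i, z i ∈ P) ∧ (∀ i j : Fin p, i ≠ j → z i ∈ fixer (e ^ (j : ℕ) • b₀)) ∧
      (∀ i : Fin p, z i ∉ fixer (e ^ (i : ℕ) • b₀)) ∧
      (∀ i : Fin p, z i ^ 3 ∈ fixer (e ^ (i : ℕ) • b₀)) := by
  have _hPT := hPT
  -- the roots `y i`
  set y : Fin p → H := fun i => e ^ (i : ℕ) * x * (e ^ (i : ℕ))⁻¹ with hy
  -- `y i` fixes the other blocks pointwise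
  have hyfix : ∀ i j : Fin p, i ≠ j → y i ∈ fixer (e ^ (j : ℕ) • b₀) := by
    intro i j hij m hm
    exact Cfsg.Agent.Lib.Helper17.R3CONJ.conj_fixes x b₀ hb (e ^ (i : ℕ)) (e ^ (j : ℕ))
      (pow_smul_ne_of_ne p hp e hep b₀ hne j i (Ne.symm hij)) m hm
  -- `y i ∈ kerB`
  have hyker : ∀ i : Fin p, y i ∈ kerB e b₀ p := by
    intro i
    rw [mem_kerB]
    intro j
    by_cases hij : i = j
    · subst hij
      exact Cfsg.Agent.Lib.Helper17.R3CONJ.conj_stabilizes x b₀ hb (e ^ (i : ℕ))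
    · exact smul_eq_of_mem_fixer _ _ (hyfix i j hij)
  -- `y i` is a 3-element
  have hy3 : ∀ i : Fin p, ∃ k : ℕ, y i ^ 3 ^ k = 1 := by
    intro i
    obtain ⟨k, hk⟩ := hx3
    refine ⟨k, ?_⟩
    rw [hy]
    simp only
    rw [conj_pow, hk]
    group
  -- cubes of conjugates of `x` act trivially
  have hcube : ∀ g : H, ∀ m : M, ((g * x * g⁻¹) ^ 3) • m = m := by
    intro g m
    rw [conj_pow, mul_smul, mul_smul, hx.1, smul_inv_smul]
  choose t ht htP using fun i : Fin p => hPconj (y i) (hyker i) (hy3 i)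
  refine ⟨fun i => t i * y i * (t i)⁻¹, htP, ?_, ?_, ?_⟩
  · intro i j hij
    exact Cfsg.Agent.Lib.Helper17.R3KR.fixer_conj_of_mem_kerB p e b₀ j (t i) (ht i) (y i)
      (hyfix i j hij)
  · intro i hzi
    have hinv : (t i)⁻¹ ∈ kerB e b₀ p := Subgroup.inv_mem _ (ht i)
    have h1 := Cfsg.Agent.Lib.Helper17.R3KR.fixer_conj_of_mem_kerB p e b₀ i (t i)⁻¹ hinv
      (t i * y i * (t i)⁻¹) hzi
    have h2 : (t i)⁻¹ * (t i * y i * (t i)⁻¹) * (t i)⁻¹⁻¹ = y i := by group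
    rw [h2] at h1
    obtain ⟨m, hm, hmne⟩ := Cfsg.Agent.Lib.Helper17.R3CONJ.conj_moves hM2 x hx b₀ hb (e ^ (i : ℕ))
    exact hmne (h1 m hm)
  · intro i m _
    have h1 : (t i * y i * (t i)⁻¹) ^ 3 = (t i * e ^ (i : ℕ)) * x ^ 3 * (t i * e ^ (i : ℕ))⁻¹ := by
      rw [conj_pow, hy]
      simp only
      rw [conj_pow]
      group
    rw [h1, mul_smul, mul_smul, hx.1, smul_inv_smul]

end act

end Cfsg.Agent.Lib.Helper17.R3ZROOT
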