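/-
Helper lemmas (helper17): Burnside's fusion lemma for an abelian subgroup `W` of a Sylow `p`-subgroup
`P` that is weakly closed in `P`: elements of `W` conjugate in `G` are conjugate in `N_G(W)`.
-/
import Cfsg.Agent.Lib.Helper17.SylowGraph
import Cfsg.Agent.Lib.Helper16.StronglyEmbedded

set_option autoImplicit false

namespace Cfsg.Agent.Lib.Helper17

open Cfsg.Agent.Lib.Helper16 in
/-- Burnside's fusion lemma, weakly closed abelian version. -/
theorem fusion_of_weaklyClosed_abelian {G : Type*} [Group G] [Finite G] {p : ℕ} [Fact p.Prime]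
    (P : Sylow p G) {W : Subgroup G} (hWP : W ≤ (P : Subgroup G))
    (hWc : ∀ x ∈ W, ∀ y ∈ W, x * y = y * x)
    (hwc : ∀ h : G, W.map (MulAut.conj h).toMonoidHom ≤ (P : Subgroup G) →
      W.map (MulAut.conj h).toMonoidHom = W)
    {x : G} (hx : x ∈ W) (g : G) (hgx : g * x * g⁻¹ ∈ W) :
    ∃ n ∈ Subgroup.normalizer (W : Set G), n * x * n⁻¹ = g * x * g⁻¹ := by
  set y0 := g * x * g⁻¹ with hy0
  set Y := Subgroup.centralizer ({y0} : Set G) with hY
  have hWY : W ≤ Y := fun w hw =>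
    Subgroup.mem_centralizer_singleton_iff.mpr (hWc w hw y0 hgx)
  have hWgY : W.map (MulAut.conj g).toMonoidHom ≤ Y := by
    rintro _ ⟨w, hw, rfl⟩
    rw [hY, Subgroup.mem_centralizer_singleton_iff]
    simp only [MulEquiv.coe_toMonoidHom, MulAut.conj_apply]
    have h1 := hWc w hw x hx
    calc g * w * g⁻¹ * y0 = g * (w * x) * g⁻¹ := by rw [hy0]; group
      _ = g * (x * w) * g⁻¹ := by rw [h1]
      _ = y0 * (g * w * g⁻¹) := by rw [hy0]; group
  have hWp : IsPGroup p W := P.isPGroup'.to_le hWP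
  have hWgp : IsPGroup p (W.map (MulAut.conj g).toMonoidHom) := hWp.map _
  obtain ⟨R1, hR1⟩ := (hWgp.comap_subtype (K := Y)).exists_le_sylow
  obtain ⟨R2, hR2⟩ := (hWp.comap_subtype (K := Y)).exists_le_sylow
  obtain ⟨c, hc⟩ := MulAction.exists_smul_eq Y R1 R2
  obtain ⟨Q, hQ⟩ := (R2.isPGroup'.map Y.subtype).exists_le_sylow
  obtain ⟨h, hh⟩ := MulAction.exists_smul_eq G P Q
  -- `W ≤ Q`
  have hWQ : ∀ w ∈ W, w ∈ (Q : Subgroup G) := by
    intro w hw
    apply hQ
    exact ⟨⟨w, hWY hw⟩, hR2 (by rw [Subgroup.mem_comap]; exact hw), rfl⟩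
  -- `(c g) W (c g)⁻¹ ≤ Q`
  have hWcgQ : ∀ w ∈ W, (c : G) * g * w * g⁻¹ * (c : G)⁻¹ ∈ (Q : Subgroup G) := by
    intro w hw
    apply hQ
    have hm : g * w * g⁻¹ ∈ W.map (MulAut.conj g).toMonoidHom := ⟨w, hw, by simp⟩
    have h1 : (⟨g * w * g⁻¹, hWgY hm⟩ : Y) ∈ (R1 : Subgroup Y) :=
      hR1 (by rw [Subgroup.mem_comap]; exact hm)
    have h2 : c * ⟨g * w * g⁻¹, hWgY hm⟩ * c⁻¹ ∈ ((c • R1 : Sylow p Y) : Subgroup Y) := by
      rw [mem_sylow_smul_iff]
      simpa [mul_assoc] using h1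
    rw [hc] at h2
    exact ⟨_, h2, by simp [mul_assoc]⟩
  -- transport to `P`
  have h3 : W.map (MulAut.conj h⁻¹).toMonoidHom = W := by
    apply hwc
    rintro _ ⟨w, hw, rfl⟩
    have := hWQ w hw
    rw [← hh, mem_sylow_smul_iff] at this
    simpa using this
  have h4 : W.map (MulAut.conj (h⁻¹ * (c * g))).toMonoidHom = W := by
    apply hwc
    rintro _ ⟨w, hw, rfl⟩
    have := hWcgQ w hw
    rw [← hh, mem_sylow_smul_iff] at this
    simpa [mul_assoc] using this
  have h5 : W.map (MulAut.conj ((c : G) * g)).toMonoidHom = W := by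
    have h6 : (W.map (MulAut.conj (h⁻¹ * (c * g))).toMonoidHom).map (MulAut.conj h).toMonoidHom
        = W.map (MulAut.conj ((c : G) * g)).toMonoidHom := by
      rw [map_conj_map_conj]; congr 3; group
    have h7 : (W.map (MulAut.conj h⁻¹).toMonoidHom).map (MulAut.conj h).toMonoidHom = W := by
      rw [map_conj_map_conj, mul_inv_cancel, map_conj_one]
    rw [← h6, h4, ← h3, h7, h3]
  refine ⟨(c : G) * g, Subgroup.mem_normalizer_iff_map_conj_eq.mpr h5, ?_⟩
  have hcy : (c : G) * y0 = y0 * c := by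
    have h8 : (c : G) ∈ Subgroup.centralizer ({y0} : Set G) := c.2
    exact Subgroup.mem_centralizer_singleton_iff.mp h8
  calc (c : G) * g * x * ((c : G) * g)⁻¹ = (c : G) * y0 * (c : G)⁻¹ := by rw [hy0]; group
    _ = y0 := by rw [hcy]; group

end Cfsg.Agent.Lib.Helper17
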