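import Cfsg.Agent.Lib.Helper17.SLMinArith

/-!
# More arithmetic for S2332: complete divisor lists in the small cases

For the three cases `(4,4)`, `(5,2)`, `(5,3)` whose predecessor is an exception, and for the
exceptions `(3,4)`, `(4,2)`, `(4,3)` themselves (used as inner modules), the complete list of the
divisors `d` of `q^(n-1) * classSize` in the relevant range `q^(n-1) ≤ d < N_n - 1`.
-/

namespace Cfsg.Agent.Lib.Helper17.SLMinArith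

/-- `(n,q) = (4,4)`: divisors of `4^3 * 5355` in `[64, 84)`. -/
theorem dvd_cases_44 (d : ℕ) (hdvd : d ∣ 4 ^ 3 * ((4 ^ 4 - 1) * (4 ^ 3 - 1) / (4 - 1)))
    (hlo : 64 ≤ d) (hhi : d < 84) : d = 64 ∨ d = 68 ∨ d = 70 ∨ d = 72 ∨ d = 80 := by
  interval_cases d <;> first | decide | exact absurd hdvd (by decide)

/-- `(n,q) = (5,2)`: divisors of `2^4 * 465` in `[16, 30)`. -/
theorem dvd_cases_52 (d : ℕ) (hdvd : d ∣ 2 ^ 4 * ((2 ^ 5 - 1) * (2 ^ 4 - 1) / (2 - 1)))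
    (hlo : 16 ≤ d) (hhi : d < 30) : d = 16 ∨ d = 20 ∨ d = 24 := by
  interval_cases d <;> first | decide | exact absurd hdvd (by decide)

/-- `(n,q) = (5,3)`: divisors of `3^4 * 9680` in `[81, 120)`. -/
theorem dvd_cases_53 (d : ℕ) (hdvd : d ∣ 3 ^ 4 * ((3 ^ 5 - 1) * (3 ^ 4 - 1) / (3 - 1)))
    (hlo : 81 ≤ d) (hhi : d < 120) :
    d = 81 ∨ d = 88 ∨ d = 90 ∨ d = 99 ∨ d = 108 ∨ d = 110 := by
  interval_cases d <;> first | decide | exact absurd hdvd (by decide)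

/-- widened window `(4,4)`: `d = 78` or `81 ≤ d < 84`. -/
theorem false_of_dvd_44' (d : ℕ)
    (hdvd : d ∣ 4 ^ 3 * ((4 ^ 4 - 1) * (4 ^ 3 - 1) / (4 - 1)))
    (hlo : d = 78 ∨ d = 79 ∨ 81 ≤ d) (hhi : d < (4 ^ 4 - 4) / (4 - 1)) : False := by
  have hhi' : d < 84 := by norm_num at hhi ⊢; omega
  have := dvd_cases_44 d hdvd (by omega) hhi'
  omega

/-- widened window `(5,2)`: `d = 22` or `25 ≤ d < 30`. -/
theorem false_of_dvd_52' (d : ℕ)
    (hdvd : d ∣ 2 ^ 4 * ((2 ^ 5 - 1) * (2 ^ 4 - 1) / (2 - 1)))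
    (hlo : d = 22 ∨ 25 ≤ d) (hhi : d < (2 ^ 5 - 2) / (2 - 1)) : False := by
  have hhi' : d < 30 := by norm_num at hhi ⊢; omega
  have := dvd_cases_52 d hdvd (by omega) hhi'
  omega

/-- widened window `(5,3)`: `d = 106` or `111 ≤ d < 120`. -/
theorem false_of_dvd_53' (d : ℕ)
    (hdvd : d ∣ 3 ^ 4 * ((3 ^ 5 - 1) * (3 ^ 4 - 1) / (3 - 1)))
    (hlo : d = 106 ∨ 111 ≤ d) (hhi : d < (3 ^ 5 - 3) / (3 - 1)) : False := by
  have hhi' : d < 120 := by norm_num at hhi ⊢; omega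
  have := dvd_cases_53 d hdvd (by omega) hhi'
  omega

/-- the exception `(3,4)` as inner module: divisors of `4^2 * 315` in `[15, 20]`. -/
theorem dvd_cases_34 (d : ℕ) (hdvd : d ∣ 4 ^ 2 * ((4 ^ 3 - 1) * (4 ^ 2 - 1) / (4 - 1)))
    (hlo : 15 ≤ d) (hhi : d ≤ 20) : d = 15 ∨ d = 16 ∨ d = 18 ∨ d = 20 := by
  interval_cases d <;> first | decide | exact absurd hdvd (by decide)

/-- the exception `(3,2)` as inner module: divisors of `2^2 * 21` in `[3, 6]`. -/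
theorem dvd_cases_32 (d : ℕ) (hdvd : d ∣ 2 ^ 2 * ((2 ^ 3 - 1) * (2 ^ 2 - 1) / (2 - 1)))
    (hlo : 3 ≤ d) (hhi : d ≤ 6) : d = 3 ∨ d = 4 ∨ d = 6 := by
  interval_cases d <;> first | decide | exact absurd hdvd (by decide)

/-- the exception `(4,2)` as inner module: divisors of `2^3 * 105` in `[7, 14]`. -/
theorem dvd_cases_42 (d : ℕ) (hdvd : d ∣ 2 ^ 3 * ((2 ^ 4 - 1) * (2 ^ 3 - 1) / (2 - 1)))
    (hlo : 7 ≤ d) (hhi : d ≤ 14) : d = 7 ∨ d = 8 ∨ d = 10 ∨ d = 12 ∨ d = 14 := by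
  interval_cases d <;> first | decide | exact absurd hdvd (by decide)

/-- the exception `(4,3)` as inner module: divisors of `3^3 * 1040` in `[26, 39]`. -/
theorem dvd_cases_43 (d : ℕ) (hdvd : d ∣ 3 ^ 3 * ((3 ^ 4 - 1) * (3 ^ 3 - 1) / (3 - 1)))
    (hlo : 26 ≤ d) (hhi : d ≤ 39) : d = 26 ∨ d = 27 ∨ d = 30 ∨ d = 36 ∨ d = 39 := by
  interval_cases d <;> first | decide | exact absurd hdvd (by decide)

/-- `17 ∤ 4^2 * 315` (the value `dim U = 17` for `SL_3(4)`). -/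
theorem not_dvd_17_34 : ¬ (17 ∣ 4 ^ 2 * ((4 ^ 3 - 1) * (4 ^ 2 - 1) / (4 - 1))) := by decide

end Cfsg.Agent.Lib.Helper17.SLMinArith
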