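import Cfsg.Agent.Lib.Helper16.SLMinDefs
import Cfsg.Agent.Lib.Helper17.SLMinArith2

/-!
# S2332, section N of `notes/S2332_leaves.lean`: the arithmetic leaves in helper16's exact
names and binders (`tgt q n = (q^n - q)/(q - 1)`).
-/

namespace Cfsg.Agent.Lib.Helper17.SLMin

open Cfsg.Agent.Lib.Helper16.SLMin Cfsg.Agent.Lib.Helper17.SLMinArith

/-- N0 -/
theorem arith_two (q n : ℕ) (hq : 2 ≤ q) (hn : 2 ≤ n) : tgt q n ≤ 2 * (q ^ (n - 1) - 1) := by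
  unfold tgt
  exact two_mul_ge' q n hq (by omega)

/-- N1: `N_n - 2` does not divide `q^(n-1) (q^n-1)(q^(n-1)-1)/(q-1)`. -/
theorem arith_generic (q n d : ℕ) (hq : 2 ≤ q) (hn : 4 ≤ n)
    (hd : d ∣ q ^ (n - 1) * ((q ^ n - 1) * (q ^ (n - 1) - 1) / (q - 1)))
    (hle : q ^ (n - 1) - 1 + tgt q (n - 1) ≤ d) : tgt q n ≤ d := by
  by_contra hlt
  rw [not_le] at hlt
  unfold tgt at hle hlt
  rw [m_one_sum' q n hq (by omega)] at hle
  exact false_of_dvd_general q n d hq (by omega) hd hle hlt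

/-- N2 -/
theorem arith_base3 (q c d : ℕ) (hq : IsPrimePow q) (h2 : q ≠ 2) (h4 : q ≠ 4)
    (hd : d = q ^ 2 - 1 + (q - 1) + c)
    (hdvd : d ∣ q ^ 2 * ((q ^ 3 - 1) * (q ^ 2 - 1) / (q - 1))) : tgt q 3 ≤ d := by
  by_contra hlt
  rw [not_le] at hlt
  have hq2 : 2 ≤ q := hq.one_lt
  unfold tgt at hlt
  rw [target_three q hq2] at hlt
  have hq4 : 4 ≤ q ^ 2 := by nlinarith
  exact false_of_dvd_base q d hq h2 h4 hdvd (by omega) hlt

/-- N3 -/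
theorem arith_44 (d : ℕ) (h : 81 ≤ d) (hd : d ∣ 4 ^ 3 * ((4 ^ 4 - 1) * (4 ^ 3 - 1) / (4 - 1))) :
    tgt 4 4 ≤ d := by
  by_contra hlt
  rw [not_le] at hlt
  exact false_of_dvd_44 d hd h hlt

theorem arith_52 (d : ℕ) (h : 25 ≤ d) (hd : d ∣ 2 ^ 4 * ((2 ^ 5 - 1) * (2 ^ 4 - 1) / (2 - 1))) :
    tgt 2 5 ≤ d := by
  by_contra hlt
  rw [not_le] at hlt
  exact false_of_dvd_52 d hd h hlt

theorem arith_53 (d : ℕ) (h : 114 ≤ d) (hd : d ∣ 3 ^ 4 * ((3 ^ 5 - 1) * (3 ^ 4 - 1) / (3 - 1))) :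
    tgt 3 5 ≤ d := by
  by_contra hlt
  rw [not_le] at hlt
  exact false_of_dvd_53 d hd h hlt

/-- `tgt q n = N q n - 1`. -/
theorem tgt_eq (q n : ℕ) (hq : 2 ≤ q) (hn : 1 ≤ n) : tgt q n = N q n - 1 :=
  target_eq q n hq hn

/-- `tgt q (n+1) = q^n - 1 + tgt q n + 1`, i.e. `N_{n+1} - 1 = q^n + N_n - 1`. -/
theorem tgt_succ (q n : ℕ) (hq : 2 ≤ q) (hn : 1 ≤ n) :
    tgt q (n + 1) = q ^ n - 1 + tgt q n + 1 := by
  have h := m_one_sum' q (n + 1) hq (by omega)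
  simp only [Nat.add_sub_cancel] at h
  unfold tgt
  have hpos : 1 ≤ (q ^ (n + 1) - q) / (q - 1) := by
    rw [target_eq' q (n + 1) hq (by omega)]
    simp only [Nat.add_sub_cancel]
    exact Nat.mul_pos (by omega) (N_pos q n hn)
  omega

end Cfsg.Agent.Lib.Helper17.SLMin
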