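import Mathlib
import Cfsg.Prelude.Def_Solvable
import Cfsg.Prelude.Def_Transfer
import Cfsg.Agent.Lib.Helper1.Fitting
import Cfsg.Agent.Lib.Helper1.PGroup
import Cfsg.Agent.Lib.Helper11.TI
import Cfsg.Agent.Lib.Helper11.ExtraspecialCent

/-!
Large extraspecial subgroups: `O_p(C_G(x))` as a subgroup of `G` (`coreCent`), and an ambient
description `ES Q z` of an extraspecial `2`-subgroup `Q` of `G` with centre `{1, z}`.
-/

set_option autoImplicit false

namespace Cfsg.Agent.Lib.Helper17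

open Cfsg.Agent.Lib.Helper11

variable {G : Type*} [Group G]

/-- `O_p(C_G(x))` as a subgroup of `G`. -/
def coreCent (p : ℕ) (x : G) : Subgroup G :=
  (Cfsg.pCore p ↥(Subgroup.centralizer ({x} : Set G))).map (Subgroup.centralizer ({x} : Set G)).subtype

theorem coreCent_le (p : ℕ) (x : G) : coreCent p x ≤ Subgroup.centralizer ({x} : Set G) :=
  Subgroup.map_subtype_le _

theorem coreCent_comm {p : ℕ} {x q : G} (hq : q ∈ coreCent p x) : q * x = x * q :=
  (Subgroup.mem_centralizer_singleton_iff.mp (coreCent_le p x hq))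

theorem coreCent_isPGroup [Finite G] (p : ℕ) [Fact p.Prime] (x : G) : IsPGroup p ↥(coreCent p x) :=
  (Cfsg.Agent.Lib.Helper1.pCore_isPGroup p _).map _

theorem coreCent_conj_mem {p : ℕ} {x c q : G} (hc : c * x = x * c) (hq : q ∈ coreCent p x) :
    c * q * c⁻¹ ∈ coreCent p x := by
  obtain ⟨q', hq', rfl⟩ := hq
  have hcC : c ∈ Subgroup.centralizer ({x} : Set G) := Subgroup.mem_centralizer_singleton_iff.mpr hc
  have := (Cfsg.Agent.Lib.Helper1.pCore_normal p ↥(Subgroup.centralizer ({x} : Set G))).conj_mem q' hq' ⟨c, hcC⟩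
  exact ⟨_, this, rfl⟩

theorem le_coreCent {p : ℕ} {x : G} (N : Subgroup G) (hN : IsPGroup p ↥N)
    (hNC : ∀ n ∈ N, n * x = x * n)
    (hnorm : ∀ c : G, c * x = x * c → ∀ n ∈ N, c * n * c⁻¹ ∈ N) : N ≤ coreCent p x := by
  have hle : N ≤ Subgroup.centralizer ({x} : Set G) := fun n hn =>
    Subgroup.mem_centralizer_singleton_iff.mpr (hNC n hn)
  have hnormal : (N.subgroupOf (Subgroup.centralizer ({x} : Set G))).Normal := by
    constructor
    intro n hn c
    rw [Subgroup.mem_subgroupOf] at hn ⊢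
    exact hnorm c (Subgroup.mem_centralizer_singleton_iff.mp c.2) n hn
  have hp : IsPGroup p ↥(N.subgroupOf (Subgroup.centralizer ({x} : Set G))) :=
    hN.comap_subtype
  have h1 := Cfsg.Agent.Lib.Helper1.le_pCore hnormal hp
  have h2 := Subgroup.map_mono (f := (Subgroup.centralizer ({x} : Set G)).subtype) h1
  rwa [Subgroup.map_subgroupOf_eq_of_le hle] at h2

theorem conj_mem_coreCent [Finite G] {p : ℕ} [Fact p.Prime] (g : G) {x q : G}
    (hq : q ∈ coreCent p x) : g * q * g⁻¹ ∈ coreCent p (g * x * g⁻¹) := by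
  have key : (coreCent p x).map (MulAut.conj g).toMonoidHom ≤ coreCent p (g * x * g⁻¹) := by
    apply le_coreCent
    · exact (coreCent_isPGroup p x).map _
    · rintro _ ⟨n, hn, rfl⟩
      have := coreCent_comm hn
      show g * n * g⁻¹ * (g * x * g⁻¹) = g * x * g⁻¹ * (g * n * g⁻¹)
      calc g * n * g⁻¹ * (g * x * g⁻¹) = g * (n * x) * g⁻¹ := by group
        _ = g * (x * n) * g⁻¹ := by rw [this]
        _ = g * x * g⁻¹ * (g * n * g⁻¹) := by group
    · rintro c hc _ ⟨n, hn, rfl⟩
      have hc' : (g⁻¹ * c * g) * x = x * (g⁻¹ * c * g) := by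
        calc (g⁻¹ * c * g) * x = g⁻¹ * (c * (g * x * g⁻¹)) * g := by group
          _ = g⁻¹ * (g * x * g⁻¹ * c) * g := by rw [hc]
          _ = x * (g⁻¹ * c * g) := by group
      have h2 := coreCent_conj_mem hc' hn
      refine ⟨_, h2, ?_⟩
      show g * ((g⁻¹ * c * g) * n * (g⁻¹ * c * g)⁻¹) * g⁻¹ = c * (g * n * g⁻¹) * c⁻¹
      group
  exact key ⟨q, hq, rfl⟩

theorem self_mem_coreCent {p : ℕ} {x : G} (hx : IsPGroup p ↥(Subgroup.zpowers x)) :
    x ∈ coreCent p x := by
  have key : Subgroup.zpowers x ≤ coreCent p x := by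
    apply le_coreCent _ hx
    · intro n hn
      obtain ⟨k, rfl⟩ := Subgroup.mem_zpowers_iff.mp hn
      exact (Commute.zpow_left (Commute.refl x) k).eq
    · intro c hc n hn
      obtain ⟨k, rfl⟩ := Subgroup.mem_zpowers_iff.mp hn
      have : c * x ^ k * c⁻¹ = x ^ k := by
        have h1 : Commute c (x ^ k) := Commute.zpow_right hc k
        rw [h1.eq, mul_inv_cancel_right]
      rw [this]
      exact Subgroup.zpow_mem_zpowers x k
  exact key (Subgroup.mem_zpowers x)

/-! ### Ambient extraspecial 2-subgroups -/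

theorem conj_comm_iff (g a b : G) :
    g * a * g⁻¹ * (g * b * g⁻¹) = g * b * g⁻¹ * (g * a * g⁻¹) ↔ a * b = b * a := by
  constructor
  · intro h
    have h1 : g * (a * b) * g⁻¹ = g * (b * a) * g⁻¹ := by
      calc g * (a * b) * g⁻¹ = g * a * g⁻¹ * (g * b * g⁻¹) := by group
        _ = g * b * g⁻¹ * (g * a * g⁻¹) := h
        _ = g * (b * a) * g⁻¹ := by group
    exact mul_left_cancel (mul_right_cancel h1)
  · intro h
    calc g * a * g⁻¹ * (g * b * g⁻¹) = g * (a * b) * g⁻¹ := by group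
      _ = g * (b * a) * g⁻¹ := by rw [h]
      _ = g * b * g⁻¹ * (g * a * g⁻¹) := by group

/-- `Q` is an extraspecial `2`-subgroup of `G` with centre `{1, z}` (ambient description). -/
structure ES (Q : Subgroup G) (z : G) : Prop where
  z_mem : z ∈ Q
  z_ne : z ≠ 1
  z_sq : z * z = 1
  z_comm : ∀ q ∈ Q, q * z = z * q
  comm : ∀ a ∈ Q, ∀ b ∈ Q, a * b * a⁻¹ * b⁻¹ = 1 ∨ a * b * a⁻¹ * b⁻¹ = z
  sq : ∀ a ∈ Q, a * a = 1 ∨ a * a = z
  cent : ∀ a ∈ Q, (∀ b ∈ Q, a * b = b * a) → a = 1 ∨ a = z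
  mul : ∀ a ∈ Q, ∀ b ∈ Q, ∀ c ∈ Q, commSign (a * b) c = commSign a c * commSign b c
  dblS : ∀ W : Subgroup G, W ≤ Q → z ∈ W → ∀ x ∈ Q,
    (∀ c ∈ Q, (∀ w ∈ W, c * w = w * c) → c * x = x * c) → x ∈ W

theorem ES.of_isExtraspecial (Q : Subgroup G) [Finite ↥Q] (hE : Cfsg.IsExtraspecial 2 ↥Q) :
    ∃ z, ES Q z := by
  have : Fact (Nat.Prime 2) := ⟨Nat.prime_two⟩
  obtain ⟨⟨hp, hfr, hco⟩, hZ⟩ := hE
  have hcomm : ∀ a b : ↥Q, a * b * a⁻¹ * b⁻¹ ∈ Subgroup.center ↥Q := by
    intro a b
    rw [← hco, commutator_def, ← commutatorElement_def]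
    exact Subgroup.commutator_mem_commutator (Subgroup.mem_top a) (Subgroup.mem_top b)
  have hsq : ∀ a : ↥Q, a * a ∈ Subgroup.center ↥Q := by
    intro a
    rw [← hfr, ← pow_two]
    exact Cfsg.Agent.Lib.Helper1.IsPGroup.pow_mem_frattini hp a
  obtain ⟨⟨zT, hzTc⟩, hzT1, huniq⟩ := (Nat.card_eq_two_iff' (1 : Subgroup.center ↥Q)).mp hZ
  have hzT1' : zT ≠ 1 := fun h => hzT1 (Subtype.ext h)
  have hcen : ∀ c ∈ Subgroup.center ↥Q, c = 1 ∨ c = zT := by
    intro c hc
    by_cases h1 : c = 1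
    · exact Or.inl h1
    · right
      have := huniq ⟨c, hc⟩ (fun h => h1 (congrArg Subtype.val h))
      exact congrArg Subtype.val this
  have hzz : zT * zT = 1 := by
    rcases hcen (zT * zT) (Subgroup.mul_mem _ hzTc hzTc) with h | h
    · exact h
    · exfalso; apply hzT1'
      exact mul_left_cancel (a := zT) (b := zT) (c := 1) (by rw [mul_one]; exact h)
  have hinj : Function.Injective Q.subtype := Subgroup.subtype_injective Q
  refine ⟨(zT : G), ⟨zT.2, ?_, ?_, ?_, ?_, ?_, ?_, ?_, ?_⟩⟩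
  · intro h; apply hzT1'; exact Subtype.ext h
  · have := congrArg Subtype.val hzz
    simpa using this
  · intro q hq
    have := Subgroup.mem_center_iff.mp hzTc ⟨q, hq⟩
    exact congrArg Subtype.val this
  · intro a ha b hb
    rcases hcen _ (hcomm ⟨a, ha⟩ ⟨b, hb⟩) with h | h
    · left; have := congrArg Subtype.val h; simpa using this
    · right; have := congrArg Subtype.val h; simpa using this
  · intro a ha
    rcases hcen _ (hsq ⟨a, ha⟩) with h | h
    · left; have := congrArg Subtype.val h; simpa using this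
    · right; have := congrArg Subtype.val h; simpa using this
  · intro a ha hc
    have : (⟨a, ha⟩ : ↥Q) ∈ Subgroup.center ↥Q := by
      rw [Subgroup.mem_center_iff]
      intro s
      apply Subtype.ext
      exact (hc s s.2).symm
    rcases hcen _ this with h | h
    · left; exact congrArg Subtype.val h
    · right; exact congrArg Subtype.val h
  · intro a ha b hb c hc
    have h1 := commSign_mul hZ hcomm ⟨a, ha⟩ ⟨b, hb⟩ ⟨c, hc⟩
    rw [← commSign_map Q.subtype hinj, ← commSign_map Q.subtype hinj,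
      ← commSign_map Q.subtype hinj] at h1
    exact h1
  · intro W hWQ hzW x hx hcc
    have hU : Subgroup.center ↥Q ≤ W.subgroupOf Q := by
      intro c hc
      rw [Subgroup.mem_subgroupOf]
      rcases hcen c hc with h | h
      · rw [h]; exact one_mem _
      · rw [h]; exact hzW
    have hdc := centralizer_centralizer_eq_of_center_le hZ hcomm (W.subgroupOf Q) hU
    have : (⟨x, hx⟩ : ↥Q) ∈ W.subgroupOf Q := by
      rw [← hdc, Subgroup.mem_centralizer_iff]
      intro s hs
      apply Subtype.ext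
      show (s : G) * x = x * (s : G)
      refine hcc (s : G) s.2 ?_
      intro w hw
      have := Subgroup.mem_centralizer_iff.mp hs ⟨w, hWQ hw⟩
        (show (⟨w, hWQ hw⟩ : ↥Q) ∈ W.subgroupOf Q from Subgroup.mem_subgroupOf.mpr hw)
      exact (congrArg Subtype.val this).symm
    exact Subgroup.mem_subgroupOf.mp this

theorem ES.conj {Q : Subgroup G} {z : G} (h : ES Q z) (g : G) :
    ES (Q.map (MulAut.conj g).toMonoidHom) (g * z * g⁻¹) := by
  have hconj : ∀ a : G, (MulAut.conj g).toMonoidHom a = g * a * g⁻¹ := fun a => rfl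
  refine ⟨⟨z, h.z_mem, rfl⟩, ?_, ?_, ?_, ?_, ?_, ?_, ?_, ?_⟩
  · intro h1; exact h.z_ne (conj_eq_one_iff.mp h1)
  · calc g * z * g⁻¹ * (g * z * g⁻¹) = g * (z * z) * g⁻¹ := by group
      _ = 1 := by rw [h.z_sq]; group
  · rintro _ ⟨q, hq, rfl⟩
    rw [hconj]
    exact (conj_comm_iff g q z).mpr (h.z_comm q hq)
  · rintro _ ⟨a, ha, rfl⟩ _ ⟨b, hb, rfl⟩
    rw [hconj, hconj]
    have e : g * a * g⁻¹ * (g * b * g⁻¹) * (g * a * g⁻¹)⁻¹ * (g * b * g⁻¹)⁻¹ =
        g * (a * b * a⁻¹ * b⁻¹) * g⁻¹ := by group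
    rw [e]
    rcases h.comm a ha b hb with h1 | h1
    · left; rw [h1]; group
    · right; rw [h1]
  · rintro _ ⟨a, ha, rfl⟩
    rw [hconj]
    have e : g * a * g⁻¹ * (g * a * g⁻¹) = g * (a * a) * g⁻¹ := by group
    rw [e]
    rcases h.sq a ha with h1 | h1
    · left; rw [h1]; group
    · right; rw [h1]
  · rintro _ ⟨a, ha, rfl⟩ hc
    rw [hconj] at hc ⊢
    have := h.cent a ha (fun b hb => (conj_comm_iff g a b).mp (hc _ ⟨b, hb, rfl⟩))
    rcases this with h1 | h1
    · left; rw [h1]; group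
    · right; rw [h1]
  · rintro _ ⟨a, ha, rfl⟩ _ ⟨b, hb, rfl⟩ _ ⟨c, hc, rfl⟩
    rw [hconj, hconj, hconj]
    have e : g * a * g⁻¹ * (g * b * g⁻¹) = g * (a * b) * g⁻¹ := by group
    rw [e, commSign_conj, commSign_conj, commSign_conj]
    exact h.mul a ha b hb c hc
  · intro W hWQ hzW x hx hcc
    obtain ⟨x', hx', rfl⟩ := hx
    rw [hconj] at hcc ⊢
    have hW' : W.comap (MulAut.conj g).toMonoidHom ≤ Q := by
      intro w hw
      have h1 : g * w * g⁻¹ ∈ Q.map (MulAut.conj g).toMonoidHom := hWQ hw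
      rw [mem_map_conj_iff] at h1
      have e : g⁻¹ * (g * w * g⁻¹) * g = w := by group
      rwa [e] at h1
    have := h.dblS (W.comap (MulAut.conj g).toMonoidHom) hW' hzW x' hx' ?_
    · exact this
    · intro c hc hcw
      apply (conj_comm_iff g c x').mp
      apply hcc _ ⟨c, hc, rfl⟩
      intro w hw
      have hw' : g⁻¹ * w * g ∈ W.comap (MulAut.conj g).toMonoidHom := by
        show g * (g⁻¹ * w * g) * g⁻¹ ∈ W
        have e : g * (g⁻¹ * w * g) * g⁻¹ = w := by group
        rw [e]; exact hw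
      have h2 := hcw _ hw'
      have h3 := (conj_comm_iff g c (g⁻¹ * w * g)).mpr h2
      have e : g * (g⁻¹ * w * g) * g⁻¹ = w := by group
      rw [hconj]
      rwa [e] at h3

namespace ES

variable {Q : Subgroup G} {z : G}

theorem z_inv (h : ES Q z) : z⁻¹ = z := inv_eq_of_mul_eq_one_left h.z_sq

theorem commSign_inv_right (a b : G) : commSign a b⁻¹ = commSign a b := by
  rw [commSign_symm, commSign_inv_left, commSign_symm]

theorem mul_right (h : ES Q z) {a b c : G} (ha : a ∈ Q) (hb : b ∈ Q) (hc : c ∈ Q) :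
    commSign c (a * b) = commSign c a * commSign c b := by
  rw [commSign_symm, h.mul a ha b hb c hc, commSign_symm a, commSign_symm b]

theorem commSign_sq (a b : G) : commSign a b * commSign a b = 1 := commSign_mul_self a b

/-- a noncommuting pair has commutator `z` -/
theorem conj_eq (h : ES Q z) {a b : G} (ha : a ∈ Q) (hb : b ∈ Q) (hab : a * b ≠ b * a) :
    a * b * a⁻¹ = b * z := by
  rcases h.comm a ha b hb with h1 | h1
  · exfalso; apply hab
    have := congrArg (fun y => y * b * a) h1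
    simpa [mul_assoc] using this
  · have h2 : a * b * a⁻¹ = z * b := by
      have := congrArg (fun y => y * b) h1
      simpa [mul_assoc] using this
    rw [h2, h.z_comm b hb]

theorem conj_mem_pair (h : ES Q z) {a b : G} (ha : a ∈ Q) (hb : b ∈ Q) :
    a * b * a⁻¹ = b ∨ a * b * a⁻¹ = b * z := by
  by_cases hab : a * b = b * a
  · left; rw [hab, mul_inv_cancel_right]
  · right; exact h.conj_eq ha hb hab

theorem central_of_commSign (h : ES Q z) {a : G} (ha : a ∈ Q)
    (hc : ∀ b ∈ Q, commSign a b = 1) : a = 1 ∨ a = z :=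
  h.cent a ha (fun b hb => (commSign_eq_one_iff a b).mp (hc b hb))

theorem exists_conj (h : ES Q z) {x : G} (hx : x ∈ Q) (hx1 : x ≠ 1) (hxz : x ≠ z) :
    ∃ q ∈ Q, q * x * q⁻¹ = x * z ∧ q * x ≠ x * q := by
  by_contra hcon
  push Not at hcon
  have : ∀ b ∈ Q, x * b = b * x := by
    intro b hb
    by_contra hne
    have hne' : b * x ≠ x * b := fun e => hne e.symm
    exact hne' (hcon b hb (h.conj_eq hb hx hne'))
  rcases h.cent x hx this with h1 | h1
  · exact hx1 h1
  · exact hxz h1

/-- double centralizer of a single element -/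
theorem dbl (h : ES Q z) {x d : G} (hx : x ∈ Q) (hd : d ∈ Q)
    (hcc : ∀ r ∈ Q, r * x = x * r → r * d = d * r) :
    d = 1 ∨ d = z ∨ d = x ∨ d = x * z := by
  by_cases hdc : ∀ q ∈ Q, d * q = q * d
  · rcases h.cent d hd hdc with h1 | h1
    · exact Or.inl h1
    · exact Or.inr (Or.inl h1)
  · push Not at hdc
    obtain ⟨q1, hq1, hq1d⟩ := hdc
    have hq1x : ¬ q1 * x = x * q1 := fun e => hq1d (hcc q1 hq1 e).symm
    have key : ∀ q ∈ Q, commSign q d = commSign q x := by
      intro q hq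
      by_cases hqx : q * x = x * q
      · rw [commSign_eq_one hqx, commSign_eq_one (hcc q hq hqx)]
      · rw [commSign_eq_neg_one hqx]
        by_contra hqd
        have hqd' : q * d = d * q := by
          by_contra hne
          exact hqd (commSign_eq_neg_one hne)
        have h1 : commSign (q * q1) x = 1 := by
          rw [h.mul q hq q1 hq1 x hx, commSign_eq_neg_one hqx, commSign_eq_neg_one hq1x]; norm_num
        have h2 := hcc (q * q1) (Q.mul_mem hq hq1) ((commSign_eq_one_iff _ _).mp h1)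
        have h3 : commSign (q * q1) d = 1 := commSign_eq_one h2
        rw [h.mul q hq q1 hq1 d hd, commSign_eq_one hqd', one_mul] at h3
        exact hq1d ((commSign_eq_one_iff _ _).mp h3).symm
    have hcen : ∀ b ∈ Q, commSign (d * x⁻¹) b = 1 := by
      intro b hb
      rw [h.mul d hd x⁻¹ (Q.inv_mem hx) b hb, commSign_inv_left, commSign_symm d b,
        commSign_symm x b, key b hb]
      exact commSign_mul_self b x
    rcases h.central_of_commSign (Q.mul_mem hd (Q.inv_mem hx)) hcen with h1 | h1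
    · right; right; left
      exact mul_inv_eq_one.mp h1
    · right; right; right
      have : d = z * x := by
        have := congrArg (fun y => y * x) h1
        simpa [mul_assoc] using this
      rw [this, h.z_comm x hx]

end ES

end Cfsg.Agent.Lib.Helper17
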