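import Mathlib
import Cfsg.Statements.S2752
import Cfsg.Agent.Lib.Helper16.SFDefs
import Cfsg.Agent.Lib.Helper8.ThTwoA
import Cfsg.Agent.Lib.Helper8.ThTwoE

/-!
# S2752 market "SF": leaf `autq` (helper17)

An automorphism of a perfect group that is trivial modulo the centre is trivial.
-/

set_option autoImplicit false
universe u v
open Cfsg Cfsg.Agent.Lib.Helper16.SF Cfsg.Agent.Lib.Helper8.ThTwo

namespace Cfsg.Agent.Lib.Helper17.SFLeaf

/-- **autq**: an automorphism of a perfect group that is trivial modulo the centre is trivial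
(`x ↦ x⁻¹ β x` is a homomorphism into the abelian group `Z(Q)`). -/
theorem autq {Q : Type*} [Group Q] [Group.IsPerfect Q] (β : MulAut Q)
    (h : ∀ x : Q, x⁻¹ * β x ∈ Subgroup.center Q) : β = 1 := by
  classical
  let φ : Q →* ↥(Subgroup.center Q) :=
    { toFun := fun x => ⟨x⁻¹ * β x, h x⟩
      map_one' := by
        apply Subtype.ext
        simp
      map_mul' := by
        intro x y
        apply Subtype.ext
        have hc := (Subgroup.mem_center_iff.mp (h x)) y⁻¹
        show (x * y)⁻¹ * β (x * y) = (x⁻¹ * β x) * (y⁻¹ * β y)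
        rw [map_mul, mul_inv_rev]
        calc y⁻¹ * x⁻¹ * (β x * β y) = (y⁻¹ * (x⁻¹ * β x)) * β y := by
              simp only [mul_assoc]
          _ = ((x⁻¹ * β x) * y⁻¹) * β y := by rw [hc]
          _ = (x⁻¹ * β x) * (y⁻¹ * β y) := by simp only [mul_assoc] }
  have hker : φ.ker = ⊤ := by
    have h1 : commutator Q ≤ φ.ker := by
      rw [commutator_def, Subgroup.commutator_le]
      intro a _ b _
      rw [MonoidHom.mem_ker, map_commutatorElement]
      apply Subtype.ext
      have hc := (Subgroup.mem_center_iff.mp (φ b).2) (φ a).1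
      show (φ a).1 * (φ b).1 * ((φ a).1)⁻¹ * ((φ b).1)⁻¹ = 1
      rw [hc, mul_inv_cancel_right, mul_inv_cancel]
    rw [Group.IsPerfect.commutator_eq_top] at h1
    exact top_le_iff.mp h1
  apply MulEquiv.ext
  intro x
  have hx : x ∈ φ.ker := by rw [hker]; trivial
  have h2 : φ x = 1 := MonoidHom.mem_ker.mp hx
  have h3 : x⁻¹ * β x = 1 := congrArg Subtype.val h2
  have h4 : β x = x := by
    have := congrArg (fun z => x * z) h3
    simpa using this
  rw [h4]
  rfl

end Cfsg.Agent.Lib.Helper17.SFLeaf
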