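import Mathlib
import Cfsg.Statements.S2752
import Cfsg.Agent.Lib.Helper16.SFDefs
import Cfsg.Agent.Lib.Helper8.ThTwoA
import Cfsg.Agent.Lib.Helper8.ThTwoE
import Cfsg.Agent.Lib.Helper11.InvolOdd
import Cfsg.Agent.Lib.Helper17.SFautq
import Cfsg.Agent.S0199

/-!
# S2752 market "SF": leaf `invAut` (helper17)

An involutory automorphism `β ≠ 1` of a finite quasisimple group `Q` inverts a non-central element of odd order.
Baer–Suzuki (`Cfsg.Agent.S0199.result`) in `Q/Z(Q) ⋊ ⟨β⟩`.
-/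

set_option autoImplicit false
universe u v
open Cfsg Cfsg.Agent.Lib.Helper16.SF Cfsg.Agent.Lib.Helper8.ThTwo

namespace Cfsg.Agent.Lib.Helper17.SFLeaf

/-- The automorphism of `Q/Z(Q)` induced by an automorphism of `Q`. -/
noncomputable def invAutQuot (Q : Type*) [Group Q] : MulAut Q →* MulAut (Q ⧸ Subgroup.center Q) where
  toFun e := QuotientGroup.congr (Subgroup.center Q) (Subgroup.center Q) e
    (Subgroup.characteristic_iff_map_eq.mp Subgroup.centerCharacteristic e)
  map_one' := by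
    ext x
    induction x using QuotientGroup.induction_on
    rfl
  map_mul' := by
    intro a b
    ext x
    induction x using QuotientGroup.induction_on
    rfl

theorem invAutQuot_mk (Q : Type*) [Group Q] (e : MulAut Q) (x : Q) :
    invAutQuot Q e (QuotientGroup.mk x) = QuotientGroup.mk (e x) := rfl

/-- **invAut** (Baer–Suzuki, `Cfsg.Agent.S0199.result`).  In `Q̄ ⋊ ⟨β̄⟩` (`Q̄ = Q/Z(Q)` simple, `β̄ ≠ 1` by `autq`)
`β̄ ∉ O₂`, so some `β̄ β̄^g` has an odd order power `w̄ ≠ 1` in `Q̄` inverted by `β̄`.  Lift: `x₁ ↦ w̄`,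
`x := x₁⁻¹ β(x₁)` is inverted by `β` and maps to `w̄⁻²`; take its odd part. -/
theorem invAut {Q : Type*} [Group Q] [Finite Q] (hQ : Cfsg.IsQuasisimple Q) (β : MulAut Q)
    (h2 : β * β = 1) (h1 : β ≠ 1) :
    ∃ x : Q, Odd (orderOf x) ∧ x ∉ Subgroup.center Q ∧ β x = x⁻¹ := by
  classical
  obtain ⟨hperf, hsimp⟩ := hQ
  have := hperf
  have := hsimp
  have : Fact (Nat.Prime 2) := ⟨Nat.prime_two⟩
  let C : Subgroup (MulAut Q) := Subgroup.zpowers β
  let φ : ↥C →* MulAut (Q ⧸ Subgroup.center Q) := (invAutQuot Q).comp C.subtype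
  have : Finite ((Q ⧸ Subgroup.center Q) ⋊[φ] ↥C) :=
    Finite.of_equiv _ SemidirectProduct.equivProd.symm
  let β' : ↥C := ⟨β, Subgroup.mem_zpowers β⟩
  have hβ'2 : β' * β' = 1 := Subtype.ext h2
  have hφ : ∀ x : Q, φ β' (QuotientGroup.mk x) = QuotientGroup.mk (β x) := fun x => rfl
  let b : (Q ⧸ Subgroup.center Q) ⋊[φ] ↥C := SemidirectProduct.inr β'
  have hb2 : b * b = 1 := by
    show SemidirectProduct.inr β' * SemidirectProduct.inr β' = 1
    rw [← map_mul, hβ'2, map_one]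
  have hb1 : b ≠ 1 := by
    intro h
    have h3 : β' = 1 := SemidirectProduct.inr_injective (h.trans (map_one _).symm)
    exact h1 (congrArg Subtype.val h3)
  have hbo : orderOf b = 2 := orderOf_eq_prime (by rw [pow_two]; exact hb2) hb1
  have hbinv : b⁻¹ = SemidirectProduct.inr β'⁻¹ := (map_inv _ _).symm
  -- `b` lies in no normal `2`-subgroup
  have hO : ∀ N : Subgroup ((Q ⧸ Subgroup.center Q) ⋊[φ] ↥C), N.Normal → IsPGroup 2 N → b ∉ N := by
    intro N hN hNp hbN
    have hcomap : N.comap (SemidirectProduct.inl : (Q ⧸ Subgroup.center Q) →* _) = ⊥ := by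
      have hnorm : (N.comap (SemidirectProduct.inl :
          (Q ⧸ Subgroup.center Q) →* (Q ⧸ Subgroup.center Q) ⋊[φ] ↥C)).Normal := hN.comap _
      rcases hnorm.eq_bot_or_eq_top with h | h
      · exact h
      · exfalso
        have hp0 := hNp.comap_of_injective (SemidirectProduct.inl :
          (Q ⧸ Subgroup.center Q) →* (Q ⧸ Subgroup.center Q) ⋊[φ] ↥C)
          SemidirectProduct.inl_injective
        rw [h] at hp0
        have hp : IsPGroup 2 (Q ⧸ Subgroup.center Q) := by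
          intro y
          obtain ⟨k, hk⟩ := hp0 ⟨y, Subgroup.mem_top y⟩
          exact ⟨k, congrArg Subtype.val hk⟩
        have hnil : Group.IsNilpotent (Q ⧸ Subgroup.center Q) := hp.isNilpotent
        have hsol : Group.IsSolvable (Q ⧸ Subgroup.center Q) := inferInstance
        exact Group.IsPerfect.not_isSolvable (G := Q ⧸ Subgroup.center Q) hsol
    have hcent : ∀ x : Q, x⁻¹ * β x ∈ Subgroup.center Q := by
      intro x
      have hmem : (SemidirectProduct.inl ((QuotientGroup.mk x : Q ⧸ Subgroup.center Q)⁻¹ *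
          φ β' (QuotientGroup.mk x)) : (Q ⧸ Subgroup.center Q) ⋊[φ] ↥C) ∈ N := by
        rw [map_mul, SemidirectProduct.inl_aut, ← hbinv, map_inv]
        have h3 : (SemidirectProduct.inl (QuotientGroup.mk x : Q ⧸ Subgroup.center Q) :
            (Q ⧸ Subgroup.center Q) ⋊[φ] ↥C)⁻¹ * b * ((SemidirectProduct.inl
              (QuotientGroup.mk x : Q ⧸ Subgroup.center Q))⁻¹)⁻¹ ∈ N := hN.conj_mem b hbN _
        rw [inv_inv] at h3
        have h4 := N.mul_mem h3 (N.inv_mem hbN)
        simpa only [mul_assoc] using h4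
      have h5 : (QuotientGroup.mk x : Q ⧸ Subgroup.center Q)⁻¹ * φ β' (QuotientGroup.mk x) ∈
          N.comap (SemidirectProduct.inl : (Q ⧸ Subgroup.center Q) →* _) := hmem
      rw [hcomap, Subgroup.mem_bot, hφ, ← QuotientGroup.mk_inv, ← QuotientGroup.mk_mul] at h5
      exact (QuotientGroup.eq_one_iff _).mp h5
    exact h1 (autq β hcent)
  obtain ⟨h, hne, hodd, hinv⟩ := Cfsg.Agent.Lib.Helper11.exists_inverted_odd_of_baerSuzuki
    (fun X hX hg => Cfsg.Agent.S0199.result X hX hg) b hbo hO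
  -- `h` lies in the kernel of the projection onto `⟨β⟩`
  have hC : ∀ c : ↥C, c * c = 1 := by
    rintro ⟨c, hc⟩
    obtain ⟨i, rfl⟩ := Subgroup.mem_zpowers_iff.mp hc
    apply Subtype.ext
    show β ^ i * β ^ i = 1
    rw [← zpow_add, ← two_mul, zpow_mul, zpow_two, h2, one_zpow]
  have hright : h.right = 1 := by
    have h3 : h.right ^ orderOf h = 1 := by
      have h4 := congrArg (SemidirectProduct.rightHom (φ := φ)) (pow_orderOf_eq_one h)
      rw [map_pow, map_one] at h4
      exact h4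
    have h4 : h.right ^ 2 = 1 := by rw [pow_two]; exact hC _
    obtain ⟨k, hk⟩ := hodd
    rw [hk, pow_succ, pow_mul, h4, one_pow, one_mul] at h3
    exact h3
  have hh : h = SemidirectProduct.inl h.left := by
    apply SemidirectProduct.ext
    · rfl
    · exact hright
  have hhb_ne : h.left ≠ 1 := by
    intro h0
    apply hne
    rw [hh, h0, map_one]
  have hhb_ord : orderOf h.left = orderOf h := by
    conv_rhs => rw [hh]
    exact (orderOf_injective (SemidirectProduct.inl : (Q ⧸ Subgroup.center Q) →* _)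
      SemidirectProduct.inl_injective h.left).symm
  have hhb_inv : φ β' h.left = h.left⁻¹ := by
    apply SemidirectProduct.inl_injective (φ := φ)
    rw [SemidirectProduct.inl_aut, ← hbinv, map_inv, ← hh]
    exact hinv
  obtain ⟨x₁, hx₁⟩ := QuotientGroup.mk_surjective h.left
  have hββ : β (β x₁) = x₁ := by
    have h3 := congrArg (fun e : MulAut Q => e x₁) h2
    exact h3
  have hβx : β (x₁⁻¹ * β x₁) = (x₁⁻¹ * β x₁)⁻¹ := by
    rw [map_mul, map_inv, mul_inv_rev, inv_inv, hββ]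
  have hmkx : (QuotientGroup.mk (x₁⁻¹ * β x₁) : Q ⧸ Subgroup.center Q) = h.left⁻¹ * h.left⁻¹ := by
    rw [QuotientGroup.mk_mul, QuotientGroup.mk_inv, ← hφ, hx₁, hhb_inv]
  obtain ⟨j, n, hn, hjn⟩ := Nat.exists_eq_two_pow_mul_odd (orderOf_pos (x₁⁻¹ * β x₁)).ne'
  refine ⟨(x₁⁻¹ * β x₁) ^ 2 ^ j, ?_, ?_, ?_⟩
  · have h3 : orderOf ((x₁⁻¹ * β x₁) ^ 2 ^ j) = orderOf (x₁⁻¹ * β x₁) / 2 ^ j :=
      orderOf_pow_of_dvd (by positivity) (by rw [hjn]; exact dvd_mul_right _ _)
    rw [h3, hjn, Nat.mul_div_cancel_left _ (by positivity)]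
    exact hn
  · intro hcen
    have h3 : (QuotientGroup.mk ((x₁⁻¹ * β x₁) ^ 2 ^ j) : Q ⧸ Subgroup.center Q) = 1 :=
      (QuotientGroup.eq_one_iff _).mpr hcen
    rw [QuotientGroup.mk_pow, hmkx, ← mul_inv_rev, inv_pow, inv_eq_one, ← pow_two, ← pow_mul,
      ← pow_succ'] at h3
    have h4 : orderOf h.left ∣ 2 ^ (j + 1) := orderOf_dvd_of_pow_eq_one h3
    obtain ⟨i, _, hi⟩ := (Nat.dvd_prime_pow Nat.prime_two).mp h4
    have hoddo : Odd (orderOf h.left) := by rw [hhb_ord]; exact hodd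
    rw [hi] at hoddo
    have hi0 : i = 0 := by
      by_contra hi0
      exact (Nat.not_even_iff_odd.mpr hoddo) ((Nat.even_pow' hi0).mpr even_two)
    rw [hi0, pow_zero] at hi
    exact hhb_ne (orderOf_eq_one_iff.mp hi)
  · rw [map_pow, hβx, inv_pow]

end Cfsg.Agent.Lib.Helper17.SFLeaf
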