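import Mathlib
import Cfsg.Agent.Lib.Helper5.TWU.Defs
import Cfsg.Agent.Lib.Helper8.TW.Defs
import Cfsg.Agent.Lib.Helper22.TWExtBasic
import Cfsg.Agent.Lib.Helper22.TWExtMore
import Cfsg.Agent.Lib.Helper23.TWUT3
import Cfsg.Agent.Lib.Helper14.TWIIDefs
import Cfsg.Agent.Lib.Helper14.TWUIIDefs

/-!
# S5672 (C7 unitary) — STAGE II (sub-planner helper14): tools for leaf R3 `R1plus` (helper17)
* `FlagNil W C M`: `M` maps `V → C → W → 0`; products of three such matrices vanish; `comm_flag`: the commutator of two units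
  `1 + D`, `1 + E` with `D, E` flag-nilpotent is `1 + (D E - E D)`.
* linearity of `tens` / `ctr` in the `A`-argument, the Heisenberg matrix `etaA - 1` on vectors and on functionals,
  the fibre `W(i,y)` through contractions with `dag q w`, `w ⊥ y`.
-/

set_option autoImplicit false
set_option linter.unusedSectionVars false
set_option linter.unusedVariables false

namespace Cfsg.Agent.Lib.Helper17.TWUIILeaf
open Matrix Cfsg.Geo Cfsg.Agent.Lib.Helper18.AschA89 Cfsg.Agent.Lib.Helper8.TW Cfsg.Agent.Lib.Helper5.TWU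
  Cfsg.Agent.Lib.Helper14.TWII Cfsg.Agent.Lib.Helper14.TWUII
open Cfsg.Agent.Lib.Helper20.UT (hv)

variable {F : Type*} [Field F] {t k q : ℕ}

/-! ### flag-nilpotent matrices -/

/-- `M` maps `V → C → W → 0` -/
structure FlagNil {κ : Type} [Fintype κ] (W C : Submodule F (κ → F)) (M : Matrix κ κ F) : Prop where
  toC : ∀ v, M *ᵥ v ∈ C
  toW : ∀ v ∈ C, M *ᵥ v ∈ W
  zero : ∀ v ∈ W, M *ᵥ v = 0

lemma mat_eq_zero17 {κ : Type} [Fintype κ] [DecidableEq κ] {A : Matrix κ κ F} (h : ∀ v, A *ᵥ v = 0) : A = 0 := by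
  ext a b
  have := congrFun (h (Pi.single b 1)) a
  simpa using this

lemma FlagNil.triple {κ : Type} [Fintype κ] [DecidableEq κ] {W C : Submodule F (κ → F)} {M₁ M₂ M₃ : Matrix κ κ F}
    (h₁ : FlagNil W C M₁) (h₂ : FlagNil W C M₂) (h₃ : FlagNil W C M₃) : M₁ * M₂ * M₃ = 0 := by
  apply mat_eq_zero17
  intro v
  rw [← Matrix.mulVec_mulVec, ← Matrix.mulVec_mulVec]
  exact h₁.zero _ (h₂.toW _ (h₃.toC v))

/-- the commutator of two flag-unipotent units -/
theorem comm_flag {κ : Type} [Fintype κ] [DecidableEq κ] {W C : Submodule F (κ → F)} (u a : GL κ F)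
    (D E : Matrix κ κ F) (hu : (u : Matrix κ κ F) = 1 + D) (ha : (a : Matrix κ κ F) = 1 + E)
    (hD : FlagNil W C D) (hE : FlagNil W C E) :
    ((u * a * u⁻¹ * a⁻¹ : GL κ F) : Matrix κ κ F) = 1 + (D * E - E * D) := by
  have hg : (u * a * u⁻¹ * a⁻¹) * (a * u) = u * a := by group
  have h1 : ((u * a * u⁻¹ * a⁻¹ : GL κ F) : Matrix κ κ F) * ((a * u : GL κ F) : Matrix κ κ F) =
      (1 + D) * (1 + E) := by
    rw [← Units.val_mul, hg, Units.val_mul, hu, ha]
  have key : (1 + (D * E - E * D)) * ((1 + E) * (1 + D)) = (1 + D) * (1 + E) +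
      (D * E * E + D * E * D + D * E * E * D - E * D * E - E * D * D - E * D * E * D) := by
    noncomm_ring
  have h2 : (1 + (D * E - E * D)) * ((a * u : GL κ F) : Matrix κ κ F) = (1 + D) * (1 + E) := by
    rw [Units.val_mul, hu, ha, key, hD.triple hE hE, hD.triple hE hD, hE.triple hD hE, hE.triple hD hD]
    simp
  exact (Units.mul_left_inj (a * u)).mp (h1.trans h2.symm)

/-! ### linearity of `tens` and `ctr` in the `A`-argument -/

lemma tens_add_right17 (i : Fin (t + 1)) (b : Idx t k → F) (a a' : Fin k → F) :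
    tens i b (a + a') = tens i b a + tens i b a' := by
  funext x
  simp only [tens, Pi.add_apply]
  ring

lemma tens_sub_right17 (i : Fin (t + 1)) (b : Idx t k → F) (a a' : Fin k → F) :
    tens i b (a - a') = tens i b a - tens i b a' := by
  funext x
  simp only [tens, Pi.sub_apply]
  ring

lemma tens_smul_right17 (i : Fin (t + 1)) (b : Idx t k → F) (c : F) (a : Fin k → F) :
    tens i b (c • a) = c • tens i b a := by
  funext x
  simp only [tens, Pi.smul_apply, smul_eq_mul]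
  ring

lemma tens_smul_left17 (i : Fin (t + 1)) (c : F) (b : Idx t k → F) (a : Fin k → F) :
    tens i (c • b) a = c • tens i b a := by
  funext x
  simp only [tens, Pi.smul_apply, smul_eq_mul]
  ring

lemma tens_zero_right17 (i : Fin (t + 1)) (b : Idx t k → F) : tens i b (0 : Fin k → F) = 0 := by
  funext x
  simp only [tens, Pi.zero_apply, mul_zero]

lemma ctr_add_left17 (i : Fin (t + 1)) (ξ ξ' : Fin k → F) (v : Idx (t + 1) k → F) :
    ctr i (ξ + ξ') v = ctr i ξ v + ctr i ξ' v := by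
  funext u
  simp only [ctr, Pi.add_apply, add_mul, Finset.sum_add_distrib]

lemma ctr_sub_left17 (i : Fin (t + 1)) (ξ ξ' : Fin k → F) (v : Idx (t + 1) k → F) :
    ctr i (ξ - ξ') v = ctr i ξ v - ctr i ξ' v := by
  funext u
  simp only [ctr, Pi.sub_apply, sub_mul, Finset.sum_sub_distrib]

lemma ctr_smul_left17 (i : Fin (t + 1)) (c : F) (ξ : Fin k → F) (v : Idx (t + 1) k → F) :
    ctr i (c • ξ) v = c • ctr i ξ v := by
  funext u
  simp only [ctr, Pi.smul_apply, smul_eq_mul, Finset.mul_sum]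
  apply Finset.sum_congr rfl
  intro a _
  ring

lemma ctr_zero_left17 (i : Fin (t + 1)) (v : Idx (t + 1) k → F) : ctr i (0 : Fin k → F) v = 0 := by
  funext u
  simp only [ctr, Pi.zero_apply, zero_mul, Finset.sum_const_zero]

lemma ctr_sub17 (i : Fin (t + 1)) (ξ : Fin k → F) (v w : Idx (t + 1) k → F) :
    ctr i ξ (v - w) = ctr i ξ v - ctr i ξ w := by
  funext u
  simp only [ctr, Pi.sub_apply, mul_sub, Finset.sum_sub_distrib]

/-! ### `dag` -/

lemma dag_dot17 (y a : Fin k → F) : dag q y ⬝ᵥ a = hv q a y :=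
  (Cfsg.Agent.Lib.Helper20.UT.hv_eq_dot q a y).symm

lemma dag_smul17 (c : F) (w : Fin k → F) : dag q (c • w) = c ^ q • dag q w := by
  funext a
  simp only [Cfsg.Agent.Lib.Helper20.UT.cj, Pi.smul_apply, smul_eq_mul, mul_pow]

lemma vecMulVec_dag_mulVec17 (s w v : Fin k → F) : Matrix.vecMulVec s (dag q w) *ᵥ v = hv q v w • s := by
  rw [Matrix.vecMulVec_mulVec, dag_dot17]
  ext a
  simp [mul_comm]

lemma dag_vecMul_vecMulVec17 (z s w : Fin k → F) :
    dag q z ᵥ* Matrix.vecMulVec s (dag q w) = hv q s z • dag q w := by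
  rw [Matrix.vecMul_vecMulVec, dag_dot17]

/-! ### the Heisenberg matrix -/

lemma etaA_sub_one17 (y w : Fin k → F) (c : F) :
    etaA q y w c - 1 =
      Matrix.vecMulVec w (dag q y) - Matrix.vecMulVec y (dag q w) + c • Matrix.vecMulVec y (dag q y) := by
  unfold etaA
  abel

lemma etaA_sub_one_mulVec17 (y w a : Fin k → F) (c : F) :
    (etaA q y w c - 1) *ᵥ a = hv q a y • w - hv q a w • y + (c * hv q a y) • y := by
  rw [etaA_sub_one17, Matrix.add_mulVec, Matrix.sub_mulVec, Matrix.smul_mulVec]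
  simp only [vecMulVec_dag_mulVec17, smul_smul]

lemma dag_vecMul_etaA17 (y w z : Fin k → F) (c : F) :
    dag q z ᵥ* (etaA q y w c - 1) = (hv q w z + c * hv q y z) • dag q y - hv q y z • dag q w := by
  rw [etaA_sub_one17, Matrix.vecMul_add, Matrix.vecMul_sub, Matrix.vecMul_smul]
  simp only [dag_vecMul_vecMulVec17, add_smul, mul_smul]
  abel

lemma slotGL_val_etaA17 (i : Fin t) (η : GL (Fin k) F) (y w : Fin k → F) (c : F)
    (hη : (η : Matrix (Fin k) (Fin k) F) = etaA q y w c) :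
    ((slotGL i η : GL (Idx t k) F) : Matrix (Idx t k) (Idx t k) F) = 1 + slot k t i (etaA q y w c - 1) := by
  rw [slotGL_val, hη, ← slot_one (m := k) (t := t) (F := F) i, ← slot_add]
  congr 1
  abel

section fin
variable [Fintype F]

/-- the fibre `W(i,y)` through the contractions with `w†`, `w ⊥ y` -/
lemma mem_Wf_iff_dag17 (hF : Fintype.card F = q ^ 2) (i : Fin (t + 1)) (y : Fin k → F) (v : Idx (t + 1) k → F) :
    v ∈ Wf i y ↔ ∀ w : Fin k → F, hv q w y = 0 → ctr i (dag q w) v = 0 := by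
  unfold Wf
  rw [Cfsg.Agent.Lib.Helper22.TWLeaf.mem_fib_iff_ctr]
  constructor
  · intro h w hw
    apply h
    intro a ha
    rw [Submodule.mem_span_singleton] at ha
    obtain ⟨c, rfl⟩ := ha
    rw [dag_dot17, Cfsg.Agent.Lib.Helper20.UT.hv_smul_left,
      Cfsg.Agent.Lib.Helper20.UT.hv_symm_zero hF hw, mul_zero]
  · intro h ξ hξ
    have e : dag q (fun a => (ξ a) ^ q) = ξ := by
      funext a
      exact Cfsg.Agent.Lib.Helper20.UT.pow_q_pow_q' hF (ξ a)
    have h1 : hv q y (fun a => (ξ a) ^ q) = 0 := by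
      rw [← dag_dot17, e]
      exact hξ y (Submodule.mem_span_singleton_self y)
    have h2 := h (fun a => (ξ a) ^ q) (Cfsg.Agent.Lib.Helper20.UT.hv_symm_zero hF h1)
    rwa [e] at h2

/-- the Heisenberg nilpotent is flag-nilpotent -/
lemma flagNil_eta17 (hF : Fintype.card F = q ^ 2) (i : Fin (t + 1)) (y w : Fin k → F) (c : F) (hy0 : y ≠ 0)
    (hy : hv q y y = 0) (hw : hv q w y = 0) :
    FlagNil (Wf i y) (Cf i (dag q y)) (slot k (t + 1) i (etaA q y w c - 1)) := by
  have hyw : hv q y w = 0 := Cfsg.Agent.Lib.Helper20.UT.hv_symm_zero hF hw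
  refine ⟨?_, ?_, ?_⟩
  · intro v
    rw [Cfsg.Agent.Lib.Helper22.TWLeaf.mem_Cf_iff_ctr, Cfsg.Agent.Lib.Helper22.TWLeaf.ctr_slot_mulVec,
      dag_vecMul_etaA17, hw, hy, mul_zero, add_zero, zero_smul, zero_smul, sub_zero, ctr_zero_left17]
  · intro v hv'
    rw [Cfsg.Agent.Lib.Helper22.TWLeaf.mem_Cf_iff_ctr] at hv'
    rw [mem_Wf_iff_dag17 hF]
    intro w' hw'
    have hyw' : hv q y w' = 0 := Cfsg.Agent.Lib.Helper20.UT.hv_symm_zero hF hw'
    rw [Cfsg.Agent.Lib.Helper22.TWLeaf.ctr_slot_mulVec, dag_vecMul_etaA17, hyw', mul_zero, add_zero, zero_smul,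
      sub_zero, ctr_smul_left17, hv', smul_zero]
  · intro v hv'
    rw [Cfsg.Agent.Lib.Helper22.TWLeaf.mem_Wf_iff_tens i y hy0] at hv'
    obtain ⟨b, rfl⟩ := hv'
    rw [Cfsg.Agent.Lib.Helper22.TWLeaf.slot_mulVec_tens, etaA_sub_one_mulVec17, hy, hyw]
    simp only [mul_zero, zero_smul, sub_zero, add_zero]
    exact tens_zero_right17 i b

end fin

/-- `u - 1` is flag-nilpotent for `u ∈ U^W` -/
lemma flagNil_of_InU17 (i : Fin t) (y : Fin k → F) (u : GL (Idx t k) F) (hu : InU q i y u) :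
    FlagNil (Wf i y) (Cf i (dag q y)) ((u : Matrix (Idx t k) (Idx t k) F) - 1) := by
  have e : ∀ v, ((u : Matrix (Idx t k) (Idx t k) F) - 1) *ᵥ v = mv u v - v := by
    intro v
    rw [Matrix.sub_mulVec, Matrix.one_mulVec]
    rfl
  refine ⟨?_, ?_, ?_⟩
  · intro v
    rw [e]
    exact hu.2.2 v
  · intro v hv'
    rw [e]
    exact hu.2.1 v hv'
  · intro v hv'
    rw [e, hu.1 v hv', sub_self]

end Cfsg.Agent.Lib.Helper17.TWUIILeaf
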