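import Mathlib
import Cfsg.Agent.Lib.Helper5.TWU.Defs
import Cfsg.Agent.Lib.Helper8.TW.Defs
import Cfsg.Agent.Lib.Helper22.TWExtBasic
import Cfsg.Agent.Lib.Helper22.TWExtMore
import Cfsg.Agent.Lib.Helper22.TWQK
import Cfsg.Agent.Lib.Helper23.TWUT3
import Cfsg.Agent.Lib.Helper14.TWIIDefs
import Cfsg.Agent.Lib.Helper14.TWUIIDefs
import Cfsg.Agent.Lib.Helper16.TWUIIEta
import Cfsg.Agent.Lib.Helper12.TWUIIS
import Cfsg.Agent.Lib.Helper12.C3uF
import Cfsg.Agent.Lib.Helper1.TWUIUT8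
import Cfsg.Agent.Lib.Helper17.TWUIIR1a

/-!
# S5672 (C7 unitary) — STAGE II (sub-planner helper14): leaf R3 `R1plus` (helper17)
**(R1+)**: `X' ∩ U^W ≤ G` once `X' ∩ Z_W ≤ G` (`W = W(i,y)` an isotropic fibre).  Tools: `Helper17.TWUIIR1a`.
-/

set_option autoImplicit false
set_option linter.unusedSectionVars false
set_option linter.unusedVariables false

namespace Cfsg.Agent.Lib.Helper17.TWUIILeaf
open Matrix Cfsg.Geo Cfsg.Agent.Lib.Helper18.AschA89 Cfsg.Agent.Lib.Helper8.TW Cfsg.Agent.Lib.Helper5.TWU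
  Cfsg.Agent.Lib.Helper14.TWII Cfsg.Agent.Lib.Helper14.TWUII
open Cfsg.Agent.Lib.Helper20.UT (hv)
open Cfsg.Agent.Lib.Helper23.TWUQ (NSp)

variable {F : Type*} [Field F] [Fintype F] {t k q : ℕ}

/-- an admissible parameter `c` for `w` -/
lemma exists_admissible17 (hF : Fintype.card F = q ^ 2) {κ : Type} [Fintype κ] (w : κ → F) :
    ∃ c : F, c + c ^ q + hv q w w = 0 := by
  have hf := Cfsg.Agent.Lib.Helper20.UT.hv_unitary (n := 1) hF
  have hfix : (-(hv q w w)) ^ q = -(hv q w w) := by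
    rw [Cfsg.Agent.Lib.Helper20.UT.neg_pow_q hF, Cfsg.Agent.Lib.Helper20.UT.hv_self_pow hF]
  obtain ⟨c, hc⟩ := Cfsg.Agent.Lib.Helper5.UForm.tr_surj hf.involutive hf.ne_refl (-(hv q w w)) hfix
  refine ⟨c, ?_⟩
  have hc' : c + c ^ q = -(hv q w w) := hc
  rw [hc', neg_add_cancel]

omit [Fintype F] in
lemma mv_inv_mv17 {κ : Type} [Fintype κ] [DecidableEq κ] (g : GL κ F) (v : κ → F) : mv g⁻¹ (mv g v) = v := by
  unfold mv
  rw [Matrix.mulVec_mulVec, ← Units.val_mul, inv_mul_cancel, Units.val_one, Matrix.one_mulVec]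

/-- **R3 (R1+)** -/
theorem R1plus (hF : Fintype.card F = q ^ 2) (hk : 2 ≤ k) (X' : Subgroup (GL (Idx (t + 1) k) F))
    (hHX : HU (t + 1) k q F ≤ X') (i : Fin (t + 1)) (y : Fin k → F) (hy0 : y ≠ 0) (hy : hv q y y = 0)
    (hB : ∀ u ∈ X', InZ i y u → u ∈ Gstd (t + 1) k F) (u : GL (Idx (t + 1) k) F) (huX : u ∈ X')
    (hu : InU q i y u) : u ∈ Gstd (t + 1) k F := by
  classical
  obtain ⟨D, hD⟩ : ∃ D : Matrix (Idx (t + 1) k) (Idx (t + 1) k) F,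
      D = (u : Matrix (Idx (t + 1) k) (Idx (t + 1) k) F) - 1 := ⟨_, rfl⟩
  have huD : (u : Matrix (Idx (t + 1) k) (Idx (t + 1) k) F) = 1 + D := by
    rw [hD]
    abel
  have hDnil : FlagNil (Wf i y) (Cf i (dag q y)) D := by
    rw [hD]
    exact flagNil_of_InU17 i y u hu
  obtain ⟨y', hy'i, hyy'⟩ := Cfsg.Agent.Lib.Helper1.TWULeaf.exists_hyp_partner hF y hy0 hy
  have hy'y : hv q y' y = 1 := by
    rw [← Cfsg.Agent.Lib.Helper20.UT.hv_conj hF, hyy', one_pow]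
  have hDC : ∀ v, ctr i (dag q y) (D *ᵥ v) = 0 := fun v =>
    (Cfsg.Agent.Lib.Helper22.TWLeaf.mem_Cf_iff_ctr i (dag q y) _).mp (hDnil.toC v)
  have hDW : ∀ b : Idx t k → F, D *ᵥ tens i b y = 0 := fun b =>
    hDnil.zero _ ((Cfsg.Agent.Lib.Helper22.TWLeaf.mem_Wf_iff_tens i y hy0 _).mpr ⟨b, rfl⟩)
  -- Step B: the relation from the commutator with a Heisenberg element
  have step : ∀ (w : Fin k → F), hv q w y = 0 → ∃ s : F, ∀ b : Idx t k → F,
      ctr i (dag q y') (D *ᵥ tens i b w) + ctr i (dag q w) (D *ᵥ tens i b y') = s • b := by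
    intro w hw
    obtain ⟨c, hc⟩ := exists_admissible17 hF w
    obtain ⟨η, hη, hηG, hηdet, hηy⟩ := Cfsg.Agent.Lib.Helper16.TWUIILeaf.etaA_mem hF y w c hy hw hc
    have haH : slotGL i η ∈ HU (t + 1) k q F :=
      Cfsg.Agent.Lib.Helper12.TWUIILeaf.slotGL_mem_HU hF i η hηG hηdet
    have haval := slotGL_val_etaA17 i η y w c hη
    obtain ⟨E, hE⟩ : ∃ E : Matrix (Idx (t + 1) k) (Idx (t + 1) k) F,
        E = slot k (t + 1) i (etaA q y w c - 1) := ⟨_, rfl⟩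
    rw [← hE] at haval
    have hEnil : FlagNil (Wf i y) (Cf i (dag q y)) E := by
      rw [hE]
      exact flagNil_eta17 hF i y w c hy0 hy hw
    have hcomm := comm_flag u (slotGL i η) D E huD haval hDnil hEnil
    have hκX : u * slotGL i η * u⁻¹ * (slotGL i η)⁻¹ ∈ X' :=
      X'.mul_mem (X'.mul_mem (X'.mul_mem huX (hHX haH)) (X'.inv_mem huX)) (X'.inv_mem (hHX haH))
    have hmvκ : ∀ v, mv (u * slotGL i η * u⁻¹ * (slotGL i η)⁻¹) v = v + (D * E - E * D) *ᵥ v := by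
      intro v
      unfold mv
      rw [hcomm, Matrix.add_mulVec, Matrix.one_mulVec]
    have hZW : ∀ v, (D * E - E * D) *ᵥ v ∈ Wf i y := by
      intro v
      rw [Matrix.sub_mulVec, ← Matrix.mulVec_mulVec, ← Matrix.mulVec_mulVec]
      exact (Wf i y).sub_mem (hDnil.toW _ (hEnil.toC v)) (hEnil.toW _ (hDnil.toC v))
    have hZ0 : ∀ v ∈ Wf i y, (D * E - E * D) *ᵥ v = 0 := by
      intro v hv'
      rw [Matrix.sub_mulVec, ← Matrix.mulVec_mulVec, ← Matrix.mulVec_mulVec, hEnil.zero v hv', hDnil.zero v hv',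
        Matrix.mulVec_zero, Matrix.mulVec_zero, sub_zero]
    have hκZ : InZ i y (u * slotGL i η * u⁻¹ * (slotGL i η)⁻¹) := by
      refine ⟨fun v => ?_, fun v hv' => ?_⟩
      · rw [hmvκ, add_sub_cancel_left]
        exact hZW v
      · rw [hmvκ, hZ0 v hv', add_zero]
    have hκG := hB _ hκX hκZ
    obtain ⟨ξ, hξy, hκval⟩ := Cfsg.Agent.Lib.Helper22.TWQLeaf.K_lemma hk _ hκG i y hy0 hκZ.2 hκZ.1
    have hZeq : D * E - E * D = rootN i y ξ := add_left_cancel (hcomm.symm.trans hκval)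
    refine ⟨ξ ⬝ᵥ y', fun b => ?_⟩
    have h1 : (D * E - E * D) *ᵥ tens i b y' = (ξ ⬝ᵥ y') • tens i b y := by
      rw [hZeq]
      unfold rootN
      rw [Cfsg.Agent.Lib.Helper22.TWLeaf.slot_mulVec_tens, Matrix.vecMulVec_mulVec, op_smul_eq_smul,
        tens_smul_right17]
    have h2 : (D * E - E * D) *ᵥ tens i b y' = D *ᵥ tens i b w - E *ᵥ (D *ᵥ tens i b y') := by
      rw [Matrix.sub_mulVec, ← Matrix.mulVec_mulVec, ← Matrix.mulVec_mulVec]
      congr 1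
      rw [hE, Cfsg.Agent.Lib.Helper22.TWLeaf.slot_mulVec_tens, etaA_sub_one_mulVec17, hy'y, one_smul, mul_one,
        tens_add_right17, tens_sub_right17, tens_smul_right17, tens_smul_right17, Matrix.mulVec_add,
        Matrix.mulVec_sub, Matrix.mulVec_smul, Matrix.mulVec_smul, hDW, smul_zero, smul_zero, sub_zero, add_zero]
    have h3 := congrArg (ctr i (dag q y')) (h2.symm.trans h1)
    rw [ctr_sub17, hE, Cfsg.Agent.Lib.Helper22.TWLeaf.ctr_slot_mulVec, dag_vecMul_etaA17, ctr_sub_left17,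
      ctr_smul_left17, ctr_smul_left17, hDC, smul_zero, zero_sub, hyy', one_smul, sub_neg_eq_add,
      Cfsg.Agent.Lib.Helper22.TWLeaf.ctr_smul, Cfsg.Agent.Lib.Helper22.TWLeaf.ctr_tens, dag_dot17, hyy',
      one_smul] at h3
    exact h3
  -- Step C: the conjugate-linear part is scalar
  obtain ⟨ζ, hζ⟩ := Cfsg.Agent.Lib.Helper12.C3uLeaf.exists_pow_ne hF
  have stepC : ∀ (w : Fin k → F), hv q w y = 0 → ∃ ψ : F, ∀ b : Idx t k → F,
      ctr i (dag q w) (D *ᵥ tens i b y') = ψ • b := by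
    intro w hw
    obtain ⟨s₁, h₁⟩ := step w hw
    have hζw : hv q (ζ • w) y = 0 := by
      rw [Cfsg.Agent.Lib.Helper20.UT.hv_smul_left, hw, mul_zero]
    obtain ⟨s₂, h₂⟩ := step (ζ • w) hζw
    have hne : ζ ^ q - ζ ≠ 0 := sub_ne_zero.mpr hζ
    refine ⟨(ζ ^ q - ζ)⁻¹ * (s₂ - ζ * s₁), fun b => ?_⟩
    have e1 := h₁ b
    have e2 := h₂ b
    rw [tens_smul_right17, Matrix.mulVec_smul, Cfsg.Agent.Lib.Helper22.TWLeaf.ctr_smul, dag_smul17,
      ctr_smul_left17] at e2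
    have e3 : (ζ ^ q - ζ) • ctr i (dag q w) (D *ᵥ tens i b y') = (s₂ - ζ * s₁) • b := by
      rw [sub_smul, sub_smul, mul_smul, ← e1, ← e2, smul_add]
      abel
    rw [mul_smul, ← e3, smul_smul, inv_mul_cancel₀ hne, one_smul]
  -- Step D: the vector `w₀`
  have hk0 : 0 < k := by omega
  obtain ⟨u₀, hu₀⟩ : ∃ u₀ : Idx t k, u₀ = fun _ => ⟨0, hk0⟩ := ⟨_, rfl⟩
  obtain ⟨x₀, hx₀⟩ : ∃ x₀ : Idx (t + 1) k → F, x₀ = D *ᵥ tens i (Pi.single u₀ 1) y' := ⟨_, rfl⟩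
  obtain ⟨w₀, hw₀⟩ : ∃ w₀ : Fin k → F, w₀ = fun a => x₀ (ins i a u₀) := ⟨_, rfl⟩
  have hctr0 : ∀ w : Fin k → F, hv q w₀ w = ctr i (dag q w) x₀ u₀ := by
    intro w
    rw [hw₀]
    simp only [Cfsg.Agent.Lib.Helper20.UT.hv, ctr, Cfsg.Agent.Lib.Helper20.UT.cj]
    apply Finset.sum_congr rfl
    intro a _
    rw [mul_comm]
  have hw₀y : hv q w₀ y = 0 := by
    rw [hctr0, hx₀, hDC]
    rfl
  have hΨ : ∀ (w : Fin k → F), hv q w y = 0 → ∀ b : Idx t k → F,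
      ctr i (dag q w) (D *ᵥ tens i b y') = hv q w₀ w • b := by
    intro w hw b
    obtain ⟨ψ, hψ⟩ := stepC w hw
    have e : hv q w₀ w = ψ := by
      rw [hctr0, hx₀, hψ (Pi.single u₀ 1)]
      simp
    rw [e]
    exact hψ b
  -- Step E: the correction by a Heisenberg element
  obtain ⟨c₀, hc₀⟩ := exists_admissible17 hF w₀
  obtain ⟨η₀, hη₀, hη₀G, hη₀det, hη₀y⟩ := Cfsg.Agent.Lib.Helper16.TWUIILeaf.etaA_mem hF y w₀ c₀ hy hw₀y hc₀
  have ha₀H : slotGL i η₀ ∈ HU (t + 1) k q F :=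
    Cfsg.Agent.Lib.Helper12.TWUIILeaf.slotGL_mem_HU hF i η₀ hη₀G hη₀det
  have ha₀val := slotGL_val_etaA17 i η₀ y w₀ c₀ hη₀
  obtain ⟨E₀, hE₀⟩ : ∃ E₀ : Matrix (Idx (t + 1) k) (Idx (t + 1) k) F,
      E₀ = slot k (t + 1) i (etaA q y w₀ c₀ - 1) := ⟨_, rfl⟩
  rw [← hE₀] at ha₀val
  have hE₀nil : FlagNil (Wf i y) (Cf i (dag q y)) E₀ := by
    rw [hE₀]
    exact flagNil_eta17 hF i y w₀ c₀ hy0 hy hw₀y
  have hkey : ∀ v, D *ᵥ v - E₀ *ᵥ v ∈ Wf i y := by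
    intro v
    rw [mem_Wf_iff_dag17 hF]
    intro w hw
    have hyw : hv q y w = 0 := Cfsg.Agent.Lib.Helper20.UT.hv_symm_zero hF hw
    have hR : ctr i (dag q w) (E₀ *ᵥ v) = hv q w₀ w • ctr i (dag q y) v := by
      rw [hE₀, Cfsg.Agent.Lib.Helper22.TWLeaf.ctr_slot_mulVec, dag_vecMul_etaA17, hyw, mul_zero, add_zero,
        zero_smul, sub_zero, ctr_smul_left17]
    have hvC : v - tens i (ctr i (dag q y) v) y' ∈ Cf i (dag q y) := by
      rw [Cfsg.Agent.Lib.Helper22.TWLeaf.mem_Cf_iff_ctr, ctr_sub17, Cfsg.Agent.Lib.Helper22.TWLeaf.ctr_tens,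
        dag_dot17, hy'y, one_smul, sub_self]
    have hL : ctr i (dag q w) (D *ᵥ v) = hv q w₀ w • ctr i (dag q y) v := by
      have e : D *ᵥ v = D *ᵥ tens i (ctr i (dag q y) v) y' + D *ᵥ (v - tens i (ctr i (dag q y) v) y') := by
        rw [← Matrix.mulVec_add]
        congr 1
        abel
      have h0 : ctr i (dag q w) (D *ᵥ (v - tens i (ctr i (dag q y) v) y')) = 0 :=
        (mem_Wf_iff_dag17 hF i y _).mp (hDnil.toW _ hvC) w hw
      rw [e, Cfsg.Agent.Lib.Helper22.TWLeaf.ctr_add, hΨ w hw, h0, add_zero]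
    rw [ctr_sub17, hL, hR, sub_self]
  have ha₀W : ∀ z ∈ Wf i y, mv (slotGL i η₀) z = z := by
    intro z hz
    unfold mv
    rw [ha₀val, Matrix.add_mulVec, Matrix.one_mulVec, hE₀nil.zero z hz, add_zero]
  have ha₀invW : ∀ z ∈ Wf i y, mv (slotGL i η₀)⁻¹ z = z := by
    intro z hz
    have h1 := ha₀W z hz
    conv_lhs => rw [← h1]
    exact mv_inv_mv17 _ z
  have hmvmul : ∀ v, mv ((slotGL i η₀)⁻¹ * u) v = mv (slotGL i η₀)⁻¹ (mv u v) := by
    intro v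
    unfold mv
    rw [Units.val_mul, Matrix.mulVec_mulVec]
  have hu'Z : InZ i y ((slotGL i η₀)⁻¹ * u) := by
    refine ⟨fun v => ?_, fun v hv' => ?_⟩
    · have e1 : mv ((slotGL i η₀)⁻¹ * u) v - v = mv (slotGL i η₀)⁻¹ (mv u v - mv (slotGL i η₀) v) := by
        rw [hmvmul]
        unfold mv
        rw [Matrix.mulVec_sub]
        congr 1
        rw [Matrix.mulVec_mulVec, ← Units.val_mul, inv_mul_cancel, Units.val_one, Matrix.one_mulVec]
      have e2 : mv u v - mv (slotGL i η₀) v = D *ᵥ v - E₀ *ᵥ v := by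
        unfold mv
        rw [huD, ha₀val, Matrix.add_mulVec, Matrix.add_mulVec, Matrix.one_mulVec]
        abel
      rw [e1, e2, ha₀invW _ (hkey v)]
      exact hkey v
    · rw [hmvmul, hu.1 v hv', ha₀invW v hv']
  have hu'X : (slotGL i η₀)⁻¹ * u ∈ X' := X'.mul_mem (X'.inv_mem (hHX ha₀H)) huX
  have hu'G := hB _ hu'X hu'Z
  have e : u = slotGL i η₀ * ((slotGL i η₀)⁻¹ * u) := by group
  rw [e]
  exact (Gstd (t + 1) k F).mul_mem ha₀H.1 hu'G

end Cfsg.Agent.Lib.Helper17.TWUIILeaf
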