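import Mathlib
import Cfsg.Agent.Lib.Helper5.TWU.Defs
import Cfsg.Agent.Lib.Helper23.TWUT
import Cfsg.Agent.Lib.Helper23.TWUQMain
import Cfsg.Agent.Lib.Helper23.TWUQSc
import Cfsg.Agent.Lib.Helper22.TWExtMore
import Cfsg.Agent.Lib.Helper14.TWIIDefs
import Cfsg.Agent.Lib.Helper19.TWGrow
import Cfsg.Agent.Lib.Helper19.TWU3Defs
import Cfsg.Agent.Lib.Helper19.TWU3Tool
import Cfsg.Agent.Lib.Helper1.TWUIUT8
import Cfsg.Agent.Lib.Helper12.C3uF

/-!
# S5672 (C7 unitary) — STAGE III (sub-planner helper19): leaf A16 `RG_of_KB_XTU` (helper17)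
THE TRANSVECTION: from `SU(A_ĵ) ⊗ 1_j ≤ X` and `XT_{j,l}(X)` a full unitary transvection root group with a pure
isotropic centre.  General tools: `inv_val_of_sq_zero`, `InM_comm` (commutator of two unipotents), `InM_quot`,
`ptens_update_apply` and linearity of `ptens` in one factor.
-/

set_option autoImplicit false
set_option linter.unusedSectionVars false
set_option linter.unusedVariables false

namespace Cfsg.Agent.Lib.Helper17.TWU3Leaf
open Matrix Cfsg.Geo Cfsg.Agent.Lib.Helper18.AschA89 Cfsg.Agent.Lib.Helper20.AschLeaf Cfsg.Agent.Lib.Helper8.TW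
open Cfsg.Agent.Lib.Helper5.TWU Cfsg.Agent.Lib.Helper19.TWU3
open Cfsg.Agent.Lib.Helper20.UT (hv)
open Cfsg.Agent.Lib.Helper23.TWUT (adjM)

variable {F : Type*} [Field F] [Fintype F] {t k q : ℕ}

/-! ### unipotent calculus in a subgroup -/

omit [Fintype F] in
/-- the inverse of a unit with matrix `1 + N`, `N² = 0` -/
lemma inv_val_of_sq_zero {κ : Type} [Fintype κ] [DecidableEq κ] (g : GL κ F) (N : Matrix κ κ F)
    (hg : (g : Matrix κ κ F) = 1 + N) (hN : N * N = 0) : ((g⁻¹ : GL κ F) : Matrix κ κ F) = 1 - N := by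
  apply Units.inv_eq_of_mul_eq_one_right
  have e : (1 + N) * (1 - N) = 1 - N * N := by noncomm_ring
  rw [hg, e, hN, sub_zero]

omit [Fintype F] in
/-- commutator of two unipotents `1 + a`, `1 + b` with `a² = b² = aba = bab = 0` -/
lemma InM_comm {κ : Type} [Fintype κ] [DecidableEq κ] (X : Subgroup (GL κ F)) (a b : Matrix κ κ F)
    (ha : InM X (1 + a)) (hb : InM X (1 + b)) (haa : a * a = 0) (hbb : b * b = 0)
    (haba : a * b * a = 0) (hbab : b * a * b = 0) : InM X (1 + (a * b - b * a)) := by
  obtain ⟨u, hu, hua⟩ := ha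
  obtain ⟨v, hv, hvb⟩ := hb
  refine ⟨u * v * u⁻¹ * v⁻¹, X.mul_mem (X.mul_mem (X.mul_mem hu hv) (X.inv_mem hu)) (X.inv_mem hv), ?_⟩
  rw [Units.val_mul, Units.val_mul, Units.val_mul, inv_val_of_sq_zero u a hua haa,
    inv_val_of_sq_zero v b hvb hbb, hua, hvb]
  have key : (1 + a) * (1 + b) * (1 - a) * (1 - b) =
      1 + (a * b - b * a) - a * a - a * b * a - b * b - a * (b * b) + a * a * b + b * a * b
        + a * b * a * b := by
    noncomm_ring
  rw [key, haa, hbb, haba, hbab]
  simp

omit [Fintype F] in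
/-- quotient of two unipotents -/
lemma InM_quot {κ : Type} [Fintype κ] [DecidableEq κ] (X : Subgroup (GL κ F)) (A B : Matrix κ κ F)
    (hA : InM X (1 + A)) (hB : InM X (1 + B)) (hBB : B * B = 0) (hAB : A * B = 0) :
    InM X (1 + (A - B)) := by
  obtain ⟨u, hu, hua⟩ := hA
  obtain ⟨v, hv, hvb⟩ := hB
  refine ⟨u * v⁻¹, X.mul_mem hu (X.inv_mem hv), ?_⟩
  have e : (1 + A) * (1 - B) = 1 + (A - B) - A * B := by noncomm_ring
  rw [Units.val_mul, inv_val_of_sq_zero v B hvb hBB, hua, e, hAB, sub_zero]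

/-! ### `ext` is linear -/

omit [Fintype F] in
lemma ext_add17 (i : Fin (t + 1)) (γ γ' : Matrix (Idx t k) (Idx t k) F) :
    ext i (γ + γ') = ext i γ + ext i γ' := by
  ext x x'
  rw [Matrix.add_apply, Cfsg.Agent.Lib.Helper22.TWLeaf.ext_apply, Cfsg.Agent.Lib.Helper22.TWLeaf.ext_apply,
    Cfsg.Agent.Lib.Helper22.TWLeaf.ext_apply, Matrix.add_apply]
  split_ifs <;> simp

omit [Fintype F] in
lemma ext_smul17 (i : Fin (t + 1)) (c : F) (γ : Matrix (Idx t k) (Idx t k) F) :
    ext i (c • γ) = c • ext i γ := by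
  ext x x'
  rw [Matrix.smul_apply, Cfsg.Agent.Lib.Helper22.TWLeaf.ext_apply, Cfsg.Agent.Lib.Helper22.TWLeaf.ext_apply,
    Matrix.smul_apply]
  split_ifs <;> simp

/-! ### `ptens` in one factor -/

omit [Fintype F] in
lemma ptens_eq_zero17 {T : ℕ} (G : Fin T → Matrix (Fin k) (Fin k) F) (i : Fin T) (h : G i = 0) :
    ptens k T G = 0 := by
  ext x y
  rw [ptens_apply, Matrix.zero_apply]
  apply Finset.prod_eq_zero (Finset.mem_univ i)
  rw [h, Matrix.zero_apply]

omit [Fintype F] in
lemma ptens_update_apply17 {T : ℕ} (G : Fin T → Matrix (Fin k) (Fin k) F) (l : Fin T)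
    (A : Matrix (Fin k) (Fin k) F) (x y : Fin T → Fin k) :
    ptens k T (Function.update G l A) x y =
      A (x l) (y l) * ∏ i ∈ Finset.univ.erase l, G i (x i) (y i) := by
  rw [ptens_apply, ← Finset.mul_prod_erase Finset.univ _ (Finset.mem_univ l), Function.update_self]
  congr 1
  apply Finset.prod_congr rfl
  intro i hi
  rw [Function.update_of_ne (Finset.ne_of_mem_erase hi)]

omit [Fintype F] in
lemma ptens_update_sub17 {T : ℕ} (G : Fin T → Matrix (Fin k) (Fin k) F) (l : Fin T)
    (A B : Matrix (Fin k) (Fin k) F) :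
    ptens k T (Function.update G l (A - B)) =
      ptens k T (Function.update G l A) - ptens k T (Function.update G l B) := by
  ext x y
  rw [Matrix.sub_apply, ptens_update_apply17, ptens_update_apply17, ptens_update_apply17, Matrix.sub_apply,
    sub_mul]

omit [Fintype F] in
lemma ptens_update_smul17 {T : ℕ} (G : Fin T → Matrix (Fin k) (Fin k) F) (l : Fin T) (c : F)
    (A : Matrix (Fin k) (Fin k) F) :
    ptens k T (Function.update G l (c • A)) = c • ptens k T (Function.update G l A) := by
  ext x y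
  rw [Matrix.smul_apply, ptens_update_apply17, ptens_update_apply17, Matrix.smul_apply, smul_eq_mul,
    smul_eq_mul, mul_assoc]

/-! ### A16 -/

/-- **A16** THE TRANSVECTION -/
theorem RG_of_KB_XTU (hF : Fintype.card F = q ^ 2) (hk : 3 ≤ k) (ht : 2 ≤ t) (X : Subgroup (GL (Idx (t + 1) k) F))
    (j l : Fin (t + 1)) (hjl : j ≠ l) (hK : SUV t k q F ≤ KB X j) (h : XTU q X {j, l}) :
    ∃ ys : Fin (t + 1) → Fin k → F, (∀ i, ys i ≠ 0 ∧ hv q (ys i) (ys i) = 0) ∧ RG q X (pt ys) := by
  classical
  obtain ⟨x0, hx0, hx0i⟩ := Cfsg.Agent.Lib.Helper1.TWULeaf.exists_iso (k := k) hF (by omega)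
  obtain ⟨r0, -, hr0⟩ := Cfsg.Agent.Lib.Helper1.TWULeaf.exists_hyp_partner hF x0 hx0 hx0i
  obtain ⟨θ, hθ⟩ := Cfsg.Agent.Lib.Helper12.C3uLeaf.exists_pow_ne hF
  refine ⟨fun _ => x0, fun _ => ⟨hx0, hx0i⟩, ?_⟩
  set E : Matrix (Fin k) (Fin k) F := vv q x0 x0 with hE
  have hEE : E * E = 0 := by
    rw [hE, Cfsg.Agent.Lib.Helper19.TWU3Leaf.vv_mul_vv, hx0i, zero_smul]
  -- a position other than `j` and `l`
  obtain ⟨i0', hi0'⟩ : ∃ i' : Fin t, j.succAbove i' ≠ l := by
    by_cases h0 : j.succAbove ⟨0, by omega⟩ = l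
    · refine ⟨⟨1, by omega⟩, fun h1 => ?_⟩
      have h2 := Fin.succAbove_right_injective (h0.trans h1.symm)
      simp [Fin.ext_iff] at h2
    · exact ⟨_, h0⟩
  have hi0j : j.succAbove i0' ≠ j := Fin.succAbove_ne j i0'
  -- the family of `M`
  set mf : Fin (t + 1) → Matrix (Fin k) (Fin k) F := fun i => if i = j ∨ i = l then E else 1 with hmf
  have hM : nilU q {j, l} (fun _ => x0) = ptens k (t + 1) mf := by
    rw [Cfsg.Agent.Lib.Helper19.TWU3Leaf.nilU_eq_ptens]
    congr 1
    funext i
    simp only [famU, Finset.mem_insert, Finset.mem_singleton, hmf]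
    rfl
  have hmfj : mf j = E := by simp only [hmf, true_or, if_true]
  have hmfl : mf l = E := by simp only [hmf, or_true, if_true]
  have hmf0 : mf (j.succAbove i0') = 1 := by
    simp only [hmf]
    rw [if_neg]
    rintro (h1 | h1)
    · exact hi0j h1
    · exact hi0' h1
  -- the commutator, for every `r'` with `hv q x0 r' = 1`
  have key : ∀ (r' : Fin k → F), hv q x0 r' = 1 → ∀ c c' : F, c ^ q = -c → c' ^ q = -c' →
      InM X (1 + (c' * c) •
        ptens k (t + 1) (Function.update (fun _ => E) l (vv q r' x0 - vv q x0 r'))) := by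
    intro r' hr' c c' hc hc'
    have hr'2 : hv q r' x0 = 1 := by
      rw [← Cfsg.Agent.Lib.Helper20.UT.hv_conj hF, hr', one_pow]
    set wf : Fin (t + 1) → Matrix (Fin k) (Fin k) F :=
      fun i => if i = j then 1 else if i = l then vv q r' r' else E with hwf
    set w : Fin t → Fin k → F := fun i' => if j.succAbove i' = l then r' else x0 with hw
    have hwiso : hv q (pt w) (pt w) = 0 := by
      rw [Cfsg.Agent.Lib.Helper23.TWUT.hv_pt]
      apply Finset.prod_eq_zero (Finset.mem_univ i0')
      simp only [hw, if_neg hi0']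
      exact hx0i
    set N : Matrix (Idx t k) (Idx t k) F := vv q (pt w) (pt w) with hN
    have hNN : N * N = 0 := by
      rw [hN, Cfsg.Agent.Lib.Helper19.TWU3Leaf.vv_mul_vv, hwiso, zero_smul]
    have hNadj : adjM q N = N := Cfsg.Agent.Lib.Helper19.TWU3Leaf.adjM_vv hF _ _
    have hcN : (c' • N) * (c' • N) = 0 := by
      rw [Matrix.smul_mul, Matrix.mul_smul, hNN, smul_zero, smul_zero]
    have hmemSU := Cfsg.Agent.Lib.Helper19.TWU3Leaf.unip_mem_SUV hF N hNN hNadj c' hc' hcN
    have hmemX : extGL j (unip (c' • N) hcN) ∈ X := hK hmemSU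
    have hextN : ext j N = ptens k (t + 1) wf := by
      rw [hN, Cfsg.Agent.Lib.Helper19.TWU3Leaf.vv_pt, Cfsg.Agent.Lib.Helper22.TWLeaf.ext_ptens]
      congr 1
      funext i
      rcases Fin.eq_self_or_eq_succAbove j i with rfl | ⟨i', rfl⟩
      · rw [Fin.insertNth_apply_same]
        simp only [hwf, if_true]
      · rw [Fin.insertNth_apply_succAbove]
        simp only [hwf, hw, if_neg (Fin.succAbove_ne j i')]
        split_ifs <;> rfl
    have hwfj : wf j = 1 := by simp only [hwf, if_true]
    have hwfl : wf l = vv q r' r' := by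
      simp only [hwf, if_neg (Ne.symm hjl), if_true]
    have hwf0 : wf (j.succAbove i0') = E := by
      simp only [hwf, if_neg hi0j, if_neg hi0']
    have ha : InM X (1 + c' • ptens k (t + 1) wf) := by
      refine ⟨_, hmemX, ?_⟩
      rw [extGL_val, unip_val, ext_add17, Cfsg.Agent.Lib.Helper8.TW.ext_one, ext_smul17, hextN]
    have hb : InM X (1 + c • ptens k (t + 1) mf) := by
      rw [← hM]
      exact h (fun _ => x0) c (fun _ _ => ⟨hx0, hx0i⟩) hc
    -- products
    have hWW : ptens k (t + 1) wf * ptens k (t + 1) wf = 0 := by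
      rw [ptens_mul]
      apply ptens_eq_zero17 _ (j.succAbove i0')
      show wf (j.succAbove i0') * wf (j.succAbove i0') = 0
      rw [hwf0, hEE]
    have hMM : ptens k (t + 1) mf * ptens k (t + 1) mf = 0 := by
      rw [ptens_mul]
      apply ptens_eq_zero17 _ j
      show mf j * mf j = 0
      rw [hmfj, hEE]
    have hWMW : ptens k (t + 1) wf * ptens k (t + 1) mf * ptens k (t + 1) wf = 0 := by
      rw [ptens_mul, ptens_mul]
      apply ptens_eq_zero17 _ (j.succAbove i0')
      show wf (j.succAbove i0') * mf (j.succAbove i0') * wf (j.succAbove i0') = 0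
      rw [hwf0, hmf0, mul_one, hEE]
    have hMWM : ptens k (t + 1) mf * ptens k (t + 1) wf * ptens k (t + 1) mf = 0 := by
      rw [ptens_mul, ptens_mul]
      apply ptens_eq_zero17 _ j
      show mf j * wf j * mf j = 0
      rw [hwfj, hmfj, mul_one, hEE]
    have hWM : ptens k (t + 1) wf * ptens k (t + 1) mf =
        ptens k (t + 1) (Function.update (fun _ => E) l (vv q r' x0)) := by
      rw [ptens_mul]
      congr 1
      funext i
      by_cases hil : i = l
      · subst hil
        rw [Function.update_self, hwfl, hmfl, hE, Cfsg.Agent.Lib.Helper19.TWU3Leaf.vv_mul_vv, hr', one_smul]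
      · rw [Function.update_of_ne hil]
        by_cases hij : i = j
        · subst hij
          rw [hwfj, hmfj, one_mul]
        · have e1 : wf i = E := by simp only [hwf, if_neg hij, if_neg hil]
          have e2 : mf i = 1 := by
            simp only [hmf]
            rw [if_neg]
            rintro (h1 | h1)
            · exact hij h1
            · exact hil h1
          rw [e1, e2, mul_one]
    have hMW : ptens k (t + 1) mf * ptens k (t + 1) wf =
        ptens k (t + 1) (Function.update (fun _ => E) l (vv q x0 r')) := by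
      rw [ptens_mul]
      congr 1
      funext i
      by_cases hil : i = l
      · subst hil
        rw [Function.update_self, hwfl, hmfl, hE, Cfsg.Agent.Lib.Helper19.TWU3Leaf.vv_mul_vv, hr'2, one_smul]
      · rw [Function.update_of_ne hil]
        by_cases hij : i = j
        · subst hij
          rw [hwfj, hmfj, mul_one]
        · have e1 : wf i = E := by simp only [hwf, if_neg hij, if_neg hil]
          have e2 : mf i = 1 := by
            simp only [hmf]
            rw [if_neg]
            rintro (h1 | h1)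
            · exact hij h1
            · exact hil h1
          rw [e1, e2, one_mul]
    have hcomm := InM_comm X (c' • ptens k (t + 1) wf) (c • ptens k (t + 1) mf) ha hb
      (by rw [Matrix.smul_mul, Matrix.mul_smul, hWW, smul_zero, smul_zero])
      (by rw [Matrix.smul_mul, Matrix.mul_smul, hMM, smul_zero, smul_zero])
      (by simp only [Matrix.smul_mul, Matrix.mul_smul, hWMW, smul_zero])
      (by simp only [Matrix.smul_mul, Matrix.mul_smul, hMWM, smul_zero])
    have e : c' • ptens k (t + 1) wf * c • ptens k (t + 1) mf - c • ptens k (t + 1) mf * c' • ptens k (t + 1) wf =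
        (c' * c) • ptens k (t + 1) (Function.update (fun _ => E) l (vv q r' x0 - vv q x0 r')) := by
      rw [Matrix.smul_mul, Matrix.mul_smul, Matrix.smul_mul, Matrix.mul_smul, hWM, hMW, smul_smul, smul_smul,
        mul_comm c c', ← smul_sub, ← ptens_update_sub17]
    rw [e] at hcomm
    exact hcomm
  -- the root group
  intro c'' hc''
  set s0 : F := θ - θ ^ q with hs0
  have hs0ne : s0 ≠ 0 := by
    intro h0
    exact hθ ((sub_eq_zero.mp h0).symm)
  have hs0q : s0 ^ q = -s0 := by
    rw [hs0, sub_eq_add_neg, Cfsg.Agent.Lib.Helper20.UT.add_pow_q hF, Cfsg.Agent.Lib.Helper20.UT.neg_pow_q hF,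
      Cfsg.Agent.Lib.Helper20.UT.pow_q_pow_q' hF]
    ring
  set c' : F := c'' / s0 ^ 2 with hc'
  have hc'q : c' ^ q = -c' := by
    rw [hc', div_pow, hc'', ← pow_mul, mul_comm 2 q, pow_mul, hs0q, neg_sq, neg_div]
  have hr1 : hv q x0 (r0 + θ • x0) = 1 := by
    rw [Cfsg.Agent.Lib.Helper20.UT.hv_add_right hF, Cfsg.Agent.Lib.Helper20.UT.hv_smul_right, hx0i, mul_zero,
      add_zero, hr0]
  have h1 := key r0 hr0 s0 c' hs0q hc'q
  have h2 := key (r0 + θ • x0) hr1 s0 c' hs0q hc'q
  have hD : vv q (r0 + θ • x0) x0 - vv q x0 (r0 + θ • x0) - (vv q r0 x0 - vv q x0 r0) = s0 • E := by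
    ext a b
    simp only [Matrix.sub_apply, Matrix.smul_apply, vv_apply, Pi.add_apply, Pi.smul_apply, smul_eq_mul, hE,
      hs0]
    rw [Cfsg.Agent.Lib.Helper20.UT.add_pow_q hF, mul_pow]
    ring
  have hPP : ∀ A B : Matrix (Fin k) (Fin k) F,
      ptens k (t + 1) (Function.update (fun _ => E) l A) * ptens k (t + 1) (Function.update (fun _ => E) l B) = 0 := by
    intro A B
    rw [ptens_mul]
    apply ptens_eq_zero17 _ j
    show Function.update (fun _ => E) l A j * Function.update (fun _ => E) l B j = 0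
    rw [Function.update_of_ne hjl, Function.update_of_ne hjl, hEE]
  have hq := InM_quot X _ _ h2 h1
    (by rw [Matrix.smul_mul, Matrix.mul_smul, hPP, smul_zero, smul_zero])
    (by rw [Matrix.smul_mul, Matrix.mul_smul, hPP, smul_zero, smul_zero])
  have efin : (c' * s0) • ptens k (t + 1) (Function.update (fun _ => E) l
        (vv q (r0 + θ • x0) x0 - vv q x0 (r0 + θ • x0))) -
      (c' * s0) • ptens k (t + 1) (Function.update (fun _ => E) l (vv q r0 x0 - vv q x0 r0)) =
      c'' • vv q (pt fun _ => x0) (pt fun _ => x0) := by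
    rw [← smul_sub, ← ptens_update_sub17, hD, ptens_update_smul17, smul_smul, Function.update_eq_self,
      Cfsg.Agent.Lib.Helper19.TWU3Leaf.vv_pt]
    congr 1
    rw [hc']
    field_simp
  rw [efin] at hq
  exact hq

end Cfsg.Agent.Lib.Helper17.TWU3Leaf
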