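import Mathlib
import Cfsg.Agent.Lib.Helper5.TWU.Defs
import Cfsg.Agent.Lib.Helper23.TWUT
import Cfsg.Agent.Lib.Helper23.TWUQMain
import Cfsg.Agent.Lib.Helper23.TWUQSc
import Cfsg.Agent.Lib.Helper22.TWExtMore
import Cfsg.Agent.Lib.Helper14.TWIIDefs
import Cfsg.Agent.Lib.Helper19.TWGrow
import Cfsg.Agent.Lib.Helper19.TWU3Defs
import Cfsg.Agent.Lib.Helper19.TWU3Tool
import Cfsg.Agent.Lib.Helper1.TWUIUT8
import Cfsg.Agent.Lib.Helper17.TWU3A16

/-!
# S5672 (C7 unitary) — STAGE III (sub-planner helper19): leaf U3 `mixed_mem` (helper17)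
`J = univ`: from the transvections with pure all-isotropic centres to `1 + c (v v₂† + v₂ v†)`.
Tools: `mv_of_val`, `RG_transport` (a transvection of `X` moves the centre of a root group of `X`),
`pt_update_apply17` and the linearity of `pt` in one component, `vv_add_add17`.
-/

set_option autoImplicit false
set_option linter.unusedSectionVars false
set_option linter.unusedVariables false

namespace Cfsg.Agent.Lib.Helper17.TWU3Leaf
open Matrix Cfsg.Geo Cfsg.Agent.Lib.Helper18.AschA89 Cfsg.Agent.Lib.Helper20.AschLeaf Cfsg.Agent.Lib.Helper8.TW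
open Cfsg.Agent.Lib.Helper5.TWU Cfsg.Agent.Lib.Helper19.TWU3
open Cfsg.Agent.Lib.Helper20.UT (hv)
open Cfsg.Agent.Lib.Helper23.TWUT (adjM)

variable {F : Type*} [Field F] [Fintype F] {t k q : ℕ}

/-- the action of a unit with matrix `1 + c s s†` -/
lemma mv_of_val {κ : Type} [Fintype κ] [DecidableEq κ] (g : GL κ F) (c : F) (s x : κ → F)
    (hg : (g : Matrix κ κ F) = 1 + c • vv q s s) : mv g x = x + (c * hv q x s) • s := by
  unfold mv
  rw [hg, Matrix.add_mulVec, Matrix.one_mulVec, Matrix.smul_mulVec,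
    Cfsg.Agent.Lib.Helper19.TWU3Leaf.vv_mulVec, smul_smul]

/-- a transvection of `X` moves the centre of a root group of `X` -/
lemma RG_transport (hF : Fintype.card F = q ^ 2) (X : Subgroup (GL (Idx t k) F)) (hX : X ≤ GUV t k q F)
    (s x : Idx t k → F) (c : F) (hc : c ^ q = -c) (hs : RG q X s) (hx : RG q X x) :
    RG q X (x + (c * hv q x s) • s) := by
  obtain ⟨g, hgX, hg⟩ := hs c hc
  rw [← mv_of_val g c s x hg]
  exact Cfsg.Agent.Lib.Helper19.TWU3Leaf.RG_move hF X hX g hgX x hx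

omit [Fintype F] in
lemma pt_update_apply17 {T : ℕ} (y : Fin T → Fin k → F) (p : Fin T) (a : Fin k → F) (x : Idx T k) :
    pt (Function.update y p a) x = a (x p) * ∏ i ∈ Finset.univ.erase p, y i (x i) := by
  unfold pt
  rw [← Finset.mul_prod_erase Finset.univ _ (Finset.mem_univ p), Function.update_self]
  congr 1
  apply Finset.prod_congr rfl
  intro i hi
  rw [Function.update_of_ne (Finset.ne_of_mem_erase hi)]

omit [Fintype F] in
lemma pt_update_add17 {T : ℕ} (y : Fin T → Fin k → F) (p : Fin T) (a b : Fin k → F) :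
    pt (Function.update y p (a + b)) = pt (Function.update y p a) + pt (Function.update y p b) := by
  funext x
  rw [Pi.add_apply, pt_update_apply17, pt_update_apply17, pt_update_apply17, Pi.add_apply, add_mul]

omit [Fintype F] in
lemma pt_update_smul17 {T : ℕ} (y : Fin T → Fin k → F) (p : Fin T) (c : F) (a : Fin k → F) :
    pt (Function.update y p (c • a)) = c • pt (Function.update y p a) := by
  funext x
  rw [Pi.smul_apply, pt_update_apply17, pt_update_apply17, Pi.smul_apply, smul_eq_mul, smul_eq_mul, mul_assoc]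

/-- `(a + b)(a + b)† = a a† + a b† + b a† + b b†` -/
lemma vv_add_add17 {κ : Type} (hF : Fintype.card F = q ^ 2) (a b : κ → F) :
    vv q (a + b) (a + b) = vv q a a + vv q a b + vv q b a + vv q b b := by
  ext i j
  simp only [Matrix.add_apply, vv_apply, Pi.add_apply]
  rw [Cfsg.Agent.Lib.Helper20.UT.add_pow_q hF]
  ring

/-- `hv` of two pure tensors one of whose component pairs is perpendicular -/
lemma hv_pt_eq_zero17 {T : ℕ} (a b : Fin T → Fin k → F) (i : Fin T) (h : hv q (a i) (b i) = 0) :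
    hv q (pt a) (pt b) = 0 := by
  rw [Cfsg.Agent.Lib.Helper23.TWUT.hv_pt]
  exact Finset.prod_eq_zero (Finset.mem_univ i) h

omit [Fintype F] in
lemma vv_mul_vv_zero17 {κ : Type} [Fintype κ] (a b a' b' : κ → F) (h : hv q a' b = 0) :
    vv q a b * vv q a' b' = 0 := by
  ext i j
  rw [Matrix.mul_apply, Matrix.zero_apply]
  simp only [vv_apply]
  have e : ∀ x : κ, a i * b x ^ q * (a' x * b' j ^ q) = a i * b' j ^ q * (a' x * b x ^ q) := by
    intro x
    ring
  simp_rw [e]
  rw [← Finset.mul_sum]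
  have h' : ∑ x, a' x * b x ^ q = 0 := h
  rw [h', mul_zero]

/-- **U3** -/
theorem mixed_mem (hF : Fintype.card F = q ^ 2) (hk : 2 ≤ k) (ht : 1 ≤ t) (X : Subgroup (GL (Idx (t + 1) k) F))
    (hXG : X ≤ GUV (t + 1) k q F) (h : XTU q X Finset.univ) (p : Fin (t + 1)) (yv yw : Fin (t + 1) → Fin k → F)
    (hv0 : ∀ i, yv i ≠ 0 ∧ hv q (yv i) (yv i) = 0) (hw0 : ∀ i, yw i ≠ 0 ∧ hv q (yw i) (yw i) = 0)
    (hp : yv p = yw p) (h1 : ∀ i, i ≠ p → hv q (yw i) (yv i) = 1) (c : F) (hc : c ^ q = -c) :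
    InM X (1 + c • (vv q (pt yv) (pt yw) + vv q (pt yw) (pt yv))) := by
  classical
  have hRG : ∀ ys : Fin (t + 1) → Fin k → F, (∀ i, ys i ≠ 0 ∧ hv q (ys i) (ys i) = 0) → RG q X (pt ys) := by
    intro ys hys c' hc'
    have h2 := h ys c' (fun j _ => hys j) hc'
    have e : famU q Finset.univ ys = fun i => vv q (ys i) (ys i) := by
      funext i
      simp only [famU, Finset.mem_univ, if_true]
    rw [Cfsg.Agent.Lib.Helper19.TWU3Leaf.nilU_eq_ptens, e, ← Cfsg.Agent.Lib.Helper19.TWU3Leaf.vv_pt] at h2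
    exact h2
  -- another position
  obtain ⟨i1, hi1⟩ : ∃ i1 : Fin (t + 1), i1 ≠ p := by
    have : Nontrivial (Fin (t + 1)) := Fin.nontrivial_iff_two_le.mpr (by omega)
    exact exists_ne p
  have he0 : yv p ≠ 0 := (hv0 p).1
  have hei : hv q (yv p) (yv p) = 0 := (hv0 p).2
  obtain ⟨e', he'i, hee'⟩ := Cfsg.Agent.Lib.Helper1.TWULeaf.exists_hyp_partner hF (yv p) he0 hei
  have he'e : hv q e' (yv p) = 1 := by
    rw [← Cfsg.Agent.Lib.Helper20.UT.hv_conj hF, hee', one_pow]
  have he'0 : e' ≠ 0 := by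
    rintro rfl
    rw [Cfsg.Agent.Lib.Helper20.UT.hv_zero_left] at he'e
    exact zero_ne_one he'e
  obtain ⟨c₀, hc₀0, hc₀⟩ := Cfsg.Agent.Lib.Helper23.UTLeaf.exists_skew hF
  have hc₀i : (c₀⁻¹) ^ q = -c₀⁻¹ := by rw [inv_pow, hc₀, inv_neg]
  have hlamq : (-c₀⁻¹) ^ q = c₀⁻¹ := by
    rw [Cfsg.Agent.Lib.Helper20.UT.neg_pow_q hF, hc₀i, neg_neg]
  -- `e + lam e'` is isotropic and non-zero
  obtain ⟨el, hel⟩ : ∃ el : Fin k → F, el = yv p + (-c₀⁻¹) • e' := ⟨_, rfl⟩
  have heli : hv q el el = 0 := by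
    rw [hel]
    simp only [Cfsg.Agent.Lib.Helper20.UT.hv_add_left, Cfsg.Agent.Lib.Helper20.UT.hv_add_right hF,
      Cfsg.Agent.Lib.Helper20.UT.hv_smul_left, Cfsg.Agent.Lib.Helper20.UT.hv_smul_right, hei, hee', he'e, he'i,
      hlamq]
    ring
  have hel1 : hv q el e' = 1 := by
    rw [hel, Cfsg.Agent.Lib.Helper20.UT.hv_add_left, Cfsg.Agent.Lib.Helper20.UT.hv_smul_left, hee', he'i,
      mul_zero, add_zero]
  have hel0 : el ≠ 0 := by
    intro h0
    rw [h0, Cfsg.Agent.Lib.Helper20.UT.hv_zero_left] at hel1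
    exact zero_ne_one hel1
  -- the families
  have hfs : ∀ i, Function.update yv p e' i ≠ 0 ∧
      hv q (Function.update yv p e' i) (Function.update yv p e' i) = 0 := by
    intro i
    by_cases hip : i = p
    · subst hip
      rw [Function.update_self]
      exact ⟨he'0, he'i⟩
    · rw [Function.update_of_ne hip]
      exact hv0 i
  have hfl : ∀ i, Function.update yv p el i ≠ 0 ∧
      hv q (Function.update yv p el i) (Function.update yv p el i) = 0 := by
    intro i
    by_cases hip : i = p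
    · subst hip
      rw [Function.update_self]
      exact ⟨hel0, heli⟩
    · rw [Function.update_of_ne hip]
      exact hv0 i
  have hvl : pt (Function.update yv p el) = pt yv + (-c₀⁻¹) • pt (Function.update yv p e') := by
    rw [hel, pt_update_add17, pt_update_smul17, Function.update_eq_self]
  -- the values of the form
  have h_ws : hv q (pt yw) (pt (Function.update yv p e')) = 1 := by
    rw [Cfsg.Agent.Lib.Helper23.TWUT.hv_pt]
    apply Finset.prod_eq_one
    intro i _
    by_cases hip : i = p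
    · subst hip
      rw [Function.update_self, ← hp]
      exact hee'
    · rw [Function.update_of_ne hip]
      exact h1 i hip
  have h_wl : hv q (pt yw) (pt (Function.update yv p el)) = c₀⁻¹ := by
    rw [Cfsg.Agent.Lib.Helper23.TWUT.hv_pt, Finset.prod_eq_single p]
    · rw [Function.update_self, ← hp, hel, Cfsg.Agent.Lib.Helper20.UT.hv_add_right hF,
        Cfsg.Agent.Lib.Helper20.UT.hv_smul_right, hei, hee', hlamq, zero_add, mul_one]
    · intro i _ hip
      rw [Function.update_of_ne hip]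
      exact h1 i hip
    · intro hp'
      exact absurd (Finset.mem_univ p) hp'
  have h_sl : hv q (pt (Function.update yv p e')) (pt (Function.update yv p el)) = 0 := by
    apply hv_pt_eq_zero17 _ _ i1
    rw [Function.update_of_ne hi1, Function.update_of_ne hi1]
    exact (hv0 i1).2
  have h_ww : hv q (pt yw) (pt yw) = 0 := hv_pt_eq_zero17 _ _ p (hw0 p).2
  have h_vv : hv q (pt yv) (pt yv) = 0 := hv_pt_eq_zero17 _ _ p (hv0 p).2
  have h_wv : hv q (pt yw) (pt yv) = 0 := by
    apply hv_pt_eq_zero17 _ _ p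
    rw [← hp]
    exact hei
  have h_vw : hv q (pt yv) (pt yw) = 0 := by
    apply hv_pt_eq_zero17 _ _ p
    rw [← hp]
    exact hei
  -- moving the centre `pt yw` to `pt yw + pt yv`
  have R1 := RG_transport hF X hXG (pt (Function.update yv p e')) (pt yw) c₀⁻¹ hc₀i (hRG _ hfs) (hRG yw hw0)
  rw [h_ws, mul_one] at R1
  have R2 := RG_transport hF X hXG (pt (Function.update yv p el)) _ c₀ hc₀ (hRG _ hfl) R1
  have e2 : hv q (pt yw + c₀⁻¹ • pt (Function.update yv p e')) (pt (Function.update yv p el)) = c₀⁻¹ := by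
    rw [Cfsg.Agent.Lib.Helper20.UT.hv_add_left, Cfsg.Agent.Lib.Helper20.UT.hv_smul_left, h_wl, h_sl, mul_zero,
      add_zero]
  have e3 : pt yw + c₀⁻¹ • pt (Function.update yv p e') + (c₀ * c₀⁻¹) • pt (Function.update yv p el) =
      pt yw + pt yv := by
    rw [mul_inv_cancel₀ hc₀0, one_smul, hvl, neg_smul]
    abel
  rw [e2, e3] at R2
  -- the three transvections
  have hA := R2 c hc
  have hB := hRG yw hw0 c hc
  have hB' := hRG yv hv0 c hc
  have h_w_wv : hv q (pt yw) (pt yw + pt yv) = 0 := by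
    rw [Cfsg.Agent.Lib.Helper20.UT.hv_add_right hF, h_ww, h_wv, add_zero]
  have h_v_wv : hv q (pt yv) (pt yw + pt yv) = 0 := by
    rw [Cfsg.Agent.Lib.Helper20.UT.hv_add_right hF, h_vw, h_vv, add_zero]
  have hq1 := InM_quot X _ _ hA hB
    (by rw [Matrix.smul_mul, Matrix.mul_smul, vv_mul_vv_zero17 _ _ _ _ h_ww, smul_zero, smul_zero])
    (by rw [Matrix.smul_mul, Matrix.mul_smul, vv_mul_vv_zero17 _ _ _ _ h_w_wv, smul_zero, smul_zero])
  have hq2 := InM_quot X _ _ hq1 hB'
    (by rw [Matrix.smul_mul, Matrix.mul_smul, vv_mul_vv_zero17 _ _ _ _ h_vv, smul_zero, smul_zero])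
    (by rw [sub_mul, Matrix.smul_mul, Matrix.mul_smul, vv_mul_vv_zero17 _ _ _ _ h_v_wv, Matrix.smul_mul,
          Matrix.mul_smul, vv_mul_vv_zero17 _ _ _ _ h_vw, smul_zero, smul_zero, sub_zero])
  have efin : c • vv q (pt yw + pt yv) (pt yw + pt yv) - c • vv q (pt yw) (pt yw) - c • vv q (pt yv) (pt yv) =
      c • (vv q (pt yv) (pt yw) + vv q (pt yw) (pt yv)) := by
    rw [vv_add_add17 hF]
    simp only [smul_add]
    abel
  rw [efin] at hq2
  exact hq2

end Cfsg.Agent.Lib.Helper17.TWU3Leaf
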