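import Mathlib
import Cfsg.Agent.Lib.Helper5.TWU.Defs
import Cfsg.Agent.Lib.Helper8.TW.Defs
import Cfsg.Agent.Lib.Helper22.TWExtBasic
import Cfsg.Agent.Lib.Helper22.TWExtMore
import Cfsg.Agent.Lib.Helper23.TWUT3
import Cfsg.Agent.Lib.Helper23.UTG
import Cfsg.Agent.Lib.Helper6.TWT1
import Cfsg.Agent.Lib.Helper14.TWIIDefs
import Cfsg.Agent.Lib.Helper14.TWUIIDefs
import Cfsg.Agent.Lib.Helper19.TWU3Tool
import Cfsg.Agent.Lib.Helper1.TWUIUT8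
import Cfsg.Agent.Lib.Helper17.TWU3A16
import Cfsg.Agent.Lib.Helper17.TWU3U3

/-!
# S5672 (C7 unitary) — STAGE II (sub-planner helper14): leaf E2 `exists_sigma` (helper17)
THE COMMUTATOR IDENTITY in `GL(B)`: `r σ r⁻¹ σ⁻¹ = 1 + c v v†`, `σ ∈ SU(B)`, `r ∈ H_t`, `v = pt y'` pure with isotropic components.
-/

set_option autoImplicit false
set_option linter.unusedSectionVars false
set_option linter.unusedVariables false

namespace Cfsg.Agent.Lib.Helper17.TWUIILeaf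
open Matrix Cfsg.Geo Cfsg.Agent.Lib.Helper18.AschA89 Cfsg.Agent.Lib.Helper8.TW Cfsg.Agent.Lib.Helper5.TWU
  Cfsg.Agent.Lib.Helper14.TWII Cfsg.Agent.Lib.Helper14.TWUII
open Cfsg.Agent.Lib.Helper20.UT (hv)
open Cfsg.Agent.Lib.Helper23.TWUQ (NSp)
open Cfsg.Agent.Lib.Helper19.TWU3 (vv vv_apply)
open Cfsg.Agent.Lib.Helper23.TWUT (adjM)

variable {F : Type*} [Field F] [Fintype F] {t k q : ℕ}

omit [Fintype F] in
/-- the commutator of two unipotents, as a matrix identity -/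
lemma comm_val17 {κ : Type} [Fintype κ] [DecidableEq κ] (a b : Matrix κ κ F) (haa : a * a = 0) (hbb : b * b = 0)
    (haba : a * b * a = 0) (hbab : b * a * b = 0) :
    (1 + a) * (1 + b) * (1 - a) * (1 - b) = 1 + (a * b - b * a) := by
  have key : (1 + a) * (1 + b) * (1 - a) * (1 - b) =
      1 + (a * b - b * a) - a * a - a * b * a - b * b - a * (b * b) + a * a * b + b * a * b
        + a * b * a * b := by
    noncomm_ring
  rw [key, haa, hbb, haba, hbab]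
  simp

/-- right multiplication of `a b†` by a self-adjoint matrix -/
lemma vv_mul_selfadj17 {κ : Type} [Fintype κ] (hF : Fintype.card F = q ^ 2) (N : Matrix κ κ F)
    (hN : adjM q N = N) (a b : κ → F) : vv q a b * N = vv q a (N *ᵥ b) := by
  ext i j
  rw [Matrix.mul_apply]
  simp only [vv_apply, Matrix.mulVec, dotProduct]
  rw [Cfsg.Agent.Lib.Helper20.UT.sum_pow_q hF, Finset.mul_sum]
  apply Finset.sum_congr rfl
  intro x _
  have h1 : (N j x) ^ q = N x j := by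
    have := congrFun (congrFun hN x) j
    simpa using this
  rw [mul_pow, h1]
  ring

omit [Fintype F] in
lemma mul_vv17 {κ : Type} [Fintype κ] (N : Matrix κ κ F) (a b : κ → F) : N * vv q a b = vv q (N *ᵥ a) b := by
  unfold vv
  rw [Matrix.mul_vecMulVec]

omit [Fintype F] in
lemma vv_zero_left17 {κ : Type} (b : κ → F) : vv q (0 : κ → F) b = 0 := by
  ext i j
  simp [vv_apply]

lemma vv_zero_right17 {κ : Type} (hF : Fintype.card F = q ^ 2) (a : κ → F) : vv q a (0 : κ → F) = 0 := by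
  ext i j
  have hq : q ≠ 0 := Cfsg.Agent.Lib.Helper23.TWUT.q_ne_zero hF
  simp [vv_apply, hq]

/-- **E2** THE COMMUTATOR IDENTITY in `GL(B)`, all `q` -/
theorem exists_sigma (hF : Fintype.card F = q ^ 2) (hk : 2 ≤ k) (ht : 2 ≤ t) (y' : Fin t → Fin k → F)
    (hy' : ∀ j, y' j ≠ 0 ∧ hv q (y' j) (y' j) = 0) (c : F) (hc : c ^ q = -c) :
    ∃ σ ∈ SUV t k q F, ∃ r ∈ HU t k q F,
      ((r * σ * r⁻¹ * σ⁻¹ : GL (Idx t k) F) : Matrix (Idx t k) (Idx t k) F) =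
        1 + c • Matrix.vecMulVec (pt y') (dag q (pt y')) := by
  classical
  have hq0 : q ≠ 0 := Cfsg.Agent.Lib.Helper23.TWUT.q_ne_zero hF
  obtain ⟨j₀, hj₀⟩ : ∃ j₀ : Fin t, j₀ = ⟨0, by omega⟩ := ⟨_, rfl⟩
  obtain ⟨j₁, hj₁⟩ : ∃ j₁ : Fin t, j₁ = ⟨1, by omega⟩ := ⟨_, rfl⟩
  have hj : j₁ ≠ j₀ := by
    rw [hj₀, hj₁]
    simp [Fin.ext_iff]
  have hz0 : y' j₀ ≠ 0 := (hy' j₀).1
  have hz : hv q (y' j₀) (y' j₀) = 0 := (hy' j₀).2
  obtain ⟨z', hz'i, hzz'⟩ := Cfsg.Agent.Lib.Helper1.TWULeaf.exists_hyp_partner hF (y' j₀) hz0 hz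
  have hz'z : hv q z' (y' j₀) = 1 := by
    rw [← Cfsg.Agent.Lib.Helper20.UT.hv_conj hF, hzz', one_pow]
  obtain ⟨v, hv_def⟩ : ∃ v : Idx t k → F, v = pt y' := ⟨_, rfl⟩
  obtain ⟨v', hv'_def⟩ : ∃ v' : Idx t k → F, v' = pt (Function.update y' j₀ z') := ⟨_, rfl⟩
  have h_vv : hv q v v = 0 := by
    rw [hv_def]
    exact Cfsg.Agent.Lib.Helper17.TWU3Leaf.hv_pt_eq_zero17 _ _ j₀ hz
  have h_v'v' : hv q v' v' = 0 := by
    rw [hv'_def]
    apply Cfsg.Agent.Lib.Helper17.TWU3Leaf.hv_pt_eq_zero17 _ _ j₁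
    rw [Function.update_of_ne hj]
    exact (hy' j₁).2
  have h_vv' : hv q v v' = 0 := by
    rw [hv_def, hv'_def]
    apply Cfsg.Agent.Lib.Helper17.TWU3Leaf.hv_pt_eq_zero17 _ _ j₁
    rw [Function.update_of_ne hj]
    exact (hy' j₁).2
  have h_v'v : hv q v' v = 0 := by
    rw [hv_def, hv'_def]
    apply Cfsg.Agent.Lib.Helper17.TWU3Leaf.hv_pt_eq_zero17 _ _ j₁
    rw [Function.update_of_ne hj]
    exact (hy' j₁).2
  -- the root nilpotent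
  obtain ⟨Nz, hNz⟩ : ∃ Nz : Matrix (Idx t k) (Idx t k) F, Nz = slot k t j₀ (vv q (y' j₀) (y' j₀)) := ⟨_, rfl⟩
  have hNzadj : adjM q Nz = Nz := by
    rw [hNz, Cfsg.Agent.Lib.Helper23.TWUT.adjM_slot hq0, Cfsg.Agent.Lib.Helper19.TWU3Leaf.adjM_vv hF]
  have hNzv : Nz *ᵥ v = 0 := by
    rw [hNz, hv_def, Cfsg.Agent.Lib.Helper6.TWLeaf.slot_mulVec_pt, Cfsg.Agent.Lib.Helper19.TWU3Leaf.vv_mulVec, hz,
      Cfsg.Agent.Lib.Helper17.TWU3Leaf.pt_update_smul17, zero_smul]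
  have hNzv' : Nz *ᵥ v' = v := by
    rw [hNz, hv'_def, Cfsg.Agent.Lib.Helper6.TWLeaf.slot_mulVec_pt, Function.update_self,
      Cfsg.Agent.Lib.Helper19.TWU3Leaf.vv_mulVec, hz'z, one_smul, Function.update_idem, Function.update_eq_self,
      hv_def]
  have hNN : Nz * Nz = 0 := by
    rw [hNz, Cfsg.Agent.Lib.Helper8.TW.slot_mul,
      Cfsg.Agent.Lib.Helper17.TWU3Leaf.vv_mul_vv_zero17 _ _ _ _ hz, Cfsg.Agent.Lib.Helper8.TW.slot_zero]
  -- the rank one matrices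
  have hNP : Nz * vv q v v' = 0 := by rw [mul_vv17, hNzv, vv_zero_left17]
  have hNP' : Nz * vv q v' v = vv q v v := by rw [mul_vv17, hNzv']
  have hPN : vv q v v' * Nz = vv q v v := by rw [vv_mul_selfadj17 hF Nz hNzadj, hNzv']
  have hP'N : vv q v' v * Nz = 0 := by rw [vv_mul_selfadj17 hF Nz hNzadj, hNzv, vv_zero_right17 hF]
  have hQN : vv q v v * Nz = 0 := by rw [vv_mul_selfadj17 hF Nz hNzadj, hNzv, vv_zero_right17 hF]
  have hPP : vv q v v' * vv q v v' = 0 := Cfsg.Agent.Lib.Helper17.TWU3Leaf.vv_mul_vv_zero17 _ _ _ _ h_vv'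
  have hPP' : vv q v v' * vv q v' v = 0 := Cfsg.Agent.Lib.Helper17.TWU3Leaf.vv_mul_vv_zero17 _ _ _ _ h_v'v'
  have hP'P : vv q v' v * vv q v v' = 0 := Cfsg.Agent.Lib.Helper17.TWU3Leaf.vv_mul_vv_zero17 _ _ _ _ h_vv
  have hP'P' : vv q v' v * vv q v' v = 0 := Cfsg.Agent.Lib.Helper17.TWU3Leaf.vv_mul_vv_zero17 _ _ _ _ h_v'v
  have hQP : vv q v v * vv q v v' = 0 := Cfsg.Agent.Lib.Helper17.TWU3Leaf.vv_mul_vv_zero17 _ _ _ _ h_vv
  have hQP' : vv q v v * vv q v' v = 0 := Cfsg.Agent.Lib.Helper17.TWU3Leaf.vv_mul_vv_zero17 _ _ _ _ h_v'v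
  -- scalars
  obtain ⟨c₁, hc₁0, hc₁⟩ := Cfsg.Agent.Lib.Helper23.UTLeaf.exists_skew hF
  have hf := Cfsg.Agent.Lib.Helper20.UT.hv_unitary (n := 1) hF
  obtain ⟨e, he⟩ : ∃ e : F, e + e ^ q = -c / c₁ := by
    have hfix : (-c / c₁) ^ q = -c / c₁ := by
      rw [div_pow, Cfsg.Agent.Lib.Helper20.UT.neg_pow_q hF, hc, hc₁, neg_neg, div_neg, neg_div]
    obtain ⟨e, he⟩ := Cfsg.Agent.Lib.Helper5.UForm.tr_surj hf.involutive hf.ne_refl (-c / c₁) hfix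
    exact ⟨e, he⟩
  have hpow : ∀ x y : F, (x - y) ^ q = x ^ q - y ^ q := by
    intro x y
    rw [sub_eq_add_neg, Cfsg.Agent.Lib.Helper20.UT.add_pow_q hF, Cfsg.Agent.Lib.Helper20.UT.neg_pow_q hF,
      ← sub_eq_add_neg]
  obtain ⟨S, hS⟩ : ∃ S : Matrix (Idx t k) (Idx t k) F, S = e • vv q v v' - e ^ q • vv q v' v := ⟨_, rfl⟩
  have hSS : S * S = 0 := by
    rw [hS, sub_mul, mul_sub, mul_sub]
    simp only [Matrix.smul_mul, Matrix.mul_smul, hPP, hPP', hP'P, hP'P', smul_zero, sub_zero]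
  obtain ⟨N₂, hN₂⟩ : ∃ N₂ : Matrix (Idx t k) (Idx t k) F, N₂ = c₁⁻¹ • S := ⟨_, rfl⟩
  have hN₂sq : N₂ * N₂ = 0 := by
    rw [hN₂, Matrix.smul_mul, Matrix.mul_smul, hSS, smul_zero, smul_zero]
  have hN₂adj : adjM q N₂ = N₂ := by
    ext a b
    rw [hN₂, hS]
    simp only [Cfsg.Agent.Lib.Helper23.TWUT.adjM_apply, Matrix.smul_apply, Matrix.sub_apply, vv_apply, smul_eq_mul]
    simp only [mul_pow, hpow, inv_pow, hc₁, Cfsg.Agent.Lib.Helper20.UT.pow_q_pow_q' hF]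
    rw [inv_neg]
    ring
  have hc₁N₂ : c₁ • N₂ = S := by
    rw [hN₂, smul_smul, mul_inv_cancel₀ hc₁0, one_smul]
  have hσsq : (c₁ • N₂) * (c₁ • N₂) = 0 := by rw [hc₁N₂, hSS]
  have hσmem := Cfsg.Agent.Lib.Helper19.TWU3Leaf.unip_mem_SUV hF N₂ hN₂sq hN₂adj c₁ hc₁ hσsq
  have hσval : ((unip (c₁ • N₂) hσsq : GL (Idx t k) F) : Matrix (Idx t k) (Idx t k) F) = 1 + S := by
    rw [unip_val, hc₁N₂]
  -- the root element
  have hrRU : RU q (urd q j₀ (y' j₀) hz0 hz) := urd_RU q j₀ (y' j₀) hz0 hz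
  have hrmem := Cfsg.Agent.Lib.Helper23.TWUT.elt_mem_HU hF hrRU (c := c₁) hc₁
  have hrval : (((urd q j₀ (y' j₀) hz0 hz).elt c₁ : GL (Idx t k) F) : Matrix (Idx t k) (Idx t k) F) =
      1 + c₁ • Nz := by
    rw [hNz]
    rfl
  have hAA : (c₁ • Nz) * (c₁ • Nz) = 0 := by
    rw [Matrix.smul_mul, Matrix.mul_smul, hNN, smul_zero, smul_zero]
  have hAS : (c₁ • Nz) * S = -(c₁ * e ^ q) • vv q v v := by
    rw [hS, Matrix.smul_mul, mul_sub, Matrix.mul_smul, Matrix.mul_smul, hNP, hNP', smul_zero, zero_sub, smul_neg,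
      smul_smul, neg_smul]
  have hSA : S * (c₁ • Nz) = (c₁ * e) • vv q v v := by
    rw [hS, Matrix.mul_smul, sub_mul, Matrix.smul_mul, Matrix.smul_mul, hPN, hP'N, smul_zero, sub_zero, smul_smul]
  have hASA : (c₁ • Nz) * S * (c₁ • Nz) = 0 := by
    rw [hAS, Matrix.smul_mul, Matrix.mul_smul, hQN, smul_zero, smul_zero]
  have hSAS : S * (c₁ • Nz) * S = 0 := by
    rw [hSA, hS, Matrix.smul_mul, mul_sub, Matrix.mul_smul, Matrix.mul_smul, hQP, hQP', smul_zero, smul_zero,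
      sub_zero, smul_zero]
  refine ⟨unip (c₁ • N₂) hσsq, hσmem, (urd q j₀ (y' j₀) hz0 hz).elt c₁, hrmem, ?_⟩
  rw [Units.val_mul, Units.val_mul, Units.val_mul,
    Cfsg.Agent.Lib.Helper17.TWU3Leaf.inv_val_of_sq_zero _ (c₁ • Nz) hrval hAA,
    Cfsg.Agent.Lib.Helper17.TWU3Leaf.inv_val_of_sq_zero _ S hσval hSS, hrval, hσval,
    comm_val17 _ _ hAA hSS hASA hSAS, hAS, hSA, hv_def]
  congr 1
  rw [← sub_smul]
  show _ • vv q (pt y') (pt y') = c • vv q (pt y') (pt y')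
  congr 1
  have h2 : c = -(c₁ * (e + e ^ q)) := by
    rw [he]
    field_simp
  rw [h2]
  ring

end Cfsg.Agent.Lib.Helper17.TWUIILeaf
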