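import Mathlib
import Cfsg.Agent.Lib.Helper15.AschFormMat
import Cfsg.Agent.Lib.Helper18.AschA89Defs
import Cfsg.Agent.Lib.Helper13.DSCCore
import Cfsg.Agent.Lib.Helper22.SubfRA

/-!
AF market (generic form blocks, sub-planner helper15), packet [DSC] (helper17): `le_subfieldSubgroup_of_realisable` (DSC1),
`subfield_stable` (DSC2), `gram_rational` (DSC3) with the exact signatures of `notes/AschForm_leaves.lean`.
DSC1 is helper13's `DSC.le_subfieldSubgroup_of_realisable` (same proof, the unused hypothesis `N ≤ H` dropped);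
DSC3 is the `σ`-sesquilinear version of helper13's `DSC.exists_form_rational`, on his `rational_of_line`.
-/

set_option autoImplicit false
set_option linter.unusedSectionVars false
set_option linter.unusedVariables false

namespace Cfsg.Agent.Lib.Helper17.AFLeaf
open Matrix Cfsg.Geo Cfsg.Agent.Lib.Helper20.Asch Cfsg.Agent.Lib.Helper7.AschLeaf
open Cfsg.Agent.Lib.Helper15.AschForm Cfsg.Agent.Lib.Helper18.AschA89
open scoped Kronecker

variable {F : Type*} [Field F] [Fintype F] {n : ℕ}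

/-- (DSC1) = the body of `Helper4.AschLeaf.geo_of_realisable` (S5630 A4) with its real output. -/
theorem le_subfieldSubgroup_of_realisable {H N : Subgroup (GL (Fin n) F)} (hnorm : NormBy H N) (habs : AbsIrr N)
    (F₀ F₁ : Subfield F) (h01 : F₀ ≤ F₁) (B : GL (Fin n) F)
    (hB : ∀ s ∈ matrixSet N, ∀ i j,
      ((B : Matrix (Fin n) (Fin n) F) * s * ((B⁻¹ : GL (Fin n) F) : Matrix (Fin n) (Fin n) F)) i j ∈ F₀) :
    H ≤ subfieldSubgroup F₁ B⁻¹ := by
  classical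
  intro h hh
  obtain ⟨X₀, hX₀⟩ : ∃ X₀ : GL (Fin n) F, X₀ = B * h * B⁻¹ := ⟨_, rfl⟩
  suffices hmem : X₀ ∈ (Matrix.GeneralLinearGroup.map (F₁.subtype : F₁ →+* F)).range ⊔ scalars (Fin n) F by
    unfold subfieldSubgroup
    refine ⟨X₀, hmem, ?_⟩
    show B⁻¹ * X₀ * (B⁻¹)⁻¹ = h
    rw [hX₀]
    group
  have hBB := Cfsg.Agent.Lib.Helper13.DSC.inv_mul_val B
  have hBB' := Cfsg.Agent.Lib.Helper13.DSC.mul_inv_val B
  have hXX := Cfsg.Agent.Lib.Helper13.DSC.inv_mul_val X₀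
  have hXX' := Cfsg.Agent.Lib.Helper13.DSC.mul_inv_val X₀
  have hrat : ∀ x ∈ N, ∀ i j, ((B * x * B⁻¹ : GL (Fin n) F) : Matrix (Fin n) (Fin n) F) i j ∈ F₀ := by
    intro x hx i j
    have := hB _ ⟨x, hx, rfl⟩ i j
    rw [Units.val_mul, Units.val_mul]
    exact this
  have hrel : ∀ x : GL (Fin n) F, X₀ * (B * x * B⁻¹) = (B * (h * x * h⁻¹) * B⁻¹) * X₀ := by
    intro x
    rw [hX₀]
    group
  -- the solution set
  obtain ⟨Sol, hSol⟩ : ∃ Sol : Set (Matrix (Fin n) (Fin n) F), Sol = {X | ∀ x ∈ N,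
      X * ((B * x * B⁻¹ : GL (Fin n) F) : Matrix (Fin n) (Fin n) F) =
        ((B * (h * x * h⁻¹) * B⁻¹ : GL (Fin n) F) : Matrix (Fin n) (Fin n) F) * X} := ⟨_, rfl⟩
  have hsmul : ∀ (c : F) (X : Matrix (Fin n) (Fin n) F), X ∈ Sol → c • X ∈ Sol := by
    intro c X hX
    rw [hSol] at hX ⊢
    intro x hx
    rw [Matrix.smul_mul, Matrix.mul_smul, hX x hx]
  have hfun : ∀ (f : F →ₗ[F₀] F₀) (X : Matrix (Fin n) (Fin n) F), X ∈ Sol → Cfsg.Agent.Lib.Helper13.DSC.app F₀ f X ∈ Sol := by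
    intro f X hX
    rw [hSol] at hX ⊢
    intro x hx
    rw [← Cfsg.Agent.Lib.Helper13.DSC.app_mul_right F₀ f _ (hrat x hx), ← Cfsg.Agent.Lib.Helper13.DSC.app_mul_left F₀ f _ (hrat _ (hnorm h hh x hx)), hX x hx]
  have hX₀S : (X₀ : Matrix (Fin n) (Fin n) F) ∈ Sol := by
    rw [hSol]
    intro x hx
    have h2 := congrArg (fun g : GL (Fin n) F => (g : Matrix (Fin n) (Fin n) F)) (hrel x)
    simp only [Units.val_mul] at h2 ⊢
    exact h2
  have hline : ∀ X ∈ Sol, ∃ d : F, X = d • (X₀ : Matrix (Fin n) (Fin n) F) := by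
    intro X hX
    rw [hSol] at hX
    obtain ⟨T, hT⟩ : ∃ T : Matrix (Fin n) (Fin n) F,
        T = ((B⁻¹ : GL (Fin n) F) : Matrix (Fin n) (Fin n) F) *
          (((X₀⁻¹ : GL (Fin n) F) : Matrix (Fin n) (Fin n) F) * X) * (B : Matrix (Fin n) (Fin n) F) := ⟨_, rfl⟩
    have hTc : ∀ s ∈ matrixSet N, T * s = s * T := by
      rintro s ⟨x, hx, rfl⟩
      have h1 := hX x hx
      have h2 := congrArg (fun g : GL (Fin n) F => (g : Matrix (Fin n) (Fin n) F)) (hrel x)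
      simp only [Units.val_mul] at h1 h2
      have h3 : ((X₀⁻¹ : GL (Fin n) F) : Matrix (Fin n) (Fin n) F) *
          ((B : Matrix (Fin n) (Fin n) F) * ((h : Matrix (Fin n) (Fin n) F) * (x : Matrix (Fin n) (Fin n) F) *
            ((h⁻¹ : GL (Fin n) F) : Matrix (Fin n) (Fin n) F)) * ((B⁻¹ : GL (Fin n) F) : Matrix (Fin n) (Fin n) F)) =
          ((B : Matrix (Fin n) (Fin n) F) * (x : Matrix (Fin n) (Fin n) F) *
            ((B⁻¹ : GL (Fin n) F) : Matrix (Fin n) (Fin n) F)) * ((X₀⁻¹ : GL (Fin n) F) : Matrix (Fin n) (Fin n) F) := by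
        calc _ = ((X₀⁻¹ : GL (Fin n) F) : Matrix (Fin n) (Fin n) F) *
              (((B : Matrix (Fin n) (Fin n) F) * ((h : Matrix (Fin n) (Fin n) F) * (x : Matrix (Fin n) (Fin n) F) *
              ((h⁻¹ : GL (Fin n) F) : Matrix (Fin n) (Fin n) F)) * ((B⁻¹ : GL (Fin n) F) : Matrix (Fin n) (Fin n) F)) *
              (X₀ : Matrix (Fin n) (Fin n) F)) * ((X₀⁻¹ : GL (Fin n) F) : Matrix (Fin n) (Fin n) F) := by
                rw [mul_assoc (((X₀⁻¹ : GL (Fin n) F) : Matrix (Fin n) (Fin n) F)) _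
                  (((X₀⁻¹ : GL (Fin n) F) : Matrix (Fin n) (Fin n) F)),
                  mul_assoc _ (X₀ : Matrix (Fin n) (Fin n) F), hXX', mul_one]
          _ = _ := by
                rw [← h2, ← mul_assoc, ← mul_assoc, hXX, one_mul]
      rw [hT]
      calc _ = ((B⁻¹ : GL (Fin n) F) : Matrix (Fin n) (Fin n) F) *
            (((X₀⁻¹ : GL (Fin n) F) : Matrix (Fin n) (Fin n) F) *
              (X * ((B : Matrix (Fin n) (Fin n) F) * (x : Matrix (Fin n) (Fin n) F) *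
                ((B⁻¹ : GL (Fin n) F) : Matrix (Fin n) (Fin n) F)))) * (B : Matrix (Fin n) (Fin n) F) := by
              simp only [mul_assoc, hBB, mul_one]
        _ = ((B⁻¹ : GL (Fin n) F) : Matrix (Fin n) (Fin n) F) *
            ((((B : Matrix (Fin n) (Fin n) F) * (x : Matrix (Fin n) (Fin n) F) *
              ((B⁻¹ : GL (Fin n) F) : Matrix (Fin n) (Fin n) F)) * ((X₀⁻¹ : GL (Fin n) F) : Matrix (Fin n) (Fin n) F)) * X) *
              (B : Matrix (Fin n) (Fin n) F) := by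
              rw [h1, ← mul_assoc _ _ X, h3]
        _ = _ := by
              simp only [mul_assoc]
              rw [← mul_assoc _ (B : Matrix (Fin n) (Fin n) F), hBB, one_mul]
    obtain ⟨d, hd⟩ := habs.2 T hTc
    refine ⟨d, ?_⟩
    have h4 : X = (X₀ : Matrix (Fin n) (Fin n) F) * ((B : Matrix (Fin n) (Fin n) F) * T *
        ((B⁻¹ : GL (Fin n) F) : Matrix (Fin n) (Fin n) F)) := by
      rw [hT]
      simp only [← mul_assoc, hBB', one_mul]
      simp only [mul_assoc, hBB', mul_one]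
      rw [← mul_assoc, hXX', one_mul]
    rw [h4, hd, Matrix.mul_smul, Matrix.smul_mul, Matrix.mul_one, hBB', Matrix.mul_smul, Matrix.mul_one]
  obtain ⟨c, hc, hent⟩ := Cfsg.Agent.Lib.Helper13.DSC.rational_of_line F₀ Sol hsmul hfun _ hX₀S hline
  apply Cfsg.Agent.Lib.Helper4.AschLeaf.mem_range_sup_scalars F₁ X₀ c hc
  intro i j
  obtain ⟨a, ha, he⟩ := hent i j
  exact ⟨a, h01 ha, he⟩

/-- (DSC2) a ring endomorphism of a finite field maps every subfield into itself (`F₀ = {x | x ^ |F₀| = x}` by root counting) -/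
theorem subfield_stable (σ : F →+* F) (F₀ : Subfield F) : ∀ a ∈ F₀, σ a ∈ F₀ := by
  intro a ha
  rw [Cfsg.Agent.Lib.Helper22.SubfR.mem_subfield_iff_pow F₀ _ rfl] at ha ⊢
  rw [← map_pow, ha]

/-- (DSC3) THE GRAM MATRIX IS RATIONAL UP TO A SCALAR. -/
theorem gram_rational {σ : F →+* F} (F₀ : Subfield F) (hσ : ∀ a ∈ F₀, σ a ∈ F₀) {J : Matrix (Fin n) (Fin n) F}
    (hJ : J.det ≠ 0) {N : Subgroup (GL (Fin n) F)} (hfix : FixJ σ J N) (habs : AbsIrr N) (B : GL (Fin n) F)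
    (hB : ∀ s ∈ matrixSet N, ∀ i j,
      ((B : Matrix (Fin n) (Fin n) F) * s * ((B⁻¹ : GL (Fin n) F) : Matrix (Fin n) (Fin n) F)) i j ∈ F₀) :
    ∃ c : F, c ≠ 0 ∧ ∀ i j, (c • (((B⁻¹ : GL (Fin n) F) : Matrix (Fin n) (Fin n) F)ᵀ * J *
      ((B⁻¹ : GL (Fin n) F) : Matrix (Fin n) (Fin n) F).map σ)) i j ∈ F₀ := by
  classical
  -- `σ` is bijective; `τ` its inverse
  have hbij : Function.Bijective σ := by
    have hinj : Function.Injective σ := σ.injective
    exact ⟨hinj, Finite.surjective_of_injective hinj⟩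
  obtain ⟨τ, hτ⟩ : ∃ τ : F →+* F, ∀ a, τ (σ a) = a :=
    ⟨((RingEquiv.ofBijective σ hbij).symm : F ≃+* F).toRingHom, fun a => (RingEquiv.ofBijective σ hbij).symm_apply_apply a⟩
  have hστ : ∀ a, σ (τ a) = a := by
    intro a
    obtain ⟨b, rfl⟩ := hbij.2 a
    rw [hτ]
  obtain ⟨b, hb⟩ : ∃ b : Matrix (Fin n) (Fin n) F, b = (B : Matrix (Fin n) (Fin n) F) := ⟨_, rfl⟩
  obtain ⟨bi, hbi⟩ : ∃ bi : Matrix (Fin n) (Fin n) F, bi = ((B⁻¹ : GL (Fin n) F) : Matrix (Fin n) (Fin n) F) :=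
    ⟨_, rfl⟩
  rw [← hb, ← hbi] at hB
  rw [← hbi]
  have hBB : bi * b = 1 := by rw [hb, hbi]; exact Cfsg.Agent.Lib.Helper13.DSC.inv_mul_val B
  have hBB' : b * bi = 1 := by rw [hb, hbi]; exact Cfsg.Agent.Lib.Helper13.DSC.mul_inv_val B
  have hbt : bᵀ * biᵀ = 1 := by rw [← Matrix.transpose_mul, hBB, Matrix.transpose_one]
  have hbt' : biᵀ * bᵀ = 1 := by rw [← Matrix.transpose_mul, hBB', Matrix.transpose_one]
  have hmap1 : (1 : Matrix (Fin n) (Fin n) F).map σ = 1 := Matrix.map_one σ (map_zero σ) (map_one σ)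
  have hσBB : bi.map σ * b.map σ = 1 := by rw [← Matrix.map_mul, hBB, hmap1]
  have hσBB' : b.map σ * bi.map σ = 1 := by rw [← Matrix.map_mul, hBB', hmap1]
  have hJJ : J * J⁻¹ = 1 := Matrix.mul_nonsing_inv J (Ne.isUnit hJ)
  have hJJ' : J⁻¹ * J = 1 := Matrix.nonsing_inv_mul J (Ne.isUnit hJ)
  have hiso : ∀ x ∈ N, (x : Matrix (Fin n) (Fin n) F)ᵀ * (J * (x : Matrix (Fin n) (Fin n) F).map σ) = J := by
    intro x hx
    have := hfix x hx
    rw [mul_assoc] at this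
    exact this
  obtain ⟨Sol, hSol⟩ : ∃ Sol : Set (Matrix (Fin n) (Fin n) F), Sol = {Z | ∀ x ∈ N,
      (b * (x : Matrix (Fin n) (Fin n) F) * bi)ᵀ * Z * (b * (x : Matrix (Fin n) (Fin n) F) * bi).map σ = Z} := ⟨_, rfl⟩
  have hsmul : ∀ (c : F) (X : Matrix (Fin n) (Fin n) F), X ∈ Sol → c • X ∈ Sol := by
    intro c X hX
    rw [hSol] at hX ⊢
    intro x hx
    rw [Matrix.mul_smul, Matrix.smul_mul, hX x hx]
  have hfun : ∀ (f : F →ₗ[F₀] F₀) (X : Matrix (Fin n) (Fin n) F), X ∈ Sol →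
      Cfsg.Agent.Lib.Helper13.DSC.app F₀ f X ∈ Sol := by
    intro f X hX
    rw [hSol] at hX ⊢
    intro x hx
    have hR : ∀ k l, (b * (x : Matrix (Fin n) (Fin n) F) * bi) k l ∈ F₀ := hB _ ⟨x, hx, rfl⟩
    have hRt : ∀ k l, (b * (x : Matrix (Fin n) (Fin n) F) * bi)ᵀ k l ∈ F₀ := fun k l => hR l k
    have hRσ : ∀ k l, ((b * (x : Matrix (Fin n) (Fin n) F) * bi).map σ) k l ∈ F₀ := fun k l => hσ _ (hR k l)
    rw [← Cfsg.Agent.Lib.Helper13.DSC.app_mul_left F₀ f _ hRt, ← Cfsg.Agent.Lib.Helper13.DSC.app_mul_right F₀ f _ hRσ,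
      hX x hx]
  have hJS : biᵀ * J * bi.map σ ∈ Sol := by
    rw [hSol]
    intro x hx
    rw [Matrix.transpose_mul, Matrix.transpose_mul, Matrix.map_mul, Matrix.map_mul]
    simp only [mul_assoc]
    rw [← mul_assoc bᵀ biᵀ, hbt, one_mul, ← mul_assoc (bi.map σ) (b.map σ), hσBB, one_mul, ← mul_assoc J,
      ← mul_assoc _ (J * _), hiso x hx]
  have hline : ∀ X ∈ Sol, ∃ d : F, X = d • (biᵀ * J * bi.map σ) := by
    intro Z hZ
    rw [hSol] at hZ
    -- `Z₁ = bᵀ Z σ(b)` is `N`-invariant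
    have hZ1 : ∀ x ∈ N, (x : Matrix (Fin n) (Fin n) F)ᵀ * ((bᵀ * Z * b.map σ) * (x : Matrix (Fin n) (Fin n) F).map σ) =
        bᵀ * Z * b.map σ := by
      intro x hx
      have h1 := hZ x hx
      rw [Matrix.transpose_mul, Matrix.transpose_mul, Matrix.map_mul, Matrix.map_mul] at h1
      calc (x : Matrix (Fin n) (Fin n) F)ᵀ * ((bᵀ * Z * b.map σ) * (x : Matrix (Fin n) (Fin n) F).map σ)
          = bᵀ * ((biᵀ * ((x : Matrix (Fin n) (Fin n) F)ᵀ * bᵀ)) * Z *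
              (b.map σ * (x : Matrix (Fin n) (Fin n) F).map σ * bi.map σ)) * b.map σ := by
            simp only [mul_assoc]
            rw [← mul_assoc bᵀ biᵀ, hbt, one_mul, hσBB, mul_one]
        _ = bᵀ * Z * b.map σ := by rw [h1]
    -- `M = J⁻¹ Z₁` commutes with `σ(N)`
    obtain ⟨M, hM⟩ : ∃ M : Matrix (Fin n) (Fin n) F, M = J⁻¹ * (bᵀ * Z * b.map σ) := ⟨_, rfl⟩
    have hcommσ : ∀ x ∈ N, M * (x : Matrix (Fin n) (Fin n) F).map σ = (x : Matrix (Fin n) (Fin n) F).map σ * M := by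
      intro x hx
      have hxx : (x : Matrix (Fin n) (Fin n) F).map σ * ((x⁻¹ : GL (Fin n) F) : Matrix (Fin n) (Fin n) F).map σ = 1 := by
        rw [← Matrix.map_mul, Cfsg.Agent.Lib.Helper13.DSC.mul_inv_val x, hmap1]
      have hxx' : ((x⁻¹ : GL (Fin n) F) : Matrix (Fin n) (Fin n) F).map σ * (x : Matrix (Fin n) (Fin n) F).map σ = 1 := by
        rw [← Matrix.map_mul, Cfsg.Agent.Lib.Helper13.DSC.inv_mul_val x, hmap1]
      -- `J⁻¹ xᵀ J = σ(x)⁻¹`
      have hadj : J⁻¹ * (x : Matrix (Fin n) (Fin n) F)ᵀ * J = ((x⁻¹ : GL (Fin n) F) : Matrix (Fin n) (Fin n) F).map σ := by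
        calc J⁻¹ * (x : Matrix (Fin n) (Fin n) F)ᵀ * J
            = J⁻¹ * ((x : Matrix (Fin n) (Fin n) F)ᵀ * (J * ((x : Matrix (Fin n) (Fin n) F).map σ *
                ((x⁻¹ : GL (Fin n) F) : Matrix (Fin n) (Fin n) F).map σ))) := by
              rw [hxx, mul_one, mul_assoc]
          _ = J⁻¹ * (((x : Matrix (Fin n) (Fin n) F)ᵀ * (J * (x : Matrix (Fin n) (Fin n) F).map σ)) *
                ((x⁻¹ : GL (Fin n) F) : Matrix (Fin n) (Fin n) F).map σ) := by
              simp only [mul_assoc]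
          _ = ((x⁻¹ : GL (Fin n) F) : Matrix (Fin n) (Fin n) F).map σ := by
              rw [hiso x hx, ← mul_assoc, hJJ', one_mul]
      have h2 : ((x⁻¹ : GL (Fin n) F) : Matrix (Fin n) (Fin n) F).map σ * M *
          (x : Matrix (Fin n) (Fin n) F).map σ = M := by
        rw [← hadj, hM]
        calc J⁻¹ * (x : Matrix (Fin n) (Fin n) F)ᵀ * J * (J⁻¹ * (bᵀ * Z * b.map σ)) * (x : Matrix (Fin n) (Fin n) F).map σ
            = J⁻¹ * ((x : Matrix (Fin n) (Fin n) F)ᵀ * ((J * J⁻¹) * ((bᵀ * Z * b.map σ) *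
                (x : Matrix (Fin n) (Fin n) F).map σ))) := by
              simp only [mul_assoc]
          _ = J⁻¹ * (bᵀ * Z * b.map σ) := by rw [hJJ, one_mul, hZ1 x hx]
      calc M * (x : Matrix (Fin n) (Fin n) F).map σ
          = ((x : Matrix (Fin n) (Fin n) F).map σ * ((x⁻¹ : GL (Fin n) F) : Matrix (Fin n) (Fin n) F).map σ) * M *
              (x : Matrix (Fin n) (Fin n) F).map σ := by rw [hxx, one_mul]
        _ = (x : Matrix (Fin n) (Fin n) F).map σ * (((x⁻¹ : GL (Fin n) F) : Matrix (Fin n) (Fin n) F).map σ * M *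
              (x : Matrix (Fin n) (Fin n) F).map σ) := by simp only [mul_assoc]
        _ = (x : Matrix (Fin n) (Fin n) F).map σ * M := by rw [h2]
    -- apply `τ = σ⁻¹`
    have hτσ : ∀ X : Matrix (Fin n) (Fin n) F, (X.map σ).map τ = X := by
      intro X
      ext i j
      simp only [Matrix.map_apply]
      exact hτ _
    have hστM : ∀ X : Matrix (Fin n) (Fin n) F, (X.map τ).map σ = X := by
      intro X
      ext i j
      simp only [Matrix.map_apply]
      exact hστ _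
    have hcomm : ∀ s ∈ matrixSet N, M.map τ * s = s * M.map τ := by
      rintro s ⟨x, hx, rfl⟩
      have h3 := congrArg (fun X : Matrix (Fin n) (Fin n) F => X.map τ) (hcommσ x hx)
      simp only [Matrix.map_mul, hτσ] at h3
      exact h3
    obtain ⟨d', hd'⟩ := habs.2 _ hcomm
    have hMd : M = σ d' • (1 : Matrix (Fin n) (Fin n) F) := by
      rw [← hστM M, hd']
      ext i j
      simp only [Matrix.map_apply, Matrix.smul_apply, Matrix.one_apply, smul_eq_mul]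
      split_ifs
      · rw [map_mul, map_one]
      · rw [map_mul, map_zero]
    refine ⟨σ d', ?_⟩
    have h3 : bᵀ * Z * b.map σ = σ d' • J := by
      calc bᵀ * Z * b.map σ = (J * J⁻¹) * (bᵀ * Z * b.map σ) := by rw [hJJ, one_mul]
        _ = J * (J⁻¹ * (bᵀ * Z * b.map σ)) := by rw [mul_assoc]
        _ = σ d' • J := by rw [← hM, hMd, Matrix.mul_smul, mul_one]
    calc Z = (biᵀ * bᵀ) * Z * (b.map σ * bi.map σ) := by rw [hbt', hσBB', one_mul, mul_one]
      _ = biᵀ * (bᵀ * Z * b.map σ) * bi.map σ := by simp only [mul_assoc]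
      _ = σ d' • (biᵀ * J * bi.map σ) := by rw [h3, Matrix.mul_smul, Matrix.smul_mul]
  obtain ⟨c, hc, hent⟩ := Cfsg.Agent.Lib.Helper13.DSC.rational_of_line F₀ Sol hsmul hfun _ hJS hline
  refine ⟨c⁻¹, inv_ne_zero hc, ?_⟩
  intro i j
  obtain ⟨a, ha, he⟩ := hent i j
  rw [Matrix.smul_apply, he, smul_eq_mul, ← mul_assoc, inv_mul_cancel₀ hc, one_mul]
  exact ha

end Cfsg.Agent.Lib.Helper17.AFLeaf
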