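import Mathlib
import Cfsg.Agent.Lib.Helper15.AschUCtx
import Cfsg.Agent.Lib.Helper18.AschA89Defs
import Cfsg.Agent.Lib.Helper17.UAE3Defs
import Cfsg.Agent.Lib.Helper24.AschUNIL

/-!
S5663 SUB-BLOCK E3 (sub-planner helper17), packet E3-W (helper17): the field with 4 elements and the `3 × 3` Weyl calculus.
Exact signatures of `notes/S5663_E3_leaves.lean`.
-/

set_option autoImplicit false
set_option linter.unusedSectionVars false
set_option linter.unusedVariables false

namespace Cfsg.Agent.Lib.Helper17.UAE3Leaf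
open Matrix Cfsg Cfsg.Geo Cfsg.Agent.Lib.Helper20.Asch
open Cfsg.Agent.Lib.Helper15.AschU Cfsg.Agent.Lib.Helper15.AschForm Cfsg.Agent.Lib.Helper18.AschA89
open Cfsg.Agent.Lib.Helper17.E3

variable {F : Type*} [Field F] [Fintype F]


/-! ### identities in `Fin 3` (by `decide`) -/

lemma f3_a1 : ∀ j b b' : Fin 3, j + b' + b = j + (b + b') := by decide
lemma f3_a2 : ∀ a a' b b' j : Fin 3, a * (j + b' + b) + a' * (j + b') = -(a' * b) + (a + a') * (j + b' + b) := by decide
lemma f3_a3 : ∀ i b : Fin 3, i = i - b + b := by decide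
lemma f3_a4 : ∀ i k j : Fin 3, j * i + -(j * k) = j * (i - k) := by decide
lemma f3_a5 : ∀ i j a : Fin 3, i = i + a + -a := by decide
lemma f3_a6 : ∀ i j a b : Fin 3, i * (j + b) + a * (j + b) = a * b + b * i + (i + a) * j := by decide
lemma f3_a7 : ∀ i k a : Fin 3, i = k + -a → k = i + a := by decide
lemma f3_a8 : ∀ a a' : Fin 3, a - a' + a' = a := by decide

/-- `ω³ = 1` -/
lemma omega_pow_three {F : Type*} [Field F] {ω : F} (hω : ω ^ 2 + ω + 1 = 0) : ω ^ 3 = 1 := by
  linear_combination (ω - 1) * hω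

lemma omega_ne_zero {F : Type*} [Field F] {ω : F} (hω : ω ^ 2 + ω + 1 = 0) : ω ≠ 0 := by
  intro h
  rw [h] at hω
  norm_num at hω

/-- W0b -/
theorem charP_two (hF : Fintype.card F = 2 ^ 2) : CharP F 2 := by
  obtain ⟨p, hp⟩ := CharP.exists F
  obtain ⟨k, hpr, hk⟩ := FiniteField.card F p
  have hdvd : p ∣ 2 ^ 2 := by
    rw [← hF, hk]
    exact dvd_pow_self p k.ne_zero
  have hp2 : p = 2 := (Nat.prime_dvd_prime_iff_eq hpr Nat.prime_two).mp (hpr.dvd_of_dvd_pow hdvd)
  rw [← hp2]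
  exact hp

lemma two_eq_zero' (hF : Fintype.card F = 2 ^ 2) : (2 : F) = 0 := by
  have := charP_two hF
  exact_mod_cast CharP.cast_eq_zero F 2

/-- W0a -/
theorem exists_omega (hF : Fintype.card F = 2 ^ 2) : ∃ ω : F, ω ^ 2 + ω + 1 = 0 := by
  classical
  have hlt : ({0, 1} : Finset F).card < (Finset.univ : Finset F).card := by
    rw [Finset.card_univ, hF]
    have : ({0, 1} : Finset F).card ≤ 2 := Finset.card_le_two
    omega
  obtain ⟨x, -, hx⟩ := Finset.exists_mem_notMem_of_card_lt_card hlt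
  rw [Finset.mem_insert, Finset.mem_singleton, not_or] at hx
  have h3 : x ^ 3 = 1 := by
    have := FiniteField.pow_card_sub_one_eq_one x hx.1
    rw [hF] at this
    exact this
  have h4 : (x - 1) * (x ^ 2 + x + 1) = 0 := by linear_combination h3
  rcases mul_eq_zero.mp h4 with h5 | h5
  · exact absurd (sub_eq_zero.mp h5) hx.2
  · exact ⟨x, h5⟩

/-- W1a -/
theorem wp_zero (ω : F) : wp ω 0 = 1 := by
  unfold wp
  simp

lemma wp_one (ω : F) : wp ω 1 = ω := by
  unfold wp
  simp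

lemma wp_two (ω : F) : wp ω 2 = ω ^ 2 := by
  unfold wp
  rfl

/-- W1b: `ω³ = 1` -/
theorem wp_add {ω : F} (hω : ω ^ 2 + ω + 1 = 0) (x y : Fin 3) : wp ω (x + y) = wp ω x * wp ω y := by
  have h3 := omega_pow_three hω
  fin_cases x <;> fin_cases y <;> simp [wp] <;>
    first | rfl | ring1 | linear_combination (-1 : F) * h3 | linear_combination (-ω) * h3


/-- W1c -/
theorem wp_ne_zero {ω : F} (hω : ω ^ 2 + ω + 1 = 0) (x : Fin 3) : wp ω x ≠ 0 :=
  pow_ne_zero _ (omega_ne_zero hω)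

/-- W1d: `ω ≠ 1` in characteristic 2 -/
theorem wp_eq_one_iff (hF : Fintype.card F = 2 ^ 2) {ω : F} (hω : ω ^ 2 + ω + 1 = 0) (x : Fin 3) :
    wp ω x = 1 ↔ x = 0 := by
  have h2 := two_eq_zero' hF
  have h0 := omega_ne_zero hω
  constructor
  · intro h
    fin_cases x
    · rfl
    · exfalso
      have h1 : ω = 1 := by simpa [wp] using h
      rw [h1] at hω
      apply one_ne_zero (α := F)
      linear_combination hω - h2
    · exfalso
      have h1 : ω ^ 2 = 1 := by simpa [wp] using h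
      apply h0
      linear_combination hω - h1 - h2
  · rintro rfl
    exact wp_zero ω

/-- W1e: the Frobenius inverts `ω` -/
theorem wp_frob {ω : F} (hω : ω ^ 2 + ω + 1 = 0) {σ : F ≃+* F} (hσ : IsFrob 2 σ) (x : Fin 3) :
    σ (wp ω x) = wp ω (-x) := by
  have h3 := omega_pow_three hω
  rw [hσ.pow]
  fin_cases x
  · simp [wp]
  · show (wp ω 1) ^ 2 = wp ω 2
    rw [wp_one, wp_two]
  · show (wp ω 2) ^ 2 = wp ω 1
    rw [wp_one, wp_two]
    linear_combination ω * h3

/-- W1f: orthogonality of characters (`3 = 1` in `F`) -/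
theorem sum_wp (hF : Fintype.card F = 2 ^ 2) {ω : F} (hω : ω ^ 2 + ω + 1 = 0) (x : Fin 3) :
    ∑ a : Fin 3, wp ω (a * x) = if x = 0 then 1 else 0 := by
  have h2 := two_eq_zero' hF
  have h3 := omega_pow_three hω
  rw [Fin.sum_univ_three]
  fin_cases x
  · simp only [Fin.zero_eta, mul_zero, wp_zero, if_true]
    linear_combination h2
  · have e1 : (1 : Fin 3) * 1 = 1 := by decide
    have e2 : (2 : Fin 3) * 1 = 2 := by decide
    simp only [Fin.mk_one, zero_mul, e1, e2, wp_zero, wp_one, wp_two]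
    rw [if_neg (by decide)]
    linear_combination hω
  · have e1 : (1 : Fin 3) * 2 = 2 := by decide
    have e2 : (2 : Fin 3) * 2 = 1 := by decide
    show wp ω (0 * 2) + wp ω (1 * 2) + wp ω (2 * 2) = if (2 : Fin 3) = 0 then 1 else 0
    rw [zero_mul, e1, e2, wp_zero, wp_one, wp_two, if_neg (by decide)]
    linear_combination hω


/-- W0c: the four elements -/
theorem eq_zero_or_wp (hF : Fintype.card F = 2 ^ 2) {ω : F} (hω : ω ^ 2 + ω + 1 = 0) (x : F) :
    x = 0 ∨ ∃ k : Fin 3, x = wp ω k := by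
  by_cases hx : x = 0
  · exact Or.inl hx
  right
  have h3 : x ^ 3 = 1 := by
    have := FiniteField.pow_card_sub_one_eq_one x hx
    rw [hF] at this
    exact this
  have hω3 := omega_pow_three hω
  have h4 : (x - 1) * ((x - ω) * (x - ω ^ 2)) = 0 := by
    linear_combination h3 + (-(x - 1) * x) * hω + (x - 1) * hω3
  rcases mul_eq_zero.mp h4 with h5 | h5
  · exact ⟨0, by rw [wp_zero]; exact sub_eq_zero.mp h5⟩
  · rcases mul_eq_zero.mp h5 with h6 | h6
    · exact ⟨1, by rw [wp_one]; exact sub_eq_zero.mp h6⟩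
    · exact ⟨2, by rw [wp_two]; exact sub_eq_zero.mp h6⟩

/-- `wp` of a negative -/
lemma wp_neg_mul {ω : F} (hω : ω ^ 2 + ω + 1 = 0) (x : Fin 3) : wp ω (-x) * wp ω x = 1 := by
  rw [← wp_add hω, neg_add_cancel, wp_zero]

/-- W2: the multiplication rule -/
theorem W_mul {ω : F} (hω : ω ^ 2 + ω + 1 = 0) (a b a' b' : Fin 3) :
    W ω a b * W ω a' b' = wp ω (-(a' * b)) • W ω (a + a') (b + b') := by
  ext i j
  rw [Matrix.mul_apply, Matrix.smul_apply, smul_eq_mul, W_apply]
  rw [Finset.sum_eq_single (j + b')]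
  · rw [W_apply, W_apply, if_pos rfl]
    by_cases h : i = j + b' + b
    · rw [if_pos h, if_pos (by rw [h]; exact f3_a1 j b b')]
      rw [← wp_add hω, ← wp_add hω]
      congr 1
      rw [h]
      exact f3_a2 a a' b b' j
    · rw [if_neg h, if_neg (by intro h'; apply h; rw [h']; exact (f3_a1 j b b').symm), zero_mul, mul_zero]
  · intro k _ hk
    rw [W_apply, W_apply, if_neg hk, mul_zero]
  · intro h
    exact absurd (Finset.mem_univ _) h

/-- W3 -/
theorem W_zero (ω : F) : W ω 0 0 = 1 := by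
  ext i j
  rw [W_apply, Matrix.one_apply, add_zero, zero_mul, wp_zero]

/-- W4 -/
theorem W_unitary {ω : F} (hω : ω ^ 2 + ω + 1 = 0) {σ : F ≃+* F} (hσ : IsFrob 2 σ) (a b : Fin 3) :
    (W ω a b)ᵀ * (W ω a b).map σ = 1 := by
  ext i k
  rw [Matrix.mul_apply, Matrix.one_apply]
  rw [Finset.sum_eq_single (i + b)]
  · rw [Matrix.transpose_apply, Matrix.map_apply, W_apply, W_apply, if_pos rfl]
    by_cases h : i = k
    · rw [if_pos h, if_pos (by rw [h]), wp_frob hω hσ, mul_comm, wp_neg_mul hω]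
    · rw [if_neg h, if_neg (by intro h'; exact h (add_right_cancel h')), map_zero, mul_zero]
  · intro j _ hj
    rw [Matrix.transpose_apply, W_apply, if_neg hj, zero_mul]
  · intro h
    exact absurd (Finset.mem_univ _) h

/-- W5: the Weyl matrices are pairwise non-proportional -/
theorem W_eq_smul (hF : Fintype.card F = 2 ^ 2) {ω : F} (hω : ω ^ 2 + ω + 1 = 0) {a b a' b' : Fin 3} {c : F}
    (h : W ω a b = c • W ω a' b') : a = a' ∧ b = b' := by
  have hent : ∀ i j, W ω a b i j = c * W ω a' b' i j := by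
    intro i j
    have := congrFun (congrFun h i) j
    rwa [Matrix.smul_apply, smul_eq_mul] at this
  have hb : b = b' := by
    have h1 := hent (0 + b) 0
    rw [W_apply, W_apply, if_pos rfl] at h1
    by_contra hne
    rw [if_neg (by intro h'; exact hne (add_left_cancel h')), mul_zero] at h1
    exact wp_ne_zero hω _ h1
  subst hb
  refine ⟨?_, rfl⟩
  have h0 := hent (0 + b) 0
  have h1 := hent (0 + b) 0
  have key : ∀ i : Fin 3, wp ω (a * i) = c * wp ω (a' * i) := by
    intro i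
    have h2 := hent i (i - b)
    rw [W_apply, W_apply, if_pos (f3_a3 i b), if_pos (f3_a3 i b)] at h2
    exact h2
  have hc : c = 1 := by
    have := key 0
    rw [mul_zero, mul_zero, wp_zero, mul_one] at this
    exact this.symm
  have h3 := key 1
  rw [hc, one_mul, mul_one, mul_one] at h3
  have h4 : wp ω (a - a') = 1 := by
    have : wp ω (a - a') * wp ω a' = wp ω a' := by
      rw [← wp_add hω, f3_a8, h3]
    have h5 := wp_ne_zero hω a'
    field_simp at this
    exact this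
  have h6 := (wp_eq_one_iff hF hω _).mp h4
  exact sub_eq_zero.mp h6

/-- W6 -/
theorem Fo_unitary (hF : Fintype.card F = 2 ^ 2) {ω : F} (hω : ω ^ 2 + ω + 1 = 0) {σ : F ≃+* F} (hσ : IsFrob 2 σ) :
    (Fo ω)ᵀ * (Fo ω).map σ = 1 := by
  ext i k
  rw [Matrix.mul_apply, Matrix.one_apply]
  have e : ∀ j : Fin 3, (Fo ω)ᵀ i j * ((Fo ω).map σ) j k = wp ω (j * (i - k)) := by
    intro j
    rw [Matrix.transpose_apply, Matrix.map_apply, Fo_apply, Fo_apply, wp_frob hω hσ, ← wp_add hω]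
    congr 1
    exact f3_a4 i k j
  rw [Finset.sum_congr rfl (fun j _ => e j), sum_wp hF hω]
  by_cases h : i = k
  · rw [if_pos h, if_pos (sub_eq_zero.mpr h)]
  · rw [if_neg h, if_neg (fun h' => h (sub_eq_zero.mp h'))]

/-- W7: conjugation by the Fourier matrix is `(a, b) ↦ (b, -a)` -/
theorem Fo_W (hF : Fintype.card F = 2 ^ 2) {ω : F} (hω : ω ^ 2 + ω + 1 = 0) (a b : Fin 3) :
    Fo ω * W ω a b = (wp ω (a * b) • W ω b (-a)) * Fo ω := by
  ext i j
  rw [Matrix.mul_apply, Matrix.mul_apply]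
  rw [Finset.sum_eq_single (j + b), Finset.sum_eq_single (i + a)]
  · rw [Fo_apply, W_apply, if_pos rfl, Matrix.smul_apply, smul_eq_mul, W_apply, if_pos (f3_a5 i j a), Fo_apply,
      ← wp_add hω, ← wp_add hω, ← wp_add hω]
    congr 1
    exact f3_a6 i j a b
  · intro k _ hk
    rw [Matrix.smul_apply, W_apply, if_neg (by intro h'; exact hk (f3_a7 i k a h')), smul_zero, zero_mul]
  · intro h
    exact absurd (Finset.mem_univ _) h
  · intro k _ hk
    rw [W_apply, if_neg hk, mul_zero]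
  · intro h
    exact absurd (Finset.mem_univ _) h

/-- W8: a matrix `g` with `gᵀ σ(g) = 1` is invertible with inverse `σ(g)ᵀ`; so is `g⁻¹`-unitary -/
theorem unitary_inv {κ : Type} [Fintype κ] [DecidableEq κ] {σ : F ≃+* F} (hσ : IsFrob 2 σ) (g : GL κ F)
    (hg : (g : Matrix κ κ F)ᵀ * (g : Matrix κ κ F).map σ = 1) :
    ((g⁻¹ : GL κ F) : Matrix κ κ F)ᵀ * ((g⁻¹ : GL κ F) : Matrix κ κ F).map σ = 1 := by
  have hAB : (g : Matrix κ κ F) * ((g⁻¹ : GL κ F) : Matrix κ κ F) = 1 := by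
    rw [← Units.val_mul, mul_inv_cancel, Units.val_one]
  have h1 : ((g⁻¹ : GL κ F) : Matrix κ κ F)ᵀ * (g : Matrix κ κ F)ᵀ = 1 := by
    rw [← Matrix.transpose_mul, hAB, Matrix.transpose_one]
  have h2 : (g : Matrix κ κ F).map σ = ((g⁻¹ : GL κ F) : Matrix κ κ F)ᵀ := by
    calc (g : Matrix κ κ F).map σ = (((g⁻¹ : GL κ F) : Matrix κ κ F)ᵀ * (g : Matrix κ κ F)ᵀ) * (g : Matrix κ κ F).map σ := by
          rw [h1, one_mul]
      _ = ((g⁻¹ : GL κ F) : Matrix κ κ F)ᵀ * ((g : Matrix κ κ F)ᵀ * (g : Matrix κ κ F).map σ) := by rw [mul_assoc]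
      _ = ((g⁻¹ : GL κ F) : Matrix κ κ F)ᵀ := by rw [hg, mul_one]
  rw [← h2]
  have h3 : ((g : Matrix κ κ F) * ((g⁻¹ : GL κ F) : Matrix κ κ F)).map σ = (g : Matrix κ κ F).map σ * ((g⁻¹ : GL κ F) : Matrix κ κ F).map σ :=
    Matrix.map_mul (f := (σ : F →+* F))
  rw [← h3, hAB]
  exact Matrix.map_one σ (map_zero σ) (map_one σ)

end Cfsg.Agent.Lib.Helper17.UAE3Leaf
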