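import Mathlib
import Cfsg.Agent.Lib.Helper15.AschUCtx
import Cfsg.Agent.Lib.Helper18.AschA89Defs
import Cfsg.Agent.Lib.Helper17.UAE3Defs
import Cfsg.Agent.Lib.Helper24.AschUNIL
import Cfsg.Agent.Lib.Helper17.UAE3W
import Cfsg.Agent.Lib.Helper12.UAE3T
import Cfsg.Agent.Lib.Helper23.UAE3K
import Cfsg.Agent.Lib.Helper23.UAE3R1
import Cfsg.Agent.Lib.Helper9.UAE3I
import Cfsg.Agent.Lib.Helper9.UAE3R2
import Cfsg.Agent.Lib.Helper19.UAE3R3Core
import Cfsg.Agent.Lib.Helper15.UAE3Ncore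

/-!
S5663 (Aschbacher for `GU_n(q)`, planner helper15), SUB-BLOCK E3 = `e3_of_std` (sub-planner helper17): ASSEMBLY.
The exception `(q, m) = (2, 3)`, `|F| = 4`: `H ≤ (GU_3(2) ≀ S_t) ∩ GU_{3^t}(2)` normalises `R ≅ 3^(1+2t)`: class 6.
Leaves (`notes/S5663_E3_leaves.lean`): E3-W helper17, E3-K helper23 (also helper24), E3-R1 helper23, E3-I + E3-R2 helper9,
E3-R3 helper19 (cores wired here), E3-N helper15 (cores wired here), E3-T helper12.
-/

set_option autoImplicit false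
set_option linter.unusedSectionVars false
set_option linter.unusedVariables false

namespace Cfsg.Agent.Lib.Helper17.UALeaf
open Matrix Cfsg Cfsg.Geo Cfsg.Agent.Lib.Helper20.Asch
open Cfsg.Agent.Lib.Helper15.AschU Cfsg.Agent.Lib.Helper15.AschForm Cfsg.Agent.Lib.Helper18.AschA89
open Cfsg.Agent.Lib.Helper17.E3
open Cfsg.Agent.Lib.Helper17.UAE3Leaf (exists_omega charP_two unitary_inv)
open Cfsg.Agent.Lib.Helper12.UAE3Leaf (isSymplecticTypeGroup_tr card_tr card_center_tr absIrr_tr tr_mem_GU std_of_mem_GU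
  normalizer_tr)
open Cfsg.Agent.Lib.Helper23.UAE3Leaf (T_mul T_one T_comm T_unitary mem_Rstd_iff)
open Cfsg.Agent.Lib.Helper9.UAE3Leaf (absIrr_Rstd card_Rstd mem_center_Rstd_iff card_center_Rstd)

variable {F : Type*} [Field F] [Fintype F]

/-! ## R3a / R3c exact, from helper19's cores -/

/-- R3a -/
theorem pow_three_Rstd (hF : Fintype.card F = 2 ^ 2) {ω : F} (hω : ω ^ 2 + ω + 1 = 0) {t : ℕ} (ht : 1 ≤ t)
    (g : Rstd ω t) : g ^ 3 = 1 :=
  Cfsg.Agent.Lib.Helper19.UAE3Leaf.pow_three_Rstd_core (fun g hg => (mem_Rstd_iff hF hω ht g).mp hg)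
    (T_mul hω) (T_one ω) g

/-- R3c -/
theorem cyclic_of_char_Rstd (hF : Fintype.card F = 2 ^ 2) {ω : F} (hω : ω ^ 2 + ω + 1 = 0) {t : ℕ} (ht : 1 ≤ t)
    (A : Subgroup (Rstd ω t)) (hA : A.Characteristic) (hab : IsMulCommutative A) : IsCyclic A :=
  Cfsg.Agent.Lib.Helper19.UAE3Leaf.cyclic_of_char_Rstd_core (mem_Rstd_iff hF hω ht) (T_comm hω)
    (Cfsg.Agent.Lib.Helper17.UAE3Leaf.wp_eq_one_iff hF hω) (mem_center_Rstd_iff hF hω ht) (card_center_Rstd hF hω ht)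
    (fun i c a b => Cfsg.Agent.Lib.Helper19.UAE3Leaf.slotFo_conj hF hω i c a b)
    (Cfsg.Agent.Lib.Helper19.UAE3Leaf.isUnit_Fo hF hω) A hA hab

/-- R3 -/
theorem isSymplecticType_Rstd (hF : Fintype.card F = 2 ^ 2) {ω : F} (hω : ω ^ 2 + ω + 1 = 0) {t : ℕ} (ht : 1 ≤ t) :
    IsSymplecticTypeGroup 3 (Rstd ω t) := by
  refine ⟨Nat.prime_three, ?_, cyclic_of_char_Rstd hF hω ht, ?_⟩
  · -- `IsPGroup 3`
    intro g
    exact ⟨1, by rw [pow_one]; exact pow_three_Rstd hF hω ht g⟩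
  · -- exponent `3 * gcd 2 3 = 3`
    have h3 : Monoid.exponent (Rstd ω t) ∣ 3 := Monoid.exponent_dvd_of_forall_pow_eq_one (pow_three_Rstd hF hω ht)
    have hne : Monoid.exponent (Rstd ω t) ≠ 1 := by
      intro h1
      have hsub : Subsingleton (Rstd ω t) := Monoid.exp_eq_one_iff.mp h1
      have hc := card_Rstd hF hω ht
      rw [Nat.card_eq_one_iff_unique.mpr ⟨hsub, ⟨1⟩⟩] at hc
      have : 1 < 3 ^ (1 + 2 * t) := Nat.one_lt_pow (by omega) (by norm_num)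
      omega
    rcases (Nat.dvd_prime Nat.prime_three).mp h3 with h | h
    · exact absurd h hne
    · rw [h]; rfl

/-- E3-U -/
theorem unitary_Rstd (hF : Fintype.card F = 2 ^ 2) {ω : F} (hω : ω ^ 2 + ω + 1 = 0) {σ : F ≃+* F} (hσ : IsFrob 2 σ)
    {t : ℕ} (ht : 1 ≤ t) : ∀ g ∈ Rstd ω t,
      (g : Matrix (Fin t → Fin 3) (Fin t → Fin 3) F)ᵀ * (g : Matrix (Fin t → Fin 3) (Fin t → Fin 3) F).map σ = 1 := by
  intro g hg
  obtain ⟨c, a, b, h⟩ := (mem_Rstd_iff hF hω ht g).mp hg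
  rw [h]
  exact T_unitary hω hσ c a b

/-- N4, from helper15's core and helper23's key lemma -/
theorem conj_mem_Rstd (hF : Fintype.card F = 2 ^ 2) {ω : F} (hω : ω ^ 2 + ω + 1 = 0) {σ : F ≃+* F} (hσ : IsFrob 2 σ)
    {t : ℕ} (ht : 1 ≤ t) (g : GL (Fin t → Fin 3) F) (hg : g ∈ tensorWreathStandard 3 t F)
    (hu : (g : Matrix (Fin t → Fin 3) (Fin t → Fin 3) F)ᵀ * (g : Matrix (Fin t → Fin 3) (Fin t → Fin 3) F).map σ = 1) :
    ∀ x ∈ Rstd ω t, g * x * g⁻¹ ∈ Rstd ω t :=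
  Cfsg.Agent.Lib.Helper15.UAE3N.conj_mem_Rstd_core hF hω hσ (Cfsg.Agent.Lib.Helper23.UAE3Leaf.key hF hω hσ)
    (mem_Rstd_iff hF hω ht) g hg hu

/-! ## assembly -/

/-- (WU5) [E3] THE EXCEPTION `(q, m) = (2, 3)`: class 6 with `R = 3^(1+2t)` — helper15's exact statement
(`Cfsg.Agent.Lib.Helper15.UAschSub.e3_of_std`) -/
theorem e3_of_std {n : ℕ} {H : Subgroup (GL (Fin n) F)} (h : UCtx 2 H) {σ : F ≃+* F} (hσ : IsFrob 2 σ) {t : ℕ} (ht : 1 ≤ t)
    (e : Fin n ≃ (Fin t → Fin 3)) (P : GL (Fin n) F) (c : F) (hc : c ≠ 0)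
    (hstd : gramIn (σ : F →+* F) 1 e P = c • (1 : Matrix (Fin t → Fin 3) (Fin t → Fin 3) F))
    (hH : H ≤ tensorWreathSubgroup 3 t e P) : GeoU 2 H := by
  have hF := h.card
  obtain ⟨ω, hω⟩ := exists_omega hF
  have hst : IsSymplecticTypeGroup 3 (tr e P (Rstd ω t)) :=
    isSymplecticTypeGroup_tr e P (isSymplecticType_Rstd hF hω ht)
  have habs : ActsAbsolutelyIrreducibly (matrixSet (tr e P (Rstd ω t))) := absIrr_tr e P (absIrr_Rstd hF hω ht)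
  have hGU : tr e P (Rstd ω t) ≤ Cfsg.GU n F 2 := by
    rintro x ⟨y, ⟨g, hg, rfl⟩, rfl⟩
    exact tr_mem_GU hσ e P c hc hstd g (unitary_Rstd hF hω hσ ht g hg)
  have hsim : tr e P (Rstd ω t) ≤ similarityGroup (hermForm n F 2) :=
    hGU.trans (Cfsg.Agent.Lib.Helper24.AschULeaf.GU_le_similarityGroup 2)
  have hcen : Nat.card (Subgroup.center (tr e P (Rstd ω t))) = 3 := by
    rw [card_center_tr]
    exact card_center_Rstd hF hω ht
  have hcard : Nat.card (tr e P (Rstd ω t)) = 3 ^ (1 + 2 * t) := by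
    rw [card_tr]
    exact card_Rstd hF hω ht
  have hmin : IsMinimalFieldFor (Nat.card (Subgroup.center (tr e P (Rstd ω t)))) 2 2 F := by
    rw [hcen]
    refine ⟨Nat.prime_two, charP_two hF, hF, by norm_num, ?_⟩
    intro d hd0 hd2
    have hd1 : d = 1 := by omega
    subst hd1
    norm_num
  refine GeoU.of_C6 3 (tr e P (Rstd ω t)) 2 2 t hst habs hsim (by norm_num) hmin
    (Or.inl ⟨by decide, hcen, ht, hcard⟩) (le_inf ?_ h.le)
  intro x hx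
  have hx' := hH hx
  rw [tensorWreathSubgroup_eq_tr] at hx'
  obtain ⟨y, ⟨g, hg, rfl⟩, rfl⟩ := hx'
  have hu := std_of_mem_GU hσ e P c hc hstd g (h.le hx)
  have hu' := unitary_inv hσ g hu
  have h1 := conj_mem_Rstd hF hω hσ ht g hg hu
  have h2 : ∀ x ∈ Rstd ω t, g⁻¹ * x * g ∈ Rstd ω t := by
    intro x hx
    have := conj_mem_Rstd hF hω hσ ht g⁻¹ (Subgroup.inv_mem _ hg) hu' x hx
    rwa [inv_inv] at this
  exact normalizer_tr e P (Rstd ω t) g h1 h2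

end Cfsg.Agent.Lib.Helper17.UALeaf
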