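/-
Helper lemmas (helper17): a "split" of the non-central elements of a finite group into two
families with pairwise coprime class sizes; the dichotomy on class products.
-/
import Mathlib
import Cfsg.Agent.Lib.Helper17.ClassGraph1

set_option autoImplicit false

namespace Cfsg.Agent.Lib.Helper17.ClassGraph

open scoped commutatorElement

variable {G : Type*} [Group G]

/-- Two families `A`, `B` of non-central elements (depending only on the class size, upward closed
under divisibility) that cover all non-central elements and have pairwise coprime class sizes. -/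
structure Split (A B : G → Prop) : Prop where
  monoA : ∀ g g' : G, ind g ∣ ind g' → A g → A g'
  monoB : ∀ g g' : G, ind g ∣ ind g' → B g → B g'
  cop : ∀ x b : G, A x → B b → (ind x).Coprime (ind b)
  cov : ∀ g : G, ind g ≠ 1 → A g ∨ B g
  neA : ∀ g : G, A g → ind g ≠ 1
  neB : ∀ g : G, B g → ind g ≠ 1

theorem Split.symm {A B : G → Prop} (h : Split A B) : Split B A where
  monoA := h.monoB
  monoB := h.monoA
  cop := fun x b hx hb => (h.cop b x hb hx).symm
  cov := fun g hg => (h.cov g hg).symm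
  neA := h.neB
  neB := h.neA

theorem Split.not_both {A B : G → Prop} (h : Split A B) (g : G) (hA : A g) (hB : B g) : False := by
  have := h.cop g g hA hB
  rw [Nat.coprime_self] at this
  exact h.neA g hA this

theorem Split.conjA {A B : G → Prop} (h : Split A B) (g x : G) (hA : A x) : A (g * x * g⁻¹) :=
  h.monoA x _ (by rw [ind_conj]) hA

theorem Split.conjB {A B : G → Prop} (h : Split A B) (g x : G) (hB : B x) : B (g * x * g⁻¹) :=
  h.monoB x _ (by rw [ind_conj]) hB

/-- The local dichotomy. -/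
theorem Split.dich [Finite G] {A B : G → Prop} (h : Split A B) (x b : G) (hx : A x) (hb : B b) :
    (∀ g : G, ⁅g, b⁆ ∈ rstab (cl x)) ∨ (∀ g : G, ⁅g, x⁆ ∈ rstab (cl b)) := by
  have hcop := h.cop x b hx hb
  have h1 : ind x ≤ ind (x * b) := ind_le_ind_mul hcop
  have hx1 : 1 < ind x := by
    have := h.neA x hx
    have := ind_pos x
    omega
  have h2 : ind (x * b) ≠ 1 := by omega
  have hdvd := ind_mul_dvd hcop
  rcases h.cov _ h2 with hA | hB
  · left
    have hc2 : (ind (x * b)).Coprime (ind b) := h.cop _ _ hA hb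
    have hd : ind (x * b) ∣ ind x := hc2.dvd_of_dvd_mul_right hdvd
    have hle : ind (x * b) ≤ ind x := Nat.le_of_dvd (ind_pos x) hd
    exact fun g => comm_mem_rstab hcop hle g
  · right
    have hc2 : (ind x).Coprime (ind (x * b)) := h.cop _ _ hx hB
    have hd : ind (x * b) ∣ ind b := hc2.symm.dvd_of_dvd_mul_left hdvd
    have hle : ind (b * x) ≤ ind b := by
      rw [ind_mul_comm]; exact Nat.le_of_dvd (ind_pos b) hd
    exact fun g => comm_mem_rstab hcop.symm hle g

theorem rstab_cl_normal (x : G) : (rstab (cl x)).Normal :=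
  rstab_normal _ (fun _ hy g => conj_mem_cl hy g)

theorem card_rstab_cl_dvd [Finite G] (x : G) : Nat.card (rstab (cl x)) ∣ ind x := by
  rw [← ncard_cl]; exact card_rstab_dvd _

/-- The two alternatives of the dichotomy cannot both occur (for different pairs). -/
theorem Split.small_contra [Finite G] {A B : G → Prop} (h : Split A B) {x b x₁ b₁ : G}
    (hx : A x) (hb : B b) (hx₁ : A x₁) (hb₁ : B b₁)
    (h1 : ∀ g : G, ⁅g, x⁆ ∈ rstab (cl b₁)) (h2 : ∀ g : G, ⁅g, b⁆ ∈ rstab (cl x₁)) : False := by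
  have := rstab_cl_normal b₁
  have := rstab_cl_normal x₁
  have hn1 : Nat.card (rstab (cl b₁)) ∣ ind b₁ := card_rstab_cl_dvd b₁
  have hn2 : Nat.card (rstab (cl x₁)) ∣ ind x₁ := card_rstab_cl_dvd x₁
  have c1 : (Nat.card (rstab (cl b₁))).Coprime (ind x) :=
    Nat.Coprime.coprime_dvd_left hn1 (h.cop x b₁ hx hb₁).symm
  have c2 : (Nat.card (rstab (cl x₁))).Coprime (ind b) :=
    Nat.Coprime.coprime_dvd_left hn2 (h.cop x₁ b hx₁ hb)
  have c3 : (Nat.card (rstab (cl b₁))).Coprime (Nat.card (rstab (cl x₁))) :=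
    Nat.Coprime.coprime_dvd_left hn1 (Nat.Coprime.coprime_dvd_right hn2 (h.cop x₁ b₁ hx₁ hb₁).symm)
  have t1 := le_centralizer_of_coprime _ x c1
  have t2 := le_centralizer_of_coprime _ b c2
  have p1 := pow_card_mem_center _ x t1 h1
  have p2 := pow_card_mem_center _ b t2 h2
  have hcomm : Commute x b := by
    have e1 : ⁅x, b⁆ ∈ rstab (cl x₁) := h2 x
    have e2 : ⁅x, b⁆ ∈ rstab (cl b₁) := by
      have := (rstab (cl b₁)).inv_mem (h1 b)
      rwa [commutatorElement_inv] at this
    have e3 : ⁅x, b⁆ ∈ rstab (cl b₁) ⊓ rstab (cl x₁) := ⟨e2, e1⟩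
    rw [(Subgroup.disjoint_of_coprime_natCard c3).eq_bot, Subgroup.mem_bot] at e3
    exact commutatorElement_eq_one_iff_commute.mp e3
  have l1 := centralizer_mul_le hcomm p1 p2 c3
  have l2 := centralizer_mul_le hcomm.symm p2 p1 c3.symm
  rw [← hcomm.eq] at l2
  have a1 : A (x * b) := h.monoA x _ (ind_dvd_of_le l1) hx
  have a2 : B (x * b) := h.monoB b _ (ind_dvd_of_le l2) hb
  exact h.not_both _ a1 a2

/-- The global dichotomy. -/
theorem Split.dichotomy [Finite G] {A B : G → Prop} (h : Split A B) :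
    (∀ x b : G, A x → B b → ∀ g : G, ⁅g, b⁆ ∈ rstab (cl x)) ∨
    (∀ x b : G, A x → B b → ∀ g : G, ⁅g, x⁆ ∈ rstab (cl b)) := by
  by_cases hc : ∀ x b : G, A x → B b → ∀ g : G, ⁅g, b⁆ ∈ rstab (cl x)
  · exact Or.inl hc
  · right
    push Not at hc
    obtain ⟨x₀, b₀, hx₀, hb₀, g₀, hg₀⟩ := hc
    have h1 : ∀ g : G, ⁅g, x₀⁆ ∈ rstab (cl b₀) := by
      rcases h.dich x₀ b₀ hx₀ hb₀ with h' | h'
      · exact absurd (h' g₀) hg₀
      · exact h'
    intro x b hx hb
    rcases h.dich x b hx hb with h' | h'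
    · exact absurd (h.small_contra hx₀ hb hx hb₀ h1 h') (fun hf => hf)
    · exact h'

end Cfsg.Agent.Lib.Helper17.ClassGraph
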