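import Mathlib
import Cfsg.Statements.S2752
import Cfsg.Agent.Lib.Helper16.SFDefs
import Cfsg.Agent.Lib.Helper8.ThTwoA
import Cfsg.Agent.Lib.Helper8.ThTwoE

/-!
# S2752 market "SF": leaf `qs_image` (helper17)

The image of a quasisimple group under a homomorphism with central kernel is quasisimple with the same central
quotient; its centre is the image of the centre.
-/

set_option autoImplicit false
universe u v
open Cfsg Cfsg.Agent.Lib.Helper16.SF Cfsg.Agent.Lib.Helper8.ThTwo

namespace Cfsg.Agent.Lib.Helper17.SFLeaf

/-- **qs_image**: the image of a quasisimple group under a homomorphism with central kernel is quasisimple with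
the same central quotient; its centre is the image of the centre. -/
theorem qs_image {Q R : Type*} [Group Q] [Finite Q] [Group R] (hQ : Cfsg.IsQuasisimple Q) (f : Q →* R)
    (hf : Function.Surjective f) (hker : f.ker ≤ Subgroup.center Q) :
    Cfsg.IsQuasisimple R ∧ Nonempty (Q ⧸ Subgroup.center Q ≃* R ⧸ Subgroup.center R) ∧
      Subgroup.center R = (Subgroup.center Q).map f := by
  classical
  obtain ⟨hperf, hsimp⟩ := hQ
  have := hperf
  have := hsimp
  have hperfR : Group.IsPerfect R := Group.IsPerfect.ofSurjective hf
  have hcen : Subgroup.center R = (Subgroup.center Q).map f := by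
    apply le_antisymm
    · intro z hz
      obtain ⟨x, rfl⟩ := hf z
      refine ⟨x, ?_, rfl⟩
      have hxbar : (QuotientGroup.mk x : Q ⧸ Subgroup.center Q) ∈
          Subgroup.center (Q ⧸ Subgroup.center Q) := by
        rw [Subgroup.mem_center_iff]
        intro ybar
        obtain ⟨y, rfl⟩ := QuotientGroup.mk_surjective ybar
        rw [← QuotientGroup.mk_mul, ← QuotientGroup.mk_mul, QuotientGroup.eq]
        apply hker
        rw [MonoidHom.mem_ker]
        have h1 := (Subgroup.mem_center_iff.mp hz) (f y)
        rw [map_mul, map_inv, map_mul, map_mul, h1, inv_mul_cancel]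
      rw [Group.IsPerfect.center_quotient_center_eq_bot, Subgroup.mem_bot] at hxbar
      exact (QuotientGroup.eq_one_iff x).mp hxbar
    · rintro _ ⟨x, hx, rfl⟩
      rw [Subgroup.mem_center_iff]
      intro r
      obtain ⟨y, rfl⟩ := hf r
      rw [← map_mul, ← map_mul, (Subgroup.mem_center_iff.mp hx) y]
  let g : Q →* R ⧸ Subgroup.center R := (QuotientGroup.mk' (Subgroup.center R)).comp f
  have hg : Function.Surjective g := (QuotientGroup.mk'_surjective _).comp hf
  have hgker : g.ker = Subgroup.center Q := by
    ext x
    rw [MonoidHom.mem_ker]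
    show (QuotientGroup.mk (f x) : R ⧸ Subgroup.center R) = 1 ↔ _
    rw [QuotientGroup.eq_one_iff, hcen]
    constructor
    · rintro ⟨y, hy, hxy⟩
      have h1 : y⁻¹ * x ∈ f.ker := by
        rw [MonoidHom.mem_ker, map_mul, map_inv, hxy, inv_mul_cancel]
      have h2 := hker h1
      have h3 := Subgroup.mul_mem _ hy h2
      rwa [mul_inv_cancel_left] at h3
    · intro hx
      exact ⟨x, hx, rfl⟩
  have e : Q ⧸ Subgroup.center Q ≃* R ⧸ Subgroup.center R :=
    (QuotientGroup.quotientMulEquivOfEq hgker.symm).trans
      (QuotientGroup.quotientKerEquivOfSurjective g hg)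
  exact ⟨⟨hperfR, e.symm.isSimpleGroup⟩, ⟨e⟩, hcen⟩

end Cfsg.Agent.Lib.Helper17.SFLeaf
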