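import Mathlib
import Cfsg.Statements.S2752
import Cfsg.Agent.Lib.Helper16.SFDefs
import Cfsg.Agent.Lib.Helper8.ThTwoA
import Cfsg.Agent.Lib.Helper8.ThTwoE

/-!
# S2752 market "SF": leaf `qs_odd` (helper17)

A finite quasisimple group has a non-central element of odd order.
-/

set_option autoImplicit false
universe u v
open Cfsg Cfsg.Agent.Lib.Helper16.SF Cfsg.Agent.Lib.Helper8.ThTwo

namespace Cfsg.Agent.Lib.Helper17.SFLeaf

/-- **qs_odd**: a finite quasisimple group has a non-central element of odd order (else `Q/Z(Q)` is a `2`-group). -/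
theorem qs_odd {Q : Type*} [Group Q] [Finite Q] (hQ : Cfsg.IsQuasisimple Q) :
    ∃ y : Q, Odd (orderOf y) ∧ y ∉ Subgroup.center Q := by
  classical
  by_contra hcon
  have hcon' : ∀ y : Q, Odd (orderOf y) → y ∈ Subgroup.center Q := by
    intro y hy
    by_contra hy'
    exact hcon ⟨y, hy, hy'⟩
  obtain ⟨hperf, hsimp⟩ := hQ
  have := hperf
  have := hsimp
  have : Fact (Nat.Prime 2) := ⟨Nat.prime_two⟩
  have hp : IsPGroup 2 (Q ⧸ Subgroup.center Q) := by
    intro xbar
    obtain ⟨x, rfl⟩ := QuotientGroup.mk_surjective xbar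
    have hpos : orderOf x ≠ 0 := (orderOf_pos x).ne'
    obtain ⟨k, m, hm, hkm⟩ := Nat.exists_eq_two_pow_mul_odd hpos
    refine ⟨k, ?_⟩
    have hmem : x ^ 2 ^ k ∈ Subgroup.center Q := by
      apply hcon'
      have h1 : orderOf (x ^ 2 ^ k) = orderOf x / 2 ^ k :=
        orderOf_pow_of_dvd (by positivity) (by rw [hkm]; exact dvd_mul_right _ _)
      rw [h1, hkm, Nat.mul_div_cancel_left _ (by positivity)]
      exact hm
    rw [← QuotientGroup.mk_pow]
    exact (QuotientGroup.eq_one_iff _).mpr hmem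
  have hnil : Group.IsNilpotent (Q ⧸ Subgroup.center Q) := hp.isNilpotent
  have hsol : Group.IsSolvable (Q ⧸ Subgroup.center Q) := inferInstance
  exact Group.IsPerfect.not_isSolvable (G := Q ⧸ Subgroup.center Q) hsol

end Cfsg.Agent.Lib.Helper17.SFLeaf
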