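import Mathlib

/-!
# Arithmetic leaves for S2332 (minimal degree of `SL_n(q)`)

`N q k = 1 + q + ... + q^(k-1) = (q^k - 1)/(q - 1)`.  The target degree is
`(q^n - q)/(q - 1) = N q n - 1`, the class size of a transvection is
`(q^n - 1)(q^(n-1) - 1)/(q - 1) = (q - 1) * N q n * N q (n-1)`.

* bridge lemmas between the `N` form and the frozen / class-size quotient forms;
* `not_dvd_general` : `N q n - 2` does not divide `q^(n-1) * classSize` (`n ≥ 3`, `q ≥ 2`);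
* `not_dvd_base` : `q^2 + q - 2` does not divide `q^2 * classSize` for `n = 3` when `q` is a
  prime power other than `2`, `4`;
* sporadic windows `(4,4)`, `(5,2)`, `(5,3)`;
* inequality side: `2 * (q^(n-1) - 1) ≥ N q n - 1`, `q^(n-1) - 1 + (N q (n-1) - 1) = N q n - 2`;
* consumer lemmas `false_of_dvd_general`, `false_of_dvd_base`, `false_of_dvd_44/52/53`.
-/

namespace Cfsg.Agent.Lib.Helper17.SLMinArith

/-- `N q k = 1 + q + ... + q^(k-1)`. -/
def N (q k : ℕ) : ℕ := ∑ i ∈ Finset.range k, q ^ i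

@[simp] theorem N_zero (q : ℕ) : N q 0 = 0 := by simp [N]

@[simp] theorem N_one (q : ℕ) : N q 1 = 1 := by simp [N]

theorem N_succ (q k : ℕ) : N q (k + 1) = q * N q k + 1 := by
  unfold N; exact geom_sum_succ

theorem N_succ' (q k : ℕ) : N q (k + 1) = q ^ k + N q k := by
  unfold N; exact geom_sum_succ'

theorem N_two (q : ℕ) : N q 2 = q + 1 := by
  rw [N_succ, N_one]; ring

theorem N_three (q : ℕ) : N q 3 = q ^ 2 + q + 1 := by
  rw [N_succ, N_two]; ring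

theorem N_pos (q k : ℕ) (hk : 1 ≤ k) : 1 ≤ N q k := by
  obtain ⟨j, rfl⟩ : ∃ j, k = j + 1 := ⟨k - 1, by omega⟩
  rw [N_succ]; omega

theorem N_mono (q : ℕ) {k l : ℕ} (h : k ≤ l) : N q k ≤ N q l := by
  unfold N
  exact Finset.sum_le_sum_of_subset (Finset.range_mono h)

/-- `(q - 1) * N q k + 1 = q^k` (for `1 ≤ q`). -/
theorem pred_mul_N (q k : ℕ) (hq : 1 ≤ q) : (q - 1) * N q k + 1 = q ^ k := by
  induction k with
  | zero => simp
  | succ k ih =>
    rw [N_succ', mul_add, add_assoc, ih, pow_succ]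
    obtain ⟨r, rfl⟩ : ∃ r, q = r + 1 := ⟨q - 1, by omega⟩
    simp only [Nat.add_sub_cancel]
    ring

theorem pred_mul_N' (q k : ℕ) (hq : 1 ≤ q) : (q - 1) * N q k = q ^ k - 1 := by
  have := pred_mul_N q k hq
  omega

/-- Bridge: `(q^k - 1)/(q - 1) = N q k`. -/
theorem div_eq_N (q k : ℕ) (hq : 2 ≤ q) : (q ^ k - 1) / (q - 1) = N q k := by
  rw [← pred_mul_N' q k (by omega)]
  exact Nat.mul_div_cancel_left _ (by omega)

/-- Bridge to the frozen target: `(q^n - q)/(q - 1) = N q n - 1`. -/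
theorem target_eq (q n : ℕ) (hq : 2 ≤ q) (hn : 1 ≤ n) :
    (q ^ n - q) / (q - 1) = N q n - 1 := by
  obtain ⟨j, rfl⟩ : ∃ j, n = j + 1 := ⟨n - 1, by omega⟩
  have h1 : q ^ (j + 1) - q = (q - 1) * (q * N q j) := by
    have := pred_mul_N' q j (by omega)
    rw [mul_left_comm, this, Nat.mul_sub, mul_one, pow_succ, mul_comm]
  rw [h1, Nat.mul_div_cancel_left _ (by omega), N_succ]
  omega

/-- The frozen target is `q * N q (n-1)`. -/
theorem target_eq' (q n : ℕ) (hq : 2 ≤ q) (hn : 1 ≤ n) :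
    (q ^ n - q) / (q - 1) = q * N q (n - 1) := by
  rw [target_eq q n hq hn]
  obtain ⟨j, rfl⟩ : ∃ j, n = j + 1 := ⟨n - 1, by omega⟩
  rw [N_succ]; simp

/-- Bridge for the class size of a transvection. -/
theorem classSize_eq (q n : ℕ) (hq : 2 ≤ q) :
    (q ^ n - 1) * (q ^ (n - 1) - 1) / (q - 1) = (q - 1) * N q n * N q (n - 1) := by
  rw [← pred_mul_N' q n (by omega), ← pred_mul_N' q (n - 1) (by omega)]
  have : (q - 1) * N q n * ((q - 1) * N q (n - 1)) = (q - 1) * ((q - 1) * N q n * N q (n - 1)) := by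
    ring
  rw [this, Nat.mul_div_cancel_left _ (by omega)]

/-- `N q n - 2 = q * N q (n-1) - 1`, in additive form. -/
theorem N_sub_two_add_one (q n : ℕ) (hn : 2 ≤ n) (hq : 1 ≤ q) :
    (N q n - 2) + 1 = q * N q (n - 1) := by
  obtain ⟨j, rfl⟩ : ∃ j, n = j + 1 := ⟨n - 1, by omega⟩
  rw [N_succ]
  have h1 : 1 ≤ N q j := N_pos q j (by omega)
  have : 1 ≤ q * N q j := Nat.mul_pos (by omega) (by omega)
  simp only [Nat.add_sub_cancel]
  omega

/-- lower bound `q^2 + q + 1 ≤ N q n` for `3 ≤ n`. -/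
theorem N_ge (q n : ℕ) (hn : 3 ≤ n) : q ^ 2 + q + 1 ≤ N q n := by
  rw [← N_three]; exact N_mono q hn

/-- (A1) General step: `N q n - 2` does not divide `q^(n-1) * classSize`. -/
theorem not_dvd_general (q n : ℕ) (hq : 2 ≤ q) (hn : 3 ≤ n) :
    ¬ (N q n - 2 ∣ q ^ (n - 1) * ((q - 1) * N q n * N q (n - 1))) := by
  intro hdvd
  set D := N q n - 2 with hD
  set M := N q (n - 1) with hM
  have hD1 : D + 1 = q * M := N_sub_two_add_one q n (by omega) (by omega)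
  have hNge : q ^ 2 + q + 1 ≤ N q n := N_ge q n hn
  have hNn : N q n = D + 2 := by
    have : 4 + 2 + 1 ≤ N q n := by nlinarith
    omega
  have hcop1 : Nat.Coprime D (D + 1) := by simp
  have hcopq : Nat.Coprime D q :=
    Nat.Coprime.coprime_dvd_right ⟨M, hD1⟩ hcop1
  have hcopM : Nat.Coprime D M :=
    Nat.Coprime.coprime_dvd_right ⟨q, by rw [hD1, mul_comm]⟩ hcop1
  have h1 : D ∣ (q - 1) * N q n * M :=
    (Nat.Coprime.pow_right (n - 1) hcopq).dvd_of_dvd_mul_left hdvd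
  have h2 : D ∣ (q - 1) * N q n := hcopM.dvd_of_dvd_mul_right h1
  have h3 : D ∣ (q - 1) * 2 := by
    rw [hNn, mul_add] at h2
    exact (Nat.dvd_add_right (Dvd.dvd.mul_left (dvd_refl D) (q - 1))).mp h2
  have h4 : D ≤ (q - 1) * 2 := Nat.le_of_dvd (by omega) h3
  have h5 : q ^ 2 + q + 1 ≤ D + 2 := by omega
  have h6 : (q - 1) * 2 ≤ 2 * q := by omega
  nlinarith

/-- Same as `not_dvd_general` with the class size in quotient form. -/
theorem not_dvd_general' (q n : ℕ) (hq : 2 ≤ q) (hn : 3 ≤ n) :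
    ¬ ((q ^ n - 1) / (q - 1) - 2 ∣
        q ^ (n - 1) * ((q ^ n - 1) * (q ^ (n - 1) - 1) / (q - 1))) := by
  rw [div_eq_N q n hq, classSize_eq q n hq]
  exact not_dvd_general q n hq hn

/-- (A2) Base `n = 3`: `q^2 + q - 2 = (q+2)(q-1)` does not divide `q^2 * classSize` for `q` a
prime power other than `2`, `4`. -/
theorem not_dvd_base (q : ℕ) (hpp : IsPrimePow q) (h2 : q ≠ 2) (h4 : q ≠ 4) :
    ¬ (q ^ 2 + q - 2 ∣ q ^ 2 * ((q - 1) * N q 3 * N q 2)) := by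
  intro hdvd
  have hq1 : 1 < q := hpp.one_lt
  rw [N_three, N_two] at hdvd
  have hfac : q ^ 2 + q - 2 = (q - 1) * (q + 2) := by
    obtain ⟨r, rfl⟩ : ∃ r, q = r + 1 := ⟨q - 1, by omega⟩
    simp only [Nat.add_sub_cancel]
    have : (r + 1) ^ 2 + (r + 1) = r * (r + 1 + 2) + 2 := by ring
    rw [this]; simp
  have hrw : q ^ 2 * ((q - 1) * (q ^ 2 + q + 1) * (q + 1))
      = (q - 1) * (q ^ 2 * (q ^ 2 + q + 1) * (q + 1)) := by ring
  rw [hfac, hrw] at hdvd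
  have h1 : q + 2 ∣ q ^ 2 * (q ^ 2 + q + 1) * (q + 1) :=
    Nat.dvd_of_mul_dvd_mul_left (by omega) hdvd
  have h2' : q + 2 ∣ 12 := by
    have hid : q ^ 2 * (q ^ 2 + q + 1) * (q + 1) + 3 * q * (q + 2) + 12
        = (q + 2) * (q ^ 4 + 2 * q ^ 2 + 6) := by ring
    have h3 : q + 2 ∣ q ^ 2 * (q ^ 2 + q + 1) * (q + 1) + 3 * q * (q + 2) :=
      Dvd.dvd.add h1 (Dvd.intro_left _ rfl)
    have h4' : q + 2 ∣ q ^ 2 * (q ^ 2 + q + 1) * (q + 1) + 3 * q * (q + 2) + 12 := by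
      rw [hid]; exact Dvd.intro _ rfl
    exact (Nat.dvd_add_right h3).mp h4'
  have hle : q + 2 ≤ 12 := Nat.le_of_dvd (by norm_num) h2'
  have hq10 : q ≤ 10 := by omega
  interval_cases q
  · exact absurd rfl h2
  · exact absurd h2' (by decide)
  · exact absurd rfl h4
  · exact absurd h2' (by decide)
  · exact absurd h2' (by decide)
  · exact absurd h2' (by decide)
  · exact absurd h2' (by decide)
  · exact absurd h2' (by decide)
  · exact absurd hpp (by decide)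

/-- (A2') Base `n = 3`, second value: `q^2 + q - 1 = N q 3 - 2`. -/
theorem not_dvd_base' (q : ℕ) (hq : 2 ≤ q) :
    ¬ (q ^ 2 + q - 1 ∣ q ^ 2 * ((q - 1) * N q 3 * N q 2)) := by
  have h := not_dvd_general q 3 hq le_rfl
  have e : N q 3 - 2 = q ^ 2 + q - 1 := by rw [N_three]; omega
  rw [e] at h
  exact h

/-- (A3) Sporadic window `(n, q) = (4, 4)`: class size `5355`, `q^(n-1) = 64`. -/
theorem window_44 (d : ℕ) (h1 : 81 ≤ d) (h2 : d < 84) :
    ¬ (d ∣ 4 ^ 3 * ((4 ^ 4 - 1) * (4 ^ 3 - 1) / (4 - 1))) := by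
  interval_cases d <;> decide

/-- (A3) Sporadic window `(n, q) = (5, 2)`: class size `465`, `q^(n-1) = 16`. -/
theorem window_52 (d : ℕ) (h1 : 25 ≤ d) (h2 : d < 30) :
    ¬ (d ∣ 2 ^ 4 * ((2 ^ 5 - 1) * (2 ^ 4 - 1) / (2 - 1))) := by
  interval_cases d <;> decide

/-- (A3) Sporadic window `(n, q) = (5, 3)`: class size `9680`, `q^(n-1) = 81`. -/
theorem window_53 (d : ℕ) (h1 : 114 ≤ d) (h2 : d < 120) :
    ¬ (d ∣ 3 ^ 4 * ((3 ^ 5 - 1) * (3 ^ 4 - 1) / (3 - 1))) := by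
  interval_cases d <;> decide

/-- (A4) The branch `m ≥ 2`: `N q n - 1 ≤ 2 * (q^(n-1) - 1)`. -/
theorem two_mul_ge (q n : ℕ) (hq : 2 ≤ q) (hn : 1 ≤ n) :
    N q n - 1 ≤ 2 * (q ^ (n - 1) - 1) := by
  obtain ⟨j, rfl⟩ : ∃ j, n = j + 1 := ⟨n - 1, by omega⟩
  simp only [Nat.add_sub_cancel]
  rw [N_succ, Nat.add_sub_cancel, ← pred_mul_N' q j (by omega)]
  have : q * N q j ≤ 2 * (q - 1) * N q j := Nat.mul_le_mul_right _ (by omega)
  calc q * N q j ≤ 2 * (q - 1) * N q j := this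
    _ = 2 * ((q - 1) * N q j) := by ring

/-- (A4) in frozen form. -/
theorem two_mul_ge' (q n : ℕ) (hq : 2 ≤ q) (hn : 1 ≤ n) :
    (q ^ n - q) / (q - 1) ≤ 2 * (q ^ (n - 1) - 1) := by
  rw [target_eq q n hq hn]; exact two_mul_ge q n hq hn

/-- (A4) The branch `m = 1`: `q^(n-1) - 1 + (N q (n-1) - 1) = N q n - 2`. -/
theorem m_one_sum (q n : ℕ) (hq : 1 ≤ q) (hn : 2 ≤ n) :
    q ^ (n - 1) - 1 + (N q (n - 1) - 1) = N q n - 2 := by
  obtain ⟨j, rfl⟩ : ∃ j, n = j + 1 := ⟨n - 1, by omega⟩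
  simp only [Nat.add_sub_cancel]
  rw [N_succ']
  have h1 : 1 ≤ N q j := N_pos q j (by omega)
  have h2 : 1 ≤ q ^ j := Nat.one_le_pow _ _ (by omega)
  omega

/-- (A4) in frozen form: `q^(n-1) - 1 + target(n-1) = target(n) - 1`. -/
theorem m_one_sum' (q n : ℕ) (hq : 2 ≤ q) (hn : 2 ≤ n) :
    q ^ (n - 1) - 1 + (q ^ (n - 1) - q) / (q - 1) = (q ^ n - q) / (q - 1) - 1 := by
  rw [target_eq q n hq (by omega), target_eq q (n - 1) hq (by omega), m_one_sum q n (by omega) hn]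
  omega

/-- Consumer lemma, general step: a degree `d` with `target - 1 ≤ d < target` dividing
`q^(n-1) * classSize` is impossible. -/
theorem false_of_dvd_general (q n d : ℕ) (hq : 2 ≤ q) (hn : 3 ≤ n)
    (hdvd : d ∣ q ^ (n - 1) * ((q ^ n - 1) * (q ^ (n - 1) - 1) / (q - 1)))
    (hlo : (q ^ n - q) / (q - 1) - 1 ≤ d) (hhi : d < (q ^ n - q) / (q - 1)) : False := by
  rw [target_eq q n hq (by omega)] at hlo hhi
  have hd : d = N q n - 2 := by omega
  rw [classSize_eq q n hq, hd] at hdvd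
  exact not_dvd_general q n hq hn hdvd

/-- Consumer lemma, base `n = 3`: a degree `d` with `q^2 + q - 2 ≤ d < q^2 + q` dividing
`q^2 * classSize` is impossible (for `q` a prime power other than `2`, `4`). -/
theorem false_of_dvd_base (q d : ℕ) (hpp : IsPrimePow q) (h2 : q ≠ 2) (h4 : q ≠ 4)
    (hdvd : d ∣ q ^ 2 * ((q ^ 3 - 1) * (q ^ 2 - 1) / (q - 1)))
    (hlo : q ^ 2 + q - 2 ≤ d) (hhi : d < q ^ 2 + q) : False := by
  have hq : 2 ≤ q := hpp.one_lt
  have hcs := classSize_eq q 3 hq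
  simp only [show 3 - 1 = 2 from rfl] at hcs
  rw [hcs] at hdvd
  have hq2 : 4 ≤ q ^ 2 := by nlinarith
  rcases (by omega : d = q ^ 2 + q - 2 ∨ d = q ^ 2 + q - 1) with rfl | rfl
  · exact not_dvd_base q hpp h2 h4 hdvd
  · exact not_dvd_base' q hq hdvd

/-- base `n = 3` in frozen form: target is `(q^3 - q)/(q-1) = q^2 + q`. -/
theorem target_three (q : ℕ) (hq : 2 ≤ q) : (q ^ 3 - q) / (q - 1) = q ^ 2 + q := by
  rw [target_eq q 3 hq (by omega), N_three]; omega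

theorem false_of_dvd_44 (d : ℕ)
    (hdvd : d ∣ 4 ^ 3 * ((4 ^ 4 - 1) * (4 ^ 3 - 1) / (4 - 1)))
    (hlo : 81 ≤ d) (hhi : d < (4 ^ 4 - 4) / (4 - 1)) : False :=
  window_44 d hlo (by norm_num at hhi ⊢; omega) hdvd

theorem false_of_dvd_52 (d : ℕ)
    (hdvd : d ∣ 2 ^ 4 * ((2 ^ 5 - 1) * (2 ^ 4 - 1) / (2 - 1)))
    (hlo : 25 ≤ d) (hhi : d < (2 ^ 5 - 2) / (2 - 1)) : False :=
  window_52 d hlo (by norm_num at hhi ⊢; omega) hdvd

theorem false_of_dvd_53 (d : ℕ)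
    (hdvd : d ∣ 3 ^ 4 * ((3 ^ 5 - 1) * (3 ^ 4 - 1) / (3 - 1)))
    (hlo : 114 ≤ d) (hhi : d < (3 ^ 5 - 3) / (3 - 1)) : False :=
  window_53 d hlo (by norm_num at hhi ⊢; omega) hdvd

end Cfsg.Agent.Lib.Helper17.SLMinArith
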