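/- helper17: simple groups of order 2520, endgame piece [E]: generic lemmas (sum of a function over a cyclic
group of order 4 / 2, vanishing of the sum of a non-trivial irreducible character, no subgroup of index 5) -/
import Mathlib
import Cfsg.Agent.Lib.Helper24.M11VecA
import Cfsg.Agent.Lib.Helper24.M11VecC
import Cfsg.Agent.Lib.Helper24.IrrFacts
import Cfsg.Agent.Lib.Lead.CharBurnside

set_option autoImplicit false

namespace Cfsg.Agent.Lib.Helper17.A7End

open Cfsg Cfsg.Agent.CharLib Cfsg.Agent.Lib.Helper24 Cfsg.Agent.Lib.Helper24.M11Vec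

universe u

variable {G : Type u} [Group G]

/-- the sum of a non-trivial irreducible character over the group vanishes -/
theorem sum_irr_eq_zero [Fintype G] (χ : IrrCharacter G) (h : (χ : G → ℂ) 1 ≠ 1) :
    ∑ g : G, (χ : G → ℂ) g = 0 := by
  have hne : (χ : G → ℂ) ≠ (1 : G → ℂ) := by
    intro h'
    apply h
    rw [h']
    rfl
  have h1 := classInner_irr χ.2 (isIrrCharacter_one (G := G))
  rw [if_neg hne] at h1
  unfold classInner at h1
  have h0 : (Nat.card G : ℂ) ≠ 0 := Nat.cast_ne_zero.mpr Nat.card_pos.ne'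
  rcases mul_eq_zero.mp h1 with h2 | h2
  · exact absurd (inv_eq_zero.mp h2) h0
  · simpa using h2

/-- sum over a cyclic group of order `4` -/
theorem sum_zpowers_four (f : G → ℂ) (u : G) (hu : orderOf u = 4)
    [Fintype ↥(Subgroup.zpowers u)] :
    ∑ x : ↥(Subgroup.zpowers u), f (x : G) = f 1 + f u + f (u ^ 2) + f (u ^ 3) := by
  have hfin : IsOfFinOrder u := by
    rw [← orderOf_pos_iff, hu]; norm_num
  have e1 : ∑ x : ↥(Subgroup.zpowers u), f (x : G) =
      ∑ n : Fin (orderOf u), f (u ^ (n : ℕ)) := by
    symm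
    apply Fintype.sum_equiv (finEquivZPowers hfin)
    intro n
    rw [finEquivZPowers_apply]
  rw [e1, Fin.sum_univ_eq_sum_range (fun n => f (u ^ n)) (orderOf u), hu]
  simp only [Finset.sum_range_succ, Finset.sum_range_zero, pow_zero, pow_one, zero_add]

/-- sum over a cyclic group of order `2` -/
theorem sum_zpowers_two (f : G → ℂ) (s : G) (hs : orderOf s = 2)
    [Fintype ↥(Subgroup.zpowers s)] :
    ∑ x : ↥(Subgroup.zpowers s), f (x : G) = f 1 + f s := by
  have hfin : IsOfFinOrder s := by
    rw [← orderOf_pos_iff, hs]; norm_num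
  have e1 : ∑ x : ↥(Subgroup.zpowers s), f (x : G) =
      ∑ n : Fin (orderOf s), f (s ^ (n : ℕ)) := by
    symm
    apply Fintype.sum_equiv (finEquivZPowers hfin)
    intro n
    rw [finEquivZPowers_apply]
  rw [e1, Fin.sum_univ_eq_sum_range (fun n => f (s ^ n)) (orderOf s), hs]
  simp only [Finset.sum_range_succ, Finset.sum_range_zero, pow_zero, pow_one, zero_add]

/-- a simple group of order `2520` has no subgroup of index `5` -/
theorem index_ne_five [Finite G] [IsSimpleGroup G] (hG : Nat.card G = 2520) (H : Subgroup G) :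
    H.index ≠ 5 := by
  intro h5
  have hne : H ≠ ⊤ := by
    intro h
    rw [h, Subgroup.index_top] at h5
    omega
  have hcore : H.normalCore = ⊥ := by
    rcases (H.normalCore_normal).eq_bot_or_eq_top with h | h
    · exact h
    · exact absurd (top_le_iff.mp (h ▸ H.normalCore_le)) hne
  have h : H.normalCore.index ∣ H.index.factorial := by
    rw [Subgroup.normalCore_eq_ker, Subgroup.index_ker, Subgroup.index_eq_card, ← Nat.card_perm]
    exact Subgroup.card_subgroup_dvd_card (MulAction.toPermHom G (G ⧸ H)).range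
  rw [hcore, Subgroup.index_bot, hG, h5] at h
  norm_num [Nat.factorial] at h

end Cfsg.Agent.Lib.Helper17.A7End
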