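import Mathlib
import Cfsg.Agent.Lib.Helper27.A7BlkG
import Cfsg.Agent.Lib.Helper17.A7EndA

/-!
# Simple groups of order 2520, piece (C-4) (helper17)

In the `A₇` pattern `B : Blk7 x15 x6 Yf 15 1 6 (-1) 10 (-1)` of the principal `7`-block, with the values at
the involutions known (`x6 t = 2`, `x15 t = -1`, `|C(t)| = 24`), an element `u` of order `4` has
`x6 u = 0` or `x6 u = 2`.
-/

set_option autoImplicit false
set_option linter.unusedSectionVars false
set_option linter.style.haveILetI false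

namespace Cfsg.Agent.Lib.Helper17.A7C4

open Cfsg Cfsg.Agent.CharLib Cfsg.Agent.Lib.Helper24 Cfsg.Agent.Lib.Helper27.A7Blk
  Cfsg.Agent.Lib.Helper12.BSF

universe u

variable {G : Type u} [Group G] [Finite G]

theorem arith24 : ∀ c : ℕ, c ≤ 24 → c ∣ 24 → 4 ∣ c → c = 4 ∨ c = 8 ∨ c = 12 ∨ c = 24 := by
  decide

/-- the arithmetic core of (C-4) -/
theorem arith_core (a b : ℤ) (c N m m' : ℕ)
    (h1 : 8 + 2 * a = 4 * m) (h2 : 14 + 2 * b = 4 * m')
    (hc24 : c ∣ 24) (hc4 : 4 ∣ c)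
    (h4 : 1 + b ^ 2 + a ^ 2 + 2 * (1 + b - a) ^ 2 ≤ (c : ℤ))
    (h5 : (N : ℤ) * c = 14 * (9 + b - 4 * a)) : a = 0 ∨ a = 2 := by
  have hcle : c ≤ 24 := Nat.le_of_dvd (by norm_num) hc24
  have hc : (c : ℤ) ≤ 24 := by exact_mod_cast hcle
  have ha1 : -4 ≤ a := by nlinarith [sq_nonneg (1 + b - a), sq_nonneg b]
  have ha2 : a ≤ 4 := by nlinarith [sq_nonneg (1 + b - a), sq_nonneg b]
  have hb1 : -4 ≤ b := by nlinarith [sq_nonneg (1 + b - a), sq_nonneg a]
  have hb2 : b ≤ 4 := by nlinarith [sq_nonneg (1 + b - a), sq_nonneg a]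
  rcases arith24 c hcle hc24 hc4 with rfl | rfl | rfl | rfl <;>
    interval_cases a <;> interval_cases b <;> omega

/-- **(C-4)**: the values of `x6` at the elements of order `4` -/
theorem four_data (hG : Nat.card G = 2520) {x15 x6 : IrrCharacter G} {Yf : Finset (IrrCharacter G)}
    (B : Blk7 x15 x6 Yf 15 1 6 (-1) 10 (-1))
    (hinv : ∀ t : G, orderOf t = 2 → (x6 : G → ℂ) t = 2 ∧ (x15 : G → ℂ) t = -1 ∧
      Nat.card ↥(Subgroup.centralizer ({t} : Set G)) = 24) :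
    ∀ u : G, orderOf u = 4 → (x6 : G → ℂ) u = 0 ∨ (x6 : G → ℂ) u = 2 := by
  classical
  intro u hu
  haveI : Fact (Nat.Prime 7) := ⟨by norm_num⟩
  have hu15 := B.unique2 (by norm_num) (by norm_num) (by norm_num) (by norm_num)
  have hu6 := B.unique3 (by norm_num) (by norm_num) (by norm_num) (by norm_num)
  obtain ⟨a, ha⟩ := int_of_unique x6 hu6 u
  obtain ⟨b, hb⟩ := int_of_unique x15 hu15 u
  -- the involution `t = u ^ 2`
  have ht : orderOf (u ^ 2) = 2 := by
    rw [orderOf_pow' u (by norm_num : (2 : ℕ) ≠ 0), hu]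
    norm_num
  obtain ⟨ht6, ht15, htC⟩ := hinv (u ^ 2) ht
  -- `u ^ 3`
  have h36 : (x6 : G → ℂ) (u ^ 3) = (a : ℂ) := by
    rw [pow_eq_of_unique x6 hu6 u 3 (by rw [hu]; norm_num), ha]
  have h315 : (x15 : G → ℂ) (u ^ 3) = (b : ℂ) := by
    rw [pow_eq_of_unique x15 hu15 u 3 (by rw [hu]; norm_num), hb]
  -- sums over `⟨u⟩`
  letI : Fintype ↥(Subgroup.zpowers u) := Fintype.ofFinite _
  have hcardZ : (Fintype.card ↥(Subgroup.zpowers u) : ℂ) = 4 := by
    rw [← Nat.card_eq_fintype_card, Nat.card_zpowers, hu]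
    norm_num
  obtain ⟨m, hm⟩ := sum_subgroup_irr (Subgroup.zpowers u) x6
  obtain ⟨m', hm'⟩ := sum_subgroup_irr (Subgroup.zpowers u) x15
  rw [Cfsg.Agent.Lib.Helper17.A7End.sum_zpowers_four (fun x => (x6 : G → ℂ) x) u hu, hcardZ,
    irr_apply_one, B.d3, ha, ht6, h36] at hm
  rw [Cfsg.Agent.Lib.Helper17.A7End.sum_zpowers_four (fun x => (x15 : G → ℂ) x) u hu, hcardZ,
    irr_apply_one, B.d2, hb, ht15, h315] at hm'
  have h1 : 8 + 2 * a = 4 * (m : ℤ) := by
    have : ((8 + 2 * a : ℤ) : ℂ) = ((4 * (m : ℤ) : ℤ) : ℂ) := by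
      push_cast
      linear_combination hm
    exact_mod_cast this
  have h2 : 14 + 2 * b = 4 * (m' : ℤ) := by
    have : ((14 + 2 * b : ℤ) : ℂ) = ((4 * (m' : ℤ) : ℤ) : ℂ) := by
      push_cast
      linear_combination hm'
    exact_mod_cast this
  -- the centralizer of `u`
  set c := Nat.card ↥(Subgroup.centralizer ({u} : Set G)) with hc
  have hc24 : c ∣ 24 := by
    rw [← htC]
    apply Subgroup.card_dvd_of_le
    intro g hg
    rw [Subgroup.mem_centralizer_singleton_iff] at hg ⊢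
    have hg' : u * g = g * u := hg.symm
    symm
    calc u ^ 2 * g = u * (u * g) := by rw [pow_two, mul_assoc]
      _ = u * (g * u) := by rw [hg']
      _ = (u * g) * u := by rw [mul_assoc]
      _ = (g * u) * u := by rw [hg']
      _ = g * u ^ 2 := by rw [pow_two, mul_assoc]
  have hc4 : 4 ∣ c := by
    have hmem : u ∈ Subgroup.centralizer ({u} : Set G) := by
      rw [Subgroup.mem_centralizer_singleton_iff]
    have := Subgroup.orderOf_dvd_natCard _ hmem
    rwa [hu] at this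
  have hreg : ¬ 7 ∣ orderOf u := by rw [hu]; norm_num
  have hreg2 : ¬ 7 ∣ orderOf (u ^ 2) := by rw [ht]; norm_num
  have h4 := B.cent_lower u hreg b a hb ha
  -- the class multiplication coefficient with an element of order `7`
  obtain ⟨y, hy⟩ := exists_prime_orderOf_dvd_card' (G := G) 7 (by rw [hG]; norm_num)
  have ht15' : (x15 : G → ℂ) (u ^ 2) = ((-1 : ℤ) : ℂ) := by rw [ht15]; norm_num
  have ht6' : (x6 : G → ℂ) (u ^ 2) = ((2 : ℤ) : ℂ) := by rw [ht6]; norm_num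
  have h5 := B.pair_count_int u (u ^ 2) y hreg hreg2 hy b a (-1) 2 hb ha ht15' ht6'
  rw [htC, hG, ← hc] at h5
  set N := Nat.card {s : G // IsConj u s ∧ IsConj (u ^ 2) (s⁻¹ * y)} with hN
  have h5' : (N : ℤ) * c = 14 * (9 + b - 4 * a) := by
    have h0 : (21600 : ℤ) ≠ 0 := by norm_num
    apply mul_left_cancel₀ h0
    push_cast at h5
    linear_combination h5
  have h4' : 1 + b ^ 2 + a ^ 2 + 2 * (1 + b - a) ^ 2 ≤ (c : ℤ) := by
    have e : (1 : ℤ) + 1 * b + -1 * a = 1 + b - a := by ring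
    rw [e] at h4
    exact h4
  rcases arith_core a b c N m m' h1 h2 hc24 hc4 h4' h5' with h | h
  · left; rw [ha, h]; norm_num
  · right; rw [ha, h]; norm_num

end Cfsg.Agent.Lib.Helper17.A7C4
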