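/- helper17: simple groups of order 2520, endgame piece [E]: from a degree 6 irreducible character with value 2 at
involutions and 0 at elements of order 4, a subgroup S of order 9 with |N(S)| = 36 normalized by an element u of
order 4 whose square acts fixed-point-freely on S, and an involution s inverting u: a subgroup of index 7 -/
import Mathlib
import Cfsg.Agent.Lib.Helper17.A7EndA

set_option autoImplicit false
set_option linter.unusedSectionVars false

namespace Cfsg.Agent.Lib.Helper17.A7End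

open Cfsg Cfsg.Agent.CharLib Cfsg.Agent.Lib.Helper24 Cfsg.Agent.Lib.Helper24.M11Vec

universe u

variable {G : Type u} [Group G] [Finite G]

/-- the local data used in the endgame -/
structure LocalData (S : Subgroup G) (u s : G) : Prop where
  hS : Nat.card ↥S = 9
  hN : Nat.card ↥(Subgroup.normalizer (S : Set G)) = 36
  hu : orderOf u = 4
  huN : u ∈ Subgroup.normalizer (S : Set G)
  hfree : ∀ x ∈ S, u ^ 2 * x * (u ^ 2)⁻¹ = x → x = 1
  hs : orderOf s = 2
  hsu : s * u * s⁻¹ = u⁻¹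

namespace LocalData

variable {S : Subgroup G} {u s : G} (D : LocalData S u s)

include D

theorem u_pow_four : u ^ 4 = 1 := by
  have := pow_orderOf_eq_one u
  rwa [D.hu] at this

theorem s_sq : s * s = 1 := by
  have := pow_orderOf_eq_one s
  rwa [D.hs, pow_two] at this

theorem s_inv : s⁻¹ = s := inv_eq_of_mul_eq_one_left D.s_sq

theorem s_ne_one : s ≠ 1 := by
  intro h
  have := D.hs
  rw [h, orderOf_one] at this
  omega

theorem u_sq_ne_one : u ^ 2 ≠ 1 := by
  intro h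
  have := orderOf_dvd_of_pow_eq_one h
  rw [D.hu] at this
  omega

theorem orderOf_u_sq : orderOf (u ^ 2) = 2 := by
  rw [orderOf_pow' u (by norm_num : (2 : ℕ) ≠ 0), D.hu]
  norm_num

theorem orderOf_u_cube : orderOf (u ^ 3) = 4 := by
  rw [orderOf_pow' u (by norm_num : (3 : ℕ) ≠ 0), D.hu]
  norm_num

theorem hQN : Subgroup.zpowers u ≤ Subgroup.normalizer (S : Set G) :=
  (Subgroup.zpowers_le).mpr D.huN

theorem card_Q : Nat.card ↥(Subgroup.zpowers u) = 4 := by
  rw [Nat.card_zpowers, D.hu]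

theorem inf_trivial (g : G) (h1 : g ∈ S) (h2 : g ∈ Subgroup.zpowers u) : g = 1 := by
  have d1 : orderOf g ∣ 9 := by
    rw [← D.hS]
    exact (Subgroup.orderOf_mk g h1).symm ▸ orderOf_dvd_natCard (⟨g, h1⟩ : ↥S)
  have d2 : orderOf g ∣ 4 := by
    rw [← D.card_Q]
    exact (Subgroup.orderOf_mk g h2).symm ▸
      orderOf_dvd_natCard (⟨g, h2⟩ : ↥(Subgroup.zpowers u))
  have : orderOf g ∣ Nat.gcd 9 4 := Nat.dvd_gcd d1 d2
  have h1 : orderOf g = 1 := by
    have : orderOf g ∣ 1 := by simpa using this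
    exact Nat.dvd_one.mp this
  exact orderOf_eq_one_iff.mp h1

theorem free_one (x : G) (hx : x ∈ S) (h : u * x * u⁻¹ = x) : x = 1 := by
  apply D.hfree x hx
  calc u ^ 2 * x * (u ^ 2)⁻¹ = u * (u * x * u⁻¹) * u⁻¹ := by
        rw [pow_two, mul_inv_rev]; simp only [mul_assoc]
    _ = x := by rw [h, h]

theorem free_two (x : G) (hx : x ∈ S) (h : u ^ 2 * x * (u ^ 2)⁻¹ = x) : x = 1 :=
  D.hfree x hx h

theorem free_three (x : G) (hx : x ∈ S) (h : u ^ 3 * x * (u ^ 3)⁻¹ = x) : x = 1 := by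
  apply D.hfree x hx
  have h6 : u ^ 2 = u ^ 3 * u ^ 3 := by
    calc u ^ 2 = u ^ 2 * 1 := by rw [mul_one]
      _ = u ^ 2 * u ^ 4 := by rw [D.u_pow_four]
      _ = u ^ 3 * u ^ 3 := by rw [← pow_add, ← pow_add]
  calc u ^ 2 * x * (u ^ 2)⁻¹ = u ^ 3 * (u ^ 3 * x * (u ^ 3)⁻¹) * (u ^ 3)⁻¹ := by
        rw [h6, mul_inv_rev]; simp only [mul_assoc]
    _ = x := by rw [h, h]

/-- the values of a class function on the non-trivial cosets of `S` in `S⟨u⟩` -/
theorem apply_coset (χ : IrrCharacter G) (k : ℕ) (hk : k = 1 ∨ k = 2 ∨ k = 3) (x : G)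
    (hx : x ∈ S) : (χ : G → ℂ) (x * u ^ k) = (χ : G → ℂ) (u ^ k) := by
  have : Finite ↥S := Nat.finite_of_card_ne_zero (by rw [D.hS]; norm_num)
  have hmem : u ^ k ∈ Subgroup.normalizer (S : Set G) := Subgroup.pow_mem _ D.huN k
  have hfree : ∀ y ∈ S, u ^ k * y * (u ^ k)⁻¹ = y → y = 1 := by
    rcases hk with rfl | rfl | rfl
    · intro y hy h
      rw [pow_one] at h
      exact D.free_one y hy h
    · exact D.free_two
    · exact D.free_three
  obtain ⟨y, -, hy⟩ := exists_conj_coset S (u ^ k) hmem hfree x hx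
  rw [← hy]
  exact irr_conj χ (u ^ k) y

/-- `s` inverts every element of `⟨u⟩` -/
theorem conj_mem_Q (x : G) (hx : x ∈ Subgroup.zpowers u) : s * x * s⁻¹ = x⁻¹ := by
  obtain ⟨k, rfl⟩ := Subgroup.mem_zpowers_iff.mp hx
  rw [← conj_zpow, D.hsu, inv_zpow]

theorem hsN : Subgroup.zpowers s ≤ Subgroup.normalizer ((Subgroup.zpowers u : Subgroup G) : Set G) := by
  rw [Subgroup.zpowers_le, Subgroup.mem_normalizer_iff]
  have key : ∀ x ∈ Subgroup.zpowers u, s * x * s⁻¹ ∈ Subgroup.zpowers u := by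
    intro x hx
    rw [D.conj_mem_Q x hx]
    exact Subgroup.inv_mem _ hx
  intro x
  constructor
  · exact key x
  · intro h
    have h2 := key _ h
    have e : s * (s * x * s⁻¹) * s⁻¹ = x := by
      calc s * (s * x * s⁻¹) * s⁻¹ = (s * s) * x * (s * s)⁻¹ := by
            rw [mul_inv_rev]; simp only [mul_assoc]
        _ = x := by rw [D.s_sq]; simp
    rwa [e] at h2

theorem s_not_mem_Q : s ∉ Subgroup.zpowers u := by
  intro h
  obtain ⟨k, hk⟩ := Subgroup.mem_zpowers_iff.mp h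
  have hc : s * u = u * s := by
    rw [← hk]
    exact (Commute.zpow_self u k).eq
  have h3 : s * u * s⁻¹ = u := by
    rw [hc]; group
  rw [D.hsu] at h3
  have h4 : u ^ 2 = 1 := by
    rw [pow_two]
    nth_rewrite 1 [← h3]
    exact inv_mul_cancel u
  exact D.u_sq_ne_one h4

theorem inf_trivial' (g : G) (h1 : g ∈ Subgroup.zpowers u) (h2 : g ∈ Subgroup.zpowers s) :
    g = 1 := by
  classical
  rw [mem_zpowers_iff_mem_range_orderOf, D.hs] at h2
  simp only [Finset.mem_image, Finset.mem_range] at h2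
  obtain ⟨k, hk, rfl⟩ := h2
  interval_cases k
  · simp
  · rw [pow_one] at h1
    exact absurd h1 D.s_not_mem_Q

theorem orderOf_mul_s (x : G) (hx : x ∈ Subgroup.zpowers u) : orderOf (x * s) = 2 := by
  apply orderOf_eq_prime
  · rw [pow_two]
    calc x * s * (x * s) = x * (s * x * s⁻¹) * (s * s) := by
          simp only [mul_assoc, inv_mul_cancel_left]
      _ = 1 := by rw [D.conj_mem_Q x hx, D.s_sq]; simp
  · intro h
    have : s = x⁻¹ := by
      calc s = x⁻¹ * (x * s) := by group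
        _ = x⁻¹ := by rw [h, mul_one]
    exact D.s_not_mem_Q (this ▸ Subgroup.inv_mem _ hx)

theorem card_K : Nat.card ↥(prodSub S (Subgroup.zpowers u) D.hQN) = 36 := by
  rw [card_prodSub S _ D.hQN D.inf_trivial, D.hS, D.card_Q]

theorem card_T :
    Nat.card ↥(prodSub (Subgroup.zpowers u) (Subgroup.zpowers s) D.hsN) = 8 := by
  rw [card_prodSub _ _ D.hsN D.inf_trivial', D.card_Q, Nat.card_zpowers, D.hs]

section sums

variable (χ : IrrCharacter G) (hd : charDegree (χ : G → ℂ) = 6)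
  (h2 : ∀ t : G, orderOf t = 2 → (χ : G → ℂ) t = 2)

include hd h2

theorem sum_Q_gen [Fintype ↥(Subgroup.zpowers u)] :
    ∑ x : ↥(Subgroup.zpowers u), (χ : G → ℂ) (x : G) =
      8 + (χ : G → ℂ) u + (χ : G → ℂ) (u ^ 3) := by
  rw [sum_zpowers_four (χ : G → ℂ) u D.hu, irr_apply_one, hd, h2 _ D.orderOf_u_sq]
  norm_num
  ring

theorem sum_T_gen [Fintype ↥(Subgroup.zpowers u)] [Fintype ↥(Subgroup.zpowers s)]
    [Fintype ↥(prodSub (Subgroup.zpowers u) (Subgroup.zpowers s) D.hsN)] :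
    ∑ k : ↥(prodSub (Subgroup.zpowers u) (Subgroup.zpowers s) D.hsN), (χ : G → ℂ) (k : G) =
      16 + (χ : G → ℂ) u + (χ : G → ℂ) (u ^ 3) := by
  rw [sum_prodSub (Subgroup.zpowers u) (Subgroup.zpowers s) D.hsN D.inf_trivial' (χ : G → ℂ)]
  have h := sum_zpowers_two
    (fun q : G => ∑ x : ↥(Subgroup.zpowers u), (χ : G → ℂ) ((x : G) * q)) s D.hs
  rw [h]
  have e1 : ∀ x : ↥(Subgroup.zpowers u), (χ : G → ℂ) ((x : G) * s) = 2 := by
    intro x
    exact h2 _ (D.orderOf_mul_s x x.2)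
  rw [Finset.sum_congr rfl (fun x _ => e1 x)]
  simp only [mul_one]
  rw [D.sum_Q_gen χ hd h2]
  simp only [Finset.sum_const, Finset.card_univ]
  rw [← Nat.card_eq_fintype_card, D.card_Q]
  ring

/-- the value `2` at `u` is impossible: the sum over `T = ⟨u, s⟩` must be divisible by `8` -/
theorem apply_u_eq_zero (hu0 : (χ : G → ℂ) u = 0 ∨ (χ : G → ℂ) u = 2)
    (hu3 : (χ : G → ℂ) (u ^ 3) = 0 ∨ (χ : G → ℂ) (u ^ 3) = 2) :
    (χ : G → ℂ) u = 0 ∧ (χ : G → ℂ) (u ^ 3) = 0 := by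
  classical
  let _ : Fintype ↥(Subgroup.zpowers u) := Fintype.ofFinite _
  let _ : Fintype ↥(Subgroup.zpowers s) := Fintype.ofFinite _
  let _ : Fintype ↥(prodSub (Subgroup.zpowers u) (Subgroup.zpowers s) D.hsN) :=
    Fintype.ofFinite _
  have sT := D.sum_T_gen χ hd h2
  obtain ⟨n, ρ, hirr, hρ⟩ := χ.2
  have eT := card_mul_finrank_fixSpace ρ
    (prodSub (Subgroup.zpowers u) (Subgroup.zpowers s) D.hsN)
  rw [hρ, sT, D.card_T] at eT
  generalize Module.finrank ℂ
    ↥(fixSpace ρ (prodSub (Subgroup.zpowers u) (Subgroup.zpowers s) D.hsN)) = dT at eT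
  rcases hu0 with a | a <;> rcases hu3 with b | b
  · exact ⟨a, b⟩
  · exfalso
    rw [a, b] at eT
    have : ((8 * dT : ℕ) : ℂ) = ((18 : ℕ) : ℂ) := by
      push_cast at eT ⊢
      rw [eT]; norm_num
    have := Nat.cast_injective this
    omega
  · exfalso
    rw [a, b] at eT
    have : ((8 * dT : ℕ) : ℂ) = ((18 : ℕ) : ℂ) := by
      push_cast at eT ⊢
      rw [eT]; norm_num
    have := Nat.cast_injective this
    omega
  · exfalso
    rw [a, b] at eT
    have : ((8 * dT : ℕ) : ℂ) = ((20 : ℕ) : ℂ) := by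
      push_cast at eT ⊢
      rw [eT]; norm_num
    have := Nat.cast_injective this
    omega

variable (hu0 : (χ : G → ℂ) u = 0) (hu3 : (χ : G → ℂ) (u ^ 3) = 0)

include hu0 hu3

theorem sum_Q [Fintype ↥(Subgroup.zpowers u)] :
    ∑ x : ↥(Subgroup.zpowers u), (χ : G → ℂ) (x : G) = 8 := by
  rw [D.sum_Q_gen χ hd h2, hu0, hu3]
  norm_num

theorem sum_K [Fintype ↥S] [Fintype ↥(Subgroup.zpowers u)]
    [Fintype ↥(prodSub S (Subgroup.zpowers u) D.hQN)] :
    ∑ k : ↥(prodSub S (Subgroup.zpowers u) D.hQN), (χ : G → ℂ) (k : G) =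
      ∑ x : ↥S, (χ : G → ℂ) (x : G) + 18 := by
  rw [sum_prodSub S (Subgroup.zpowers u) D.hQN D.inf_trivial (χ : G → ℂ)]
  have h := sum_zpowers_four (fun q : G => ∑ x : ↥S, (χ : G → ℂ) ((x : G) * q)) u D.hu
  rw [h]
  have e1 : ∀ x : ↥S, (χ : G → ℂ) ((x : G) * u) = 0 := by
    intro x
    have := D.apply_coset χ 1 (Or.inl rfl) x x.2
    rw [pow_one] at this
    rw [this, hu0]
  have e2 : ∀ x : ↥S, (χ : G → ℂ) ((x : G) * u ^ 2) = 2 := by
    intro x
    rw [D.apply_coset χ 2 (Or.inr (Or.inl rfl)) x x.2, h2 _ D.orderOf_u_sq]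
  have e3 : ∀ x : ↥S, (χ : G → ℂ) ((x : G) * u ^ 3) = 0 := by
    intro x
    rw [D.apply_coset χ 3 (Or.inr (Or.inr rfl)) x x.2, hu3]
  rw [Finset.sum_congr rfl (fun x _ => e1 x), Finset.sum_congr rfl (fun x _ => e2 x),
    Finset.sum_congr rfl (fun x _ => e3 x)]
  simp only [mul_one, Finset.sum_const_zero, Finset.sum_const, Finset.card_univ, add_zero]
  rw [← Nat.card_eq_fintype_card, D.hS]
  norm_num

theorem sum_T [Fintype ↥(Subgroup.zpowers u)] [Fintype ↥(Subgroup.zpowers s)]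
    [Fintype ↥(prodSub (Subgroup.zpowers u) (Subgroup.zpowers s) D.hsN)] :
    ∑ k : ↥(prodSub (Subgroup.zpowers u) (Subgroup.zpowers s) D.hsN), (χ : G → ℂ) (k : G) =
      16 := by
  rw [D.sum_T_gen χ hd h2, hu0, hu3]
  norm_num

end sums

/-- the elements of the non-trivial cosets of `S` in `S⟨u⟩` have order `2` or `4` -/
theorem orderOf_coset (k : ℕ) (hk : k = 1 ∨ k = 2 ∨ k = 3) (x : G) (hx : x ∈ S) :
    orderOf (x * u ^ k) = 2 ∨ orderOf (x * u ^ k) = 4 := by
  have : Finite ↥S := Nat.finite_of_card_ne_zero (by rw [D.hS]; norm_num)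
  have hmem : u ^ k ∈ Subgroup.normalizer (S : Set G) := Subgroup.pow_mem _ D.huN k
  have hfree : ∀ y ∈ S, u ^ k * y * (u ^ k)⁻¹ = y → y = 1 := by
    rcases hk with rfl | rfl | rfl
    · intro y hy h
      rw [pow_one] at h
      exact D.free_one y hy h
    · exact D.free_two
    · exact D.free_three
  obtain ⟨y, -, hy⟩ := exists_conj_coset S (u ^ k) hmem hfree x hx
  have e : orderOf (x * u ^ k) = orderOf (u ^ k) := by
    rw [← hy]
    have := (MulAut.conj y).orderOf_eq (u ^ k)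
    rwa [MulAut.conj_apply] at this
  rw [e]
  rcases hk with rfl | rfl | rfl
  · right; rw [pow_one]; exact D.hu
  · left; exact D.orderOf_u_sq
  · right; exact D.orderOf_u_cube

/-- an element of `S⟨u⟩` whose order divides `9` lies in `S` -/
theorem mem_S_of_orderOf_dvd (y : G) (hy : y ∈ prodSub S (Subgroup.zpowers u) D.hQN)
    (ho : orderOf y ∣ 9) : y ∈ S := by
  classical
  obtain ⟨x, hx, q, hq, rfl⟩ := hy
  rw [mem_zpowers_iff_mem_range_orderOf, D.hu] at hq
  simp only [Finset.mem_image, Finset.mem_range] at hq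
  obtain ⟨k, hk, rfl⟩ := hq
  interval_cases k
  · simpa using hx
  · rcases D.orderOf_coset 1 (Or.inl rfl) x hx with h | h <;> rw [h] at ho <;> omega
  · rcases D.orderOf_coset 2 (Or.inr (Or.inl rfl)) x hx with h | h <;> rw [h] at ho <;> omega
  · rcases D.orderOf_coset 3 (Or.inr (Or.inr rfl)) x hx with h | h <;> rw [h] at ho <;> omega

/-- a subgroup of order `72` cannot contain `S⟨u⟩` -/
theorem not_card_72 (H : Subgroup G) (hKH : prodSub S (Subgroup.zpowers u) D.hQN ≤ H)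
    (hH : Nat.card ↥H = 72) : False := by
  set K := prodSub S (Subgroup.zpowers u) D.hQN with hKdef
  have hSK : S ≤ K := left_le_prodSub S _ D.hQN
  -- `K` is normal in `H`
  have hcard' : Nat.card ↥(K.subgroupOf H) = 36 := by
    rw [Nat.card_congr (Subgroup.subgroupOfEquivOfLe hKH).toEquiv]
    exact D.card_K
  have hidx : (K.subgroupOf H).index = 2 := by
    have := Subgroup.card_mul_index (K.subgroupOf H)
    rw [hcard', hH] at this
    omega
  have hnorm : (K.subgroupOf H).Normal := Subgroup.normal_of_index_eq_two hidx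
  have hconj : ∀ h ∈ H, ∀ k ∈ K, h * k * h⁻¹ ∈ K := by
    intro h hh k hk
    have := hnorm.conj_mem ⟨k, hKH hk⟩ (Subgroup.mem_subgroupOf.mpr hk) ⟨h, hh⟩
    exact Subgroup.mem_subgroupOf.mp this
  have hS9 : ∀ x ∈ S, orderOf x ∣ 9 := by
    intro x hx
    rw [← D.hS]
    exact (Subgroup.orderOf_mk x hx).symm ▸ orderOf_dvd_natCard (⟨x, hx⟩ : ↥S)
  have hconjS : ∀ h ∈ H, ∀ x ∈ S, h * x * h⁻¹ ∈ S := by
    intro h hh x hx
    apply D.mem_S_of_orderOf_dvd _ (hconj h hh x (hSK hx))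
    have := (MulAut.conj h).orderOf_eq x
    rw [MulAut.conj_apply] at this
    rw [this]
    exact hS9 x hx
  have hHN : H ≤ Subgroup.normalizer (S : Set G) := by
    intro h hh
    rw [Subgroup.mem_normalizer_iff]
    intro x
    constructor
    · exact hconjS h hh x
    · intro hx
      have := hconjS h⁻¹ (H.inv_mem hh) _ hx
      have e : h⁻¹ * (h * x * h⁻¹) * h⁻¹⁻¹ = x := by group
      rwa [e] at this
  have := Subgroup.card_dvd_of_le hHN
  rw [hH, D.hN] at this
  omega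

set_option maxHeartbeats 1600000 in
/-- **the subgroup of index `7`** -/
theorem exists_index_seven_aux [IsSimpleGroup G] (hG : Nat.card G = 2520)
    (χ : IrrCharacter G) (hd : charDegree (χ : G → ℂ) = 6)
    (h2 : ∀ t : G, orderOf t = 2 → (χ : G → ℂ) t = 2)
    (hu0 : (χ : G → ℂ) u = 0) (hu3 : (χ : G → ℂ) (u ^ 3) = 0) :
    ∃ H : Subgroup G, H.index = 7 := by
  classical
  let _ : Fintype G := Fintype.ofFinite G
  let _ : Fintype ↥S := Fintype.ofFinite _
  let _ : Fintype ↥(Subgroup.zpowers u) := Fintype.ofFinite _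
  let _ : Fintype ↥(Subgroup.zpowers s) := Fintype.ofFinite _
  let _ : Fintype ↥(prodSub S (Subgroup.zpowers u) D.hQN) := Fintype.ofFinite _
  let _ : Fintype ↥(prodSub (Subgroup.zpowers u) (Subgroup.zpowers s) D.hsN) :=
    Fintype.ofFinite _
  have f1 : (χ : G → ℂ) 1 = 6 := by
    rw [irr_apply_one, hd]
    norm_num
  have sK := D.sum_K χ hd h2 hu0 hu3
  have sQ := D.sum_Q χ hd h2 hu0 hu3
  have sT := D.sum_T χ hd h2 hu0 hu3
  obtain ⟨n, ρ, hirr, hρ⟩ := χ.2
  have eS := card_mul_finrank_fixSpace ρ S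
  have eK := card_mul_finrank_fixSpace ρ (prodSub S (Subgroup.zpowers u) D.hQN)
  have eQ := card_mul_finrank_fixSpace ρ (Subgroup.zpowers u)
  have eT := card_mul_finrank_fixSpace ρ
    (prodSub (Subgroup.zpowers u) (Subgroup.zpowers s) D.hsN)
  rw [hρ] at eS eK eQ eT
  rw [sK, D.card_K, ← eS, D.hS] at eK
  rw [sQ, D.card_Q] at eQ
  rw [sT, D.card_T] at eT
  generalize hKdef : prodSub S (Subgroup.zpowers u) D.hQN = K at eK
  generalize hTdef : prodSub (Subgroup.zpowers u) (Subgroup.zpowers s) D.hsN = T at eT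
  set dS := Module.finrank ℂ ↥(fixSpace ρ S) with hdS
  set dK := Module.finrank ℂ ↥(fixSpace ρ K) with hdK
  set dQ := Module.finrank ℂ ↥(fixSpace ρ (Subgroup.zpowers u)) with hdQ
  set dT := Module.finrank ℂ ↥(fixSpace ρ T) with hdT
  have hcK : Nat.card ↥K = 36 := by rw [← hKdef]; exact D.card_K
  have hcT : Nat.card ↥T = 8 := by rw [← hTdef]; exact D.card_T
  have hQK : Subgroup.zpowers u ≤ K := by rw [← hKdef]; exact right_le_prodSub _ _ D.hQN
  have hQT : Subgroup.zpowers u ≤ T := by rw [← hTdef]; exact left_le_prodSub _ _ D.hsN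
  have hdQ2 : dQ = 2 := by
    have : ((4 * dQ : ℕ) : ℂ) = ((8 : ℕ) : ℂ) := by
      push_cast
      exact eQ
    have := Nat.cast_injective this
    omega
  have hdT2 : dT = 2 := by
    have : ((8 * dT : ℕ) : ℂ) = ((16 : ℕ) : ℂ) := by
      push_cast
      exact eT
    have := Nat.cast_injective this
    omega
  have hdK1 : 1 ≤ dK := by
    have : ((36 * dK : ℕ) : ℂ) = ((9 * dS + 18 : ℕ) : ℂ) := by
      push_cast
      exact eK
    have := Nat.cast_injective this
    omega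
  -- the fixed spaces of `T` and `⟨u⟩` coincide
  have hTQ : fixSpace ρ T ≤ fixSpace ρ (Subgroup.zpowers u) :=
    fixSpace_anti ρ hQT
  have hEq : fixSpace ρ T = fixSpace ρ (Subgroup.zpowers u) :=
    Submodule.eq_of_le_of_finrank_eq hTQ (by rw [← hdT, ← hdQ, hdT2, hdQ2])
  have hKQ : fixSpace ρ K ≤ fixSpace ρ (Subgroup.zpowers u) :=
    fixSpace_anti ρ hQK
  -- a non-zero vector fixed by `K`
  have hpos : 0 < Module.finrank ℂ ↥(fixSpace ρ K) := hdK1
  rw [Module.finrank_pos_iff] at hpos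
  obtain ⟨⟨v, hv⟩, hv0⟩ := exists_ne (0 : ↥(fixSpace ρ K))
  have hv0' : v ≠ 0 := fun h => hv0 (Subtype.ext h)
  have hKH : K ≤ vecStab ρ v := (le_vecStab_iff ρ v K).mpr hv
  have hTH : T ≤ vecStab ρ v := by
    rw [le_vecStab_iff, hEq]
    exact hKQ hv
  have hHtop : vecStab ρ v ≠ ⊤ := by
    intro htop
    have hv' : v ∈ fixSpace ρ (⊤ : Subgroup G) := by
      rw [← le_vecStab_iff, htop]
    let _ : Fintype ↥(⊤ : Subgroup G) := Fintype.ofFinite _
    have e := card_mul_finrank_fixSpace ρ (⊤ : Subgroup G)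
    rw [hρ] at e
    have hsum : ∑ a : ↥(⊤ : Subgroup G), (χ : G → ℂ) a = ∑ g : G, (χ : G → ℂ) g :=
      Fintype.sum_equiv Subgroup.topEquiv.toEquiv _ _ (fun _ => rfl)
    rw [hsum, sum_irr_eq_zero χ (by rw [f1]; norm_num)] at e
    have hpos' : 0 < Module.finrank ℂ ↥(fixSpace ρ (⊤ : Subgroup G)) := by
      rw [Module.finrank_pos_iff]
      exact ⟨⟨⟨v, hv'⟩, 0, fun h => hv0' (congrArg Subtype.val h)⟩⟩
    rcases mul_eq_zero.mp e with h | h
    · have : Nat.card ↥(⊤ : Subgroup G) = 0 := by exact_mod_cast h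
      exact Nat.card_pos.ne' this
    · have : Module.finrank ℂ ↥(fixSpace ρ (⊤ : Subgroup G)) = 0 := by exact_mod_cast h
      omega
  set H := vecStab ρ v with hHdef
  -- the order of `H`
  have h36 : 36 ∣ Nat.card ↥H := by
    have := Subgroup.card_dvd_of_le hKH
    rwa [hcK] at this
  have h8 : 8 ∣ Nat.card ↥H := by
    have := Subgroup.card_dvd_of_le hTH
    rwa [hcT] at this
  have h72 : 72 ∣ Nat.card ↥H := by
    have := Nat.lcm_dvd h36 h8
    have e : Nat.lcm 36 8 = 72 := by norm_num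
    rwa [e] at this
  have hdvd : Nat.card ↥H ∣ 2520 := by
    rw [← hG]
    exact Subgroup.card_subgroup_dvd_card H
  obtain ⟨d, hd'⟩ := h72
  have hd35 : d ∣ 35 := by
    rw [hd'] at hdvd
    exact Nat.dvd_of_mul_dvd_mul_left (by norm_num : 0 < 72) (by simpa using hdvd)
  have hdmem : d ∈ Nat.divisors 35 := Nat.mem_divisors.mpr ⟨hd35, by norm_num⟩
  have hdiv : Nat.divisors 35 = {1, 5, 7, 35} := by decide
  rw [hdiv] at hdmem
  simp only [Finset.mem_insert, Finset.mem_singleton] at hdmem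
  have hidx := Subgroup.card_mul_index H
  rw [hG, hd'] at hidx
  rcases hdmem with rfl | rfl | rfl | rfl
  · exact absurd (D.not_card_72 H (hKdef ▸ hKH) (by rw [hd'])) id
  · exact ⟨H, by omega⟩
  · exact absurd (by omega : H.index = 5) (index_ne_five hG H)
  · exfalso
    apply hHtop
    apply Subgroup.eq_top_of_card_eq
    rw [hd', hG]

/-- **the subgroup of index `7`**, with the values at the elements of order `4` known to be
`0` or `2` -/
theorem exists_index_seven [IsSimpleGroup G] (hG : Nat.card G = 2520)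
    (χ : IrrCharacter G) (hd : charDegree (χ : G → ℂ) = 6)
    (h2 : ∀ t : G, orderOf t = 2 → (χ : G → ℂ) t = 2)
    (h4 : ∀ w : G, orderOf w = 4 → (χ : G → ℂ) w = 0 ∨ (χ : G → ℂ) w = 2) :
    ∃ H : Subgroup G, H.index = 7 := by
  obtain ⟨a, b⟩ := D.apply_u_eq_zero χ hd h2 (h4 u D.hu) (h4 _ D.orderOf_u_cube)
  exact D.exists_index_seven_aux hG χ hd h2 a b

end LocalData

/-- **the subgroup of index `7`**, from element-level hypotheses: `u ∈ N(S)` of order `4` whose
square inverts `S`, and every element of order `4` is inverted by an involution -/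
theorem exists_index_seven_of [IsSimpleGroup G] (hG : Nat.card G = 2520)
    (χ : IrrCharacter G) (hd : charDegree (χ : G → ℂ) = 6)
    (h2 : ∀ t : G, orderOf t = 2 → (χ : G → ℂ) t = 2)
    (h4 : ∀ w : G, orderOf w = 4 → (χ : G → ℂ) w = 0 ∨ (χ : G → ℂ) w = 2)
    (S : Subgroup G) (hS : Nat.card ↥S = 9)
    (hN : Nat.card ↥(Subgroup.normalizer (S : Set G)) = 36)
    (u : G) (hu : orderOf u = 4) (huN : u ∈ Subgroup.normalizer (S : Set G))
    (hinv : ∀ x ∈ S, u ^ 2 * x * (u ^ 2)⁻¹ = x⁻¹)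
    (hD8 : ∀ w : G, orderOf w = 4 → ∃ a : G, orderOf a = 2 ∧ a * w * a⁻¹ = w⁻¹) :
    ∃ H : Subgroup G, H.index = 7 := by
  obtain ⟨s, hs, hsu⟩ := hD8 u hu
  have hfree : ∀ x ∈ S, u ^ 2 * x * (u ^ 2)⁻¹ = x → x = 1 := by
    intro x hx h
    rw [hinv x hx] at h
    have hsq : x ^ 2 = 1 := by
      rw [pow_two]
      nth_rewrite 2 [← h]
      exact mul_inv_cancel x
    have d1 : orderOf x ∣ 9 := by
      rw [← hS]
      exact (Subgroup.orderOf_mk x hx).symm ▸ orderOf_dvd_natCard (⟨x, hx⟩ : ↥S)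
    have d2 : orderOf x ∣ 2 := orderOf_dvd_of_pow_eq_one hsq
    have : orderOf x ∣ Nat.gcd 9 2 := Nat.dvd_gcd d1 d2
    have h1 : orderOf x = 1 := by
      have : orderOf x ∣ 1 := by simpa using this
      exact Nat.dvd_one.mp this
    exact orderOf_eq_one_iff.mp h1
  have D : LocalData S u s := ⟨hS, hN, hu, huN, hfree, hs, hsu⟩
  exact D.exists_index_seven hG χ hd h2 h4

end Cfsg.Agent.Lib.Helper17.A7End
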