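import Mathlib
import Cfsg.Agent.Lib.Helper12.Ord5040A
import Cfsg.Agent.Lib.Helper1.A7LocB

/-!
# Sylow `7`-subgroups of a simple group of order `2520` (helper17)

`|N(P)| = 21`, `|C(P)| = 7`.  The cases of `8` and `15` Sylow `7`-subgroups are helper12's
(`Ord5040.case8`, `Ord5040.case15`); the new case is `36` Sylow subgroups, where `C(P)` (of order `35`)
acts regularly on the `35` cosets of `N(P)` other than the base coset, so that an involution of `N(P)`
fixes `1 + |C_{C(P)}(t)|` cosets, which is never a multiple of `4`.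
-/

set_option autoImplicit false
set_option linter.unusedSectionVars false
set_option linter.style.haveILetI false

namespace Cfsg.Agent.Lib.Helper17.A7Syl

open MulAction Cfsg.Agent.Lib.Helper8.SmallSimple Cfsg.Agent.Lib.Helper8.SmallSimple2
  Cfsg.Agent.Lib.Helper12.Ord5040

variable {G : Type*} [Group G] [Finite G]

/-- with `36` Sylow `7`-subgroups and `|C(P)| = 35`: a nontrivial element of `C(P)` fixes only the base
coset of `N(P)` -/
theorem eq_base_of_fixed [IsSimpleGroup G] [Fact (Nat.Prime 7)] (P : Sylow 7 G)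
    (hP : Nat.card ↥(P : Subgroup G) = 7)
    (hidx : (Subgroup.normalizer ((P : Subgroup G) : Set G)).index = 36)
    (hCc : Nat.card ↥(Subgroup.centralizer ((P : Subgroup G) : Set G)) = 35)
    (z : G) (hz : z ∈ Subgroup.centralizer ((P : Subgroup G) : Set G)) (hz1 : z ≠ 1) :
    ∀ a : G ⧸ Subgroup.normalizer ((P : Subgroup G) : Set G), z • a = a →
      a = ((1 : G) : G ⧸ Subgroup.normalizer ((P : Subgroup G) : Set G)) := by
  haveI : Fact (Nat.Prime 5) := ⟨by norm_num⟩
  set N := Subgroup.normalizer ((P : Subgroup G) : Set G) with hN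
  set C := Subgroup.centralizer ((P : Subgroup G) : Set G) with hC
  intro a ha
  have hCN : C ≤ N := Subgroup.centralizer_le_normalizer _
  have hNtop : N ≠ ⊤ := by
    intro h
    rw [h, Subgroup.index_top] at hidx
    omega
  have ho : ∀ y ∈ N, y • ((1 : G) : G ⧸ N) = ((1 : G) : G ⧸ N) := by
    intro y hy
    rw [Cfsg.Agent.S1018.smul_mk_eq_iff]
    simpa using hy
  have h35 : z ^ 35 = 1 := by
    have h1 : orderOf z ∣ 35 := by rw [← hCc]; exact Subgroup.orderOf_dvd_natCard _ hz
    exact orderOf_dvd_iff_pow_eq_one.mp h1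
  -- it suffices that some `w` fixing `a` and the base coset has exactly one fixed coset
  have key : ∀ w : G, w ∈ N → w • a = a → Nat.card (fixedBy (G ⧸ N) w) = 1 →
      a = ((1 : G) : G ⧸ N) := by
    intro w hwN hwa hcard
    have hsub : Subsingleton (fixedBy (G ⧸ N) w) := (Nat.card_eq_one_iff_unique.mp hcard).1
    have e1 : (⟨a, by rw [mem_fixedBy]; exact hwa⟩ : fixedBy (G ⧸ N) w) =
        ⟨((1 : G) : G ⧸ N), by rw [mem_fixedBy]; exact ho w hwN⟩ := Subsingleton.elim _ _
    exact congrArg (fun u : fixedBy (G ⧸ N) w => (u : G ⧸ N)) e1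
  by_cases h5 : z ^ 5 = 1
  · -- `z` has order `5`
    have hzo : orderOf z = 5 := orderOf_eq_prime h5 hz1
    apply key z (hCN hz) ha
    have h7 := card_fixedBy_modEq_one P hP z hz
    have h5' := card_modEq_card_fixedBy (X := G ⧸ N) z (isPGroup_zpowers_of_orderOf_prime 5 z hzo)
    have hX : Nat.card (G ⧸ N) = 36 := hidx
    have hle := card_fixedBy_le (X := G ⧸ N) z
    have hne := card_fixedBy_ne_index N hNtop z hz1
    rw [← hN] at h7
    rw [hX] at h5' hle
    rw [hidx] at hne
    unfold Nat.ModEq at h7 h5'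
    omega
  · -- `z ^ 5` has order `7`
    have hw7 : (z ^ 5) ^ 7 = 1 := by rw [← pow_mul]; exact h35
    have hwo : orderOf (z ^ 5) = 7 := orderOf_eq_prime hw7 h5
    apply key (z ^ 5) (N.pow_mem (hCN hz) 5)
    · have : ∀ k : ℕ, (z ^ k) • a = a := by
        intro k
        induction k with
        | zero => simp
        | succ k ih => rw [pow_succ, mul_smul, ha, ih]
      exact this 5
    · exact Cfsg.Agent.S1018.part1 7 P hP (z ^ 5) hwo

/-- the case of `36` Sylow `7`-subgroups, with `|N(P)| = 70` and `|C(P)| = 35` -/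
theorem case36 [IsSimpleGroup G] (hG2 : 2 < Nat.card G) [Fact (Nat.Prime 7)] (P : Sylow 7 G)
    (hP : Nat.card ↥(P : Subgroup G) = 7)
    (hidx : (Subgroup.normalizer ((P : Subgroup G) : Set G)).index = 36)
    (hNc : Nat.card ↥(Subgroup.normalizer ((P : Subgroup G) : Set G)) = 70)
    (hCc : Nat.card ↥(Subgroup.centralizer ((P : Subgroup G) : Set G)) = 35) : False := by
  classical
  have hsemi := eq_base_of_fixed P hP hidx hCc
  set N := Subgroup.normalizer ((P : Subgroup G) : Set G) with hN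
  set C := Subgroup.centralizer ((P : Subgroup G) : Set G) with hC
  have hCN : C ≤ N := Subgroup.centralizer_le_normalizer _
  set o : G ⧸ N := ((1 : G) : G ⧸ N) with ho
  have hoN : ∀ y ∈ N, y • o = o := by
    intro y hy
    rw [ho, Cfsg.Agent.S1018.smul_mk_eq_iff]
    simpa using hy
  -- an involution of `N`, not in `C`
  obtain ⟨t, htN, ht⟩ := Cfsg.Agent.Lib.Helper19.Ord4032.exists_invol_mem N (by rw [hNc]; norm_num)
  have htC : t ∉ C := by
    intro h
    have := Subgroup.orderOf_dvd_natCard _ h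
    rw [ht, hCc] at this
    norm_num at this
  have htt : t * t = 1 := mul_self_of_orderOf_two ht
  have ht2 : t ^ 2 = 1 := by rw [pow_two]; exact htt
  have htinv : t⁻¹ = t := inv_eq_of_mul_eq_one_left htt
  have hinv := Cfsg.Agent.Lib.Helper24.Ord4320.invol_inverts (P : Subgroup G) hP t htt htN htC
  have hb := invert_fix_bound P hP t htt hinv
  obtain ⟨s, hs4, hs⟩ := four_dvd_moved hG2 N t ht2
  rw [← hN, hidx] at hb
  rw [hidx] at hs
  have hto : t • o = o := hoN t htN
  have hpos : 0 < Nat.card (fixedBy (G ⧸ N) t) := by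
    rw [Nat.card_pos_iff]
    exact ⟨⟨⟨o, hto⟩⟩, inferInstance⟩
  have hf : Nat.card (fixedBy (G ⧸ N) t) = 4 := by omega
  -- a second fixed coset
  obtain ⟨g, hgN, hgt⟩ := exists_fixed_ne N t (by rw [hf]; norm_num)
  set x0 : G ⧸ N := (g : G ⧸ N) with hx0
  have htx0 : t • x0 = x0 := by
    rw [hx0, Cfsg.Agent.S1018.smul_mk_eq_iff]; exact hgt
  have hx0o : x0 ≠ o := by
    intro h
    apply hgN
    rw [hx0, ho, QuotientGroup.eq] at h
    have := N.inv_mem h
    simpa using this
  -- `C` acts semiregularly off the base coset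
  have hsemi' : ∀ z ∈ C, ∀ a : G ⧸ N, a ≠ o → z • a = a → z = 1 := by
    intro z hz a hao hza
    by_contra hz1
    exact hao (hsemi z hz hz1 a hza)
  have hne_o : ∀ z ∈ C, z • x0 ≠ o := by
    intro z hz h
    apply hx0o
    calc x0 = z⁻¹ • (z • x0) := by rw [inv_smul_smul]
      _ = z⁻¹ • o := by rw [h]
      _ = o := hoN _ (N.inv_mem (hCN hz))
  have hinj0 : ∀ z1 ∈ C, ∀ z2 ∈ C, z1 • x0 = z2 • x0 → z1 = z2 := by
    intro z1 hz1 z2 hz2 h
    have h1 : (z2⁻¹ * z1) • x0 = x0 := by rw [mul_smul, h, inv_smul_smul]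
    have h2 := hsemi' (z2⁻¹ * z1) (C.mul_mem (C.inv_mem hz2) hz1) x0 hx0o h1
    calc z1 = z2 * (z2⁻¹ * z1) := by group
      _ = z2 := by rw [h2, mul_one]
  -- `C` is transitive off the base coset
  have hcompl : Nat.card {a : G ⧸ N // a ∉ ({o} : Set (G ⧸ N))} + 1 = N.index := by
    have h1 : Nat.card {a : G ⧸ N // a ∉ ({o} : Set (G ⧸ N))} = Nat.card ↥(({o} : Set (G ⧸ N))ᶜ) := rfl
    rw [h1, Nat.card_coe_set_eq, Set.ncard_compl, Set.ncard_singleton, Subgroup.index]
    have : 0 < Nat.card (G ⧸ N) := Nat.card_pos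
    omega
  have hinj : Function.Injective
      (fun z : ↥C => (⟨(z : G) • x0, by
        intro h
        rw [Set.mem_singleton_iff] at h
        exact hne_o z z.2 h⟩ : {a : G ⧸ N // a ∉ ({o} : Set (G ⧸ N))})) := by
    intro z1 z2 h
    have h' : (z1 : G) • x0 = (z2 : G) • x0 := congrArg Subtype.val h
    exact Subtype.ext (hinj0 z1 z1.2 z2 z2.2 h')
  have hbij := hinj.bijective_of_nat_card_le (by rw [hCc]; omega)
  have hsurj : ∀ a : G ⧸ N, a ≠ o → ∃ z ∈ C, z • x0 = a := by
    intro a hao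
    obtain ⟨z, hz⟩ := hbij.2 ⟨a, by
      intro h
      rw [Set.mem_singleton_iff] at h
      exact hao h⟩
    exact ⟨z, z.2, congrArg Subtype.val hz⟩
  -- the fixed cosets of `t` other than the base coset correspond to `C_C(t)`
  set D : Subgroup G := C ⊓ Subgroup.centralizer ({t} : Set G) with hD
  set F' : Set (G ⧸ N) := fixedBy (G ⧸ N) t \ {o} with hF'
  have hF'card : Nat.card ↥F' + 1 = Nat.card (fixedBy (G ⧸ N) t) := by
    rw [Nat.card_coe_set_eq, hF', Set.ncard_sdiff_singleton_of_mem, ← Nat.card_coe_set_eq]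
    · omega
    · rw [mem_fixedBy]
      exact hto
  have hDF : ∀ d ∈ D, d • x0 ∈ F' := by
    intro d hd
    obtain ⟨hdC, hdt⟩ := Subgroup.mem_inf.mp hd
    rw [Subgroup.mem_centralizer_singleton_iff] at hdt
    refine ⟨?_, ?_⟩
    · rw [mem_fixedBy, smul_smul, ← hdt, ← smul_smul, htx0]
    · intro h
      rw [Set.mem_singleton_iff] at h
      exact hne_o d hdC h
  have hinjD : Function.Injective (fun d : ↥D => (⟨(d : G) • x0, hDF d d.2⟩ : ↥F')) := by
    intro d1 d2 h
    have h' : (d1 : G) • x0 = (d2 : G) • x0 := congrArg Subtype.val h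
    exact Subtype.ext (hinj0 d1 (Subgroup.mem_inf.mp d1.2).1 d2 (Subgroup.mem_inf.mp d2.2).1 h')
  have hsurjD : Function.Surjective (fun d : ↥D => (⟨(d : G) • x0, hDF d d.2⟩ : ↥F')) := by
    rintro ⟨a, haF, hao⟩
    rw [Set.mem_singleton_iff] at hao
    rw [mem_fixedBy] at haF
    obtain ⟨z, hzC, hza⟩ := hsurj a hao
    have hcC : z⁻¹ * (t * z * t⁻¹) ∈ C :=
      C.mul_mem (C.inv_mem hzC) (conj_mem_centralizer_of_mem_normalizer (P : Subgroup G) htN hzC)
    have hcx : (z⁻¹ * (t * z * t⁻¹)) • x0 = x0 := by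
      rw [mul_smul, mul_smul, mul_smul, htinv, htx0, hza, haF, ← hza, inv_smul_smul]
    have hc1 := hsemi' _ hcC x0 hx0o hcx
    have hzt : t * z = z * t := by
      have e : t * z * t⁻¹ = z := by
        calc t * z * t⁻¹ = z * (z⁻¹ * (t * z * t⁻¹)) := by group
          _ = z := by rw [hc1, mul_one]
      calc t * z = t * z * t⁻¹ * t := by group
        _ = z * t := by rw [e]
    have hzD : z ∈ D := by
      refine Subgroup.mem_inf.mpr ⟨hzC, ?_⟩
      rw [Subgroup.mem_centralizer_singleton_iff]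
      exact hzt.symm
    exact ⟨⟨z, hzD⟩, Subtype.ext hza⟩
  have hDcard : Nat.card ↥D = Nat.card ↥F' :=
    Nat.card_congr (Equiv.ofBijective _ ⟨hinjD, hsurjD⟩)
  have hD3 : Nat.card ↥D = 3 := by omega
  have hdvd : Nat.card ↥D ∣ Nat.card ↥C := Subgroup.card_dvd_of_le inf_le_left
  rw [hD3, hCc] at hdvd
  norm_num at hdvd

set_option maxRecDepth 100000 in
theorem arith360 : ∀ n < 361, 360 % n = 0 → n % 7 = 1 →
    n = 1 ∨ n = 8 ∨ n = 15 ∨ n = 36 ∨ n = 120 := by
  decide

/-- **Sylow `7`-data of a simple group of order `2520`** -/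
theorem sylow_seven_data [IsSimpleGroup G] (hG : Nat.card G = 2520) [Fact (Nat.Prime 7)]
    (P : Sylow 7 G) :
    Nat.card ↥(P : Subgroup G) = 7 ∧
    Nat.card ↥(Subgroup.normalizer ((P : Subgroup G) : Set G)) = 21 ∧
    Nat.card ↥(Subgroup.centralizer ((P : Subgroup G) : Set G)) = 7 ∧
    (Subgroup.centralizer ((P : Subgroup G) : Set G)).relIndex
      (Subgroup.normalizer ((P : Subgroup G) : Set G)) = 3 := by
  have hnc : ¬ IsMulCommutative G :=
    Cfsg.Agent.Lib.Helper7.not_comm_of_card_not_prime (by rw [hG]; norm_num)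
  have hG2 : 2 < Nat.card G := by rw [hG]; norm_num
  have hG' : Nat.card G = 7 * 360 := by rw [hG]
  obtain ⟨hP, n, k, c, r, -, hNc, hCc, hrel, hnk, hcr, hmod, hn1, hr6, hr1, hidx, -⟩ :=
    sylow_prime_data hnc hG' (by norm_num) P
  have hn360 : n ∣ 360 := ⟨k, hnk.symm⟩
  have hnle : n < 361 := by
    have := Nat.le_of_dvd (by norm_num) hn360
    omega
  have hr' : r = 2 ∨ r = 3 ∨ r = 6 := by
    have hr7 : r ∣ 6 := hr6
    have hle := Nat.le_of_dvd (by norm_num) hr7
    have hr0 : 0 < r := Nat.pos_of_dvd_of_pos hr7 (by norm_num)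
    clear hrel hcr hr6
    interval_cases r <;> omega
  rcases arith360 n hnle (Nat.mod_eq_zero_of_dvd hn360) hmod with rfl | rfl | rfl | rfl | rfl
  · exact absurd rfl hn1
  · -- `n = 8`
    exfalso
    have hk : k = 45 := by omega
    subst hk
    apply case8 P hP hidx
    rw [hCc]
    rcases hr' with rfl | rfl | rfl
    · omega
    · have : c = 15 := by omega
      subst this; norm_num
    · omega
  · -- `n = 15`
    exfalso
    have hk : k = 24 := by omega
    subst hk
    apply case15 hG2 P hP hidx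
    rw [hCc]
    rcases hr' with rfl | rfl | rfl
    · have : c = 12 := by omega
      subst this; norm_num
    · have : c = 8 := by omega
      subst this; norm_num
    · have : c = 4 := by omega
      subst this; norm_num
  · -- `n = 36`
    exfalso
    have hk : k = 10 := by omega
    subst hk
    rcases hr' with rfl | rfl | rfl
    · have : c = 5 := by omega
      subst this
      exact case36 hG2 P hP hidx hNc hCc
    · omega
    · omega
  · -- `n = 120`
    have hk : k = 3 := by omega
    subst hk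
    rcases hr' with rfl | rfl | rfl
    · omega
    · have : c = 1 := by omega
      subst this
      exact ⟨hP, hNc, hCc, hrel⟩
    · omega

/-- elementwise form: the centralizer of an element of order `7` has order `7` -/
theorem card_centralizer_of_orderOf_seven [IsSimpleGroup G] (hG : Nat.card G = 2520)
    (y : G) (hy : orderOf y = 7) : Nat.card ↥(Subgroup.centralizer ({y} : Set G)) = 7 := by
  haveI : Fact (Nat.Prime 7) := ⟨by norm_num⟩
  have h1 := isPGroup_zpowers_of_orderOf_prime 7 y hy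
  obtain ⟨P, hPy⟩ := h1.exists_le_sylow
  obtain ⟨hP, -, hC, -⟩ := sylow_seven_data hG P
  have hy1 : y ≠ 1 := by
    rintro rfl
    rw [orderOf_one] at hy
    omega
  obtain ⟨-, hCeq, -, -⟩ := Cfsg.Agent.Lib.Helper1.A7Loc.normalizer_data_of_prime 7 P hP y
    (hPy (Subgroup.mem_zpowers y)) hy1
  rw [← hCeq]
  exact hC

/-- elementwise form: the normalizer of the subgroup generated by an element of order `7` has
order `21` -/
theorem card_normalizer_of_orderOf_seven [IsSimpleGroup G] (hG : Nat.card G = 2520)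
    (y : G) (hy : orderOf y = 7) :
    Nat.card ↥(Subgroup.normalizer ((Subgroup.zpowers y : Subgroup G) : Set G)) = 21 := by
  haveI : Fact (Nat.Prime 7) := ⟨by norm_num⟩
  have h1 := isPGroup_zpowers_of_orderOf_prime 7 y hy
  obtain ⟨P, hPy⟩ := h1.exists_le_sylow
  obtain ⟨hP, hN, -, -⟩ := sylow_seven_data hG P
  have hy1 : y ≠ 1 := by
    rintro rfl
    rw [orderOf_one] at hy
    omega
  obtain ⟨hPeq, -, -, -⟩ := Cfsg.Agent.Lib.Helper1.A7Loc.normalizer_data_of_prime 7 P hP y
    (hPy (Subgroup.mem_zpowers y)) hy1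
  rw [← hPeq]
  exact hN

end Cfsg.Agent.Lib.Helper17.A7Syl
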