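/-
Helper lemmas (helper17): chains of Sylow subgroups linked over a common subgroup `D` through
members of a family `𝓗` (the relation behind `Cfsg.ControlsSylowIntersections`).
-/
import Cfsg.Agent.Lib.Helper17.AG1

set_option autoImplicit false
open scoped Pointwise

namespace Cfsg.Agent.Lib.Helper17

variable {G : Type*} [Group G] {p : ℕ}

/-- One step of a chain over `D`: `T = x • S` with `x` in a member `X` of the family in which
both `S` and `T` meet in Sylow subgroups, `D ≤ S, T, X`. -/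
def Step (p : ℕ) (𝓗 : Set (Subgroup G)) (D : Subgroup G) (S T : Sylow p G) : Prop :=
  ∃ X x, X ∈ Cfsg.sylowMembers p 𝓗 (S : Subgroup G) ∧ X ∈ Cfsg.sylowMembers p 𝓗 (T : Subgroup G) ∧
    x ∈ X ∧ T = x • S ∧ D ≤ (S : Subgroup G) ∧ D ≤ (T : Subgroup G) ∧ D ≤ X

/-- Sylow subgroups linked over `D` by a chain. -/
def Link (p : ℕ) (𝓗 : Set (Subgroup G)) (D : Subgroup G) (S T : Sylow p G) : Prop :=
  Relation.ReflTransGen (Step p 𝓗 D) S T

theorem Step.symm {𝓗 : Set (Subgroup G)} {D : Subgroup G} {S T : Sylow p G}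
    (h : Step p 𝓗 D S T) : Step p 𝓗 D T S := by
  obtain ⟨X, x, hXS, hXT, hx, hT, hDS, hDT, hDX⟩ := h
  refine ⟨X, x⁻¹, hXT, hXS, X.inv_mem hx, ?_, hDT, hDS, hDX⟩
  rw [hT, inv_smul_smul]

theorem Step.mono {𝓗 : Set (Subgroup G)} {D D' : Subgroup G} (hD : D' ≤ D) {S T : Sylow p G}
    (h : Step p 𝓗 D S T) : Step p 𝓗 D' S T := by
  obtain ⟨X, x, hXS, hXT, hx, hT, hDS, hDT, hDX⟩ := h
  exact ⟨X, x, hXS, hXT, hx, hT, hD.trans hDS, hD.trans hDT, hD.trans hDX⟩

namespace Link

variable {𝓗 : Set (Subgroup G)} {D : Subgroup G} {S T U : Sylow p G}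

theorem refl (S : Sylow p G) : Link p 𝓗 D S S := Relation.ReflTransGen.refl

theorem trans (h1 : Link p 𝓗 D S T) (h2 : Link p 𝓗 D T U) : Link p 𝓗 D S U :=
  Relation.ReflTransGen.trans h1 h2

theorem symm (h : Link p 𝓗 D S T) : Link p 𝓗 D T S := by
  unfold Link at h ⊢
  induction h with
  | refl => exact Relation.ReflTransGen.refl
  | tail _ hbc ih => exact Relation.ReflTransGen.head hbc.symm ih

theorem mono {D' : Subgroup G} (hD : D' ≤ D) (h : Link p 𝓗 D S T) : Link p 𝓗 D' S T := by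
  unfold Link at h ⊢
  induction h with
  | refl => exact Relation.ReflTransGen.refl
  | tail _ hbc ih => exact ih.tail (hbc.mono hD)

theorem of_step (h : Step p 𝓗 D S T) : Link p 𝓗 D S T := Relation.ReflTransGen.single h

/-- A link unfolds to a chain in the format of `Cfsg.ControlsSylowIntersections`. -/
theorem exists_chain (h : Link p 𝓗 D S T) :
    ∃ (n : ℕ) (c : Fin (n + 1) → Sylow p G) (X : Fin n → Subgroup G) (x : Fin n → G),
      c 0 = S ∧ c (Fin.last n) = T ∧
      ∀ i : Fin n,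
        X i ∈ Cfsg.sylowMembers p 𝓗 (c i.castSucc : Subgroup G) ∧
        X i ∈ Cfsg.sylowMembers p 𝓗 (c i.succ : Subgroup G) ∧
        x i ∈ X i ∧
        Cfsg.subgroupConjRight (x i) (c i.succ : Subgroup G) = (c i.castSucc : Subgroup G) ∧
        D ≤ (c i.succ : Subgroup G) ⊓ X i := by
  unfold Link at h
  induction h using Relation.ReflTransGen.head_induction_on with
  | refl => exact ⟨0, fun _ => T, fun i => i.elim0, fun i => i.elim0, rfl, rfl, fun i => i.elim0⟩
  | @head a b hab _ ih =>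
    obtain ⟨n, c, X, x, h0, hl, hc⟩ := ih
    obtain ⟨X₀, x₀, hXa, hXb, hx₀, hb, hDa, hDb, hDX⟩ := hab
    refine ⟨n + 1, Fin.cons a c, Fin.cons X₀ X, Fin.cons x₀ x, rfl, ?_, ?_⟩
    · rw [← Fin.succ_last, Fin.cons_succ]; exact hl
    · intro i
      refine Fin.cases ?_ (fun j => ?_) i
      · rw [Fin.castSucc_zero, Fin.cons_zero, Fin.cons_succ, Fin.cons_zero, Fin.cons_zero, h0]
        refine ⟨hXa, hXb, hx₀, ?_, le_inf hDb hDX⟩
        rw [hb]
        exact subgroupConjRight_smul_sylow x₀ a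
      · rw [← Fin.succ_castSucc, Fin.cons_succ, Fin.cons_succ, Fin.cons_succ, Fin.cons_succ]
        exact hc j

end Link

/-- If any two distinct Sylow subgroups with nontrivial intersection are linked over their
intersection, the family controls Sylow intersections. -/
theorem controls_of_link {𝓗 : Set (Subgroup G)}
    (h : ∀ S T : Sylow p G, S ≠ T → (S : Subgroup G) ⊓ (T : Subgroup G) ≠ ⊥ →
      Link p 𝓗 ((S : Subgroup G) ⊓ (T : Subgroup G)) S T) :
    Cfsg.ControlsSylowIntersections p 𝓗 := by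
  intro S T hST hI
  exact (h S T hST hI).exists_chain

/-- Conversely a chain gives a link, provided `D ≤ S`. -/
theorem link_of_chain {𝓗 : Set (Subgroup G)} {D : Subgroup G} {S T : Sylow p G}
    (hDS : D ≤ (S : Subgroup G))
    (h : ∃ (n : ℕ) (c : Fin (n + 1) → Sylow p G) (X : Fin n → Subgroup G) (x : Fin n → G),
      c 0 = S ∧ c (Fin.last n) = T ∧
      ∀ i : Fin n,
        X i ∈ Cfsg.sylowMembers p 𝓗 (c i.castSucc : Subgroup G) ∧
        X i ∈ Cfsg.sylowMembers p 𝓗 (c i.succ : Subgroup G) ∧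
        x i ∈ X i ∧
        Cfsg.subgroupConjRight (x i) (c i.succ : Subgroup G) = (c i.castSucc : Subgroup G) ∧
        D ≤ (c i.succ : Subgroup G) ⊓ X i) : Link p 𝓗 D S T := by
  obtain ⟨n, c, X, x, h0, hl, hc⟩ := h
  have key : ∀ i : Fin (n + 1), D ≤ (c i : Subgroup G) ∧ Link p 𝓗 D S (c i) := by
    intro i
    induction i using Fin.induction with
    | zero => rw [h0]; exact ⟨hDS, Link.refl S⟩
    | succ j ih =>
      obtain ⟨hX1, hX2, hx, hconj, hD⟩ := hc j
      refine ⟨hD.trans inf_le_left, ih.2.trans (Link.of_step ?_)⟩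
      refine ⟨X j, x j, hX1, hX2, hx, ?_, ih.1, hD.trans inf_le_left, hD.trans inf_le_right⟩
      -- `c j.succ = x j • c j.castSucc`
      apply Sylow.ext
      ext z
      rw [mem_sylow_smul_iff, ← hconj, mem_subgroupConjRight_iff]
      constructor
      · intro hz
        have : x j * ((x j)⁻¹ * z * x j) * (x j)⁻¹ = z := by group
        rw [this]; exact hz
      · intro hz
        have : z = x j * ((x j)⁻¹ * z * x j) * (x j)⁻¹ := by group
        rw [this]; exact hz
  rw [← hl]; exact (key _).2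

end Cfsg.Agent.Lib.Helper17
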