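/-
Helper lemmas (helper17): `p`-local subgroups, the order of a Sylow subgroup of a subgroup, and the
family `𝓕 ∪ 𝓕'` of the Alperin–Gorenstein theorem on normalizer functors.
-/
import Cfsg.Agent.Lib.Helper17.AG2

set_option autoImplicit false
open scoped Pointwise

namespace Cfsg.Agent.Lib.Helper17

variable {G : Type*} [Group G]

/-- The exponent of `p` in the order of `H`. -/
noncomputable def vp (p : ℕ) (H : Subgroup G) : ℕ := (Nat.card H).factorization p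

theorem vp_mono [Finite G] {p : ℕ} {H K : Subgroup G} (h : H ≤ K) : vp p H ≤ vp p K := by
  unfold vp
  have hd : Nat.card H ∣ Nat.card K := Subgroup.card_dvd_of_le h
  exact (Nat.factorization_le_iff_dvd Nat.card_pos.ne' Nat.card_pos.ne').2 hd p

theorem vp_lt_of_card_lt [Finite G] {p : ℕ} [Fact p.Prime] {Q H K : Subgroup G}
    (hQ : IsPGroup p Q) (hQK : Q ≤ K) (hlt : p ^ vp p H < Nat.card Q) : vp p H < vp p K := by
  have h1 : Nat.card Q ≤ p ^ vp p K := card_le_of_isPGroup hQ hQK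
  have hp : 1 < p := (Fact.out : p.Prime).one_lt
  exact (Nat.pow_lt_pow_iff_right hp).1 (lt_of_lt_of_le hlt h1)

/-- Every `p`-local subgroup lies in a maximal one. -/
theorem exists_maximalPLocal_ge [Finite G] {p : ℕ} {N : Subgroup G} (hN : Cfsg.IsPLocal p N) :
    ∃ M, Cfsg.IsMaximalPLocal p M ∧ N ≤ M := by
  obtain ⟨M, hM, hmax⟩ := Set.exists_max_image {M : Subgroup G | Cfsg.IsPLocal p M ∧ N ≤ M}
    (fun M => Nat.card M) (Set.toFinite _) ⟨N, hN, le_rfl⟩
  refine ⟨M, ⟨hM.1, ?_⟩, hM.2⟩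
  intro N' hN' hMN'
  have := hmax N' ⟨hN', hM.2.trans hMN'⟩
  exact (Subgroup.eq_of_le_of_card_ge hMN' this).symm

/-- A `p`-subgroup that is not a Sylow subgroup is properly contained in a `p`-subgroup of its
normalizer. -/
theorem exists_larger_pgroup_in_normalizer [Finite G] {p : ℕ} [Fact p.Prime] {P₀ : Subgroup G}
    (hP : IsPGroup p P₀) (S : Sylow p G) (hPS : P₀ ≤ (S : Subgroup G))
    (hne : P₀ ≠ (S : Subgroup G)) :
    P₀ ≤ Subgroup.normalizer (P₀ : Set G) ⊓ (S : Subgroup G) ∧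
      Nat.card P₀ < Nat.card ↥(Subgroup.normalizer (P₀ : Set G) ⊓ (S : Subgroup G)) := by
  have hle : P₀ ≤ Subgroup.normalizer (P₀ : Set G) ⊓ (S : Subgroup G) :=
    le_inf Subgroup.le_normalizer hPS
  refine ⟨hle, ?_⟩
  by_contra hnot
  push Not at hnot
  have h1 : P₀ = Subgroup.normalizer (P₀ : Set G) ⊓ (S : Subgroup G) :=
    Subgroup.eq_of_le_of_card_ge hle hnot
  exact hne (eq_of_normalizer_inf_le P₀ (S : Subgroup G) S.isPGroup' hPS (le_of_eq h1.symm))

/-- The family `𝓕 ∪ 𝓕'`. -/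
def agFamily (p : ℕ) (f : Subgroup G → Set (Subgroup G)) : Set (Subgroup G) :=
  Cfsg.functorFamily p f ⊤ ∪
    {M | Cfsg.IsMaximalPLocal p M ∧ ¬ Cfsg.IsFunctorRegular p f M}

theorem normalizer_mem_functorFamily_top {p : ℕ} (f : Subgroup G → Set (Subgroup G))
    (S : Sylow p G) {F : Subgroup G} (hF : F ∈ f (S : Subgroup G)) :
    Subgroup.normalizer (F : Set G) ∈ Cfsg.functorFamily p f ⊤ := by
  refine ⟨S.subtype le_top, F, ?_, by rw [top_inf_eq]⟩
  rw [Sylow.coe_subtype, Subgroup.map_subgroupOf_eq_of_le le_top]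
  exact hF

theorem smul_inf_eq {p : ℕ} (U : Sylow p G) {M : Subgroup G} {y : G} (hy : y ∈ M) :
    ((y • U : Sylow p G) : Subgroup G) ⊓ M =
      ((U : Subgroup G) ⊓ M).map (MulAut.conj y).toMonoidHom := by
  rw [coe_smul_eq_map]
  ext z
  constructor
  · rintro ⟨⟨u, hu, rfl⟩, hzM⟩
    refine ⟨u, ⟨hu, ?_⟩, rfl⟩
    have h1 : u = y⁻¹ * ((MulAut.conj y).toMonoidHom u) * y := by simp [mul_assoc]
    rw [h1]
    exact M.mul_mem (M.mul_mem (M.inv_mem hy) hzM) hy
  · rintro ⟨u, ⟨hu, huM⟩, rfl⟩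
    refine ⟨⟨u, hu, rfl⟩, ?_⟩
    show y * u * y⁻¹ ∈ M
    exact M.mul_mem (M.mul_mem hy huM) (M.inv_mem hy)

/-- In a group `Γ`, if `X` contains a Sylow `p`-subgroup of `Γ` and `c ∩ X` is a Sylow subgroup
of `X` for a Sylow subgroup `c` of `Γ`, then `c ≤ X`. -/
theorem le_of_isSylIn_inf {Γ : Type*} [Group Γ] [Finite Γ] {p : ℕ} [Fact p.Prime]
    (c P' : Sylow p Γ) (X : Subgroup Γ) (hP'X : (P' : Subgroup Γ) ≤ X)
    (h : IsSylIn p ((c : Subgroup Γ) ⊓ X) X) : (c : Subgroup Γ) ≤ X := by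
  have h1 := h.card
  have h2 : Nat.card (P' : Subgroup Γ) ≤ p ^ (Nat.card X).factorization p :=
    card_le_of_isPGroup P'.isPGroup' hP'X
  have h3 : Nat.card (P' : Subgroup Γ) = Nat.card (c : Subgroup Γ) := by
    rw [P'.card_eq_multiplicity, c.card_eq_multiplicity]
  have h4 : (c : Subgroup Γ) ⊓ X = (c : Subgroup Γ) :=
    Subgroup.eq_of_le_of_card_ge inf_le_left (by rw [h1, ← h3]; exact h2)
  rw [← h4]; exact inf_le_right

end Cfsg.Agent.Lib.Helper17
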