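/-
Helper lemmas (helper17): the Alperin–Gorenstein theorem on normalizer functors: `𝓕 ∪ 𝓕'` controls
Sylow intersections.  Part 1: one conjugation step through the normalizer of a member `F ∈ f(P₀)`.
-/
import Cfsg.Agent.Lib.Helper17.AG3

set_option autoImplicit false
open scoped Pointwise

namespace Cfsg.Agent.Lib.Helper17

variable {G : Type*} [Group G] [Finite G] {p : ℕ} [Fact p.Prime]

theorem vp_top_card (p : ℕ) : p ^ vp p (⊤ : Subgroup G) = p ^ (Nat.card G).factorization p := by
  unfold vp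
  rw [Subgroup.card_top]

/-- Conjugation step: `V` and `y • V` are linked over `D` when `y` normalizes a member `F` of
`f(P₀)`, `P₀` a Sylow subgroup of `M`, and `V` contains a Sylow subgroup `r` of `M` normalizing
`F`, with `D ≤ r ∩ r^y`. -/
theorem link_smul_of_functor
    (f : Subgroup G → Set (Subgroup G)) (hf : Cfsg.IsNormalizerFunctor p f)
    (hf1 : ∀ P : Subgroup G, IsPGroup p ↥P → P ≠ ⊥ → ∀ F ∈ f P, F ≠ ⊥)
    (D : Subgroup G)
    (OIH : ∀ D' : Subgroup G, IsPGroup p D' → Nat.card D < Nat.card D' → D ≤ D' →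
      ∀ S T : Sylow p G, D' ≤ (S : Subgroup G) → D' ≤ (T : Subgroup G) →
        Link p (agFamily p f) D S T)
    (M : Subgroup G)
    (IIH : ∀ M'' : Subgroup G, Cfsg.IsMaximalPLocal p M'' → vp p M < vp p M'' →
      ∀ U : Sylow p G, IsSylIn p ((U : Subgroup G) ⊓ M'') M'' → ∀ y ∈ M'',
        D ≤ (U : Subgroup G) ⊓ M'' → D ≤ ((y • U : Sylow p G) : Subgroup G) ⊓ M'' →
        Link p (agFamily p f) D U (y • U))
    (hDM : Nat.card D < p ^ vp p M)
    (P₀ : Subgroup G) (hP₀ : IsSylIn p P₀ M) (F : Subgroup G) (hF : F ∈ f P₀)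
    (V : Sylow p G) (r : Subgroup G) (hr : IsSylIn p r M) (hrV : r ≤ (V : Subgroup G))
    (hrF : r ≤ Subgroup.normalizer (F : Set G))
    (y : G) (hyF : y ∈ Subgroup.normalizer (F : Set G)) (hDr : D ≤ r)
    (hDry : D ≤ r.map (MulAut.conj y).toMonoidHom) :
    Link p (agFamily p f) D V (y • V) := by
  have hp : p.Prime := Fact.out
  have hP₀p := hP₀.isPGroup
  have hP₀card : Nat.card P₀ = p ^ vp p M := hP₀.card
  have hrcard : Nat.card r = p ^ vp p M := hr.card
  have hP₀ne : P₀ ≠ ⊥ := by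
    intro h
    rw [h, Subgroup.card_bot] at hP₀card
    rw [← hP₀card] at hDM
    have := Nat.card_pos (α := D)
    omega
  obtain ⟨hFle, hFn⟩ := (hf P₀ hP₀p).1 F hF
  have hFne := hf1 P₀ hP₀p hP₀ne F hF
  have hFp : IsPGroup p F := hP₀p.to_le hFle
  have hry : r.map (MulAut.conj y).toMonoidHom ≤ ((y • V : Sylow p G) : Subgroup G) := by
    rw [coe_smul_eq_map]; exact Subgroup.map_mono hrV
  have hDV : D ≤ (V : Subgroup G) := hDr.trans hrV
  have hDyV : D ≤ ((y • V : Sylow p G) : Subgroup G) := hDry.trans hry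
  by_cases hcase : vp p M = vp p (⊤ : Subgroup G)
  · -- `M` contains a Sylow subgroup of `G`
    have hVcard : Nat.card (V : Subgroup G) = p ^ vp p (⊤ : Subgroup G) := by
      rw [vp_top_card]; exact V.card_eq_multiplicity
    have hrV' : r = (V : Subgroup G) :=
      Subgroup.eq_of_le_of_card_ge hrV (by rw [hrcard, hVcard, hcase])
    have hP₀card' : Nat.card P₀ = p ^ (Nat.card G).factorization p := by
      rw [hP₀card, hcase, vp_top_card]
    let S₀ : Sylow p G := Sylow.ofCard P₀ hP₀card'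
    have hLmem : Subgroup.normalizer (F : Set G) ∈ agFamily p f :=
      Or.inl (normalizer_mem_functorFamily_top f S₀ hF)
    have hVL : (V : Subgroup G) ≤ Subgroup.normalizer (F : Set G) := by rw [← hrV']; exact hrF
    have hyVL : ((y • V : Sylow p G) : Subgroup G) ≤ Subgroup.normalizer (F : Set G) := by
      rw [coe_smul_eq_map]
      rintro _ ⟨v, hv, rfl⟩
      exact Subgroup.mul_mem _ (Subgroup.mul_mem _ hyF (hVL hv)) (Subgroup.inv_mem _ hyF)
    apply Link.of_step
    refine ⟨Subgroup.normalizer (F : Set G), y, ⟨hLmem, ?_⟩, ⟨hLmem, ?_⟩, hyF, rfl, hDV, hDyV,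
      hDr.trans hrF⟩
    · rw [inf_eq_left.2 hVL]; exact isSylIn_sylow V hVL
    · rw [inf_eq_left.2 hyVL]; exact isSylIn_sylow (y • V) hyVL
  · -- `P₀` is not a Sylow subgroup of `G`
    have hlt : vp p M < vp p (⊤ : Subgroup G) := lt_of_le_of_ne (vp_mono le_top) hcase
    obtain ⟨S', hS'⟩ := IsPGroup.exists_le_sylow hP₀p
    have hne : P₀ ≠ (S' : Subgroup G) := by
      intro h
      have h1 : Nat.card (S' : Subgroup G) = p ^ vp p (⊤ : Subgroup G) := by
        rw [vp_top_card]; exact S'.card_eq_multiplicity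
      rw [← h, hP₀card] at h1
      exact hcase (Nat.pow_right_injective hp.two_le h1)
    obtain ⟨-, hcardlt⟩ := exists_larger_pgroup_in_normalizer hP₀p S' hS' hne
    have hP₁p : IsPGroup p ↥(Subgroup.normalizer (P₀ : Set G) ⊓ (S' : Subgroup G)) :=
      S'.isPGroup'.to_le inf_le_right
    have hP₁L : Subgroup.normalizer (P₀ : Set G) ⊓ (S' : Subgroup G) ≤
        Subgroup.normalizer (F : Set G) := inf_le_left.trans hFn
    have hLloc : Cfsg.IsPLocal p (Subgroup.normalizer (F : Set G)) := ⟨F, hFp, hFne, rfl⟩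
    obtain ⟨M'', hM''max, hLM''⟩ := exists_maximalPLocal_ge hLloc
    have hvp : vp p M < vp p M'' :=
      vp_lt_of_card_lt hP₁p (hP₁L.trans hLM'') (by rw [← hP₀card]; exact hcardlt)
    have hrM'' : r ≤ M'' := hrF.trans hLM''
    have hyM'' : y ∈ M'' := hLM'' hyF
    obtain ⟨R'', hR'', hVR''⟩ := exists_isSylIn_ge (Q := (V : Subgroup G) ⊓ M'')
      (V.isPGroup'.to_le inf_le_left) inf_le_right
    obtain ⟨c', hc'⟩ := IsPGroup.exists_le_sylow hR''.isPGroup
    have hc'M : (c' : Subgroup G) ⊓ M'' = R'' := hR''.inf_eq c' hc'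
    have hrR'' : r ≤ R'' := (le_inf hrV hrM'').trans hVR''
    have hrp : IsPGroup p r := hr.isPGroup
    have h1 : Link p (agFamily p f) D V c' :=
      OIH r hrp (by rw [hrcard]; exact hDM) hDr V c' hrV (hrR''.trans hc')
    have hryp : IsPGroup p (r.map (MulAut.conj y).toMonoidHom) := hrp.map _
    have hrycard : Nat.card (r.map (MulAut.conj y).toMonoidHom) = Nat.card r :=
      Subgroup.card_map_of_injective (MulAut.conj y).injective
    have h2 : Link p (agFamily p f) D (y • V) (y • c') :=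
      OIH _ hryp (by rw [hrycard, hrcard]; exact hDM) hDry (y • V) (y • c') hry
        (by rw [coe_smul_eq_map]; exact Subgroup.map_mono (hrR''.trans hc'))
    have h3 : Link p (agFamily p f) D c' (y • c') :=
      IIH M'' hM''max hvp c' (by rw [hc'M]; exact hR'') y hyM''
        (by rw [hc'M]; exact hDr.trans hrR'')
        (by rw [smul_inf_eq c' hyM'', hc'M]; exact hDry.trans (Subgroup.map_mono hrR''))
    exact h1.trans (h3.trans h2.symm)

end Cfsg.Agent.Lib.Helper17
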