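/-
Helper lemmas (helper17): the Alperin–Gorenstein theorem on normalizer functors: `𝓕 ∪ 𝓕'` controls
Sylow intersections.  Part 2: conjugation inside a maximal `p`-local subgroup; the main induction.
-/
import Cfsg.Agent.Lib.Helper17.AG4

set_option autoImplicit false
open scoped Pointwise

namespace Cfsg.Agent.Lib.Helper17

theorem map_subtype_conj {G : Type*} [Group G] (M : Subgroup G) (A : Subgroup ↥M) (m : ↥M) :
    (A.map (MulAut.conj m).toMonoidHom).map M.subtype =
      (A.map M.subtype).map (MulAut.conj (m : G)).toMonoidHom := by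
  rw [Subgroup.map_map, Subgroup.map_map]
  congr 1

theorem map_conj_map_conj_inv {G : Type*} [Group G] (A : Subgroup G) (y : G) :
    (A.map (MulAut.conj y⁻¹).toMonoidHom).map (MulAut.conj y).toMonoidHom = A := by
  rw [Subgroup.map_map]
  have : (MulAut.conj y).toMonoidHom.comp (MulAut.conj y⁻¹).toMonoidHom = MonoidHom.id G := by
    ext z
    simp [mul_assoc]
  rw [this, Subgroup.map_id]

variable {G : Type*} [Group G] [Finite G] {p : ℕ} [Fact p.Prime]

/-- Conjugation inside a maximal `p`-local subgroup `M` whose Sylow subgroups are larger than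
`D`: `U` and `y • U` are linked over `D`. -/
theorem link_smul_of_maximalPLocal
    (f : Subgroup G → Set (Subgroup G)) (hf : Cfsg.IsNormalizerFunctor p f)
    (hf1 : ∀ P : Subgroup G, IsPGroup p ↥P → P ≠ ⊥ → ∀ F ∈ f P, F ≠ ⊥)
    (D : Subgroup G) (hD1 : D ≠ ⊥)
    (OIH : ∀ D' : Subgroup G, IsPGroup p D' → Nat.card D < Nat.card D' → D ≤ D' →
      ∀ S T : Sylow p G, D' ≤ (S : Subgroup G) → D' ≤ (T : Subgroup G) →
        Link p (agFamily p f) D S T) :
    ∀ k : ℕ, ∀ M : Subgroup G, Cfsg.IsMaximalPLocal p M →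
      vp p (⊤ : Subgroup G) - vp p M < k → Nat.card D < p ^ vp p M →
      ∀ U : Sylow p G, IsSylIn p ((U : Subgroup G) ⊓ M) M → ∀ y ∈ M,
        D ≤ (U : Subgroup G) ⊓ M → D ≤ ((y • U : Sylow p G) : Subgroup G) ⊓ M →
        Link p (agFamily p f) D U (y • U) := by
  have hp : p.Prime := Fact.out
  intro k
  induction k with
  | zero => intro M _ h; exact absurd h (Nat.not_lt_zero _)
  | succ k ih =>
    intro M hMmax hk hDM U hUM y hy hDU hDyU
    have IIH : ∀ M'' : Subgroup G, Cfsg.IsMaximalPLocal p M'' → vp p M < vp p M'' →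
        ∀ U : Sylow p G, IsSylIn p ((U : Subgroup G) ⊓ M'') M'' → ∀ y ∈ M'',
          D ≤ (U : Subgroup G) ⊓ M'' → D ≤ ((y • U : Sylow p G) : Subgroup G) ⊓ M'' →
          Link p (agFamily p f) D U (y • U) := by
      intro M'' hM'' hvp
      apply ih M'' hM''
      · have := vp_mono (p := p) (le_top : M'' ≤ ⊤)
        omega
      · exact hDM.trans (Nat.pow_lt_pow_right hp.one_lt hvp)
    by_cases hreg : Cfsg.IsFunctorRegular p f M
    swap
    · -- singular
      have hMmem : M ∈ agFamily p f := Or.inr ⟨hMmax, hreg⟩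
      apply Link.of_step
      refine ⟨M, y, ⟨hMmem, hUM⟩, ⟨hMmem, ?_⟩, hy, rfl, hDU.trans inf_le_left,
        hDyU.trans inf_le_left, hDU.trans inf_le_right⟩
      rw [smul_inf_eq U hy]; exact hUM.conj hy
    · -- regular
      have hRcard : Nat.card ↥((U : Subgroup G) ⊓ M) = p ^ vp p M := hUM.card
      have hRp : IsPGroup p ↥((U : Subgroup G) ⊓ M) := U.isPGroup'.to_le inf_le_left
      obtain ⟨P₁, hP₁⟩ := hUM
      obtain ⟨P₂, hP₂def⟩ : ∃ P₂ : Sylow p ↥M, P₂ = (⟨y, hy⟩ : ↥M) • P₁ := ⟨_, rfl⟩
      have hP₂ : (P₂ : Subgroup ↥M).map M.subtype = ((y • U : Sylow p G) : Subgroup G) ⊓ M := by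
        rw [smul_inf_eq U hy, ← hP₁, hP₂def, coe_smul_eq_map, map_subtype_conj]
      by_cases hPP : P₁ = P₂
      · have hR2 : (U : Subgroup G) ⊓ M = ((y • U : Sylow p G) : Subgroup G) ⊓ M := by
          rw [← hP₁, ← hP₂, ← hPP]
        exact OIH _ hRp (by rw [hRcard]; exact hDM) hDU U (y • U) inf_le_left
          (by rw [hR2]; exact inf_le_left)
      · have hDM' : D ≤ M := hDU.trans inf_le_right
        have hDP₁ : D.subgroupOf M ≤ (P₁ : Subgroup ↥M) := by
          intro d hd
          rw [Subgroup.mem_subgroupOf] at hd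
          have := hDU hd
          rw [← hP₁] at this
          obtain ⟨d', hd', hdd⟩ := this
          have : d' = d := Subtype.ext hdd
          rw [← this]; exact hd'
        have hDP₂ : D.subgroupOf M ≤ (P₂ : Subgroup ↥M) := by
          intro d hd
          rw [Subgroup.mem_subgroupOf] at hd
          have := hDyU hd
          rw [← hP₂] at this
          obtain ⟨d', hd', hdd⟩ := this
          have : d' = d := Subtype.ext hdd
          rw [← this]; exact hd'
        have hI : (P₁ : Subgroup ↥M) ⊓ (P₂ : Subgroup ↥M) ≠ ⊥ := by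
          intro hbot
          have hle : D.subgroupOf M ≤ ⊥ := hbot ▸ le_inf hDP₁ hDP₂
          apply hD1
          rw [eq_bot_iff]
          intro d hd
          have h1 : (⟨d, hDM' hd⟩ : ↥M) ∈ D.subgroupOf M := by
            rw [Subgroup.mem_subgroupOf]; exact hd
          have h2 := hle h1
          rw [Subgroup.mem_bot] at h2 ⊢
          exact congrArg Subtype.val h2
        obtain ⟨n, c, X, x, h0, hl, hc⟩ := hreg P₁ P₂ hPP hI
        have hDall : ∀ i : Fin (n + 1), D.subgroupOf M ≤ (c i : Subgroup ↥M) := by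
          intro i
          refine Fin.cases ?_ (fun j => ?_) i
          · rw [h0]; exact hDP₁
          · exact ((le_inf hDP₁ hDP₂).trans (hc j).2.2.2.2).trans inf_le_left
        have hDmap : ∀ i : Fin (n + 1), D ≤ (c i : Subgroup ↥M).map M.subtype := by
          intro i d hd
          exact ⟨⟨d, hDM' hd⟩, hDall i (by rw [Subgroup.mem_subgroupOf]; exact hd), rfl⟩
        have key : ∀ i : Fin (n + 1), ∀ V : Sylow p G,
            (c i : Subgroup ↥M).map M.subtype ≤ (V : Subgroup G) →
            Link p (agFamily p f) D U V := by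
          intro i
          induction i using Fin.induction with
          | zero =>
            intro V hV
            rw [h0, hP₁] at hV
            exact OIH _ hRp (by rw [hRcard]; exact hDM) hDU U V inf_le_left hV
          | succ j ihj =>
            intro V hV
            obtain ⟨⟨⟨X₀, ⟨P', F, hF, hX₀⟩, hXeq⟩, hS1⟩, -, hxX, hconj, -⟩ := hc j
            have hXj : X j = (M ⊓ Subgroup.normalizer (F : Set G)).subgroupOf M := by
              rw [← hXeq, hX₀]
            have hr' : (c j.succ : Subgroup ↥M).map M.subtype =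
                ((c j.castSucc : Subgroup ↥M).map M.subtype).map
                  (MulAut.conj ((x j : ↥M) : G)).toMonoidHom := by
              rw [← hconj]
              unfold Cfsg.subgroupConjRight
              rw [map_subtype_conj]
              have : (((x j)⁻¹ : ↥M) : G) = ((x j : ↥M) : G)⁻¹ := rfl
              rw [this, map_conj_map_conj_inv]
            have hP'p := P'.isPGroup'
            have hP₀p : IsPGroup p ((P' : Subgroup ↥M).map M.subtype) := hP'p.map _
            obtain ⟨-, hFn⟩ := (hf _ hP₀p).1 F hF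
            have hP'X : (P' : Subgroup ↥M) ≤ X j := by
              rw [hXj]
              intro z hz
              rw [Subgroup.mem_subgroupOf]
              refine ⟨z.2, hFn (Subgroup.le_normalizer ?_)⟩
              exact ⟨z, hz, rfl⟩
            have hcX : (c j.castSucc : Subgroup ↥M) ≤ X j :=
              le_of_isSylIn_inf (c j.castSucc) P' (X j) hP'X hS1
            have hrF : (c j.castSucc : Subgroup ↥M).map M.subtype ≤
                Subgroup.normalizer (F : Set G) := by
              rintro _ ⟨z, hz, rfl⟩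
              have := hcX hz
              rw [hXj, Subgroup.mem_subgroupOf] at this
              exact this.2
            have hyF : ((x j : ↥M) : G) ∈ Subgroup.normalizer (F : Set G) := by
              have := hxX
              rw [hXj, Subgroup.mem_subgroupOf] at this
              exact this.2
            have hrV' : (c j.castSucc : Subgroup ↥M).map M.subtype ≤
                (((((x j : ↥M) : G))⁻¹ • V : Sylow p G) : Subgroup G) := by
              rw [coe_smul_eq_map]
              intro z hz
              have h1 : (MulAut.conj ((x j : ↥M) : G)).toMonoidHom z ∈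
                  (c j.succ : Subgroup ↥M).map M.subtype := by
                rw [hr']; exact ⟨z, hz, rfl⟩
              refine ⟨_, hV h1, ?_⟩
              simp [mul_assoc]
            have h1 := ihj _ hrV'
            have h2 := link_smul_of_functor f hf hf1 D OIH M IIH hDM _ ⟨P', rfl⟩ F hF
              ((((x j : ↥M) : G))⁻¹ • V) _ ⟨c j.castSucc, rfl⟩ hrV' hrF _ hyF (hDmap j.castSucc)
              (by rw [← hr']; exact hDmap j.succ)
            rw [smul_inv_smul] at h2
            exact h1.trans h2
        apply key (Fin.last n) (y • U)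
        rw [hl, hP₂]; exact inf_le_left

/-- Any two Sylow subgroups containing a nontrivial `p`-subgroup `D` are linked over `D`. -/
theorem link_of_le
    (f : Subgroup G → Set (Subgroup G)) (hf : Cfsg.IsNormalizerFunctor p f)
    (hf1 : ∀ P : Subgroup G, IsPGroup p ↥P → P ≠ ⊥ → ∀ F ∈ f P, F ≠ ⊥) :
    ∀ m : ℕ, ∀ D : Subgroup G, D ≠ ⊥ → IsPGroup p D → Nat.card G - Nat.card D < m →
      ∀ S T : Sylow p G, D ≤ (S : Subgroup G) → D ≤ (T : Subgroup G) →
        Link p (agFamily p f) D S T := by
  have hp : p.Prime := Fact.out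
  intro m
  induction m with
  | zero => intro D _ _ h; exact absurd h (Nat.not_lt_zero _)
  | succ m ih =>
    intro D hD1 hDp hm S T hDS hDT
    have OIH : ∀ D' : Subgroup G, IsPGroup p D' → Nat.card D < Nat.card D' → D ≤ D' →
        ∀ S T : Sylow p G, D' ≤ (S : Subgroup G) → D' ≤ (T : Subgroup G) →
          Link p (agFamily p f) D S T := by
      intro D' hD'p hlt hle S T hS hT
      have hD'1 : D' ≠ ⊥ := by
        intro h
        apply hD1
        rw [h] at hle
        exact le_bot_iff.1 hle
      have hcard : Nat.card D' ≤ Nat.card G := Subgroup.card_le_card_group D'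
      exact (ih D' hD'1 hD'p (by omega) S T hS hT).mono hle
    by_cases hDS' : D = (S : Subgroup G)
    · have hST : S = T := by
        apply Sylow.ext
        exact (T.isPGroup'.to_le le_rfl |> fun h => S.is_maximal' h (hDS' ▸ hDT)).symm
      rw [hST]; exact Link.refl T
    have hDT' : D ≠ (T : Subgroup G) := by
      intro h
      apply hDS'
      have h1 : (T : Subgroup G) ≤ (S : Subgroup G) := h ▸ hDS
      have h2 := T.is_maximal' S.isPGroup' h1
      rw [h, h2]
    obtain ⟨hQS, hQScard⟩ := exists_larger_pgroup_in_normalizer hDp S hDS hDS'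
    obtain ⟨hQT, hQTcard⟩ := exists_larger_pgroup_in_normalizer hDp T hDT hDT'
    have hQSp : IsPGroup p ↥(Subgroup.normalizer (D : Set G) ⊓ (S : Subgroup G)) :=
      S.isPGroup'.to_le inf_le_right
    have hQTp : IsPGroup p ↥(Subgroup.normalizer (D : Set G) ⊓ (T : Subgroup G)) :=
      T.isPGroup'.to_le inf_le_right
    have hNloc : Cfsg.IsPLocal p (Subgroup.normalizer (D : Set G)) := ⟨D, hDp, hD1, rfl⟩
    obtain ⟨M, hMmax, hNM⟩ := exists_maximalPLocal_ge hNloc
    obtain ⟨R_S, hR_S, hQR_S⟩ := exists_isSylIn_ge hQSp (inf_le_left.trans hNM)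
    obtain ⟨R_T, hR_T, hQR_T⟩ := exists_isSylIn_ge hQTp (inf_le_left.trans hNM)
    obtain ⟨S₁, hS₁⟩ := IsPGroup.exists_le_sylow hR_S.isPGroup
    obtain ⟨T₁, hT₁⟩ := IsPGroup.exists_le_sylow hR_T.isPGroup
    have h1 : Link p (agFamily p f) D S S₁ :=
      OIH _ hQSp hQScard hQS S S₁ inf_le_right (hQR_S.trans hS₁)
    have h2 : Link p (agFamily p f) D T T₁ :=
      OIH _ hQTp hQTcard hQT T T₁ inf_le_right (hQR_T.trans hT₁)
    obtain ⟨y, hy, hyR⟩ := hR_S.exists_conj hR_T
    have hS₁M : (S₁ : Subgroup G) ⊓ M = R_S := hR_S.inf_eq S₁ hS₁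
    have hyS₁M : ((y • S₁ : Sylow p G) : Subgroup G) ⊓ M = R_T := by
      rw [smul_inf_eq S₁ hy, hS₁M, hyR]
    have hDM : Nat.card D < p ^ vp p M := by
      have : Nat.card ↥(Subgroup.normalizer (D : Set G) ⊓ (S : Subgroup G)) ≤ p ^ vp p M :=
        card_le_of_isPGroup hQSp (inf_le_left.trans hNM)
      omega
    have h3 : Link p (agFamily p f) D S₁ (y • S₁) :=
      link_smul_of_maximalPLocal f hf hf1 D hD1 OIH (vp p (⊤ : Subgroup G) - vp p M + 1) M hMmax
        (Nat.lt_succ_self _) hDM S₁ (by rw [hS₁M]; exact hR_S) y hy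
        (by rw [hS₁M]; exact hQS.trans hQR_S) (by rw [hyS₁M]; exact hQT.trans hQR_T)
    have hR_Tcard : Nat.card R_T = p ^ vp p M := hR_T.card
    have h4 : Link p (agFamily p f) D (y • S₁) T₁ :=
      OIH R_T hR_T.isPGroup (by rw [hR_Tcard]; exact hDM) (hQT.trans hQR_T) (y • S₁) T₁
        (by rw [← hyS₁M]; exact inf_le_left) hT₁
    exact h1.trans (h3.trans (h4.trans h2.symm))

/-- **Alperin–Gorenstein**: the family `𝓕 ∪ 𝓕'` controls Sylow `p`-intersections. -/
theorem controls_agFamily
    (f : Subgroup G → Set (Subgroup G)) (hf : Cfsg.IsNormalizerFunctor p f)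
    (hf1 : ∀ P : Subgroup G, IsPGroup p ↥P → P ≠ ⊥ → ∀ F ∈ f P, F ≠ ⊥) :
    Cfsg.ControlsSylowIntersections p (agFamily p f) := by
  apply controls_of_link
  intro S T _ hI
  exact link_of_le f hf hf1 (Nat.card G - Nat.card ↥((S : Subgroup G) ⊓ (T : Subgroup G)) + 1) _ hI
    (S.isPGroup'.to_le inf_le_left) (Nat.lt_succ_self _) S T inf_le_left inf_le_right

end Cfsg.Agent.Lib.Helper17
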