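/-
Helper lemmas (helper17): normalizer functors: the family `𝓕 = {N_G(F) | F ∈ f(S), S Sylow}` is
closed under conjugation; links are preserved by conjugation; chains in a regular subgroup
containing a Sylow subgroup of `G` lift to `G`.
-/
import Cfsg.Agent.Lib.Helper17.AG5

set_option autoImplicit false
open scoped Pointwise

namespace Cfsg.Agent.Lib.Helper17

variable {G : Type*} [Group G] {p : ℕ}

theorem mem_functorFamily_top_iff [Finite G] [Fact p.Prime] (f : Subgroup G → Set (Subgroup G)) (X : Subgroup G) :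
    X ∈ Cfsg.functorFamily p f ⊤ ↔
      ∃ S : Sylow p G, ∃ F ∈ f (S : Subgroup G), X = Subgroup.normalizer (F : Set G) := by
  constructor
  · rintro ⟨P, F, hF, rfl⟩
    let e : ↥(⊤ : Subgroup G) ≃* G := Subgroup.topEquiv
    have hsurj : Function.Surjective (⊤ : Subgroup G).subtype := e.surjective
    refine ⟨P.mapSurjective hsurj, F, ?_, by rw [top_inf_eq]⟩
    rw [Sylow.coe_mapSurjective]; exact hF
  · rintro ⟨S, F, hF, rfl⟩
    exact normalizer_mem_functorFamily_top f S hF

theorem normalizer_map_conj (F : Subgroup G) (g : G) :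
    Subgroup.normalizer ((F.map (MulAut.conj g).toMonoidHom : Subgroup G) : Set G) =
      (Subgroup.normalizer (F : Set G)).map (MulAut.conj g).toMonoidHom :=
  (Subgroup.map_equiv_normalizer_eq F (MulAut.conj g)).symm

/-- The family `𝓕` is closed under conjugation. -/
theorem isNormalSet_functorFamily_top [Finite G] [Fact p.Prime] (f : Subgroup G → Set (Subgroup G))
    (hf : Cfsg.IsNormalizerFunctor p f) : Cfsg.IsNormalSet (Cfsg.functorFamily p f ⊤) := by
  intro X hX g
  rw [mem_functorFamily_top_iff] at hX ⊢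
  obtain ⟨S, F, hF, rfl⟩ := hX
  refine ⟨g⁻¹ • S, F.map (MulAut.conj g⁻¹).toMonoidHom, ?_, ?_⟩
  · rw [coe_smul_eq_map, (hf _ S.isPGroup').2 g⁻¹]
    exact ⟨F, hF, rfl⟩
  · unfold Cfsg.subgroupConjRight
    rw [normalizer_map_conj]

theorem Step.smul [Finite G] [Fact p.Prime] {𝓕 : Set (Subgroup G)} (h𝓕 : Cfsg.IsNormalSet 𝓕)
    {D : Subgroup G} {S T : Sylow p G} (h : Step p 𝓕 D S T) (g : G) :
    Step p 𝓕 (D.map (MulAut.conj g).toMonoidHom) (g • S) (g • T) := by
  obtain ⟨X, x, hXS, hXT, hx, hT, hDS, hDT, hDX⟩ := h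
  have hXS' : X ∈ Cfsg.sylowMembers p 𝓕 ((g⁻¹ • (g • S) : Sylow p G) : Subgroup G) := by
    rw [inv_smul_smul]; exact hXS
  have hXT' : X ∈ Cfsg.sylowMembers p 𝓕 ((g⁻¹ • (g • T) : Sylow p G) : Subgroup G) := by
    rw [inv_smul_smul]; exact hXT
  refine ⟨Cfsg.subgroupConjRight g⁻¹ X, g * x * g⁻¹, sylowMembers_conj h𝓕 hXS',
    sylowMembers_conj h𝓕 hXT', ?_, ?_, ?_, ?_, ?_⟩
  · rw [mem_subgroupConjRight_iff]
    have : g⁻¹ * (g * x * g⁻¹) * g⁻¹⁻¹ = x := by group
    rw [this]; exact hx
  · rw [hT, smul_smul, smul_smul]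
    congr 1
    group
  · rw [coe_smul_eq_map]; exact Subgroup.map_mono hDS
  · rw [coe_smul_eq_map]; exact Subgroup.map_mono hDT
  · rintro _ ⟨d, hd, rfl⟩
    rw [mem_subgroupConjRight_iff]
    have : g⁻¹ * (MulAut.conj g).toMonoidHom d * g⁻¹⁻¹ = d := by simp [mul_assoc]
    rw [this]; exact hDX hd

theorem Link.smul [Finite G] [Fact p.Prime] {𝓕 : Set (Subgroup G)} (h𝓕 : Cfsg.IsNormalSet 𝓕)
    {D : Subgroup G} {S T : Sylow p G} (h : Link p 𝓕 D S T) (g : G) :
    Link p 𝓕 (D.map (MulAut.conj g).toMonoidHom) (g • S) (g • T) := by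
  unfold Link at h ⊢
  induction h with
  | refl => exact Relation.ReflTransGen.refl
  | tail _ hbc ih => exact ih.tail (hbc.smul h𝓕 g)

/-- One step through the normalizer of a member `F` of `f(P₀)`, `P₀` a Sylow subgroup of `G`. -/
theorem step_of_functor [Finite G] [Fact p.Prime] (f : Subgroup G → Set (Subgroup G))
    (P₀ : Sylow p G) {F : Subgroup G} (hF : F ∈ f (P₀ : Subgroup G)) (V : Sylow p G)
    (hVF : (V : Subgroup G) ≤ Subgroup.normalizer (F : Set G)) {y : G}
    (hyF : y ∈ Subgroup.normalizer (F : Set G)) {D : Subgroup G} (hDV : D ≤ (V : Subgroup G))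
    (hDyV : D ≤ ((y • V : Sylow p G) : Subgroup G)) :
    Step p (Cfsg.functorFamily p f ⊤) D V (y • V) := by
  have hLmem := normalizer_mem_functorFamily_top f P₀ hF
  have hyVL : ((y • V : Sylow p G) : Subgroup G) ≤ Subgroup.normalizer (F : Set G) := by
    rw [coe_smul_eq_map]
    rintro _ ⟨v, hv, rfl⟩
    exact Subgroup.mul_mem _ (Subgroup.mul_mem _ hyF (hVF hv)) (Subgroup.inv_mem _ hyF)
  refine ⟨Subgroup.normalizer (F : Set G), y, ⟨hLmem, ?_⟩, ⟨hLmem, ?_⟩, hyF, rfl, hDV, hDyV,
    hDV.trans hVF⟩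
  · rw [inf_eq_left.2 hVF]; exact isSylIn_sylow V hVF
  · rw [inf_eq_left.2 hyVL]; exact isSylIn_sylow (y • V) hyVL

/-- Sylow subgroups of `G` inside a regular subgroup `H` containing a Sylow subgroup of `G` are
linked in `G` over any nontrivial common subgroup. -/
theorem link_of_regular [Finite G] [Fact p.Prime] (f : Subgroup G → Set (Subgroup G))
    (hf : Cfsg.IsNormalizerFunctor p f) (H : Subgroup G) (hreg : Cfsg.IsFunctorRegular p f H)
    (P Q : Sylow p G) (hPH : (P : Subgroup G) ≤ H) (hQH : (Q : Subgroup G) ≤ H)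
    (D : Subgroup G) (hD1 : D ≠ ⊥) (hDP : D ≤ (P : Subgroup G)) (hDQ : D ≤ (Q : Subgroup G)) :
    Link p (Cfsg.functorFamily p f ⊤) D P Q := by
  have hp : p.Prime := Fact.out
  have hDH : D ≤ H := hDP.trans hPH
  -- `H` has the same `p`-part as `G`
  have hvp : (Nat.card H).factorization p = (Nat.card G).factorization p := by
    have h1 : Nat.card (P : Subgroup G) ≤ p ^ (Nat.card H).factorization p :=
      card_le_of_isPGroup P.isPGroup' hPH
    rw [P.card_eq_multiplicity] at h1
    have h2 := (Nat.pow_le_pow_iff_right hp.one_lt).1 h1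
    have h3 : vp p H ≤ vp p (⊤ : Subgroup G) := vp_mono le_top
    unfold vp at h3
    rw [Subgroup.card_top] at h3
    omega
  have hcard : ∀ c' : Sylow p ↥H, Nat.card ((c' : Subgroup ↥H).map H.subtype) =
      p ^ (Nat.card G).factorization p := by
    intro c'
    rw [Subgroup.card_map_of_injective H.subtype_injective, c'.card_eq_multiplicity, hvp]
  obtain ⟨lift, hlift⟩ : ∃ lift : Sylow p ↥H → Sylow p G,
      ∀ c', ((lift c' : Sylow p G) : Subgroup G) = (c' : Subgroup ↥H).map H.subtype :=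
    ⟨fun c' => Sylow.ofCard _ (hcard c'), fun c' => Sylow.coe_ofCard _ _⟩
  have hliftP : lift (P.subtype hPH) = P := by
    apply Sylow.ext
    rw [hlift, Sylow.coe_subtype, Subgroup.map_subgroupOf_eq_of_le hPH]
  have hliftQ : lift (Q.subtype hQH) = Q := by
    apply Sylow.ext
    rw [hlift, Sylow.coe_subtype, Subgroup.map_subgroupOf_eq_of_le hQH]
  by_cases hPQ : P.subtype hPH = Q.subtype hQH
  · rw [← hliftP, ← hliftQ, hPQ]; exact Link.refl _
  have hDP' : D.subgroupOf H ≤ ((P.subtype hPH : Sylow p ↥H) : Subgroup ↥H) := by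
    rw [Sylow.coe_subtype]
    intro d hd
    rw [Subgroup.mem_subgroupOf] at hd ⊢
    exact hDP hd
  have hDQ' : D.subgroupOf H ≤ ((Q.subtype hQH : Sylow p ↥H) : Subgroup ↥H) := by
    rw [Sylow.coe_subtype]
    intro d hd
    rw [Subgroup.mem_subgroupOf] at hd ⊢
    exact hDQ hd
  have hI : ((P.subtype hPH : Sylow p ↥H) : Subgroup ↥H) ⊓
      ((Q.subtype hQH : Sylow p ↥H) : Subgroup ↥H) ≠ ⊥ := by
    intro hbot
    have hle : D.subgroupOf H ≤ ⊥ := hbot ▸ le_inf hDP' hDQ'
    apply hD1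
    rw [eq_bot_iff]
    intro d hd
    have h1 : (⟨d, hDH hd⟩ : ↥H) ∈ D.subgroupOf H := by
      rw [Subgroup.mem_subgroupOf]; exact hd
    have h2 := hle h1
    rw [Subgroup.mem_bot] at h2 ⊢
    exact congrArg Subtype.val h2
  obtain ⟨n, c, X, x, h0, hl, hc⟩ := hreg _ _ hPQ hI
  have hDall : ∀ i : Fin (n + 1), D.subgroupOf H ≤ (c i : Subgroup ↥H) := by
    intro i
    refine Fin.cases ?_ (fun j => ?_) i
    · rw [h0]; exact hDP'
    · exact ((le_inf hDP' hDQ').trans (hc j).2.2.2.2).trans inf_le_left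
  have hDlift : ∀ i : Fin (n + 1), D ≤ ((lift (c i) : Sylow p G) : Subgroup G) := by
    intro i d hd
    rw [hlift]
    exact ⟨⟨d, hDH hd⟩, hDall i (by rw [Subgroup.mem_subgroupOf]; exact hd), rfl⟩
  have key : ∀ i : Fin (n + 1), Link p (Cfsg.functorFamily p f ⊤) D P (lift (c i)) := by
    intro i
    induction i using Fin.induction with
    | zero => rw [h0, hliftP]; exact Link.refl P
    | succ j ihj =>
      obtain ⟨⟨⟨X₀, ⟨P', F, hF, hX₀⟩, hXeq⟩, hS1⟩, -, hxX, hconj, -⟩ := hc j
      have hXj : X j = (H ⊓ Subgroup.normalizer (F : Set G)).subgroupOf H := by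
        rw [← hXeq, hX₀]
      have hr' : (c j.succ : Subgroup ↥H).map H.subtype =
          ((c j.castSucc : Subgroup ↥H).map H.subtype).map
            (MulAut.conj ((x j : ↥H) : G)).toMonoidHom := by
        rw [← hconj]
        unfold Cfsg.subgroupConjRight
        rw [map_subtype_conj]
        have : (((x j)⁻¹ : ↥H) : G) = ((x j : ↥H) : G)⁻¹ := rfl
        rw [this, map_conj_map_conj_inv]
      have hP₀p : IsPGroup p ((P' : Subgroup ↥H).map H.subtype) := P'.isPGroup'.map _
      obtain ⟨-, hFn⟩ := (hf _ hP₀p).1 F hF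
      have hP'X : (P' : Subgroup ↥H) ≤ X j := by
        rw [hXj]
        intro z hz
        rw [Subgroup.mem_subgroupOf]
        refine ⟨z.2, hFn (Subgroup.le_normalizer ?_)⟩
        exact ⟨z, hz, rfl⟩
      have hcX : (c j.castSucc : Subgroup ↥H) ≤ X j :=
        le_of_isSylIn_inf (c j.castSucc) P' (X j) hP'X hS1
      have hVF : ((lift (c j.castSucc) : Sylow p G) : Subgroup G) ≤
          Subgroup.normalizer (F : Set G) := by
        rw [hlift]
        rintro _ ⟨z, hz, rfl⟩
        have := hcX hz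
        rw [hXj, Subgroup.mem_subgroupOf] at this
        exact this.2
      have hyF : ((x j : ↥H) : G) ∈ Subgroup.normalizer (F : Set G) := by
        have := hxX
        rw [hXj, Subgroup.mem_subgroupOf] at this
        exact this.2
      have hsucc : lift (c j.succ) = ((x j : ↥H) : G) • lift (c j.castSucc) := by
        apply Sylow.ext
        rw [hlift, coe_smul_eq_map, hlift, hr']
      have hF' : F ∈ f ((lift P' : Sylow p G) : Subgroup G) := by rw [hlift]; exact hF
      have hstep := step_of_functor f (lift P') hF' (lift (c j.castSucc)) hVF hyF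
        (hDlift j.castSucc) (by rw [← hsucc]; exact hDlift j.succ)
      rw [← hsucc] at hstep
      exact ihj.trans (Link.of_step hstep)
  have := key (Fin.last n)
  rwa [hl, hliftQ] at this

end Cfsg.Agent.Lib.Helper17
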