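/-
Helper lemmas (helper17): a product `G = G₁G₂` of two subgroups containing a common Sylow subgroup
and both regular for a normalizer functor is regular.
-/
import Cfsg.Agent.Lib.Helper17.AG6
import Cfsg.Agent.S2940

set_option autoImplicit false
open scoped Pointwise

namespace Cfsg.Agent.Lib.Helper17

variable {G : Type*} [Group G] [Finite G] {p : ℕ} [Fact p.Prime]

theorem map_conj_inv_map_conj (A : Subgroup G) (y : G) :
    (A.map (MulAut.conj y).toMonoidHom).map (MulAut.conj y⁻¹).toMonoidHom = A := by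
  have := map_conj_map_conj_inv A y⁻¹
  rwa [inv_inv] at this

theorem map_conj_ne_bot {A : Subgroup G} (hA : A ≠ ⊥) (y : G) :
    A.map (MulAut.conj y).toMonoidHom ≠ ⊥ := by
  intro h
  apply hA
  rw [← map_conj_inv_map_conj A y, h, Subgroup.map_bot]

/-- The family `𝓕` of `G` controls Sylow intersections when `G = G₁G₂` with `G₁, G₂` regular
subgroups containing a common Sylow subgroup. -/
theorem controls_functorFamily_top_of_product (f : Subgroup G → Set (Subgroup G))
    (hf : Cfsg.IsNormalizerFunctor p f) (S : Sylow p G) (G₁ G₂ : Subgroup G)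
    (h₁ : (S : Subgroup G) ≤ G₁) (h₂ : (S : Subgroup G) ≤ G₂)
    (hprod : ∀ g : G, ∃ g₁ ∈ G₁, ∃ g₂ ∈ G₂, g = g₁ * g₂)
    (hr₁ : Cfsg.IsFunctorRegular p f G₁) (hr₂ : Cfsg.IsFunctorRegular p f G₂) :
    Cfsg.ControlsSylowIntersections p (Cfsg.functorFamily p f ⊤) := by
  have h𝓕 := isNormalSet_functorFamily_top f hf
  apply controls_of_link
  intro P Q _ hI
  obtain ⟨a, ha⟩ := MulAction.exists_smul_eq G S P
  obtain ⟨b, hb⟩ := MulAction.exists_smul_eq G S Q
  obtain ⟨g, hg⟩ : ∃ g : G, g = b⁻¹ * a := ⟨_, rfl⟩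
  obtain ⟨U, hU1, hU2⟩ := Cfsg.Agent.S2940.result S G₁ G₂ h₁ h₂ hprod g
  have hconj : Cfsg.subgroupConjRight g (S : Subgroup G) = ((g⁻¹ • S : Sylow p G) : Subgroup G) := by
    unfold Cfsg.subgroupConjRight
    rw [coe_smul_eq_map]
  rw [hconj] at hU1
  obtain ⟨T, hT⟩ : ∃ T : Sylow p G, T = g⁻¹ • S := ⟨_, rfl⟩
  rw [← hT] at hU1
  have haT : a • T = Q := by
    rw [hT, smul_smul, ← hb]
    congr 1
    rw [hg]; group
  -- `P ∩ Q` is the conjugate of `S ∩ T`
  have hPQ : (P : Subgroup G) ⊓ (Q : Subgroup G) =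
      ((S : Subgroup G) ⊓ (T : Subgroup G)).map (MulAut.conj a).toMonoidHom := by
    rw [Subgroup.map_inf _ _ _ (MulAut.conj a).injective, ← coe_smul_eq_map, ← coe_smul_eq_map,
      ha, haT]
  have hD0 : (S : Subgroup G) ⊓ (T : Subgroup G) ≠ ⊥ := by
    intro h
    apply hI
    rw [hPQ, h, Subgroup.map_bot]
  -- `S ~ U` inside `G₁`
  have hL1 : Link p (Cfsg.functorFamily p f ⊤) ((S : Subgroup G) ⊓ (T : Subgroup G)) S U :=
    link_of_regular f hf G₁ hr₁ S U h₁ (hU2.trans inf_le_left) _ hD0 inf_le_left hU1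
  -- `g • U ~ S` inside `G₂`
  have hgU : ((g • U : Sylow p G) : Subgroup G) ≤ G₂ := by
    rw [coe_smul_eq_map]
    rintro _ ⟨u, hu, rfl⟩
    have := (mem_subgroupConjRight_iff g u G₂).1 (Subgroup.mem_inf.1 (hU2 hu)).2
    exact this
  have hgT : g • T = S := by rw [hT, smul_inv_smul]
  have hL2 : Link p (Cfsg.functorFamily p f ⊤)
      (((S : Subgroup G) ⊓ (T : Subgroup G)).map (MulAut.conj g).toMonoidHom) (g • U) S := by
    apply link_of_regular f hf G₂ hr₂ (g • U) S hgU h₂ _ (map_conj_ne_bot hD0 g)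
    · rw [coe_smul_eq_map]; exact Subgroup.map_mono hU1
    · have : ((S : Subgroup G) ⊓ (T : Subgroup G)).map (MulAut.conj g).toMonoidHom ≤
          ((g • T : Sylow p G) : Subgroup G) := by
        rw [coe_smul_eq_map]; exact Subgroup.map_mono inf_le_right
      rwa [hgT] at this
  have hL3 := hL2.smul h𝓕 g⁻¹
  rw [map_conj_inv_map_conj, inv_smul_smul, ← hT] at hL3
  have hL4 := (hL1.trans hL3).smul h𝓕 a
  rw [ha, haT, ← hPQ] at hL4
  exact hL4

end Cfsg.Agent.Lib.Helper17
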