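/-
Helper lemmas (helper17): control of Sylow intersections is transported along a bijective
homomorphism; regularity of `⊤` for a normalizer functor.
-/
import Cfsg.Agent.Lib.Helper17.AG7

set_option autoImplicit false
open scoped Pointwise

namespace Cfsg.Agent.Lib.Helper17

theorem IsSylIn.comap_bijective {Γ G : Type*} [Group Γ] [Group G] {p : ℕ} (φ : Γ →* G)
    (hφ : Function.Bijective φ) {R H : Subgroup G} (h : IsSylIn p R H) :
    IsSylIn p (R.comap φ) (H.comap φ) := by
  apply isSylIn_of_maximal (Subgroup.comap_mono h.le)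
    (h.isPGroup.comap_of_injective φ hφ.1)
  intro Q' hQ' hQ'H hRQ'
  have h1 : IsPGroup p (Q'.map φ) := hQ'.map φ
  have h2 : Q'.map φ ≤ H := Subgroup.map_le_iff_le_comap.2 hQ'H
  have h3 : R ≤ Q'.map φ := by
    intro r hr
    obtain ⟨z, rfl⟩ := hφ.2 r
    exact ⟨z, hRQ' hr, rfl⟩
  have h4 := h.eq_of_le h1 h2 h3
  rw [← h4, Subgroup.comap_map_eq_self_of_injective hφ.1]

theorem subgroupConjRight_comap {Γ G : Type*} [Group Γ] [Group G] (φ : Γ →* G) (x : Γ)
    (C : Subgroup G) :
    Cfsg.subgroupConjRight x (C.comap φ) = (Cfsg.subgroupConjRight (φ x) C).comap φ := by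
  ext z
  rw [mem_subgroupConjRight_iff, Subgroup.mem_comap, Subgroup.mem_comap,
    mem_subgroupConjRight_iff, map_mul, map_mul, map_inv]

/-- Transport of control of Sylow intersections along a bijective homomorphism. -/
theorem controls_comap_bijective {Γ G : Type*} [Group Γ] [Group G] [Finite Γ] {p : ℕ}
    [Fact p.Prime] (φ : Γ →* G) (hφ : Function.Bijective φ) {𝓕 : Set (Subgroup G)}
    (h : Cfsg.ControlsSylowIntersections p 𝓕) :
    Cfsg.ControlsSylowIntersections p ((fun X : Subgroup G => X.comap φ) '' 𝓕) := by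
  intro S' T' hne hI
  have hrange : ∀ c : Sylow p G, (c : Subgroup G) ≤ φ.range := by
    intro c z _
    exact hφ.2 z
  have hST : S'.mapSurjective hφ.2 ≠ T'.mapSurjective hφ.2 := by
    intro heq
    apply hne
    apply Sylow.ext
    have h1 : (S' : Subgroup Γ).map φ = (T' : Subgroup Γ).map φ := by
      have := congrArg (fun c : Sylow p G => (c : Subgroup G)) heq
      simpa using this
    exact Subgroup.map_injective hφ.1 h1
  have hI' : ((S'.mapSurjective hφ.2 : Sylow p G) : Subgroup G) ⊓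
      ((T'.mapSurjective hφ.2 : Sylow p G) : Subgroup G) ≠ ⊥ := by
    rw [Sylow.coe_mapSurjective, Sylow.coe_mapSurjective, ← Subgroup.map_inf _ _ _ hφ.1]
    intro hb
    apply hI
    rw [← Subgroup.map_eq_bot_iff_of_injective _ hφ.1]
    exact hb
  obtain ⟨n, c, X, x, h0, hl, hc⟩ := h _ _ hST hI'
  have hback : ∀ S'' : Sylow p Γ,
      (S''.mapSurjective hφ.2).comapOfInjective φ hφ.1 (hrange _) = S'' := by
    intro S''
    apply Sylow.ext
    rw [Sylow.coe_comapOfInjective, Sylow.coe_mapSurjective,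
      Subgroup.comap_map_eq_self_of_injective hφ.1]
  refine ⟨n, fun i => (c i).comapOfInjective φ hφ.1 (hrange _), fun i => (X i).comap φ,
    fun i => (MulEquiv.ofBijective φ hφ).symm (x i), ?_, ?_, ?_⟩
  · show (c 0).comapOfInjective φ hφ.1 (hrange _) = S'
    rw [← hback S']
    congr 1
  · show (c (Fin.last n)).comapOfInjective φ hφ.1 (hrange _) = T'
    rw [← hback T']
    congr 1
  · intro i
    obtain ⟨⟨hX1, hS1⟩, ⟨-, hS2⟩, hxX, hconj, hle⟩ := hc i
    have hφx : φ ((MulEquiv.ofBijective φ hφ).symm (x i)) = x i :=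
      (MulEquiv.ofBijective φ hφ).apply_symm_apply (x i)
    refine ⟨⟨⟨X i, hX1, rfl⟩, ?_⟩, ⟨⟨X i, hX1, rfl⟩, ?_⟩, ?_, ?_, ?_⟩
    · show IsSylIn p (((c i.castSucc : Sylow p G) : Subgroup G).comap φ ⊓ (X i).comap φ)
        ((X i).comap φ)
      rw [← Subgroup.comap_inf]
      exact IsSylIn.comap_bijective φ hφ hS1
    · show IsSylIn p (((c i.succ : Sylow p G) : Subgroup G).comap φ ⊓ (X i).comap φ)
        ((X i).comap φ)
      rw [← Subgroup.comap_inf]
      exact IsSylIn.comap_bijective φ hφ hS2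
    · show (MulEquiv.ofBijective φ hφ).symm (x i) ∈ (X i).comap φ
      rw [Subgroup.mem_comap, hφx]; exact hxX
    · show Cfsg.subgroupConjRight ((MulEquiv.ofBijective φ hφ).symm (x i))
        (((c i.succ : Sylow p G) : Subgroup G).comap φ) =
          ((c i.castSucc : Sylow p G) : Subgroup G).comap φ
      rw [subgroupConjRight_comap, hφx, hconj]
    · show (S' : Subgroup Γ) ⊓ (T' : Subgroup Γ) ≤
        ((c i.succ : Sylow p G) : Subgroup G).comap φ ⊓ (X i).comap φ
      rw [← Subgroup.comap_inf]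
      intro z hz
      rw [Subgroup.mem_comap]
      apply hle
      exact ⟨⟨z, hz.1, rfl⟩, ⟨z, hz.2, rfl⟩⟩

end Cfsg.Agent.Lib.Helper17
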