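import Mathlib

set_option autoImplicit false

/-!
Helper17: leaf AP-BR of the S3614 market (planner helper4): multiple transitivity passes to the
image of the action in `Perm Ω`.
-/

namespace Cfsg.Agent.Lib.Helper17.APBR

open Equiv MulAction

/-- **AP-BR** (bridge): multiple transitivity passes to the image in `Perm Ω`. -/
theorem APBR {G Ω : Type*} [Group G] [MulAction G Ω] (n : ℕ)
    (h : IsMultiplyPretransitive G Ω n) :
    IsMultiplyPretransitive ↥(MulAction.toPermHom G Ω).range Ω n := by
  refine ⟨fun x y => ?_⟩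
  obtain ⟨g, hg⟩ := h.exists_smul_eq x y
  refine ⟨⟨MulAction.toPermHom G Ω g, ⟨g, rfl⟩⟩, ?_⟩
  ext i
  have := congrArg (fun e : Fin n ↪ Ω => e i) hg
  simpa using this

end Cfsg.Agent.Lib.Helper17.APBR
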