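import Mathlib

set_option autoImplicit false

/-!
Helper17: leaf AP-ORD of the S3614 market (planner helper4): a 5-transitive group of degree
`2r+3` or `3r+4` contains an element of order `r`.
-/

namespace Cfsg.Agent.Lib.Helper17.APORD

open Equiv MulAction

variable {Ω : Type*} [Fintype Ω] [DecidableEq Ω]

theorem factorial_five (m : ℕ) :
    (m + 5).factorial = (m + 5) * (m + 4) * (m + 3) * (m + 2) * (m + 1) * m.factorial := by
  rw [Nat.factorial_succ (m + 4), Nat.factorial_succ (m + 3), Nat.factorial_succ (m + 2),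
    Nat.factorial_succ (m + 1), Nat.factorial_succ m]
  ring

/-- **AP-ORD**. -/
theorem APORD (H : Subgroup (Perm Ω)) (h5 : IsMultiplyPretransitive ↥H Ω 5)
    (r : ℕ) (hr : r.Prime)
    (hcard : Fintype.card Ω = 2 * r + 3 ∨ Fintype.card Ω = 3 * r + 4) :
    ∃ z ∈ H, orderOf z = r := by
  have hr2 : 2 ≤ r := hr.two_le
  have hn5 : 5 ≤ Fintype.card Ω := by rcases hcard with h | h <;> omega
  obtain ⟨t, -, ht⟩ := Finset.exists_subset_card_eq (s := (Finset.univ : Finset Ω)) (n := 5)
    (by rw [Finset.card_univ]; exact hn5)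
  have hs : ((t : Set Ω)).ncard = 5 := by rw [Set.ncard_coe_finset]; exact ht
  have hidx := h5.index_of_fixingSubgroup_mul hs
  rw [Nat.card_eq_fintype_card] at hidx
  obtain ⟨m, hm⟩ : ∃ m, Fintype.card Ω = m + 5 := ⟨Fintype.card Ω - 5, by omega⟩
  rw [hm, factorial_five, Nat.add_sub_cancel] at hidx
  have hidx' : (fixingSubgroup ↥H (t : Set Ω)).index =
      (m + 5) * (m + 4) * (m + 3) * (m + 2) * (m + 1) :=
    Nat.eq_of_mul_eq_mul_right (Nat.factorial_pos m) hidx
  have hdvd : r ∣ (fixingSubgroup ↥H (t : Set Ω)).index := by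
    rw [hidx']
    rcases hcard with h | h
    · have : m + 2 = r * 2 := by omega
      rw [this]
      exact Dvd.dvd.mul_right (Dvd.dvd.mul_left (Dvd.intro _ rfl) _) _
    · have : m + 1 = r * 3 := by omega
      rw [this]
      exact Dvd.dvd.mul_left (Dvd.intro _ rfl) _
  have hdvd' : r ∣ Nat.card ↥H := hdvd.trans (Subgroup.index_dvd_card _)
  have : Fact r.Prime := ⟨hr⟩
  obtain ⟨z, hz⟩ := exists_prime_orderOf_dvd_card' r hdvd'
  refine ⟨(z : Perm Ω), z.2, ?_⟩
  rw [Subgroup.orderOf_coe]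
  exact hz

end Cfsg.Agent.Lib.Helper17.APORD
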