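import Mathlib

/-!
Coordinates for finite abelian `p`-groups; splitting off two equal cyclic factors.
-/

set_option autoImplicit false

namespace Cfsg.Agent.Lib.Helper17

section Split

variable {ι : Type} [DecidableEq ι] (n : ι → ℕ)

/-- The coordinates vanishing at `i` and `j`. -/
def vanishSub (i j : ι) : AddSubgroup ((l : ι) → ZMod (n l)) where
  carrier := {x | x i = 0 ∧ x j = 0}
  zero_mem' := ⟨rfl, rfl⟩
  add_mem' := by
    rintro a b ⟨ha, ha'⟩ ⟨hb, hb'⟩
    exact ⟨by rw [Pi.add_apply, ha, hb, add_zero], by rw [Pi.add_apply, ha', hb', add_zero]⟩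
  neg_mem' := by
    rintro a ⟨ha, ha'⟩
    exact ⟨by rw [Pi.neg_apply, ha, neg_zero], by rw [Pi.neg_apply, ha', neg_zero]⟩

/-- Splitting off two coordinates. -/
def splitTwo (i j : ι) (hij : i ≠ j) :
    ((l : ι) → ZMod (n l)) ≃+ (ZMod (n i) × ZMod (n j)) × vanishSub n i j where
  toFun x := ((x i, x j), ⟨x - Pi.single i (x i) - Pi.single j (x j), by
    constructor
    · show (x - Pi.single i (x i) - Pi.single j (x j) : (l : ι) → ZMod (n l)) i = 0
      rw [Pi.sub_apply, Pi.sub_apply, Pi.single_eq_same, Pi.single_eq_of_ne hij, sub_self, sub_zero]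
    · show (x - Pi.single i (x i) - Pi.single j (x j) : (l : ι) → ZMod (n l)) j = 0
      rw [Pi.sub_apply, Pi.sub_apply, Pi.single_eq_same, Pi.single_eq_of_ne hij.symm, sub_zero, sub_self]⟩)
  invFun y := Pi.single i y.1.1 + Pi.single j y.1.2 + y.2.1
  left_inv x := by
    show Pi.single i (x i) + Pi.single j (x j) + (x - Pi.single i (x i) - Pi.single j (x j)) = x
    abel
  right_inv := by
    rintro ⟨⟨u, v⟩, ⟨w, hw1, hw2⟩⟩
    have hw1' : w i = 0 := hw1
    have hw2' : w j = 0 := hw2
    have h1 : (Pi.single i u + Pi.single j v + w : (l : ι) → ZMod (n l)) i = u := by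
      rw [Pi.add_apply, Pi.add_apply, Pi.single_eq_same, Pi.single_eq_of_ne hij, hw1', add_zero, add_zero]
    have h2 : (Pi.single i u + Pi.single j v + w : (l : ι) → ZMod (n l)) j = v := by
      rw [Pi.add_apply, Pi.add_apply, Pi.single_eq_same, Pi.single_eq_of_ne hij.symm, hw2', add_zero, zero_add]
    apply Prod.ext
    · exact Prod.ext h1 h2
    · apply Subtype.ext
      show (Pi.single i u + Pi.single j v + w) - Pi.single i ((Pi.single i u + Pi.single j v + w : (l : ι) → ZMod (n l)) i) -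
        Pi.single j ((Pi.single i u + Pi.single j v + w : (l : ι) → ZMod (n l)) j) = w
      rw [h1, h2]
      abel
  map_add' x y := by
    apply Prod.ext
    · rfl
    · apply Subtype.ext
      show (x + y) - Pi.single i ((x + y) i) - Pi.single j ((x + y) j) =
        (x - Pi.single i (x i) - Pi.single j (x j)) + (y - Pi.single i (y i) - Pi.single j (y j))
      rw [Pi.add_apply, Pi.add_apply, Pi.single_add, Pi.single_add]
      abel

end Split

/-- **Coordinates with pairwise distinct invariants.** -/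
theorem exists_coord_of_no_square {P : Type*} [Group P] [Finite P] {p : ℕ} [Fact p.Prime]
    (hP : IsPGroup p P) (hab : ∀ a b : P, a * b = b * a)
    (hno : ¬ ∃ (n : ℕ) (H : Type) (_ : CommGroup H), 0 < n ∧
      Nonempty (P ≃* (Multiplicative (ZMod (p ^ n)) × Multiplicative (ZMod (p ^ n))) × H)) :
    ∃ (ι : Type) (_ : Fintype ι) (e : ι → ℕ), Function.Injective e ∧
      Nonempty (P ≃* Multiplicative ((l : ι) → ZMod (p ^ e l))) := by
  classical
  have hpp : p.Prime := Fact.out
  let _ : CommGroup P := { (inferInstance : Group P) with mul_comm := hab }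
  obtain ⟨ι, hι, n, hn1, ⟨f0⟩⟩ := AddCommGroup.equiv_directSum_zmod_of_finite' (Additive P)
  obtain ⟨f1, -⟩ : ∃ f1 : Additive P ≃+ ((i : ι) → ZMod (n i)), f1 = f0.trans (DirectSum.addEquivProd _) :=
    ⟨_, rfl⟩
  have hpow : ∀ i, ∃ a, n i = p ^ a := by
    intro i
    obtain ⟨k, hk⟩ := hP (Additive.toMul (f1.symm (Pi.single i 1)))
    have h1 : p ^ k • f1.symm (Pi.single i 1) = 0 := by
      have : Additive.ofMul ((Additive.toMul (f1.symm (Pi.single i 1))) ^ p ^ k) = 0 := by
        rw [hk]; rfl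
      exact this
    have h2 : p ^ k • (Pi.single i 1 : (i : ι) → ZMod (n i)) = 0 := by
      have := congrArg f1 h1
      rwa [map_nsmul, AddEquiv.apply_symm_apply, map_zero] at this
    have h3 := congrFun h2 i
    rw [Pi.smul_apply, Pi.single_eq_same, nsmul_eq_mul, mul_one, Pi.zero_apply,
      ZMod.natCast_eq_zero_iff] at h3
    obtain ⟨a, -, ha⟩ := (Nat.dvd_prime_pow hpp).mp h3
    exact ⟨a, ha⟩
  choose e he using hpow
  obtain rfl : n = fun i => p ^ e i := funext he
  have he0 : ∀ i, e i ≠ 0 := by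
    intro i h0
    have := hn1 i
    simp only [h0, pow_zero, lt_self_iff_false] at this
  refine ⟨ι, hι, e, ?_, ⟨AddEquiv.toMultiplicativeRight f1⟩⟩
  intro i j hij
  by_contra hne
  apply hno
  have hcast : p ^ e j = p ^ e i := by rw [hij]
  let g1 := splitTwo (fun i => p ^ e i) i j hne
  let g2 : (ZMod (p ^ e i) × ZMod (p ^ e j)) × vanishSub (fun i => p ^ e i) i j ≃+
      (ZMod (p ^ e i) × ZMod (p ^ e i)) × vanishSub (fun i => p ^ e i) i j :=
    AddEquiv.prodCongr (AddEquiv.prodCongr (AddEquiv.refl _) (ZMod.ringEquivCongr hcast).toAddEquiv)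
      (AddEquiv.refl _)
  let g3 : P ≃* Multiplicative ((ZMod (p ^ e i) × ZMod (p ^ e i)) × vanishSub (fun i => p ^ e i) i j) :=
    AddEquiv.toMultiplicativeRight (f1.trans (g1.trans g2))
  let g4 := g3.trans (MulEquiv.prodMultiplicative _ _)
  let g5 := g4.trans (MulEquiv.prodCongr (MulEquiv.prodMultiplicative _ _) (MulEquiv.refl _))
  exact ⟨e i, Multiplicative (vanishSub (fun i => p ^ e i) i j), inferInstance,
    Nat.pos_of_ne_zero (he0 i), ⟨g5⟩⟩

end Cfsg.Agent.Lib.Helper17
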