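import Mathlib

/-!
Finite abelian `p`-groups in coordinates `Π l, ZMod (p ^ e l)`: the characteristic subgroups
`W(k,j) = p^k · A[p^j] + p^(k+1) · A` and their cyclic steps when the invariants are pairwise distinct.
-/

set_option autoImplicit false

namespace Cfsg.Agent.Lib.Helper17

section Coord

variable {ι : Type} (p : ℕ) (e : ι → ℕ)

/-- `W(k,j) = p^k · A[p^j] + p^(k+1) · A`. -/
def Wc (k j : ℕ) : AddSubgroup ((l : ι) → ZMod (p ^ e l)) where
  carrier := {z | ∃ x y, p ^ j • x = 0 ∧ z = p ^ k • x + p ^ (k + 1) • y}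
  zero_mem' := ⟨0, 0, by simp, by simp⟩
  add_mem' := by
    rintro a b ⟨x, y, hx, rfl⟩ ⟨x', y', hx', rfl⟩
    exact ⟨x + x', y + y', by rw [smul_add, hx, hx', add_zero], by simp only [smul_add]; abel⟩
  neg_mem' := by
    rintro a ⟨x, y, hx, rfl⟩
    exact ⟨-x, -y, by rw [smul_neg, hx, neg_zero], by simp only [smul_neg]; abel⟩

theorem mem_Wc {k j : ℕ} {z : (l : ι) → ZMod (p ^ e l)} :
    z ∈ Wc p e k j ↔ ∃ x y, p ^ j • x = 0 ∧ z = p ^ k • x + p ^ (k + 1) • y := Iff.rfl

theorem Wc_invariant (k j : ℕ) (ψ : ((l : ι) → ZMod (p ^ e l)) ≃+ ((l : ι) → ZMod (p ^ e l)))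
    (z : (l : ι) → ZMod (p ^ e l)) : z ∈ Wc p e k j ↔ ψ z ∈ Wc p e k j := by
  have key : ∀ (φ : ((l : ι) → ZMod (p ^ e l)) ≃+ ((l : ι) → ZMod (p ^ e l))) z,
      z ∈ Wc p e k j → φ z ∈ Wc p e k j := by
    rintro φ z ⟨x, y, hx, rfl⟩
    refine ⟨φ x, φ y, ?_, ?_⟩
    · rw [← map_nsmul, hx, map_zero]
    · rw [map_add, map_nsmul, map_nsmul]
  constructor
  · exact key ψ z
  · intro h
    have := key ψ.symm _ h
    rwa [AddEquiv.symm_apply_apply] at this

theorem pow_smul_apply_eq_zero {J : ℕ} {l : ι} (h : e l ≤ J) (x : (l : ι) → ZMod (p ^ e l)) :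
    (p ^ J • x) l = 0 := by
  rw [Pi.smul_apply, nsmul_eq_mul]
  have : ((p ^ J : ℕ) : ZMod (p ^ e l)) = 0 :=
    (ZMod.natCast_eq_zero_iff _ _).mpr (pow_dvd_pow p h)
  rw [this, zero_mul]

theorem pow_smul_eq_zero {J : ℕ} (h : ∀ l, e l ≤ J) (x : (l : ι) → ZMod (p ^ e l)) :
    p ^ J • x = 0 := by
  funext l
  exact pow_smul_apply_eq_zero p e (h l) x

theorem Wc_le_succ (k j : ℕ) : Wc p e k j ≤ Wc p e k (j + 1) := by
  rintro z ⟨x, y, hx, rfl⟩
  exact ⟨x, y, by rw [pow_succ, mul_smul, smul_comm, hx, smul_zero], rfl⟩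

theorem Wc_zero_right_eq (k J : ℕ) (h : ∀ l, e l ≤ J) : Wc p e k 0 = Wc p e (k + 1) J := by
  ext z
  constructor
  · rintro ⟨x, y, hx, rfl⟩
    rw [pow_zero, one_smul] at hx
    refine ⟨y, 0, pow_smul_eq_zero p e h y, ?_⟩
    rw [hx, smul_zero, smul_zero, zero_add, add_zero]
  · rintro ⟨x, y, -, rfl⟩
    refine ⟨0, x + p • y, by simp, ?_⟩
    rw [smul_zero, zero_add, smul_add, ← mul_smul, ← pow_succ]

theorem Wc_eq_top (J : ℕ) (h : ∀ l, e l ≤ J) : Wc p e 0 J = ⊤ := by
  rw [eq_top_iff]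
  intro z _
  exact ⟨z, 0, pow_smul_eq_zero p e h z, by simp⟩

theorem Wc_eq_bot (K : ℕ) (h : ∀ l, e l ≤ K + 1) : Wc p e K 0 = ⊥ := by
  rw [eq_bot_iff]
  rintro z ⟨x, y, hx, rfl⟩
  rw [pow_zero, one_smul] at hx
  rw [AddSubgroup.mem_bot, hx, smul_zero, zero_add]
  exact pow_smul_eq_zero p e h y

/-- Divisibility by `p` of elements of small order in `ZMod (p ^ E)`. -/
theorem exists_smul_eq_of_pow_smul_eq_zero [Fact p.Prime] {j E : ℕ} (hE : j + 2 ≤ E) (a : ZMod (p ^ E))
    (ha : p ^ (j + 1) • a = 0) : ∃ b : ZMod (p ^ E), p • b = a := by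
  have hpp : p.Prime := Fact.out
  have : NeZero (p ^ E) := ⟨(pow_pos hpp.pos E).ne'⟩
  have h1 : ((p ^ (j + 1) * a.val : ℕ) : ZMod (p ^ E)) = 0 := by
    rw [Nat.cast_mul, ZMod.natCast_zmod_val, ← nsmul_eq_mul]
    exact ha
  rw [ZMod.natCast_eq_zero_iff] at h1
  have h2 : p ^ (j + 1) * p ^ (E - (j + 1)) ∣ p ^ (j + 1) * a.val := by
    rw [← pow_add, Nat.add_sub_cancel' (by omega)]
    exact h1
  have h3 : p ^ (E - (j + 1)) ∣ a.val := Nat.dvd_of_mul_dvd_mul_left (pow_pos hpp.pos _) h2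
  have h4 : p ∣ a.val := (dvd_pow_self p (by omega)).trans h3
  obtain ⟨b, hb⟩ := h4
  refine ⟨(b : ZMod (p ^ E)), ?_⟩
  rw [nsmul_eq_mul, ← Nat.cast_mul, ← hb, ZMod.natCast_zmod_val]

/-- **Cyclic steps.** -/
theorem Wc_step [DecidableEq ι] [Fact p.Prime] (hinj : Function.Injective e) (k j : ℕ) :
    ∃ g ∈ Wc p e k (j + 1), p • g ∈ Wc p e k j ∧
      ∀ z ∈ Wc p e k (j + 1), ∃ c : ℤ, z - c • g ∈ Wc p e k j := by
  have hpp : p.Prime := Fact.out
  -- the decomposition of the coordinates other than the exceptional one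
  have hdiv : ∀ (x : (l : ι) → ZMod (p ^ e l)), p ^ (j + 1) • x = 0 →
      ∀ l, j + 2 ≤ e l → ∃ b : ZMod (p ^ e l), p • b = x l := by
    intro x hx l hl
    apply exists_smul_eq_of_pow_smul_eq_zero p hl
    have := congrFun hx l
    rwa [Pi.smul_apply] at this
  by_cases hex : ∃ i₀, e i₀ = j + 1
  · obtain ⟨i₀, hi₀⟩ := hex
    obtain ⟨u, hu⟩ : ∃ u : (l : ι) → ZMod (p ^ e l), u = Pi.single i₀ 1 := ⟨_, rfl⟩
    have hu_ne : ∀ l, l ≠ i₀ → u l = 0 := fun l hl => by rw [hu]; exact Pi.single_eq_of_ne hl _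
    have hu_self : u i₀ = 1 := by rw [hu, Pi.single_eq_same]
    have hpu : p ^ (j + 1) • u = 0 := by
      funext l
      by_cases hl : l = i₀
      · subst hl
        exact pow_smul_apply_eq_zero p e hi₀.le u
      · rw [Pi.smul_apply, hu_ne l hl, smul_zero]
        rfl
    refine ⟨p ^ k • u, ⟨u, 0, hpu, by simp⟩, ⟨0, u, by simp, ?_⟩, ?_⟩
    · rw [smul_zero, zero_add, ← mul_smul, ← pow_succ']
    · rintro z ⟨x, y, hx, rfl⟩
      have : NeZero (p ^ e i₀) := ⟨(pow_pos hpp.pos _).ne'⟩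
      choose! b hb using hdiv x hx
      obtain ⟨c, hc⟩ : ∃ c : ℕ, c = (x i₀).val := ⟨_, rfl⟩
      refine ⟨(c : ℤ), fun l => if e l ≤ j then x l else 0,
        y + fun l => if j + 2 ≤ e l then b l else 0, ?_, ?_⟩
      · funext l
        by_cases hl : e l ≤ j
        · have := pow_smul_apply_eq_zero p e hl (fun l => if e l ≤ j then x l else 0)
          exact this
        · rw [Pi.smul_apply, if_neg hl, smul_zero]
          rfl
      · have hx_eq : x = (fun l => if e l ≤ j then x l else 0) +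
            p • (fun l => if j + 2 ≤ e l then b l else 0) + (c : ℤ) • u := by
          funext l
          simp only [Pi.add_apply, Pi.smul_apply]
          by_cases hl0 : l = i₀
          · subst hl0
            rw [if_neg (by omega), if_neg (by omega), smul_zero, zero_add, zero_add, hu_self]
            rw [natCast_zsmul, nsmul_eq_mul, mul_one, hc, ZMod.natCast_zmod_val]
          · rw [hu_ne l hl0, smul_zero, add_zero]
            have hne : e l ≠ j + 1 := fun h => hl0 (hinj (h.trans hi₀.symm))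
            by_cases hl : e l ≤ j
            · rw [if_pos hl, if_neg (by omega), smul_zero, add_zero]
            · rw [if_neg hl, if_pos (by omega), zero_add, hb l (by omega)]
        conv_lhs => rw [hx_eq]
        simp only [smul_add, smul_sub]
        rw [← mul_smul (p ^ k) p, ← pow_succ, smul_comm (p ^ k) (c : ℤ) u]
        abel
  · push Not at hex
    refine ⟨0, zero_mem _, by rw [smul_zero]; exact zero_mem _, ?_⟩
    rintro z ⟨x, y, hx, rfl⟩
    choose! b hb using hdiv x hx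
    refine ⟨0, fun l => if e l ≤ j then x l else 0,
      y + fun l => if j + 2 ≤ e l then b l else 0, ?_, ?_⟩
    · funext l
      by_cases hl : e l ≤ j
      · have := pow_smul_apply_eq_zero p e hl (fun l => if e l ≤ j then x l else 0)
        exact this
      · rw [Pi.smul_apply, if_neg hl, smul_zero]
        rfl
    · have hx_eq : x = (fun l => if e l ≤ j then x l else 0) +
          p • (fun l => if j + 2 ≤ e l then b l else 0) := by
        funext l
        simp only [Pi.add_apply, Pi.smul_apply]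
        have hne : e l ≠ j + 1 := hex l
        by_cases hl : e l ≤ j
        · rw [if_pos hl, if_neg (by omega), smul_zero, add_zero]
        · rw [if_neg hl, if_pos (by omega), zero_add, hb l (by omega)]
      conv_lhs => rw [hx_eq]
      simp only [smul_add, smul_zero, sub_zero]
      rw [← mul_smul (p ^ k) p, ← pow_succ]
      abel

end Coord

end Cfsg.Agent.Lib.Helper17
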