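import Mathlib
import Cfsg.Prelude.Def_Blocks
import Cfsg.Agent.S4708
import Cfsg.Agent.Lib.Helper6.Clifford
import Cfsg.Agent.Lib.Helper6.CyclicExtRep
import Cfsg.Agent.Lib.Helper6.ProjExt
import Cfsg.Agent.Lib.Helper6.PrimeIndex
import Cfsg.Agent.Lib.Helper24.PrincipalPairs
import Cfsg.Agent.Lib.Helper21.BGChar
import Cfsg.Agent.Lib.Helper23.AlpDadeL3
import Cfsg.Agent.Lib.Helper12.AlpDadeL4a
import Cfsg.Agent.Lib.Helper4.AlpDadeL5

/-!
# S4551, leaf L6 (spine): every member of `B₀(N)` extends to a member of `B₀(G)`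

Strong induction on `|G : N|` over all groups of the universe.
-/

set_option autoImplicit false

namespace Cfsg.Agent.Lib.Helper17.AlpDade

open Cfsg Cfsg.Agent.Lib.Helper6 Cfsg.Agent.Lib.Helper24
open Cfsg.Agent.Lib.Helper23.AlpDade Cfsg.Agent.Lib.Helper12.AlpDade Cfsg.Agent.Lib.Helper4.AlpDade

universe u

/-- the case `N = ⊤`. -/
theorem exists_extension_of_eq_top {G : Type u} [Group G] [Finite G] (M : Ideal AlgInt)
    (N : Subgroup G) (hN : N = ⊤) (θ : IrrCharacter N) (hθ : θ ∈ principalBlock M N) :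
    ∃ χ : IrrCharacter G, χ ∈ principalBlock M G ∧
      ∀ n : N, (χ : G → ℂ) n = (θ : N → ℂ) n := by
  subst hN
  let e : G ≃* (⊤ : Subgroup G) := Subgroup.topEquiv.symm
  have hirr : IsIrrCharacter G (fun g => (θ : (⊤ : Subgroup G) → ℂ) (e g)) :=
    Cfsg.Agent.Lib.Helper21.BG.isIrrCharacter_comp e.toMonoidHom e.surjective θ
  refine ⟨⟨_, hirr⟩, ?_, ?_⟩
  · have h := sameBlock_compIso M e hθ
    exact h
  · intro n
    show (θ : (⊤ : Subgroup G) → ℂ) (e (n : G)) = (θ : (⊤ : Subgroup G) → ℂ) n
    congr 1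

/-- the step through a normal subgroup `X ≥ N` of prime index, given an extension to `X` lying in
`B₀(X)`. -/
theorem step_prime_index {G : Type u} [Group G] [Finite G] (p : ℕ) [Fact p.Prime]
    (M : Ideal AlgInt) (hM : IsPModular p M) (N : Subgroup G) [N.Normal] (hidx : ¬ p ∣ N.index)
    (P : Sylow p G) (hsup : N ⊔ Subgroup.centralizer ((P : Subgroup G) : Set G) = ⊤)
    (X : Subgroup G) [hXn : X.Normal] (hNX : N ≤ X) (hXp : X.index.Prime)
    (θ₁ : IrrCharacter X) (hθ₁ : θ₁ ∈ principalBlock M X) :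
    ∃ χ : IrrCharacter G, χ ∈ principalBlock M G ∧
      ∀ x : X, (χ : G → ℂ) x = (θ₁ : X → ℂ) x := by
  classical
  let _ : Fintype G := Fintype.ofFinite G
  let _ : Fintype X := Fintype.ofFinite X
  have hidxX : ¬ p ∣ X.index := fun h => hidx (dvd_trans h (Subgroup.index_dvd_of_le hNX))
  have hsupX : X ⊔ Subgroup.centralizer ((P : Subgroup G) : Set G) = ⊤ := by
    apply top_le_iff.mp
    rw [← hsup]
    exact sup_le_sup_right hNX _
  -- invariance
  have hinv : ∀ g : G, conjFun X g (θ₁ : X → ℂ) = (θ₁ : X → ℂ) :=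
    fun g => conjFun_eq_of_mem_principal p M hM X hidxX P hsupX θ₁ hθ₁ g
  -- cyclic quotient
  have hcyc : IsCyclic (G ⧸ X) := by
    have : Fact X.index.Prime := ⟨hXp⟩
    exact isCyclic_of_prime_card (p := X.index) (Subgroup.index_eq_card X).symm
  obtain ⟨χ₀, hχ₀, hχ₀ext⟩ := exists_irr_extension_of_cyclic X hcyc θ₁.2
    (fun g n => by
      have := congrFun (hinv g) n
      rw [conjFun_apply] at this
      exact this)
  -- a member of the principal block over `θ₁`
  obtain ⟨χ, hχ, hover⟩ := Cfsg.Agent.S4708.exists_over_principal X p M hM θ₁ hθ₁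
  have hext : resFun X χ₀ = (θ₁ : X → ℂ) := by
    funext x
    rw [resFun_apply]
    exact hχ₀ext x
  have hres := resFun_eq_of_extension p M hM X hidxX P hsupX θ₁ χ₀ hχ₀ hext χ hχ hover
  refine ⟨χ, hχ, fun x => ?_⟩
  have := congrFun hres x
  rw [resFun_apply] at this
  exact this

/-- **L6**, in induction form. -/
theorem main_aux (p : ℕ) [hpp : Fact p.Prime] (M : Ideal AlgInt) (hM : IsPModular p M) :
    ∀ (k : ℕ) (G : Type u) [Group G] [Finite G] (N : Subgroup G) [N.Normal],
      N.index = k → ¬ p ∣ N.index → ∀ P : Sylow p G,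
      N ⊔ Subgroup.centralizer ((P : Subgroup G) : Set G) = ⊤ →
      ∀ θ : IrrCharacter N, θ ∈ principalBlock M N →
      ∃ χ : IrrCharacter G, χ ∈ principalBlock M G ∧
        ∀ n : N, (χ : G → ℂ) n = (θ : N → ℂ) n := by
  intro k
  induction k using Nat.strong_induction_on with
  | _ k ih =>
    intro G _ _ N hNn hk hidx P hsup θ hθ
    classical
    let _ : Fintype G := Fintype.ofFinite G
    let _ : Fintype N := Fintype.ofFinite N
    by_cases hNtop : N = ⊤
    · exact exists_extension_of_eq_top M N hNtop θ hθ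
    have hk1 : 1 < k := by
      rw [← hk]
      have h0 : N.index ≠ 0 := Subgroup.index_ne_zero_of_finite
      have h1 : N.index ≠ 1 := fun h => hNtop (Subgroup.index_eq_one.mp h)
      omega
    -- extension to an intermediate subgroup `X` with `N ≤ X`, `X ≠ ⊤`, by induction
    have hsub : ∀ (X : Subgroup G) (hNX : N ≤ X), X ≠ ⊤ →
        ∃ η : IrrCharacter X, η ∈ principalBlock M X ∧
          ∀ n : N, (η : X → ℂ) ⟨n, hNX n.2⟩ = (θ : N → ℂ) n := by
      intro X hNX hXtop
      obtain ⟨hn', hidx', hmul, P', hsup', htr⟩ := hyp_subgroup p M N hidx P hsup X hNX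
      obtain ⟨θ', hθ', hθ'eq⟩ := htr θ hθ
      have hXidx : 1 < X.index := by
        have h0 : X.index ≠ 0 := Subgroup.index_ne_zero_of_finite
        have h1 : X.index ≠ 1 := fun h => hXtop (Subgroup.index_eq_one.mp h)
        omega
      have hlt : (N.subgroupOf X).index < k := by
        rw [← hk, ← hmul]
        have hpos : 0 < (N.subgroupOf X).index :=
          Nat.pos_of_ne_zero Subgroup.index_ne_zero_of_finite
        nlinarith
      have := hn'
      obtain ⟨η, hη, hηeq⟩ := ih _ hlt X (N.subgroupOf X) rfl hidx' P' hsup' θ' hθ'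
      refine ⟨η, hη, fun n => ?_⟩
      have h1 := hηeq ⟨⟨n, hNX n.2⟩, n.2⟩
      have h2 := hθ'eq ⟨⟨n, hNX n.2⟩, n.2⟩
      rw [h1, h2]
    by_cases hX : ∃ X : Subgroup G, X.Normal ∧ N ≤ X ∧ X.index.Prime
    · -- Case 1: a normal subgroup of prime index above `N`
      obtain ⟨X, hXn, hNX, hXp⟩ := hX
      have := hXn
      have hXtop : X ≠ ⊤ := by
        intro h
        rw [h, Subgroup.index_top] at hXp
        exact Nat.not_prime_one hXp
      obtain ⟨θ₁, hθ₁, hθ₁eq⟩ := hsub X hNX hXtop
      obtain ⟨χ, hχ, hχeq⟩ := step_prime_index p M hM N hidx P hsup X hNX hXp θ₁ hθ₁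
      refine ⟨χ, hχ, fun n => ?_⟩
      rw [← hθ₁eq n]
      exact hχeq ⟨n, hNX n.2⟩
    · -- Case 2: Isaacs 11.31
      have hinv : ∀ g : G, conjFun N g (θ : N → ℂ) = (θ : N → ℂ) :=
        fun g => conjFun_eq_of_mem_principal p M hM N hidx P hsup θ hθ g
      have hsyl : ∀ r : ℕ, r.Prime → ∃ (Q : Subgroup G) (hNQ : N ≤ Q) (η : Q → ℂ),
          Nat.Coprime Q.index r ∧ IsIrrCharacter Q η ∧
            ∀ n : N, η ⟨n, hNQ n.2⟩ = (θ : N → ℂ) n := by
        intro r hr
        have : Fact r.Prime := ⟨hr⟩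
        obtain ⟨S⟩ : Nonempty (Sylow r (G ⧸ N)) := inferInstance
        set Q : Subgroup G := (S : Subgroup (G ⧸ N)).comap (QuotientGroup.mk' N) with hQ
        have hNQ : N ≤ Q := by
          intro n hn
          rw [hQ, Subgroup.mem_comap, QuotientGroup.mk'_apply,
            (QuotientGroup.eq_one_iff n).mpr hn]
          exact Subgroup.one_mem _
        have hQidx : Q.index = (S : Subgroup (G ⧸ N)).index :=
          Subgroup.index_comap_of_surjective _ (QuotientGroup.mk'_surjective N)
        have hcop : Nat.Coprime Q.index r := by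
          rw [hQidx, Nat.coprime_comm]
          exact (Nat.Prime.coprime_iff_not_dvd hr).mpr S.not_dvd_index
        have hQtop : Q ≠ ⊤ := by
          intro h
          apply hX
          have hStop : (S : Subgroup (G ⧸ N)) = ⊤ := by
            apply Subgroup.comap_injective (QuotientGroup.mk'_surjective N)
            rw [← hQ, h, Subgroup.comap_top]
          have hpg : IsPGroup r (G ⧸ N) := by
            have := S.isPGroup'
            rw [hStop] at this
            exact IsPGroup.of_equiv this Subgroup.topEquiv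
          have : Group.IsNilpotent (G ⧸ N) := hpg.isNilpotent
          exact exists_normal_prime_index N hNtop inferInstance
        obtain ⟨η, -, hηeq⟩ := hsub Q hNQ hQtop
        exact ⟨Q, hNQ, (η : Q → ℂ), hcop, η.2, hηeq⟩
      obtain ⟨χ₀, hχ₀, hχ₀ext⟩ := exists_irr_extension_of_coprime N θ.2
        (fun g n => by
          have := congrFun (hinv g) n
          rw [conjFun_apply] at this
          exact this) hsyl
      obtain ⟨χ, hχ, hover⟩ := Cfsg.Agent.S4708.exists_over_principal N p M hM θ hθ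
      have hext : resFun N χ₀ = (θ : N → ℂ) := by
        funext x
        rw [resFun_apply]
        exact hχ₀ext x
      have hres := resFun_eq_of_extension p M hM N hidx P hsup θ χ₀ hχ₀ hext χ hχ hover
      refine ⟨χ, hχ, fun n => ?_⟩
      have := congrFun hres n
      rw [resFun_apply] at this
      exact this

/-- **L6.** -/
theorem exists_extension_mem_principal {G : Type u} [Group G] [Finite G] (p : ℕ) [Fact p.Prime]
    (M : Ideal AlgInt) (hM : IsPModular p M) (N : Subgroup G) [N.Normal] (hidx : ¬ p ∣ N.index)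
    (P : Sylow p G) (hsup : N ⊔ Subgroup.centralizer ((P : Subgroup G) : Set G) = ⊤)
    (θ : IrrCharacter N) (hθ : θ ∈ principalBlock M N) :
    ∃ χ : IrrCharacter G, χ ∈ principalBlock M G ∧ ∀ n : N, (χ : G → ℂ) n = (θ : N → ℂ) n :=
  main_aux p M hM N.index G N rfl hidx P hsup θ hθ

end Cfsg.Agent.Lib.Helper17.AlpDade
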