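/-
helper17: S2262 leaf FX3 (`exists_pow_sub_C_dvd`), planner helper19 (`notes/S2262_leaves.lean`).
For a monic polynomial `P` of degree at least one over a finite field `K` with `P(0) ≠ 0`, the class of
`X` in `AdjoinRoot P` is a unit whose order `j` modulo the scalar units satisfies
`(q - 1) j ≤ q^deg P - 1`, and `P ∣ X^j - C c`.  Pure Mathlib.
-/
import Mathlib

set_option autoImplicit false

namespace Cfsg.Agent.Lib.Helper17.AutPSLFX3

open Polynomial

/-- (FX3) the count in `AdjoinRoot P`: it has `q^deg P` elements, `X` is a unit (`P(0) ≠ 0`),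
the scalars are `q - 1` units, so the order `j` of `X` modulo the scalars has
`(q - 1) j ≤ q^deg P - 1`; `X^j = c` in `AdjoinRoot P` means `P ∣ X^j - c`. -/
theorem exists_pow_sub_C_dvd {K : Type*} [Field K] [Fintype K] (P : K[X]) (hP : P.Monic)
    (hd : 1 ≤ P.natDegree) (h0 : P.coeff 0 ≠ 0) :
    ∃ (j : ℕ) (c : K), 1 ≤ j ∧
      (Fintype.card K - 1) * j ≤ Fintype.card K ^ P.natDegree - 1 ∧ P ∣ X ^ j - C c := by
  classical
  have hdeg : P.degree ≠ 0 := by
    intro h
    have h' : P.natDegree = 0 := natDegree_eq_of_degree_eq_some h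
    omega
  let pb := AdjoinRoot.powerBasis' hP
  have hpbdim : pb.dim = P.natDegree := AdjoinRoot.powerBasis'_dim hP
  have hMF : Module.Finite K (AdjoinRoot P) := pb.finite
  have hfin : Finite (AdjoinRoot P) := Module.finite_of_finite K
  have hnt : Nontrivial (AdjoinRoot P) := AdjoinRoot.nontrivial P hdeg
  have hcard : Nat.card (AdjoinRoot P) = Fintype.card K ^ P.natDegree := by
    rw [Module.natCard_eq_pow_finrank (K := K), pb.finrank, hpbdim, Nat.card_eq_fintype_card]
  -- the root is a unit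
  set x : AdjoinRoot P := AdjoinRoot.root P with hx
  have hrel : x * AdjoinRoot.mk P P.divX + AdjoinRoot.of P (P.coeff 0) = 0 := by
    have h1 : AdjoinRoot.mk P (X * P.divX + C (P.coeff 0)) = 0 := by
      rw [X_mul_divX_add P]; exact AdjoinRoot.mk_self
    rw [map_add, map_mul, AdjoinRoot.mk_X, AdjoinRoot.mk_C] at h1
    exact h1
  have hinv : x * (AdjoinRoot.mk P P.divX * -(AdjoinRoot.of P (P.coeff 0)⁻¹)) = 1 := by
    have h2 : x * AdjoinRoot.mk P P.divX = -(AdjoinRoot.of P (P.coeff 0)) :=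
      eq_neg_of_add_eq_zero_left hrel
    rw [← mul_assoc, h2, neg_mul_neg, ← map_mul, mul_inv_cancel₀ h0, map_one]
  let xu : (AdjoinRoot P)ˣ := Units.mkOfMulEqOne _ _ hinv
  have hxu : (xu : AdjoinRoot P) = x := rfl
  -- the scalar units
  let φ : Kˣ →* (AdjoinRoot P)ˣ := Units.map (AdjoinRoot.of P : K →* AdjoinRoot P)
  have hφinj : Function.Injective φ := by
    intro a b hab
    apply Units.ext
    have h3 : ((φ a : (AdjoinRoot P)ˣ) : AdjoinRoot P) = ((φ b : (AdjoinRoot P)ˣ) : AdjoinRoot P) := by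
      rw [hab]
    exact AdjoinRoot.coe_injective hdeg h3
  let S : Subgroup (AdjoinRoot P)ˣ := φ.range
  have hScard : Nat.card S = Fintype.card K - 1 := by
    have h4 : Nat.card S = Nat.card Kˣ := (Nat.card_congr (MonoidHom.ofInjective hφinj).toEquiv).symm
    rw [h4, Nat.card_units, Nat.card_eq_fintype_card]
  have hUcard : Nat.card (AdjoinRoot P)ˣ ≤ Fintype.card K ^ P.natDegree - 1 := by
    have h8 : Nat.card (AdjoinRoot P)ˣ < Nat.card (AdjoinRoot P) := by
      have : Fintype (AdjoinRoot P) := Fintype.ofFinite _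
      have : Fintype (AdjoinRoot P)ˣ := Fintype.ofFinite _
      rw [Nat.card_eq_fintype_card, Nat.card_eq_fintype_card]
      refine Fintype.card_lt_of_injective_of_notMem (fun v : (AdjoinRoot P)ˣ => (v : AdjoinRoot P))
        Units.val_injective (b := 0) ?_
      rintro ⟨v, hv⟩
      exact v.ne_zero hv
    rw [hcard] at h8
    omega
  have hfinU : Finite (AdjoinRoot P)ˣ := inferInstance
  have hfinQ : Finite ((AdjoinRoot P)ˣ ⧸ S) := inferInstance
  have hjpos : 0 < orderOf (QuotientGroup.mk xu : (AdjoinRoot P)ˣ ⧸ S) :=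
    orderOf_pos_iff.mpr (isOfFinOrder_of_finite (QuotientGroup.mk xu : (AdjoinRoot P)ˣ ⧸ S))
  have hjdvd : orderOf (QuotientGroup.mk xu : (AdjoinRoot P)ˣ ⧸ S) ∣
      Nat.card ((AdjoinRoot P)ˣ ⧸ S) := orderOf_dvd_natCard _
  have hmem : xu ^ orderOf (QuotientGroup.mk xu : (AdjoinRoot P)ˣ ⧸ S) ∈ S := by
    rw [← QuotientGroup.eq_one_iff, QuotientGroup.mk_pow]
    exact pow_orderOf_eq_one _
  obtain ⟨u, hu⟩ := hmem
  refine ⟨orderOf (QuotientGroup.mk xu : (AdjoinRoot P)ˣ ⧸ S), (u : K), hjpos, ?_, ?_⟩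
  · have h5 := Subgroup.card_eq_card_quotient_mul_card_subgroup S
    have h6 := Nat.le_of_dvd Nat.card_pos hjdvd
    calc (Fintype.card K - 1) * orderOf (QuotientGroup.mk xu : (AdjoinRoot P)ˣ ⧸ S)
        ≤ (Fintype.card K - 1) * Nat.card ((AdjoinRoot P)ˣ ⧸ S) :=
          Nat.mul_le_mul_left _ h6
      _ = Nat.card (AdjoinRoot P)ˣ := by rw [h5, hScard, mul_comm]
      _ ≤ _ := hUcard
  · rw [← AdjoinRoot.mk_eq_zero, map_sub, map_pow, AdjoinRoot.mk_X, AdjoinRoot.mk_C, sub_eq_zero]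
    have h7 : ((φ u : (AdjoinRoot P)ˣ) : AdjoinRoot P) =
        ((xu ^ orderOf (QuotientGroup.mk xu : (AdjoinRoot P)ˣ ⧸ S) : (AdjoinRoot P)ˣ) :
          AdjoinRoot P) := by
      rw [hu]
    rw [Units.val_pow_eq_pow_val, hxu] at h7
    rw [← h7]
    rfl

end Cfsg.Agent.Lib.Helper17.AutPSLFX3
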