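/-
helper17: S2262 leaf PF (`field_bound`), planner helper19 (`notes/S2262_leaves.lean`), in `_of` form:
the leaves FX1 (`card_fixF_pow`) and FX2 (`exists_map_fixF`) enter as explicit hypotheses, FX3 is
`Cfsg.Agent.Lib.Helper17.AutPSLFX3.exists_pow_sub_C_dvd`.
-/
import Cfsg.Agent.Lib.Helper19.AutPSLDefs
import Cfsg.Agent.Lib.Helper17.AutPSLFX3

set_option autoImplicit false

namespace Cfsg.Agent.Lib.Helper17.AutPSLPFOf

open Polynomial Cfsg.Agent.Lib.Helper19.AutPSL

variable {F : Type*} [Field F] [Fintype F]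

/-- (PF), with FX1 and FX2 for this `σ` and `P` as hypotheses. -/
theorem field_bound_of (σ : F ≃+* F) (P : F[X]) (hP : P.Monic) (hd : 1 ≤ P.natDegree)
    (h0 : P.coeff 0 ≠ 0)
    (hFX1 : Nat.card (fixF σ) ^ orderOf σ = Fintype.card F)
    (hFX2 : ∃ P₀ : (fixF σ)[X], P₀.map (fixF σ).subtype = P) :
    ∃ (a j : ℕ) (c : F), 2 ≤ a ∧ a ^ orderOf σ = Fintype.card F ∧ 1 ≤ j ∧
      (a - 1) * j ≤ a ^ P.natDegree - 1 ∧ P ∣ X ^ j - C c := by
  classical
  obtain ⟨P₀, hP₀⟩ := hFX2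
  have hinj : Function.Injective ((fixF σ).subtype : fixF σ →+* F) := Subtype.val_injective
  have hfin : Fintype (fixF σ) := Fintype.ofFinite _
  have hmon : P₀.Monic := by
    apply Polynomial.monic_of_injective hinj
    rw [hP₀]; exact hP
  have hdeg : P₀.natDegree = P.natDegree := by
    rw [← hP₀, Polynomial.natDegree_map_eq_of_injective hinj]
  have hc0 : P₀.coeff 0 ≠ 0 := by
    intro h
    apply h0
    rw [← hP₀, Polynomial.coeff_map, h, map_zero]
  obtain ⟨j, c, hj, hb, hdvd⟩ :=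
    Cfsg.Agent.Lib.Helper17.AutPSLFX3.exists_pow_sub_C_dvd P₀ hmon (by rw [hdeg]; exact hd) hc0
  have hcard : Fintype.card (fixF σ) = Nat.card (fixF σ) := (Nat.card_eq_fintype_card).symm
  refine ⟨Nat.card (fixF σ), j, ((fixF σ).subtype c), ?_, hFX1, hj, ?_, ?_⟩
  · rw [← hcard]
    exact Fintype.one_lt_card
  · rw [← hcard, ← hdeg]
    exact hb
  · have h1 := Polynomial.map_dvd ((fixF σ).subtype : fixF σ →+* F) hdvd
    rw [hP₀, Polynomial.map_sub, Polynomial.map_pow, Polynomial.map_X, Polynomial.map_C] at h1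
    exact h1

end Cfsg.Agent.Lib.Helper17.AutPSLPFOf
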