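/-
helper17: S2262 leaf PF (`field_bound`), planner helper19 (`notes/S2262_leaves.lean`): exact name and
binders; FX1, FX2 are helper29's modules, FX3 and the glue are mine.
-/
import Cfsg.Agent.Lib.Helper17.AutPSLPFOf
import Cfsg.Agent.Lib.Helper29.AutPSLFX1
import Cfsg.Agent.Lib.Helper29.AutPSLFX2

set_option autoImplicit false

namespace Cfsg.Agent.Lib.Helper17.AutPSLPF

open Matrix Polynomial Cfsg.Agent.Lib.Helper18.PSLnAut Cfsg.Agent.Lib.Helper19.AutPSL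

section FX

variable {F : Type*} [Field F] [Fintype F]

/-- (PF) type F: FX1 + FX2 + FX3 (`a = Nat.card (fixF σ)`; map the divisibility back to `F`). -/
theorem field_bound (σ : F ≃+* F) (P : F[X]) (hP : P.Monic) (hd : 1 ≤ P.natDegree)
    (h0 : P.coeff 0 ≠ 0) (hσ : P.map (σ : F →+* F) = P) :
    ∃ (a j : ℕ) (c : F), 2 ≤ a ∧ a ^ orderOf σ = Fintype.card F ∧ 1 ≤ j ∧
      (a - 1) * j ≤ a ^ P.natDegree - 1 ∧ P ∣ X ^ j - C c :=
  Cfsg.Agent.Lib.Helper17.AutPSLPFOf.field_bound_of σ P hP hd h0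
    (Cfsg.Agent.Lib.Helper29.AutPSLFX1.card_fixF_pow σ)
    (Cfsg.Agent.Lib.Helper29.AutPSLFX2.exists_map_fixF σ P hσ)

end FX

end Cfsg.Agent.Lib.Helper17.AutPSLPF
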