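import Mathlib
import Cfsg.Agent.Lib.Helper8.ThNilpD
import Cfsg.Agent.Lib.Helper8.SylIn
import Cfsg.Agent.Lib.Helper8.Conj

/-!
# helper17: general group-theoretic lemmas for B & G 14.4(c)-(e) (S1376, S1436)

* `isNilpotent_of_fpf_mod_central`: `C ≤ G`, `K ≤ Z(C)`, `y` of prime order `t` normalizing `C`,
  centralizing `K`, `(|K|, t) = 1`, `C_C(y) ≤ K`.  Then `C` is nilpotent (Thompson on `C / K`).
* `exists_normal_sylIn_of_nilpotent`: the normal Sylow subgroup of a nilpotent subgroup.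
-/

set_option autoImplicit false
set_option linter.unusedSectionVars false
set_option linter.unusedVariables false
set_option linter.style.haveILetI false

namespace Cfsg.Agent.Lib.Helper17.BG146

open Cfsg.Agent.Lib.Helper8 (mem_map_conj conj_mem_map_conj map_conj_map_conj map_conj_one
  map_conj_le_iff map_conj_eq_iff card_map_conj mem_normalizer_iff_map_conj)
open Cfsg.Agent.Lib.Helper8.ThNilp (resEnd resEnd_coe resEnd_iter quotEnd quotEnd_mk quotEnd_iter
  isNilpotent_of_fpf)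

variable {G : Type*} [Group G]

theorem conj_iter (y g : G) (k : ℕ) :
    ((MulAut.conj y).toMonoidHom : G →* G)^[k] g = y ^ k * g * (y ^ k)⁻¹ := by
  induction k with
  | zero => simp
  | succ k ih =>
    rw [Function.iterate_succ_apply', ih]
    show y * (y ^ k * g * (y ^ k)⁻¹) * y⁻¹ = _
    rw [pow_succ']
    group

/-- If `y c y⁻¹ = c k` with `k` commuting with `y`, then `y^j c y^{-j} = c k^j`. -/
theorem conj_pow_eq_mul_pow {y c k : G} (h : y * c * y⁻¹ = c * k) (hk : y * k = k * y) (j : ℕ) :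
    y ^ j * c * (y ^ j)⁻¹ = c * k ^ j := by
  induction j with
  | zero => simp
  | succ j ih =>
    have hkj : y * k ^ j * y⁻¹ = k ^ j := by
      have : Commute y (k ^ j) := (show Commute y k from hk).pow_right j
      rw [this.eq, mul_inv_cancel_right]
    calc y ^ (j + 1) * c * (y ^ (j + 1))⁻¹ = y * (y ^ j * c * (y ^ j)⁻¹) * y⁻¹ := by
          rw [pow_succ']; group
      _ = y * (c * k ^ j) * y⁻¹ := by rw [ih]
      _ = (y * c * y⁻¹) * (y * k ^ j * y⁻¹) := by group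
      _ = c * k * k ^ j := by rw [h, hkj]
      _ = c * k ^ (j + 1) := by rw [pow_succ', mul_assoc]

/-- **Thompson modulo a central subgroup**. -/
theorem isNilpotent_of_fpf_mod_central [Finite G] (C K : Subgroup G) (y : G) (hKC : K ≤ C)
    (hcent : ∀ k ∈ K, ∀ c ∈ C, k * c = c * k) (hyC : ∀ c ∈ C, y * c * y⁻¹ ∈ C)
    (hyK : ∀ k ∈ K, y * k = k * y) {t : ℕ} (ht : t.Prime) (hyo : orderOf y = t)
    (hcop : (Nat.card K).Coprime t) (hfix : ∀ c ∈ C, y * c = c * y → c ∈ K) :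
    Group.IsNilpotent ↥C := by
  obtain ⟨φ0, hφ0⟩ : ∃ φ0 : G →* G, φ0 = (MulAut.conj y).toMonoidHom := ⟨_, rfl⟩
  have hφ0a : ∀ g, φ0 g = y * g * y⁻¹ := fun g => by rw [hφ0]; rfl
  have hstab : ∀ h ∈ C, φ0 h ∈ C := fun h hh => by rw [hφ0a]; exact hyC h hh
  obtain ⟨φ, hφ⟩ : ∃ φ : ↥C →* ↥C, φ = resEnd φ0 C hstab := ⟨_, rfl⟩
  have hφc : ∀ c : ↥C, ((φ c : ↥C) : G) = y * (c : G) * y⁻¹ := fun c => by
    rw [hφ, resEnd_coe, hφ0a]
  obtain ⟨K', hK'⟩ : ∃ K' : Subgroup ↥C, K' = K.subgroupOf C := ⟨_, rfl⟩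
  have hK'mem : ∀ c : ↥C, c ∈ K' ↔ (c : G) ∈ K := fun c => by
    rw [hK', Subgroup.mem_subgroupOf]
  have hK'cent : K' ≤ Subgroup.center ↥C := by
    intro k hk
    rw [Subgroup.mem_center_iff]
    intro c
    apply Subtype.ext
    show (c : G) * (k : G) = (k : G) * (c : G)
    exact (hcent _ ((hK'mem k).mp hk) _ c.2).symm
  haveI hK'n : K'.Normal := by
    refine ⟨fun k hk c => ?_⟩
    have := Subgroup.mem_center_iff.mp (hK'cent hk) c
    rw [this, mul_inv_cancel_right]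
    exact hk
  have hK'stab : ∀ n ∈ K', φ n ∈ K' := by
    intro n hn
    rw [hK'mem, hφc]
    have h1 := (hK'mem n).mp hn
    rw [hyK _ h1, mul_inv_cancel_right]
    exact h1
  obtain ⟨ψ, hψ⟩ : ∃ ψ : ↥C ⧸ K' →* ↥C ⧸ K', ψ = quotEnd φ K' hK'stab := ⟨_, rfl⟩
  have hyt : y ^ t = 1 := by rw [← hyo]; exact pow_orderOf_eq_one y
  have hiter : ∀ g, ψ^[t] g = g := by
    intro g
    obtain ⟨c, rfl⟩ := QuotientGroup.mk_surjective g
    rw [hψ, quotEnd_iter]
    congr 1
    apply Subtype.ext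
    rw [hφ, resEnd_iter, hφ0, conj_iter, hyt]
    simp
  have hfpf : ∀ g, ψ g = g → g = 1 := by
    intro g hg
    obtain ⟨c, rfl⟩ := QuotientGroup.mk_surjective g
    rw [hψ, quotEnd_mk] at hg
    have h1 : c⁻¹ * φ c ∈ K' := QuotientGroup.eq.mp hg.symm
    rw [hK'mem] at h1
    have h1' : (c : G)⁻¹ * (y * (c : G) * y⁻¹) ∈ K := by
      have : ((c⁻¹ * φ c : ↥C) : G) = (c : G)⁻¹ * (y * (c : G) * y⁻¹) := by
        rw [Subgroup.coe_mul, Subgroup.coe_inv, hφc]
      rwa [this] at h1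
    obtain ⟨k, hkdef⟩ : ∃ k : G, k = (c : G)⁻¹ * (y * (c : G) * y⁻¹) := ⟨_, rfl⟩
    rw [← hkdef] at h1'
    have hyc : y * (c : G) * y⁻¹ = (c : G) * k := by rw [hkdef]; group
    have hpow := conj_pow_eq_mul_pow hyc (hyK k h1') t
    rw [hyt] at hpow
    have hkt : k ^ t = 1 := by
      have : (c : G) = (c : G) * k ^ t := by simpa using hpow
      exact (mul_eq_left.mp this.symm)
    have hk1 : k = 1 := by
      have h2 : orderOf k ∣ t := orderOf_dvd_of_pow_eq_one hkt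
      have h3 : orderOf k ∣ Nat.card K := by
        have := Subgroup.orderOf_dvd_natCard K h1'
        exact this
      have h4 : orderOf k = 1 := Nat.eq_one_of_dvd_coprimes hcop h3 h2
      exact orderOf_eq_one_iff.mp h4
    rw [hk1, mul_one] at hyc
    have hcomm : y * (c : G) = (c : G) * y := by
      have := congrArg (· * y) hyc
      simpa [mul_assoc] using this
    have hcK := hfix _ c.2 hcomm
    exact (QuotientGroup.eq_one_iff c).mpr ((hK'mem c).mpr hcK)
  haveI : Group.IsNilpotent (↥C ⧸ K') := isNilpotent_of_fpf ψ ht hiter hfpf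
  apply Subgroup.isNilpotent_of_ker_le_center (QuotientGroup.mk' K')
  rw [QuotientGroup.ker_mk']
  exact hK'cent

end Cfsg.Agent.Lib.Helper17.BG146

namespace Cfsg.Agent.Lib.Helper17.BG146

open Cfsg.Agent.Lib.Helper8 (mem_map_conj conj_mem_map_conj map_conj_map_conj map_conj_one
  map_conj_le_iff map_conj_eq_iff card_map_conj mem_normalizer_iff_map_conj)

variable {G : Type*} [Group G]

/-- the normal Sylow `s`-subgroup of a nilpotent subgroup `C`. -/
theorem exists_normal_sylIn_of_nilpotent [Finite G] {C : Subgroup G} (hnil : Group.IsNilpotent ↥C)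
    (s : ℕ) [Fact s.Prime] :
    ∃ P : Subgroup G, Cfsg.Agent.Lib.Helper8.IsSylIn s P C ∧
      ∀ T : Subgroup G, T ≤ C → IsPGroup s T → T ≤ P := by
  obtain ⟨P0⟩ : Nonempty (Sylow s ↥C) := inferInstance
  haveI hn : (P0 : Subgroup ↥C).Normal :=
    Sylow.normal_of_normalizerCondition Group.normalizerCondition_of_isNilpotent P0
  refine ⟨(P0 : Subgroup ↥C).map C.subtype, Cfsg.Agent.Lib.Helper8.sylow_map_subtype_isSylIn P0, ?_⟩
  intro T hTC hT
  have hT' : IsPGroup s ↥(T.subgroupOf C) := hT.comap_subtype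
  obtain ⟨Q, hQ⟩ := hT'.exists_le_sylow
  haveI := Sylow.unique_of_normal P0 hn
  have hQP : Q = P0 := Subsingleton.elim _ _
  intro t ht
  exact ⟨⟨t, hTC ht⟩, hQP ▸ hQ (Subgroup.mem_subgroupOf.mpr ht), rfl⟩

/-- an element normalizing `C` normalizes its normal Sylow subgroup. -/
theorem conj_sylIn_eq [Finite G] {C P : Subgroup G} {s : ℕ} [Fact s.Prime]
    (hP : Cfsg.Agent.Lib.Helper8.IsSylIn s P C)
    (hmax : ∀ T : Subgroup G, T ≤ C → IsPGroup s T → T ≤ P) {y : G}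
    (hyC : ∀ c ∈ C, y * c * y⁻¹ ∈ C) : P.map (MulAut.conj y).toMonoidHom = P := by
  have hle : P.map (MulAut.conj y).toMonoidHom ≤ P := by
    apply hmax
    · rintro _ ⟨p, hp, rfl⟩
      exact hyC p (hP.1 hp)
    · exact hP.isPGroup.map _
  exact Subgroup.eq_of_le_of_card_ge hle (by rw [card_map_conj])

/-- `A`, `Z` elementary abelian `p`-subgroups commuting elementwise: `A ⊔ Z` is elementary abelian. -/
theorem elemAb_sup {p : ℕ} {A Z : Subgroup G} (hA : Cfsg.IsElementaryAbelian p A)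
    (hZ : Cfsg.IsElementaryAbelian p Z) (hAZ : ∀ a ∈ A, ∀ z ∈ Z, a * z = z * a) :
    Cfsg.IsElementaryAbelian p (A ⊔ Z) := by
  have hAc : ∀ a ∈ A, ∀ b ∈ A, a * b = b * a := fun a ha b hb =>
    congrArg Subtype.val (hA.1.is_comm.comm (⟨a, ha⟩ : ↥A) ⟨b, hb⟩)
  have hZc : ∀ a ∈ Z, ∀ b ∈ Z, a * b = b * a := fun a ha b hb =>
    congrArg Subtype.val (hZ.1.is_comm.comm (⟨a, ha⟩ : ↥Z) ⟨b, hb⟩)
  have key : ∀ w ∈ A ⊔ Z, ∃ a ∈ A, ∃ z ∈ Z, w = a * z := by
    intro w hw
    rw [Subgroup.sup_eq_closure] at hw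
    induction hw using Subgroup.closure_induction with
    | mem w hw =>
      rcases hw with h | h
      · exact ⟨w, h, 1, Z.one_mem, (mul_one w).symm⟩
      · exact ⟨1, A.one_mem, w, h, (one_mul w).symm⟩
    | one => exact ⟨1, A.one_mem, 1, Z.one_mem, (mul_one 1).symm⟩
    | mul u v _ _ hu hv =>
      obtain ⟨a, ha, z, hz, rfl⟩ := hu
      obtain ⟨a', ha', z', hz', rfl⟩ := hv
      refine ⟨a * a', A.mul_mem ha ha', z * z', Z.mul_mem hz hz', ?_⟩
      calc a * z * (a' * z') = a * (z * a') * z' := by group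
        _ = a * (a' * z) * z' := by rw [hAZ a' ha' z hz]
        _ = a * a' * (z * z') := by group
    | inv u _ hu =>
      obtain ⟨a, ha, z, hz, rfl⟩ := hu
      refine ⟨a⁻¹, A.inv_mem ha, z⁻¹, Z.inv_mem hz, ?_⟩
      rw [mul_inv_rev]
      have := hAZ a⁻¹ (A.inv_mem ha) z⁻¹ (Z.inv_mem hz)
      exact this.symm
  have hcomm : ∀ u ∈ A ⊔ Z, ∀ v ∈ A ⊔ Z, u * v = v * u := by
    intro u hu v hv
    obtain ⟨a, ha, z, hz, rfl⟩ := key u hu
    obtain ⟨a', ha', z', hz', rfl⟩ := key v hv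
    calc a * z * (a' * z') = a * (z * a') * z' := by group
      _ = a * (a' * z) * z' := by rw [hAZ a' ha' z hz]
      _ = (a * a') * (z * z') := by group
      _ = (a' * a) * (z' * z) := by rw [hAc a ha a' ha', hZc z hz z' hz']
      _ = a' * (a * z') * z := by group
      _ = a' * (z' * a) * z := by rw [hAZ a ha z' hz']
      _ = a' * z' * (a * z) := by group
  refine ⟨⟨⟨fun u v => Subtype.ext (hcomm u u.2 v v.2)⟩⟩, ?_⟩
  intro w hw
  obtain ⟨a, ha, z, hz, rfl⟩ := key w hw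
  rw [(show Commute a z from hAZ a ha z hz).mul_pow, hA.2 a ha, hZ.2 z hz, one_mul]

end Cfsg.Agent.Lib.Helper17.BG146
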