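import Mathlib
import Cfsg.Agent.Lib.Helper17.BG146A
import Cfsg.Agent.Lib.Helper8.BGQE
import Cfsg.Agent.Lib.Helper9.BG145A
import Cfsg.Agent.Lib.Helper9.BG144C
import Cfsg.Agent.Lib.Helper27.BGPCountD
import Cfsg.Agent.Lib.Helper20.BGAlpha
import Cfsg.Agent.Lib.Helper23.BG146D
import Cfsg.Agent.S1369
import Cfsg.Agent.S1352
import Cfsg.Agent.S1350

/-!
# helper17: the configuration of B & G 14.4(e) (S1376)

`M` maximal, `x ∈ M_σ` of prime order `q` with `C_G(x) ⊄ M`, `N ⊇ C_G(x)` with `κ(N) ≠ ∅`.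
`GCfg M N Ns K x`: `K ≤ M ∩ N` is a Hall `κ(N)`-subgroup of `N` of prime order `r`, `Ns ⊇ N_G(K)`
the partner of `(N, K)`.
-/

set_option autoImplicit false
set_option linter.unusedSectionVars false
set_option linter.unusedVariables false
set_option linter.style.haveILetI false

namespace Cfsg.Agent.Lib.Helper17.BG146

open Cfsg.Agent.Lib.Helper8 (mem_map_conj conj_mem_map_conj map_conj_map_conj map_conj_one
  map_conj_le_iff map_conj_eq_iff card_map_conj mem_normalizer_iff_map_conj)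
open Cfsg.Agent.Lib.Helper8.BGQ (Root)
open Cfsg.Agent.Lib.Helper9.BG144 (RData SP exists_rdata)
open Cfsg.Agent.Lib.Helper2.BGCor (sigmaCore_le primes_card_sigmaCore)

variable {G : Type*} [Group G]

/-- the configuration of B & G 14.4(e). -/
structure GCfg (M N Ns K : Subgroup G) (x : G) : Prop where
  hG : Cfsg.IsMinSimpleOddOrder G
  hM : IsCoatom M
  rd : RData M x N
  hx : x ∈ Cfsg.sigmaCore M
  hxo : (orderOf x).Prime
  hxM : ¬ Subgroup.centralizer ({x} : Set G) ≤ M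
  root : Root N K
  hKM : K ≤ M
  hKp : (Nat.card K).Prime
  hNs : IsCoatom Ns
  hNNs : Subgroup.normalizer (K : Set G) ≤ Ns

theorem centralizer_le_centralizer_pow (x : G) (k : ℕ) :
    Subgroup.centralizer ({x} : Set G) ≤ Subgroup.centralizer ({x ^ k} : Set G) := by
  intro g hg
  rw [Subgroup.mem_centralizer_singleton_iff] at hg ⊢
  exact ((show Commute g x from hg).pow_right k).eq

/-- a Hall `π`-subgroup for a set `π` of primes dividing `|N|` nontrivially is nontrivial. -/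
theorem hall_ne_bot [Finite G] {π : Set ℕ} {K N : Subgroup G} (hK : Cfsg.IsPiHallOf π K N)
    {p : ℕ} (hp : p.Prime) (hpπ : p ∈ π) (hd : p ∣ Nat.card N) : p ∣ Nat.card K := by
  have h1 : Nat.card N = K.relIndex N * Nat.card K := by
    rw [mul_comm, Cfsg.Agent.Lib.Helper4.card_mul_relIndex hK.1]
  rw [h1] at hd
  rcases (Nat.Prime.dvd_mul hp).mp hd with h | h
  · exact absurd h (hK.2.2 p hp hpπ)
  · exact h

/-- **existence of the configuration**. -/
theorem exists_gcfg [Finite G] (hG : Cfsg.IsMinSimpleOddOrder G) {M : Subgroup G}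
    (hM : IsCoatom M) {x : G} (hx : x ∈ Cfsg.sigmaCore M) (hx1 : x ≠ 1)
    (hxM : ¬ Subgroup.centralizer ({x} : Set G) ≤ M) {N : Subgroup G} (hN : IsCoatom N)
    (hxN : Subgroup.centralizer ({x} : Set G) ≤ N) (hkN : (Cfsg.kappa N).Nonempty) :
    ∃ (j : ℕ) (Ns K : Subgroup G), GCfg M N Ns K (x ^ j) := by
  have hSP := Cfsg.Agent.Lib.Helper27.BGPCount.sp_real hG
  have h28 := Cfsg.Agent.Lib.Helper27.BGPCount.h1428_real hG
  obtain ⟨q, j, hq, hqd, hjo⟩ := Cfsg.Agent.Lib.Helper16.BGPrim.exists_pow_orderOf_prime hx1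
  have hxj : x ^ j ∈ Cfsg.sigmaCore M := Subgroup.pow_mem _ hx j
  have hxj1 : x ^ j ≠ 1 := by
    intro h
    rw [h, orderOf_one] at hjo
    exact hq.ne_one hjo.symm
  have hle := centralizer_le_centralizer_pow x j
  have hxjM : ¬ Subgroup.centralizer ({x ^ j} : Set G) ≤ M := fun h => hxM (hle.trans h)
  obtain ⟨N0, rd0⟩ := exists_rdata hG hSP h28 hM hx hx1 hxM
  have hN0 : N = N0 := rd0.uniq N hN hxN
  obtain ⟨N1, rd1⟩ := exists_rdata hG hSP h28 hM hxj hxj1 hxjM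
  have hN1 : N1 = N0 := rd0.uniq N1 rd1.coatom (hle.trans rd1.cent_le)
  rw [hN1, ← hN0] at rd1
  -- the Hall `κ(N)`-subgroup inside `M ∩ N`
  have hHallN := (Cfsg.Agent.S1350.result hG N hN).1
  obtain ⟨K1, hK1, -⟩ := Cfsg.Agent.Lib.Helper2.BGCor.exists_hall_ge hG hN (Cfsg.kappa N)
    (Y := ⊥) bot_le (by
      intro p hp hd
      rw [Subgroup.card_bot] at hd
      exact absurd (Nat.dvd_one.mp hd) hp.ne_one)
  obtain ⟨g, hgN, hgle⟩ := Cfsg.Agent.Lib.Helper2.BGCor.exists_conj_le_compl hG hN hHallN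
    rd1.compl hK1.1 (fun p hp hd => (hK1.2.1 p hp hd).2.2.1)
  obtain ⟨K, hKdef⟩ : ∃ K : Subgroup G, K = K1.map (MulAut.conj g).toMonoidHom := ⟨_, rfl⟩
  have hK : Cfsg.IsPiHallOf (Cfsg.kappa N) K N := by
    have := Cfsg.Agent.Lib.Helper23.BG146.isPiHallOf_map_conj hK1 g
    rwa [Cfsg.Agent.Lib.Helper9.BG144.map_conj_of_mem hgN, ← hKdef] at this
  have hKM : K ≤ M := hKdef ▸ hgle.trans inf_le_left
  obtain ⟨p, hpκ⟩ := hkN
  have hpK : p ∣ Nat.card K := hall_ne_bot hK hpκ.1 hpκ hpκ.2.1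
  have hKne : K ≠ ⊥ := by
    intro h
    rw [h, Subgroup.card_bot] at hpK
    exact hpκ.1.ne_one (Nat.dvd_one.mp hpK)
  have root : Root N K := ⟨hG, hN, hK, hKne⟩
  -- `U ≠ 1`
  obtain ⟨U, hKU⟩ := (Cfsg.Agent.S1352.result hG N hN K root.cyclic hK).1
  have hqτ : q ∈ Cfsg.tau2 N := rd1.tau2 q hq (by rw [hjo])
  have hqN : q ∣ Nat.card N := by
    have h1 : x ^ j ∈ N := rd1.cent_le (Cfsg.Agent.Lib.Helper9.BG144.self_mem_centralizer _)
    rw [← hjo]
    exact Subgroup.orderOf_dvd_natCard N h1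
  have hqκ : q ∉ Cfsg.kappa N := fun h =>
    hqτ.2.2.2 (Cfsg.Agent.Lib.Helper2.BGCor.pRankLE_one_of_kappa h)
  have hU1 : U ≠ ⊥ := by
    intro hU
    have hc := hKU.compl
    rw [hU] at hc
    -- `N = K ⊔ N_σ`
    have hNle : N ≤ K ⊔ Cfsg.sigmaCore N := by
      intro n hn
      obtain ⟨a, ha, b, hb, rfl⟩ := hc.2.2.2 n hn
      rw [Subgroup.mem_bot.mp ha, one_mul]
      exact hb
    have hnorm : K ≤ Subgroup.normalizer ((Cfsg.sigmaCore N : Subgroup G) : Set G) :=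
      hK.1.trans (Cfsg.Agent.Lib.Helper23.BGY.le_normalizer_sigmaCore N)
    have hcard := Cfsg.Agent.Lib.Helper4.card_sup_mul_card_inf K (Cfsg.sigmaCore N) hnorm
    have h1 : q ∣ Nat.card ↥(K ⊔ Cfsg.sigmaCore N) :=
      hqN.trans (Subgroup.card_dvd_of_le hNle)
    have h2 : q ∣ Nat.card K * Nat.card (Cfsg.sigmaCore N) := by
      rw [← hcard]
      exact h1.trans (dvd_mul_right _ _)
    rcases (Nat.Prime.dvd_mul hq).mp h2 with h | h
    · exact hqκ (hK.2.1 q hq h)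
    · exact hqτ.2.1 (primes_card_sigmaCore N q hq h)
  have hKp : (Nat.card K).Prime :=
    Cfsg.Agent.Lib.Helper20.BGAlpha.card_prime_of_U_ne_bot hG hN hKU hKne hU1
  obtain ⟨Ns, hNs, hNNs⟩ := root.exists_partner le_rfl hKp
  exact ⟨j, Ns, K, ⟨hG, hM, rd1, hxj, by rw [hjo]; exact hq, hxjM, root, hKM, hKp, hNs, hNNs⟩⟩

end Cfsg.Agent.Lib.Helper17.BG146
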