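import Mathlib
import Cfsg.Agent.Lib.Helper17.BG146B
import Cfsg.Agent.S1429

/-!
# helper17: basic facts on the configuration `GCfg` of B & G 14.4(e)

`r = |K| ∉ σ(M)`, `κ(M) = ∅`, `M ∩ N ∩ N* = K`, `K` acts regularly on `M_σ ∩ N`, `M_σ` nilpotent.
-/

set_option autoImplicit false
set_option linter.unusedSectionVars false
set_option linter.unusedVariables false
set_option linter.style.haveILetI false

namespace Cfsg.Agent.Lib.Helper17.BG146

open Cfsg.Agent.Lib.Helper8 (mem_map_conj conj_mem_map_conj map_conj_map_conj map_conj_one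
  map_conj_le_iff map_conj_eq_iff card_map_conj mem_normalizer_iff_map_conj)
open Cfsg.Agent.Lib.Helper8.BGQ (Root)
open Cfsg.Agent.Lib.Helper9.BG144 (RData SP exists_rdata)
open Cfsg.Agent.Lib.Helper2.BGCor (sigmaCore_le primes_card_sigmaCore)

variable {G : Type*} [Group G]

/-- a nonidentity element of a subgroup of prime order generates it. -/
theorem zpowers_eq_of_prime_card [Finite G] {K : Subgroup G} (hKp : (Nat.card K).Prime) {k : G}
    (hk : k ∈ K) (hk1 : k ≠ 1) : Subgroup.zpowers k = K := by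
  have hle : Subgroup.zpowers k ≤ K := Subgroup.zpowers_le.mpr hk
  apply Subgroup.eq_of_le_of_card_ge hle
  have h1 : Nat.card (Subgroup.zpowers k) ∣ Nat.card K := Subgroup.card_dvd_of_le hle
  rcases (Nat.dvd_prime hKp).mp h1 with h | h
  · rw [Nat.card_zpowers] at h
    exact absurd (orderOf_eq_one_iff.mp h) hk1
  · exact h.ge

theorem orderOf_eq_of_prime_card [Finite G] {K : Subgroup G} (hKp : (Nat.card K).Prime) {k : G}
    (hk : k ∈ K) (hk1 : k ≠ 1) : orderOf k = Nat.card K := by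
  rw [← Nat.card_zpowers, zpowers_eq_of_prime_card hKp hk hk1]

/-- `C_G(k) ≤ N_G(K)` for `k ∈ K^#`, `|K|` prime. -/
theorem centralizer_le_normalizer_of_prime_card [Finite G] {K : Subgroup G}
    (hKp : (Nat.card K).Prime) {k : G} (hk : k ∈ K) (hk1 : k ≠ 1) :
    Subgroup.centralizer ({k} : Set G) ≤ Subgroup.normalizer (K : Set G) := by
  have h1 := Cfsg.Agent.Lib.Helper8.BGPS.centralizer_singleton_le_centralizer_zpowers_pow k 1
  rw [pow_one, zpowers_eq_of_prime_card hKp hk hk1] at h1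
  exact h1.trans (Subgroup.centralizer_le_normalizer _)

theorem exists_ne_one_of_prime_card [Finite G] {K : Subgroup G} (hKp : (Nat.card K).Prime) :
    ∃ k ∈ K, k ≠ 1 := by
  have hK1 : K ≠ ⊥ := by
    intro h
    rw [h, Subgroup.card_bot] at hKp
    exact Nat.not_prime_one hKp
  exact (Subgroup.bot_or_exists_ne_one K).resolve_left hK1

namespace GCfg

variable [Finite G] {M N Ns K : Subgroup G} {x : G}

theorem hSP (c : GCfg M N Ns K x) : SP G := Cfsg.Agent.Lib.Helper27.BGPCount.sp_real c.hG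

theorem h28 (c : GCfg M N Ns K x) : Cfsg.Agent.Lib.Helper17.BGR2.H1428 G :=
  Cfsg.Agent.Lib.Helper27.BGPCount.h1428_real c.hG

theorem hx1 (c : GCfg M N Ns K x) : x ≠ 1 := by
  intro h
  have := c.hxo
  rw [h, orderOf_one] at this
  exact Nat.not_prime_one this

theorem hN (c : GCfg M N Ns K x) : IsCoatom N := c.rd.coatom

theorem q_tau2 (c : GCfg M N Ns K x) : orderOf x ∈ Cfsg.tau2 N := c.rd.tau2 _ c.hxo dvd_rfl

theorem q_sigma (c : GCfg M N Ns K x) : orderOf x ∈ Cfsg.sigma M :=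
  primes_card_sigmaCore M _ c.hxo (Subgroup.orderOf_dvd_natCard _ c.hx)

theorem x_mem_N (c : GCfg M N Ns K x) : x ∈ N :=
  c.rd.cent_le (Cfsg.Agent.Lib.Helper9.BG144.self_mem_centralizer _)

theorem x_mem_M (c : GCfg M N Ns K x) : x ∈ M := sigmaCore_le M c.hx

theorem K_le_N (c : GCfg M N Ns K x) : K ≤ N := c.root.K_le

theorem K_le_Ns (c : GCfg M N Ns K x) : K ≤ Ns := Subgroup.le_normalizer.trans c.hNNs

/-- `K* ∩ M = 1`. -/
theorem Ks_inf_M (c : GCfg M N Ns K x) :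
    (Cfsg.sigmaCore N ⊓ Subgroup.centralizer (K : Set G)) ⊓ M = ⊥ := by
  rw [eq_bot_iff, ← c.rd.inf_bot]
  exact inf_le_inf_right _ inf_le_left

theorem K_le_sigmaCore_Ns (c : GCfg M N Ns K x) : K ≤ Cfsg.sigmaCore Ns :=
  c.root.X_le_sigmaCore le_rfl c.hKp c.hNs c.hNNs

theorem r_sigma_Ns (c : GCfg M N Ns K x) : Nat.card K ∈ Cfsg.sigma Ns :=
  c.root.card_mem_sigma le_rfl c.hKp c.hNs c.hNNs

theorem cent_le_Ns (c : GCfg M N Ns K x) {k : G} (hk : k ∈ K) (hk1 : k ≠ 1) :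
    Subgroup.centralizer ({k} : Set G) ≤ Ns :=
  (centralizer_le_normalizer_of_prime_card c.hKp hk hk1).trans c.hNNs

/-- `r = |K| ∉ σ(M)`. -/
theorem r_not_sigma (c : GCfg M N Ns K x) : Nat.card K ∉ Cfsg.sigma M := by
  intro hr
  haveI : Fact (Nat.card K).Prime := ⟨c.hKp⟩
  have hKσ : K ≤ Cfsg.sigmaCore M :=
    Cfsg.Agent.Lib.Helper16.BGPrim.le_sigmaCore_of_isPGroup c.hG c.hM hr
      (IsPGroup.of_card (n := 1) (by rw [pow_one])) c.hKM
  obtain ⟨k, hk, hk1⟩ := exists_ne_one_of_prime_card c.hKp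
  obtain ⟨b, hb, hb1⟩ := (Subgroup.bot_or_exists_ne_one _).resolve_left c.root.Ks_ne_bot
  have hbk : b ∈ Subgroup.centralizer ({k} : Set G) := by
    rw [Subgroup.mem_centralizer_singleton_iff]
    exact (c.root.comm_K_Ks k hk b hb).symm
  have hkM : ¬ Subgroup.centralizer ({k} : Set G) ≤ M := by
    intro h
    have : b ∈ (Cfsg.sigmaCore N ⊓ Subgroup.centralizer (K : Set G)) ⊓ M :=
      Subgroup.mem_inf.mpr ⟨hb, h hbk⟩
    rw [c.Ks_inf_M, Subgroup.mem_bot] at this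
    exact hb1 this
  obtain ⟨N2, rd2⟩ := exists_rdata c.hG c.hSP c.h28 c.hM (hKσ hk) hk1 hkM
  have hN2 : Ns = N2 := rd2.uniq Ns c.hNs (c.cent_le_Ns hk hk1)
  have hτ := rd2.tau2 (Nat.card K) c.hKp (by rw [orderOf_eq_of_prime_card c.hKp hk hk1])
  rw [← hN2] at hτ
  exact hτ.2.1 c.r_sigma_Ns

/-- **`κ(M) = ∅`**. -/
theorem kappa_M (c : GCfg M N Ns K x) : Cfsg.kappa M = ∅ := by
  by_contra hne
  have hne' : (Cfsg.kappa M).Nonempty := Set.nonempty_iff_ne_empty.mpr hne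
  obtain ⟨U, hKU⟩ := (Cfsg.Agent.S1352.result c.hG N c.hN K c.root.cyclic c.root.hK).1
  have h69 := (Cfsg.Agent.S1369.result c.hG N c.hN K U hKU c.root.hK1 Ns c.hNs
    (c.root.K_eq le_rfl c.hKp c.hNs c.hNNs) (c.root.Ks_hall le_rfl c.hKp c.hNs c.hNNs)).2
    M c.hM hne'
  obtain ⟨g, hg | hg⟩ := h69
  · have h1 := c.q_sigma
    rw [hg, Cfsg.Agent.Lib.Helper9.BG144.sigma_map_conj_iff] at h1
    exact c.q_tau2.2.1 h1
  · have h1 := c.r_sigma_Ns
    rw [← Cfsg.Agent.Lib.Helper9.BG144.sigma_map_conj_iff g, ← hg] at h1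
    exact c.r_not_sigma h1

/-- `M ∩ N ∩ N* = K`. -/
theorem inf3 (c : GCfg M N Ns K x) : M ⊓ (N ⊓ Ns) = K := by
  obtain ⟨Y, hYT, hYq⟩ := c.root.exists_Y
  rw [c.root.inf_eq le_rfl c.hKp c.hNs c.hNNs hYT hYq]
  apply le_antisymm
  · intro z hz
    obtain ⟨e, he, b, hb, rfl⟩ :=
      Cfsg.Agent.Lib.Helper8.BGPS.exists_mul_of_mem_sup_of_commute c.root.comm_K_Ks hz.2
    have hbM : b ∈ M := by
      have : b = e⁻¹ * (e * b) := by group
      rw [this]
      exact M.mul_mem (M.inv_mem (c.hKM he)) hz.1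
    have : b ∈ (Cfsg.sigmaCore N ⊓ Subgroup.centralizer (K : Set G)) ⊓ M :=
      Subgroup.mem_inf.mpr ⟨hb, hbM⟩
    rw [c.Ks_inf_M, Subgroup.mem_bot] at this
    rw [this, mul_one]
    exact he
  · exact le_inf c.hKM le_sup_left

theorem K_inf_sigmaCore_M (c : GCfg M N Ns K x) : K ⊓ Cfsg.sigmaCore M = ⊥ := by
  apply Disjoint.eq_bot
  apply Subgroup.disjoint_of_coprime_natCard
  rw [Nat.Prime.coprime_iff_not_dvd c.hKp]
  intro hd
  exact c.r_not_sigma (primes_card_sigmaCore M _ c.hKp hd)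

/-- `K` acts regularly on `M_σ ∩ N`. -/
theorem reg (c : GCfg M N Ns K x) {k a : G} (hk : k ∈ K) (hk1 : k ≠ 1)
    (ha : a ∈ Cfsg.sigmaCore M) (haN : a ∈ N) (hka : k * a = a * k) : a = 1 := by
  have haNs : a ∈ Ns := by
    apply c.cent_le_Ns hk hk1
    rw [Subgroup.mem_centralizer_singleton_iff]
    exact hka.symm
  have haK : a ∈ K := by
    rw [← c.inf3]
    exact Subgroup.mem_inf.mpr ⟨sigmaCore_le M ha, Subgroup.mem_inf.mpr ⟨haN, haNs⟩⟩
  have : a ∈ K ⊓ Cfsg.sigmaCore M := Subgroup.mem_inf.mpr ⟨haK, ha⟩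
  rw [c.K_inf_sigmaCore_M, Subgroup.mem_bot] at this
  exact this

theorem r_dvd_M (c : GCfg M N Ns K x) : Nat.card K ∣ Nat.card M := Subgroup.card_dvd_of_le c.hKM

/-- `M_σ` is nilpotent. -/
theorem nil (c : GCfg M N Ns K x) : Group.IsNilpotent (Cfsg.sigmaCore M) := by
  haveI : Fact (Nat.card K).Prime := ⟨c.hKp⟩
  obtain ⟨S⟩ : Nonempty (Sylow (Nat.card K) ↥M) := inferInstance
  refine (Cfsg.Agent.S1429.result c.hG M c.hM ?_ (Nat.card K) c.r_dvd_M ?_ S).2.2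
  · intro h
    have := h (Nat.card K) c.hKp c.r_dvd_M c.r_not_sigma
    rw [c.kappa_M] at this
    exact this
  · rintro (h | h)
    · exact c.r_not_sigma h
    · rw [c.kappa_M] at h
      exact h

end GCfg

end Cfsg.Agent.Lib.Helper17.BG146
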