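import Mathlib
import Cfsg.Agent.Lib.Helper17.BG146C
import Cfsg.Agent.Lib.Helper17.FrobCount2
import Cfsg.Agent.Lib.Helper16.BGLemN
import Cfsg.Agent.Lib.Helper16.BGPrimC
import Cfsg.Agent.Lib.Helper24.BGRegB
import Cfsg.Agent.S1408

/-!
# helper17: `Z₁ = Ω₁(Z(O_q(M)))` and the intersection `M ∩ M^y ≤ N` (`y ∈ K*^#`) in `GCfg`
-/

set_option autoImplicit false
set_option linter.unusedSectionVars false
set_option linter.unusedVariables false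
set_option linter.style.haveILetI false

namespace Cfsg.Agent.Lib.Helper17.BG146

open Cfsg.Agent.Lib.Helper8 (mem_map_conj conj_mem_map_conj map_conj_map_conj map_conj_one
  map_conj_le_iff map_conj_eq_iff card_map_conj mem_normalizer_iff_map_conj)
open Cfsg.Agent.Lib.Helper8.BGQ (Root)
open Cfsg.Agent.Lib.Helper9.BG144 (RData SP exists_rdata)
open Cfsg.Agent.Lib.Helper2.BGCor (sigmaCore_le primes_card_sigmaCore)
open Cfsg.Agent.Lib.Helper16.BGLemN (omegaZ mem_omegaZ omegaZ_le omegaZ_elemAb omegaZ_ne_bot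
  normalizer_le_normalizer_omegaZ)

variable {G : Type*} [Group G]

namespace GCfg

variable [Finite G] {M N Ns K : Subgroup G} {x : G}

/-- the subgroup `Z₁ = Ω₁(Z(O_q(M)))`: normal in `M`, inside `M_σ ∩ N`, of order at most `q²`. -/
theorem exists_Z1 (c : GCfg M N Ns K x) : ∃ Z1 : Subgroup G, Z1 ≠ ⊥ ∧ Z1 ≤ Cfsg.sigmaCore M ∧
    Z1 ≤ N ∧ Subgroup.normalizer (Z1 : Set G) = M ∧
    Cfsg.IsElementaryAbelian (orderOf x) Z1 ∧ Nat.card Z1 ≤ orderOf x ^ 2 := by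
  haveI : Fact (orderOf x).Prime := ⟨c.hxo⟩
  haveI := c.hG.2.1
  have hG := c.hG
  obtain ⟨Q, hQ, hQn⟩ := Cfsg.Agent.Lib.Helper16.BGPrim.exists_normal_isSylIn hG c.hM c.nil c.q_sigma
  have hQ1 : Q ≠ ⊥ := Cfsg.Agent.Lib.Helper16.BGPrim.isSylIn_ne_bot hQ c.q_sigma.2.1
  have hQp : IsPGroup (orderOf x) Q := hQ.isPGroup
  obtain ⟨Z1, hZ1def⟩ : ∃ Z1 : Subgroup G, Z1 = omegaZ (orderOf x) Q := ⟨_, rfl⟩
  have hZ1Q : Z1 ≤ Q := hZ1def ▸ omegaZ_le _ Q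
  have hZ11 : Z1 ≠ ⊥ := hZ1def ▸ omegaZ_ne_bot hQp hQ1
  have hZ1e : Cfsg.IsElementaryAbelian (orderOf x) Z1 := hZ1def ▸ omegaZ_elemAb _ Q
  have hZ1M : Z1 ≤ M := hZ1Q.trans hQ.1
  have hMn : M ≤ Subgroup.normalizer (Z1 : Set G) :=
    hZ1def ▸ hQn.trans (normalizer_le_normalizer_omegaZ _ Q)
  have hnorm := Cfsg.Agent.Lib.Helper17.BGU.normalizer_eq_of_coatom c.hM hZ1M hZ11 hMn
  have hZ1p : IsPGroup (orderOf x) Z1 := hQp.to_le hZ1Q
  have hZ1σ : Z1 ≤ Cfsg.sigmaCore M :=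
    Cfsg.Agent.Lib.Helper16.BGPrim.le_sigmaCore_of_isPGroup hG c.hM c.q_sigma hZ1p hZ1M
  -- the elementary abelian subgroup `A` of order `q²` of `M ∩ N`
  obtain ⟨A, hAD, hAe, hAc⟩ :=
    Cfsg.Agent.Lib.Helper24.BGReg.exists_elemAb_le_compl hG c.hN c.rd.compl c.q_tau2
  have hAp : IsPGroup (orderOf x) A := IsPGroup.of_card hAc
  have hAM : A ≤ M := hAD.trans inf_le_left
  have hAN : A ≤ N := hAD.trans inf_le_right
  have hAQ : A ≤ Q := by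
    obtain ⟨S, hS, hAS⟩ := Cfsg.Agent.Lib.Helper8.BGEx.exists_isSylIn_ge hAp hAM
    rw [Cfsg.Agent.Lib.Helper16.BGPrim.isSylIn_eq_of_normal hQ hQn hS] at hAS
    exact hAS
  have hcomm : ∀ a ∈ A, ∀ z ∈ Z1, a * z = z * a := by
    intro a ha z hz
    rw [hZ1def, mem_omegaZ] at hz
    exact Subgroup.mem_centralizer_iff.mp hz.2.1 a (hAQ ha)
  have hsup := elemAb_sup hAe hZ1e hcomm
  have hτ := c.q_tau2
  have heq := (Cfsg.Agent.S1408.result hG N c.hN (orderOf x) hτ.2.1 hτ.2.2.1 hτ.2.2.2).2 A hAN hAe hAc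
    (A ⊔ Z1) hsup le_sup_left
  have hZ1A : Z1 ≤ A := by
    rw [← heq]
    exact le_sup_right
  refine ⟨Z1, hZ11, hZ1σ, hZ1A.trans hAN, hnorm, hZ1e, ?_⟩
  rw [← hAc]
  exact Subgroup.card_le_of_le hZ1A

/-- `q ∤ |N_σ|`. -/
theorem q_coprime_sigmaCore_N (c : GCfg M N Ns K x) :
    (orderOf x).Coprime (Nat.card (Cfsg.sigmaCore N)) := by
  rw [Nat.Prime.coprime_iff_not_dvd c.hxo]
  intro hd
  exact c.q_tau2.2.1 (primes_card_sigmaCore N _ c.hxo hd)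

/-- `r ∤ |N_σ|`. -/
theorem r_coprime_sigmaCore_N (c : GCfg M N Ns K x) :
    (Nat.card K).Coprime (Nat.card (Cfsg.sigmaCore N)) := c.root.coprime_K

end GCfg

end Cfsg.Agent.Lib.Helper17.BG146
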