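import Mathlib
import Cfsg.Agent.Lib.Helper17.BG146D
import Cfsg.Agent.Lib.Helper9.BG144B

/-!
# helper17: `M ∩ M^y ≤ N` for `y ∈ K*^#` in the configuration `GCfg`
-/

set_option autoImplicit false
set_option linter.unusedSectionVars false
set_option linter.unusedVariables false
set_option linter.style.haveILetI false

namespace Cfsg.Agent.Lib.Helper17.BG146

open Cfsg.Agent.Lib.Helper8 (mem_map_conj conj_mem_map_conj map_conj_map_conj map_conj_one
  map_conj_le_iff map_conj_eq_iff card_map_conj mem_normalizer_iff_map_conj)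
open Cfsg.Agent.Lib.Helper8.BGQ (Root)
open Cfsg.Agent.Lib.Helper9.BG144 (RData SP exists_rdata mem_normalizer_sup)
open Cfsg.Agent.Lib.Helper2.BGCor (sigmaCore_le primes_card_sigmaCore)

variable {G : Type*} [Group G]

namespace GCfg

variable [Finite G] {M N Ns K : Subgroup G} {x : G}

/-- **(✦)** `M ∩ M^y ≤ N` for `y ∈ K*^#`. -/
theorem inf_conj_le (c : GCfg M N Ns K x) {y : G}
    (hy : y ∈ Cfsg.sigmaCore N ⊓ Subgroup.centralizer (K : Set G)) (hy1 : y ≠ 1) :
    M ⊓ M.map (MulAut.conj y).toMonoidHom ≤ N := by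
  have hG := c.hG
  obtain ⟨Z1, hZ11, hZ1σ, hZ1N, hnorm, hZ1e, hZ1c⟩ := c.exists_Z1
  haveI : Fact (orderOf x).Prime := ⟨c.hxo⟩
  obtain ⟨Zy, hZydef⟩ : ∃ Zy : Subgroup G, Zy = Z1.map (MulAut.conj y).toMonoidHom := ⟨_, rfl⟩
  obtain ⟨J, hJdef⟩ : ∃ J : Subgroup G, J = Z1 ⊔ Zy := ⟨_, rfl⟩
  have hyσ : y ∈ Cfsg.sigmaCore N := hy.1
  have hyN : y ∈ N := sigmaCore_le N hyσ
  have hZyN : Zy ≤ N := by
    rw [hZydef]
    rintro _ ⟨z, hz, rfl⟩
    exact N.mul_mem (N.mul_mem hyN (hZ1N hz)) (N.inv_mem hyN)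
  have hJN : J ≤ N := hJdef ▸ sup_le hZ1N hZyN
  have hZ1J : Z1 ≤ J := hJdef ▸ le_sup_left
  have hZyJ : Zy ≤ J := hJdef ▸ le_sup_right
  have hyK : ∀ k ∈ K, k * y = y * k := fun k hk => c.root.comm_K_Ks k hk y hy
  have hσn := Cfsg.Agent.Lib.Helper23.BGY.le_normalizer_sigmaCore N
  -- the normalizers
  have hKnZ1 : K ≤ Subgroup.normalizer (Z1 : Set G) := hnorm ▸ c.hKM
  have hKnZy : K ≤ Subgroup.normalizer (Zy : Set G) := by
    intro k hk
    rw [mem_normalizer_iff_map_conj, hZydef, map_conj_map_conj, hyK k hk, ← map_conj_map_conj,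
      mem_normalizer_iff_map_conj.mp (hKnZ1 hk)]
  have hKnJ : K ≤ Subgroup.normalizer (J : Set G) := fun k hk =>
    hJdef ▸ mem_normalizer_sup (hKnZ1 hk) (hKnZy hk)
  -- the key claim
  have hw : ∃ w ∈ J ⊓ (Cfsg.sigmaCore N ⊓ Subgroup.centralizer (K : Set G)), w ≠ 1 := by
    by_contra hno
    push Not at hno
    obtain ⟨V, hVdef⟩ : ∃ V : Subgroup G, V = J ⊓ Cfsg.sigmaCore N := ⟨_, rfl⟩
    have hVJ : V ≤ J := hVdef ▸ inf_le_left
    have hVσ : V ≤ Cfsg.sigmaCore N := hVdef ▸ inf_le_right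
    have hUn : ∀ e ∈ K, ∀ u ∈ Z1, e * u * e⁻¹ ∈ Z1 := fun e he u hu =>
      (Subgroup.mem_normalizer_iff.mp (hKnZ1 he) u).mp hu
    have hfpf : ∀ e ∈ K, e ≠ 1 → ∀ u ∈ Z1, e * u = u * e → u = 1 := fun e he he1 u hu h =>
      c.reg he he1 (hZ1σ hu) (hZ1N hu) h
    have hnV : Z1 ⊔ K ≤ Subgroup.normalizer (V : Set G) := by
      rw [hVdef]
      refine le_trans ?_ Subgroup.inf_normalizer_le_normalizer_inf
      refine sup_le (le_inf (hZ1J.trans Subgroup.le_normalizer) (hZ1N.trans hσn))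
        (le_inf hKnJ (c.K_le_N.trans hσn))
    have hHn : ∀ a ∈ Z1 ⊔ K, ∀ h ∈ V, a * h * a⁻¹ ∈ V := fun a ha h hh =>
      (Subgroup.mem_normalizer_iff.mp (hnV ha) h).mp hh
    have hsolvN : Group.IsSolvable ↥N := hG.2.2.2 N c.hN.1
    have hsolv : Group.IsSolvable ↥V :=
      Group.isSolvable_of_isSolvable_injective (Subgroup.inclusion_injective (hVJ.trans hJN))
    have hcop : Nat.Coprime (Nat.card V) (Nat.card ↥(Z1 ⊔ K)) := by
      have h1 : Nat.card ↥(K ⊔ Z1) ∣ Nat.card K * Nat.card Z1 := by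
        have := Cfsg.Agent.Lib.Helper4.card_sup_mul_card_inf K Z1 hKnZ1
        rw [← this]
        exact dvd_mul_right _ _
      have hZ1p : IsPGroup (orderOf x) Z1 := by
        intro z
        refine ⟨1, ?_⟩
        rw [pow_one]
        exact Subtype.ext (by simpa using hZ1e.2 z z.2)
      obtain ⟨a, ha⟩ := IsPGroup.iff_card.mp hZ1p
      have h2 : (Nat.card (Cfsg.sigmaCore N)).Coprime (Nat.card K * Nat.card Z1) := by
        apply Nat.Coprime.mul_right c.r_coprime_sigmaCore_N.symm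
        rw [ha]
        exact (c.q_coprime_sigmaCore_N.symm).pow_right a
      rw [sup_comm]
      exact Nat.Coprime.coprime_dvd_left (Subgroup.card_dvd_of_le hVσ)
        (Nat.Coprime.coprime_dvd_right h1 h2)
    have hf := Cfsg.Agent.Lib.Helper17.FrobCount.formula_aux Z1 K c.root.hK1 hUn hfpf _ V rfl hHn
      hsolv hcop
    have hCK : V ⊓ Subgroup.centralizer (K : Set G) = ⊥ := by
      rw [eq_bot_iff]
      intro v hv
      rw [Subgroup.mem_bot]
      exact hno v (Subgroup.mem_inf.mpr ⟨hVJ hv.1, Subgroup.mem_inf.mpr ⟨hVσ hv.1, hv.2⟩⟩)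
    have hCZK : V ⊓ Subgroup.centralizer ((Z1 ⊔ K : Subgroup G) : Set G) = ⊥ := by
      rw [eq_bot_iff, ← hCK]
      exact inf_le_inf_left _ (Subgroup.centralizer_le (show (K : Set G) ⊆ ((Z1 ⊔ K : Subgroup G) : Set G) from
        fun a ha => (le_sup_right : K ≤ Z1 ⊔ K) ha))
    rw [hCK, hCZK, Subgroup.card_bot, one_pow, one_mul, one_mul] at hf
    have hVC : V ≤ Subgroup.centralizer (Z1 : Set G) := by
      have h1 : V ⊓ Subgroup.centralizer (Z1 : Set G) = V :=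
        Subgroup.eq_of_le_of_card_ge inf_le_left hf.le
      rw [← h1]
      exact inf_le_right
    -- `y` centralizes `Z1`
    have hyZ : ∀ z ∈ Z1, y * z = z * y := by
      intro z hz
      obtain ⟨v, hvdef⟩ : ∃ v : G, v = y * z * y⁻¹ * z⁻¹ := ⟨_, rfl⟩
      have hvJ : v ∈ J := by
        rw [hvdef]
        refine J.mul_mem (hZyJ ?_) (J.inv_mem (hZ1J hz))
        rw [hZydef]
        exact conj_mem_map_conj hz
      have hvσ : v ∈ Cfsg.sigmaCore N := by
        have e : v = y * (z * y⁻¹ * z⁻¹) := by rw [hvdef]; group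
        rw [e]
        refine Subgroup.mul_mem _ hyσ ?_
        exact (Subgroup.mem_normalizer_iff.mp (hσn (hZ1N hz)) y⁻¹).mp (Subgroup.inv_mem _ hyσ)
      have hvV : v ∈ V := hVdef ▸ Subgroup.mem_inf.mpr ⟨hvJ, hvσ⟩
      have hvz : z * v = v * z := Subgroup.mem_centralizer_iff.mp (hVC hvV) z hz
      have hyz : y * z * y⁻¹ = v * z := by rw [hvdef]; group
      have hzq : z ^ orderOf x = 1 := hZ1e.2 z hz
      have h1 : (y * z * y⁻¹) ^ orderOf x = 1 := by
        rw [conj_pow, hzq]; group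
      rw [hyz, (show Commute v z from hvz.symm).mul_pow, hzq, mul_one] at h1
      have hv1 : v = 1 := by
        have h2 : orderOf v ∣ orderOf x := orderOf_dvd_of_pow_eq_one h1
        have h3 : orderOf v ∣ Nat.card (Cfsg.sigmaCore N) := Subgroup.orderOf_dvd_natCard _ hvσ
        exact orderOf_eq_one_iff.mp (Nat.eq_one_of_dvd_coprimes c.q_coprime_sigmaCore_N h2 h3)
      rw [hv1, one_mul] at hyz
      have := congrArg (· * y) hyz
      simpa [mul_assoc] using this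
    have hyM : y ∈ M := by
      rw [← hnorm]
      apply Subgroup.centralizer_le_normalizer
      rw [Subgroup.mem_centralizer_iff]
      intro z hz
      exact (hyZ z hz).symm
    have : y ∈ (Cfsg.sigmaCore N ⊓ Subgroup.centralizer (K : Set G)) ⊓ M :=
      Subgroup.mem_inf.mpr ⟨hy, hyM⟩
    rw [c.Ks_inf_M, Subgroup.mem_bot] at this
    exact hy1 this
  obtain ⟨w, hw, hw1⟩ := hw
  intro g hg
  have hgZ1 : g ∈ Subgroup.normalizer (Z1 : Set G) := hnorm ▸ hg.1
  have hgZy : g ∈ Subgroup.normalizer (Zy : Set G) := by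
    have h1 : y⁻¹ * g * y ∈ Subgroup.normalizer (Z1 : Set G) := hnorm ▸ mem_map_conj.mp hg.2
    rw [mem_normalizer_iff_map_conj] at h1 ⊢
    have e : g * y = y * (y⁻¹ * g * y) := by group
    rw [hZydef, map_conj_map_conj, e, ← map_conj_map_conj, h1]
  have hgJ : g ∈ Subgroup.normalizer (J : Set G) := hJdef ▸ mem_normalizer_sup hgZ1 hgZy
  have hgw : g * w * g⁻¹ ∈ N := hJN ((Subgroup.mem_normalizer_iff.mp hgJ w).mp hw.1)
  by_contra hgN
  have hgN' : g⁻¹ ∉ N := fun h => hgN (inv_inv g ▸ N.inv_mem h)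
  have h1 := c.root.c1431.1 g⁻¹ hgN'
  have h2 : w ∈ (Cfsg.sigmaCore N ⊓ Subgroup.centralizer (K : Set G)) ⊓
      N.map (MulAut.conj g⁻¹).toMonoidHom := by
    refine Subgroup.mem_inf.mpr ⟨hw.2, ?_⟩
    rw [mem_map_conj, inv_inv]
    exact hgw
  rw [h1, Subgroup.mem_bot] at h2
  exact hw1 h2

end GCfg

end Cfsg.Agent.Lib.Helper17.BG146
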