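import Mathlib
import Cfsg.Agent.Lib.Helper17.BG146E
import Cfsg.Agent.Lib.Helper23.BG1215A
import Cfsg.Agent.Lib.Helper24.BGRegE
import Cfsg.Agent.S1417
import Cfsg.Agent.S1418

/-!
# helper17: preparation for `τ₂(M) = ∅` in the configuration `GCfg`
-/

set_option autoImplicit false
set_option linter.unusedSectionVars false
set_option linter.unusedVariables false
set_option linter.style.haveILetI false

namespace Cfsg.Agent.Lib.Helper17.BG146

open Cfsg.Agent.Lib.Helper8 (mem_map_conj conj_mem_map_conj map_conj_map_conj map_conj_one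
  map_conj_le_iff map_conj_eq_iff card_map_conj mem_normalizer_iff_map_conj)
open Cfsg.Agent.Lib.Helper8.BGQ (Root)
open Cfsg.Agent.Lib.Helper9.BG144 (RData SP exists_rdata mem_normalizer_sup)
open Cfsg.Agent.Lib.Helper2.BGCor (sigmaCore_le primes_card_sigmaCore)

variable {G : Type*} [Group G]

/-- an element commuting with a nonidentity element of a subgroup of prime order commutes with the
whole subgroup. -/
theorem comm_of_comm_gen [Finite G] {K : Subgroup G} (hKp : (Nat.card K).Prime) {e u : G}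
    (he : e ∈ K) (he1 : e ≠ 1) (h : e * u = u * e) : ∀ k ∈ K, k * u = u * k := by
  intro k hk
  rw [← zpowers_eq_of_prime_card hKp he he1] at hk
  obtain ⟨n, rfl⟩ := Subgroup.mem_zpowers_iff.mp hk
  exact ((show Commute e u from h).zpow_left n).eq

/-- in the situation of 14.4 with `x` of prime order, `N_G(⟨x⟩) ≤ N`. -/
theorem normalizer_zpowers_le [Finite G] (hG : Cfsg.IsMinSimpleOddOrder G) {M N : Subgroup G}
    {x : G} (rd : RData M x N) (hxo : (orderOf x).Prime) :
    Subgroup.normalizer ((Subgroup.zpowers x : Subgroup G) : Set G) ≤ N := by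
  haveI := hG.2.1
  intro g hg
  have hXp : (Nat.card (Subgroup.zpowers x)).Prime := by rw [Nat.card_zpowers]; exact hxo
  have hx1 : x ≠ 1 := by
    intro h
    rw [h, orderOf_one] at hxo
    exact Nat.not_prime_one hxo
  -- `N^g ⊇ C(x)`
  have hle : Subgroup.centralizer ({x} : Set G) ≤ N.map (MulAut.conj g).toMonoidHom := by
    intro h hh
    rw [mem_map_conj]
    apply rd.cent_le
    have hg' : g⁻¹ ∈ Subgroup.normalizer ((Subgroup.zpowers x : Subgroup G) : Set G) :=
      Subgroup.inv_mem _ hg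
    have hy0 : g⁻¹ * x * g ∈ Subgroup.zpowers x := by
      have := (Subgroup.mem_normalizer_iff.mp hg' x).mp (Subgroup.mem_zpowers x)
      rwa [inv_inv] at this
    have hy01 : g⁻¹ * x * g ≠ 1 := by
      intro h1
      apply hx1
      have : x = g * (g⁻¹ * x * g) * g⁻¹ := by group
      rw [this, h1]; group
    have hcomm : (g⁻¹ * x * g) * (g⁻¹ * h * g) = (g⁻¹ * h * g) * (g⁻¹ * x * g) := by
      rw [Subgroup.mem_centralizer_singleton_iff] at hh
      calc (g⁻¹ * x * g) * (g⁻¹ * h * g) = g⁻¹ * (x * h) * g := by group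
        _ = g⁻¹ * (h * x) * g := by rw [hh]
        _ = (g⁻¹ * h * g) * (g⁻¹ * x * g) := by group
    have := comm_of_comm_gen hXp hy0 hy01 hcomm x (Subgroup.mem_zpowers x)
    rw [Subgroup.mem_centralizer_singleton_iff]
    exact this.symm
  have heq := rd.uniq _ (Cfsg.Agent.Lib.Helper17.BGU.isCoatom_map_conj g rd.coatom) hle
  have hNn : Subgroup.normalizer (N : Set G) = N := by
    apply Cfsg.Agent.Lib.Helper17.BGU.normalizer_eq_of_coatom rd.coatom le_rfl _ Subgroup.le_normalizer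
    intro h
    have : x ∈ N := rd.cent_le (Cfsg.Agent.Lib.Helper9.BG144.self_mem_centralizer _)
    rw [h, Subgroup.mem_bot] at this
    exact hx1 this
  rw [← hNn, mem_normalizer_iff_map_conj]
  exact heq

namespace GCfg

variable [Finite G] {M N Ns K : Subgroup G} {x : G}

/-- `τ₂(M) ∩ σ(N) = ∅` (B & G 12.15(e) and S1408). -/
theorem not_sigma_N_of_tau2 (hG : Cfsg.IsMinSimpleOddOrder G) (hM : IsCoatom M)
    (rd : RData M x N) (hx : x ∈ Cfsg.sigmaCore M) (hxo : (orderOf x).Prime) {s : ℕ}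
    (hs : s ∈ Cfsg.tau2 M) : s ∉ Cfsg.sigma N := by
  intro hsN
  haveI : Fact (orderOf x).Prime := ⟨hxo⟩
  haveI : Fact s.Prime := ⟨hs.1⟩
  have hx1 : x ≠ 1 := by
    intro h
    rw [h, orderOf_one] at hxo
    exact Nat.not_prime_one hxo
  have hqM : orderOf x ∈ Cfsg.sigma M :=
    primes_card_sigmaCore M _ hxo (Subgroup.orderOf_dvd_natCard _ hx)
  have hqN : orderOf x ∉ Cfsg.sigma N := (rd.tau2 _ hxo dvd_rfl).2.1
  have hXq : IsPGroup (orderOf x) (Subgroup.zpowers x) :=
    IsPGroup.of_card (n := 1) (by rw [Nat.card_zpowers, pow_one])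
  have hX1 : Subgroup.zpowers x ≠ ⊥ := by
    intro h
    have : x ∈ (⊥ : Subgroup G) := h ▸ Subgroup.mem_zpowers x
    exact hx1 (Subgroup.mem_bot.mp this)
  have hXM : Subgroup.zpowers x ≤ M := Subgroup.zpowers_le.mpr (sigmaCore_le M hx)
  have hsM : s ∣ Nat.card M := Cfsg.Agent.Lib.Helper8.BGPS.dvd_card_of_not_pRankLE_one hs.1 hs.2.2.2
  have hβ := Cfsg.Agent.Lib.Helper23.BG1215.thm12_15e2 hG hM rd.coatom rd.ne hqM hqN hXq hX1 hXM
    (normalizer_zpowers_le hG rd hxo) hsM hsN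
  exact (Cfsg.Agent.S1408.result hG M hM s hs.2.1 hs.2.2.1 hs.2.2.2).1 hβ.2

theorem s_not_sigma_N (c : GCfg M N Ns K x) {s : ℕ} (hs : s ∈ Cfsg.tau2 M) :
    s ∉ Cfsg.sigma N := not_sigma_N_of_tau2 c.hG c.hM c.rd c.hx c.hxo hs

/-- `κ(N*) ⊆ σ(N)`. -/
theorem kappa_Ns_sub (c : GCfg M N Ns K x) {s : ℕ} (hs : s ∈ Cfsg.kappa Ns) :
    s ∈ Cfsg.sigma N := by
  have hhall := c.root.Ks_hall le_rfl c.hKp c.hNs c.hNNs
  have h1 := hall_ne_bot hhall hs.1 hs hs.2.1
  exact primes_card_sigmaCore N s hs.1 (h1.trans (Subgroup.card_dvd_of_le inf_le_left))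

/-- an element of order `s` of `B`. -/
theorem orderOf_of_elemAb {s : ℕ} (hs : s.Prime) {B : Subgroup G}
    (hBe : Cfsg.IsElementaryAbelian s B) {b : G} (hb : b ∈ B) (hb1 : b ≠ 1) : orderOf b = s := by
  have h1 : orderOf b ∣ s := orderOf_dvd_of_pow_eq_one (hBe.2 b hb)
  rcases (Nat.dvd_prime hs).mp h1 with h | h
  · exact absurd (orderOf_eq_one_iff.mp h) hb1
  · exact h

end GCfg

end Cfsg.Agent.Lib.Helper17.BG146
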