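import Mathlib
import Cfsg.Agent.Lib.Helper17.BG146F

/-!
# helper17: the complement `E ⊇ K`, the subgroup `B ∈ E_s²(E)` and `b ∈ C_B(K)^#` in `GCfg`
-/

set_option autoImplicit false
set_option linter.unusedSectionVars false
set_option linter.unusedVariables false
set_option linter.style.haveILetI false

namespace Cfsg.Agent.Lib.Helper17.BG146

open Cfsg.Agent.Lib.Helper8 (mem_map_conj conj_mem_map_conj map_conj_map_conj map_conj_one
  map_conj_le_iff map_conj_eq_iff card_map_conj mem_normalizer_iff_map_conj)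
open Cfsg.Agent.Lib.Helper8.BGQ (Root)
open Cfsg.Agent.Lib.Helper9.BG144 (RData SP exists_rdata mem_normalizer_sup)
open Cfsg.Agent.Lib.Helper2.BGCor (sigmaCore_le primes_card_sigmaCore)

variable {G : Type*} [Group G]

namespace GCfg

variable [Finite G] {M N Ns K : Subgroup G} {x : G}

/-- a complement of `M_σ` containing `K`. -/
theorem exists_compl_ge (c : GCfg M N Ns K x) :
    ∃ E : Subgroup G, Cfsg.IsComplIn E (Cfsg.sigmaCore M) M ∧ K ≤ E := by
  have hG := c.hG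
  have hHall := (Cfsg.Agent.S1350.result hG M c.hM).1
  obtain ⟨E0, hE0⟩ := Cfsg.Agent.Lib.Helper2.BGCor.exists_compl_sigmaCore hHall
  obtain ⟨g, hgM, hgle⟩ := Cfsg.Agent.Lib.Helper2.BGCor.exists_conj_le_compl hG c.hM hHall hE0
    c.hKM (by
      intro p hp hd
      rw [(Nat.prime_dvd_prime_iff_eq hp c.hKp).mp hd]
      exact c.r_not_sigma)
  refine ⟨E0.map (MulAut.conj g⁻¹).toMonoidHom,
    Cfsg.Agent.Lib.Helper23.BGY.isComplIn_conj (Cfsg.Agent.Lib.Helper23.BGY.le_normalizer_sigmaCore M)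
      hE0 (M.inv_mem hgM), ?_⟩
  exact map_conj_le_iff.mp hgle

/-- `C_{M_σ}(K) = 1` when `r ∉ τ₂(M)`. -/
theorem cent_K_of_not_tau2 (c : GCfg M N Ns K x) (hr : Nat.card K ∉ Cfsg.tau2 M) {a : G}
    (ha : a ∈ Cfsg.sigmaCore M) (hKa : ∀ k ∈ K, k * a = a * k) : a = 1 := by
  by_contra ha1
  have hrk : Cfsg.PRankLE (Nat.card K) 1 ↥M := by
    by_contra h
    exact hr (Cfsg.Agent.Lib.Helper23.BGY.mem_tau2_of_not_rank_one c.hG c.hM c.hKp c.r_not_sigma h)
  obtain ⟨k, hk, hk1⟩ := exists_ne_one_of_prime_card c.hKp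
  have := Cfsg.Agent.Lib.Helper24.BGReg.mem_kappa_of_fixed c.hG c.hKp c.r_not_sigma hrk (c.hKM hk)
    (orderOf_eq_of_prime_card c.hKp hk hk1) ha ha1 (hKa k hk)
  rw [c.kappa_M] at this
  exact this

/-- the data `E ⊇ K`, `B ∈ E_s²(E)`, `b ∈ C_B(K)^#`. -/
theorem exists_EB (c : GCfg M N Ns K x) {s : ℕ} (hs : s ∈ Cfsg.tau2 M)
    (hrs : Nat.card K ∈ Cfsg.tau2 M → s = Nat.card K) :
    ∃ (E B : Subgroup G) (b : G), Cfsg.IsComplIn E (Cfsg.sigmaCore M) M ∧ K ≤ E ∧ B ≤ E ∧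
      Cfsg.IsElementaryAbelian s B ∧ Nat.card B = s ^ 2 ∧ b ∈ B ∧ b ≠ 1 ∧
      (∀ k ∈ K, k * b = b * k) ∧ (s = Nat.card K → K ≤ B) := by
  have hG := c.hG
  haveI : Fact s.Prime := ⟨hs.1⟩
  obtain ⟨E, hE, hKE⟩ := c.exists_compl_ge
  obtain ⟨B, hBE, hBe, hBc⟩ := Cfsg.Agent.Lib.Helper24.BGReg.exists_elemAb_le_compl hG c.hM hE hs
  have h18 := Cfsg.Agent.S1418.result hG M c.hM E hE s hs B ⟨hBE, hBe, hBc⟩
  have h17 := Cfsg.Agent.S1417.result hG M c.hM s hs B ⟨hBE.trans hE.1, hBe, hBc⟩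
  have hKB : s = Nat.card K → K ≤ B := fun h => h18.1.2 K hKE h.symm
  have hb : ∃ b ∈ B, b ≠ 1 ∧ ∀ k ∈ K, k * b = b * k := by
    by_cases hr : s = Nat.card K
    · obtain ⟨k, hk, hk1⟩ := exists_ne_one_of_prime_card c.hKp
      exact ⟨k, hKB hr hk, hk1, fun k' hk' => c.root.comm k' hk' k hk⟩
    · have hrτ : Nat.card K ∉ Cfsg.tau2 M := fun h => hr (hrs h)
      by_contra hno
      push Not at hno
      have hKnB : K ≤ Subgroup.normalizer (B : Set G) := hKE.trans h18.1.1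
      have hUn : ∀ e ∈ K, ∀ u ∈ B, e * u * e⁻¹ ∈ B := fun e he u hu =>
        (Subgroup.mem_normalizer_iff.mp (hKnB he) u).mp hu
      have hfpf : ∀ e ∈ K, e ≠ 1 → ∀ u ∈ B, e * u = u * e → u = 1 := by
        intro e he he1 u hu h
        by_contra hu1
        obtain ⟨k, hk, hne⟩ := hno u hu hu1
        exact hne (comm_of_comm_gen c.hKp he he1 h k hk)
      have hσn := Cfsg.Agent.Lib.Helper23.BGY.le_normalizer_sigmaCore M
      have hBKM : B ⊔ K ≤ M := sup_le (hBE.trans hE.1) c.hKM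
      have hHn : ∀ a ∈ B ⊔ K, ∀ h ∈ Cfsg.sigmaCore M, a * h * a⁻¹ ∈ Cfsg.sigmaCore M :=
        fun a ha h hh => (Subgroup.mem_normalizer_iff.mp (hσn (hBKM ha)) h).mp hh
      have hsolvM : Group.IsSolvable ↥M := hG.2.2.2 M c.hM.1
      have hsolv : Group.IsSolvable ↥(Cfsg.sigmaCore M) :=
        Group.isSolvable_of_isSolvable_injective (Subgroup.inclusion_injective (sigmaCore_le M))
      have hcop : Nat.Coprime (Nat.card (Cfsg.sigmaCore M)) (Nat.card ↥(B ⊔ K)) := by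
        have h1 : Nat.card ↥(K ⊔ B) ∣ Nat.card K * Nat.card B := by
          have := Cfsg.Agent.Lib.Helper4.card_sup_mul_card_inf K B hKnB
          rw [← this]
          exact dvd_mul_right _ _
        have h2 : (Nat.card (Cfsg.sigmaCore M)).Coprime (Nat.card K * Nat.card B) := by
          apply Nat.Coprime.mul_right
          · apply Nat.Coprime.symm
            rw [Nat.Prime.coprime_iff_not_dvd c.hKp]
            exact fun hd => c.r_not_sigma (primes_card_sigmaCore M _ c.hKp hd)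
          · rw [hBc]
            apply Nat.Coprime.pow_right
            apply Nat.Coprime.symm
            rw [Nat.Prime.coprime_iff_not_dvd hs.1]
            exact fun hd => hs.2.1 (primes_card_sigmaCore M _ hs.1 hd)
        rw [sup_comm]
        exact Nat.Coprime.coprime_dvd_right h1 h2
      have hf := Cfsg.Agent.Lib.Helper17.FrobCount.formula_aux B K c.root.hK1 hUn hfpf _
        (Cfsg.sigmaCore M) rfl hHn hsolv hcop
      have hCK : Cfsg.sigmaCore M ⊓ Subgroup.centralizer (K : Set G) = ⊥ := by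
        rw [eq_bot_iff]
        intro a ha
        rw [Subgroup.mem_bot]
        exact c.cent_K_of_not_tau2 hrτ ha.1
          (fun k hk => Subgroup.mem_centralizer_iff.mp ha.2 k hk)
      rw [hCK, h17.2.2.2.1, Subgroup.card_bot, one_pow, one_mul] at hf
      have h1 : Nat.card (Cfsg.sigmaCore M) = 1 := Nat.eq_one_of_mul_eq_one_left hf
      have h2 : Cfsg.sigmaCore M = ⊥ := Subgroup.card_eq_one.mp h1
      have h3 := c.hx
      rw [h2, Subgroup.mem_bot] at h3
      exact c.hx1 h3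
  obtain ⟨b, hbB, hb1, hbK⟩ := hb
  exact ⟨E, B, b, hE, hKE, hBE, hBe, hBc, hbB, hb1, hbK, hKB⟩

end GCfg

end Cfsg.Agent.Lib.Helper17.BG146
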