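import Mathlib
import Cfsg.Agent.Lib.Helper17.BG146G
import Cfsg.Agent.S1432
import Cfsg.Agent.S1404

/-!
# helper17: `τ₂(M) = ∅` in `GCfg`, the case `s ∉ σ(N*)`, and a normal-complement lemma
-/

set_option autoImplicit false
set_option linter.unusedSectionVars false
set_option linter.unusedVariables false
set_option linter.style.haveILetI false

namespace Cfsg.Agent.Lib.Helper17.BG146

open Cfsg.Agent.Lib.Helper8 (mem_map_conj conj_mem_map_conj map_conj_map_conj map_conj_one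
  map_conj_le_iff map_conj_eq_iff card_map_conj mem_normalizer_iff_map_conj)
open Cfsg.Agent.Lib.Helper8.BGQ (Root)
open Cfsg.Agent.Lib.Helper9.BG144 (RData SP exists_rdata mem_normalizer_sup)
open Cfsg.Agent.Lib.Helper2.BGCor (sigmaCore_le primes_card_sigmaCore)

variable {G : Type*} [Group G]

/-- In a group `H` with a normal `s`-complement, an `s'`-subgroup `K` normalizing an `s`-subgroup
`B` centralizes it. -/
theorem comm_of_hasNormalPComplement [Finite G] {H K B : Subgroup G} {s : ℕ} [Fact s.Prime]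
    (hnpc : Cfsg.HasNormalPComplement s ↥H) (hKH : K ≤ H) (hBH : B ≤ H)
    (hK : (Nat.card K).Coprime s) (hB : IsPGroup s B)
    (hKB : K ≤ Subgroup.normalizer (B : Set G)) : ∀ k ∈ K, ∀ u ∈ B, k * u = u * k := by
  have hsp : s.Prime := Fact.out
  obtain ⟨P, O, hOn, hcompl⟩ := hnpc
  haveI := hOn
  have hidx : O.index = Nat.card (P : Subgroup ↥H) := hcompl.symm.index_eq_card
  have hsO : ¬ s ∣ Nat.card O := by
    have h1 := hcompl.index_eq_card
    rw [← h1]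
    exact P.not_dvd_index
  have hKO : K.subgroupOf H ≤ O := by
    apply Cfsg.Agent.Lib.Helper23.BGY.le_of_coprime_index_normal
    rw [hidx, Cfsg.Agent.Lib.Helper1.card_subgroupOf_of_le hKH]
    obtain ⟨a, ha⟩ := IsPGroup.iff_card.mp P.isPGroup'
    rw [ha]
    exact hK.pow_right a
  intro k hk u hu
  obtain ⟨k', hk'⟩ : ∃ k' : ↥H, k' = ⟨k, hKH hk⟩ := ⟨_, rfl⟩
  obtain ⟨u', hu'⟩ : ∃ u' : ↥H, u' = ⟨u, hBH hu⟩ := ⟨_, rfl⟩
  have hk'O : k' ∈ O := hKO (by rw [hk']; exact Subgroup.mem_subgroupOf.mpr hk)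
  have hcO : k' * (u' * k'⁻¹ * u'⁻¹) ∈ O := O.mul_mem hk'O (hOn.conj_mem _ (O.inv_mem hk'O) u')
  obtain ⟨w, hwdef⟩ : ∃ w : G, w = k * u * k⁻¹ * u⁻¹ := ⟨_, rfl⟩
  have hwB : w ∈ B := by
    rw [hwdef]
    exact B.mul_mem ((Subgroup.mem_normalizer_iff.mp (hKB hk) u).mp hu) (B.inv_mem hu)
  have hwc : ((k' * (u' * k'⁻¹ * u'⁻¹) : ↥H) : G) = w := by
    rw [hk', hu', hwdef]
    simp [mul_assoc]
  have hw1 : w = 1 := by
    obtain ⟨j, hj⟩ := hB ⟨w, hwB⟩
    have hj' : w ^ s ^ j = 1 := by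
      have := congrArg Subtype.val hj
      simpa using this
    have h2 : orderOf w ∣ s ^ j := orderOf_dvd_of_pow_eq_one hj'
    have h3 : orderOf w ∣ Nat.card O := by
      have h4 := Subgroup.orderOf_dvd_natCard O hcO
      rw [← hwc, Subgroup.orderOf_coe]
      exact h4
    have hcop : (s ^ j).Coprime (Nat.card O) :=
      Nat.Coprime.pow_left j ((Nat.Prime.coprime_iff_not_dvd hsp).mpr hsO)
    exact orderOf_eq_one_iff.mp (Nat.eq_one_of_dvd_coprimes hcop h2 h3)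
  rw [hwdef] at hw1
  have : k * u = (k * u * k⁻¹ * u⁻¹) * (u * k) := by group
  rw [this, hw1, one_mul]

namespace GCfg

variable [Finite G] {M N Ns K : Subgroup G} {x : G}

/-- a maximal subgroup `L ⊇ N_G(B)`; `s ∈ σ(L)`. -/
theorem exists_LB (c : GCfg M N Ns K x) {s : ℕ} [Fact s.Prime] {B : Subgroup G} (hBM : B ≤ M)
    (hBe : Cfsg.IsElementaryAbelian s B) (hBc : Nat.card B = s ^ 2) :
    ∃ L : Subgroup G, IsCoatom L ∧ Subgroup.normalizer (B : Set G) ≤ L ∧ s ∈ Cfsg.sigma L := by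
  haveI := c.hG.2.1
  have hsp : s.Prime := Fact.out
  have hB1 : B ≠ ⊥ := by
    intro h
    rw [h, Subgroup.card_bot] at hBc
    have := Nat.one_lt_pow (n := 2) (by norm_num) hsp.one_lt
    omega
  have hBtop : B ≠ ⊤ := fun h => c.hM.1 (top_le_iff.mp (h ▸ hBM))
  obtain ⟨L, hL, hNBL⟩ := Cfsg.Agent.Lib.Helper17.BGU.exists_coatom_ge
    (Cfsg.Agent.Lib.Helper17.BGU.normalizer_ne_top hB1 hBtop)
  exact ⟨L, hL, hNBL, Cfsg.Agent.Lib.Helper16.BGPrim.lemmaV c.hG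
    (Cfsg.Agent.Lib.Helper23.BG1215.h18a c.hG) hBe hBc hL hNBL⟩

/-- **Case B'**: `s ∉ σ(N*)` is impossible. -/
theorem caseB (c : GCfg M N Ns K x) {s : ℕ} (hs : s ∈ Cfsg.tau2 M) {E B : Subgroup G} {b : G}
    (hE : Cfsg.IsComplIn E (Cfsg.sigmaCore M) M) (hKE : K ≤ E) (hBE : B ≤ E)
    (hBe : Cfsg.IsElementaryAbelian s B) (hBc : Nat.card B = s ^ 2) (hbB : b ∈ B) (hb1 : b ≠ 1)
    (hbK : ∀ k ∈ K, k * b = b * k) (hsNs : s ∉ Cfsg.sigma Ns) : False := by
  have hG := c.hG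
  haveI : Fact s.Prime := ⟨hs.1⟩
  obtain ⟨k, hk, hk1⟩ := exists_ne_one_of_prime_card c.hKp
  have hbo : orderOf b = s := orderOf_of_elemAb hs.1 hBe hbB hb1
  have hko : orderOf k = Nat.card K := orderOf_eq_of_prime_card c.hKp hk hk1
  have hbCk : b ∈ Subgroup.centralizer ({k} : Set G) := by
    rw [Subgroup.mem_centralizer_singleton_iff]
    exact (hbK k hk).symm
  have hkCb : k ∈ Subgroup.centralizer ({b} : Set G) := by
    rw [Subgroup.mem_centralizer_singleton_iff]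
    exact hbK k hk
  have hbNs : b ∈ Ns := c.cent_le_Ns hk hk1 hbCk
  have hkσ : k ∈ Cfsg.sigmaCore Ns := c.K_le_sigmaCore_Ns hk
  have h32 := Cfsg.Agent.S1432.result hG Ns c.hNs k hkσ hk1 b
    (Subgroup.mem_inf.mpr ⟨hbNs, hbCk⟩) hb1 (by
      intro p hp hd
      rw [hbo] at hd
      rw [(Nat.prime_dvd_prime_iff_eq hp hs.1).mp hd]
      exact hsNs)
  rcases h32 with ⟨hκ, -⟩ | ⟨-, -, hCb, huniq⟩
  · exact c.s_not_sigma_N hs (c.kappa_Ns_sub (hκ s hs.1 (by rw [hbo])))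
  · obtain ⟨L, hL, hNBL, hsL⟩ := c.exists_LB (hBE.trans hE.1) hBe hBc
    have h18 := Cfsg.Agent.S1418.result hG M c.hM E hE s hs B ⟨hBE, hBe, hBc⟩
    have hEL : E ≤ L := h18.1.1.trans hNBL
    have hLne : L ≠ Ns := fun h => hsNs (h ▸ hsL)
    have hrL : Nat.card K ∉ Cfsg.sigma L := by
      intro h
      obtain ⟨g, hg⟩ := c.hSP L Ns hL c.hNs ⟨_, h, c.r_sigma_Ns⟩
      apply hsNs
      rw [hg, Cfsg.Agent.Lib.Helper9.BG144.sigma_map_conj_iff]
      exact hsL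
    have hbσL : b ∈ Cfsg.sigmaCore L := by
      have h1 : IsPGroup s (Subgroup.zpowers b) :=
        IsPGroup.of_card (n := 1) (by rw [Nat.card_zpowers, pow_one, hbo])
      exact Cfsg.Agent.Lib.Helper16.BGPrim.le_sigmaCore_of_isPGroup hG hL hsL h1
        (Subgroup.zpowers_le.mpr (hEL (hBE hbB))) (Subgroup.mem_zpowers b)
    have h32' := Cfsg.Agent.S1432.result hG L hL b hbσL hb1 k
      (Subgroup.mem_inf.mpr ⟨hEL (hKE hk), hkCb⟩) hk1 (by
        intro p hp hd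
        rw [hko] at hd
        rw [(Nat.prime_dvd_prime_iff_eq hp c.hKp).mp hd]
        exact hrL)
    rcases h32' with ⟨-, hCbL⟩ | ⟨-, -, hCk, huniq'⟩
    · exact hLne (huniq L hL hCbL)
    · exact hLne (huniq' Ns c.hNs (c.cent_le_Ns hk hk1)).symm

end GCfg

end Cfsg.Agent.Lib.Helper17.BG146
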