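import Mathlib
import Cfsg.Agent.Lib.Helper17.BG146H
import Cfsg.Agent.S1414
import Cfsg.Agent.S1419

/-!
# helper17: `τ₂(M) = ∅` in `GCfg`, the case `s ∈ σ(N*)`
-/

set_option autoImplicit false
set_option linter.unusedSectionVars false
set_option linter.unusedVariables false
set_option linter.style.haveILetI false

namespace Cfsg.Agent.Lib.Helper17.BG146

open Cfsg.Agent.Lib.Helper8 (mem_map_conj conj_mem_map_conj map_conj_map_conj map_conj_one
  map_conj_le_iff map_conj_eq_iff card_map_conj mem_normalizer_iff_map_conj)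
open Cfsg.Agent.Lib.Helper8.BGQ (Root)
open Cfsg.Agent.Lib.Helper9.BG144 (RData SP exists_rdata mem_normalizer_sup)
open Cfsg.Agent.Lib.Helper2.BGCor (sigmaCore_le primes_card_sigmaCore)
open Cfsg.Agent.Lib.Helper16.BGLemN (omegaZ mem_omegaZ omegaZ_le omegaZ_elemAb omegaZ_ne_bot
  normalizer_le_normalizer_omegaZ)

variable {G : Type*} [Group G]

namespace GCfg

variable [Finite G] {M N Ns K : Subgroup G} {x : G}

/-- **Case A**: `s ∈ σ(N*)` is impossible. -/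
theorem caseA (c : GCfg M N Ns K x) {s : ℕ} (hs : s ∈ Cfsg.tau2 M) {E B : Subgroup G}
    (hE : Cfsg.IsComplIn E (Cfsg.sigmaCore M) M) (hKE : K ≤ E) (hBE : B ≤ E)
    (hBe : Cfsg.IsElementaryAbelian s B) (hBc : Nat.card B = s ^ 2)
    (hKB : s = Nat.card K → K ≤ B) (hsNs : s ∈ Cfsg.sigma Ns) : False := by
  have hG := c.hG
  haveI : Fact s.Prime := ⟨hs.1⟩
  haveI : Fact (Nat.card K).Prime := ⟨c.hKp⟩
  have hBM : B ≤ M := hBE.trans hE.1
  have hBp : IsPGroup s B := IsPGroup.of_card hBc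
  have hB1 : B ≠ ⊥ := by
    intro h
    rw [h, Subgroup.card_bot] at hBc
    have := Nat.one_lt_pow (n := 2) (by norm_num) hs.1.one_lt
    omega
  have h08 := Cfsg.Agent.S1408.result hG M c.hM s hs.2.1 hs.2.2.1 hs.2.2.2
  -- A1: `N_G(B) ≤ N*`
  obtain ⟨L, hL, hNBL, hsL⟩ := c.exists_LB hBM hBe hBc
  have h18 := Cfsg.Agent.S1418.result hG M c.hM E hE s hs B ⟨hBE, hBe, hBc⟩
  have hKnB : K ≤ Subgroup.normalizer (B : Set G) := hKE.trans h18.1.1
  have hKL : K ≤ L := hKnB.trans hNBL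
  obtain ⟨g, hg⟩ := c.hSP Ns L c.hNs hL ⟨s, hsNs, hsL⟩
  have hconj : K.map (MulAut.conj g⁻¹).toMonoidHom ≤ Ns := by
    rw [map_conj_le_iff, inv_inv, ← hg]
    exact hKL
  obtain ⟨m, hm, c0, hc0, hgmc⟩ := (Cfsg.Agent.S1404.result hG Ns c.hNs (Nat.card K) c.r_sigma_Ns K
    (IsPGroup.of_card (n := 1) (by rw [pow_one])) c.root.hK1 c.K_le_Ns).1 g⁻¹ hconj
  have hc0Ns : c0 ∈ Ns := c.hNNs (Subgroup.centralizer_le_normalizer _ hc0)
  have hgNs : g ∈ Ns := by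
    have h1 : g⁻¹ ∈ Ns := hgmc ▸ Ns.mul_mem hm hc0Ns
    have h2 := Ns.inv_mem h1
    rwa [inv_inv] at h2
  have hLNs : L = Ns := by rw [hg, Cfsg.Agent.Lib.Helper9.BG144.map_conj_of_mem hgNs]
  have hNB : Subgroup.normalizer (B : Set G) ≤ Ns := hLNs ▸ hNBL
  -- A2
  have hBNs : B ≤ Ns := Subgroup.le_normalizer.trans hNB
  have hBσ : B ≤ Cfsg.sigmaCore Ns :=
    Cfsg.Agent.Lib.Helper16.BGPrim.le_sigmaCore_of_isPGroup hG c.hNs hsNs hBp hBNs
  -- A3: `K` centralizes `B`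
  have hKcB : ∀ k ∈ K, ∀ u ∈ B, k * u = u * k := by
    by_cases hr : s = Nat.card K
    · intro k hk u hu
      exact congrArg Subtype.val (hBe.1.is_comm.comm (⟨k, hKB hr hk⟩ : ↥B) ⟨u, hu⟩)
    · have hsβ : s ∉ Cfsg.beta Ns := fun h => h08.1 h.2
      have hnpc := ((Cfsg.Agent.S1414.result hG Ns c.hNs).2.2.2.2 s hs.1 hsNs.2.1 hsβ).2.1
      exact comm_of_hasNormalPComplement hnpc c.K_le_sigmaCore_Ns hBσ
        ((Nat.coprime_primes c.hKp hs.1).mpr (Ne.symm hr)) hBp hKnB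
  -- A4: `C = C_{N*_σ}(K)` is nilpotent
  obtain ⟨y, hy, hyo⟩ := c.root.exists_prime_order_Ks
  have hy1 : y ≠ 1 := by
    intro h
    rw [h, orderOf_one] at hyo
    exact Nat.not_prime_one hyo
  obtain ⟨C, hCdef⟩ : ∃ C : Subgroup G,
    C = Cfsg.sigmaCore Ns ⊓ Subgroup.centralizer (K : Set G) := ⟨_, rfl⟩
  have hKC : K ≤ C := by
    rw [hCdef]
    refine le_inf c.K_le_sigmaCore_Ns ?_
    intro k hk
    rw [Subgroup.mem_centralizer_iff]
    intro k' hk'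
    exact c.root.comm k' hk' k hk
  have hBC : B ≤ C := by
    rw [hCdef]
    refine le_inf hBσ ?_
    intro u hu
    rw [Subgroup.mem_centralizer_iff]
    intro k hk
    exact hKcB k hk u hu
  have hcent : ∀ k ∈ K, ∀ c' ∈ C, k * c' = c' * k := by
    intro k hk c' hc'
    rw [hCdef] at hc'
    exact Subgroup.mem_centralizer_iff.mp hc'.2 k hk
  have hyNs : y ∈ Ns := c.root.Ks_le_H le_rfl c.hNNs hy
  have hyK : ∀ k ∈ K, y * k = k * y := fun k hk => (c.root.comm_K_Ks k hk y hy).symm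
  have hyC : ∀ c' ∈ C, y * c' * y⁻¹ ∈ C := by
    intro c' hc'
    rw [hCdef] at hc' ⊢
    refine Subgroup.mem_inf.mpr ⟨(Subgroup.mem_normalizer_iff.mp
      (Cfsg.Agent.Lib.Helper23.BGY.le_normalizer_sigmaCore Ns hyNs) c').mp hc'.1, ?_⟩
    rw [Subgroup.mem_centralizer_iff]
    intro k hk
    have hky : Commute k y := (hyK k hk).symm
    have hkc : Commute k c' := Subgroup.mem_centralizer_iff.mp hc'.2 k hk
    exact ((hky.mul_right hkc).mul_right hky.inv_right).eq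
  have hfix : ∀ c' ∈ C, y * c' = c' * y → c' ∈ K := by
    intro c' hc' h
    have hrS : Root Ns (Cfsg.sigmaCore N ⊓ Subgroup.centralizer (K : Set G)) :=
      ⟨hG, c.hNs, c.root.Ks_hall le_rfl c.hKp c.hNs c.hNNs, c.root.Ks_ne_bot⟩
    have h1 := hrS.cent_elem hy hy1
    have h2 := c.root.K_eq le_rfl c.hKp c.hNs c.hNNs
    rw [h2, ← h1]
    rw [hCdef] at hc'
    exact Subgroup.mem_inf.mpr ⟨hc'.1, Subgroup.mem_centralizer_singleton_iff.mpr h.symm⟩
  have hcop : (Nat.card K).Coprime (orderOf y) := by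
    have h1 : orderOf y ∣ Nat.card (Cfsg.sigmaCore N) := Subgroup.orderOf_dvd_natCard _ hy.1
    exact Nat.Coprime.coprime_dvd_right h1 c.r_coprime_sigmaCore_N
  have hnilC := isNilpotent_of_fpf_mod_central C K y hKC hcent hyC hyK hyo rfl hcop hfix
  -- A5: the normal Sylow `s`-subgroup `P` of `C` and `W = Ω₁(Z(P)) ≤ B`
  obtain ⟨P, hP, hPmax⟩ := exists_normal_sylIn_of_nilpotent hnilC s
  have hBP : B ≤ P := hPmax B hBC hBp
  have hPy : P.map (MulAut.conj y).toMonoidHom = P := conj_sylIn_eq hP hPmax hyC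
  obtain ⟨W, hWdef⟩ : ∃ W : Subgroup G, W = omegaZ s P := ⟨_, rfl⟩
  have hP1 : P ≠ ⊥ := fun h => hB1 (le_bot_iff.mp (h ▸ hBP))
  have hW1 : W ≠ ⊥ := hWdef ▸ omegaZ_ne_bot hP.isPGroup hP1
  have hyW : y ∈ Subgroup.normalizer (W : Set G) :=
    hWdef ▸ normalizer_le_normalizer_omegaZ s P (mem_normalizer_iff_map_conj.mpr hPy)
  have hWe : Cfsg.IsElementaryAbelian s W := hWdef ▸ omegaZ_elemAb s P
  have hcommBW : ∀ a ∈ B, ∀ z ∈ W, a * z = z * a := by
    intro a ha z hz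
    rw [hWdef, mem_omegaZ] at hz
    exact Subgroup.mem_centralizer_iff.mp hz.2.1 a (hBP ha)
  have hsup := elemAb_sup hBe hWe hcommBW
  have heq := h08.2 B hBM hBe hBc (B ⊔ W) hsup le_sup_left
  have hWB : W ≤ B := by
    rw [← heq]
    exact le_sup_right
  -- A6: `W ≤ K`
  have hWK : W ≤ K := by
    intro w hw
    have hywW : y * w * y⁻¹ ∈ W := (Subgroup.mem_normalizer_iff.mp hyW w).mp hw
    have h1 : y * w * y⁻¹ ∈ M ⊓ M.map (MulAut.conj y).toMonoidHom :=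
      Subgroup.mem_inf.mpr ⟨hBM (hWB hywW), conj_mem_map_conj (hBM (hWB hw))⟩
    have h2 : y * w * y⁻¹ ∈ N := c.inf_conj_le hy hy1 h1
    have h3 : y * w * y⁻¹ ∈ Ns :=
      Ns.mul_mem (Ns.mul_mem hyNs (hBNs (hWB hw))) (Ns.inv_mem hyNs)
    have h4 : y * w * y⁻¹ ∈ K := by
      rw [← c.inf3]
      exact Subgroup.mem_inf.mpr ⟨h1.1, Subgroup.mem_inf.mpr ⟨h2, h3⟩⟩
    have h5 := hyK _ h4
    have h6 : y * (y * w * y⁻¹) = y * w := by rw [h5]; group
    have h7 : y * w * y⁻¹ = w := mul_left_cancel h6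
    rw [← h7]
    exact h4
  -- A7: `r = s`
  obtain ⟨w, hw, hw1⟩ := (Subgroup.bot_or_exists_ne_one W).resolve_left hW1
  have hrs : Nat.card K = s := by
    have h1 := orderOf_eq_of_prime_card c.hKp (hWK hw) hw1
    have h2 := orderOf_of_elemAb hs.1 hBe (hWB hw) hw1
    rw [← h1, h2]
  -- A8: `P` is nonabelian
  have hPna : ¬ ∀ a ∈ P, ∀ b' ∈ P, a * b' = b' * a := by
    intro hab
    have hBW : B ≤ W := by
      intro u hu
      rw [hWdef, mem_omegaZ]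
      exact ⟨hBP hu, Subgroup.mem_centralizer_iff.mpr (fun h hh => hab h hh u (hBP hu)),
        hBe.2 u hu⟩
    have h1 : Nat.card B ≤ Nat.card K := Subgroup.card_le_of_le (hBW.trans hWK)
    rw [hBc, hrs] at h1
    nlinarith [hs.1.one_lt]
  -- A9: the Sylow `s`-subgroups of `G` are nonabelian
  have hS : ∀ S : Sylow s G, ¬ IsMulCommutative (S : Subgroup G) := by
    intro S hSc
    apply hPna
    obtain ⟨S0, hS0⟩ := hP.isPGroup.exists_le_sylow
    obtain ⟨g', hg'⟩ := MulAction.exists_smul_eq G S S0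
    intro a ha b' hb'
    have ha' : a ∈ ((g' • S : Sylow s G) : Subgroup G) := hg' ▸ hS0 ha
    have hb'' : b' ∈ ((g' • S : Sylow s G) : Subgroup G) := hg' ▸ hS0 hb'
    rw [Cfsg.Agent.Lib.Helper8.sylow_smul_coe, mem_map_conj] at ha' hb''
    have h1 := congrArg Subtype.val (hSc.is_comm.comm (⟨_, ha'⟩ : ↥(S : Subgroup G)) ⟨_, hb''⟩)
    have h2 : (g'⁻¹ * a * g') * (g'⁻¹ * b' * g') = (g'⁻¹ * b' * g') * (g'⁻¹ * a * g') := h1
    have h3 : g'⁻¹ * (a * b') * g' = g'⁻¹ * (b' * a) * g' := by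
      calc g'⁻¹ * (a * b') * g' = (g'⁻¹ * a * g') * (g'⁻¹ * b' * g') := by group
        _ = (g'⁻¹ * b' * g') * (g'⁻¹ * a * g') := h2
        _ = g'⁻¹ * (b' * a) * g' := by group
    exact mul_left_cancel (mul_right_cancel h3)
  -- A10: S1419
  have h19 := Cfsg.Agent.S1419.result hG M c.hM E hE s hs hS B ⟨hBE, hBe, hBc⟩
  have hcard : Nat.card ↥(B ⊓ Subgroup.centralizer (Cfsg.sigmaCore M : Set G)) = s := h19.2.1.1
  obtain ⟨b0, hb0, hb01⟩ : ∃ b0 ∈ B ⊓ Subgroup.centralizer (Cfsg.sigmaCore M : Set G), b0 ≠ 1 := by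
    apply (Subgroup.bot_or_exists_ne_one _).resolve_left
    intro h
    rw [h, Subgroup.card_bot] at hcard
    exact hs.1.ne_one hcard.symm
  have hb0x : x * b0 = b0 * x := Subgroup.mem_centralizer_iff.mp hb0.2 x c.hx
  have hb0N : b0 ∈ N := c.rd.cent_le (Subgroup.mem_centralizer_singleton_iff.mpr hb0x.symm)
  have hb0K : b0 ∈ K := by
    rw [← c.inf3]
    exact Subgroup.mem_inf.mpr ⟨hBM hb0.1, Subgroup.mem_inf.mpr ⟨hb0N, hBNs hb0.1⟩⟩
  exact c.hx1 (c.reg hb0K hb01 c.hx c.x_mem_N hb0x.symm)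

/-- **`τ₂(M) = ∅`** in the configuration. -/
theorem tau2_M (c : GCfg M N Ns K x) : Cfsg.tau2 M = ∅ := by
  by_contra hne
  obtain ⟨s0, hs0⟩ := Set.nonempty_iff_ne_empty.mpr hne
  obtain ⟨s, hs, hrs⟩ : ∃ s ∈ Cfsg.tau2 M, Nat.card K ∈ Cfsg.tau2 M → s = Nat.card K := by
    by_cases h : Nat.card K ∈ Cfsg.tau2 M
    · exact ⟨_, h, fun _ => rfl⟩
    · exact ⟨s0, hs0, fun h' => absurd h' h⟩
  obtain ⟨E, B, b, hE, hKE, hBE, hBe, hBc, hbB, hb1, hbK, hKB⟩ := c.exists_EB hs hrs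
  by_cases hsNs : s ∈ Cfsg.sigma Ns
  · exact c.caseA hs hE hKE hBE hBe hBc hKB hsNs
  · exact c.caseB hs hE hKE hBE hBe hBc hbB hb1 hbK hsNs

end GCfg

end Cfsg.Agent.Lib.Helper17.BG146
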