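import Mathlib
import Cfsg.Agent.Lib.Helper17.BG146I
import Cfsg.Agent.Lib.Helper10.CNNormalSylow
import Cfsg.Agent.Lib.Helper9.FpfAction
import Cfsg.Agent.S1449

/-!
# helper17: B & G 14.4(e) (S1376): in the configuration `GCfg`, `κ(M) = τ₂(M) = ∅`, `M` is a
Frobenius group with cyclic complement and `M_F` is not a TI-subset.
-/

set_option autoImplicit false
set_option linter.unusedSectionVars false
set_option linter.unusedVariables false
set_option linter.style.haveILetI false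

namespace Cfsg.Agent.Lib.Helper17.BG146

open Cfsg.Agent.Lib.Helper8 (mem_map_conj conj_mem_map_conj map_conj_map_conj map_conj_one
  map_conj_le_iff map_conj_eq_iff card_map_conj mem_normalizer_iff_map_conj)
open Cfsg.Agent.Lib.Helper8.BGQ (Root)
open Cfsg.Agent.Lib.Helper9.BG144 (RData SP exists_rdata mem_normalizer_sup)
open Cfsg.Agent.Lib.Helper2.BGCor (sigmaCore_le primes_card_sigmaCore)

variable {G : Type*} [Group G]

/-- A complement `E` of `M_σ ≠ 1` in `M` acting regularly on `M_σ` gives a Frobenius complement of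
the group `↥M`. -/
theorem isFrobeniusComplement_subgroupOf {M E : Subgroup G}
    (hE : Cfsg.IsComplIn E (Cfsg.sigmaCore M) M) (hσ1 : Cfsg.sigmaCore M ≠ ⊥) (hE1 : E ≠ ⊥)
    (hreg : ∀ e ∈ E, e ≠ 1 → ∀ a ∈ Cfsg.sigmaCore M, e * a = a * e → a = 1) :
    Cfsg.IsFrobeniusComplement (E.subgroupOf M) := by
  obtain ⟨hEM, hSM, hES, hprod⟩ := hE
  haveI hn : ((Cfsg.sigmaCore M).subgroupOf M).Normal :=
    Subgroup.normal_subgroupOf_of_le_normalizer (Cfsg.Agent.Lib.Helper23.BGY.le_normalizer_sigmaCore M)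
  have hc : Subgroup.IsComplement' ((Cfsg.sigmaCore M).subgroupOf M) (E.subgroupOf M) := by
    apply Cfsg.Agent.Lib.Helper1.isComplement'_subgroupOf_of_sup_eq hSM hEM
    · rw [disjoint_iff, inf_comm]; exact hES
    · intro l hl
      obtain ⟨a, ha, b, hb, hab⟩ := hprod l⁻¹ (M.inv_mem hl)
      refine ⟨b⁻¹, Subgroup.inv_mem _ hb, a⁻¹, E.inv_mem ha, ?_⟩
      rw [← mul_inv_rev, ← hab, inv_inv]
  apply Cfsg.Agent.Lib.Helper10.isFrobeniusComplement_of_fpf _ _ hc
  · intro h
    apply hσ1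
    rw [eq_bot_iff]
    intro a ha
    have : (⟨a, hSM ha⟩ : ↥M) ∈ (Cfsg.sigmaCore M).subgroupOf M := Subgroup.mem_subgroupOf.mpr ha
    rw [h, Subgroup.mem_bot] at this
    rw [Subgroup.mem_bot]
    exact congrArg Subtype.val this
  · intro h
    apply hE1
    rw [eq_bot_iff]
    intro a ha
    have : (⟨a, hEM ha⟩ : ↥M) ∈ E.subgroupOf M := Subgroup.mem_subgroupOf.mpr ha
    rw [h, Subgroup.mem_bot] at this
    rw [Subgroup.mem_bot]
    exact congrArg Subtype.val this
  · intro e he he1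
    rw [eq_bot_iff]
    intro a ha
    rw [Subgroup.mem_bot]
    apply Subtype.ext
    have h1 : (a : G) ∈ Cfsg.sigmaCore M := Subgroup.mem_subgroupOf.mp ha.1
    have h2 : a * e = e * a := Subgroup.mem_centralizer_singleton_iff.mp ha.2
    have h3 : (a : G) * (e : G) = (e : G) * (a : G) := congrArg Subtype.val h2
    exact hreg e (Subgroup.mem_subgroupOf.mp he) (fun h => he1 (Subtype.ext h)) a h1 h3.symm

namespace GCfg

variable [Finite G] {M N Ns K : Subgroup G} {x : G}

/-- a complement of `M_σ` acts regularly on `M_σ`. -/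
theorem regular (c : GCfg M N Ns K x) {E : Subgroup G}
    (hE : Cfsg.IsComplIn E (Cfsg.sigmaCore M) M) {e a : G} (he : e ∈ E) (he1 : e ≠ 1)
    (ha : a ∈ Cfsg.sigmaCore M) (hea : e * a = a * e) : a = 1 := by
  by_contra ha1
  have hG := c.hG
  obtain ⟨p, j, hp, hpd, hjo⟩ := Cfsg.Agent.Lib.Helper16.BGPrim.exists_pow_orderOf_prime he1
  have hejE : e ^ j ∈ E := E.pow_mem he j
  have hpE : p ∣ Nat.card E := by
    rw [← hjo]
    exact Subgroup.orderOf_dvd_natCard E hejE
  have hpσ : p ∉ Cfsg.sigma M :=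
    Cfsg.Agent.Lib.Helper23.BGY.not_mem_sigma_of_dvd_compl hG c.hM hE hp hpE
  have hrk : Cfsg.PRankLE p 1 ↥M := by
    by_contra h
    have := Cfsg.Agent.Lib.Helper23.BGY.mem_tau2_of_not_rank_one hG c.hM hp hpσ h
    rw [c.tau2_M] at this
    exact this
  have hcomm : e ^ j * a = a * e ^ j := ((show Commute e a from hea).pow_left j).eq
  have := Cfsg.Agent.Lib.Helper24.BGReg.mem_kappa_of_fixed hG hp hpσ hrk (hE.1 hejE) hjo ha ha1 hcomm
  rw [c.kappa_M] at this
  exact this

/-- **B & G 14.4(e)**. -/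
theorem main (c : GCfg M N Ns K x) :
    Cfsg.kappa M = ∅ ∧ Cfsg.tau2 M = ∅ ∧
      (∃ E : Subgroup ↥M, Cfsg.IsFrobeniusComplement E ∧ IsCyclic E) ∧
      ¬ Cfsg.IsTISubset (Cfsg.fittingHallOf M : Set G) := by
  have hG := c.hG
  haveI := hG.2.1
  haveI : Fact (orderOf x).Prime := ⟨c.hxo⟩
  refine ⟨c.kappa_M, c.tau2_M, ?_, ?_⟩
  · obtain ⟨E, hE, hKE⟩ := c.exists_compl_ge
    have hE1 : E ≠ ⊥ := fun h => c.root.hK1 (le_bot_iff.mp (h ▸ hKE))
    have hσ1 : Cfsg.sigmaCore M ≠ ⊥ := by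
      intro h
      have := c.hx
      rw [h, Subgroup.mem_bot] at this
      exact c.hx1 this
    have hreg : ∀ e ∈ E, e ≠ 1 → ∀ a ∈ Cfsg.sigmaCore M, e * a = a * e → a = 1 :=
      fun e he he1 a ha h => c.regular hE he he1 ha h
    refine ⟨E.subgroupOf M, isFrobeniusComplement_subgroupOf hE hσ1 hE1 hreg, ?_⟩
    -- `E` is cyclic
    obtain ⟨Z1, hZ11, hZ1σ, hZ1N, hnorm, hZ1e, hZ1c⟩ := c.exists_Z1
    have hEnZ : E ≤ Subgroup.normalizer (Z1 : Set G) := hnorm ▸ hE.1
    have hZ1p : IsPGroup (orderOf x) Z1 := by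
      intro z
      refine ⟨1, ?_⟩
      rw [pow_one]
      exact Subtype.ext (by simpa using hZ1e.2 z z.2)
    have hq2 : orderOf x ≠ 2 := by
      intro h
      have h1 : orderOf x ∣ Nat.card G := orderOf_dvd_natCard x
      rw [h] at h1
      exact (Nat.not_even_iff_odd.mpr hG.1) (even_iff_two_dvd.mpr h1)
    have hrk : Cfsg.PRankLE (orderOf x) 2 ↥Z1 := by
      intro A _ _
      exact (Subgroup.card_le_card_group A).trans hZ1c
    have hsolvE : Group.IsSolvable ↥E :=
      @Group.isSolvable_of_isSolvable_injective _ _ _ _ (Subgroup.inclusion hE.1)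
        (Subgroup.inclusion_injective hE.1) (hG.2.2.2 M c.hM.1)
    have hoddE : Odd (Nat.card E) :=
      Odd.of_dvd_nat hG.1 (Subgroup.card_subgroup_dvd_card E)
    have hfpf : ∀ a ∈ E, a ≠ 1 → Z1 ⊓ Subgroup.centralizer {a} = ⊥ := by
      intro a ha ha1
      rw [eq_bot_iff]
      intro z hz
      rw [Subgroup.mem_bot]
      have h1 : z * a = a * z := Subgroup.mem_centralizer_singleton_iff.mp hz.2
      exact hreg a ha ha1 z (hZ1σ hz.1) h1.symm
    have hfaith : E ⊓ Subgroup.centralizer (Z1 : Set G) = ⊥ := by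
      rw [eq_bot_iff]
      intro e he
      rw [Subgroup.mem_bot]
      by_contra he1
      obtain ⟨z, hz, hz1⟩ := (Subgroup.bot_or_exists_ne_one Z1).resolve_left hZ11
      have h1 : z * e = e * z := Subgroup.mem_centralizer_iff.mp he.2 z hz
      exact hz1 (hreg e he.1 he1 z (hZ1σ hz) h1.symm)
    have h49 := Cfsg.Agent.S1449.result (orderOf x) hq2 Z1 E hZ1p hrk hEnZ hsolvE hoddE hfaith
    have hcomm : ⁅E, E⁆ = ⊥ := by
      rw [← Subgroup.card_eq_one]
      obtain ⟨a, ha⟩ := IsPGroup.iff_card.mp h49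
      rw [ha]
      rcases Nat.eq_zero_or_pos a with h0 | hpos
      · rw [h0, pow_zero]
      · exfalso
        have h1 : orderOf x ∣ Nat.card ↥⁅E, E⁆ := by
          rw [ha]
          exact dvd_pow_self _ hpos.ne'
        have h2 : orderOf x ∣ Nat.card E :=
          h1.trans (Subgroup.card_dvd_of_le (Subgroup.commutator_le.mpr (fun g₁ h₁ g₂ h₂ =>
            E.mul_mem (E.mul_mem (E.mul_mem h₁ h₂) (E.inv_mem h₁)) (E.inv_mem h₂))))
        exact Cfsg.Agent.Lib.Helper23.BGY.not_mem_sigma_of_dvd_compl hG c.hM hE c.hxo h2 c.q_sigma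
    have hEc : IsMulCommutative E := by
      refine ⟨⟨fun a b => ?_⟩⟩
      have h1 := (Subgroup.commutator_eq_bot_iff_le_centralizer.mp hcomm) a.2
      exact Subtype.ext (Subgroup.mem_centralizer_iff.mp h1 b b.2).symm
    haveI : IsMulCommutative Z1 := hZ1e.1
    have hcyc : IsCyclic ↥E :=
      Cfsg.Agent.Lib.Helper9.isCyclic_of_fpf_on_subgroup E Z1 hZ11 hEnZ hfpf (Or.inl hEc)
    exact isCyclic_of_surjective (Subgroup.subgroupOfEquivOfLe hE.1).symm.toMonoidHom
      (Subgroup.subgroupOfEquivOfLe hE.1).symm.surjective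
  · intro hTI
    have hFσ := Cfsg.Agent.Lib.Helper9.BG144.sigmaCore_eq_fittingHallOf hG c.hM c.nil
    have hσ1 : Cfsg.sigmaCore M ≠ ⊥ := by
      intro h
      have := c.hx
      rw [h, Subgroup.mem_bot] at this
      exact c.hx1 this
    have hnorm : Subgroup.normalizer ((Cfsg.sigmaCore M : Subgroup G) : Set G) = M :=
      Cfsg.Agent.Lib.Helper17.BGU.normalizer_eq_of_coatom c.hM (sigmaCore_le M) hσ1
        (Cfsg.Agent.Lib.Helper23.BGY.le_normalizer_sigmaCore M)
    obtain ⟨g, hgC, hgM⟩ := SetLike.not_le_iff_exists.mp c.hxM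
    have hgn : g ∉ Subgroup.normalizer (Cfsg.fittingHallOf M : Set G) := by
      rw [← hFσ, hnorm]
      exact hgM
    have hgx : g * x * g⁻¹ = x := by
      have h1 : g * x = x * g := Subgroup.mem_centralizer_singleton_iff.mp hgC
      rw [h1, mul_inv_cancel_right]
    have hxF : x ∈ (Cfsg.fittingHallOf M : Set G) := by
      rw [← hFσ]
      exact c.hx
    exact c.hx1 (hTI g hgn x hxF (by rw [hgx]; exact hxF))

end GCfg

end Cfsg.Agent.Lib.Helper17.BG146
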