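import Mathlib
import Cfsg.Agent.Lib.Helper17.BG146J
import Cfsg.Agent.S1372
import Cfsg.Agent.S1423

/-!
# helper17: B & G 14.4(c) (S1436(a)): if a prime of `σ(N)` divides `|M|` then `κ(M) = τ₂(M) = ∅`
-/

set_option autoImplicit false
set_option linter.unusedSectionVars false
set_option linter.unusedVariables false
set_option linter.style.haveILetI false

namespace Cfsg.Agent.Lib.Helper17.BG146

open Cfsg.Agent.Lib.Helper8 (mem_map_conj conj_mem_map_conj map_conj_map_conj map_conj_one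
  map_conj_le_iff map_conj_eq_iff card_map_conj mem_normalizer_iff_map_conj)
open Cfsg.Agent.Lib.Helper8.BGQ (Root)
open Cfsg.Agent.Lib.Helper9.BG144 (RData SP exists_rdata mem_normalizer_sup)
open Cfsg.Agent.Lib.Helper2.BGCor (sigmaCore_le primes_card_sigmaCore)

variable {G : Type*} [Group G]

/-- reduction of a 14.4-situation to an element of prime order. -/
theorem exists_prime_rdata [Finite G] (hG : Cfsg.IsMinSimpleOddOrder G) {M : Subgroup G}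
    (hM : IsCoatom M) {x : G} (hx : x ∈ Cfsg.sigmaCore M) (hx1 : x ≠ 1)
    (hxM : ¬ Subgroup.centralizer ({x} : Set G) ≤ M) {N : Subgroup G} (hN : IsCoatom N)
    (hxN : Subgroup.centralizer ({x} : Set G) ≤ N) :
    ∃ j : ℕ, (orderOf (x ^ j)).Prime ∧ x ^ j ∈ Cfsg.sigmaCore M ∧
      ¬ Subgroup.centralizer ({x ^ j} : Set G) ≤ M ∧ RData M (x ^ j) N := by
  have hSP := Cfsg.Agent.Lib.Helper27.BGPCount.sp_real hG
  have h28 := Cfsg.Agent.Lib.Helper27.BGPCount.h1428_real hG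
  obtain ⟨q, j, hq, hqd, hjo⟩ := Cfsg.Agent.Lib.Helper16.BGPrim.exists_pow_orderOf_prime hx1
  have hxj : x ^ j ∈ Cfsg.sigmaCore M := Subgroup.pow_mem _ hx j
  have hxj1 : x ^ j ≠ 1 := by
    intro h
    rw [h, orderOf_one] at hjo
    exact hq.ne_one hjo.symm
  have hle := centralizer_le_centralizer_pow x j
  have hxjM : ¬ Subgroup.centralizer ({x ^ j} : Set G) ≤ M := fun h => hxM (hle.trans h)
  obtain ⟨N0, rd0⟩ := exists_rdata hG hSP h28 hM hx hx1 hxM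
  have hN0 : N = N0 := rd0.uniq N hN hxN
  obtain ⟨N1, rd1⟩ := exists_rdata hG hSP h28 hM hxj hxj1 hxjM
  have hN1 : N1 = N0 := rd0.uniq N1 rd1.coatom (hle.trans rd1.cent_le)
  rw [hN1, ← hN0] at rd1
  exact ⟨j, by rw [hjo]; exact hq, hxj, hxjM, rd1⟩

/-- a prime dividing `|M|` outside `κ(M) ∪ σ(M)` forces `U ≠ 1`. -/
theorem U_ne_bot_of_dvd [Finite G] {M K U : Subgroup G}
    (hKU : Cfsg.IsSigmaDecomposition M K U) {q : ℕ} (hq : q.Prime) (hqM : q ∣ Nat.card M)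
    (hqκ : q ∉ Cfsg.kappa M) (hqσ : q ∉ Cfsg.sigma M) : U ≠ ⊥ := by
  intro hU
  have hc := hKU.compl
  rw [hU] at hc
  have hNle : M ≤ K ⊔ Cfsg.sigmaCore M := by
    intro n hn
    obtain ⟨a, ha, b, hb, rfl⟩ := hc.2.2.2 n hn
    rw [Subgroup.mem_bot.mp ha, one_mul]
    exact hb
  have hnorm : K ≤ Subgroup.normalizer ((Cfsg.sigmaCore M : Subgroup G) : Set G) :=
    hKU.hall.1.trans (Cfsg.Agent.Lib.Helper23.BGY.le_normalizer_sigmaCore M)
  have hcard := Cfsg.Agent.Lib.Helper4.card_sup_mul_card_inf K (Cfsg.sigmaCore M) hnorm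
  have h1 : q ∣ Nat.card ↥(K ⊔ Cfsg.sigmaCore M) := hqM.trans (Subgroup.card_dvd_of_le hNle)
  have h2 : q ∣ Nat.card K * Nat.card (Cfsg.sigmaCore M) := by
    rw [← hcard]
    exact h1.trans (dvd_mul_right _ _)
  rcases (Nat.Prime.dvd_mul hq).mp h2 with h | h
  · exact hqκ (hKU.hall.2.1 q hq h)
  · exact hqσ (primes_card_sigmaCore M q hq h)

/-- the conclusion of S1376 (with `τ₂(M) = ∅`) from `κ(N) ≠ ∅`. -/
theorem kappa_tau2_of_kappa_N [Finite G] (hG : Cfsg.IsMinSimpleOddOrder G) {M : Subgroup G}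
    (hM : IsCoatom M) {x : G} (hx : x ∈ Cfsg.sigmaCore M) (hx1 : x ≠ 1)
    (hxM : ¬ Subgroup.centralizer ({x} : Set G) ≤ M) {N : Subgroup G} (hN : IsCoatom N)
    (hxN : Subgroup.centralizer ({x} : Set G) ≤ N) (hkN : (Cfsg.kappa N).Nonempty) :
    Cfsg.kappa M = ∅ ∧ Cfsg.tau2 M = ∅ := by
  obtain ⟨j, Ns, K, c⟩ := exists_gcfg hG hM hx hx1 hxM hN hxN hkN
  exact ⟨c.main.1, c.main.2.1⟩

/-- a complement of `M_σ` containing a given `σ(M)'`-subgroup. -/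
theorem exists_compl_ge' [Finite G] (hG : Cfsg.IsMinSimpleOddOrder G) {M : Subgroup G}
    (hM : IsCoatom M) {Y : Subgroup G} (hYM : Y ≤ M)
    (hY : ∀ p : ℕ, p.Prime → p ∣ Nat.card Y → p ∉ Cfsg.sigma M) :
    ∃ E : Subgroup G, Cfsg.IsComplIn E (Cfsg.sigmaCore M) M ∧ Y ≤ E := by
  have hHall := (Cfsg.Agent.S1350.result hG M hM).1
  obtain ⟨E0, hE0⟩ := Cfsg.Agent.Lib.Helper2.BGCor.exists_compl_sigmaCore hHall
  obtain ⟨g, hgM, hgle⟩ := Cfsg.Agent.Lib.Helper2.BGCor.exists_conj_le_compl hG hM hHall hE0 hYM hY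
  refine ⟨E0.map (MulAut.conj g⁻¹).toMonoidHom,
    Cfsg.Agent.Lib.Helper23.BGY.isComplIn_conj (Cfsg.Agent.Lib.Helper23.BGY.le_normalizer_sigmaCore M)
      hE0 (M.inv_mem hgM), ?_⟩
  exact map_conj_le_iff.mp hgle

/-- If `P₀` of prime order normalizes `B` and acts without fixed points on `M_σ ≠ 1`, and
`C_{M_σ}(B) = 1`, then `C_B(P₀) ≠ 1`. -/
theorem exists_fixed_in_B [Finite G] (hG : Cfsg.IsMinSimpleOddOrder G) {M : Subgroup G}
    (hM : IsCoatom M) {B P0 : Subgroup G} (hBM : B ≤ M) (hP0M : P0 ≤ M)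
    (hP0p : (Nat.card P0).Prime) (hP0σ : Nat.card P0 ∉ Cfsg.sigma M)
    (hBσ : ∀ p : ℕ, p.Prime → p ∣ Nat.card B → p ∉ Cfsg.sigma M)
    (hP0B : P0 ≤ Subgroup.normalizer (B : Set G))
    (hcentB : Cfsg.sigmaCore M ⊓ Subgroup.centralizer (B : Set G) = ⊥)
    (hcent : ∀ a ∈ Cfsg.sigmaCore M, (∀ k ∈ P0, k * a = a * k) → a = 1)
    (hσ1 : Cfsg.sigmaCore M ≠ ⊥) : ∃ b ∈ B, b ≠ 1 ∧ ∀ k ∈ P0, k * b = b * k := by
  by_contra hno
  push Not at hno
  have hP01 : P0 ≠ ⊥ := by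
    intro h
    rw [h, Subgroup.card_bot] at hP0p
    exact Nat.not_prime_one hP0p
  have hUn : ∀ e ∈ P0, ∀ u ∈ B, e * u * e⁻¹ ∈ B := fun e he u hu =>
    (Subgroup.mem_normalizer_iff.mp (hP0B he) u).mp hu
  have hfpf : ∀ e ∈ P0, e ≠ 1 → ∀ u ∈ B, e * u = u * e → u = 1 := by
    intro e he he1 u hu h
    by_contra hu1
    obtain ⟨k, hk, hne⟩ := hno u hu hu1
    exact hne (comm_of_comm_gen hP0p he he1 h k hk)
  have hσn := Cfsg.Agent.Lib.Helper23.BGY.le_normalizer_sigmaCore M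
  have hBKM : B ⊔ P0 ≤ M := sup_le hBM hP0M
  have hHn : ∀ a ∈ B ⊔ P0, ∀ h ∈ Cfsg.sigmaCore M, a * h * a⁻¹ ∈ Cfsg.sigmaCore M :=
    fun a ha h hh => (Subgroup.mem_normalizer_iff.mp (hσn (hBKM ha)) h).mp hh
  have hsolvM : Group.IsSolvable ↥M := hG.2.2.2 M hM.1
  have hsolv : Group.IsSolvable ↥(Cfsg.sigmaCore M) :=
    Group.isSolvable_of_isSolvable_injective (Subgroup.inclusion_injective (sigmaCore_le M))
  have hcop : Nat.Coprime (Nat.card (Cfsg.sigmaCore M)) (Nat.card ↥(B ⊔ P0)) := by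
    have h1 : Nat.card ↥(P0 ⊔ B) ∣ Nat.card P0 * Nat.card B := by
      have := Cfsg.Agent.Lib.Helper4.card_sup_mul_card_inf P0 B hP0B
      rw [← this]
      exact dvd_mul_right _ _
    rw [sup_comm]
    apply Nat.Coprime.coprime_dvd_right h1
    apply Nat.coprime_of_dvd
    intro t ht hd1 hd2
    have htσ : t ∈ Cfsg.sigma M := primes_card_sigmaCore M t ht hd1
    rcases (Nat.Prime.dvd_mul ht).mp hd2 with h | h
    · rw [(Nat.prime_dvd_prime_iff_eq ht hP0p).mp h] at htσ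
      exact hP0σ htσ
    · exact hBσ t ht h htσ
  have hf := Cfsg.Agent.Lib.Helper17.FrobCount.formula_aux B P0 hP01 hUn hfpf _
    (Cfsg.sigmaCore M) rfl hHn hsolv hcop
  have hCK : Cfsg.sigmaCore M ⊓ Subgroup.centralizer (P0 : Set G) = ⊥ := by
    rw [eq_bot_iff]
    intro a ha
    rw [Subgroup.mem_bot]
    exact hcent a ha.1 (fun k hk => Subgroup.mem_centralizer_iff.mp ha.2 k hk)
  rw [hCK, hcentB, Subgroup.card_bot, one_pow, one_mul] at hf
  have h1 : Nat.card (Cfsg.sigmaCore M) = 1 := Nat.eq_one_of_mul_eq_one_left hf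
  exact hσ1 (Subgroup.card_eq_one.mp h1)

end Cfsg.Agent.Lib.Helper17.BG146
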