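import Mathlib
import Cfsg.Agent.Lib.Helper17.BG146K
import Cfsg.Agent.Lib.Helper27.BGPCountB
import Cfsg.Agent.Lib.Helper17.BGFitA

/-!
# helper17: B & G 14.4(c) (S1436(a))
-/

set_option autoImplicit false
set_option linter.unusedSectionVars false
set_option linter.unusedVariables false
set_option linter.style.haveILetI false

namespace Cfsg.Agent.Lib.Helper17.BG146

open Cfsg.Agent.Lib.Helper8 (mem_map_conj conj_mem_map_conj map_conj_map_conj map_conj_one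
  map_conj_le_iff map_conj_eq_iff card_map_conj mem_normalizer_iff_map_conj)
open Cfsg.Agent.Lib.Helper8.BGQ (Root)
open Cfsg.Agent.Lib.Helper9.BG144 (RData SP exists_rdata mem_normalizer_sup)
open Cfsg.Agent.Lib.Helper2.BGCor (sigmaCore_le primes_card_sigmaCore)

variable {G : Type*} [Group G]

/-- **B & G 14.4(c)** for `x` of prime order. -/
theorem thm14_4c [Finite G] (hG : Cfsg.IsMinSimpleOddOrder G) {M N : Subgroup G}
    (hM : IsCoatom M) {x : G} (hx : x ∈ Cfsg.sigmaCore M) (hxo : (orderOf x).Prime)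
    (hxM : ¬ Subgroup.centralizer ({x} : Set G) ≤ M) (rd : RData M x N) {p : ℕ}
    (hpN : p ∈ Cfsg.sigma N) (hpM : p ∣ Nat.card M) :
    Cfsg.kappa M = ∅ ∧ Cfsg.tau2 M = ∅ := by
  have hSP := Cfsg.Agent.Lib.Helper27.BGPCount.sp_real hG
  haveI := hG.2.1
  have hN := rd.coatom
  have hxN := rd.cent_le
  have hx1 : x ≠ 1 := by
    intro h
    rw [h, orderOf_one] at hxo
    exact Nat.not_prime_one hxo
  haveI : Fact p.Prime := ⟨hpN.1⟩
  haveI : Fact (orderOf x).Prime := ⟨hxo⟩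
  have hpσM : p ∉ Cfsg.sigma M := rd.sigma_disjoint hSP hM hx hx1 hpN
  have hGc : (Cfsg.kappa N).Nonempty → Cfsg.kappa M = ∅ ∧ Cfsg.tau2 M = ∅ :=
    kappa_tau2_of_kappa_N hG hM hx hx1 hxM hN hxN
  have hσ1 : Cfsg.sigmaCore M ≠ ⊥ := by
    intro h
    rw [h, Subgroup.mem_bot] at hx
    exact hx1 hx
  -- `p ∈ β(N)`
  have hqM : orderOf x ∈ Cfsg.sigma M :=
    primes_card_sigmaCore M _ hxo (Subgroup.orderOf_dvd_natCard _ hx)
  have hqN : orderOf x ∉ Cfsg.sigma N := (rd.tau2 _ hxo dvd_rfl).2.1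
  have hXq : IsPGroup (orderOf x) (Subgroup.zpowers x) :=
    IsPGroup.of_card (n := 1) (by rw [Nat.card_zpowers, pow_one])
  have hX1 : Subgroup.zpowers x ≠ ⊥ := by
    intro h
    have : x ∈ (⊥ : Subgroup G) := h ▸ Subgroup.mem_zpowers x
    exact hx1 (Subgroup.mem_bot.mp this)
  have hXM : Subgroup.zpowers x ≤ M := Subgroup.zpowers_le.mpr (sigmaCore_le M hx)
  have hβN : p ∈ Cfsg.beta N := Cfsg.Agent.Lib.Helper23.BG1215.thm12_15e2 hG hM hN rd.ne hqM hqN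
    hXq hX1 hXM (normalizer_zpowers_le hG rd hxo) hpM hpN
  have hpτ : p ∉ Cfsg.tau2 M := fun h =>
    (Cfsg.Agent.S1408.result hG M hM p h.2.1 h.2.2.1 h.2.2.2).1 hβN.2
  have hprk : Cfsg.PRankLE p 1 ↥M := by
    by_contra h
    exact hpτ (Cfsg.Agent.Lib.Helper23.BGY.mem_tau2_of_not_rank_one hG hM hpN.1 hpσM h)
  -- `κ(M) = ∅`
  have hκ : Cfsg.kappa M = ∅ := by
    by_contra hne
    obtain ⟨t, ht⟩ := Set.nonempty_iff_ne_empty.mpr hne
    obtain ⟨KM, hKM, -⟩ := Cfsg.Agent.Lib.Helper2.BGCor.exists_hall_ge hG hM (Cfsg.kappa M)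
      (Y := ⊥) bot_le (by
        intro p hp hd
        rw [Subgroup.card_bot] at hd
        exact absurd (Nat.dvd_one.mp hd) hp.ne_one)
    have htK : t ∣ Nat.card KM := hall_ne_bot hKM ht.1 ht ht.2.1
    have hKM1 : KM ≠ ⊥ := by
      intro h
      rw [h, Subgroup.card_bot] at htK
      exact ht.1.ne_one (Nat.dvd_one.mp htK)
    have rootM : Root M KM := ⟨hG, hM, hKM, hKM1⟩
    by_cases hpκ : p ∈ Cfsg.kappa M
    · have hpK : p ∣ Nat.card KM := hall_ne_bot hKM hpN.1 hpκ hpM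
      obtain ⟨y0, hy0⟩ := exists_prime_orderOf_dvd_card' p hpK
      obtain ⟨P0, hP0def⟩ : ∃ P0 : Subgroup G, P0 = Subgroup.zpowers (y0 : G) := ⟨_, rfl⟩
      have hP0K : P0 ≤ KM := hP0def ▸ Subgroup.zpowers_le.mpr y0.2
      have hP0c : Nat.card P0 = p := by
        rw [hP0def, Nat.card_zpowers, Subgroup.orderOf_coe, hy0]
      have hP0p : (Nat.card P0).Prime := hP0c ▸ hpN.1
      obtain ⟨H, hH, hNH⟩ := rootM.exists_partner hP0K hP0p
      have hpH : p ∈ Cfsg.sigma H := hP0c ▸ rootM.card_mem_sigma hP0K hP0p hH hNH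
      obtain ⟨g, hg⟩ := hSP N H hN hH ⟨p, hpN, hpH⟩
      have hhall := rootM.Ks_hall hP0K hP0p hH hNH
      have hKs1 : Nat.card ↥(Cfsg.sigmaCore M ⊓ Subgroup.centralizer (KM : Set G)) ≠ 1 :=
        fun h => rootM.Ks_ne_bot (Subgroup.card_eq_one.mp h)
      obtain ⟨u, hu, hud⟩ := Nat.exists_prime_and_dvd hKs1
      have huH : u ∈ Cfsg.kappa H := hhall.2.1 u hu hud
      rw [hg, Cfsg.Agent.Lib.Helper23.BG146.kappa_map_conj_eq hG hN g] at huH
      have := (hGc ⟨u, huH⟩).1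
      rw [this] at hpκ
      exact hpκ
    · obtain ⟨U, hKU⟩ := (Cfsg.Agent.S1352.result hG M hM KM rootM.cyclic hKM).1
      have hU1 := U_ne_bot_of_dvd hKU hpN.1 hpM hpκ hpσM
      obtain ⟨-, hTI, hle⟩ := Cfsg.Agent.S1372.result hG M hM KM U hKU hKM1 hU1
      have hxF : x ∈ Cfsg.fittingOf M := hle hx
      have hF1 : Cfsg.fittingOf M ≠ ⊥ := by
        intro h
        rw [h, Subgroup.mem_bot] at hxF
        exact hx1 hxF
      have hnorm : Subgroup.normalizer ((Cfsg.fittingOf M : Subgroup G) : Set G) = M :=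
        Cfsg.Agent.Lib.Helper17.BGU.normalizer_eq_of_coatom hM
          (Cfsg.Agent.Lib.Helper17.PrimeAct.fittingOf_le M) hF1
          (Cfsg.Agent.Lib.Helper17.BGU.le_normalizer_fittingOf M)
      obtain ⟨g, hgC, hgM⟩ := SetLike.not_le_iff_exists.mp hxM
      have hgx : g * x * g⁻¹ = x := by
        have h1 : g * x = x * g := Subgroup.mem_centralizer_singleton_iff.mp hgC
        rw [h1, mul_inv_cancel_right]
      exact hx1 (hTI g (by rw [hnorm]; exact hgM) x hxF (by rw [hgx]; exact hxF))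
  refine ⟨hκ, ?_⟩
  -- `τ₂(M) = ∅`
  by_contra hne
  obtain ⟨s, hs⟩ := Set.nonempty_iff_ne_empty.mpr hne
  haveI : Fact s.Prime := ⟨hs.1⟩
  obtain ⟨y0, hy0⟩ := exists_prime_orderOf_dvd_card' p hpM
  obtain ⟨P0, hP0def⟩ : ∃ P0 : Subgroup G, P0 = Subgroup.zpowers (y0 : G) := ⟨_, rfl⟩
  have hy0o : orderOf (y0 : G) = p := by rw [Subgroup.orderOf_coe, hy0]
  have hy01 : (y0 : G) ≠ 1 := by
    intro h
    rw [h, orderOf_one] at hy0o
    exact hpN.1.ne_one hy0o.symm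
  have hy0P : (y0 : G) ∈ P0 := hP0def ▸ Subgroup.mem_zpowers _
  have hP0M : P0 ≤ M := hP0def ▸ Subgroup.zpowers_le.mpr y0.2
  have hP0c : Nat.card P0 = p := by rw [hP0def, Nat.card_zpowers, hy0o]
  have hP0p : (Nat.card P0).Prime := hP0c ▸ hpN.1
  have hP0pg : IsPGroup p P0 := IsPGroup.of_card (n := 1) (by rw [hP0c, pow_one])
  obtain ⟨E, hE, hP0E⟩ := exists_compl_ge' hG hM hP0M (by
    intro t ht hd
    rw [hP0c] at hd
    rw [(Nat.prime_dvd_prime_iff_eq ht hpN.1).mp hd]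
    exact hpσM)
  obtain ⟨B, hBE, hBe, hBc⟩ := Cfsg.Agent.Lib.Helper24.BGReg.exists_elemAb_le_compl hG hM hE hs
  have hBM : B ≤ M := hBE.trans hE.1
  have h18 := Cfsg.Agent.S1418.result hG M hM E hE s hs B ⟨hBE, hBe, hBc⟩
  have h17 := Cfsg.Agent.S1417.result hG M hM s hs B ⟨hBM, hBe, hBc⟩
  -- the conjugate `H` of `N` containing `P0`
  obtain ⟨S, hSN, hS1, hNS⟩ := Cfsg.Agent.Lib.Helper1.BGX.exists_sylow_of_mem_sigma hpN
  obtain ⟨S', hS'⟩ := hP0pg.exists_le_sylow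
  obtain ⟨g, hg⟩ := MulAction.exists_smul_eq G S' S
  have hP0g : P0.map (MulAut.conj g).toMonoidHom ≤ N := by
    intro z hz
    apply hSN
    rw [← hg, Cfsg.Agent.Lib.Helper8.sylow_smul_coe]
    exact Subgroup.map_mono hS' hz
  obtain ⟨H, hHdef⟩ : ∃ H : Subgroup G, H = N.map (MulAut.conj g⁻¹).toMonoidHom := ⟨_, rfl⟩
  have hP0H : P0 ≤ H := hHdef ▸ map_conj_le_iff.mp hP0g
  have hH : IsCoatom H := hHdef ▸ Cfsg.Agent.Lib.Helper17.BGU.isCoatom_map_conj g⁻¹ hN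
  have hpH : p ∈ Cfsg.sigma H := by
    rw [hHdef, Cfsg.Agent.Lib.Helper9.BG144.sigma_map_conj_iff]
    exact hpN
  have hβH : p ∈ Cfsg.beta H := by
    refine ⟨⟨hpN.1, fun h => hβN.1.2 ?_⟩, hβN.2⟩
    have e : ↥N ≃* ↥(N.map (MulAut.conj g⁻¹).toMonoidHom) :=
      N.equivMapOfInjective _ (MulAut.conj g⁻¹).injective
    rw [hHdef] at h
    exact Cfsg.Agent.Lib.Helper27.BGPCount.pRankLE_of_mulEquiv e.symm h
  have hHM : H ≠ M := fun h => hpσM (h ▸ hpH)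
  obtain ⟨P⟩ : Nonempty (Sylow p ↥(Cfsg.sigmaCore H)) := inferInstance
  have h23 := (Cfsg.Agent.S1423.result hG H hH p hpH P0 hP0H hP0c P (Or.inl hβH)).1
  have hy0σ : (y0 : G) ∈ Cfsg.sigmaCore H :=
    Cfsg.Agent.Lib.Helper16.BGPrim.le_sigmaCore_of_isPGroup hG hH hpH hP0pg hP0H hy0P
  have hsH : s ∉ Cfsg.sigma H := by
    rw [hHdef, Cfsg.Agent.Lib.Helper9.BG144.sigma_map_conj_iff]
    exact GCfg.not_sigma_N_of_tau2 hG hM rd hx hxo hs
  have hκH : (Cfsg.kappa H).Nonempty → False := by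
    rintro ⟨u, hu⟩
    rw [hHdef, Cfsg.Agent.Lib.Helper23.BG146.kappa_map_conj_eq hG hN g⁻¹] at hu
    have := (hGc ⟨u, hu⟩).2
    rw [this] at hs
    exact hs
  have hBcomm : ∀ a ∈ B, ∀ b ∈ B, a * b = b * a := fun a ha b hb =>
    congrArg Subtype.val (hBe.1.is_comm.comm (⟨a, ha⟩ : ↥B) ⟨b, hb⟩)
  -- (i) `B ≤ H` is impossible
  have hBH : ¬ B ≤ H := by
    intro hle
    have hr1 : ¬ Cfsg.PRankLE s 1 ↥H := by
      apply Cfsg.Agent.Lib.Helper17.BGU.not_pRankLE_of_elemAb hle hBcomm hBe.2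
      rw [hBc, pow_one, sq]
      exact lt_mul_of_one_lt_left hs.1.pos hs.1.one_lt
    have hsτH : s ∈ Cfsg.tau2 H :=
      Cfsg.Agent.Lib.Helper23.BGY.mem_tau2_of_not_rank_one hG hH hs.1 hsH hr1
    have h17H := (Cfsg.Agent.S1417.result hG H hH s hsτH B ⟨hle, hBe, hBc⟩).2.2.2.2.1 M hM
      hHM.symm hBM
    have : (y0 : G) ∈ Cfsg.sigmaCore H ⊓ M := Subgroup.mem_inf.mpr ⟨hy0σ, y0.2⟩
    rw [h17H, Subgroup.mem_bot] at this
    exact hy01 this
  -- (ii) `C_{M_σ}(P0) = 1`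
  have hcent : ∀ a ∈ Cfsg.sigmaCore M, (∀ k ∈ P0, k * a = a * k) → a = 1 := by
    intro a ha hka
    by_contra ha1
    have := Cfsg.Agent.Lib.Helper24.BGReg.mem_kappa_of_fixed hG hpN.1 hpσM hprk y0.2 hy0o ha ha1
      (hka _ hy0P)
    rw [hκ] at this
    exact this
  -- (iii)
  obtain ⟨b2, hb2B, hb21, hb2K⟩ := exists_fixed_in_B hG hM hBM hP0M hP0p (hP0c ▸ hpσM) (by
      intro t ht hd
      rw [hBc] at hd
      rw [(Nat.prime_dvd_prime_iff_eq ht hs.1).mp (ht.dvd_of_dvd_pow hd)]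
      exact hs.2.1) (hP0E.trans h18.1.1) h17.2.2.2.1 hcent hσ1
  -- (iv)
  have hb2H : b2 ∈ H := h23.1 (Subgroup.mem_centralizer_iff.mpr (fun k hk => hb2K k hk))
  have hb2o : orderOf b2 = s := GCfg.orderOf_of_elemAb hs.1 hBe hb2B hb21
  have hb2C : b2 ∈ Subgroup.centralizer ({(y0 : G)} : Set G) :=
    Subgroup.mem_centralizer_singleton_iff.mpr (hb2K _ hy0P).symm
  have h32 := Cfsg.Agent.S1432.result hG H hH y0 hy0σ hy01 b2 (Subgroup.mem_inf.mpr ⟨hb2H, hb2C⟩)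
    hb21 (by
      intro t ht hd
      rw [hb2o] at hd
      rw [(Nat.prime_dvd_prime_iff_eq ht hs.1).mp hd]
      exact hsH)
  rcases h32 with ⟨hκ', -⟩ | ⟨-, -, hCb, -⟩
  · exact hκH ⟨s, hκ' s hs.1 (by rw [hb2o])⟩
  · apply hBH
    intro u hu
    apply hCb
    rw [Subgroup.mem_centralizer_singleton_iff]
    exact hBcomm u hu b2 hb2B

end Cfsg.Agent.Lib.Helper17.BG146
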