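import Mathlib
import Cfsg.Agent.Lib.Helper17.BG146L
import Cfsg.Agent.Lib.Helper23.BGY4

/-!
# helper17: B & G 14.4(d) (S1436(b)): `N(y)` conjugate to `N(x)` in `G` implies conjugate in `M`
-/

set_option autoImplicit false
set_option linter.unusedSectionVars false
set_option linter.unusedVariables false
set_option linter.style.haveILetI false

namespace Cfsg.Agent.Lib.Helper17.BG146

open Cfsg.Agent.Lib.Helper8 (mem_map_conj conj_mem_map_conj map_conj_map_conj map_conj_one
  map_conj_le_iff map_conj_eq_iff card_map_conj mem_normalizer_iff_map_conj)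
open Cfsg.Agent.Lib.Helper9.BG144 (RData SP exists_rdata mem_normalizer_sup map_conj_of_mem)
open Cfsg.Agent.Lib.Helper2.BGCor (sigmaCore_le primes_card_sigmaCore)

variable {G : Type*} [Group G]

/-- **B & G 14.4(d)**. -/
theorem thm14_4d [Finite G] (hG : Cfsg.IsMinSimpleOddOrder G) {M N N' : Subgroup G}
    (hM : IsCoatom M) {x y : G} (rd : RData M x N) (hy : y ∈ Cfsg.sigmaCore M) (hy1 : y ≠ 1)
    (rd' : RData M y N') {g : G} (hg : N'.map (MulAut.conj g).toMonoidHom = N) :
    ∃ m ∈ M, N'.map (MulAut.conj m).toMonoidHom = N := by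
  have hSP := Cfsg.Agent.Lib.Helper27.BGPCount.sp_real hG
  have h28 := Cfsg.Agent.Lib.Helper27.BGPCount.h1428_real hG
  haveI := hG.2.1
  have hN := rd.coatom
  have hN' := rd'.coatom
  have hHallN := (Cfsg.Agent.S1350.result hG N hN).1
  -- `D'^g` is a `σ(N)'`-subgroup of `N`
  have hDgN : (M ⊓ N').map (MulAut.conj g).toMonoidHom ≤ N := by
    rw [← hg]
    exact Subgroup.map_mono inf_le_right
  obtain ⟨n, hnN, hnle⟩ := Cfsg.Agent.Lib.Helper2.BGCor.exists_conj_le_compl hG hN hHallN rd.compl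
    hDgN (by
      intro p hp hd
      rw [card_map_conj] at hd
      have h1 := Cfsg.Agent.Lib.Helper23.BGY.not_mem_sigma_of_dvd_compl hG hN' rd'.compl hp hd
      rw [← hg, Cfsg.Agent.Lib.Helper9.BG144.sigma_map_conj_iff]
      exact h1)
  have hyD' : y ∈ M ⊓ N' := Subgroup.mem_inf.mpr
    ⟨sigmaCore_le M hy, rd'.cent_le (Cfsg.Agent.Lib.Helper9.BG144.self_mem_centralizer _)⟩
  have h1 : n * (g * y * g⁻¹) * n⁻¹ ∈ M ⊓ N :=
    hnle (conj_mem_map_conj (conj_mem_map_conj hyD'))
  have hyg : y ∈ M.map (MulAut.conj (n * g)⁻¹).toMonoidHom := by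
    rw [mem_map_conj, inv_inv]
    have e : n * g * y * (n * g)⁻¹ = n * (g * y * g⁻¹) * n⁻¹ := by group
    rw [e]
    exact h1.1
  obtain ⟨r, hry, hMr, -⟩ :=
    Cfsg.Agent.Lib.Helper9.BG144.exists_conj_eq hG hSP h28 hM hy hy1 hyg
  -- `m = n g r` normalizes `M`
  have hMm : M.map (MulAut.conj (n * g * r)).toMonoidHom = M := by
    rw [← map_conj_map_conj, ← hMr, map_conj_map_conj, mul_inv_cancel, map_conj_one]
  have hM1 : M ≠ ⊥ := by
    intro h
    rw [h] at hy
    have : y ∈ (⊥ : Subgroup G) := sigmaCore_le ⊥ hy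
    exact hy1 (Subgroup.mem_bot.mp this)
  have hMn : Subgroup.normalizer (M : Set G) = M :=
    Cfsg.Agent.Lib.Helper17.BGU.normalizer_eq_of_coatom hM le_rfl hM1 Subgroup.le_normalizer
  have hmM : n * g * r ∈ M := by
    rw [← hMn, mem_normalizer_iff_map_conj]
    exact hMm
  refine ⟨n * g * r, hmM, ?_⟩
  have hrN' : r ∈ N' := rd'.cent_le (Subgroup.mem_centralizer_singleton_iff.mpr hry)
  rw [← map_conj_map_conj, map_conj_of_mem hrN', ← map_conj_map_conj, hg, map_conj_of_mem hnN]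

end Cfsg.Agent.Lib.Helper17.BG146
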