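/-
helper17: MAIN CLAIM (κ(M) ∩ τ₃(M) = ∅), unit C6: type (F-α) is impossible.
A faithful pair `(X, x)` with `T₃ ≤ C(x)` contradicts helper2's Lemma F (`lemmaF_alpha`).
-/
import Mathlib
import Cfsg.Prelude.Def_OddOrderLocal
import Cfsg.Agent.Lib.Helper17.BGC2E
import Cfsg.Agent.Lib.Helper2.BGCorV
import Cfsg.Agent.Lib.Helper24.BGC2CB
import Cfsg.Agent.Lib.Helper27.BG134F
import Cfsg.Agent.S1406
import Cfsg.Agent.S1426

set_option autoImplicit false
set_option linter.unusedSectionVars false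
set_option linter.unusedVariables false
set_option linter.style.haveILetI false

namespace Cfsg.Agent.Lib.Helper17.BGC2

open Cfsg.Agent.Lib.Helper17
open Cfsg.Agent.Lib.Helper17.BGR2
open Cfsg.Agent.Lib.Helper8 (map_conj_one)
open scoped commutatorElement

universe u

variable {G : Type u} [Group G]

/-- a `Z`-group has rank at most one. -/
theorem rankLE_one_of_isZGroup {K : Type*} [Group K] [Finite K] [IsZGroup K] :
    Cfsg.RankLE 1 K := by
  intro t ht A _ hA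
  haveI : Fact t.Prime := ⟨ht⟩
  have hAp : IsPGroup t A := fun a =>
    ⟨1, by rw [pow_one]; exact Subtype.ext (by simpa using hA a a.2)⟩
  haveI : IsCyclic ↥A := IsPGroup.isCyclic_of_isZGroup hAp
  rw [pow_one]
  exact Cfsg.Agent.Lib.Helper2.BGCor.card_le_of_isCyclic_of_exp ht.pos inferInstance hA

/-- `σ(M) ⊆ α(M)` gives `M_σ ≤ M_α`. -/
theorem sigmaCore_le_alphaCore_of_subset {M : Subgroup G}
    (hsub : ∀ q ∈ Cfsg.sigma M, q ∈ Cfsg.alpha M) : Cfsg.sigmaCore M ≤ Cfsg.alphaCore M := by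
  apply Subgroup.map_mono
  apply sSup_le_sSup
  rintro N ⟨hN, hNp⟩
  exact ⟨hN, fun p hp hd => hsub p (hNp p hp hd)⟩

theorem not_mem_alpha_of_pRankLE_one {M : Subgroup G} {p : ℕ} (hp : p.Prime)
    (hrk : Cfsg.PRankLE p 1 ↥M) : p ∉ Cfsg.alpha M := by
  rintro ⟨-, h2⟩
  apply h2
  intro A hA hAe
  exact (hrk A hA hAe).trans (Nat.pow_le_pow_right hp.pos (by norm_num))

namespace CaseII

variable [Finite G] {M E E1 E3 : Subgroup G}

/-- **C6**: type (F-α) is impossible. -/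
theorem typeFalpha_false (h : CaseII M E E1 E3) {X : Subgroup G} (hXE3 : X ≤ E3)
    (hXp : (Nat.card X).Prime) {x : G} (hxE1 : x ∈ E1) (hxo : (orderOf x).Prime)
    (hxX : ∃ a ∈ X, x * a ≠ a * x)
    (hc : Cfsg.sigmaCore M ⊓ Subgroup.centralizer (E3 : Set G) ≤
      Subgroup.centralizer ({x} : Set G)) : False := by
  haveI : Fact (Nat.card X).Prime := ⟨hXp⟩
  haveI : Fact (orderOf x).Prime := ⟨hxo⟩
  have hx1 : x ≠ 1 := by
    rintro rfl
    rw [orderOf_one] at hxo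
    exact Nat.not_prime_one hxo
  have hxM : x ∈ M := h.hEM (h.hE1E hxE1)
  have hXM : X ≤ M := (hXE3.trans h.hE3E).trans h.hEM
  -- `T₃ ≤ T₁`, so `T₃ ≤ C_{M_σ}(E) ≤ M_σ'`
  have h31 : Cfsg.sigmaCore M ⊓ Subgroup.centralizer (E3 : Set G) ≤
      Cfsg.sigmaCore M ⊓ Subgroup.centralizer (E1 : Set G) := by
    rw [← h.cent_E1 hxE1 hx1]
    exact le_inf inf_le_left hc
  have hT3E : Cfsg.sigmaCore M ⊓ Subgroup.centralizer (E3 : Set G) ≤
      Cfsg.sigmaCore M ⊓ Subgroup.centralizer (E : Set G) := by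
    rw [h.cent_E_eq]; exact le_inf h31 le_rfl
  have hT3' : Cfsg.sigmaCore M ⊓ Subgroup.centralizer (E3 : Set G) ≤
      ⁅Cfsg.sigmaCore M, Cfsg.sigmaCore M⁆ :=
    hT3E.trans (Cfsg.Agent.S1426.result h.hG M h.hM E h.hE).1
  -- `σ(M) ⊆ β(M)`, `M_σ ≤ M_α`
  have hσβ := Cfsg.Agent.Lib.Helper24.BGC2C.sigma_subset_beta h.hG h.hM h.hE
    h.E3_le_commutator hT3'
  have hMsα : Cfsg.sigmaCore M ≤ Cfsg.alphaCore M :=
    sigmaCore_le_alphaCore_of_subset (fun q hq => (hσβ q hq).1)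
  have hα1 : Cfsg.alphaCore M ≠ ⊥ := by
    intro h0
    apply h.hT3
    rw [eq_bot_iff]
    exact (inf_le_left.trans hMsα).trans h0.le
  have hpτ : Nat.card X ∈ Cfsg.tau3 M := h.p_tau3 hXE3 rfl
  have hrτ : orderOf x ∈ Cfsg.tau1 M := h.orderOf_mem_tau1 hxE1 hxo
  have hpα : Nat.card X ∉ Cfsg.alpha M := not_mem_alpha_of_pRankLE_one hXp hpτ.2.2.2
  have hrα : orderOf x ∉ Cfsg.alpha M := not_mem_alpha_of_pRankLE_one hxo hrτ.2.2.2.2
  -- a maximal subgroup `H ≠ M` over `N_G(X)`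
  have hX1 : X ≠ ⊥ := X_ne_bot (rfl : Nat.card X = Nat.card X)
  have hXtop : X ≠ ⊤ := fun hT => h.hM.1 (top_le_iff.mp (hT ▸ hXM))
  obtain ⟨H, hH, hNH⟩ := Cfsg.Agent.Lib.Helper17.BGU.exists_coatom_ge
    (Cfsg.Agent.Lib.Helper8.BGEx.normalizer_ne_top h.hG hX1 hXtop)
  have hnc := h.nonconj_H hXE3 rfl hH hNH
  have hHM : H ≠ M := by
    intro e
    apply hnc 1
    rw [map_conj_one]; exact e
  have hrkQ : Cfsg.RankLE 1 ↥(Cfsg.alphaCore M ⊓ Subgroup.centralizer (X : Set G)) := by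
    by_contra hr
    have h6 := Cfsg.Agent.S1406.result h.hG M h.hM X hXM (fun t ht htd => by
      rw [(Nat.prime_dvd_prime_iff_eq ht hXp).mp htd]; exact hpα) hr
    exact Cfsg.Agent.Lib.Helper27.BG134.not_inUniqueMaximal_of_le h.hM hH hHM inf_le_left
      (inf_le_right.trans ((Subgroup.centralizer_le_normalizer _).trans hNH)) h6
  have hrkP : Cfsg.RankLE 1
      ↥(Cfsg.alphaCore M ⊓ Subgroup.centralizer ((Subgroup.zpowers x : Subgroup G) : Set G)) := by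
    haveI := Cfsg.Agent.Lib.Helper2.BGCor.isZGroup_alphaCore_inf_centralizer h.hG h.hM hα1
      hrτ.2.1 hrτ.2.2.2.2 (Subgroup.zpowers_le.mpr hxM) (Nat.card_zpowers x)
    exact rankLE_one_of_isZGroup
  have hfpf : X ⊓ Subgroup.centralizer ((Subgroup.zpowers x : Subgroup G) : Set G) = ⊥ := by
    rw [eq_bot_iff]
    intro u hu
    rw [Subgroup.mem_bot]
    by_contra hu1
    obtain ⟨a, ha, hxa⟩ := hxX
    apply hxa
    have hu' := Subgroup.mem_inf.mp hu
    rw [Cfg.centralizer_zpowers_k, Subgroup.mem_centralizer_singleton_iff] at hu'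
    exact comm_of_comm_one hXp rfl hu'.1 hu1 hu'.2.symm a ha
  have hF := Cfsg.Agent.Lib.Helper2.BGCor.lemmaF_alpha h.hG h.hM hxo hXp hXM
    (Subgroup.zpowers_le.mpr hxM) (Nat.card_zpowers x) (isPGroup_X rfl) hX1
    ((Subgroup.zpowers_le.mpr (h.hE1E hxE1)).trans (h.E_le_normalizer hXE3)) hfpf hpα hrα
    hrkQ hrkP
  apply h.hT3
  rw [eq_bot_iff, ← hF]
  refine le_inf (le_inf (inf_le_left.trans hMsα)
    (inf_le_right.trans (Subgroup.centralizer_le hXE3))) ?_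
  rw [Cfg.centralizer_zpowers_k]
  exact hc

end CaseII

end Cfsg.Agent.Lib.Helper17.BGC2
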