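/-
helper17: B&G Lemma 11.7 in final form (exact signatures of notes/bg11/Skeleton.lean):
`Exc.centralizes_pCoreOf` (Step 2) and `Exc.normal` (`M_σ A ⊴ M` for an exceptional maximal subgroup).
Plugging of helper8's Block A/D (`Lib/Helper8/BGEx1-5`), helper16's Cor N' (`BGLemN`) into
`BGExF.centralizes_pCoreOf_core` and `BGExG.normal_core`.
-/
import Mathlib
import Cfsg.Prelude.Def_OddOrderLocal
import Cfsg.Prelude.Def_Amalgam
import Cfsg.Agent.Lib.Helper8.BGEx5
import Cfsg.Agent.Lib.Helper16.BGLemN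
import Cfsg.Agent.Lib.Helper17.BGExF3
import Cfsg.Agent.Lib.Helper17.BGExG3
import Cfsg.Agent.Lib.Helper1.BGX5

set_option autoImplicit false

namespace Cfsg.Agent.Lib.Helper17.BGExH

open Cfsg.Agent.Lib.Helper8.BGEx
open Cfsg.Agent.Lib.Helper17

universe u

variable {G : Type u} [Group G] [Finite G]

/-- **B&G 11.7, Step 2**: `A` centralizes `O_q(M)` for `q ∉ σ(M)`, `q ≠ p`. -/
theorem Exc.centralizes_pCoreOf (hG : Cfsg.IsMinSimpleOddOrder G) {M : Subgroup G} {p : ℕ}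
    [Fact p.Prime] {A A₀ : Subgroup G} (h : Exc M p A A₀) {q : ℕ} [Fact q.Prime]
    (hq : q ∉ Cfsg.sigma M) (hqp : q ≠ p) :
    Cfsg.pCoreOf q M ≤ Subgroup.centralizer (A : Set G) := by
  have h115 : ∀ (M : Subgroup G) (q : ℕ) [Fact q.Prime] (B B₀ : Subgroup G), Exc M q B B₀ →
      ∀ S : Sylow q M, IsMulCommutative (S : Subgroup M) :=
    fun M q _ B B₀ hB S => hB.sylow_comm hG S
  exact BGExF.centralizes_pCoreOf_core hG h hq hqp (h.rank hG).1 (h.not_ideal hG) (h.transHyp hG)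
    (h.sigmaCore_ne_bot hG) (h.nilpotent hG) (h.two_fpf hG)
    (fun B B₀ hB => (hB.rank hG).1) (fun B B₀ hB => hB.not_ideal hG)
    (fun B B₀ hB => hB.sigmaCore_inf_centralizer hG) (fun B B₀ hB S => hB.sylow_comm hG S)
    (fun hne => (Cfsg.Agent.Lib.Helper16.BGLemN.pCoreOf_cyclic hG h115 h.coatom hq hne).2)

/-- **B&G Lemma 11.7**: `M_σ A` is normal in the exceptional maximal subgroup `M`. -/
theorem Exc.normal (hG : Cfsg.IsMinSimpleOddOrder G) {M : Subgroup G} {p : ℕ} [Fact p.Prime]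
    {A A₀ : Subgroup G} (h : Exc M p A A₀) :
    M ≤ Subgroup.normalizer ((Cfsg.sigmaCore M ⊔ A : Subgroup G) : Set G) := by
  apply BGExG.normal_core hG h (h.nilpotent hG) (h.two_fpf hG)
  · intro P hPM hPp hAP x hx hxp
    obtain ⟨S, hPS⟩ := Cfsg.Agent.Lib.Helper1.BGX.exists_sylow_in_ge hPM hPp
    exact (h.omega hG S (hAP.trans hPS) x (hPS hx)).mp hxp
  · intro q _ hq hqp
    exact Exc.centralizes_pCoreOf hG h hq hqp

end Cfsg.Agent.Lib.Helper17.BGExH
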