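/-
helper17: S4501 market "BQ", leaf BQ-CONSEC (arithmetic).
-/
import Mathlib

set_option autoImplicit false

namespace Cfsg.Agent.Lib.Helper17.BQCONSEC

/-- a prime `p ≠ 3` has `p^2 % 3 = 1` -/
theorem sq_mod_three (p : ℕ) (hp : p.Prime) (hp3 : p ≠ 3) : p ^ 2 % 3 = 1 := by
  have h3 : ¬ 3 ∣ p := by
    intro h
    exact hp3 ((Nat.prime_dvd_prime_iff_eq (by norm_num) hp).mp h).symm
  have h12 : p % 3 = 1 ∨ p % 3 = 2 := by omega
  rw [pow_two, Nat.mul_mod]
  rcases h12 with h | h <;> rw [h]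

/-- an odd number has `p^2 % 4 = 1` -/
theorem sq_mod_four (p : ℕ) (hodd : ¬ 2 ∣ p) : p ^ 2 % 4 = 1 := by
  have h13 : p % 4 = 1 ∨ p % 4 = 3 := by omega
  rw [pow_two, Nat.mul_mod]
  rcases h13 with h | h <;> rw [h]

theorem consec_arith (p q b d : ℕ) (hp : p.Prime) (hq : q.Prime) (hpq : p ≠ q) (hp3 : p ≠ 3) (hq3 : q ≠ 3) (hd2 : 2 ≤ d)
    (hd : d ∣ p ^ 2 * q ^ b) (hd1 : d + 1 ∣ p ^ 2 * q ^ b)
    (hV : ∀ i : ℕ, (d = p ^ i ∨ d + 1 = p ^ i) → p ^ i = p ^ 2) : p = 2 ∧ q = 5 := by
  obtain ⟨x1, x2, hx1, hx2, hx⟩ := (Nat.dvd_mul).mp hd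
  obtain ⟨i, hi, rfl⟩ := (Nat.dvd_prime_pow hp).mp hx1
  obtain ⟨j, hj, rfl⟩ := (Nat.dvd_prime_pow hq).mp hx2
  obtain ⟨y1, y2, hy1, hy2, hy⟩ := (Nat.dvd_mul).mp hd1
  obtain ⟨i', hi', rfl⟩ := (Nat.dvd_prime_pow hp).mp hy1
  obtain ⟨j', hj', rfl⟩ := (Nat.dvd_prime_pow hq).mp hy2
  have hnot : ∀ s : ℕ, s.Prime → s ∣ d → s ∣ d + 1 → False := by
    intro s hs h1 h2
    have : s ∣ 1 := (Nat.dvd_add_right h1).mp h2
    exact hs.one_lt.ne' (Nat.dvd_one.mp this)
  have hp2 := hp.two_le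
  have hq2 := hq.two_le
  rcases Nat.eq_zero_or_pos i with hi0 | hipos
  · -- d = q^j, d + 1 = p^i'
    subst hi0
    rw [pow_zero, one_mul] at hx
    have hjpos : 0 < j := by
      rcases Nat.eq_zero_or_pos j with h | h
      · subst h
        rw [pow_zero] at hx
        omega
      · exact h
    have hqd : q ∣ d := by
      rw [← hx]
      exact dvd_pow_self q hjpos.ne'
    have hj'0 : j' = 0 := by
      rcases Nat.eq_zero_or_pos j' with h | h
      · exact h
      · exfalso
        apply hnot q hq hqd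
        rw [← hy]
        exact Dvd.dvd.mul_left (dvd_pow_self q h.ne') _
    subst hj'0
    rw [pow_zero, mul_one] at hy
    have hpi := hV i' (Or.inr hy.symm)
    rw [hpi] at hy
    -- q^j = p^2 - 1, divisible by 3
    exfalso
    have hmod := sq_mod_three p hp hp3
    have h3d : 3 ∣ d := by omega
    rw [← hx] at h3d
    have h3q : 3 ∣ q := Nat.Prime.dvd_of_dvd_pow (by norm_num) h3d
    exact hq3 ((Nat.prime_dvd_prime_iff_eq (by norm_num) hq).mp h3q).symm
  · -- p ∣ d
    have hpd : p ∣ d := by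
      rw [← hx]
      exact Dvd.dvd.mul_right (dvd_pow_self p hipos.ne') _
    have hi'0 : i' = 0 := by
      rcases Nat.eq_zero_or_pos i' with h | h
      · exact h
      · exfalso
        apply hnot p hp hpd
        rw [← hy]
        exact Dvd.dvd.mul_right (dvd_pow_self p h.ne') _
    subst hi'0
    rw [pow_zero, one_mul] at hy
    have hj'pos : 0 < j' := by
      rcases Nat.eq_zero_or_pos j' with h | h
      · subst h
        rw [pow_zero] at hy
        omega
      · exact h
    have hqd1 : q ∣ d + 1 := by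
      rw [← hy]
      exact dvd_pow_self q hj'pos.ne'
    have hj0 : j = 0 := by
      rcases Nat.eq_zero_or_pos j with h | h
      · exact h
      · exfalso
        apply hnot q hq _ hqd1
        rw [← hx]
        exact Dvd.dvd.mul_left (dvd_pow_self q h.ne') _
    subst hj0
    rw [pow_zero, mul_one] at hx
    have hpi := hV i (Or.inl hx.symm)
    rw [hpi] at hx
    -- d = p^2, d + 1 = q^j'
    by_cases hp2' : p = 2
    · refine ⟨hp2', ?_⟩
      subst hp2'
      have h5 : q ^ j' = 5 := by omega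
      have hq5 : q ∣ 5 := by
        rw [← h5]
        exact dvd_pow_self q hj'pos.ne'
      exact (Nat.prime_dvd_prime_iff_eq hq (by norm_num)).mp hq5
    · exfalso
      have hodd : ¬ 2 ∣ p := by
        intro h
        exact hp2' ((Nat.prime_dvd_prime_iff_eq (by norm_num) hp).mp h).symm
      have hmod := sq_mod_four p hodd
      have h2d : 2 ∣ d + 1 := by omega
      rw [← hy] at h2d
      have h2q : 2 ∣ q := Nat.Prime.dvd_of_dvd_pow (by norm_num) h2d
      have hq2' : q = 2 := ((Nat.prime_dvd_prime_iff_eq (by norm_num) hq).mp h2q).symm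
      subst hq2'
      have hmod2 : (2 ^ j') % 4 = 2 := by omega
      rcases Nat.lt_or_ge j' 2 with h | h
      · have hj1 : j' = 1 := by omega
        subst hj1
        have : p ^ 2 = 1 := by omega
        have hpp : 4 ≤ p ^ 2 := by nlinarith
        omega
      · have h4 : 4 ∣ 2 ^ j' := by
          calc 4 = 2 ^ 2 := by norm_num
            _ ∣ 2 ^ j' := pow_dvd_pow 2 h
        omega

end Cfsg.Agent.Lib.Helper17.BQCONSEC
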