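/-
helper17: S4501 market "BQ", leaf BQ-KILL20 (arithmetic).
-/
import Mathlib

set_option autoImplicit false

namespace Cfsg.Agent.Lib.Helper17.BQKILL20

/-- `c * (r ^ b * k'^2) = e * k^3`, `s` prime, `s ∣ c`, `s ∤ e`, `k ∣ m * r ^ b`, `s ∤ m`, `s ≠ r`: impossible. -/
theorem false_of_prime_dvd (s c e r b m k k' : ℕ) (hs : s.Prime) (hr : r.Prime) (hsr : s ≠ r)
    (hsc : s ∣ c) (hse : ¬ s ∣ e) (hsm : ¬ s ∣ m) (hk : k ∣ m * r ^ b)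
    (heq : c * (r ^ b * k' ^ 2) = e * k ^ 3) : False := by
  have h1 : s ∣ e * k ^ 3 := by
    rw [← heq]
    exact Dvd.dvd.mul_right hsc _
  have h2 : s ∣ k := by
    rcases (Nat.Prime.dvd_mul hs).mp h1 with h | h
    · exact absurd h hse
    · exact hs.dvd_of_dvd_pow h
  have h3 : s ∣ m * r ^ b := h2.trans hk
  rcases (Nat.Prime.dvd_mul hs).mp h3 with h | h
  · exact hsm h
  · have := hs.dvd_of_dvd_pow h
    exact hsr ((Nat.prime_dvd_prime_iff_eq hs hr).mp this)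

/-- BQ-KILL20.  `4200 · 3^b k'² = 5400 k³`, i.e. `7 · 3^b k'² = 9 k³`: `7 ∣ k ∣ 5 · 3^b`. -/
theorem kill_20 (b d₂ d₃ d₄ k k' : ℕ) (ε : ℤ)
    (hpat : ε = 1 ∧ ((d₂ = 5 ∧ d₃ = 9 ∧ d₄ = 15) ∨ (d₂ = 9 ∧ d₃ = 5 ∧ d₄ = 15)))
    (hk : k ∣ 5 * 3 ^ b)
    (hform : ((5 * 3 ^ b : ℕ) : ℤ) * (((d₂ : ℤ) + 1) * ((d₃ : ℤ) + ε) * ((d₄ : ℤ) - 1)) * (k' : ℤ) ^ 2 =
      8 * ((d₂ : ℤ) * (d₃ : ℤ) * (d₄ : ℤ)) * (k : ℤ) ^ 3) : False := by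
  obtain ⟨hε, hcases⟩ := hpat
  have key : 7 * (3 ^ b * k' ^ 2) = 9 * k ^ 3 := by
    rcases hcases with ⟨h2, h3, h4⟩ | ⟨h2, h3, h4⟩
    · subst h2 h3 h4 hε
      have h5 : (600 : ℤ) * (7 * (3 ^ b * (k' : ℤ) ^ 2)) = 600 * (9 * (k : ℤ) ^ 3) := by
        push_cast at hform
        linarith
      have h6 : (7 : ℤ) * (3 ^ b * (k' : ℤ) ^ 2) = 9 * (k : ℤ) ^ 3 := by linarith
      exact_mod_cast h6
    · subst h2 h3 h4 hε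
      have h5 : (600 : ℤ) * (7 * (3 ^ b * (k' : ℤ) ^ 2)) = 600 * (9 * (k : ℤ) ^ 3) := by
        push_cast at hform
        linarith
      have h6 : (7 : ℤ) * (3 ^ b * (k' : ℤ) ^ 2) = 9 * (k : ℤ) ^ 3 := by linarith
      exact_mod_cast h6
  exact false_of_prime_dvd 7 7 9 3 b 5 k k' (by norm_num) (by norm_num) (by norm_num) (dvd_refl 7)
    (by norm_num) (by norm_num) hk key

end Cfsg.Agent.Lib.Helper17.BQKILL20
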