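/-
helper17: S4501 market "BQ", leaf BQ-KILL36 (arithmetic).
-/
import Mathlib
import Cfsg.Agent.Lib.Helper17.BQKILL20

set_option autoImplicit false

namespace Cfsg.Agent.Lib.Helper17.BQKILL36

open Cfsg.Agent.Lib.Helper17.BQKILL20

/-- BQ-KILL36.  `(9,9,19)`: `16200 · 19^b k'² = 12312 k³`, so `5 ∣ k ∣ 9 · 19^b`.  `{9,5},15`: `7560 · 5^b k'² = 5400 k³`, i.e. `7 · 5^b k'² = 5 k³`, so `7 ∣ k ∣ 9 · 5^b`. -/
theorem kill_36 (q b d₂ d₃ d₄ k k' : ℕ) (ε : ℤ)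
    (hpat : ε = 1 ∧ ((q = 19 ∧ d₂ = 9 ∧ d₃ = 9 ∧ d₄ = 19) ∨ (q = 5 ∧ d₂ = 9 ∧ d₃ = 5 ∧ d₄ = 15) ∨
      (q = 5 ∧ d₂ = 5 ∧ d₃ = 9 ∧ d₄ = 15)))
    (hk : k ∣ 9 * q ^ b)
    (hform : ((9 * q ^ b : ℕ) : ℤ) * (((d₂ : ℤ) + 1) * ((d₃ : ℤ) + ε) * ((d₄ : ℤ) - 1)) * (k' : ℤ) ^ 2 =
      8 * ((d₂ : ℤ) * (d₃ : ℤ) * (d₄ : ℤ)) * (k : ℤ) ^ 3) : False := by
  obtain ⟨hε, hcases⟩ := hpat
  rcases hcases with ⟨hq, h2, h3, h4⟩ | ⟨hq, h2, h3, h4⟩ | ⟨hq, h2, h3, h4⟩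
  · subst hq h2 h3 h4 hε
    have key : 25 * (19 ^ b * k' ^ 2) = 19 * k ^ 3 := by
      have h5 : (648 : ℤ) * (25 * (19 ^ b * (k' : ℤ) ^ 2)) = 648 * (19 * (k : ℤ) ^ 3) := by
        push_cast at hform
        linarith
      have h6 : (25 : ℤ) * (19 ^ b * (k' : ℤ) ^ 2) = 19 * (k : ℤ) ^ 3 := by linarith
      exact_mod_cast h6
    exact false_of_prime_dvd 5 25 19 19 b 9 k k' (by norm_num) (by norm_num) (by norm_num) (by norm_num)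
      (by norm_num) (by norm_num) hk key
  · subst hq h2 h3 h4 hε
    have key : 7 * (5 ^ b * k' ^ 2) = 5 * k ^ 3 := by
      have h5 : (1080 : ℤ) * (7 * (5 ^ b * (k' : ℤ) ^ 2)) = 1080 * (5 * (k : ℤ) ^ 3) := by
        push_cast at hform
        linarith
      have h6 : (7 : ℤ) * (5 ^ b * (k' : ℤ) ^ 2) = 5 * (k : ℤ) ^ 3 := by linarith
      exact_mod_cast h6
    exact false_of_prime_dvd 7 7 5 5 b 9 k k' (by norm_num) (by norm_num) (by norm_num) (dvd_refl 7)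
      (by norm_num) (by norm_num) hk key
  · subst hq h2 h3 h4 hε
    have key : 7 * (5 ^ b * k' ^ 2) = 5 * k ^ 3 := by
      have h5 : (1080 : ℤ) * (7 * (5 ^ b * (k' : ℤ) ^ 2)) = 1080 * (5 * (k : ℤ) ^ 3) := by
        push_cast at hform
        linarith
      have h6 : (7 : ℤ) * (5 ^ b * (k' : ℤ) ^ 2) = 5 * (k : ℤ) ^ 3 := by linarith
      exact_mod_cast h6
    exact false_of_prime_dvd 7 7 5 5 b 9 k k' (by norm_num) (by norm_num) (by norm_num) (dvd_refl 7)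
      (by norm_num) (by norm_num) hk key

end Cfsg.Agent.Lib.Helper17.BQKILL36
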