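/-
helper17: S4501 market "BQ", leaf BQ-PAT20 (arithmetic).
-/
import Mathlib

set_option autoImplicit false

namespace Cfsg.Agent.Lib.Helper17.BQPAT20

/-- a divisor of `m * r^b` not divisible by `r^2` divides `m * r` -/
theorem dvd_of_not_sq_dvd (m r b d : ℕ) (hr : r.Prime) (hd : d ∣ m * r ^ b) (h9 : ¬ r ^ 2 ∣ d) : d ∣ m * r := by
  obtain ⟨d1, d2, h1, h2, rfl⟩ := (Nat.dvd_mul).mp hd
  obtain ⟨j, hj, rfl⟩ := (Nat.dvd_prime_pow hr).mp h2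
  have hj1 : j ≤ 1 := by
    by_contra hcon
    push Not at hcon
    apply h9
    exact Dvd.dvd.mul_left (pow_dvd_pow r hcon) d1
  have : r ^ j ∣ r := by
    calc r ^ j ∣ r ^ 1 := pow_dvd_pow r hj1
      _ = r := pow_one r
  exact mul_dvd_mul h1 this

/-- a prime dividing `m * r^b` divides `m` or equals `r` -/
theorem prime_dvd_cases (s m r b : ℕ) (hs : s.Prime) (hr : r.Prime) (h : s ∣ m * r ^ b) : s ∣ m ∨ s = r := by
  rcases (Nat.Prime.dvd_mul hs).mp h with h1 | h1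
  · exact Or.inl h1
  · exact Or.inr ((Nat.prime_dvd_prime_iff_eq hs hr).mp (hs.dvd_of_dvd_pow h1))

/-- a divisor of `m * r^b` prime to `r` divides `m` -/
theorem dvd_of_coprime (m r b d : ℕ) (hr : r.Prime) (hd : d ∣ m * r ^ b) (h3 : ¬ r ∣ d) : d ∣ m := by
  have hc : Nat.Coprime d (r ^ b) := by
    apply Nat.Coprime.pow_right
    exact (Nat.Coprime.symm ((Nat.Prime.coprime_iff_not_dvd hr).mpr h3))
  exact hc.dvd_of_dvd_mul_right hd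

theorem two_sum (x y b : ℕ) (hx : x ∣ 5 * 3 ^ b) (hy : y ∣ 5 * 3 ^ b) (hx1 : 1 < x) (hxy : y = 6 + x)
    (hm : (4 : ℤ) ∣ (x : ℤ) - 1) : x = 9 ∧ y = 15 := by
  have h3 : Nat.Prime 3 := by norm_num
  by_cases h9x : 3 ^ 2 ∣ x
  · have h9y : ¬ 3 ^ 2 ∣ y := by
      intro h
      have : 3 ^ 2 ∣ y - x := Nat.dvd_sub h h9x
      rw [hxy] at this
      have h6 : 6 + x - x = 6 := by omega
      rw [h6] at this
      omega
    have hy15 : y ∣ 5 * 3 := dvd_of_not_sq_dvd 5 3 b y h3 hy h9y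
    have hyle : y ≤ 15 := Nat.le_of_dvd (by norm_num) hy15
    have hx9 : 9 ≤ x := Nat.le_of_dvd (by omega) h9x
    have : y = 15 := by omega
    constructor
    · omega
    · exact this
  · exfalso
    have hx15 : x ∣ 5 * 3 := dvd_of_not_sq_dvd 5 3 b x h3 hx h9x
    have hxle : x ≤ 15 := Nat.le_of_dvd (by norm_num) hx15
    interval_cases x
    all_goals first
      | (exfalso; revert hx15; decide)
      | (exfalso; revert hm; decide)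
      | (exfalso
         subst hxy
         rcases prime_dvd_cases 11 5 3 b (by norm_num) h3 hy with h | h <;> omega)

/-- a divisor `> 1` of `5 * 3^b` prime to 3 is 5 -/
theorem eq_five (b d : ℕ) (hd : d ∣ 5 * 3 ^ b) (h1 : 1 < d) (h3 : ¬ 3 ∣ d) : d = 5 := by
  have h5 : d ∣ 5 := dvd_of_coprime 5 3 b d (by norm_num) hd h3
  rcases (Nat.dvd_prime (by norm_num : Nat.Prime 5)).mp h5 with h | h
  · omega
  · exact h

/-- divisors of `5 * 3^b` are odd -/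
theorem odd_of_dvd (b d : ℕ) (hd : d ∣ 5 * 3 ^ b) : ¬ 2 ∣ d := by
  intro h2
  have h := dvd_trans h2 hd
  rcases prime_dvd_cases 2 5 3 b (by norm_num) (by norm_num) h with h | h <;> omega

theorem pattern_20 (b d₂ d₃ d₄ : ℕ) (ε : ℤ) (hε : ε = 1 ∨ ε = -1)
    (h2 : 1 < d₂) (h3 : 1 < d₃) (h4 : 1 < d₄) (hd2 : d₂ ∣ 5 * 3 ^ b) (hd3 : d₃ ∣ 5 * 3 ^ b) (hd4 : d₄ ∣ 5 * 3 ^ b)
    (hm2 : (4 : ℤ) ∣ (d₂ : ℤ) - 1) (hm3 : (4 : ℤ) ∣ (d₃ : ℤ) - ε) (hm4 : (4 : ℤ) ∣ (d₄ : ℤ) + 1)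
    (hrel : 1 + (d₂ : ℤ) + ε * (d₃ : ℤ) - (d₄ : ℤ) = 0) :
    (ε = -1 ∧ d₂ = 5 ∧ d₃ = 3 ∧ d₄ = 3) ∨
      (ε = 1 ∧ ((d₂ = 5 ∧ d₃ = 9 ∧ d₄ = 15) ∨ (d₂ = 9 ∧ d₃ = 5 ∧ d₄ = 15))) := by
  -- d₄ ≠ 5
  have h45 : d₄ ≠ 5 := by
    intro h
    rw [h] at hm4
    omega
  have h43 : 3 ∣ d₄ := by
    by_contra hcon
    exact h45 (eq_five b d₄ hd4 h4 hcon)
  -- d₂ = 5 or d₃ = 5
  have hor : d₂ = 5 ∨ d₃ = 5 := by
    by_cases h23 : 3 ∣ d₂
    · by_cases h33 : 3 ∣ d₃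
      · exfalso
        rcases hε with rfl | rfl <;> omega
      · exact Or.inr (eq_five b d₃ hd3 h3 h33)
    · exact Or.inl (eq_five b d₂ hd2 h2 h23)
  rcases hor with h25 | h35
  · rcases hε with rfl | rfl
    · right
      refine ⟨rfl, Or.inl ?_⟩
      have hxy : d₄ = 6 + d₃ := by omega
      obtain ⟨hx, hy⟩ := two_sum d₃ d₄ b hd3 hd4 h3 hxy hm3
      exact ⟨h25, hx, hy⟩
    · left
      have h36 : d₃ + d₄ = 6 := by omega
      have ho3 := odd_of_dvd b d₃ hd3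
      have ho4 := odd_of_dvd b d₄ hd4
      refine ⟨rfl, h25, ?_, ?_⟩ <;> omega
  · have hε1 : ε = 1 := by
      rcases hε with rfl | rfl
      · rfl
      · exfalso
        rw [h35] at hm3
        omega
    subst hε1
    right
    refine ⟨rfl, Or.inr ?_⟩
    have hxy : d₄ = 6 + d₂ := by omega
    obtain ⟨hx, hy⟩ := two_sum d₂ d₄ b hd2 hd4 h2 hxy hm2
    exact ⟨hx, h35, hy⟩

end Cfsg.Agent.Lib.Helper17.BQPAT20
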