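/-
BRC-ARITHS (S0999 + S4701 core, planner helper24): no type B is impossible in the Brauer-Reynolds regime.
-/
import Mathlib

set_option autoImplicit false

namespace Cfsg.Agent.Lib.Helper17.BRCARITHS

/-- **BRC-ARITHS**.  No type B: `ε ψ(1) = 1 + (f - 1)(1 + n p)`, and `t ψ(1)² < p³`. -/
theorem arithS (p f t n D : ℕ) (ε : ℤ) (hp : p = 1 + t * f) (ht : 1 ≤ t) (hf : 2 ≤ f) (hn : 2 ≤ n)
    (hε : ε = 1 ∨ ε = -1) (hD : ε * (D : ℤ) = 1 + ((f : ℤ) - 1) * (1 + n * p))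
    (hsq : t * D ^ 2 < p ^ 3) : False := by
  have hf' : (2 : ℤ) ≤ (f : ℤ) := by exact_mod_cast hf
  have hn' : (2 : ℤ) ≤ (n : ℤ) := by exact_mod_cast hn
  have ht' : (1 : ℤ) ≤ (t : ℤ) := by exact_mod_cast ht
  have hp' : (p : ℤ) = 1 + t * f := by exact_mod_cast hp
  have hD0 : (0 : ℤ) ≤ (D : ℤ) := Int.natCast_nonneg D
  have hppos : (0 : ℤ) < (p : ℤ) := by nlinarith
  have hsq' : (t : ℤ) * (D : ℤ) ^ 2 < (p : ℤ) ^ 3 := by exact_mod_cast hsq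
  have hpos : (0 : ℤ) < 1 + ((f : ℤ) - 1) * (1 + n * p) := by
    have h1 : (0 : ℤ) ≤ ((f : ℤ) - 1) * (1 + n * p) := by
      apply mul_nonneg
      · linarith
      · nlinarith
    linarith
  have hε1 : ε = 1 := by
    rcases hε with h | h
    · exact h
    · rw [h] at hD
      linarith
  rw [hε1, one_mul] at hD
  -- `D > 2 (f - 1) p`
  have hDlow : 2 * ((f : ℤ) - 1) * p < (D : ℤ) := by
    rw [hD]
    have h1 : 2 * ((f : ℤ) - 1) * p ≤ ((f : ℤ) - 1) * (n * p) := by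
      have h2 : (0 : ℤ) ≤ ((f : ℤ) - 1) * p := by
        apply mul_nonneg
        · linarith
        · linarith
      nlinarith
    nlinarith
  have hA0 : (0 : ℤ) ≤ 2 * ((f : ℤ) - 1) * p := by
    have h2 : (0 : ℤ) ≤ ((f : ℤ) - 1) * p := by
      apply mul_nonneg
      · linarith
      · linarith
    linarith
  have hDsq : (2 * ((f : ℤ) - 1) * p) ^ 2 < (D : ℤ) ^ 2 := by
    apply pow_lt_pow_left₀ hDlow hA0
    norm_num
  -- `4 t (f-1)^2 ≥ 1 + t f`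
  have hkey : 1 + (t : ℤ) * f ≤ (t : ℤ) * (4 * ((f : ℤ) - 1) ^ 2) := by
    have h1 : 2 * (f : ℤ) ≤ 4 * ((f : ℤ) - 1) ^ 2 := by nlinarith
    have h2 : (t : ℤ) * (2 * (f : ℤ)) ≤ (t : ℤ) * (4 * ((f : ℤ) - 1) ^ 2) :=
      mul_le_mul_of_nonneg_left h1 (by linarith)
    nlinarith
  have hp2 : (0 : ℤ) < (p : ℤ) ^ 2 := by positivity
  have h3 : (p : ℤ) ^ 3 ≤ (t : ℤ) * (2 * ((f : ℤ) - 1) * p) ^ 2 := by
    have e1 : (p : ℤ) ^ 3 = (1 + (t : ℤ) * f) * (p : ℤ) ^ 2 := by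
      rw [← hp']
      ring
    have e2 : (t : ℤ) * (2 * ((f : ℤ) - 1) * p) ^ 2 = ((t : ℤ) * (4 * ((f : ℤ) - 1) ^ 2)) * (p : ℤ) ^ 2 := by
      ring
    rw [e1, e2]
    exact mul_le_mul_of_nonneg_right hkey hp2.le
  have h4 : (t : ℤ) * (2 * ((f : ℤ) - 1) * p) ^ 2 ≤ (t : ℤ) * (D : ℤ) ^ 2 :=
    mul_le_mul_of_nonneg_left hDsq.le (by linarith)
  linarith

end Cfsg.Agent.Lib.Helper17.BRCARITHS
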