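/-
BRC-ARITHX (S0999 + S4701 core, planner helper24): the degrees of the non-exceptional characters in the Brauer-Reynolds regime.
-/
import Mathlib

set_option autoImplicit false
set_option linter.unusedVariables false

namespace Cfsg.Agent.Lib.Helper17.BRCARITHX

/-- the product `f (1 + n p)` is less than `p^2`. -/
theorem prod_le (p f n : ℤ) (hp : 2 ≤ p) (hf : 2 ≤ f) (hn : 1 ≤ n) (hnf : n * f + 1 ≤ p)
    (hfle : f + 1 ≤ p) : f * (1 + n * p) ≤ p ^ 2 - 1 := by
  have h1 : n * f * p ≤ (p - 1) * p := by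
    apply mul_le_mul_of_nonneg_right _ (by linarith)
    linarith
  nlinarith

/-- the case `D ≡ 1`. -/
theorem case_one (p f n D E k : ℤ) (hp : 2 ≤ p) (hf : 2 ≤ f) (hn : 1 ≤ n) (hnf : n * f + 1 ≤ p)
    (hfle : f + 1 ≤ p) (hE : f * (1 + n * p) = D * E) (hD : 1 ≤ D) (hEpos : 1 ≤ E)
    (hk : D = 1 + p * k) (hD1 : D ≠ 1) : D = 1 + n * p := by
  have hprodlt : D * E ≤ p ^ 2 - 1 := by
    rw [← hE]
    exact prod_le p f n hp hf hn hnf hfle
  have hk1 : 1 ≤ k := by
    by_contra hlt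
    push Not at hlt
    have hk0 : k ≤ 0 := by omega
    have h1 : p * k ≤ 0 := mul_nonpos_of_nonneg_of_nonpos (by linarith) hk0
    have h2 : D ≤ 1 := by linarith
    exact hD1 (le_antisymm h2 hD)
  have hDge : p + 1 ≤ D := by
    rw [hk]
    nlinarith
  have hEle : E ≤ p - 1 := by
    by_contra hlt
    push Not at hlt
    have hEge : p ≤ E := by omega
    have h1 : (p + 1) * p ≤ D * E := mul_le_mul hDge hEge (by linarith) (by linarith)
    nlinarith
  have hdvd : p ∣ E - f := by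
    refine ⟨f * n - k * E, ?_⟩
    have h1 : f * (1 + n * p) = (1 + p * k) * E := by rw [hE, hk]
    linarith
  have habs : |E - f| < p := by
    rw [abs_lt]
    constructor <;> linarith
  have hEf : E - f = 0 := Int.eq_zero_of_abs_lt_dvd hdvd habs
  have hEf' : E = f := by linarith
  rw [hEf'] at hE
  have hfpos : (0 : ℤ) < f := by linarith
  have h2 : f * (1 + n * p) = f * D := by rw [hE]; ring
  exact (mul_left_cancel₀ hfpos.ne' h2).symm

/-- the case `D ≡ -1`, `D ≥ 2 p - 1`, `2 f < p`. -/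
theorem case_neg_small (p f n D E : ℤ) (hp : 2 ≤ p) (hf : 2 ≤ f) (hn : 1 ≤ n) (hnf : n * f + 1 ≤ p)
    (hE : f * (1 + n * p) = D * E) (hD : 1 ≤ D)
    (hDge : 2 * p - 1 ≤ D) (hEge : p - f ≤ E) (h2f : 2 * f + 1 ≤ p) : False := by
  have hpf : (1 : ℤ) ≤ p - f := by linarith
  have hlow : (2 * p - 1) * (p - f) ≤ D * E :=
    mul_le_mul hDge hEge (by linarith) (by linarith)
  have h1 : n * f * p ≤ (p - 1) * p := by
    apply mul_le_mul_of_nonneg_right _ (by linarith)
    linarith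
  have h3 : D * E ≤ f + (p - 1) * p := by
    rw [← hE]
    nlinarith
  nlinarith

/-- the case `D ≡ -1`, `D ≥ 2 p - 1`, `f = p - 1`, `n = 1`. -/
theorem case_neg_big (p D E m : ℤ) (hp : 2 ≤ p) (hD : 1 ≤ D)
    (hprod : D * E = p ^ 2 - 1) (hDge : 2 * p - 1 ≤ D) (hm : E + (p - 1) = p * m) (hm1 : 1 ≤ m)
    (hDsq : D ^ 2 < p ^ 3) : False := by
  rcases eq_or_lt_of_le hm1 with hm1' | hm2
  · rw [← hm1', mul_one] at hm
    have hE1 : E = 1 := by linarith
    rw [hE1, mul_one] at hprod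
    rw [hprod] at hDsq
    nlinarith
  · have hm2' : 2 ≤ m := by omega
    have hEge2 : p + 1 ≤ E := by
      have h1 : 2 * p ≤ p * m := by nlinarith
      linarith
    have h5 : (2 * p - 1) * (p + 1) ≤ D * E :=
      mul_le_mul hDge hEge2 (by linarith) (by linarith)
    nlinarith

/-- the case `D ≡ -1`. -/
theorem case_neg (p f n D E k j : ℤ) (hp : 2 ≤ p) (hf : 2 ≤ f) (hn : 1 ≤ n) (hnf : n * f + 1 ≤ p)
    (hE : f * (1 + n * p) = D * E) (hD : 1 ≤ D) (hEpos : 1 ≤ E)
    (hk : D = -1 + p * k) (hk2 : 2 ≤ k) (hpj : p = 1 + f * j) (hj : 1 ≤ j) (hDsq : D ^ 2 < p ^ 3) :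
    False := by
  have hDge : 2 * p - 1 ≤ D := by
    rw [hk]
    nlinarith
  obtain ⟨m, hm⟩ : p ∣ E + f := by
    refine ⟨k * E - f * n, ?_⟩
    have h1 : f * (1 + n * p) = (-1 + p * k) * E := by rw [hE, hk]
    linarith
  have hm1 : 1 ≤ m := by
    by_contra hlt
    push Not at hlt
    have hm0 : m ≤ 0 := by omega
    have h1 : p * m ≤ 0 := mul_nonpos_of_nonneg_of_nonpos (by linarith) hm0
    linarith
  have hEge : p - f ≤ E := by
    have h1 : p ≤ p * m := by nlinarith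
    linarith
  by_cases h2f : 2 * f + 1 ≤ p
  · exact case_neg_small p f n D E hp hf hn hnf hE hD hDge hEge h2f
  · push Not at h2f
    have hj1 : j = 1 := by
      by_contra hne
      have hj2 : 2 ≤ j := by omega
      have : f * 2 ≤ f * j := mul_le_mul_of_nonneg_left hj2 (by linarith)
      linarith
    rw [hj1, mul_one] at hpj
    have hfp : f = p - 1 := by linarith
    have hn1 : n = 1 := by
      by_contra hne
      have hn2 : 2 ≤ n := by omega
      have : 2 * f ≤ n * f := mul_le_mul_of_nonneg_right hn2 (by linarith)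
      linarith
    have hprod : D * E = p ^ 2 - 1 := by
      rw [← hE, hfp, hn1]
      ring
    rw [hfp] at hm
    exact case_neg_big p D E m hp hD hprod hDge hm hm1 hDsq

/-- **BRC-ARITHX**. -/
theorem arithX (p f n D : ℕ) (c : ℤ) (hp : p.Prime) (hfp : f ∣ p - 1) (hf : 2 ≤ f) (hn : 1 ≤ n)
    (hnf : n * f < p) (hD : D ∣ f * (1 + n * p)) (hc : c = 1 ∨ c = -1) (hDc : (D : ℤ) ≡ c [ZMOD p])
    (hD1 : D ≠ 1) (hDsq : D ^ 2 < p ^ 3) :
    (c = 1 ∧ D = 1 + n * p) ∨ (c = -1 ∧ D = p - 1) := by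
  have hp2 : 2 ≤ p := hp.two_le
  obtain ⟨j, hj⟩ := hfp
  have hjpos : 1 ≤ j := by
    rcases Nat.eq_zero_or_pos j with h | h
    · rw [h, mul_zero] at hj
      omega
    · exact h
  have hpj : p = 1 + f * j := by omega
  have hfle : f ≤ p - 1 := by
    rw [hj]
    exact Nat.le_mul_of_pos_right f hjpos
  obtain ⟨E, hE⟩ := hD
  have hprodpos : 0 < f * (1 + n * p) := by positivity
  have hDpos : 0 < D := by
    rcases Nat.eq_zero_or_pos D with h | h
    · rw [h, zero_mul] at hE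
      omega
    · exact h
  have hEpos : 0 < E := by
    rcases Nat.eq_zero_or_pos E with h | h
    · rw [h, mul_zero] at hE
      omega
    · exact h
  -- integer versions
  have hpZ : (2 : ℤ) ≤ (p : ℤ) := by exact_mod_cast hp2
  have hfZ : (2 : ℤ) ≤ (f : ℤ) := by exact_mod_cast hf
  have hnZ : (1 : ℤ) ≤ (n : ℤ) := by exact_mod_cast hn
  have hjZ : (1 : ℤ) ≤ (j : ℤ) := by exact_mod_cast hjpos
  have hpjZ : (p : ℤ) = 1 + f * j := by exact_mod_cast hpj
  have hnfZ : (n : ℤ) * f + 1 ≤ p := by exact_mod_cast hnf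
  have hfleZ : (f : ℤ) + 1 ≤ p := by
    have : f + 1 ≤ p := by omega
    exact_mod_cast this
  have hEZ : (f : ℤ) * (1 + n * p) = D * E := by exact_mod_cast hE
  have hDposZ : (1 : ℤ) ≤ (D : ℤ) := by exact_mod_cast hDpos
  have hEposZ : (1 : ℤ) ≤ (E : ℤ) := by exact_mod_cast hEpos
  have hDsqZ : (D : ℤ) ^ 2 < (p : ℤ) ^ 3 := by exact_mod_cast hDsq
  obtain ⟨k, hk⟩ : ∃ k : ℤ, (D : ℤ) = c + p * k := by
    obtain ⟨k, hk⟩ := Int.modEq_iff_dvd.mp hDc.symm
    exact ⟨k, by linarith⟩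
  rcases hc with hc1 | hc1
  · left
    refine ⟨hc1, ?_⟩
    rw [hc1] at hk
    have hD1Z : (D : ℤ) ≠ 1 := by exact_mod_cast hD1
    have h3 := case_one p f n D E k hpZ hfZ hnZ hnfZ hfleZ hEZ hDposZ hEposZ hk hD1Z
    exact_mod_cast h3
  · right
    refine ⟨hc1, ?_⟩
    rw [hc1] at hk
    have hk1 : 1 ≤ k := by
      by_contra hlt
      push Not at hlt
      have hk0 : k ≤ 0 := by omega
      have h1 : (p : ℤ) * k ≤ 0 := mul_nonpos_of_nonneg_of_nonpos (by linarith) hk0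
      linarith
    rcases eq_or_lt_of_le hk1 with hk1' | hk2
    · rw [← hk1', mul_one] at hk
      have : (D : ℤ) + 1 = p := by linarith
      have h2 : D + 1 = p := by exact_mod_cast this
      omega
    · exfalso
      have hk2' : 2 ≤ k := by omega
      exact case_neg p f n D E k j hpZ hfZ hnZ hnfZ hEZ hDposZ hEposZ hk hk2' hpjZ hjZ hDsqZ

end Cfsg.Agent.Lib.Helper17.BRCARITHX
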