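/-
BRC-REC (S0999 + S4701 core, planner helper24): recognition of `SL₂(2^m)` from an involution whose centralizer is an
elementary abelian `2`-group of order `p - 1` (via S1230).
-/
import Mathlib
import Cfsg.Prelude.Def_BlockRank
import Cfsg.Prelude.Def_Perm
import Cfsg.Agent.Lib.Helper24.BRCDefs
import Cfsg.Agent.Lib.Helper5.BRWSLPSL
import Cfsg.Agent.S1230

set_option autoImplicit false
set_option linter.unusedSectionVars false

namespace Cfsg.Agent.Lib.Helper17.BRCREC

open Cfsg

universe u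

variable {G : Type u} [Group G] [Finite G] {p : ℕ} [Fact p.Prime]

/-- a subgroup of exponent two is commutative. -/
theorem isMulCommutative_of_sq {G : Type*} [Group G] (H : Subgroup G) (h : ∀ c ∈ H, c ^ 2 = 1) :
    IsMulCommutative H := by
  refine ⟨⟨fun a b => ?_⟩⟩
  have ha : (a : G) ^ 2 = 1 := h a a.2
  have hb : (b : G) ^ 2 = 1 := h b b.2
  have hab : ((a : G) * b) ^ 2 = 1 := h _ (H.mul_mem a.2 b.2)
  apply Subtype.ext
  change (a : G) * b = b * a
  have h1 : (a : G) * b * (a * b) = 1 := by rw [← pow_two]; exact hab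
  have h2 : (a : G) * a = 1 := by rw [← pow_two]; exact ha
  have h3 : (b : G) * b = 1 := by rw [← pow_two]; exact hb
  have i1 : ((a : G) * b)⁻¹ = a * b := inv_eq_of_mul_eq_one_right h1
  have i2 : (a : G)⁻¹ = a := inv_eq_of_mul_eq_one_right h2
  have i3 : (b : G)⁻¹ = b := inv_eq_of_mul_eq_one_right h3
  calc (a : G) * b = ((a : G) * b)⁻¹ := i1.symm
    _ = (b : G)⁻¹ * (a : G)⁻¹ := mul_inv_rev _ _
    _ = b * a := by rw [i2, i3]

/-- **BRC-REC**. -/
theorem rec_sl2 (hp : 3 < p) (hcard : Nat.card G = p * (p - 1) * (p - 2))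
    (hcore : ∀ K : Subgroup G, K.Normal → (Nat.card K).Coprime p → K = ⊥)
    (y0 : G) (hy2 : orderOf y0 = 2) (hconj : ∀ g : G, orderOf g = 2 → IsConj y0 g)
    (hcent : Nat.card (Subgroup.centralizer ({y0} : Set G)) = p - 1)
    (hexp : ∀ g ∈ Subgroup.centralizer ({y0} : Set G), g ^ 2 = 1) :
    ∃ (m : ℕ) (F : Type) (_ : Field F) (_ : Fintype F), Fintype.card F = 2 ^ m ∧ p = 2 ^ m + 1 ∧ 3 < p ∧
      Nonempty (G ≃* Matrix.SpecialLinearGroup (Fin 2) F) := by
  have : Fact (Nat.Prime 2) := ⟨Nat.prime_two⟩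
  set T0 : Subgroup G := Subgroup.centralizer ({y0} : Set G) with hT0
  -- `T0` is a `2`-group
  have hT0p : IsPGroup 2 T0 := by
    intro g
    refine ⟨1, ?_⟩
    apply Subtype.ext
    rw [pow_one]
    exact hexp g g.2
  obtain ⟨m, hm⟩ := IsPGroup.iff_card.mp hT0p
  have hpm : p - 1 = 2 ^ m := by rw [← hcent, hm]
  have hp1 : p = 2 ^ m + 1 := by omega
  have hm1 : 1 ≤ m := by
    rcases Nat.eq_zero_or_pos m with h | h
    · rw [h, pow_zero] at hpm
      omega
    · exact h
  have hpodd : ¬ 2 ∣ p := by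
    rw [hp1]
    intro h
    have h2 : 2 ∣ 2 ^ m := dvd_pow_self 2 (by omega)
    have := (Nat.dvd_add_right h2).mp h
    omega
  have hp2odd : ¬ 2 ∣ p - 2 := by
    intro h
    apply hpodd
    have : p = (p - 2) + 2 := by omega
    rw [this]
    exact Dvd.dvd.add h (dvd_refl 2)
  -- the index of `T0` is odd
  have hidx : ¬ 2 ∣ T0.index := by
    have h1 : Nat.card T0 * T0.index = Nat.card G := Subgroup.card_mul_index T0
    rw [hcent, hcard] at h1
    have hpos : 0 < p - 1 := by omega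
    have h2 : T0.index = p * (p - 2) := by
      have : (p - 1) * T0.index = (p - 1) * (p * (p - 2)) := by rw [h1]; ring
      exact Nat.eq_of_mul_eq_mul_left hpos this
    rw [h2]
    intro h
    rcases (Nat.Prime.dvd_mul Nat.prime_two).mp h with h | h
    · exact hpodd h
    · exact hp2odd h
  set T : Sylow 2 G := hT0p.toSylow hidx with hT
  have hTcoe : (T : Subgroup G) = T0 := IsPGroup.toSylow_coe hT0p hidx
  have hy0T : y0 ∈ T0 := by
    rw [hT0, Subgroup.mem_centralizer_singleton_iff]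
  have hy0ne : y0 ≠ 1 := by
    intro h
    rw [h, orderOf_one] at hy2
    omega
  -- not cyclic
  have hnc : ¬ IsCyclic (T : Subgroup G) := by
    rw [hTcoe]
    intro hcyc
    obtain ⟨g, hg⟩ := hcyc.exists_generator
    have hord : orderOf g = Nat.card T0 := orderOf_eq_card_of_forall_mem_zpowers hg
    have hg2 : g ^ 2 = 1 := Subtype.ext (hexp g g.2)
    have hle : orderOf g ≤ 2 := Nat.le_of_dvd (by norm_num) (orderOf_dvd_of_pow_eq_one hg2)
    rw [hord, hcent] at hle
    omega
  -- not normal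
  have hnn : ¬ (T : Subgroup G).Normal := by
    rw [hTcoe]
    intro hn
    have hcop : (Nat.card T0).Coprime p := by
      rw [hcent]
      have : p = (p - 1) + 1 := by omega
      rw [this, Nat.add_sub_cancel]
      exact (Nat.coprime_self_add_right.mpr (Nat.coprime_one_right _))
    have := hcore T0 hn hcop
    rw [this, Subgroup.mem_bot] at hy0T
    exact hy0ne hy0T
  -- the centralizers of involutions
  have hC : ∀ t : G, orderOf t = 2 → IsMulCommutative (Subgroup.centralizer ({t} : Set G)) ∧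
      ∀ c ∈ Subgroup.centralizer ({t} : Set G), c ^ 2 = 1 := by
    intro t ht
    have hsq : ∀ c ∈ Subgroup.centralizer ({t} : Set G), c ^ 2 = 1 := by
      intro c hc
      obtain ⟨g, hg⟩ := isConj_iff.mp (hconj t ht)
      rw [Subgroup.mem_centralizer_singleton_iff] at hc
      have hmem : g⁻¹ * c * g ∈ T0 := by
        rw [hT0, Subgroup.mem_centralizer_singleton_iff]
        have hy : y0 = g⁻¹ * t * g := by rw [← hg]; group
        rw [hy]
        calc g⁻¹ * c * g * (g⁻¹ * t * g) = g⁻¹ * (c * t) * g := by group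
          _ = g⁻¹ * (t * c) * g := by rw [hc]
          _ = g⁻¹ * t * g * (g⁻¹ * c * g) := by group
      have h1 := hexp _ hmem
      have h2 : (g⁻¹ * c * g) ^ 2 = g⁻¹ * c ^ 2 * g := by
        rw [pow_two, pow_two]
        group
      rw [h2] at h1
      have h3 : c ^ 2 = g * (g⁻¹ * c ^ 2 * g) * g⁻¹ := by group
      rw [h3, h1]
      group
    exact ⟨isMulCommutative_of_sq _ hsq, hsq⟩
  obtain ⟨F, hF1, hF2, hFcard, ⟨e⟩⟩ := Cfsg.Agent.S1230.result T hnc hnn hC
  have hFc : Fintype.card F = 2 ^ m := by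
    rw [hFcard]
    rw [hTcoe, hm]
  obtain ⟨e2⟩ := Cfsg.Agent.Lib.Helper5.BRWSLPSL.sl2_equiv_psl2_of_char_two F m hFc
  exact ⟨m, F, hF1, hF2, hFc, hp1, hp, ⟨e.trans e2.symm⟩⟩

end Cfsg.Agent.Lib.Helper17.BRCREC
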