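/-
BRC-SEMI (S0999 + S4701 core, planner helper24): a perfect subgroup of the semi-affine group of a finite field is trivial.
-/
import Mathlib
import Cfsg.Prelude.Def_Perm
import Cfsg.Agent.Lib.Helper17.BRPSEMI

set_option autoImplicit false

namespace Cfsg.Agent.Lib.Helper17.BRCSEMI

open Cfsg Cfsg.Agent.Lib.Helper17.BRPSEMI
open scoped commutatorElement

universe u

/-- ring automorphisms of a finite field commute (they are power maps on the cyclic unit group). -/
theorem ringAut_comm {F : Type*} [Field F] [Finite F] (φ ψ : F ≃+* F) (x : F) : φ (ψ x) = ψ (φ x) := by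
  by_cases hx : x = 0
  · subst hx
    simp
  · obtain ⟨k, hk⟩ := MonoidHom.map_cyclic (Units.map (φ : F →* F))
    obtain ⟨m, hm⟩ := MonoidHom.map_cyclic (Units.map (ψ : F →* F))
    have h1 : Units.map (φ : F →* F) (Units.map (ψ : F →* F) (Units.mk0 x hx)) =
        Units.map (ψ : F →* F) (Units.map (φ : F →* F) (Units.mk0 x hx)) := by
      rw [hm, hk, hk, hm, ← zpow_mul, ← zpow_mul, mul_comm]
    have h2 := congrArg Units.val h1
    simpa using h2

/-- `σ` is semi-affine with automorphism part `φ`. -/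
def HasAut {F : Type*} [Field F] (σ : Equiv.Perm F) (φ : F ≃+* F) : Prop :=
  ∃ a : Fˣ, ∃ b : F, ∀ x, σ x = (a : F) * φ x + b

theorem HasAut.mul {F : Type*} [Field F] {σ τ : Equiv.Perm F} {φ ψ : F ≃+* F} (hσ : HasAut σ φ)
    (hτ : HasAut τ ψ) : HasAut (σ * τ) (ψ.trans φ) := by
  obtain ⟨a, b, hσ⟩ := hσ
  obtain ⟨c, d, hτ⟩ := hτ
  refine ⟨a * Units.map (φ : F →* F) c, (a : F) * φ d + b, fun x => ?_⟩
  simp only [Equiv.Perm.coe_mul, Function.comp_apply, hτ, hσ, Units.val_mul, Units.coe_map,
    MonoidHom.coe_coe, RingEquiv.coe_trans, map_add, map_mul, mul_add, mul_assoc, add_assoc]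

theorem HasAut.inv {F : Type*} [Field F] {σ : Equiv.Perm F} {φ : F ≃+* F} (hσ : HasAut σ φ) :
    HasAut σ⁻¹ φ.symm := by
  obtain ⟨a, b, hσ⟩ := hσ
  refine ⟨Units.map (φ.symm : F →* F) a⁻¹, -(φ.symm (((a⁻¹ : Fˣ) : F) * b)), fun x => ?_⟩
  apply σ.injective
  rw [Equiv.Perm.inv_def, Equiv.apply_symm_apply, hσ]
  simp only [Units.coe_map, MonoidHom.coe_coe, ← map_mul, ← map_neg, ← map_add,
    RingEquiv.apply_symm_apply, mul_add, ← mul_assoc, Units.mul_inv, one_mul, mul_neg,
    neg_add_cancel_right]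

/-- commutators of semi-affine maps of a finite field are affine. -/
theorem commutator_mem_affine {F : Type*} [Field F] [Finite F] (σ τ : Equiv.Perm F)
    (hσ : σ ∈ semiaffineGroup F) (hτ : τ ∈ semiaffineGroup F) : ⁅σ, τ⁆ ∈ affineGroup F := by
  obtain ⟨a, b, φ, hσ⟩ := hσ
  obtain ⟨c, d, ψ, hτ⟩ := hτ
  have h1 : HasAut σ φ := ⟨a, b, hσ⟩
  have h2 : HasAut τ ψ := ⟨c, d, hτ⟩
  have h3 := ((h1.mul h2).mul h1.inv).mul h2.inv
  rw [← commutatorElement_def] at h3
  obtain ⟨e, g, h⟩ := h3
  refine ⟨e, g, fun x => ?_⟩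
  rw [h]
  congr 2
  change φ (ψ (φ.symm (ψ.symm x))) = x
  rw [ringAut_comm φ ψ, RingEquiv.apply_symm_apply, RingEquiv.apply_symm_apply]

/-- a perfect group has only the trivial homomorphism into the semi-affine group of a finite field. -/
theorem hom_trivial_of_perfect {F : Type*} [Field F] [Finite F] {Γ : Type*} [Group Γ]
    (hperf : commutator Γ = ⊤) (φ : Γ →* Equiv.Perm F) (hφ : ∀ g : Γ, φ g ∈ semiaffineGroup F) :
    ∀ g : Γ, φ g = 1 := by
  have haff : ∀ g : Γ, φ g ∈ affineGroup F := by
    have hle : commutator Γ ≤ (affineGroup F).comap φ := by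
      rw [commutator_def, Subgroup.commutator_le]
      intro g _ h _
      change φ ⁅g, h⁆ ∈ affineGroup F
      rw [map_commutatorElement]
      exact commutator_mem_affine _ _ (hφ g) (hφ h)
    intro g
    have : g ∈ commutator Γ := by rw [hperf]; exact Subgroup.mem_top g
    exact hle this
  have htr : ∀ g : Γ, φ g ∈ translations F := by
    have hle : commutator Γ ≤ (translations F).comap φ := by
      rw [commutator_def, Subgroup.commutator_le]
      intro g _ h _
      change φ ⁅g, h⁆ ∈ translations F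
      rw [map_commutatorElement]
      exact commutator_mem_translations _ _ (haff g) (haff h)
    intro g
    have : g ∈ commutator Γ := by rw [hperf]; exact Subgroup.mem_top g
    exact hle this
  have hker : commutator Γ ≤ φ.ker := by
    rw [commutator_def, Subgroup.commutator_le]
    intro g _ h _
    rw [MonoidHom.mem_ker, map_commutatorElement, commutatorElement_eq_one_iff_mul_comm]
    exact translations_comm _ _ (htr g) (htr h)
  intro g
  have : g ∈ commutator Γ := by rw [hperf]; exact Subgroup.mem_top g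
  exact MonoidHom.mem_ker.mp (hker this)

/-- **BRC-SEMI**.  The semi-affine group is solvable: a perfect subgroup of it is trivial. -/
theorem eq_bot_of_perfect_semiaffine {F : Type} [Field F] [Finite F] (H : Subgroup (Equiv.Perm F))
    (hH : H ≤ Cfsg.semiaffineGroup F) (hperf : commutator H = ⊤) : H = ⊥ := by
  rw [eq_bot_iff]
  intro h hh
  have := hom_trivial_of_perfect hperf H.subtype (fun g => hH g.2) ⟨h, hh⟩
  exact Subgroup.mem_bot.mpr this

end Cfsg.Agent.Lib.Helper17.BRCSEMI
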