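/-
helper17: S4705 (faithful character of degree p-2 => SL2(2^a) x Z), the arithmetic core of the kappa-comparison (K5):
the class-algebra constant `kappa` computed in the sector of `zeta` is at most `(p-1)^2/p^2` as soon as `c_b >= 1`,
while computed in the principal sector it is larger than `(p-1)^2/p^2`.
-/
import Mathlib

set_option autoImplicit false

namespace Cfsg.Agent.Lib.Helper17.BRQARITH

/-- the numerator bound: `|B a1 - A b1| <= (2 cb + 1)(p - 1)` -/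
theorem num_le (p cb A B : ℤ) (hp : 7 ≤ p) (hcb : 0 ≤ cb) (hAB : A - B = 1 ∨ A - B = -1)
    (hB : |B| ≤ cb + 1) :
    (B * (cb * p + 1 + p - 2) - A * (cb * p + 1)) ^ 2 ≤ ((2 * cb + 1) * (p - 1)) ^ 2 := by
  have hB1 : B ≤ cb + 1 := (abs_le.mp hB).2
  have hB2 : -(cb + 1) ≤ B := (abs_le.mp hB).1
  apply sq_le_sq'
  · rcases hAB with h | h
    · have hA : A = B + 1 := by omega
      subst hA
      nlinarith
    · have hA : A = B - 1 := by omega
      subst hA
      nlinarith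
  · rcases hAB with h | h
    · have hA : A = B + 1 := by omega
      subst hA
      nlinarith
    · have hA : A = B - 1 := by omega
      subst hA
      nlinarith

/-- the denominator bound: `(2 cb + 1)^2 p^2 <= a1 b1 (p - 2)` for `cb >= 1`, `p >= 7` -/
theorem den_ge (p cb : ℤ) (hp : 7 ≤ p) (hcb : 1 ≤ cb) :
    (2 * cb + 1) ^ 2 * p ^ 2 ≤ (cb * p + 1 + p - 2) * (cb * p + 1) * (p - 2) := by
  have h1 : cb * (cb + 1) * p ^ 2 ≤ (cb * p + 1 + p - 2) * (cb * p + 1) := by nlinarith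
  have h2 : 0 ≤ cb * (cb + 1) * p ^ 2 := by positivity
  have h3 : (2 * cb + 1) ^ 2 ≤ 5 * (cb * (cb + 1)) := by nlinarith
  have h4 : 0 ≤ p ^ 2 := by positivity
  calc (2 * cb + 1) ^ 2 * p ^ 2 ≤ 5 * (cb * (cb + 1)) * p ^ 2 := by nlinarith
    _ = cb * (cb + 1) * p ^ 2 * 5 := by ring
    _ ≤ cb * (cb + 1) * p ^ 2 * (p - 2) := by nlinarith
    _ ≤ (cb * p + 1 + p - 2) * (cb * p + 1) * (p - 2) := by nlinarith

/-- the principal sector: `(p-1)^2 h d < (h - a)^2 p^2` -/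
theorem princ_gt (p c v a : ℤ) (hp : 7 ≤ p) (hc : 0 ≤ c) (hv : v = 1 ∨ v = -1)
    (hcv : v = -1 → 1 ≤ c) (ha : a ≤ c - 1) :
    (p - 1) ^ 2 * ((c * p + v) * (c * p + 2 * v)) < (c * p + v - a) ^ 2 * p ^ 2 := by
  rcases hv with rfl | rfl
  · -- v = 1
    have h1 : c * (p - 1) + 2 ≤ c * p + 1 - a := by nlinarith
    have h0 : 0 ≤ c * (p - 1) + 2 := by nlinarith
    have h2 : (c * (p - 1) + 2) ^ 2 ≤ (c * p + 1 - a) ^ 2 := by
      apply sq_le_sq'
      · nlinarith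
      · exact h1
    have h3 : (p - 1) ^ 2 * ((c * p + 1) * (c * p + 2 * 1)) < (c * (p - 1) + 2) ^ 2 * p ^ 2 := by
      have : (c * (p - 1) + 2) ^ 2 * p ^ 2 - (p - 1) ^ 2 * ((c * p + 1) * (c * p + 2 * 1)) =
          (p - 1) * c * p * (p + 3) + 4 * p ^ 2 - 2 * (p - 1) ^ 2 := by ring
      have h5 : 0 ≤ (p - 1) * c * p * (p + 3) := by
        apply mul_nonneg
        · apply mul_nonneg
          · apply mul_nonneg <;> linarith
          · linarith
        · linarith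
      nlinarith
    have h4 : 0 ≤ p ^ 2 := by positivity
    calc (p - 1) ^ 2 * ((c * p + 1) * (c * p + 2 * 1)) < (c * (p - 1) + 2) ^ 2 * p ^ 2 := h3
      _ ≤ (c * p + 1 - a) ^ 2 * p ^ 2 := by nlinarith
  · -- v = -1
    have hc1 : 1 ≤ c := hcv rfl
    have h1 : c * (p - 1) ≤ c * p + -1 - a := by nlinarith
    have h0 : 0 ≤ c * (p - 1) := by nlinarith
    have h2 : (c * (p - 1)) ^ 2 ≤ (c * p + -1 - a) ^ 2 := by
      apply sq_le_sq'
      · nlinarith
      · exact h1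
    have h3 : (p - 1) ^ 2 * ((c * p + -1) * (c * p + 2 * -1)) < (c * (p - 1)) ^ 2 * p ^ 2 := by
      have : (c * (p - 1)) ^ 2 * p ^ 2 - (p - 1) ^ 2 * ((c * p + -1) * (c * p + 2 * -1)) =
          (p - 1) ^ 2 * (3 * c * p - 2) := by ring
      have h5 : 0 < (p - 1) ^ 2 * (3 * c * p - 2) := by
        apply mul_pos
        · have : 0 < p - 1 := by linarith
          positivity
        · nlinarith
      linarith
    have h4 : 0 ≤ p ^ 2 := by positivity
    calc (p - 1) ^ 2 * ((c * p + -1) * (c * p + 2 * -1)) < (c * (p - 1)) ^ 2 * p ^ 2 := h3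
      _ ≤ (c * p + -1 - a) ^ 2 * p ^ 2 := by nlinarith

/-- **K5 (arithmetic)**: the two evaluations of `kappa` are incompatible when `cb >= 1`. -/
theorem kappa_arith (p cb c v A B a : ℤ) (hp : 7 ≤ p) (hcb : 1 ≤ cb) (hc : 0 ≤ c)
    (hv : v = 1 ∨ v = -1) (hcv : v = -1 → 1 ≤ c)
    (hAB : A - B = 1 ∨ A - B = -1) (hB : |B| ≤ cb + 1) (ha : a ≤ c - 1)
    (heq : (B * (cb * p + 1 + p - 2) - A * (cb * p + 1)) ^ 2 * ((c * p + v) * (c * p + 2 * v)) =
      (c * p + v - a) ^ 2 * ((cb * p + 1 + p - 2) * (cb * p + 1) * (p - 2))) : False := by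
  have h1 := num_le p cb A B hp (by linarith) hAB hB
  have h2 := den_ge p cb hp hcb
  have h3 := princ_gt p c v a hp hc hv hcv ha
  -- `h d > 0`
  have hhd : 0 < (c * p + v) * (c * p + 2 * v) := by
    rcases hv with rfl | rfl
    · apply mul_pos <;> nlinarith
    · have hc1 : 1 ≤ c := hcv rfl
      apply mul_pos <;> nlinarith
  set L := (B * (cb * p + 1 + p - 2) - A * (cb * p + 1)) ^ 2 with hL
  set D := (cb * p + 1 + p - 2) * (cb * p + 1) * (p - 2) with hD
  set HD := (c * p + v) * (c * p + 2 * v) with hHD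
  set Q := (c * p + v - a) ^ 2 with hQ
  set M := ((2 * cb + 1) * (p - 1)) ^ 2 with hM
  -- (p-1)^2 HD D < Q p^2 D = p^2 L HD <= p^2 M HD
  have hDpos : 0 < D := by
    have : 0 < (2 * cb + 1) ^ 2 * p ^ 2 := by positivity
    linarith
  have hp2 : 0 < p ^ 2 := by positivity
  have h4 : (p - 1) ^ 2 * HD * D < Q * p ^ 2 * D := by
    exact mul_lt_mul_of_pos_right h3 hDpos
  have h5 : Q * p ^ 2 * D = p ^ 2 * (L * HD) := by rw [heq]; ring
  have h6 : p ^ 2 * (L * HD) ≤ p ^ 2 * (M * HD) := by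
    apply mul_le_mul_of_nonneg_left _ hp2.le
    exact mul_le_mul_of_nonneg_right h1 hhd.le
  have h7 : (p - 1) ^ 2 * HD * D < p ^ 2 * (M * HD) := by linarith
  -- M p^2 = (p-1)^2 (2cb+1)^2 p^2 <= (p-1)^2 D
  have h8 : p ^ 2 * (M * HD) = (p - 1) ^ 2 * HD * ((2 * cb + 1) ^ 2 * p ^ 2) := by
    rw [hM]; ring
  have h9 : (p - 1) ^ 2 * HD * ((2 * cb + 1) ^ 2 * p ^ 2) ≤ (p - 1) ^ 2 * HD * D := by
    apply mul_le_mul_of_nonneg_left h2
    apply mul_nonneg
    · positivity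
    · exact hhd.le
  linarith

end Cfsg.Agent.Lib.Helper17.BRQARITH
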