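/-
helper17: S4705 ("BS"), generic evaluation of a partial class-multiplication sum `Tc S w w x` on a `TwoBlock`
(helper6 `BS.TwoBlock`): if `η₁, η₂ ∈ S`, `Y ⊆ S`, every other member of `S` vanishes at `x ∈ P \ 1`, and `w` is `p`-regular:
`Tc S w w x = v₁ a₁²/h₁ + v₂ a₂²/h₂ - (v₁ a₁ + v₂ a₂)²/(v₁ h₁ + v₂ h₂) = v₁ v₂ (a₁ h₂ - a₂ h₁)²/(h₁ h₂ (v₁ h₁ + v₂ h₂))`
(`aᵢ = ηᵢ(w)`, `hᵢ = ηᵢ(1)`), and the twisted/untwisted comparison `Tc (cset ψ0) w w x = ω_ψ0(z0) Tc (cset 1) w w x`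
when products of two conjugates of `w` only meet `x Z(G)` in `x z0`.
-/
import Mathlib
import Cfsg.Prelude.Def_BlockRank
import Cfsg.Agent.Lib.Helper6.BSDefs
import Cfsg.Agent.Lib.Helper23.BRVIDefs
import Cfsg.Agent.Lib.Helper23.BRVITCOL
import Cfsg.Agent.Lib.Helper23.BRVITPOS
import Cfsg.Agent.Lib.Helper21.ClassMulPos
import Cfsg.Agent.Lib.Helper24.IrrFacts

set_option autoImplicit false

namespace Cfsg.Agent.Lib.Helper17.BRQEVAL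

open Cfsg Cfsg.Agent.CharLib
open Cfsg.Agent.Lib.Helper6.BS Cfsg.Agent.Lib.Helper23.BRVI Cfsg.Agent.Lib.Helper23.BRVIZC
open Cfsg.Agent.Lib.Helper24
open scoped ComplexConjugate

universe u

variable {G : Type u} [Group G] [Finite G]

/-- the rational identity behind both sector evaluations -/
theorem frac_identity (X Y a b : ℂ) (hX : X ≠ 0) (hY : Y ≠ 0) (hXY : X + Y ≠ 0) :
    a ^ 2 / X + b ^ 2 / Y - (a + b) ^ 2 / (X + Y) = (a * Y - b * X) ^ 2 / (X * Y * (X + Y)) := by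
  field_simp
  ring

theorem int_sign_sq {v : ℤ} (hv : v = 1 ∨ v = -1) : ((v : ℂ)) * (v : ℂ) = 1 := by
  rcases hv with h | h <;> subst h <;> norm_num

/-- splitting a `finsum` over `S` into two distinguished members, a subset `Y` and a remainder where the summand vanishes -/
theorem finsum_split {ι : Type*} [Finite ι] (S Y : Set ι) (e₁ e₂ : ι) (F : ι → ℂ)
    (h1 : e₁ ∈ S) (h2 : e₂ ∈ S) (hY : Y ⊆ S) (hne : e₁ ≠ e₂) (hn1 : e₁ ∉ Y) (hn2 : e₂ ∉ Y)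
    (hvan : ∀ i ∈ S, i ≠ e₁ → i ≠ e₂ → i ∉ Y → F i = 0) :
    ∑ᶠ i ∈ S, F i = F e₁ + F e₂ + ∑ᶠ i ∈ Y, F i := by
  classical
  let _ : Fintype ι := Fintype.ofFinite ι
  rw [Cfsg.Agent.Lib.Helper23.BRVITCOL.finsum_mem_eq_sum_ite S F,
    Cfsg.Agent.Lib.Helper23.BRVITCOL.finsum_mem_eq_sum_ite Y F]
  have hpt : ∀ i : ι, (if i ∈ S then F i else 0) =
      (if i = e₁ then F e₁ else 0) + (if i = e₂ then F e₂ else 0) + (if i ∈ Y then F i else 0) := by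
    intro i
    by_cases hi1 : i = e₁
    · subst hi1
      rw [if_pos h1, if_pos rfl, if_neg hne, if_neg hn1]
      ring
    · by_cases hi2 : i = e₂
      · subst hi2
        rw [if_pos h2, if_neg hi1, if_pos rfl, if_neg hn2]
        ring
      · by_cases hiY : i ∈ Y
        · rw [if_pos (hY hiY), if_neg hi1, if_neg hi2, if_pos hiY]
          ring
        · rw [if_neg hi1, if_neg hi2, if_neg hiY]
          by_cases hiS : i ∈ S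
          · rw [if_pos hiS, hvan i hiS hi1 hi2 hiY]
            ring
          · rw [if_neg hiS]
            ring
  rw [Finset.sum_congr rfl (fun i _ => hpt i), Finset.sum_add_distrib, Finset.sum_add_distrib,
    Finset.sum_ite_eq' Finset.univ e₁, Finset.sum_ite_eq' Finset.univ e₂]
  simp

variable {p : ℕ}

/-- **EVAL (generic).** -/
theorem tc_eval (P : Subgroup G) (η₁ η₂ : IrrCharacter G) (v₁ v₂ : ℤ) (Y : Set (IrrCharacter G)) (ε : ℤ)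
    (hbl : TwoBlock p P η₁ η₂ v₁ v₂ Y ε) (S : Set (IrrCharacter G))
    (h1 : η₁ ∈ S) (h2 : η₂ ∈ S) (hY : Y ⊆ S) (x : G) (hx : x ∈ P) (hx1 : x ≠ 1)
    (hvan : ∀ χ ∈ S, χ ≠ η₁ → χ ≠ η₂ → χ ∉ Y → (χ : G → ℂ) x = 0)
    (w : G) (hw : ¬ p ∣ orderOf w) :
    (v₁ : ℂ) * (η₁ : G → ℂ) 1 + (v₂ : ℂ) * (η₂ : G → ℂ) 1 ≠ 0 ∧
    Tc S w w x = (v₁ : ℂ) * ((η₁ : G → ℂ) w) ^ 2 / (η₁ : G → ℂ) 1 + (v₂ : ℂ) * ((η₂ : G → ℂ) w) ^ 2 / (η₂ : G → ℂ) 1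
      - ((v₁ : ℂ) * (η₁ : G → ℂ) w + (v₂ : ℂ) * (η₂ : G → ℂ) w) ^ 2 /
        ((v₁ : ℂ) * (η₁ : G → ℂ) 1 + (v₂ : ℂ) * (η₂ : G → ℂ) 1) := by
  classical
  have hεε : (ε : ℂ) * (ε : ℂ) = 1 := int_sign_sq hbl.sgn
  have hε0 : (ε : ℂ) ≠ 0 := by
    intro h
    rw [h, mul_zero] at hεε
    exact zero_ne_one hεε
  obtain ⟨ψ0, hψ0⟩ := hbl.neY
  have hp1 : ¬ p ∣ orderOf (1 : G) := by
    rw [orderOf_one]
    intro h
    have := Nat.le_of_dvd one_pos h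
    -- p ≤ 1 : then p ∣ orderOf w
    interval_cases p
    · simp at h
    · exact hw (one_dvd _)
  -- the common values on `Y`
  set s1 : ℂ := (v₁ : ℂ) * (η₁ : G → ℂ) 1 + (v₂ : ℂ) * (η₂ : G → ℂ) 1 with hs1
  set sw : ℂ := (v₁ : ℂ) * (η₁ : G → ℂ) w + (v₂ : ℂ) * (η₂ : G → ℂ) w with hsw
  have hY1 : ∀ ψ ∈ Y, (ψ : G → ℂ) 1 = (ε : ℂ) * s1 := by
    intro ψ hψ
    have := hbl.relY ψ hψ 1 hp1
    calc (ψ : G → ℂ) 1 = ((ε : ℂ) * (ε : ℂ)) * (ψ : G → ℂ) 1 := by rw [hεε, one_mul]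
      _ = (ε : ℂ) * ((ε : ℂ) * (ψ : G → ℂ) 1) := by ring
      _ = (ε : ℂ) * s1 := by rw [this]
  have hYw : ∀ ψ ∈ Y, (ψ : G → ℂ) w = (ε : ℂ) * sw := by
    intro ψ hψ
    have := hbl.relY ψ hψ w hw
    calc (ψ : G → ℂ) w = ((ε : ℂ) * (ε : ℂ)) * (ψ : G → ℂ) w := by rw [hεε, one_mul]
      _ = (ε : ℂ) * ((ε : ℂ) * (ψ : G → ℂ) w) := by ring
      _ = (ε : ℂ) * sw := by rw [this]
  have hs10 : s1 ≠ 0 := by
    intro h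
    have h3 := hY1 ψ0 hψ0
    rw [h, mul_zero] at h3
    exact irr_apply_one_ne_zero ψ0 h3
  refine ⟨hs10, ?_⟩
  unfold Tc
  rw [finsum_split S Y η₁ η₂ _ h1 h2 hY hbl.ne hbl.notY1 hbl.notY2 ?_]
  · -- the three parts
    have hc1 : conj ((η₁ : G → ℂ) x) = (v₁ : ℂ) := by
      rw [hbl.val1 x hx hx1, map_intCast]
    have hc2 : conj ((η₂ : G → ℂ) x) = (v₂ : ℂ) := by
      rw [hbl.val2 x hx hx1, map_intCast]
    have hYpart : ∑ᶠ ψ ∈ Y, (ψ : G → ℂ) w * (ψ : G → ℂ) w * conj ((ψ : G → ℂ) x) / (ψ : G → ℂ) 1 =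
        - sw ^ 2 / s1 := by
      have h5 : ∀ ψ ∈ Y, (ψ : G → ℂ) w * (ψ : G → ℂ) w * conj ((ψ : G → ℂ) x) / (ψ : G → ℂ) 1 =
          (sw ^ 2 / ((ε : ℂ) * s1)) * conj ((ψ : G → ℂ) x) := by
        intro ψ hψ
        rw [hYw ψ hψ, hY1 ψ hψ]
        have : (ε : ℂ) * sw * ((ε : ℂ) * sw) = sw ^ 2 := by
          calc (ε : ℂ) * sw * ((ε : ℂ) * sw) = ((ε : ℂ) * (ε : ℂ)) * sw ^ 2 := by ring
            _ = sw ^ 2 := by rw [hεε, one_mul]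
        rw [this]
        ring
      rw [finsum_mem_congr rfl h5]
      have h9 : ∑ᶠ ψ ∈ Y, (sw ^ 2 / ((ε : ℂ) * s1)) * conj ((ψ : G → ℂ) x) =
          (sw ^ 2 / ((ε : ℂ) * s1)) * ∑ᶠ ψ ∈ Y, conj ((ψ : G → ℂ) x) := by
        rw [finsum_mem_eq_finite_toFinset_sum _ (Set.toFinite Y),
          finsum_mem_eq_finite_toFinset_sum _ (Set.toFinite Y), Finset.mul_sum]
      rw [h9]
      have h6 : ∑ᶠ ψ ∈ Y, conj ((ψ : G → ℂ) x) = -(ε : ℂ) := by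
        have h7 := hbl.sumY x hx hx1
        have h8 : ∑ᶠ ψ ∈ Y, conj ((ψ : G → ℂ) x) = conj (∑ᶠ ψ ∈ Y, (ψ : G → ℂ) x) := by
          rw [finsum_mem_eq_finite_toFinset_sum _ (Set.toFinite Y),
            finsum_mem_eq_finite_toFinset_sum _ (Set.toFinite Y), map_sum]
        rw [h8, h7, map_neg, map_intCast]
      rw [h6]
      field_simp
    rw [hYpart, hc1, hc2]
    ring
  · intro χ hχS hχ1 hχ2 hχY
    rw [hvan χ hχS hχ1 hχ2 hχY, map_zero, mul_zero, zero_div]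

/-- **EVAL (generic), closed form.** -/
theorem tc_eval_closed (P : Subgroup G) (η₁ η₂ : IrrCharacter G) (v₁ v₂ : ℤ) (Y : Set (IrrCharacter G)) (ε : ℤ)
    (hbl : TwoBlock p P η₁ η₂ v₁ v₂ Y ε) (S : Set (IrrCharacter G))
    (h1 : η₁ ∈ S) (h2 : η₂ ∈ S) (hY : Y ⊆ S) (x : G) (hx : x ∈ P) (hx1 : x ≠ 1)
    (hvan : ∀ χ ∈ S, χ ≠ η₁ → χ ≠ η₂ → χ ∉ Y → (χ : G → ℂ) x = 0)
    (w : G) (hw : ¬ p ∣ orderOf w) :
    Tc S w w x = (v₁ : ℂ) * (v₂ : ℂ) * ((η₁ : G → ℂ) w * (η₂ : G → ℂ) 1 - (η₂ : G → ℂ) w * (η₁ : G → ℂ) 1) ^ 2 /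
      ((η₁ : G → ℂ) 1 * (η₂ : G → ℂ) 1 * ((v₁ : ℂ) * (η₁ : G → ℂ) 1 + (v₂ : ℂ) * (η₂ : G → ℂ) 1)) := by
  obtain ⟨hs, he⟩ := tc_eval P η₁ η₂ v₁ v₂ Y ε hbl S h1 h2 hY x hx hx1 hvan w hw
  rw [he]
  have hv1 := int_sign_sq hbl.sgn1
  have hv2 := int_sign_sq hbl.sgn2
  have hh1 := irr_apply_one_ne_zero η₁
  have hh2 := irr_apply_one_ne_zero η₂
  have hv10 : (v₁ : ℂ) ≠ 0 := by
    intro h; rw [h, mul_zero] at hv1; exact zero_ne_one hv1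
  have hv20 : (v₂ : ℂ) ≠ 0 := by
    intro h; rw [h, mul_zero] at hv2; exact zero_ne_one hv2
  have hX : (v₁ : ℂ) * (η₁ : G → ℂ) 1 ≠ 0 := mul_ne_zero hv10 hh1
  have hYY : (v₂ : ℂ) * (η₂ : G → ℂ) 1 ≠ 0 := mul_ne_zero hv20 hh2
  have key := frac_identity ((v₁ : ℂ) * (η₁ : G → ℂ) 1) ((v₂ : ℂ) * (η₂ : G → ℂ) 1)
    ((v₁ : ℂ) * (η₁ : G → ℂ) w) ((v₂ : ℂ) * (η₂ : G → ℂ) w) hX hYY hs
  have e1 : ((v₁ : ℂ) * (η₁ : G → ℂ) w) ^ 2 / ((v₁ : ℂ) * (η₁ : G → ℂ) 1) =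
      (v₁ : ℂ) * ((η₁ : G → ℂ) w) ^ 2 / (η₁ : G → ℂ) 1 := by
    field_simp
  have e2 : ((v₂ : ℂ) * (η₂ : G → ℂ) w) ^ 2 / ((v₂ : ℂ) * (η₂ : G → ℂ) 1) =
      (v₂ : ℂ) * ((η₂ : G → ℂ) w) ^ 2 / (η₂ : G → ℂ) 1 := by
    field_simp
  rw [e1, e2] at key
  rw [key]
  have e3 : ((v₁ : ℂ) * (η₁ : G → ℂ) w * ((v₂ : ℂ) * (η₂ : G → ℂ) 1) -
      (v₂ : ℂ) * (η₂ : G → ℂ) w * ((v₁ : ℂ) * (η₁ : G → ℂ) 1)) ^ 2 =
      ((η₁ : G → ℂ) w * (η₂ : G → ℂ) 1 - (η₂ : G → ℂ) w * (η₁ : G → ℂ) 1) ^ 2 := by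
    calc _ = ((v₁ : ℂ) * (v₁ : ℂ)) * ((v₂ : ℂ) * (v₂ : ℂ)) *
          ((η₁ : G → ℂ) w * (η₂ : G → ℂ) 1 - (η₂ : G → ℂ) w * (η₁ : G → ℂ) 1) ^ 2 := by ring
      _ = _ := by rw [hv1, hv2]; ring
  rw [e3]
  have e4 : (v₁ : ℂ) * (η₁ : G → ℂ) 1 * ((v₂ : ℂ) * (η₂ : G → ℂ) 1) *
      ((v₁ : ℂ) * (η₁ : G → ℂ) 1 + (v₂ : ℂ) * (η₂ : G → ℂ) 1) =
      ((v₁ : ℂ) * (v₂ : ℂ)) * ((η₁ : G → ℂ) 1 * (η₂ : G → ℂ) 1 *
        ((v₁ : ℂ) * (η₁ : G → ℂ) 1 + (v₂ : ℂ) * (η₂ : G → ℂ) 1)) := by ring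
  rw [e4]
  have hv12 : ((v₁ : ℂ) * (v₂ : ℂ)) * ((v₁ : ℂ) * (v₂ : ℂ)) = 1 := by
    calc _ = ((v₁ : ℂ) * (v₁ : ℂ)) * ((v₂ : ℂ) * (v₂ : ℂ)) := by ring
      _ = 1 := by rw [hv1, hv2]; ring
  have hv120 : (v₁ : ℂ) * (v₂ : ℂ) ≠ 0 := mul_ne_zero hv10 hv20
  have hD : (η₁ : G → ℂ) 1 * (η₂ : G → ℂ) 1 * ((v₁ : ℂ) * (η₁ : G → ℂ) 1 + (v₂ : ℂ) * (η₂ : G → ℂ) 1) ≠ 0 :=
    mul_ne_zero (mul_ne_zero hh1 hh2) hs
  generalize ((η₁ : G → ℂ) w * (η₂ : G → ℂ) 1 - (η₂ : G → ℂ) w * (η₁ : G → ℂ) 1) ^ 2 = N at *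
  generalize (η₁ : G → ℂ) 1 * (η₂ : G → ℂ) 1 * ((v₁ : ℂ) * (η₁ : G → ℂ) 1 + (v₂ : ℂ) * (η₂ : G → ℂ) 1) = D at *
  rw [div_eq_div_iff (mul_ne_zero hv120 hD) hD]
  linear_combination (-(N * D)) * hv12

open Classical in
/-- **TCEQ (generic).** If products of two conjugates of `w` meet `x Z(G)` only in `x z0`, the twisted sector sum is
`ω_ψ0(z0)` times the untwisted one. -/
theorem tc_twist (ψ0 : IrrCharacter G) (w x : G) (z0 : Subgroup.center G)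
    (hvan : ∀ z : Subgroup.center G, z ≠ z0 → ∀ a b : G, a * w * a⁻¹ * (b * w * b⁻¹) ≠ x * (z : G)) :
    Tc (cset ψ0) w w x = omegaHom ψ0 z0 * Tc (cset (trivIrr G)) w w x := by
  let _ : Fintype G := Fintype.ofFinite G
  let _ : Fintype (IrrCharacter G) := Fintype.ofFinite _
  let _ : Fintype (Subgroup.center G) := Fintype.ofFinite _
  set n : G → ℕ := fun g =>
    (Finset.univ.filter (fun ab : G × G => ab.1 * w * ab.1⁻¹ * (ab.2 * w * ab.2⁻¹) = g)).card with hn_def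
  have hn : ∀ g : G, (Nat.card G : ℂ) * ∑ᶠ χ : IrrCharacter G,
      (χ : G → ℂ) w * (χ : G → ℂ) w * conj ((χ : G → ℂ) g) / (χ : G → ℂ) 1 = (n g : ℂ) := by
    intro g
    rw [finsum_eq_sum_of_fintype, Nat.card_eq_fintype_card]
    exact (Cfsg.Agent.Lib.Helper21.ClassMulPos.card_pairs_eq w w g).symm
  have hzero : ∀ z : Subgroup.center G, z ≠ z0 → n (x * (z : G)) = 0 := by
    intro z hz
    rw [hn_def]
    simp only [Finset.card_eq_zero]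
    apply Finset.filter_eq_empty_iff.mpr
    intro ab _
    exact hvan z hz ab.1 ab.2
  have hk0 := Cfsg.Agent.Lib.Helper23.BRVITPOS.card_mul_tc ψ0 w w x n hn
  have hk1 := Cfsg.Agent.Lib.Helper23.BRVITPOS.card_mul_tc (trivIrr G) w w x n hn
  have hs0 : ∑ z : Subgroup.center G, omegaHom ψ0 z * (n (x * (z : G)) : ℂ) =
      omegaHom ψ0 z0 * (n (x * (z0 : G)) : ℂ) := by
    rw [Finset.sum_eq_single z0]
    · intro z _ hz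
      rw [hzero z hz]
      simp
    · intro h
      exact absurd (Finset.mem_univ _) h
  have hs1 : ∑ z : Subgroup.center G, omegaHom (trivIrr G) z * (n (x * (z : G)) : ℂ) =
      (n (x * (z0 : G)) : ℂ) := by
    rw [Finset.sum_eq_single z0]
    · rw [omegaHom_trivIrr, one_mul]
    · intro z _ hz
      rw [hzero z hz]
      simp
    · intro h
      exact absurd (Finset.mem_univ _) h
  rw [hs0] at hk0
  rw [hs1] at hk1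
  have hGc : (Nat.card G : ℂ) ≠ 0 := Nat.cast_ne_zero.mpr Nat.card_pos.ne'
  have hZc : (Nat.card (Subgroup.center G) : ℂ) ≠ 0 := Nat.cast_ne_zero.mpr Nat.card_pos.ne'
  have hne : (Nat.card G : ℂ) * (Nat.card (Subgroup.center G) : ℂ) ≠ 0 := mul_ne_zero hGc hZc
  apply mul_left_cancel₀ hne
  rw [hk0, ← hk1]
  ring

end Cfsg.Agent.Lib.Helper17.BRQEVAL
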