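/-
helper17: S4705 (faithful character of degree p-2 => SL2(2^a) x Z), the group-theoretic core of the count (K1):
`P ≤ G` of odd prime order `p`, `C_G(P) = P × Z(G)`, `Z(G)` a `p'`-group, `w` inverts `P`, `w² ∈ Z(G)`,
`N_G(P) = C_G(P) ∪ w C_G(P)`, and `w z ~ w` only for `z = 1`:
if `w₁, w₂` are conjugates of `w` with `w₁ w₂ = x z` (`1 ≠ x ∈ P`, `z ∈ Z(G)`), then `z = w²`, `w₁ = w x₁`, `w₂ = w x₁ x` with `x₁ ∈ P`.
-/
import Mathlib

set_option autoImplicit false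

namespace Cfsg.Agent.Lib.Helper17.BRQPAIR

variable {G : Type*} [Group G]

/-- the normalizer (as a subgroup) -/
abbrev Nz' (P : Subgroup G) : Subgroup G := Subgroup.normalizer (P : Set G)

/-- the centralizer (as a subgroup) -/
abbrev Cz' (P : Subgroup G) : Subgroup G := Subgroup.centralizer (P : Set G)

/-- a conjugate of `w` has the same (central) square -/
theorem sq_of_isConj {w w1 : G} (hw2 : w * w ∈ Subgroup.center G) (h : IsConj w w1) :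
    w1 * w1 = w * w := by
  obtain ⟨a, ha⟩ := isConj_iff.mp h
  rw [← ha]
  have hc := Subgroup.mem_center_iff.mp hw2 a
  calc a * w * a⁻¹ * (a * w * a⁻¹) = a * (w * w) * a⁻¹ := by group
    _ = w * w * a * a⁻¹ := by rw [hc]
    _ = w * w := by group

/-- `w x` is conjugate to `w` for `x ∈ P` (`w` inverts `P`, `|P|` odd) -/
theorem isConj_mul_of_mem {p : ℕ} (P : Subgroup G) (hP : Nat.card P = p) (hodd : Odd p)
    (w : G) (hwinv : ∀ x ∈ P, w * x * w⁻¹ = x⁻¹) (x : G) (hx : x ∈ P) : IsConj w (w * x) := by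
  -- `x = y⁻²` with `y = x ^ ((p-1)/2)`: `y w y⁻¹ = w (w⁻¹ y w) y⁻¹ = w y⁻¹ y⁻¹`
  obtain ⟨k, hk⟩ := hodd
  have hxp : x ^ p = 1 := by
    have h1 := pow_card_eq_one' (G := P) (x := ⟨x, hx⟩)
    rw [hP] at h1
    have h2 := congrArg Subtype.val h1
    simpa using h2
  set y := x ^ k with hy
  have hyP : y ∈ P := P.pow_mem hx k
  have hy2 : y * y * x = 1 := by
    rw [hy, ← pow_add, ← pow_succ, ← two_mul, ← hk, hxp]
  have hyinv : w * y * w⁻¹ = y⁻¹ := hwinv y hyP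
  have hwy : w⁻¹ * y * w = y⁻¹ := by
    have h1 : w * y⁻¹ * w⁻¹ = y := by
      have := hwinv y⁻¹ (P.inv_mem hyP)
      rwa [inv_inv] at this
    calc w⁻¹ * y * w = w⁻¹ * (w * y⁻¹ * w⁻¹) * w := by rw [h1]
      _ = y⁻¹ := by group
  rw [isConj_iff]
  refine ⟨y, ?_⟩
  have hx' : x = y⁻¹ * y⁻¹ := by
    have : y * y * x = 1 := hy2
    calc x = (y * y)⁻¹ * (y * y * x) := by group
      _ = (y * y)⁻¹ := by rw [this, mul_one]
      _ = y⁻¹ * y⁻¹ := by group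
  calc y * w * y⁻¹ = w * (w⁻¹ * y * w) * y⁻¹ := by group
    _ = w * y⁻¹ * y⁻¹ := by rw [hwy]
    _ = w * x := by rw [hx']; group


/-- every element of `P` (of prime order `p`) is a power of a non-identity element -/
theorem exists_pow_eq {p : ℕ} [Fact p.Prime] (P : Subgroup G) (hP : Nat.card P = p) {x : G} (hx : x ∈ P)
    (hx1 : x ≠ 1) {y : G} (hy : y ∈ P) : ∃ k : ℕ, y = x ^ k := by
  have hne : (⟨x, hx⟩ : P) ≠ 1 := fun h => hx1 (by simpa using congrArg Subtype.val h)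
  have h := mem_powers_of_prime_card (G := P) hP (g := ⟨x, hx⟩) (g' := ⟨y, hy⟩) hne
  obtain ⟨k, hk⟩ := h
  refine ⟨k, ?_⟩
  have := congrArg Subtype.val hk
  simpa using this.symm

/-- an element of `P` of order prime to `p` is trivial -/
theorem eq_one_of_mem_of_not_dvd {p : ℕ} [hp : Fact p.Prime] (P : Subgroup G) (hP : Nat.card P = p) {x : G}
    (hx : x ∈ P) (h : ¬ p ∣ orderOf x) : x = 1 := by
  have h1 : orderOf (⟨x, hx⟩ : P) ∣ p := by
    rw [← hP]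
    exact orderOf_dvd_natCard _
  rw [Subgroup.orderOf_mk] at h1
  rcases (Nat.dvd_prime hp.out).mp h1 with h2 | h2
  · exact orderOf_eq_one_iff.mp h2
  · exact absurd (h2 ▸ dvd_rfl) h

/-- conjugating by `w'` with `w' w' = z0`, `w'' w'' = z0`, `w' w'' = g` sends `g` to `z0² g⁻¹` -/
theorem conj_prod_eq {w' w'' g z0 : G} (hs' : w' * w' = z0) (hs'' : w'' * w'' = z0) (hpr : w' * w'' = g) :
    w' * g * w'⁻¹ = z0 * z0 * g⁻¹ := by
  calc w' * g * w'⁻¹ = w' * (w' * w'') * w'⁻¹ := by rw [hpr]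
    _ = (w' * w') * w'' * w'⁻¹ := by group
    _ = z0 * w'' * w'⁻¹ := by rw [hs']
    _ = z0 * ((w'' * w'') * w''⁻¹) * w'⁻¹ := by group
    _ = z0 * (z0 * w''⁻¹) * w'⁻¹ := by rw [hs'']
    _ = z0 * z0 * (w' * w'')⁻¹ := by group
    _ = z0 * z0 * g⁻¹ := by rw [hpr]

/-- if `w z'` is conjugate to a conjugate of `w` ... : `w x' z' ~ w` forces `w z' ~ w` -/
theorem isConj_central_of {p : ℕ} (P : Subgroup G) (hP : Nat.card P = p) (hodd : Odd p)
    (w : G) (hwinv : ∀ x ∈ P, w * x * w⁻¹ = x⁻¹) (x' : G) (hx' : x' ∈ P) (z' : G)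
    (hz' : z' ∈ Subgroup.center G) (h : IsConj w (w * x' * z')) : IsConj w (w * z') := by
  obtain ⟨y, hy⟩ := isConj_iff.mp (isConj_mul_of_mem P hP hodd w hwinv x' hx')
  have hzc : ∀ g : G, g * z' = z' * g := fun g => Subgroup.mem_center_iff.mp hz' g
  have h2 : IsConj (w * z') (w * x' * z') := by
    rw [isConj_iff]
    refine ⟨y, ?_⟩
    calc y * (w * z') * y⁻¹ = y * w * (z' * y⁻¹) := by group
      _ = y * w * (y⁻¹ * z') := by rw [hzc y⁻¹]
      _ = (y * w * y⁻¹) * z' := by group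
      _ = w * x' * z' := by rw [hy]
  exact h.trans h2.symm

/-- **K1, structural part.** -/
theorem pair_structure {p : ℕ} [hp : Fact p.Prime] (P : Subgroup G) (hP : Nat.card P = p) (hodd : Odd p)
    (hZreg : ∀ z ∈ Subgroup.center G, ¬ p ∣ orderOf z)
    (hC : ∀ c ∈ Cz' P, ∃ x ∈ P, ∃ z ∈ Subgroup.center G, c = x * z)
    (w : G) (hwinv : ∀ x ∈ P, w * x * w⁻¹ = x⁻¹) (hw2 : w * w ∈ Subgroup.center G)
    (hN : ∀ g ∈ Nz' P, g ∈ Cz' P ∨ w⁻¹ * g ∈ Cz' P)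
    (hconj : ∀ z ∈ Subgroup.center G, IsConj w (w * z) → z = 1)
    (w1 w2 : G) (h1 : IsConj w w1) (h2 : IsConj w w2)
    (x : G) (hx : x ∈ P) (hx1 : x ≠ 1) (z : G) (hz : z ∈ Subgroup.center G)
    (hprod : w1 * w2 = x * z) :
    z = w * w ∧ ∃ x1 ∈ P, w1 = w * x1 ∧ w2 = w * (x1 * x) := by
  have hpp : p.Prime := hp.out
  set z0 := w * w with hz0
  have hs1 : w1 * w1 = z0 := sq_of_isConj hw2 h1
  have hs2 : w2 * w2 = z0 := sq_of_isConj hw2 h2
  have hz0c : ∀ g : G, g * z0 = z0 * g := fun g => Subgroup.mem_center_iff.mp hw2 g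
  have hzc : ∀ g : G, g * z = z * g := fun g => Subgroup.mem_center_iff.mp hz g
  have hzinv : z⁻¹ ∈ Subgroup.center G := (Subgroup.center G).inv_mem hz
  have hzic : ∀ g : G, g * z⁻¹ = z⁻¹ * g := fun g => Subgroup.mem_center_iff.mp hzinv g
  have hxp : x ^ p = 1 := by
    have h1 := pow_card_eq_one' (G := P) (x := ⟨x, hx⟩)
    rw [hP] at h1
    have h2 := congrArg Subtype.val h1
    simpa using h2
  -- Step 1 : `w1 x w1⁻¹ = u x⁻¹` with `u` central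
  set u := z0 * z0 * z⁻¹ * z⁻¹ with hu
  have hucen : u ∈ Subgroup.center G :=
    (Subgroup.center G).mul_mem ((Subgroup.center G).mul_mem ((Subgroup.center G).mul_mem hw2 hw2) hzinv) hzinv
  have huc : ∀ g : G, g * u = u * g := fun g => Subgroup.mem_center_iff.mp hucen g
  have e1 := conj_prod_eq hs1 hs2 hprod
  have e2 : w1 * x * w1⁻¹ = u * x⁻¹ := by
    calc w1 * x * w1⁻¹ = w1 * x * (w1⁻¹ * z) * z⁻¹ := by group
      _ = w1 * x * (z * w1⁻¹) * z⁻¹ := by rw [hzc w1⁻¹]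
      _ = (w1 * (x * z) * w1⁻¹) * z⁻¹ := by group
      _ = z0 * z0 * (x * z)⁻¹ * z⁻¹ := by rw [e1]
      _ = z0 * z0 * (z⁻¹ * x⁻¹) * z⁻¹ := by group
      _ = z0 * z0 * (x⁻¹ * z⁻¹) * z⁻¹ := by rw [hzic x⁻¹]
      _ = z0 * z0 * (x⁻¹ * (z⁻¹ * z⁻¹)) := by group
      _ = z0 * z0 * ((z⁻¹ * z⁻¹) * x⁻¹) := by
          have : x⁻¹ * (z⁻¹ * z⁻¹) = (z⁻¹ * z⁻¹) * x⁻¹ := by
            calc x⁻¹ * (z⁻¹ * z⁻¹) = (x⁻¹ * z⁻¹) * z⁻¹ := by group
              _ = (z⁻¹ * x⁻¹) * z⁻¹ := by rw [hzic x⁻¹]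
              _ = z⁻¹ * (x⁻¹ * z⁻¹) := by group
              _ = z⁻¹ * (z⁻¹ * x⁻¹) := by rw [hzic x⁻¹]
              _ = (z⁻¹ * z⁻¹) * x⁻¹ := by group
          rw [this]
      _ = u * x⁻¹ := by rw [hu]; group
  -- Step 2 : `u = 1`
  have hup : u ^ p = 1 := by
    have h3 : (w1 * x * w1⁻¹) ^ p = 1 := by rw [conj_pow, hxp]; group
    rw [e2] at h3
    have hcomm : Commute u x⁻¹ := (huc x⁻¹).symm
    rw [hcomm.mul_pow, inv_pow, hxp, inv_one, mul_one] at h3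
    exact h3
  have hu1 : u = 1 := by
    have h3 : orderOf u ∣ p := orderOf_dvd_of_pow_eq_one hup
    rcases (Nat.dvd_prime hpp).mp h3 with h4 | h4
    · exact orderOf_eq_one_iff.mp h4
    · exact absurd (h4 ▸ dvd_rfl) (hZreg u hucen)
  have e3 : w1 * x * w1⁻¹ = x⁻¹ := by rw [e2, hu1, one_mul]
  have e3' : w1⁻¹ * x * w1 = x⁻¹ := by
    have : x = w1⁻¹ * x⁻¹ * w1 := by rw [← e3]; group
    calc w1⁻¹ * x * w1 = (w1⁻¹ * x⁻¹ * w1)⁻¹ := by group
      _ = x⁻¹ := by rw [← this]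
  -- Step 3 : `w1 ∈ N_G(P)`
  have hw1N : w1 ∈ Nz' P := by
    rw [Subgroup.mem_normalizer_iff]
    intro h
    constructor
    · intro hh
      obtain ⟨k, rfl⟩ := exists_pow_eq P hP hx hx1 hh
      rw [← conj_pow, e3]
      exact P.pow_mem (P.inv_mem hx) k
    · intro hh
      obtain ⟨k, hk⟩ := exists_pow_eq P hP hx hx1 hh
      have : h = (w1⁻¹ * x * w1) ^ k := by
        have h5 : (w1⁻¹ * x * w1) ^ k = w1⁻¹ * x ^ k * w1 := by
          have := conj_pow (a := w1⁻¹) (b := x) (i := k)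
          rw [inv_inv] at this
          exact this
        rw [h5, ← hk]
        group
      rw [this, e3']
      exact P.pow_mem (P.inv_mem hx) k
  -- Step 4 : `w1 ∉ C_G(P)`
  have hw1C : w1 ∉ Cz' P := by
    intro hc
    have h5 := Subgroup.mem_centralizer_iff.mp hc x hx
    have h6 : w1 * x * w1⁻¹ = x := by rw [← h5]; group
    rw [e3] at h6
    -- x⁻¹ = x, x^p = 1, p odd
    obtain ⟨k, hk⟩ := hodd
    have hx2 : x * x = 1 := by
      calc x * x = x * x⁻¹ := by rw [h6]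
        _ = 1 := by group
    have : x = 1 := by
      have h7 : x ^ (2 * k + 1) = 1 := by rw [← hk]; exact hxp
      rw [pow_succ, pow_mul, pow_two, hx2, one_pow, one_mul] at h7
      exact h7
    exact hx1 this
  -- Step 5 : `w1 = w x1`
  obtain ⟨x1, hx1P, z1, hz1, hw1eq⟩ := hC _ ((hN w1 hw1N).resolve_left hw1C)
  have hw1' : w1 = w * x1 * z1 := by
    calc w1 = w * (w⁻¹ * w1) := by group
      _ = w * (x1 * z1) := by rw [hw1eq]
      _ = w * x1 * z1 := by group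
  have hz11 : z1 = 1 := by
    apply hconj z1 hz1
    apply isConj_central_of P hP hodd w hwinv x1 hx1P z1 hz1
    rw [← hw1']
    exact h1
  have hw1'' : w1 = w * x1 := by rw [hw1', hz11, mul_one]
  -- Step 6 : `w2 = w (x1 x) (z z0⁻¹)`
  have hz0inv : z0⁻¹ ∈ Subgroup.center G := (Subgroup.center G).inv_mem hw2
  have hz0ic : ∀ g : G, g * z0⁻¹ = z0⁻¹ * g := fun g => Subgroup.mem_center_iff.mp hz0inv g
  have hwinv' : w⁻¹ = z0⁻¹ * w := by
    calc w⁻¹ = (w * w)⁻¹ * w := by group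
      _ = z0⁻¹ * w := by rw [hz0]
  have hx1w : x1⁻¹ * w = w * x1 := by
    have := hwinv x1 hx1P
    calc x1⁻¹ * w = (w * x1 * w⁻¹) * w := by rw [this]
      _ = w * x1 := by group
  set z2 := z * z0⁻¹ with hz2
  have hz2cen : z2 ∈ Subgroup.center G := (Subgroup.center G).mul_mem hz hz0inv
  have hw2' : w2 = w * (x1 * x) * z2 := by
    calc w2 = w1⁻¹ * (w1 * w2) := by group
      _ = (w * x1)⁻¹ * (x * z) := by rw [hprod, hw1'']
      _ = x1⁻¹ * w⁻¹ * (x * z) := by group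
      _ = x1⁻¹ * (z0⁻¹ * w) * (x * z) := by rw [hwinv']
      _ = (x1⁻¹ * z0⁻¹) * w * (x * z) := by group
      _ = (z0⁻¹ * x1⁻¹) * w * (x * z) := by rw [hz0ic x1⁻¹]
      _ = z0⁻¹ * (x1⁻¹ * w) * (x * z) := by group
      _ = z0⁻¹ * (w * x1) * (x * z) := by rw [hx1w]
      _ = z0⁻¹ * (w * x1 * x * z) := by group
      _ = (w * x1 * x * z) * z0⁻¹ := by rw [hz0ic]
      _ = w * (x1 * x) * z2 := by rw [hz2]; group
  have hz21 : z2 = 1 := by
    apply hconj z2 hz2cen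
    apply isConj_central_of P hP hodd w hwinv (x1 * x) (P.mul_mem hx1P hx) z2 hz2cen
    rw [← hw2']
    exact h2
  refine ⟨?_, x1, hx1P, hw1'', ?_⟩
  · calc z = (z * z0⁻¹) * z0 := by group
      _ = z0 := by rw [← hz2, hz21, one_mul]
  · rw [hw2', hz21, mul_one]

/-- **K1, vanishing form** (the shape of `Helper13.InvZ.card_mul_sum_lying_over_gen`): for a central `z ≠ w²`
no product of two conjugates of `w` equals `x z`. -/
theorem hvan_of {p : ℕ} [Fact p.Prime] (P : Subgroup G) (hP : Nat.card P = p) (hodd : Odd p)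
    (hZreg : ∀ z ∈ Subgroup.center G, ¬ p ∣ orderOf z)
    (hC : ∀ c ∈ Cz' P, ∃ x ∈ P, ∃ z ∈ Subgroup.center G, c = x * z)
    (w : G) (hwinv : ∀ x ∈ P, w * x * w⁻¹ = x⁻¹) (hw2 : w * w ∈ Subgroup.center G)
    (hN : ∀ g ∈ Nz' P, g ∈ Cz' P ∨ w⁻¹ * g ∈ Cz' P)
    (hconj : ∀ z ∈ Subgroup.center G, IsConj w (w * z) → z = 1)
    (x : G) (hx : x ∈ P) (hx1 : x ≠ 1) :
    ∀ z : Subgroup.center G, z ≠ ⟨w * w, hw2⟩ → ∀ a b : G, a * w * a⁻¹ * (b * w * b⁻¹) ≠ x * (z : G) := by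
  intro z hz a b hab
  apply hz
  have h1 : IsConj w (a * w * a⁻¹) := isConj_iff.mpr ⟨a, rfl⟩
  have h2 : IsConj w (b * w * b⁻¹) := isConj_iff.mpr ⟨b, rfl⟩
  have := (pair_structure P hP hodd hZreg hC w hwinv hw2 hN hconj _ _ h1 h2 x hx hx1 (z : G) z.2 hab).1
  exact Subtype.ext this

/-- the same for an arbitrary central subgroup `Z` -/
theorem hvan_of_le {p : ℕ} [Fact p.Prime] (P : Subgroup G) (hP : Nat.card P = p) (hodd : Odd p)
    (hZreg : ∀ z ∈ Subgroup.center G, ¬ p ∣ orderOf z)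
    (hC : ∀ c ∈ Cz' P, ∃ x ∈ P, ∃ z ∈ Subgroup.center G, c = x * z)
    (w : G) (hwinv : ∀ x ∈ P, w * x * w⁻¹ = x⁻¹) (hw2 : w * w ∈ Subgroup.center G)
    (hN : ∀ g ∈ Nz' P, g ∈ Cz' P ∨ w⁻¹ * g ∈ Cz' P)
    (hconj : ∀ z ∈ Subgroup.center G, IsConj w (w * z) → z = 1)
    (x : G) (hx : x ∈ P) (hx1 : x ≠ 1) (Z : Subgroup G) (hZ : Z ≤ Subgroup.center G) (z0 : Z)
    (hz0 : (z0 : G) = w * w) :
    ∀ z : Z, z ≠ z0 → ∀ a b : G, a * w * a⁻¹ * (b * w * b⁻¹) ≠ x * (z : G) := by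
  intro z hz a b hab
  apply hz
  have h1 : IsConj w (a * w * a⁻¹) := isConj_iff.mpr ⟨a, rfl⟩
  have h2 : IsConj w (b * w * b⁻¹) := isConj_iff.mpr ⟨b, rfl⟩
  have := (pair_structure P hP hodd hZreg hC w hwinv hw2 hN hconj _ _ h1 h2 x hx hx1 (z : G) (hZ z.2) hab).1
  exact Subtype.ext (this.trans hz0.symm)

end Cfsg.Agent.Lib.Helper17.BRQPAIR
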