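/-
helper17: S4705, the trace bound: if `w` normalizes `P` and every `w x` (`x ∈ P`) is conjugate to `w`, then for every
character `χ` of `G`:  `|χ(w)| ≤ ⟨χ|_P, 1_P⟩` (`ρ(w)` acts on the `P`-fixed space, and `χ(w)` is its trace there).
-/
import Mathlib
import Cfsg.Prelude.Def_Characters
import Cfsg.Agent.Lib.Lead.CharBasic
import Cfsg.Agent.Lib.Helper24.IrrFacts
import Cfsg.Agent.Lib.Helper17.BRQPAIR

set_option autoImplicit false

namespace Cfsg.Agent.Lib.Helper17.BRQTRACE

open Cfsg Cfsg.Agent.CharLib Module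
open scoped ComplexConjugate

universe u

variable {G : Type u} [Group G]

/-- representation level: `|tr ρ(w)| ≤ dim V^P`. -/
theorem norm_char_le_finrank_invariants [Finite G] {V : Type*} [AddCommGroup V] [Module ℂ V]
    [FiniteDimensional ℂ V] (ρ : Representation ℂ G V) (P : Subgroup G) (w : G)
    (hwn : ∀ x ∈ P, w⁻¹ * x * w ∈ P) (hconj : ∀ x ∈ P, IsConj w (w * x)) :
    ‖ρ.character w‖ ≤ (finrank ℂ (Representation.invariants (MonoidHom.comp ρ P.subtype)) : ℝ) := by
  classical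
  let σ : Representation ℂ P V := MonoidHom.comp ρ P.subtype
  have hσ : ∀ (x : P) (v : V), σ x v = ρ (x : G) v := fun x v => rfl
  let _ : Fintype P := Fintype.ofFinite P
  have hcardne : (Fintype.card P : ℂ) ≠ 0 := by
    have : 0 < Fintype.card P := Fintype.card_pos
    exact_mod_cast this.ne'
  let _ : Invertible (Fintype.card P : ℂ) := invertibleOfNonzero hcardne
  set W := Representation.invariants σ with hWdef
  -- `ρ w` preserves the invariants
  have hW : ∀ u ∈ W, ρ w u ∈ W := by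
    intro u hu y
    have hy : w⁻¹ * (y : G) * w ∈ P := hwn _ y.2
    have h1 : σ ⟨w⁻¹ * (y : G) * w, hy⟩ u = u := hu _
    rw [hσ] at h1
    rw [hσ]
    calc ρ (y : G) (ρ w u) = ρ ((y : G) * w) u := by rw [map_mul]; rfl
      _ = ρ (w * (w⁻¹ * (y : G) * w)) u := by congr 2; group
      _ = ρ w (ρ (w⁻¹ * (y : G) * w) u) := by rw [map_mul]; rfl
      _ = ρ w u := by rw [h1]
  set avg := Representation.averageMap σ with havg
  have havg_mem : ∀ v, avg v ∈ W := Representation.averageMap_invariant σ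
  have havg_id : ∀ v ∈ W, avg v = v := Representation.averageMap_id σ
  set f : V →ₗ[ℂ] V := ρ w ∘ₗ avg with hf
  have hfmem : ∀ v, f v ∈ W := fun v => hW _ (havg_mem v)
  -- trace of `f`
  have havg_eq : avg = (Fintype.card P : ℂ)⁻¹ • ∑ x : P, σ x := by
    rw [havg]
    simp [Representation.averageMap, GroupAlgebra.average, map_sum, invOf_eq_inv]
  have htr : LinearMap.trace ℂ V f = ρ.character w := by
    have hf' : f = ρ w * avg := rfl
    rw [hf', havg_eq, mul_smul_comm, Finset.mul_sum, map_smul, map_sum]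
    have h2 : ∀ x : P, LinearMap.trace ℂ V (ρ w * σ x) = ρ.character w := by
      intro x
      have h3 : ρ w * σ x = ρ (w * (x : G)) := by rw [map_mul]; rfl
      rw [h3]
      obtain ⟨a, ha⟩ := isConj_iff.mp (hconj _ x.2)
      show ρ.character (w * (x : G)) = ρ.character w
      rw [← ha, Representation.char_conj]
    rw [Finset.sum_congr rfl (fun x _ => h2 x), Finset.sum_const, Finset.card_univ, nsmul_eq_mul, smul_eq_mul,
      ← mul_assoc, inv_mul_cancel₀ hcardne, one_mul]
  -- restrict to `W`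
  have hres := LinearMap.trace_restrict_eq_of_forall_mem W f hfmem
  have hfr : f.restrict (fun x _ => hfmem x) = (ρ w).restrict hW := by
    ext u
    simp only [LinearMap.coe_restrict_apply]
    show ρ w (avg (u : V)) = ρ w (u : V)
    rw [havg_id _ u.2]
  rw [hfr, htr] at hres
  set T : End ℂ W := (ρ w).restrict hW with hT
  have hTk : T ^ (orderOf w) = 1 := by
    rw [hT, Module.End.pow_restrict]
    ext u
    simp only [LinearMap.coe_restrict_apply]
    rw [rep_pow_orderOf ρ w]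
    rfl
  obtain ⟨ι, hι, b, μ, h1, h2⟩ := exists_eigenbasis_of_pow_eq_one T (orderOf w) (orderOf_pos w) hTk
  rw [← hres, trace_eq_sum_of_eigenbasis b T μ h2, Module.finrank_eq_card_basis b]
  calc ‖∑ i, μ i‖ ≤ ∑ i, ‖μ i‖ := norm_sum_le _ _
    _ = ∑ _i : ι, (1:ℝ) := by
        apply Finset.sum_congr rfl
        intro i _
        exact Complex.norm_eq_one_of_pow_eq_one (h1 i) (orderOf_pos w).ne'
    _ = (Fintype.card ι : ℝ) := by simp

/-- irreducible character level -/
theorem irr_norm_le [Finite G] (χ : IrrCharacter G) (P : Subgroup G) (w : G)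
    (hwn : ∀ x ∈ P, w⁻¹ * x * w ∈ P) (hconj : ∀ x ∈ P, IsConj w (w * x)) :
    ∃ m : ℕ, ∑ᶠ x ∈ (P : Set G), (χ : G → ℂ) x = (Nat.card P : ℂ) * (m : ℂ) ∧
      ‖(χ : G → ℂ) w‖ ≤ (m : ℝ) := by
  classical
  obtain ⟨χf, n, ρ, hirr, rfl⟩ := χ
  let σ : Representation ℂ P (Fin n → ℂ) := MonoidHom.comp ρ P.subtype
  let _ : Fintype P := Fintype.ofFinite P
  have hne : (Nat.card P : ℂ) ≠ 0 := by
    have : 0 < Nat.card P := Nat.card_pos
    exact_mod_cast this.ne'
  have hinv : Invertible (Nat.card P : ℂ) := invertibleOfNonzero hne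
  have h := Representation.card_inv_mul_sum_char_eq_finrank σ
  refine ⟨finrank ℂ (Representation.invariants σ), ?_, ?_⟩
  · rw [← h, ← mul_assoc, mul_inv_cancel₀ hne, one_mul]
    rw [← finsum_set_coe_eq_finsum_mem (P : Set G), finsum_eq_sum_of_fintype]
    rfl
  · exact norm_char_le_finrank_invariants ρ P w hwn hconj

/-- the form used in S4705: `P` of odd order `p`, `w` inverts `P`. -/
theorem irr_norm_le_of_inverts [Finite G] {p : ℕ} (χ : IrrCharacter G) (P : Subgroup G) (hP : Nat.card P = p)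
    (hodd : Odd p) (w : G) (hwinv : ∀ x ∈ P, w * x * w⁻¹ = x⁻¹) :
    ∃ m : ℕ, ∑ᶠ x ∈ (P : Set G), (χ : G → ℂ) x = (p : ℂ) * (m : ℂ) ∧ ‖(χ : G → ℂ) w‖ ≤ (m : ℝ) := by
  have hwn : ∀ x ∈ P, w⁻¹ * x * w ∈ P := by
    intro x hx
    have h1 : w * x⁻¹ * w⁻¹ = x := by
      have := hwinv x⁻¹ (P.inv_mem hx)
      rwa [inv_inv] at this
    have : w⁻¹ * x * w = x⁻¹ := by
      calc w⁻¹ * x * w = w⁻¹ * (w * x⁻¹ * w⁻¹) * w := by rw [h1]
        _ = x⁻¹ := by group
    rw [this]
    exact P.inv_mem hx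
  have hconj : ∀ x ∈ P, IsConj w (w * x) := fun x hx => BRQPAIR.isConj_mul_of_mem P hP hodd w hwinv x hx
  obtain ⟨m, h1, h2⟩ := irr_norm_le χ P w hwn hconj
  exact ⟨m, by rw [h1, hP], h2⟩

end Cfsg.Agent.Lib.Helper17.BRQTRACE
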