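/-
helper17: S4705 market "BS", leaf BS-COUNT (K1): products of two conjugates of `w` in `(P \ 1) Z(G)` lie in `(P \ 1) w²`.
-/
import Mathlib
import Cfsg.Prelude.Def_BlockRank
import Cfsg.Agent.Lib.Helper6.BRHDefs
import Cfsg.Agent.Lib.Helper6.BSDefs
import Cfsg.Agent.Lib.Helper23.BRVIDefs
import Cfsg.Agent.Lib.Helper23.BRVIZC
import Cfsg.Agent.Lib.Helper15.BRPCCZ
import Cfsg.Agent.Lib.Helper15.BRVIZREG
import Cfsg.Agent.Lib.Helper17.BRQPAIR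

set_option autoImplicit false

namespace Cfsg.Agent.Lib.Helper17.BSCOUNT

open Cfsg Cfsg.Agent.Lib.Helper8.DOM Cfsg.Agent.Lib.Helper27.DO Cfsg.Agent.CharLib
open Cfsg.Agent.Lib.Helper6.BRH Cfsg.Agent.Lib.Helper23.BRVI Cfsg.Agent.Lib.Helper6.BS
open scoped ComplexConjugate

universe u

variable {G : Type u} [Group G] [Finite G] {p : ℕ} [Fact p.Prime] {M : Ideal AlgInt}

/-- `w z ~ w` with `z` central forces `z = 1` when a faithful irreducible character does not vanish at `w` -/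
theorem central_eq_one_of_isConj (ζ : IrrCharacter G)
    (hfaith : ∀ g : G, (ζ : G → ℂ) g = (ζ : G → ℂ) 1 → g = 1) (w : G) (hζw : (ζ : G → ℂ) w ≠ 0)
    (z : G) (hz : z ∈ Subgroup.center G) (h : IsConj w (w * z)) : z = 1 := by
  apply hfaith
  obtain ⟨a, ha⟩ := isConj_iff.mp h
  have h1 : (ζ : G → ℂ) (w * z) = (ζ : G → ℂ) w := by
    rw [← ha]
    exact Cfsg.Agent.Lib.Helper24.irr_conj ζ w a
  rw [Cfsg.Agent.Lib.Helper23.BRVIZC.apply_mul_central ζ z hz w] at h1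
  have h0 := Cfsg.Agent.Lib.Helper24.irr_apply_one_ne_zero ζ
  have h2 : (ζ : G → ℂ) z / (ζ : G → ℂ) 1 = 1 := by
    have := mul_right_cancel₀ hζw (h1.trans (one_mul _).symm)
    exact this
  rw [div_eq_one_iff_eq h0] at h2
  exact h2

/-- BS-COUNT (K1) : products of two conjugates of `w` in `(P \ 1) Z`. -/
theorem count_pairs (hp2 : p ≠ 2) (P : Subgroup G) (hP : Nat.card P = p) (hSyl : ¬ p ∣ P.index)
    (hnn : ¬ P.Normal) (hV : ∀ y ∈ Cz P, ¬ p ∣ orderOf y → y ∈ Subgroup.center G)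
    (w : G) (hwinv : ∀ x ∈ P, w * x * w⁻¹ = x⁻¹) (hw2 : w * w ∈ Subgroup.center G)
    (hNC : ∀ n ∈ Nz P, n ∈ Cz P ∨ w⁻¹ * n ∈ Cz P)
    (ζ : IrrCharacter G) (hfaith : ∀ g : G, (ζ : G → ℂ) g = (ζ : G → ℂ) 1 → g = 1)
    (hζw : (ζ : G → ℂ) w ≠ 0) :
    ∀ a b z : G, z ∈ Subgroup.center G → ∀ x ∈ P, x ≠ 1 →
      a * w * a⁻¹ * (b * w * b⁻¹) = x * z → z = w * w := by
  intro a b z hz x hx hx1 hprod
  have hpp : p.Prime := Fact.out
  have hodd : Odd p := hpp.odd_of_ne_two hp2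
  have hZreg := Cfsg.Agent.Lib.Helper15.BRVIZREG.center_regular P hP hSyl hnn
  have hC : ∀ c ∈ BRQPAIR.Cz' P, ∃ x ∈ P, ∃ z ∈ Subgroup.center G, c = x * z := by
    intro c hc
    obtain ⟨x', hx', y, hy, hyreg, hcxy⟩ := Cfsg.Agent.Lib.Helper15.BRPCCZ.exists_decomp P hP hSyl hc
    exact ⟨x', hx', y, hV y hy hyreg, hcxy⟩
  have hconj : ∀ z ∈ Subgroup.center G, IsConj w (w * z) → z = 1 :=
    fun z hz h => central_eq_one_of_isConj ζ hfaith w hζw z hz h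
  have h1 : IsConj w (a * w * a⁻¹) := isConj_iff.mpr ⟨a, rfl⟩
  have h2 : IsConj w (b * w * b⁻¹) := isConj_iff.mpr ⟨b, rfl⟩
  exact (BRQPAIR.pair_structure P hP hodd hZreg hC w hwinv hw2 hNC hconj _ _ h1 h2 x hx hx1 z hz hprod).1

end Cfsg.Agent.Lib.Helper17.BSCOUNT
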