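/-
helper17: S4705 market "BS", leaf BS-INVVAL: `|χ(w)| ≤ ⟨χ|_P, 1_P⟩` for `w` inverting `P`, with equality if the multiplicity is one.
-/
import Mathlib
import Cfsg.Prelude.Def_BlockRank
import Cfsg.Agent.Lib.Helper6.BRHDefs
import Cfsg.Agent.Lib.Helper6.BSDefs
import Cfsg.Agent.Lib.Helper23.BRVIDefs
import Cfsg.Agent.Lib.Lead.CharBasic
import Cfsg.Agent.Lib.Helper24.IrrFacts
import Cfsg.Agent.Lib.Helper17.BRQPAIR

set_option autoImplicit false

namespace Cfsg.Agent.Lib.Helper17.BSINVVAL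

open Cfsg Cfsg.Agent.Lib.Helper8.DOM Cfsg.Agent.Lib.Helper27.DO Cfsg.Agent.CharLib
open Cfsg.Agent.Lib.Helper6.BRH Cfsg.Agent.Lib.Helper23.BRVI Cfsg.Agent.Lib.Helper6.BS
open Module
open scoped ComplexConjugate

universe u

variable {G : Type u} [Group G] [Finite G] {p : ℕ} [Fact p.Prime] {M : Ideal AlgInt}

/-- representation level: `tr ρ(w)` is a sum of `dim V^P` complex numbers of norm one. -/
theorem char_eq_sum_units {V : Type*} [AddCommGroup V] [Module ℂ V]
    [FiniteDimensional ℂ V] (ρ : Representation ℂ G V) (P : Subgroup G) (w : G)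
    (hwn : ∀ x ∈ P, w⁻¹ * x * w ∈ P) (hconj : ∀ x ∈ P, IsConj w (w * x)) :
    ∃ (ι : Type) (_ : Fintype ι) (μ : ι → ℂ),
      Fintype.card ι = finrank ℂ (Representation.invariants (MonoidHom.comp ρ P.subtype)) ∧
      (∀ i, ‖μ i‖ = 1) ∧ ρ.character w = ∑ i, μ i := by
  classical
  let σ : Representation ℂ P V := MonoidHom.comp ρ P.subtype
  have hσ : ∀ (x : P) (v : V), σ x v = ρ (x : G) v := fun x v => rfl
  let _ : Fintype P := Fintype.ofFinite P
  have hcardne : (Fintype.card P : ℂ) ≠ 0 := by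
    have : 0 < Fintype.card P := Fintype.card_pos
    exact_mod_cast this.ne'
  let _ : Invertible (Fintype.card P : ℂ) := invertibleOfNonzero hcardne
  set W := Representation.invariants σ with hWdef
  have hW : ∀ u ∈ W, ρ w u ∈ W := by
    intro u hu y
    have hy : w⁻¹ * (y : G) * w ∈ P := hwn _ y.2
    have h1 : σ ⟨w⁻¹ * (y : G) * w, hy⟩ u = u := hu _
    rw [hσ] at h1
    rw [hσ]
    calc ρ (y : G) (ρ w u) = ρ ((y : G) * w) u := by rw [map_mul]; rfl
      _ = ρ (w * (w⁻¹ * (y : G) * w)) u := by congr 2; group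
      _ = ρ w (ρ (w⁻¹ * (y : G) * w) u) := by rw [map_mul]; rfl
      _ = ρ w u := by rw [h1]
  set avg := Representation.averageMap σ with havg
  have havg_mem : ∀ v, avg v ∈ W := Representation.averageMap_invariant σ
  have havg_id : ∀ v ∈ W, avg v = v := Representation.averageMap_id σ
  set f : V →ₗ[ℂ] V := ρ w ∘ₗ avg with hf
  have hfmem : ∀ v, f v ∈ W := fun v => hW _ (havg_mem v)
  have havg_eq : avg = (Fintype.card P : ℂ)⁻¹ • ∑ x : P, σ x := by
    rw [havg]
    simp [Representation.averageMap, GroupAlgebra.average, map_sum, invOf_eq_inv]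
  have htr : LinearMap.trace ℂ V f = ρ.character w := by
    have hf' : f = ρ w * avg := rfl
    rw [hf', havg_eq, mul_smul_comm, Finset.mul_sum, map_smul, map_sum]
    have h2 : ∀ x : P, LinearMap.trace ℂ V (ρ w * σ x) = ρ.character w := by
      intro x
      have h3 : ρ w * σ x = ρ (w * (x : G)) := by rw [map_mul]; rfl
      rw [h3]
      obtain ⟨a, ha⟩ := isConj_iff.mp (hconj _ x.2)
      show ρ.character (w * (x : G)) = ρ.character w
      rw [← ha, Representation.char_conj]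
    rw [Finset.sum_congr rfl (fun x _ => h2 x), Finset.sum_const, Finset.card_univ, nsmul_eq_mul, smul_eq_mul,
      ← mul_assoc, inv_mul_cancel₀ hcardne, one_mul]
  have hres := LinearMap.trace_restrict_eq_of_forall_mem W f hfmem
  have hfr : f.restrict (fun x _ => hfmem x) = (ρ w).restrict hW := by
    ext u
    simp only [LinearMap.coe_restrict_apply]
    show ρ w (avg (u : V)) = ρ w (u : V)
    rw [havg_id _ u.2]
  rw [hfr, htr] at hres
  set T : End ℂ W := (ρ w).restrict hW with hT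
  have hTk : T ^ (orderOf w) = 1 := by
    rw [hT, Module.End.pow_restrict]
    ext u
    simp only [LinearMap.coe_restrict_apply]
    rw [rep_pow_orderOf ρ w]
    rfl
  obtain ⟨ι, hι, b, μ, h1, h2⟩ := exists_eigenbasis_of_pow_eq_one T (orderOf w) (orderOf_pos w) hTk
  refine ⟨ι, hι, μ, ?_, ?_, ?_⟩
  · exact (Module.finrank_eq_card_basis b).symm
  · intro i
    exact Complex.norm_eq_one_of_pow_eq_one (h1 i) (orderOf_pos w).ne'
  · rw [← hres, trace_eq_sum_of_eigenbasis b T μ h2]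

/-- BS-INVVAL : `|χ(w)| ≤ ⟨χ|_P, 1_P⟩` for an element `w` inverting `P`. -/
theorem invol_val (hp2 : p ≠ 2) (P : Subgroup G) (hP : Nat.card P = p) (w : G)
    (hw : ∀ x ∈ P, w * x * w⁻¹ = x⁻¹) (χ : IrrCharacter G) :
    ∃ k : ℕ, ∑ᶠ x ∈ (P : Set G), (χ : G → ℂ) x = (p : ℂ) * (k : ℂ) ∧ ‖(χ : G → ℂ) w‖ ≤ (k : ℝ) ∧
      (k = 1 → ‖(χ : G → ℂ) w‖ = 1) := by
  classical
  have hpp : p.Prime := Fact.out
  have hodd : Odd p := hpp.odd_of_ne_two hp2
  have hwn : ∀ x ∈ P, w⁻¹ * x * w ∈ P := by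
    intro x hx
    have h1 : w * x⁻¹ * w⁻¹ = x := by
      have := hw x⁻¹ (P.inv_mem hx)
      rwa [inv_inv] at this
    have : w⁻¹ * x * w = x⁻¹ := by
      calc w⁻¹ * x * w = w⁻¹ * (w * x⁻¹ * w⁻¹) * w := by rw [h1]
        _ = x⁻¹ := by group
    rw [this]
    exact P.inv_mem hx
  have hconj : ∀ x ∈ P, IsConj w (w * x) := fun x hx => BRQPAIR.isConj_mul_of_mem P hP hodd w hw x hx
  obtain ⟨χf, n, ρ, hirr, rfl⟩ := χ
  let σ : Representation ℂ P (Fin n → ℂ) := MonoidHom.comp ρ P.subtype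
  let _ : Fintype P := Fintype.ofFinite P
  have hne : (Nat.card P : ℂ) ≠ 0 := by
    have : 0 < Nat.card P := Nat.card_pos
    exact_mod_cast this.ne'
  have hinv : Invertible (Nat.card P : ℂ) := invertibleOfNonzero hne
  have h := Representation.card_inv_mul_sum_char_eq_finrank σ
  obtain ⟨ι, hι, μ, hcard, hμ, hsum⟩ := char_eq_sum_units ρ P w hwn hconj
  refine ⟨finrank ℂ (Representation.invariants σ), ?_, ?_, ?_⟩
  · rw [← h, ← hP, ← mul_assoc, mul_inv_cancel₀ hne, one_mul]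
    rw [← finsum_set_coe_eq_finsum_mem (P : Set G), finsum_eq_sum_of_fintype]
    rfl
  · show ‖ρ.character w‖ ≤ _
    rw [hsum, ← hcard]
    calc ‖∑ i, μ i‖ ≤ ∑ i, ‖μ i‖ := norm_sum_le _ _
      _ = ∑ _i : ι, (1:ℝ) := Finset.sum_congr rfl (fun i _ => hμ i)
      _ = (Fintype.card ι : ℝ) := by simp
  · intro hk
    show ‖ρ.character w‖ = 1
    rw [hsum]
    have hc1 : Fintype.card ι = 1 := hcard.trans hk
    obtain ⟨i0, hi0⟩ := Fintype.card_eq_one_iff.mp hc1
    have : ∑ i, μ i = μ i0 := by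
      rw [Finset.sum_eq_single i0]
      · intro i _ hi
        exact absurd (hi0 i) hi
      · intro h
        exact absurd (Finset.mem_univ _) h
    rw [this, hμ i0]

end Cfsg.Agent.Lib.Helper17.BSINVVAL
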