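/-
helper17: S4705 market "BS", the (K5) segment of the spine: once `χb` is linear, `ζ' = conj χb · ζ` is an irreducible
character of degree `p - 2` trivial on the centre; it lies in the principal block, in its exceptional part; hence
`ε₀ = v = -1`, `χ₁(1) = p - 1`, and `ker χ₁ ≤ Z(G)`.
-/
import Mathlib
import Cfsg.Prelude.Def_BlockRank
import Cfsg.Agent.Lib.Helper6.BRHDefs
import Cfsg.Agent.Lib.Helper6.BSDefs
import Cfsg.Agent.Lib.Helper23.BRVIDefs
import Cfsg.Agent.Lib.Helper6.AbelianQuot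
import Cfsg.Agent.Lib.Helper6.CharNorm
import Cfsg.Agent.Lib.Helper6.BRCTools
import Cfsg.Agent.Lib.Lead.CharDecomp
import Cfsg.Agent.Lib.Helper24.IrrFacts
import Cfsg.Agent.Lib.Helper16.BREZCHAR
import Cfsg.Agent.Lib.Helper1.BSPSUM

set_option autoImplicit false
set_option linter.unusedSectionVars false

namespace Cfsg.Agent.Lib.Helper17.BSK5

open Cfsg Cfsg.Agent.Lib.Helper8.DOM Cfsg.Agent.Lib.Helper27.DO Cfsg.Agent.CharLib
open Cfsg.Agent.Lib.Helper6.BRH Cfsg.Agent.Lib.Helper23.BRVI Cfsg.Agent.Lib.Helper6.BS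
open scoped ComplexConjugate

universe u

variable {G : Type u} [Group G] [Finite G] {p : ℕ} [Fact p.Prime] {M : Ideal AlgInt}

theorem triv_apply_k5 (g : G) : ((trivIrr G : IrrCharacter G) : G → ℂ) g = 1 := rfl

/-- the twist of an irreducible character by the conjugate of a linear one -/
theorem exists_twist (μ ζ : IrrCharacter G) (hμ1 : (μ : G → ℂ) 1 = 1) :
    ∃ ζ' : IrrCharacter G, ∀ g : G, (ζ' : G → ℂ) g = conj ((μ : G → ℂ) g) * (ζ : G → ℂ) g := by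
  classical
  let _ : Fintype G := Fintype.ofFinite G
  have hμc : IsCharacter G (μ : G → ℂ) := IsIrrCharacter.isCharacter μ.2
  have hlam : IsCharacter G (fun g => conj ((μ : G → ℂ) g)) := IsCharacter.conj hμc
  have hlam1 : (fun g => conj ((μ : G → ℂ) g)) 1 = 1 := by
    show conj ((μ : G → ℂ) 1) = 1
    rw [hμ1, map_one]
  have hirr := Cfsg.Agent.Lib.Helper6.isIrrCharacter_linear_mul hlam hlam1 ζ.2
  exact ⟨⟨_, hirr⟩, fun g => rfl⟩

/-- the sum of an irreducible character over `P` is a multiple of `p` (finsum form) -/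
theorem finsum_P_eq (P : Subgroup G) (hP : Nat.card P = p) (χ : IrrCharacter G) :
    ∃ m : ℕ, ∑ᶠ x ∈ (P : Set G), (χ : G → ℂ) x = (p : ℂ) * (m : ℂ) := by
  classical
  let _ : Fintype P := Fintype.ofFinite P
  obtain ⟨m, hm⟩ := Cfsg.Agent.Lib.Helper24.irr_sum_subgroup χ P
  refine ⟨m, ?_⟩
  rw [← hP, ← hm, ← finsum_set_coe_eq_finsum_mem (P : Set G), finsum_eq_sum_of_fintype]
  rfl

/-- **(K5)** -/
theorem k5 (hp7 : 7 ≤ p) (P : Subgroup G) (hP : Nat.card P = p)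
    (χb χa : IrrCharacter G) (Y : Set (IrrCharacter G)) (dζ : TwoBlock p P χb χa 1 (-1) Y (-1))
    (ζ : IrrCharacter G) (hζY : ζ ∈ Y) (hdeg : charDegree (ζ : G → ℂ) = p - 2)
    (hfaith : ∀ g : G, (ζ : G → ℂ) g = (ζ : G → ℂ) 1 → g = 1)
    (hb1 : (χb : G → ℂ) 1 = 1) (hbc : χb ∈ cset ζ)
    (χ₁ : IrrCharacter G) (v : ℤ) (Y0 : Set (IrrCharacter G)) (ε0 : ℤ)
    (d0 : TwoBlock p P (trivIrr G) χ₁ 1 v Y0 ε0)
    (hsing : ∀ g : G, p ∣ orderOf g → (χ₁ : G → ℂ) g = (v : ℂ))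
    (hrest0 : ∀ χ ∈ cset (trivIrr G), χ ≠ trivIrr G → χ ≠ χ₁ → χ ∉ Y0 →
      ∀ x ∈ P, x ≠ 1 → (χ : G → ℂ) x = 0) :
    v = -1 ∧ (χ₁ : G → ℂ) 1 = (p : ℂ) - 1 ∧
      (∀ g : G, (χ₁ : G → ℂ) g = (χ₁ : G → ℂ) 1 → g ∈ Subgroup.center G) := by
  classical
  have hpp : p.Prime := Fact.out
  have hp2 : 2 ≤ p := by omega
  have hpC : ((p - 2 : ℕ) : ℂ) = (p : ℂ) - 2 := by
    rw [Nat.cast_sub hp2]; norm_num
  have hζ1 : (ζ : G → ℂ) 1 = (p : ℂ) - 2 := by
    rw [Cfsg.Agent.Lib.Helper24.irr_apply_one ζ, hdeg, hpC]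
  have hμc : IsCharacter G (χb : G → ℂ) := IsIrrCharacter.isCharacter χb.2
  have hμn : ∀ g : G, (χb : G → ℂ) g * conj ((χb : G → ℂ) g) = 1 :=
    fun g => Cfsg.Agent.Lib.Helper6.IsCharacter.mul_conj_eq_one_of_apply_one hμc hb1 g
  have hμnorm : ∀ g : G, ‖(χb : G → ℂ) g‖ = 1 :=
    fun g => Cfsg.Agent.Lib.Helper6.IsCharacter.norm_eq_one_of_apply_one hμc hb1 g
  obtain ⟨ζ', hζ'⟩ := exists_twist χb ζ hb1
  have hζ'1 : (ζ' : G → ℂ) 1 = (p : ℂ) - 2 := by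
    rw [hζ', hb1, map_one, one_mul, hζ1]
  -- ζ' is trivial on the centre
  have hζ'c : ζ' ∈ cset (trivIrr G) := by
    intro z hz
    have h1 := hbc z hz
    rw [hb1, mul_one] at h1
    rw [triv_apply_k5, triv_apply_k5, mul_one, one_mul, hζ' z, ← h1, hζ'1, ← hζ1]
    calc conj ((χb : G → ℂ) z) * ((χb : G → ℂ) z * (ζ : G → ℂ) 1)
        = ((χb : G → ℂ) z * conj ((χb : G → ℂ) z)) * (ζ : G → ℂ) 1 := by ring
      _ = (ζ : G → ℂ) 1 := by rw [hμn z, one_mul]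
  -- ζ' = ζ on `P \ 1`
  have hζ'P : ∀ x ∈ P, x ≠ 1 → (ζ' : G → ℂ) x = (ζ : G → ℂ) x := by
    intro x hx hx1
    rw [hζ' x, dζ.val1 x hx hx1]
    simp
  -- the sum over `P`
  have hsumP : ∑ᶠ x ∈ (P : Set G), (ζ' : G → ℂ) x = (p : ℂ) := by
    rw [Cfsg.Agent.Lib.Helper6.BRCTools.finsum_P_split, hζ'1]
    have h2 : ∑ᶠ x ∈ {x : G | x ∈ P ∧ x ≠ 1}, (ζ' : G → ℂ) x =
        ∑ᶠ x ∈ {x : G | x ∈ P ∧ x ≠ 1}, (ζ : G → ℂ) x :=
      finsum_mem_congr rfl (fun x hx => hζ'P x hx.1 hx.2)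
    rw [h2, dζ.psumY ζ hζY]
    push_cast
    ring
  have hp7C : (7 : ℝ) ≤ (p : ℝ) := by exact_mod_cast hp7
  -- ζ' ≠ 1
  have hne1 : ζ' ≠ trivIrr G := by
    intro h
    have h3 : (ζ' : G → ℂ) 1 = 1 := by rw [h, triv_apply_k5]
    rw [hζ'1] at h3
    have h4 : ((p : ℝ) : ℂ) = ((3 : ℝ) : ℂ) := by
      push_cast
      linear_combination h3
    have := Complex.ofReal_injective h4
    linarith
  obtain ⟨hps1, hps2, hpsY⟩ := Cfsg.Agent.Lib.Helper1.BSPSUM.psum_of_twoBlock P hP (trivIrr G) χ₁ 1 v Y0 ε0 d0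
  -- ζ' ≠ χ₁
  have hne2 : ζ' ≠ χ₁ := by
    intro h
    rw [← h, hsumP, hζ'1] at hps2
    -- p = p - 2 + v (p - 1)
    rcases d0.sgn2 with hv | hv
    · rw [hv] at hps2
      have h4 : ((p : ℝ) : ℂ) = ((3 : ℝ) : ℂ) := by
        push_cast
        push_cast at hps2
        linear_combination -hps2
      have := Complex.ofReal_injective h4
      linarith
    · rw [hv] at hps2
      have h4 : ((p : ℝ) : ℂ) = ((-1 : ℝ) : ℂ) := by
        push_cast
        push_cast at hps2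
        linear_combination hps2
      have := Complex.ofReal_injective h4
      linarith
  -- ζ' ∈ Y0
  have hY0 : ζ' ∈ Y0 := by
    by_contra hn
    have hvan := hrest0 ζ' hζ'c hne1 hne2 hn
    have h5 : ∑ᶠ x ∈ (P : Set G), (ζ' : G → ℂ) x = (p : ℂ) - 2 := by
      rw [Cfsg.Agent.Lib.Helper6.BRCTools.finsum_P_split, hζ'1]
      have h6 : ∑ᶠ x ∈ {x : G | x ∈ P ∧ x ≠ 1}, (ζ' : G → ℂ) x =
          ∑ᶠ x ∈ {x : G | x ∈ P ∧ x ≠ 1}, (0 : ℂ) :=
        finsum_mem_congr rfl (fun x hx => hvan x hx.1 hx.2)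
      rw [h6, finsum_mem_zero, add_zero]
    rw [hsumP] at h5
    have h4 : ((0 : ℝ) : ℂ) = ((2 : ℝ) : ℂ) := by
      push_cast
      linear_combination -h5
    have := Complex.ofReal_injective h4
    linarith
  -- ε0 = -1
  have hε0 : ε0 = -1 := by
    rcases d0.sgn with h | h
    · exfalso
      have h7 := hpsY ζ' hY0
      rw [hsumP, hζ'1, h] at h7
      have h4 : ((0 : ℝ) : ℂ) = ((4 : ℝ) : ℂ) := by
        push_cast
        push_cast at h7
        linear_combination -h7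
      have := Complex.ofReal_injective h4
      linarith
    · exact h
  have hp1 : ¬ p ∣ orderOf (1 : G) := by
    rw [orderOf_one]
    intro h
    have := Nat.le_of_dvd one_pos h
    omega
  -- relY at 1
  have hrel1 := d0.relY ζ' hY0 1 hp1
  rw [hε0, hζ'1, triv_apply_k5] at hrel1
  have hχ1nat := Cfsg.Agent.Lib.Helper24.irr_apply_one χ₁
  have hχ1pos := Cfsg.Agent.Lib.Helper24.irr_charDegree_pos χ₁
  have hv : v = -1 := by
    rcases d0.sgn2 with h | h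
    · exfalso
      rw [h, hχ1nat] at hrel1
      have h4 : ((charDegree (χ₁ : G → ℂ) : ℝ) : ℂ) = ((1 - (p : ℝ) : ℝ) : ℂ) := by
        push_cast
        push_cast at hrel1
        linear_combination -hrel1
      have h5 := Complex.ofReal_injective h4
      have h6 : (0 : ℝ) < (charDegree (χ₁ : G → ℂ) : ℝ) := by exact_mod_cast hχ1pos
      linarith
    · exact h
  have hχ1 : (χ₁ : G → ℂ) 1 = (p : ℂ) - 1 := by
    rw [hv] at hrel1
    push_cast at hrel1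
    linear_combination hrel1
  refine ⟨hv, hχ1, ?_⟩
  -- the kernel
  intro g hg
  rw [hχ1] at hg
  have hgreg : ¬ p ∣ orderOf g := by
    intro hdvd
    have h8 := hsing g hdvd
    rw [hg, hv] at h8
    have h4 : ((p : ℝ) : ℂ) = ((0 : ℝ) : ℂ) := by
      push_cast
      push_cast at h8
      linear_combination h8
    have := Complex.ofReal_injective h4
    linarith
  have hrelg := d0.relY ζ' hY0 g hgreg
  rw [hε0, hv, triv_apply_k5, hg, hζ' g] at hrelg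
  have h9 : conj ((χb : G → ℂ) g) * (ζ : G → ℂ) g = (p : ℂ) - 2 := by
    push_cast at hrelg
    linear_combination -hrelg
  apply Cfsg.Agent.Lib.Helper16.BREZCHAR.mem_center_of_norm_eq ζ hfaith g
  have h10 : ‖conj ((χb : G → ℂ) g) * (ζ : G → ℂ) g‖ = ‖(ζ : G → ℂ) g‖ := by
    rw [norm_mul, RCLike.norm_conj, hμnorm g, one_mul]
  rw [← h10, h9, hdeg]
  have h11 : ((p : ℂ) - 2) = (((p : ℝ) - 2 : ℝ) : ℂ) := by push_cast; ring
  rw [h11, Complex.norm_real, Real.norm_eq_abs, abs_of_nonneg (by linarith)]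
  rw [Nat.cast_sub hp2]
  norm_num

end Cfsg.Agent.Lib.Helper17.BSK5
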