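/-
helper17: S4705 market "BS", spine segment (K6a): deflation of `χ₁` to `G ⧸ Z(G)`: an irreducible character of
`G ⧸ Z(G)` of degree `p - 1`, equal to `-1` on the `p`-singular elements, faithful.
-/
import Mathlib
import Cfsg.Prelude.Def_BlockRank
import Cfsg.Agent.Lib.Helper6.BRHDefs
import Cfsg.Agent.Lib.Helper6.BSDefs
import Cfsg.Agent.Lib.Helper23.BRVIDefs
import Cfsg.Agent.Lib.Helper6.QuotBlock

set_option autoImplicit false
set_option linter.unusedSectionVars false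

namespace Cfsg.Agent.Lib.Helper17.BSK6A

open Cfsg Cfsg.Agent.Lib.Helper8.DOM Cfsg.Agent.Lib.Helper27.DO Cfsg.Agent.CharLib
open Cfsg.Agent.Lib.Helper6.BRH Cfsg.Agent.Lib.Helper23.BRVI Cfsg.Agent.Lib.Helper6.BS
open scoped ComplexConjugate

universe u

variable {G : Type u} [Group G] [Finite G] {p : ℕ} [Fact p.Prime] {M : Ideal AlgInt}

/-- **(K6a)** -/
theorem k6a (χ₁ : IrrCharacter G) (v : ℤ) (hv : v = -1) (h1c : χ₁ ∈ cset (trivIrr G))
    (hχ1 : (χ₁ : G → ℂ) 1 = (p : ℂ) - 1)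
    (hsing : ∀ g : G, p ∣ orderOf g → (χ₁ : G → ℂ) g = (v : ℂ))
    (hker : ∀ g : G, (χ₁ : G → ℂ) g = (χ₁ : G → ℂ) 1 → g ∈ Subgroup.center G) :
    ∃ β : IrrCharacter (G ⧸ Subgroup.center G),
      (β : G ⧸ Subgroup.center G → ℂ) 1 = (p : ℂ) - 1 ∧
      (∀ y : G ⧸ Subgroup.center G, p ∣ orderOf y → (β : G ⧸ Subgroup.center G → ℂ) y = -1) ∧
      (∀ y : G ⧸ Subgroup.center G, (β : G ⧸ Subgroup.center G → ℂ) y =
        (β : G ⧸ Subgroup.center G → ℂ) 1 → y = 1) := by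
  have hz : ∀ n ∈ Subgroup.center G, (χ₁ : G → ℂ) n = (χ₁ : G → ℂ) 1 := by
    intro n hn
    have h := h1c n hn
    have e1 : ((trivIrr G : IrrCharacter G) : G → ℂ) 1 = 1 := rfl
    have e2 : ((trivIrr G : IrrCharacter G) : G → ℂ) n = 1 := rfl
    rw [e1, e2, mul_one, one_mul] at h
    exact h
  obtain ⟨β, hβ⟩ := Cfsg.Agent.Lib.Helper6.exists_deflation (Subgroup.center G) χ₁ hz
  have hβ1 : (β : G ⧸ Subgroup.center G → ℂ) 1 = (χ₁ : G → ℂ) 1 := hβ 1
  refine ⟨β, by rw [hβ1, hχ1], ?_, ?_⟩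
  · intro y hy
    induction y using QuotientGroup.induction_on with
    | H g =>
      rw [hβ g]
      have hdvd : orderOf ((g : G ⧸ Subgroup.center G)) ∣ orderOf g :=
        orderOf_map_dvd (QuotientGroup.mk' (Subgroup.center G)) g
      rw [hsing g (hy.trans hdvd), hv]
      norm_num
  · intro y hy
    induction y using QuotientGroup.induction_on with
    | H g =>
      rw [hβ g, hβ1] at hy
      exact (QuotientGroup.eq_one_iff g).mpr (hker g hy)

end Cfsg.Agent.Lib.Helper17.BSK6A
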