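/-
helper17: S4705 market "BS", spine segment (K6b): `|G ⧸ Z(G)| = p (p - 1) (p - 2)` from QUOT + the deflated `χ₁` +
helper26 `T2PMain.card_eq`; the Sylow data of the quotient is returned as well.
-/
import Mathlib
import Cfsg.Prelude.Def_BlockRank
import Cfsg.Agent.Lib.Helper6.BRHDefs
import Cfsg.Agent.Lib.Helper6.BSDefs
import Cfsg.Agent.Lib.Helper23.BRVIDefs
import Cfsg.Agent.Lib.Helper2.BSQUOT
import Cfsg.Agent.Lib.Helper26.T2PMain
import Cfsg.Agent.Lib.Helper17.BSK6A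

set_option autoImplicit false
set_option linter.unusedSectionVars false

namespace Cfsg.Agent.Lib.Helper17.BSK6B

open Cfsg Cfsg.Agent.Lib.Helper8.DOM Cfsg.Agent.Lib.Helper27.DO Cfsg.Agent.CharLib
open Cfsg.Agent.Lib.Helper6.BRH Cfsg.Agent.Lib.Helper23.BRVI Cfsg.Agent.Lib.Helper6.BS
open scoped ComplexConjugate

universe u

variable {G : Type u} [Group G] [Finite G] {p : ℕ} [Fact p.Prime] {M : Ideal AlgInt}

/-- **(K6b)** -/
theorem k6b (hp5 : 5 < p) (P : Sylow p G) (hP : Nat.card (P : Subgroup G) = p)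
    (hnn : ¬ (P : Subgroup G).Normal)
    (hf : (Cz (P : Subgroup G)).relIndex (Nz (P : Subgroup G)) = 2)
    (hV : ∀ y ∈ Cz (P : Subgroup G), ¬ p ∣ orderOf y → y ∈ Subgroup.center G)
    (χ₁ : IrrCharacter G) (v : ℤ) (hv : v = -1) (h1c : χ₁ ∈ cset (trivIrr G))
    (hχ1 : (χ₁ : G → ℂ) 1 = (p : ℂ) - 1)
    (hsing : ∀ g : G, p ∣ orderOf g → (χ₁ : G → ℂ) g = (v : ℂ))
    (hker : ∀ g : G, (χ₁ : G → ℂ) g = (χ₁ : G → ℂ) 1 → g ∈ Subgroup.center G) :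
    Nat.card (G ⧸ Subgroup.center G) = p * (p - 1) * (p - 2) ∧
    ∃ Q : Sylow p (G ⧸ Subgroup.center G), Nat.card (Q : Subgroup (G ⧸ Subgroup.center G)) = p ∧
      (∀ y : G ⧸ Subgroup.center G, y ∈ (Q : Subgroup (G ⧸ Subgroup.center G)) → y ≠ 1 →
        Subgroup.centralizer ({y} : Set (G ⧸ Subgroup.center G)) =
          (Q : Subgroup (G ⧸ Subgroup.center G))) ∧
      Nat.card (Subgroup.normalizer
        ((Q : Subgroup (G ⧸ Subgroup.center G)) : Set (G ⧸ Subgroup.center G))) = 2 * p ∧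
      ¬ (Q : Subgroup (G ⧸ Subgroup.center G)).Normal := by
  have hp2 : p ≠ 2 := by omega
  obtain ⟨Q, hQ, hcent, hN, hQnn⟩ := Cfsg.Agent.Lib.Helper2.BSQUOT.quot_data hp2 P hP hnn hf hV
  obtain ⟨β, hβ1, hβs, hβf⟩ := BSK6A.k6a χ₁ v hv h1c hχ1 hsing hker
  refine ⟨?_, Q, hQ, hcent, hN, hQnn⟩
  exact Cfsg.Agent.Lib.Helper26.T2PMain.card_eq (by omega) Q hQ hcent hN β hβ1 hβs hβf

end Cfsg.Agent.Lib.Helper17.BSK6B
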