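/-
helper17: S4705 market "BS", spine segment (K6c): the input `hlin` of BS-PERF (every linear character trivial on the centre
is trivial) and the input `hμZ` of BS-SPLIT (`μ = χb` is faithful on the centre).
-/
import Mathlib
import Cfsg.Prelude.Def_BlockRank
import Cfsg.Agent.Lib.Helper6.BRHDefs
import Cfsg.Agent.Lib.Helper6.BSDefs
import Cfsg.Agent.Lib.Helper23.BRVIDefs
import Cfsg.Agent.Lib.Helper6.CharNorm
import Cfsg.Agent.Lib.Helper24.IrrFacts

set_option autoImplicit false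
set_option linter.unusedSectionVars false

namespace Cfsg.Agent.Lib.Helper17.BSK6C

open Cfsg Cfsg.Agent.Lib.Helper8.DOM Cfsg.Agent.Lib.Helper27.DO Cfsg.Agent.CharLib
open Cfsg.Agent.Lib.Helper6.BRH Cfsg.Agent.Lib.Helper23.BRVI Cfsg.Agent.Lib.Helper6.BS
open scoped ComplexConjugate

universe u

variable {G : Type u} [Group G] [Finite G] {p : ℕ} [Fact p.Prime] {M : Ideal AlgInt}

/-- **(K6c)** the input of BS-PERF -/
theorem hlin_of (hp7 : 7 ≤ p) (P : Subgroup G) (hP : Nat.card P = p)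
    (χ₁ : IrrCharacter G) (v : ℤ) (Y0 : Set (IrrCharacter G)) (ε0 : ℤ)
    (d0 : TwoBlock p P (trivIrr G) χ₁ 1 v Y0 ε0) (hv : v = -1)
    (hχ1 : (χ₁ : G → ℂ) 1 = (p : ℂ) - 1)
    (hrest0 : ∀ χ ∈ cset (trivIrr G), χ ≠ trivIrr G → χ ≠ χ₁ → χ ∉ Y0 →
      ∀ x ∈ P, x ≠ 1 → (χ : G → ℂ) x = 0) :
    ∀ lam : IrrCharacter G, (lam : G → ℂ) 1 = 1 → lam ∈ cset (trivIrr G) → lam = trivIrr G := by
  intro lam hlam1 hlamc
  by_contra hne
  have hp7R : (7 : ℝ) ≤ (p : ℝ) := by exact_mod_cast hp7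
  have hne2 : lam ≠ χ₁ := by
    intro h
    rw [h, hχ1] at hlam1
    have h4 : ((p : ℝ) : ℂ) = ((2 : ℝ) : ℂ) := by
      push_cast
      linear_combination hlam1
    have := Complex.ofReal_injective h4
    linarith
  have hp1 : ¬ p ∣ orderOf (1 : G) := by
    rw [orderOf_one]
    intro h
    have := Nat.le_of_dvd one_pos h
    omega
  have hnY : lam ∉ Y0 := by
    intro hY
    have hrel := d0.relY lam hY 1 hp1
    have e1 : ((trivIrr G : IrrCharacter G) : G → ℂ) 1 = 1 := rfl
    rw [hlam1, e1, hχ1, hv] at hrel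
    rcases d0.sgn with h | h
    · rw [h] at hrel
      have h4 : ((p : ℝ) : ℂ) = ((1 : ℝ) : ℂ) := by
        push_cast
        push_cast at hrel
        linear_combination hrel
      have := Complex.ofReal_injective h4
      linarith
    · rw [h] at hrel
      have h4 : ((p : ℝ) : ℂ) = ((3 : ℝ) : ℂ) := by
        push_cast
        push_cast at hrel
        linear_combination hrel
      have := Complex.ofReal_injective h4
      linarith
  have hvan := hrest0 lam hlamc hne hne2 hnY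
  -- a non-identity element of `P`
  have hex : ∃ x ∈ P, x ≠ 1 := by
    by_contra hcon
    push Not at hcon
    have hbot : P = ⊥ := (Subgroup.eq_bot_iff_forall P).mpr hcon
    rw [hbot, Subgroup.card_bot] at hP
    omega
  obtain ⟨x, hx, hx1⟩ := hex
  have h0 := hvan x hx hx1
  have hn := Cfsg.Agent.Lib.Helper6.IsCharacter.norm_eq_one_of_apply_one
    (IsIrrCharacter.isCharacter lam.2) hlam1 x
  rw [h0, norm_zero] at hn
  exact zero_ne_one hn

/-- the input of BS-SPLIT: `μ` is faithful on the centre -/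
theorem hμZ_of (μ ζ : IrrCharacter G) (hμ1 : (μ : G → ℂ) 1 = 1) (hμc : μ ∈ cset ζ)
    (hfaith : ∀ g : G, (ζ : G → ℂ) g = (ζ : G → ℂ) 1 → g = 1) :
    ∀ z ∈ Subgroup.center G, (μ : G → ℂ) z = 1 → z = 1 := by
  intro z hz hμz
  apply hfaith
  have h := hμc z hz
  rw [hμz, hμ1, one_mul, mul_one] at h
  exact h.symm

end Cfsg.Agent.Lib.Helper17.BSK6C
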