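/-
helper17: S4705 market "BS", the END of the spine as one lemma: from the outputs of (K5) to the conclusion of S4705
(`p = 2^a + 1`, `G ≅ SL(2, 2^a) × Z(G)`): K6b (order of `G ⧸ Z`) + PERF + NO2 + S4701 + ORDER + SPLIT.
-/
import Mathlib
import Cfsg.Prelude.Def_BlockRank
import Cfsg.Agent.Lib.Helper6.BRHDefs
import Cfsg.Agent.Lib.Helper6.BSDefs
import Cfsg.Agent.Lib.Helper23.BRVIDefs
import Cfsg.Agent.Lib.Helper17.BSK6B
import Cfsg.Agent.Lib.Helper17.BSK6C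
import Cfsg.Agent.Lib.Helper7.BSPERF
import Cfsg.Agent.Lib.Helper22.BSNO2
import Cfsg.Agent.Lib.Helper22.BSORDER
import Cfsg.Agent.Lib.Helper27.BSSPLIT
import Cfsg.Agent.S4701

set_option autoImplicit false
set_option linter.unusedSectionVars false

namespace Cfsg.Agent.Lib.Helper17.BSK6D

open Cfsg Cfsg.Agent.Lib.Helper8.DOM Cfsg.Agent.Lib.Helper27.DO Cfsg.Agent.CharLib
open Cfsg.Agent.Lib.Helper6.BRH Cfsg.Agent.Lib.Helper23.BRVI Cfsg.Agent.Lib.Helper6.BS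
open scoped ComplexConjugate

universe u

variable {G : Type u} [Group G] [Finite G] {p : ℕ} [Fact p.Prime] {M : Ideal AlgInt}

/-- **the end of S4705** -/
theorem finish (hp5 : 5 < p) (P : Sylow p G) (hP : Nat.card (P : Subgroup G) = p)
    (hnn : ¬ (P : Subgroup G).Normal)
    (hf : (Cz (P : Subgroup G)).relIndex (Nz (P : Subgroup G)) = 2)
    (hV : ∀ y ∈ Cz (P : Subgroup G), ¬ p ∣ orderOf y → y ∈ Subgroup.center G)
    (χ₁ : IrrCharacter G) (v : ℤ) (Y0 : Set (IrrCharacter G)) (ε0 : ℤ)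
    (d0 : TwoBlock p (P : Subgroup G) (trivIrr G) χ₁ 1 v Y0 ε0)
    (hv : v = -1) (h1c : χ₁ ∈ cset (trivIrr G))
    (hχ1 : (χ₁ : G → ℂ) 1 = (p : ℂ) - 1)
    (hsing : ∀ g : G, p ∣ orderOf g → (χ₁ : G → ℂ) g = (v : ℂ))
    (hker : ∀ g : G, (χ₁ : G → ℂ) g = (χ₁ : G → ℂ) 1 → g ∈ Subgroup.center G)
    (hrest0 : ∀ χ ∈ cset (trivIrr G), χ ≠ trivIrr G → χ ≠ χ₁ → χ ∉ Y0 →
      ∀ x ∈ (P : Subgroup G), x ≠ 1 → (χ : G → ℂ) x = 0)
    (μ ζ : IrrCharacter G) (hμ1 : (μ : G → ℂ) 1 = 1) (hμc : μ ∈ cset ζ)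
    (hfaith : ∀ g : G, (ζ : G → ℂ) g = (ζ : G → ℂ) 1 → g = 1) :
    ∃ (a : ℕ) (F : Type) (_ : Field F) (_ : Fintype F), p = 2 ^ a + 1 ∧ Fintype.card F = 2 ^ a ∧
      Nonempty (G ≃* Matrix.SpecialLinearGroup (Fin 2) F × Subgroup.center G) := by
  have hpp : p.Prime := Fact.out
  have hp7 : 7 ≤ p := by
    rcases Nat.lt_or_ge 6 p with h | h
    · exact h
    · exfalso
      have h6 : p = 6 := by omega
      rw [h6] at hpp
      exact absurd hpp (by decide)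
  have hp2 : p ≠ 2 := by omega
  obtain ⟨hcard, Q, hQ, hcent, hN, hQnn⟩ :=
    BSK6B.k6b hp5 P hP hnn hf hV χ₁ v hv h1c hχ1 hsing hker
  have hlin := BSK6C.hlin_of hp7 (P : Subgroup G) hP χ₁ v Y0 ε0 d0 hv hχ1 hrest0
  have hperf := Cfsg.Agent.Lib.Helper7.BSPERF.quot_perfect hlin
  have hno2 := Cfsg.Agent.Lib.Helper22.BSNO2.no_normal_two hp2 Q hQ hcent
  have hdvd : p ∣ Nat.card (G ⧸ Subgroup.center G) := by
    rw [hcard]
    exact ⟨(p - 1) * (p - 2), by rw [mul_assoc]⟩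
  have hbig : Nat.card (G ⧸ Subgroup.center G) < p ^ 3 := by
    rw [hcard]
    have h1 : p - 1 < p := by omega
    have h2 : p - 2 < p := by omega
    calc p * (p - 1) * (p - 2) < p * p * p := by
          apply Nat.mul_lt_mul_of_le_of_lt _ h2 (by positivity)
          exact Nat.mul_le_mul_left p h1.le
      _ = p ^ 3 := by ring
  rcases Cfsg.Agent.S4701.result hperf p hdvd hbig Q hQnn hno2 with
    ⟨F, hF1, hF2, hFcard, -, ⟨e⟩⟩ | ⟨m, F, hF1, hF2, hFcard, hpm, -, ⟨e⟩⟩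
  · exfalso
    exact @Cfsg.Agent.Lib.Helper22.BSORDER.not_psl p _ (G ⧸ Subgroup.center G) _ _ hp5 F hF1 hF2 hFcard e hcard
  · obtain ⟨s⟩ := Cfsg.Agent.Lib.Helper27.BSSPLIT.split_center μ hμ1
      (BSK6C.hμZ_of μ ζ hμ1 hμc hfaith) hperf
    exact ⟨m, F, hF1, hF2, hpm, hFcard, ⟨s.trans (MulEquiv.prodCongr e (MulEquiv.refl _))⟩⟩

end Cfsg.Agent.Lib.Helper17.BSK6D
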