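import Mathlib
import Cfsg.Prelude.Def_Characters
import Cfsg.Agent.Lib.Helper24.BSWDefs
import Cfsg.Agent.Lib.Helper15.BSWM1
import Cfsg.Agent.Lib.Helper15.BSWM2
import Cfsg.Agent.Lib.Helper21.BSWM345X
import Cfsg.Agent.Lib.Helper19.BSWM6X
import Cfsg.Agent.Lib.Helper19.BSWM7
import Cfsg.Agent.Lib.Helper19.BSWM9X
import Cfsg.Agent.Lib.Helper2.BSWG1
import Cfsg.Agent.Lib.Helper2.BSWG3
import Cfsg.Agent.Lib.Helper12.BSWB8
import Cfsg.Agent.Lib.Helper14.BSWB0a

/-!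
# S3282 leaf M10 (helper17): `concl_of_dataM`, the conclusion in case M

`y ∈ R0`, `Q = C(y)` of order `q = 2k-1`; `e ∈ N(Q) \ Q` with `C(e) ≤ N(Q)` (M9), real, `D = C(e)` of
order `k-1`; `Q ⊓ D = ⊥`, `N(Q) = Q ⊔ D` by orders; the last clause is M2.
-/

set_option autoImplicit false
open Cfsg Cfsg.Agent.Lib.Helper24.BSW

namespace Cfsg.Agent.Lib.Helper17.BSWM10

variable {G : Type*} [Group G] [Finite G]

/-- **M10** the conclusion in case M. -/
theorem concl_of_dataM {t s : G} {K : Subgroup G} (h : Hyp t s K) (hk : 4 ≤ Nat.card K)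
    {X : G → ℂ} (hM : DataM K X) : Concl G := by
  classical
  -- some `y ∈ R0`
  have hpos : 0 < Nat.card {y : G // y ∈ RR K ∧ X y = 0} := by
    rw [hM.card0]
    have : 0 < Nat.card K - 1 := by omega
    positivity
  obtain ⟨⟨y, hyRR, hXy⟩⟩ := (Nat.card_pos_iff.mp hpos).1
  have hM3 := Cfsg.Agent.Lib.Helper21.BSWM345X.centralizer_dvd h hk hM y hyRR hXy
  have hM4 := Cfsg.Agent.Lib.Helper21.BSWM345X.centralizer_card h hk hM y hyRR hXy
  have hM6 := Cfsg.Agent.Lib.Helper19.BSWM6X.centralizer_eq_of_mem_R0 h hk hM y hyRR hXy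
  have hM7 := Cfsg.Agent.Lib.Helper19.BSWM7.card_normalizer_Q h hk hM y hyRR hXy
  have hM8 := Cfsg.Agent.Lib.Helper19.BSWM9X.normalizer_Q_elements h hk hM y hyRR hXy
  obtain ⟨e, heN, heQ, hCeN⟩ :=
    Cfsg.Agent.Lib.Helper19.BSWM9X.exists_D_le_normalizer h hk hM y hyRR hXy
  obtain ⟨heRR, hXe⟩ := hM8 e heN heQ
  -- `e` is real
  have hinve : invCount e = Nat.card K - 1 := by
    rcases hM.onRR e heRR with ⟨h0, _⟩ | ⟨_, h1⟩
    · rw [hXe] at h0
      exact absurd h0 one_ne_zero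
    · exact h1
  have hinve0 : invCount e ≠ 0 := by rw [hinve]; omega
  obtain ⟨u, hu2, hue⟩ := (Cfsg.Agent.Lib.Helper14.BSWB0a.invCount_ne_zero_iff e).mp hinve0
  obtain ⟨hDcard, _⟩ := Cfsg.Agent.Lib.Helper15.BSWM1.normalizer_D h hk hM e heRR u hu2 hue
  have hM2 := Cfsg.Agent.Lib.Helper15.BSWM2.last_clause_D h hk hM e heRR u hu2 hue
  have hG1 := Cfsg.Agent.Lib.Helper2.BSWG1.inverts_centralizer h e heRR u hu2 hue
  obtain ⟨hDab, _⟩ := Cfsg.Agent.Lib.Helper2.BSWG3.centralizer_eq_of_mem h e heRR u hu2 hue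
  obtain ⟨_, hB8⟩ := Cfsg.Agent.Lib.Helper12.BSWB8.RR_centralizer h e heRR
  -- `Q ⊓ D = ⊥`
  have hQD : Subgroup.centralizer ({y} : Set G) ⊓ Subgroup.centralizer ({e} : Set G) = ⊥ := by
    rw [eq_bot_iff]
    intro z hz
    rw [Subgroup.mem_bot]
    by_contra hz1
    have hXz : X z = 0 := hM3.1 z hz.1 hz1
    have hzRR : z ∈ RR K := hB8 z hz.2 hz1
    have hzinv : invCount z ≠ 0 :=
      (Cfsg.Agent.Lib.Helper14.BSWB0a.invCount_ne_zero_iff z).mpr ⟨u, hu2, hG1 z hz.2⟩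
    rcases hM.onRR z hzRR with ⟨_, h0⟩ | ⟨h1, _⟩
    · exact hzinv h0
    · rw [hXz] at h1
      exact zero_ne_one h1
  obtain ⟨m, hm⟩ : ∃ m, Nat.card K = m + 1 := ⟨Nat.card K - 1, by omega⟩
  refine ⟨Subgroup.centralizer ({y} : Set G), Subgroup.centralizer ({e} : Set G), ?_, ?_, ?_, ?_,
    hQD, ?_, hM2⟩
  · rw [hM4.1, hM.card, hm]
    have h1 : 2 * (m + 1) - 1 = 2 * m + 1 := by omega
    have h2 : 2 * (m + 1) - 2 = 2 * m := by omega
    have h3 : 2 * m + 1 - 1 = 2 * m := by omega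
    rw [h1, h2, h3]
    ring
  · intro x hx hx1
    exact hM6 x hx hx1
  · exact ⟨⟨fun a b => Subtype.ext (hDab a a.2 b b.2)⟩⟩
  · rw [hDcard, hM4.1]
    omega
  · -- `N(Q) = Q ⊔ D` by orders
    symm
    apply Subgroup.eq_of_le_of_card_ge
    · exact sup_le Subgroup.le_normalizer hCeN
    · rw [hM7]
      have hd1 : Nat.card (Subgroup.centralizer ({y} : Set G)) ∣
          Nat.card ↥(Subgroup.centralizer ({y} : Set G) ⊔ Subgroup.centralizer ({e} : Set G)) :=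
        Subgroup.card_dvd_of_le le_sup_left
      have hd2 : Nat.card (Subgroup.centralizer ({e} : Set G)) ∣
          Nat.card ↥(Subgroup.centralizer ({y} : Set G) ⊔ Subgroup.centralizer ({e} : Set G)) :=
        Subgroup.card_dvd_of_le le_sup_right
      rw [hM4.1] at hd1
      rw [hDcard] at hd2
      have hcop : Nat.Coprime (2 * Nat.card K - 1) (Nat.card K - 1) := by
        rw [hm]
        have h1 : 2 * (m + 1) - 1 = 2 * m + 1 := by omega
        have h2 : m + 1 - 1 = m := by omega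
        rw [h1, h2]
        have : 2 * m + 1 = 1 + 2 * m := by ring
        rw [this, Nat.coprime_add_mul_right_left]
        exact Nat.coprime_one_left m
      have hdvd := Nat.Coprime.mul_dvd_of_dvd_of_dvd hcop hd1 hd2
      exact Nat.le_of_dvd Nat.card_pos hdvd

end Cfsg.Agent.Lib.Helper17.BSWM10
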