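import Mathlib
import Cfsg.Agent.Lib.Helper26.CSDDefs

/-!
S4257 market (planner helper26), package SPEC (helper17): `Spec.conj`, `Spec.dvd_ind`.
-/

set_option autoImplicit false

namespace Cfsg.Agent.Lib.Helper17.CSD

open Cfsg.Agent.Lib.Helper17.ClassGraph Cfsg.Agent.Lib.Helper26.CSD
open scoped commutatorElement

variable {G : Type*} [Group G]

theorem Spec.conj {u : ℕ} {z : G} (h : Spec u z) (c : G) : Spec u (c * z * c⁻¹) := by
  obtain ⟨hu, ⟨j, hj⟩, hcomm⟩ := h
  refine ⟨hu, ⟨j, ?_⟩, ?_⟩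
  · have := (MulAut.conj c).orderOf_eq z
    rw [MulAut.conj_apply] at this
    rw [this, hj]
  · intro g
    have h1 := hcomm (c⁻¹ * g * c)
    have h2 : Commute (c * z * c⁻¹) (c * ((c⁻¹ * g * c) * z * (c⁻¹ * g * c)⁻¹) * c⁻¹) := by
      have e1 : c * z * c⁻¹ * (c * ((c⁻¹ * g * c) * z * (c⁻¹ * g * c)⁻¹) * c⁻¹) =
          c * (z * ((c⁻¹ * g * c) * z * (c⁻¹ * g * c)⁻¹)) * c⁻¹ := by group
      have e2 : c * ((c⁻¹ * g * c) * z * (c⁻¹ * g * c)⁻¹) * c⁻¹ * (c * z * c⁻¹) =
          c * (((c⁻¹ * g * c) * z * (c⁻¹ * g * c)⁻¹) * z) * c⁻¹ := by group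
      change _ = _
      rw [e1, e2, h1.eq]
    have e3 : c * ((c⁻¹ * g * c) * z * (c⁻¹ * g * c)⁻¹) * c⁻¹ = g * (c * z * c⁻¹) * g⁻¹ := by group
    rw [e3] at h2
    exact h2

/-- the normal closure of a special element is a `u`-group -/
theorem Spec.isPGroup_normalClosure {u : ℕ} {z : G} (h : Spec u z) :
    IsPGroup u (Subgroup.normalClosure ({z} : Set G)) := by
  obtain ⟨hu, ⟨j, hj⟩, hcomm⟩ := h
  -- the generating set
  have hgen : Subgroup.normalClosure ({z} : Set G) =
      Subgroup.closure (Group.conjugatesOfSet ({z} : Set G)) := rfl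
  have hS : ∀ s ∈ Group.conjugatesOfSet ({z} : Set G), ∃ g : G, s = g * z * g⁻¹ := by
    intro s hs
    rw [Group.conjugatesOfSet, Set.mem_iUnion₂] at hs
    obtain ⟨a, ha, hs⟩ := hs
    rw [Set.mem_singleton_iff] at ha
    rw [ha] at hs
    have hs' : IsConj z s := hs
    rw [isConj_iff] at hs'
    obtain ⟨g, hg⟩ := hs'
    exact ⟨g, hg.symm⟩
  -- conjugates commute pairwise
  have hSS : ∀ s ∈ Group.conjugatesOfSet ({z} : Set G), ∀ t ∈ Group.conjugatesOfSet ({z} : Set G),
      Commute s t := by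
    intro s hs t ht
    obtain ⟨a, rfl⟩ := hS s hs
    obtain ⟨b, rfl⟩ := hS t ht
    have h1 := hcomm (a⁻¹ * b)
    have e1 : a * z * a⁻¹ * (b * z * b⁻¹) = a * (z * ((a⁻¹ * b) * z * (a⁻¹ * b)⁻¹)) * a⁻¹ := by group
    have e2 : b * z * b⁻¹ * (a * z * a⁻¹) = a * (((a⁻¹ * b) * z * (a⁻¹ * b)⁻¹) * z) * a⁻¹ := by group
    change _ = _
    rw [e1, e2, h1.eq]
  -- the closure is commutative
  have hNS : ∀ x ∈ Subgroup.closure (Group.conjugatesOfSet ({z} : Set G)),
      ∀ t ∈ Group.conjugatesOfSet ({z} : Set G), Commute x t := by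
    intro x hx t ht
    induction hx using Subgroup.closure_induction with
    | mem s hs => exact hSS s hs t ht
    | one => exact Commute.one_left t
    | mul a b _ _ ha hb => exact ha.mul_left hb
    | inv a _ ha => exact ha.inv_left
  have hNN : ∀ x ∈ Subgroup.closure (Group.conjugatesOfSet ({z} : Set G)),
      ∀ y ∈ Subgroup.closure (Group.conjugatesOfSet ({z} : Set G)), Commute x y := by
    intro x hx y hy
    induction hy using Subgroup.closure_induction with
    | mem t ht => exact hNS x hx t ht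
    | one => exact Commute.one_right x
    | mul a b _ _ ha hb => exact ha.mul_right hb
    | inv a _ ha => exact ha.inv_right
  have hpow : ∀ x ∈ Subgroup.closure (Group.conjugatesOfSet ({z} : Set G)),
      ∃ k : ℕ, x ^ u ^ k = 1 := by
    intro x hx
    induction hx using Subgroup.closure_induction with
    | mem s hs =>
      obtain ⟨g, rfl⟩ := hS s hs
      refine ⟨j, ?_⟩
      have := (MulAut.conj g).orderOf_eq z
      rw [MulAut.conj_apply] at this
      rw [← hj, ← this]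
      exact pow_orderOf_eq_one _
    | one => exact ⟨0, one_pow _⟩
    | mul a b ha' hb' ha hb =>
      obtain ⟨k, hk⟩ := ha
      obtain ⟨l, hl⟩ := hb
      refine ⟨k + l, ?_⟩
      rw [(hNN a ha' b hb').mul_pow, pow_add, pow_mul, hk, one_pow, mul_comm (u ^ k), pow_mul, hl,
        one_pow, one_mul]
    | inv a _ ha =>
      obtain ⟨k, hk⟩ := ha
      exact ⟨k, by rw [inv_pow, hk, inv_one]⟩
  intro g
  obtain ⟨k, hk⟩ := hpow g.1 (by rw [← hgen]; exact g.2)
  refine ⟨k, ?_⟩
  apply Subtype.ext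
  rw [Subgroup.coe_pow, hk, Subgroup.coe_one]

theorem Spec.dvd_ind [Finite G] {u : ℕ} {z : G} (h : Spec u z) {w : G} (hw : ¬ Commute w z) :
    u ∣ ind w := by
  have hu := h.1
  have : Fact u.Prime := ⟨hu⟩
  by_contra hnd
  obtain ⟨R, hR⟩ := exists_sylow_le_of_not_dvd_index (Subgroup.centralizer ({w} : Set G)) hnd
  have hNR : Subgroup.normalClosure ({z} : Set G) ≤ R :=
    IsPGroup.le_sylow_of_normal (Spec.isPGroup_normalClosure h) R
  have hz : z ∈ Subgroup.centralizer ({w} : Set G) :=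
    hR (hNR (Subgroup.subset_normalClosure (Set.mem_singleton z)))
  rw [mem_centralizer_singleton] at hz
  exact hw hz.symm

end Cfsg.Agent.Lib.Helper17.CSD
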