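/-
helper17: S3353 leaf EXT-1 `unip_or_swap` (planner helper18, `notes/S3353_leaves.lean`):
an automorphism of `SL₂(F)`, `F` a finite field of odd order, that commutes with `cd` (conjugation by
`diag(1,-1)`) preserves or swaps the upper and the lower unitriangular subgroups.
-/
import Mathlib
import Cfsg.Agent.Lib.Helper18.CTEDefs
import Cfsg.Agent.Lib.Helper18.PSLnBasic
import Cfsg.Agent.Lib.Helper18.PSL2AutMaps

set_option autoImplicit false

namespace Cfsg.Agent.Lib.Helper17.CTEEXT1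

open Matrix Cfsg Cfsg.Lie Cfsg.Agent.Lib.Helper13 Cfsg.Agent.Lib.Helper18.CTE
  Cfsg.Agent.Lib.Helper18.PSLnAut Cfsg.Agent.Lib.Helper18.PSL2Aut

variable {F : Type*} [Field F]

theorem two_ne_zero_of_odd_card [Fintype F] (hF : Odd (Fintype.card F)) : (2 : F) ≠ 0 := by
  intro h
  have h2 : ringChar F = 2 := CharP.ringChar_of_prime_eq_zero Nat.prime_two (by exact_mod_cast h)
  have := FiniteField.even_card_of_char_two h2
  rcases hF with ⟨k, hk⟩
  omega

theorem lSL_pow' (a : F) (n : ℕ) : lSL a ^ n = lSL (n * a) := by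
  induction n with
  | zero => simp [lSL_zero]
  | succ n ih => rw [pow_succ, ih, lSL_mul]; congr 1; push_cast; ring

theorem lSL_inv' (a : F) : (lSL a)⁻¹ = lSL (-a) := by
  rw [inv_eq_iff_mul_eq_one, lSL_mul, add_neg_cancel, lSL_zero]

theorem tSL_inv' (a : F) : (tSL a)⁻¹ = tSL (-a) := by
  rw [inv_eq_iff_mul_eq_one, tSL_mul, add_neg_cancel, tSL_zero]

/-- the trace of an element of order dividing `p` is `2` -/
theorem trace_eq_two_of_pow_eq_one (p : ℕ) [Fact p.Prime] [CharP F p]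
    (x : SpecialLinearGroup (Fin 2) F) (hx : x ^ p = 1) :
    (x : Matrix (Fin 2) (Fin 2) F) 0 0 + (x : Matrix (Fin 2) (Fin 2) F) 1 1 = 2 := by
  by_cases h1 : x = 1
  · rw [h1]
    simp
    norm_num
  have hp : p.Prime := Fact.out
  have ho : orderOf x = p := orderOf_eq_prime hx h1
  obtain ⟨t, -, hc⟩ := exists_isConj_tSL_of_orderOf p x ho
  obtain ⟨c, hc⟩ := isConj_iff.mp hc
  have h2 : Matrix.trace ((c * x * c⁻¹ : SpecialLinearGroup (Fin 2) F) : Matrix (Fin 2) (Fin 2) F) =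
      Matrix.trace (x : Matrix (Fin 2) (Fin 2) F) := by
    rw [Matrix.SpecialLinearGroup.coe_mul, Matrix.SpecialLinearGroup.coe_mul, Matrix.trace_mul_cycle,
      ← Matrix.SpecialLinearGroup.coe_mul, inv_mul_cancel, Matrix.SpecialLinearGroup.coe_one, one_mul]
  rw [hc, Matrix.trace_fin_two, Matrix.trace_fin_two, tSL_coe] at h2
  rw [← h2]
  simp
  norm_num

/-- the set `{x | x ^ p = 1 ∧ cd x = x⁻¹}` is contained in `U ∪ U'` -/
theorem mem_U_or_U' (h2 : (2 : F) ≠ 0) (p : ℕ) [Fact p.Prime] [CharP F p]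
    (x : SpecialLinearGroup (Fin 2) F) (hx : x ^ p = 1) (hcd : cd x = x⁻¹) :
    (∃ s : F, x = tSL s) ∨ (∃ s : F, x = lSL s) := by
  have htr := trace_eq_two_of_pow_eq_one p x hx
  have h00 : (x : Matrix (Fin 2) (Fin 2) F) 0 0 = (x : Matrix (Fin 2) (Fin 2) F) 1 1 := by
    have h := congrArg (fun Y : SpecialLinearGroup (Fin 2) F => (Y : Matrix (Fin 2) (Fin 2) F) 0 0) hcd
    simp only [cd_coe, Matrix.SpecialLinearGroup.coe_inv, Matrix.adjugate_fin_two, mcd] at h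
    simpa using h
  have ha : (x : Matrix (Fin 2) (Fin 2) F) 0 0 = 1 := by
    have : (2 : F) * ((x : Matrix (Fin 2) (Fin 2) F) 0 0 - 1) = 0 := by
      linear_combination htr + h00
    rcases mul_eq_zero.mp this with h | h
    · exact absurd h h2
    · linear_combination h
  have hd : (x : Matrix (Fin 2) (Fin 2) F) 1 1 = 1 := by rw [← h00, ha]
  have hdet := det_eq x
  rw [ha, hd] at hdet
  have hbc : (x : Matrix (Fin 2) (Fin 2) F) 0 1 * (x : Matrix (Fin 2) (Fin 2) F) 1 0 = 0 := by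
    linear_combination -hdet
  rcases mul_eq_zero.mp hbc with h | h
  · right
    refine ⟨(x : Matrix (Fin 2) (Fin 2) F) 1 0, ?_⟩
    apply Subtype.ext
    rw [lSL_coe]
    ext i j
    fin_cases i <;> fin_cases j <;> simp [ha, hd, h]
  · left
    refine ⟨(x : Matrix (Fin 2) (Fin 2) F) 0 1, ?_⟩
    apply Subtype.ext
    rw [tSL_coe]
    ext i j
    fin_cases i <;> fin_cases j <;> simp [ha, hd, h]

/-- `tSL a * lSL b` with `a, b ≠ 0` lies neither in `U` nor in `U'` -/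
theorem tSL_mul_lSL_not_mem (a b : F) (ha : a ≠ 0) (hb : b ≠ 0) :
    ¬ ((∃ s : F, tSL a * lSL b = tSL s) ∨ (∃ s : F, tSL a * lSL b = lSL s)) := by
  rintro (⟨s, hs⟩ | ⟨s, hs⟩)
  · have h := congrArg (fun Y : SpecialLinearGroup (Fin 2) F => (Y : Matrix (Fin 2) (Fin 2) F) 1 0) hs
    simp only [Matrix.SpecialLinearGroup.coe_mul, tSL_coe, lSL_coe] at h
    simp [Matrix.mul_apply, Fin.sum_univ_two] at h
    exact hb h
  · have h := congrArg (fun Y : SpecialLinearGroup (Fin 2) F => (Y : Matrix (Fin 2) (Fin 2) F) 0 1) hs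
    simp only [Matrix.SpecialLinearGroup.coe_mul, tSL_coe, lSL_coe] at h
    simp [Matrix.mul_apply, Fin.sum_univ_two] at h
    exact ha h

theorem lSL_mul_tSL_not_mem (a b : F) (ha : a ≠ 0) (hb : b ≠ 0) :
    ¬ ((∃ s : F, lSL a * tSL b = tSL s) ∨ (∃ s : F, lSL a * tSL b = lSL s)) := by
  rintro (⟨s, hs⟩ | ⟨s, hs⟩)
  · have h := congrArg (fun Y : SpecialLinearGroup (Fin 2) F => (Y : Matrix (Fin 2) (Fin 2) F) 1 0) hs
    simp only [Matrix.SpecialLinearGroup.coe_mul, tSL_coe, lSL_coe] at h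
    simp [Matrix.mul_apply, Fin.sum_univ_two] at h
    exact ha h
  · have h := congrArg (fun Y : SpecialLinearGroup (Fin 2) F => (Y : Matrix (Fin 2) (Fin 2) F) 0 1) hs
    simp only [Matrix.SpecialLinearGroup.coe_mul, tSL_coe, lSL_coe] at h
    simp [Matrix.mul_apply, Fin.sum_univ_two] at h
    exact hb h

/-- `tSL 1` and `lSL 1` do not commute -/
theorem tSL_one_lSL_one_not_commute : tSL (1 : F) * lSL 1 ≠ lSL 1 * tSL 1 := by
  intro hs
  have h := congrArg (fun Y : SpecialLinearGroup (Fin 2) F => (Y : Matrix (Fin 2) (Fin 2) F) 0 0) hs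
  simp only [Matrix.SpecialLinearGroup.coe_mul, tSL_coe, lSL_coe] at h
  simp [Matrix.mul_apply, Fin.sum_univ_two] at h

/-- a homomorphism from an additive family: uniformity of the alternative -/
theorem uniform_alternative (u : F → SpecialLinearGroup (Fin 2) F)
    (hu : ∀ a b, u (a + b) = u a * u b)
    (h : ∀ t, (∃ s : F, u t = tSL s) ∨ (∃ s : F, u t = lSL s)) :
    (∀ t, ∃ s : F, u t = tSL s) ∨ (∀ t, ∃ s : F, u t = lSL s) := by
  by_cases hall : ∀ t, ∃ s : F, u t = tSL s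
  · exact Or.inl hall
  right
  push Not at hall
  obtain ⟨t1, ht1⟩ := hall
  obtain ⟨s2, hs2⟩ : ∃ s : F, u t1 = lSL s := by
    rcases h t1 with ⟨s, hs⟩ | hs
    · exact absurd hs (ht1 s)
    · exact hs
  have hs20 : s2 ≠ 0 := by
    intro h0
    apply ht1 0
    rw [hs2, h0, lSL_zero, tSL_zero]
  intro t
  rcases h t with ⟨s1, hs1⟩ | hs
  · by_cases hs10 : s1 = 0
    · exact ⟨0, by rw [hs1, hs10, tSL_zero, lSL_zero]⟩
    · exfalso
      apply tSL_mul_lSL_not_mem s1 s2 hs10 hs20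
      rw [← hs1, ← hs2, ← hu]
      exact h (t + t1)
  · exact hs

/-- (EXT-1) -/
theorem unip_or_swap [Fintype F] (hF : Odd (Fintype.card F))
    (γ : SpecialLinearGroup (Fin 2) F ≃* SpecialLinearGroup (Fin 2) F) (hγ : ∀ x, γ (cd x) = cd (γ x)) :
    ((∀ t : F, ∃ s : F, γ (tSL t) = tSL s) ∧ (∀ t : F, ∃ s : F, γ (lSL t) = lSL s)) ∨
    ((∀ t : F, ∃ s : F, γ (tSL t) = lSL s) ∧ (∀ t : F, ∃ s : F, γ (lSL t) = tSL s)) := by
  classical
  have h2 : (2 : F) ≠ 0 := two_ne_zero_of_odd_card hF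
  obtain ⟨p, hp⟩ := CharP.exists F
  have hpp : Fact p.Prime := ⟨CharP.char_is_prime F p⟩
  have hT : ∀ t : F, (∃ s : F, γ (tSL t) = tSL s) ∨ (∃ s : F, γ (tSL t) = lSL s) := by
    intro t
    apply mem_U_or_U' h2 p
    · rw [← map_pow, tSL_pow, CharP.cast_eq_zero, zero_mul, tSL_zero, map_one]
    · rw [← hγ, cd_tSL, ← map_inv, tSL_inv']
  have hL : ∀ t : F, (∃ s : F, γ (lSL t) = tSL s) ∨ (∃ s : F, γ (lSL t) = lSL s) := by
    intro t
    apply mem_U_or_U' h2 p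
    · rw [← map_pow, lSL_pow', CharP.cast_eq_zero, zero_mul, lSL_zero, map_one]
    · rw [← hγ, cd_lSL, ← map_inv, lSL_inv']
  have hT' := uniform_alternative (fun t => γ (tSL t))
    (fun a b => by show γ (tSL (a + b)) = γ (tSL a) * γ (tSL b); rw [← tSL_mul, map_mul]) hT
  have hL' := uniform_alternative (fun t => γ (lSL t))
    (fun a b => by show γ (lSL (a + b)) = γ (lSL a) * γ (lSL b); rw [← lSL_mul, map_mul]) hL
  have hnc : γ (tSL 1) * γ (lSL 1) ≠ γ (lSL 1) * γ (tSL 1) := by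
    intro h
    rw [← map_mul, ← map_mul] at h
    exact tSL_one_lSL_one_not_commute (γ.injective h)
  rcases hT' with hT1 | hT1 <;> rcases hL' with hL1 | hL1
  · exfalso
    obtain ⟨a, ha⟩ := hT1 1
    obtain ⟨b, hb⟩ := hL1 1
    apply hnc
    show γ (tSL 1) * γ (lSL 1) = γ (lSL 1) * γ (tSL 1)
    rw [ha, hb, tSL_mul, tSL_mul, add_comm]
  · exact Or.inl ⟨hT1, hL1⟩
  · exact Or.inr ⟨hT1, hL1⟩
  · exfalso
    obtain ⟨a, ha⟩ := hT1 1
    obtain ⟨b, hb⟩ := hL1 1
    apply hnc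
    show γ (tSL 1) * γ (lSL 1) = γ (lSL 1) * γ (tSL 1)
    rw [ha, hb, lSL_mul, lSL_mul, add_comm]

end Cfsg.Agent.Lib.Helper17.CTEEXT1
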