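/-
helper17: Package A (part 2) of helper23's S4064 project (CTI-groups): the Fitting subgroup of a
CTI-group with trivial centre: centralizers of its non-identity elements lie in it, it is a proper
Hall subgroup, and a complement acts on it without fixed points (a Frobenius complement).
-/
import Cfsg.Agent.Lib.Helper17.CTIA1
import Cfsg.Agent.S0039

set_option autoImplicit false
set_option linter.unusedSectionVars false
set_option linter.style.haveILetI false

namespace Cfsg.Agent.Lib.Helper17.CTIA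

open Cfsg Cfsg.Agent.Lib.Helper23.CTI

variable {G : Type*} [Group G]

/-- in a CTI-group with nontrivial centre every element commutes with its conjugates -/
theorem conjComm_of_center_ne_bot (h : IsCTI G) (hZ : Subgroup.center G ≠ ⊥) (y c : G) :
    (c * y * c⁻¹) * y = y * (c * y * c⁻¹) := by
  obtain ⟨⟨z, hz⟩, hz1⟩ := (Subgroup.ne_bot_iff_exists_ne_one).1 hZ
  have hz1' : z ≠ 1 := fun e => hz1 (Subtype.ext e)
  have hzy : z ∈ Subgroup.centralizer ({y} : Set G) := by
    rw [mem_cent_singleton]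
    exact (Subgroup.mem_center_iff.1 hz y)
  have hcz : c * z * c⁻¹ ∈ Subgroup.centralizer ({y} : Set G) := by
    have : c * z * c⁻¹ = z := by
      rw [Subgroup.mem_center_iff.1 hz c, mul_inv_cancel_right]
    rw [this]
    exact hzy
  have hnorm := cti_mem_normalizer h hzy hz1' hcz
  rw [Subgroup.mem_set_normalizer_iff] at hnorm
  have := (hnorm y).1 (mem_cent_singleton.2 rfl)
  exact (mem_cent_singleton.1 this).symm

variable [Finite G]

/-- a central element of the Fitting subgroup stays central in it under conjugation -/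
theorem conj_central_fitting {z : G} (hz : z ∈ Cfsg.fittingSubgroup G)
    (hzc : ∀ f ∈ Cfsg.fittingSubgroup G, z * f = f * z) (g : G) :
    g * z * g⁻¹ ∈ Cfsg.fittingSubgroup G ∧
      ∀ f ∈ Cfsg.fittingSubgroup G, (g * z * g⁻¹) * f = f * (g * z * g⁻¹) := by
  have hn : (Cfsg.fittingSubgroup G).Normal := Cfsg.Agent.Lib.Helper1.fittingSubgroup_normal G
  refine ⟨hn.conj_mem z hz g, fun f hf => ?_⟩
  have hf' : g⁻¹ * f * g ∈ Cfsg.fittingSubgroup G := by
    have := hn.conj_mem f hf g⁻¹
    rwa [inv_inv] at this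
  have := hzc _ hf'
  calc g * z * g⁻¹ * f = g * (z * (g⁻¹ * f * g)) * g⁻¹ := by group
    _ = g * ((g⁻¹ * f * g) * z) * g⁻¹ := by rw [this]
    _ = f * (g * z * g⁻¹) := by group

/-- a nontrivial central element of the Fitting subgroup -/
theorem exists_central_fitting (hF : Cfsg.fittingSubgroup G ≠ ⊥) :
    ∃ z : G, z ∈ Cfsg.fittingSubgroup G ∧ z ≠ 1 ∧
      ∀ f ∈ Cfsg.fittingSubgroup G, z * f = f * z := by
  have hnil : Group.IsNilpotent (Cfsg.fittingSubgroup G) :=
    Cfsg.Agent.Lib.Helper1.fittingSubgroup_isNilpotent G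
  have hnt : Nontrivial (Cfsg.fittingSubgroup G) := (Subgroup.nontrivial_iff_ne_bot _).2 hF
  obtain ⟨⟨z, hz⟩, hz1⟩ := (Subgroup.ne_bot_iff_exists_ne_one).1
    (Group.IsNilpotent.center_ne_bot (G := Cfsg.fittingSubgroup G))
  refine ⟨z.1, z.2, fun e => hz1 (Subtype.ext (Subtype.ext e)), fun f hf => ?_⟩
  have := Subgroup.mem_center_iff.1 hz ⟨f, hf⟩
  exact (congrArg Subtype.val this).symm

/-- **Step 1**: centralizers of non-identity elements of `F(G)` lie in `F(G)`. -/
theorem cent_le_fitting (h : IsCTI G) {y : G} (hy : y ∈ Cfsg.fittingSubgroup G) (hy1 : y ≠ 1) :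
    Subgroup.centralizer ({y} : Set G) ≤ Cfsg.fittingSubgroup G := by
  have hF : Cfsg.fittingSubgroup G ≠ ⊥ := by
    intro e
    rw [e, Subgroup.mem_bot] at hy
    exact hy1 hy
  obtain ⟨z, hz, hz1, hzc⟩ := exists_central_fitting hF
  have hzy : z ∈ Subgroup.centralizer ({y} : Set G) := by
    rw [mem_cent_singleton]
    exact (hzc y hy).symm
  have hnormal : (Subgroup.centralizer ({y} : Set G)).Normal := by
    rw [← Subgroup.normalizer_eq_top_iff, eq_top_iff]
    intro g _
    have hgz : g * z * g⁻¹ ∈ Subgroup.centralizer ({y} : Set G) := by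
      rw [mem_cent_singleton]
      exact ((conj_central_fitting hz hzc g).2 y hy).symm
    exact cti_mem_normalizer h hzy hz1 hgz
  exact Cfsg.Agent.Lib.Helper1.le_fittingSubgroup hnormal (isCTI_cn h y hy1)

/-- **Step 2**: `F(G) ≠ ⊤` when the centre is trivial. -/
theorem fitting_ne_top (hZ : Subgroup.center G = ⊥) (hF : Cfsg.fittingSubgroup G ≠ ⊥) :
    Cfsg.fittingSubgroup G ≠ ⊤ := by
  intro e
  have hnil : Group.IsNilpotent (Cfsg.fittingSubgroup G) :=
    Cfsg.Agent.Lib.Helper1.fittingSubgroup_isNilpotent G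
  rw [e] at hnil
  have hG : Group.IsNilpotent G :=
    Group.nilpotent_of_mulEquiv (Subgroup.topEquiv : (⊤ : Subgroup G) ≃* G)
  have hnt : Nontrivial G := by
    obtain ⟨z, hz1⟩ := (Subgroup.ne_bot_iff_exists_ne_one).1 hF
    exact ⟨⟨(z : G), 1, fun e => hz1 (Subtype.ext e)⟩⟩
  exact Group.IsNilpotent.center_ne_bot (G := G) hZ

/-- **Step 3**: `F(G)` is a Hall subgroup. -/
theorem fitting_hall (h : IsCTI G) :
    (Nat.card (Cfsg.fittingSubgroup G)).Coprime (Cfsg.fittingSubgroup G).index := by
  have hn : (Cfsg.fittingSubgroup G).Normal := Cfsg.Agent.Lib.Helper1.fittingSubgroup_normal G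
  apply Nat.coprime_of_dvd
  intro p hp hpF hpI
  haveI : Fact p.Prime := ⟨hp⟩
  obtain ⟨P⟩ : Nonempty (Sylow p G) := inferInstance
  letI : MulAction (P : Subgroup G) (Cfsg.fittingSubgroup G) :=
    MulAction.compHom (Cfsg.fittingSubgroup G)
      ((MulAut.conjNormal : G →* MulAut (Cfsg.fittingSubgroup G)).comp (P : Subgroup G).subtype)
  have hmod := P.isPGroup'.card_modEq_card_fixedPoints (Cfsg.fittingSubgroup G)
  have hdvd : p ∣ Nat.card (MulAction.fixedPoints (P : Subgroup G) (Cfsg.fittingSubgroup G)) := by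
    rw [← Nat.modEq_zero_iff_dvd]
    exact hmod.symm.trans (Nat.modEq_zero_iff_dvd.2 hpF)
  have hone : (1 : Cfsg.fittingSubgroup G) ∈
      MulAction.fixedPoints (P : Subgroup G) (Cfsg.fittingSubgroup G) := by
    intro g
    show ((MulAut.conjNormal : G →* MulAut (Cfsg.fittingSubgroup G)) (g : G)) 1 = 1
    rw [map_one]
  have hcard : 1 < Nat.card (MulAction.fixedPoints (P : Subgroup G) (Cfsg.fittingSubgroup G)) := by
    have hpos : 0 < Nat.card (MulAction.fixedPoints (P : Subgroup G) (Cfsg.fittingSubgroup G)) := by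
      haveI : Nonempty (MulAction.fixedPoints (P : Subgroup G) (Cfsg.fittingSubgroup G)) :=
        ⟨⟨1, hone⟩⟩
      exact Nat.card_pos
    have := Nat.le_of_dvd hpos hdvd
    have := hp.two_le
    omega
  rw [Finite.one_lt_card_iff_nontrivial] at hcard
  obtain ⟨⟨y, hy⟩, hy1⟩ := exists_ne (⟨1, hone⟩ :
    MulAction.fixedPoints (P : Subgroup G) (Cfsg.fittingSubgroup G))
  have hy1' : (y : G) ≠ 1 := by
    intro e
    apply hy1
    apply Subtype.ext
    exact Subtype.ext e
  have hPle : (P : Subgroup G) ≤ Subgroup.centralizer ({(y : G)} : Set G) := by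
    intro g hg
    rw [mem_cent_singleton]
    have := hy ⟨g, hg⟩
    have h1 : g * (y : G) * g⁻¹ = y := by
      have h2 := congrArg Subtype.val this
      exact h2
    calc (y : G) * g = (g * (y : G) * g⁻¹) * g := by rw [h1]
      _ = g * y := by group
  have hPF : (P : Subgroup G) ≤ Cfsg.fittingSubgroup G := hPle.trans (cent_le_fitting h y.2 hy1')
  exact P.not_dvd_index (hpI.trans (Subgroup.index_dvd_of_le hPF))

end Cfsg.Agent.Lib.Helper17.CTIA
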