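/-
helper17: Package A (part 3) of helper23's S4064 project (CTI-groups): the complement `H` of the
Fitting subgroup is a Frobenius complement; it is neither `PSLlike` nor of type `FrobAlt`.
-/
import Cfsg.Agent.Lib.Helper17.CTIA2
import Cfsg.Agent.S0035
import Cfsg.Agent.S0040
import Cfsg.Agent.S0666
import Cfsg.Agent.Lib.Helper17.ZsFrob

set_option autoImplicit false
set_option linter.unusedSectionVars false
set_option linter.style.haveILetI false

namespace Cfsg.Agent.Lib.Helper17.CTIA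

open Cfsg Cfsg.Agent.Lib.Helper23.CTI

variable {G : Type*} [Group G] [Finite G]

/-- the data produced from a CTI-group with trivial centre and nontrivial Fitting subgroup -/
structure FrobSetup (G : Type*) [Group G] (H : Subgroup G) : Prop where
  compl : Subgroup.IsComplement' (Cfsg.fittingSubgroup G) H
  fne : Cfsg.fittingSubgroup G ≠ ⊥
  hne : H ≠ ⊥
  hntop : H ≠ ⊤
  fpf : ∀ x ∈ H, x ≠ 1 → Cfsg.fittingSubgroup G ⊓ Subgroup.centralizer {x} = ⊥
  frob : Cfsg.IsFrobeniusComplement H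
  cop : (Nat.card (Cfsg.fittingSubgroup G)).Coprime (Nat.card H)

theorem exists_frobSetup (h : IsCTI G) (hZ : Subgroup.center G = ⊥)
    (hF : Cfsg.fittingSubgroup G ≠ ⊥) : ∃ H : Subgroup G, FrobSetup G H := by
  haveI hn : (Cfsg.fittingSubgroup G).Normal := Cfsg.Agent.Lib.Helper1.fittingSubgroup_normal G
  obtain ⟨H, hc⟩ := Subgroup.exists_right_complement'_of_coprime (fitting_hall h)
  have hne : H ≠ ⊥ := by
    rintro rfl
    exact fitting_ne_top hZ hF (Subgroup.isComplement'_bot_right.1 hc)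
  have hntop : H ≠ ⊤ := by
    rintro rfl
    exact hF (Subgroup.isComplement'_top_right.1 hc)
  have fpf : ∀ x ∈ H, x ≠ 1 → Cfsg.fittingSubgroup G ⊓ Subgroup.centralizer {x} = ⊥ := by
    intro x hx hx1
    rw [eq_bot_iff]
    intro y hy
    rw [Subgroup.mem_bot]
    by_contra hy1
    obtain ⟨hyF, hyx⟩ := Subgroup.mem_inf.1 hy
    have hxy : x ∈ Subgroup.centralizer ({y} : Set G) := by
      rw [mem_cent_singleton]
      exact (mem_cent_singleton.1 hyx).symm
    have hxF := cent_le_fitting h hyF hy1 hxy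
    have := hc.disjoint.le_bot (Subgroup.mem_inf.2 ⟨hxF, hx⟩)
    exact hx1 (Subgroup.mem_bot.1 this)
  refine ⟨H, hc, hF, hne, hntop, fpf, ?_, ?_⟩
  · exact (Cfsg.Agent.S0039.result (Cfsg.fittingSubgroup G) H hc hF hne).2 fpf
  · have := fitting_hall h
    rwa [hc.symm.index_eq_card] at this

/-- **Case a**: the complement is not `PSLlike` (it has at most one involution). -/
theorem FrobSetup.not_pslLike {H : Subgroup G} (S : FrobSetup G H) (hP : PSLlike H) : False := by
  classical
  obtain ⟨P, h4, -, hfus, -⟩ := hP.exists_syl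
  have hfree := Cfsg.Agent.Lib.Helper17.Zs.hasFree_of_frobeniusComplement H S.frob
  obtain ⟨n, hn⟩ := IsPGroup.iff_card.1 P.isPGroup'
  have h2 : 2 ∣ Nat.card (P : Subgroup H) := by
    rw [hn]
    apply dvd_pow_self
    rintro rfl
    rw [hn] at h4
    norm_num at h4
  obtain ⟨t, ht⟩ := exists_prime_orderOf_dvd_card' (G := (P : Subgroup H)) 2 h2
  have ht1 : t ≠ 1 := by
    rintro rfl
    rw [orderOf_one] at ht
    norm_num at ht
  -- a third element
  have : ∃ s : (P : Subgroup H), s ≠ 1 ∧ s ≠ t := by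
    by_contra hall
    have hall' : ∀ s : (P : Subgroup H), s = 1 ∨ s = t := by
      intro s
      by_contra hs
      rw [not_or] at hs
      exact hall ⟨s, hs.1, hs.2⟩
    haveI := Fintype.ofFinite (P : Subgroup H)
    have h3 : 2 < Fintype.card (P : Subgroup H) := by
      rw [← Nat.card_eq_fintype_card]
      omega
    obtain ⟨a, b, c, hab, hac, hbc⟩ := Fintype.two_lt_card_iff.1 h3
    rcases hall' a with rfl | rfl <;> rcases hall' b with rfl | rfl <;>
      rcases hall' c with rfl | rfl <;> simp_all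
  obtain ⟨s, hs1, hst⟩ := this
  have hs1' : (s : H) ≠ 1 := fun e => hs1 (Subtype.ext e)
  have ht1' : (t : H) ≠ 1 := fun e => ht1 (Subtype.ext e)
  obtain ⟨g, -, hg⟩ := hfus s s.2 hs1' t t.2 ht1'
  have hot : orderOf (t : H) = 2 := by rw [Subgroup.orderOf_coe, ht]
  have hos : orderOf (s : H) = 2 := by
    have := (MulAut.conj g).orderOf_eq (s : H)
    rw [MulAut.conj_apply, hg, hot] at this
    exact this.symm
  have := hfree.involution_unique (s : H) (t : H) hos hot
  exact hst (Subtype.ext this)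

/-- the centre of the Fitting subgroup, as a subgroup of `G` -/
def ZF (G : Type*) [Group G] : Subgroup G where
  carrier := {z | z ∈ Cfsg.fittingSubgroup G ∧ ∀ f ∈ Cfsg.fittingSubgroup G, z * f = f * z}
  one_mem' := ⟨one_mem _, fun f _ => by rw [one_mul, mul_one]⟩
  mul_mem' := by
    rintro a b ⟨ha, hac⟩ ⟨hb, hbc⟩
    refine ⟨mul_mem ha hb, fun f hf => ?_⟩
    rw [mul_assoc, hbc f hf, ← mul_assoc, hac f hf, mul_assoc]
  inv_mem' := by
    rintro a ⟨ha, hac⟩
    refine ⟨inv_mem ha, fun f hf => ?_⟩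
    have := hac f hf
    calc a⁻¹ * f = a⁻¹ * (f * a) * a⁻¹ := by group
      _ = a⁻¹ * (a * f) * a⁻¹ := by rw [this]
      _ = f * a⁻¹ := by group

theorem mem_ZF {z : G} : z ∈ ZF G ↔
    z ∈ Cfsg.fittingSubgroup G ∧ ∀ f ∈ Cfsg.fittingSubgroup G, z * f = f * z := Iff.rfl

/-- **Case b**: the complement is not of type `FrobAlt` (a Frobenius complement is not a Frobenius
group). -/
theorem FrobSetup.not_frobAlt {H : Subgroup G} (S : FrobSetup G H) (hH : FrobAlt H) : False := by
  obtain ⟨H1, hH1, -⟩ := hH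
  obtain ⟨N, hN, hNn, hNc⟩ := Cfsg.Agent.S0035.result H1 hH1
  have hVab : IsMulCommutative (ZF G) := by
    refine ⟨⟨fun a b => ?_⟩⟩
    apply Subtype.ext
    exact a.2.2 b b.2.1
  obtain ⟨z, hz, hz1, hzc⟩ := exists_central_fitting S.fne
  have hV1 : ZF G ≠ ⊥ := by
    intro e
    have : z ∈ ZF G := ⟨hz, hzc⟩
    rw [e, Subgroup.mem_bot] at this
    exact hz1 this
  have hVn : (ZF G).Normal := by
    refine ⟨fun a ha g => ?_⟩
    exact conj_central_fitting ha.1 ha.2 g
  have hFV : H ≤ Subgroup.normalizer ((ZF G : Subgroup G) : Set G) := by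
    rw [Subgroup.normalizer_eq_top_iff.2 hVn]
    exact le_top
  have hVF : ZF G ≤ Cfsg.fittingSubgroup G := fun a ha => ha.1
  have hcardK : Nat.card (Cfsg.frobeniusKernel H1) = Nat.card N := by
    rw [← hN]
    rfl
  have hcop : (Nat.card (ZF G)).Coprime (Nat.card (Cfsg.frobeniusKernel H1)) := by
    rw [hcardK]
    exact Nat.Coprime.coprime_dvd_left (Subgroup.card_dvd_of_le hVF)
      (Nat.Coprime.coprime_dvd_right (Subgroup.card_subgroup_dvd_card N) S.cop)
  have hNne : N ≠ ⊥ := by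
    rintro rfl
    exact hH1.2.1 (Subgroup.isComplement'_bot_left.1 hNc)
  obtain ⟨k, hk1⟩ := (Subgroup.ne_bot_iff_exists_ne_one).1 hNne
  have hk1' : ((k : H) : G) ≠ 1 := by
    intro e
    apply hk1
    apply Subtype.ext
    exact Subtype.ext e
  have hCK : ZF G ⊓ Subgroup.centralizer (Subtype.val '' Cfsg.frobeniusKernel H1 : Set G) = ⊥ := by
    rw [eq_bot_iff]
    intro v hv
    obtain ⟨hvV, hvC⟩ := Subgroup.mem_inf.1 hv
    have hkmem : ((k : H) : G) ∈ (Subtype.val '' Cfsg.frobeniusKernel H1 : Set G) := by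
      refine ⟨(k : H), ?_, rfl⟩
      rw [← hN]
      exact k.2
    have hcomm := Subgroup.mem_centralizer_iff.1 hvC _ hkmem
    have : v ∈ Cfsg.fittingSubgroup G ⊓ Subgroup.centralizer {((k : H) : G)} := by
      refine Subgroup.mem_inf.2 ⟨hVF hvV, ?_⟩
      rw [mem_cent_singleton]
      exact hcomm
    rw [S.fpf _ (k : H).2 hk1'] at this
    exact this
  have hres := Cfsg.Agent.S0666.result (ZF G) H hVab hV1 hFV H1 hH1 hcop hCK
  apply hres
  rw [eq_bot_iff]
  intro v hv
  obtain ⟨hvV, hvC⟩ := Subgroup.mem_inf.1 hv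
  obtain ⟨x, hx1⟩ := (Subgroup.ne_bot_iff_exists_ne_one).1 hH1.1
  have hx1' : ((x : H) : G) ≠ 1 := by
    intro e
    apply hx1
    apply Subtype.ext
    exact Subtype.ext e
  have hxmem : ((x : H) : G) ∈ ((H1.map H.subtype : Subgroup G) : Set G) :=
    ⟨(x : H), x.2, rfl⟩
  have hcomm := Subgroup.mem_centralizer_iff.1 hvC _ hxmem
  have : v ∈ Cfsg.fittingSubgroup G ⊓ Subgroup.centralizer {((x : H) : G)} := by
    refine Subgroup.mem_inf.2 ⟨hVF hvV, ?_⟩
    rw [mem_cent_singleton]
    exact hcomm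
  rw [S.fpf _ (x : H).2 hx1'] at this
  exact this

end Cfsg.Agent.Lib.Helper17.CTIA
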