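/-
helper17: Package A (part 4) of helper23's S4064 project (CTI-groups): the nilpotent case for the
complement, and the final statement A4 `frobAlt_of_normal_nilpotent`.
-/
import Cfsg.Agent.Lib.Helper17.CTIA3
import Cfsg.Agent.Lib.Helper23.NilHallA

set_option autoImplicit false
set_option linter.unusedSectionVars false
set_option linter.style.haveILetI false

namespace Cfsg.Agent.Lib.Helper17.CTIA

open Cfsg Cfsg.Agent.Lib.Helper23.CTI

/-- every element commutes with its conjugates -/
def ConjComm (X : Type*) [Group X] : Prop :=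
  ∀ y c : X, (c * y * c⁻¹) * y = y * (c * y * c⁻¹)

theorem ConjComm.subgroup {X : Type*} [Group X] (h : ConjComm X) (K : Subgroup X) : ConjComm K :=
  fun y c => Subtype.ext (h y c)

theorem ConjComm.of_mulEquiv {X Y : Type*} [Group X] [Group Y] (h : ConjComm X) (e : X ≃* Y) :
    ConjComm Y := by
  intro y c
  have := congrArg e (h (e.symm y) (e.symm c))
  simpa using this

theorem quaternion_conjComm {k : ℕ} [NeZero k] (h : ConjComm (QuaternionGroup k)) : k ∣ 2 := by
  have hinv : (QuaternionGroup.a (1 : ZMod (2 * k)))⁻¹ = QuaternionGroup.a (-1) := by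
    apply inv_eq_of_mul_eq_one_right
    rw [QuaternionGroup.a_mul_a, add_neg_cancel]
    rfl
  have := h (QuaternionGroup.xa 0) (QuaternionGroup.a 1)
  rw [hinv, QuaternionGroup.a_mul_xa, QuaternionGroup.xa_mul_a, QuaternionGroup.xa_mul_xa,
    QuaternionGroup.xa_mul_xa, QuaternionGroup.a.injEq] at this
  have h4 : ((4 : ℕ) : ZMod (2 * k)) = 0 := by
    push_cast
    linear_combination this
  rw [ZMod.natCast_eq_zero_iff] at h4
  have : 2 * k ∣ 2 * 2 := h4
  exact (Nat.mul_dvd_mul_iff_left (by norm_num)).1 this

variable {G : Type*} [Group G] [Finite G]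

/-- **Case c**: a nilpotent complement is cyclic or `Z_m × Q₈`. -/
theorem FrobSetup.nilpotent_case {H : Subgroup G} (S : FrobSetup G H) (hcti : IsCTI H)
    (hnil : Group.IsNilpotent H) :
    IsCyclic H ∨ ∃ m : ℕ, Odd m ∧ Nonempty (H ≃* Multiplicative (ZMod m) × QuaternionGroup 2) := by
  haveI hnt : Nontrivial H := (Subgroup.nontrivial_iff_ne_bot _).2 S.hne
  have hcc : ConjComm H :=
    conjComm_of_center_ne_bot hcti (Group.IsNilpotent.center_ne_bot (G := H))
  have hfree := Cfsg.Agent.Lib.Helper17.Zs.hasFree_of_frobeniusComplement H S.frob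
  haveI hFn : (Cfsg.fittingSubgroup G).Normal := Cfsg.Agent.Lib.Helper1.fittingSubgroup_normal G
  by_cases hall : ∀ P : Sylow 2 H, IsCyclic (P : Subgroup H)
  · left
    haveI : IsZGroup H := by
      refine ⟨fun p hp P => ?_⟩
      haveI : Fact p.Prime := ⟨hp⟩
      by_cases hp2 : p = 2
      · subst hp2
        exact hall P
      · exact hfree.isCyclic_sylow p hp2 P
    infer_instance
  · right
    rw [not_forall] at hall
    obtain ⟨P, hP⟩ := hall
    rcases Cfsg.Agent.S0040.result (Cfsg.fittingSubgroup G) H S.compl S.fne S.fpf 2 P with hc | hq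
    · exact absurd hc hP
    obtain ⟨n, ⟨e⟩⟩ := hq
    have hn : n = 1 := by
      have hdvd := quaternion_conjComm ((hcc.subgroup (P : Subgroup H)).of_mulEquiv e)
      have hle : n ≤ 1 := by
        by_contra hlt
        have h2 : 2 ≤ n := by omega
        have h4 : 2 ^ 2 ∣ 2 ^ n := pow_dvd_pow 2 h2
        have := Nat.le_of_dvd (by norm_num) (h4.trans hdvd)
        norm_num at this
      rcases Nat.le_one_iff_eq_zero_or_eq_one.1 hle with h0 | h1
      · exfalso
        subst h0
        apply hP
        haveI : IsCyclic (QuaternionGroup (2 ^ 0)) := QuaternionGroup.quaternionGroup_one_isCyclic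
        exact isCyclic_of_surjective e.symm e.symm.surjective
      · exact h1
    subst hn
    have e3 : (P : Subgroup H) ≃* QuaternionGroup 2 := e
    haveI hPn : (P : Subgroup H).Normal :=
      ((Group.isNilpotent_of_finite_tfae (G := H)).out 0 3 rfl rfl).mp hnil 2 inferInstance P
    obtain ⟨O, hO⟩ := Subgroup.exists_right_complement'_of_coprime P.card_coprime_index
    have hcardO : Nat.card O = (P : Subgroup H).index := (hO.symm.index_eq_card).symm
    have hodd : Odd (Nat.card O) := by
      rw [hcardO, ← Nat.not_even_iff_odd, even_iff_two_dvd]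
      exact P.not_dvd_index
    have hcop : (Nat.card O).Coprime (Nat.card (P : Subgroup H)) := by
      rw [hcardO]
      exact P.card_coprime_index.symm
    have hcomm : ∀ (o : O) (q : (P : Subgroup H)), Commute (O.subtype o) ((P : Subgroup H).subtype q) := by
      intro o q
      apply Cfsg.Agent.Lib.Helper23.NilHall.commute_of_coprime_of_nilpotent H
      exact Nat.Coprime.coprime_dvd_left (Subgroup.orderOf_dvd_natCard O o.2)
        (Nat.Coprime.coprime_dvd_right (Subgroup.orderOf_dvd_natCard (P : Subgroup H) q.2) hcop)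
    have hbij : Function.Bijective (MonoidHom.noncommCoprod O.subtype (P : Subgroup H).subtype hcomm) := by
      have := hO.symm
      exact this
    let e1 : O × (P : Subgroup H) ≃* H := MulEquiv.ofBijective _ hbij
    haveI : IsZGroup O := (hfree.subgroup O).isZGroup_of_odd hodd
    have hOc : IsCyclic O := inferInstance
    let e2 : Multiplicative (ZMod (Nat.card O)) ≃* O := zmodCyclicMulEquiv hOc
    exact ⟨Nat.card O, hodd, ⟨e1.symm.trans (MulEquiv.prodCongr e2.symm e3)⟩⟩

/-- **A4**: a CTI-group with trivial centre and a nontrivial normal nilpotent subgroup, all of whose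
proper subgroups satisfy the trichotomy, is a Frobenius group of the required type. -/
theorem frobAlt_of_normal_nilpotent (h : IsCTI G) (hZ : Subgroup.center G = ⊥) (A : Subgroup G)
    [A.Normal] (hA : Group.IsNilpotent A) (hA1 : A ≠ ⊥)
    (IH : ∀ K : Subgroup G, K ≠ ⊤ → Tri K) : FrobAlt G := by
  have hAF : A ≤ Cfsg.fittingSubgroup G :=
    Cfsg.Agent.Lib.Helper1.le_fittingSubgroup inferInstance hA
  have hF : Cfsg.fittingSubgroup G ≠ ⊥ := by
    intro e
    apply hA1
    rw [eq_bot_iff, ← e]
    exact hAF
  obtain ⟨H, S⟩ := exists_frobSetup h hZ hF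
  rcases IH H S.hntop with hn | hf | hp
  · exact ⟨H, S.frob, S.nilpotent_case (isCTI_subgroup h H) hn⟩
  · exact (S.not_frobAlt hf).elim
  · exact (S.not_pslLike hp).elim

end Cfsg.Agent.Lib.Helper17.CTIA
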