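/-
helper17: leaf `suzuki_count` for helper26's Package F of helper23's S4064 project (CTI-groups):
a counting lemma for Suzuki 2-groups.
-/
import Mathlib

set_option autoImplicit false

namespace Cfsg.Agent.Lib.Helper17.CTIFLeaf

/-- a free action of a group on a type: the order of the group divides the cardinality -/
theorem card_dvd_of_free {D X : Type*} [Group D] [MulAction D X]
    (h : ∀ (d : D) (x : X), d • x = x → d = 1) : Nat.card D ∣ Nat.card X := by
  have e := MulAction.selfEquivOrbitsQuotientProd (G := D) (X := X) (fun b => by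
    rw [eq_bot_iff]
    intro d hd
    exact Subgroup.mem_bot.2 (h d b hd))
  rw [Nat.card_congr e, Nat.card_prod]
  exact dvd_mul_left _ _

/-- automorphisms preserve the centre -/
theorem aut_mem_center {P : Type*} [Group P] (α : MulAut P) {c : P}
    (hc : c ∈ Subgroup.center P) : α c ∈ Subgroup.center P := by
  rw [Subgroup.mem_center_iff]
  intro g
  have := Subgroup.mem_center_iff.1 hc (α⁻¹ g)
  have h2 := congrArg α this
  rw [map_mul, map_mul] at h2
  simpa using h2

theorem aut_mem_center_iff {P : Type*} [Group P] (α : MulAut P) {c : P} :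
    α c ∈ Subgroup.center P ↔ c ∈ Subgroup.center P := by
  constructor
  · intro h
    have := aut_mem_center α⁻¹ h
    simpa using this
  · exact aut_mem_center α

/-- arithmetic: `(2^n - 1) ∣ 2^j - 1` with `j < n` forces `j = 0` -/
theorem pow_sub_one_dvd_small {n j : ℕ} (hj : j < n) (h : 2 ^ n - 1 ∣ 2 ^ j - 1) : j = 0 := by
  by_contra hj0
  have h1 : 0 < 2 ^ j - 1 := by
    have : 2 ^ 1 ≤ 2 ^ j := Nat.pow_le_pow_right (by norm_num) (Nat.one_le_iff_ne_zero.2 hj0)
    omega
  have h2 := Nat.le_of_dvd h1 h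
  have h3 : 2 ^ j < 2 ^ n := Nat.pow_lt_pow_right (by norm_num) hj
  omega

theorem suzuki_count {P D : Type*} [Group P] [Finite P] [Group D] [Finite D] (φ : D →* MulAut P)
    (n : ℕ) (hn : 2 ≤ n)
    (hq : Nat.card (Subgroup.center P) = 2 ^ n) (hD : Nat.card D = 2 ^ n - 1)
    (hsq : ∀ x : P, x * x ∈ Subgroup.center P)
    (hsq1 : ∀ x : P, x * x = 1 → x ∈ Subgroup.center P)
    (hexp : ∀ z ∈ Subgroup.center P, z * z = 1)
    (hcomm : ∀ x y : P, x * y * x⁻¹ * y⁻¹ ∈ Subgroup.center P)
    (hfree : ∀ d : D, ∀ z ∈ Subgroup.center P, z ≠ 1 → φ d z = z → d = 1)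
    (hinv : ∀ d : D, ∀ x y : P, y ∉ Subgroup.center P → x * y = y * x → φ d x * y = y * φ d x)
    (hcard : Nat.card P = (2 ^ n) ^ 2 ∨ Nat.card P = (2 ^ n) ^ 3)
    (hna : ∃ x y : P, x * y ≠ y * x) :
    Nat.card P = (2 ^ n) ^ 3 ∧
      ∀ y : P, y ∉ Subgroup.center P → ∀ z ∈ Subgroup.center P, ∃ g : P, g * y * g⁻¹ = y * z := by
  classical
  -- (1)
  have L1 : ∀ (d : D) (y : P), y ∉ Subgroup.center P → y⁻¹ * φ d y ∈ Subgroup.center P →
      d = 1 := by
    intro d y hy hz
    have hz2 := hexp _ hz
    have hyy : y * y ≠ 1 := fun e => hy (hsq1 y e)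
    apply hfree d (y * y) (hsq y) hyy
    have e1 : φ d y = y * (y⁻¹ * φ d y) := by group
    rw [map_mul, e1]
    have hc := Subgroup.mem_center_iff.1 hz y
    calc y * (y⁻¹ * φ d y) * (y * (y⁻¹ * φ d y))
        = y * ((y⁻¹ * φ d y) * y) * (y⁻¹ * φ d y) := by group
      _ = y * (y * (y⁻¹ * φ d y)) * (y⁻¹ * φ d y) := by rw [← hc]
      _ = y * y * ((y⁻¹ * φ d y) * (y⁻¹ * φ d y)) := by group
      _ = y * y := by rw [hz2, mul_one]
  -- the key analysis for a fixed noncentral `y`
  have key : ∀ y : P, y ∉ Subgroup.center P →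
      Nat.card P = (2 ^ n) ^ 3 ∧ ∀ z ∈ Subgroup.center P, ∃ g : P, g * y * g⁻¹ = y * z := by
    intro y hy
    -- (4) the commutator homomorphism
    let ψ : P →* Subgroup.center P :=
      { toFun := fun g => ⟨g * y * g⁻¹ * y⁻¹, hcomm g y⟩
        map_one' := by
          apply Subtype.ext
          show (1 : P) * y * 1⁻¹ * y⁻¹ = 1
          group
        map_mul' := by
          intro g h
          apply Subtype.ext
          show g * h * y * (g * h)⁻¹ * y⁻¹ = (g * y * g⁻¹ * y⁻¹) * (h * y * h⁻¹ * y⁻¹)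
          have hc := Subgroup.mem_center_iff.1 (hcomm h y) (g⁻¹ * y⁻¹)
          calc g * h * y * (g * h)⁻¹ * y⁻¹
              = g * y * ((h * y * h⁻¹ * y⁻¹) * (g⁻¹ * y⁻¹)) * (y * y⁻¹) := by
                have hc2 := Subgroup.mem_center_iff.1 (hcomm h y) y
                calc g * h * y * (g * h)⁻¹ * y⁻¹
                    = g * ((h * y * h⁻¹ * y⁻¹) * y) * g⁻¹ * y⁻¹ := by group
                  _ = g * (y * (h * y * h⁻¹ * y⁻¹)) * g⁻¹ * y⁻¹ := by rw [← hc2]
                  _ = g * y * ((h * y * h⁻¹ * y⁻¹) * (g⁻¹ * y⁻¹)) * (y * y⁻¹) := by group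
            _ = g * y * ((g⁻¹ * y⁻¹) * (h * y * h⁻¹ * y⁻¹)) * (y * y⁻¹) := by rw [← hc]
            _ = (g * y * g⁻¹ * y⁻¹) * (h * y * h⁻¹ * y⁻¹) := by group }
    have hker : ∀ g : P, g ∈ ψ.ker ↔ g * y = y * g := by
      intro g
      rw [MonoidHom.mem_ker]
      constructor
      · intro h
        have h1 : g * y * g⁻¹ * y⁻¹ = 1 := congrArg Subtype.val h
        calc g * y = (g * y * g⁻¹ * y⁻¹) * (y * g) := by group
          _ = y * g := by rw [h1, one_mul]
      · intro h
        apply Subtype.ext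
        show g * y * g⁻¹ * y⁻¹ = 1
        rw [h]
        group
    have hZA : ∀ z ∈ Subgroup.center P, z ∈ ψ.ker := by
      intro z hz
      rw [hker]
      exact (Subgroup.mem_center_iff.1 hz y).symm
    have hyA : y ∈ ψ.ker := (hker y).2 rfl
    -- the action of `D` on `A ∖ Z`
    let _ : MulAction D P := MulAction.compHom P φ
    have hsmul : ∀ (d : D) (x : P), d • x = φ d x := fun d x => rfl
    let X : SubMulAction D P :=
      { carrier := {x | x ∈ ψ.ker ∧ x ∉ Subgroup.center P}
        smul_mem' := by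
          rintro d x ⟨hx1, hx2⟩
          refine ⟨?_, ?_⟩
          · rw [hsmul, hker]
            exact hinv d x y hy ((hker x).1 hx1)
          · rw [hsmul, aut_mem_center_iff]
            exact hx2 }
    have hXfree : ∀ (d : D) (x : X), d • x = x → d = 1 := by
      intro d x hdx
      have h1 : φ d (x : P) = x := congrArg Subtype.val hdx
      apply L1 d (x : P) x.2.2
      rw [h1, inv_mul_cancel]
      exact one_mem _
    have hdvd := card_dvd_of_free hXfree
    -- `|X| = |A| - q`
    have hXcard : Nat.card X = Nat.card ψ.ker - 2 ^ n := by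
      have h1 : Nat.card X =
          ((ψ.ker : Set P) \ (Subgroup.center P : Set P)).ncard := by
        rw [← Nat.card_coe_set_eq]
        rfl
      rw [h1, Set.ncard_sdiff (fun z hz => hZA z hz) (Set.toFinite _), ← hq]
      rfl
    -- `|A| = 2^a`
    have hPpow : ∃ b, Nat.card P = 2 ^ b ∧ (b = n * 2 ∨ b = n * 3) := by
      rcases hcard with h | h
      · exact ⟨n * 2, by rw [h, pow_mul], Or.inl rfl⟩
      · exact ⟨n * 3, by rw [h, pow_mul], Or.inr rfl⟩
    obtain ⟨b, hb, hb23⟩ := hPpow
    have hAdvd : Nat.card ψ.ker ∣ 2 ^ b := hb ▸ Subgroup.card_subgroup_dvd_card ψ.ker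
    obtain ⟨a, -, ha⟩ := (Nat.dvd_prime_pow Nat.prime_two).1 hAdvd
    -- `q < |A|`
    have hlt : 2 ^ n < Nat.card ψ.ker := by
      rw [← hq]
      have hsub : (Subgroup.center P : Set P) ⊂ (ψ.ker : Set P) := by
        refine ⟨fun z hz => hZA z hz, fun hsub => hy (hsub hyA)⟩
      exact Set.ncard_lt_ncard hsub (Set.toFinite _)
    have hna' : n < a := by
      rw [ha] at hlt
      exact (Nat.pow_lt_pow_iff_right (by norm_num)).1 hlt
    -- the range of `ψ`
    have hidx : Nat.card ψ.ker * Nat.card ψ.range = Nat.card P := by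
      rw [← Subgroup.index_ker]
      exact Subgroup.card_mul_index ψ.ker
    have hRdvd : Nat.card ψ.range ∣ 2 ^ n := hq ▸ Subgroup.card_subgroup_dvd_card ψ.range
    obtain ⟨r, hrn, hr⟩ := (Nat.dvd_prime_pow Nat.prime_two).1 hRdvd
    have hab : a + r = b := by
      rw [ha, hr, hb, ← pow_add] at hidx
      exact Nat.pow_right_injective (le_refl 2) hidx
    -- `A ≠ ⊤`
    have hr0 : 0 < r := by
      by_contra h0
      have hr0 : r = 0 := by omega
      apply hy
      rw [Subgroup.mem_center_iff]
      intro g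
      have : g ∈ ψ.ker := by
        have htop : ψ.ker = ⊤ := by
          apply Subgroup.eq_top_of_card_eq
          rw [← hidx, hr, hr0, pow_zero, mul_one]
        rw [htop]
        exact Subgroup.mem_top g
      exact (hker g).1 this
    -- divisibility
    have hdiv : 2 ^ n - 1 ∣ 2 ^ (a - n) - 1 := by
      rw [hD, hXcard, ha] at hdvd
      have e : 2 ^ a - 2 ^ n = 2 ^ n * (2 ^ (a - n) - 1) := by
        have : a = n + (a - n) := by omega
        conv_lhs => rw [this, pow_add]
        rw [Nat.mul_sub, mul_one]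
      rw [e] at hdvd
      have hcop : Nat.Coprime (2 ^ n - 1) (2 ^ n) := by
        have h : 2 ^ n = (2 ^ n - 1) + 1 := by
          have := Nat.one_le_two_pow (n := n)
          omega
        rw [h]
        simp
      exact hcop.dvd_of_dvd_mul_left hdvd
    rcases hb23 with hb2 | hb3
    · -- `|P| = q²` is impossible
      exfalso
      have hj : a - n < n := by omega
      have := pow_sub_one_dvd_small hj hdiv
      omega
    · have hj : a - n - n < n := by omega
      have hjn : n ≤ a - n := by omega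
      have hdiv2 : 2 ^ n - 1 ∣ 2 ^ (a - n - n) - 1 := by
        have e : 2 ^ (a - n) - 1 = 2 ^ (a - n - n) * (2 ^ n - 1) + (2 ^ (a - n - n) - 1) := by
          have h1 : a - n = (a - n - n) + n := by omega
          have h2 := Nat.one_le_two_pow (n := n)
          have h3 := Nat.one_le_two_pow (n := a - n - n)
          conv_lhs => rw [h1, pow_add]
          rw [Nat.mul_sub, mul_one]
          have h4 : 2 ^ (a - n - n) ≤ 2 ^ (a - n - n) * 2 ^ n := Nat.le_mul_of_pos_right _ (by positivity)
          omega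
        rw [e] at hdiv
        exact (Nat.dvd_add_right (Dvd.intro_left _ rfl)).1 hdiv
      have hj0 := pow_sub_one_dvd_small hj hdiv2
      have hrn' : r = n := by omega
      refine ⟨by rw [hb, hb3, pow_mul], ?_⟩
      have hsurj : ψ.range = ⊤ := by
        apply Subgroup.eq_top_of_card_eq
        rw [hr, hrn', hq]
      intro z hz
      have : (⟨z, hz⟩ : Subgroup.center P) ∈ ψ.range := by
        rw [hsurj]
        exact Subgroup.mem_top _
      obtain ⟨g, hg⟩ := this
      refine ⟨g, ?_⟩
      have h1 : g * y * g⁻¹ * y⁻¹ = z := congrArg Subtype.val hg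
      have hc := Subgroup.mem_center_iff.1 hz y
      calc g * y * g⁻¹ = (g * y * g⁻¹ * y⁻¹) * y := by group
        _ = z * y := by rw [h1]
        _ = y * z := hc.symm
  obtain ⟨x, y, hxy⟩ := hna
  have hy : y ∉ Subgroup.center P := by
    intro hc
    exact hxy (Subgroup.mem_center_iff.1 hc x)
  exact ⟨(key y hy).1, fun y' hy' => (key y' hy').2⟩

end Cfsg.Agent.Lib.Helper17.CTIFLeaf
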