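import Mathlib

/-!
helper17: a finite group all of whose commutators lie in a central subgroup `Z₀` of prime order
`r` has `|P : Z(P)| = r ^ (2 k)` (adaptation of helper20's extraspecial order lemma).
-/

set_option autoImplicit false

universe u

namespace Cfsg.Agent.Lib.Helper17.Class2Sq

open scoped commutatorElement

section
variable {P : Type*} [Group P]

theorem commElt_mul_right (x g h : P) : ⁅x, g * h⁆ = ⁅x, g⁆ * (g * ⁅x, h⁆ * g⁻¹) := by
  simp only [commutatorElement_def]; group

/-- When commutators lie in the central subgroup `Z₀`, `g ↦ ⁅x, g⁆` is a homomorphism into `Z₀`. -/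
def commHom (Z₀ : Subgroup P) (hZ : Z₀ ≤ Subgroup.center P) (hc : ∀ x y : P, ⁅x, y⁆ ∈ Z₀) (x : P) :
    P →* Z₀ where
  toFun g := ⟨⁅x, g⁆, hc x g⟩
  map_one' := by
    apply Subtype.ext
    simp [commutatorElement_def]
  map_mul' g h := by
    apply Subtype.ext
    simp only [Subgroup.coe_mul]
    rw [commElt_mul_right]
    have hz := Subgroup.mem_center_iff.mp (hZ (hc x h)) g
    rw [hz, mul_assoc, mul_inv_cancel, mul_one]

theorem commHom_apply (Z₀ : Subgroup P) (hZ : Z₀ ≤ Subgroup.center P) (hc : ∀ x y : P, ⁅x, y⁆ ∈ Z₀)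
    (x g : P) : ((commHom Z₀ hZ hc x g : Z₀) : P) = ⁅x, g⁆ := rfl

theorem mem_centralizer_singleton_iff' (x g : P) :
    g ∈ Subgroup.centralizer ({x} : Set P) ↔ x * g = g * x := by
  rw [Subgroup.mem_centralizer_iff]
  constructor
  · intro h; exact h x rfl
  · intro h y hy
    rw [Set.mem_singleton_iff] at hy
    rw [hy]; exact h

theorem relIndex_centralizer_eq_prime [Finite P] {r : ℕ} (hr : r.Prime)
    (Z₀ : Subgroup P) (hZ : Z₀ ≤ Subgroup.center P) (hc : ∀ x y : P, ⁅x, y⁆ ∈ Z₀)
    (hz : Nat.card Z₀ = r) (x : P)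
    (L : Subgroup P) (g₀ : P) (hg₀ : g₀ ∈ L) (hne : ⁅x, g₀⁆ ≠ 1) :
    (Subgroup.centralizer ({x} : Set P)).relIndex L = r := by
  obtain ⟨f, hf⟩ : ∃ f : L →* Z₀, f = (commHom Z₀ hZ hc x).comp L.subtype := ⟨_, rfl⟩
  have hker : f.ker = (Subgroup.centralizer ({x} : Set P)).subgroupOf L := by
    ext g
    rw [MonoidHom.mem_ker, Subgroup.mem_subgroupOf, mem_centralizer_singleton_iff',
      ← commutatorElement_eq_one_iff_mul_comm, hf]
    constructor
    · intro h
      have := congrArg Subtype.val h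
      exact this
    · intro h
      apply Subtype.ext
      exact h
  have h1 : (Subgroup.centralizer ({x} : Set P)).relIndex L = Nat.card f.range := by
    rw [Subgroup.relIndex, ← hker, Subgroup.index_ker]
  rw [h1]
  have hdvd : Nat.card f.range ∣ r := by
    rw [← hz]; exact Subgroup.card_subgroup_dvd_card f.range
  rcases (Nat.dvd_prime hr).mp hdvd with h2 | h2
  · exfalso
    have hbot := Subgroup.card_eq_one.mp h2
    have hmem : f ⟨g₀, hg₀⟩ ∈ f.range := ⟨_, rfl⟩
    rw [hbot, Subgroup.mem_bot] at hmem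
    apply hne
    have := congrArg Subtype.val hmem
    rw [hf] at this
    exact this
  · exact h2

theorem le_of_relIndex_prime {r : ℕ} (hr : r.Prime) {H K L : Subgroup P} (hHK : H ≤ K)
    (hKL : K ≤ L) (hidx : H.relIndex L = r) (hne : ¬ K ≤ H) : L ≤ K := by
  have h := Subgroup.relIndex_mul_relIndex H K L hHK hKL
  rw [hidx] at h
  have hd : H.relIndex K ∣ r := ⟨_, h.symm⟩
  rcases (Nat.dvd_prime hr).mp hd with h1 | h1
  · exact absurd (Subgroup.relIndex_eq_one.mp h1) hne
  · rw [h1] at h
    have h2 : K.relIndex L = 1 := by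
      have : r * K.relIndex L = r * 1 := by rw [h, mul_one]
      exact Nat.eq_of_mul_eq_mul_left hr.pos this
    exact Subgroup.relIndex_eq_one.mp h2

end

theorem card_eq_aux (r : ℕ) (hr : r.Prime) (n : ℕ) :
    ∀ (P : Type u) [Group P] [Finite P], Nat.card P = n →
      ∀ Z₀ : Subgroup P, Z₀ ≤ Subgroup.center P → Nat.card Z₀ = r → (∀ x y : P, ⁅x, y⁆ ∈ Z₀) →
      ∃ k : ℕ, n = Nat.card (Subgroup.center P) * r ^ (2 * k) := by
  induction n using Nat.strong_induction_on with
  | _ n ih =>
    intro P _ _ hn Z₀ hZ hz hc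
    by_cases hex : ∃ x y : P, ⁅x, y⁆ ≠ 1
    swap
    · -- abelian
      push Not at hex
      have htop : Subgroup.center P = ⊤ := by
        rw [eq_top_iff]
        intro c _
        rw [Subgroup.mem_center_iff]
        intro g
        exact commutatorElement_eq_one_iff_mul_comm.mp (hex g c)
      refine ⟨0, ?_⟩
      rw [htop, Subgroup.card_top, hn]
      simp
    obtain ⟨x, y, hxy⟩ := hex
    have hyx : ⁅y, x⁆ ≠ 1 := by
      intro h
      apply hxy
      rw [← commutatorElement_inv, h, inv_one]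
    obtain ⟨Cx, hCx⟩ : ∃ Cx : Subgroup P, Cx = Subgroup.centralizer ({x} : Set P) := ⟨_, rfl⟩
    obtain ⟨Cy, hCy⟩ : ∃ Cy : Subgroup P, Cy = Subgroup.centralizer ({y} : Set P) := ⟨_, rfl⟩
    have memCx : ∀ g : P, g ∈ Cx ↔ x * g = g * x := fun g => by
      rw [hCx]; exact mem_centralizer_singleton_iff' x g
    have memCy : ∀ g : P, g ∈ Cy ↔ y * g = g * y := fun g => by
      rw [hCy]; exact mem_centralizer_singleton_iff' y g
    have hxCx : x ∈ Cx := (memCx x).mpr rfl
    have hxCy : x ∉ Cy := by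
      rw [memCy, ← commutatorElement_eq_one_iff_mul_comm]
      exact hyx
    have hyCx : y ∉ Cx := by
      rw [memCx, ← commutatorElement_eq_one_iff_mul_comm]
      exact hxy
    have idx1 : Cx.relIndex ⊤ = r := by
      rw [hCx]
      exact relIndex_centralizer_eq_prime hr Z₀ hZ hc hz x ⊤ y (Subgroup.mem_top y) hxy
    have idx1' : Cx.index = r := by rw [← Subgroup.relIndex_top_right]; exact idx1
    have idx2 : Cy.relIndex Cx = r := by
      rw [hCy]
      exact relIndex_centralizer_eq_prime hr Z₀ hZ hc hz y Cx x hxCx hyx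
    have idx2' : (Cx ⊓ Cy).relIndex Cx = r := by rw [Subgroup.inf_relIndex_left]; exact idx2
    have hcard1 : Nat.card ↥(Cx ⊓ Cy) * r = Nat.card Cx := by
      have := Subgroup.relIndex_mul_relIndex (⊥ : Subgroup P) (Cx ⊓ Cy) Cx bot_le inf_le_left
      rw [Subgroup.relIndex_bot_left, Subgroup.relIndex_bot_left, idx2'] at this
      exact this
    have hcard2 : Nat.card Cx * r = n := by
      rw [← idx1', Subgroup.card_mul_index, hn]
    have hZle : Subgroup.center P ≤ Cx ⊓ Cy := by
      intro z hzc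
      have hzc' := Subgroup.mem_center_iff.mp hzc
      rw [Subgroup.mem_inf, memCx, memCy]
      exact ⟨hzc' x, hzc' y⟩
    have hcenter : ∀ c : ↥(Cx ⊓ Cy), c ∈ Subgroup.center ↥(Cx ⊓ Cy) ↔
        (c : P) ∈ Subgroup.center P := by
      intro c
      constructor
      · intro hcc
        have hcc' := Subgroup.mem_center_iff.mp hcc
        obtain ⟨K, hK⟩ : ∃ K : Subgroup P, K = Subgroup.centralizer ({(c : P)} : Set P) := ⟨_, rfl⟩
        have hCK : Cx ⊓ Cy ≤ K := by
          intro g hg
          rw [hK, mem_centralizer_singleton_iff']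
          have := congrArg Subtype.val (hcc' ⟨g, hg⟩)
          simp only [Subgroup.coe_mul] at this
          exact this.symm
        obtain ⟨hc1, hc2⟩ := Subgroup.mem_inf.mp c.2
        have hxK : x ∈ K := by
          rw [hK, mem_centralizer_singleton_iff']; exact ((memCx _).mp hc1).symm
        have hyK : y ∈ K := by
          rw [hK, mem_centralizer_singleton_iff']; exact ((memCy _).mp hc2).symm
        have h1 : Cx ≤ K ⊓ Cx := by
          apply le_of_relIndex_prime hr (le_inf hCK inf_le_left) inf_le_right idx2'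
          intro hle
          exact hxCy (hle ⟨hxK, hxCx⟩).2
        have h2 : (⊤ : Subgroup P) ≤ K := by
          apply le_of_relIndex_prime hr (h1.trans inf_le_left) le_top idx1
          intro hle
          exact hyCx (hle hyK)
        rw [Subgroup.mem_center_iff]
        intro g
        have := h2 (Subgroup.mem_top g)
        rw [hK, mem_centralizer_singleton_iff'] at this
        exact this.symm
      · intro hcc
        have hcc' := Subgroup.mem_center_iff.mp hcc
        rw [Subgroup.mem_center_iff]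
        intro g
        apply Subtype.ext
        simp only [Subgroup.coe_mul]
        exact hcc' g
    have hmap : (Subgroup.center ↥(Cx ⊓ Cy)).map (Cx ⊓ Cy).subtype = Subgroup.center P := by
      ext z
      rw [Subgroup.mem_map]
      constructor
      · rintro ⟨c, hcc, rfl⟩
        exact (hcenter c).mp hcc
      · intro hzc
        exact ⟨⟨z, hZle hzc⟩, (hcenter _).mpr hzc, rfl⟩
    have hzC : Nat.card (Subgroup.center ↥(Cx ⊓ Cy)) = Nat.card (Subgroup.center P) := by
      rw [← Subgroup.card_map_of_injective (Cx ⊓ Cy).subtype_injective, hmap]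
    -- the induction
    have hlt : Nat.card ↥(Cx ⊓ Cy) < n := by
      have hpos : 0 < Nat.card ↥(Cx ⊓ Cy) := Nat.card_pos
      have hr1 := hr.one_lt
      rw [← hcard2, ← hcard1]
      nlinarith
    have hZ₀le : Z₀ ≤ Cx ⊓ Cy := hZ.trans hZle
    have hZ' : Z₀.subgroupOf (Cx ⊓ Cy) ≤ Subgroup.center ↥(Cx ⊓ Cy) := by
      intro c hcm
      rw [hcenter]
      exact hZ (Subgroup.mem_subgroupOf.mp hcm)
    have hz' : Nat.card (Z₀.subgroupOf (Cx ⊓ Cy)) = r := by
      rw [← hz]
      exact Nat.card_congr (Subgroup.subgroupOfEquivOfLe hZ₀le).toEquiv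
    have hc' : ∀ a b : ↥(Cx ⊓ Cy), ⁅a, b⁆ ∈ Z₀.subgroupOf (Cx ⊓ Cy) := by
      intro a b
      rw [Subgroup.mem_subgroupOf]
      have : ((⁅a, b⁆ : ↥(Cx ⊓ Cy)) : P) = ⁅(a : P), (b : P)⁆ := by
        simp [commutatorElement_def]
      rw [this]
      exact hc _ _
    obtain ⟨k, hk⟩ := ih _ hlt ↥(Cx ⊓ Cy) rfl (Z₀.subgroupOf (Cx ⊓ Cy)) hZ' hz' hc'
    refine ⟨k + 1, ?_⟩
    rw [← hcard2, ← hcard1, hk, hzC]
    ring

/-- A finite group whose commutators all lie in a central subgroup of prime order `r` has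
`|P| = |Z(P)| * r ^ (2 k)`. -/
theorem card_eq_center_mul {P : Type u} [Group P] [Finite P] {r : ℕ} (hr : r.Prime)
    (Z₀ : Subgroup P) (hZ : Z₀ ≤ Subgroup.center P) (hz : Nat.card Z₀ = r)
    (hc : ∀ x y : P, ⁅x, y⁆ ∈ Z₀) :
    ∃ k : ℕ, Nat.card P = Nat.card (Subgroup.center P) * r ^ (2 * k) :=
  card_eq_aux r hr (Nat.card P) P rfl Z₀ hZ hz hc

end Cfsg.Agent.Lib.Helper17.Class2Sq
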