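import Mathlib

/-!
helper17: automorphisms of an elementary abelian `r`-group of order `r^n`: their number is
`|GL_n(r)| = ∏ i < n, (r^n - r^i)`.
-/

set_option autoImplicit false
set_option linter.style.haveILetI false

namespace Cfsg.Agent.Lib.Helper17.ElemAbGL

theorem linearEquiv_equiv_GL (r : ℕ) [Fact r.Prime] (M : Type*) [AddCommGroup M]
    [Module (ZMod r) M] [Finite M] (n : ℕ) (hcard : Nat.card M = r ^ n) :
    Nonempty ((M ≃ₗ[ZMod r] M) ≃* Matrix.GeneralLinearGroup (Fin n) (ZMod r)) := by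
  have hr : r.Prime := Fact.out
  haveI : Module.Finite (ZMod r) M := Module.Finite.of_finite
  have hfr : Module.finrank (ZMod r) M = n := by
    have h3 := Module.natCard_eq_pow_finrank (K := ZMod r) (V := M)
    rw [hcard, Nat.card_zmod] at h3
    exact (Nat.pow_right_injective hr.two_le h3).symm
  let b : Module.Basis (Fin n) (ZMod r) M := Module.finBasisOfFinrankEq (ZMod r) M hfr
  let e3 := (LinearMap.GeneralLinearGroup.generalLinearEquiv (ZMod r) M).symm
  let e4 := Matrix.GeneralLinearGroup.toLin' b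
  exact ⟨e3.trans e4.symm⟩

/-- the order of `GL_n(r)` as a product over `Finset.range` -/
theorem card_GL (r : ℕ) [Fact r.Prime] (n : ℕ) :
    Nat.card (Matrix.GeneralLinearGroup (Fin n) (ZMod r)) =
      ∏ i ∈ Finset.range n, (r ^ n - r ^ i) := by
  rw [Matrix.card_GL_field, ZMod.card, Finset.prod_range]

/-- additive automorphisms of a `ZMod r`-module are linear -/
def addAutEquiv (r : ℕ) (M : Type*) [AddCommGroup M] [Module (ZMod r) M] :
    (M ≃+ M) ≃ (M ≃ₗ[ZMod r] M) where
  toFun f := f.toLinearEquiv (fun c x => ZMod.map_smul f c x)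
  invFun g := g.toAddEquiv
  left_inv f := by ext x; rfl
  right_inv g := by ext x; rfl

theorem card_addAut (r : ℕ) [Fact r.Prime] (M : Type*) [AddCommGroup M] [Finite M]
    (h : ∀ x : M, r • x = 0) (n : ℕ) (hcard : Nat.card M = r ^ n) :
    Nat.card (M ≃+ M) = ∏ i ∈ Finset.range n, (r ^ n - r ^ i) := by
  obtain ⟨iM⟩ : Nonempty (Module (ZMod r) M) := ⟨AddCommGroup.zmodModule h⟩
  obtain ⟨e⟩ := linearEquiv_equiv_GL r M n hcard
  have h1 : Nat.card (M ≃+ M) = Nat.card (M ≃ₗ[ZMod r] M) := Nat.card_congr (addAutEquiv r M)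
  have h2 : Nat.card (M ≃ₗ[ZMod r] M) = Nat.card (Matrix.GeneralLinearGroup (Fin n) (ZMod r)) :=
    Nat.card_congr (MulEquiv.toEquiv e)
  rw [h1, h2, card_GL]

theorem card_mulAut (r : ℕ) [Fact r.Prime] {A : Type*} [Group A] [Finite A]
    (hc : ∀ a b : A, a * b = b * a)
    (hs : ∀ a : A, a ^ r = 1) (n : ℕ) (hcard : Nat.card A = r ^ n) :
    Nat.card (MulAut A) = ∏ i ∈ Finset.range n, (r ^ n - r ^ i) := by
  letI : CommGroup A := { ‹Group A› with mul_comm := hc }
  haveI : Finite (Additive A) := inferInstanceAs (Finite A)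
  have h4 : Nat.card (Additive A) = r ^ n := hcard
  have h5 : ∀ x : Additive A, r • x = 0 := fun v =>
    congrArg Additive.ofMul (hs (Additive.toMul v))
  have h6 := card_addAut r (Additive A) h5 n h4
  rw [← h6]
  exact Nat.card_congr (MulEquiv.toAdditive (G := A) (H := A))

end Cfsg.Agent.Lib.Helper17.ElemAbGL
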