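import Mathlib
import Cfsg.Agent.Lib.Helper17.ElemAbGL
import Cfsg.Agent.Lib.Helper17.Class2Sq

/-!
helper17: `A ≤ N` subgroups of a finite group `P`, `A` central cyclic, `N` normal, `N/A` elementary
abelian of order `r^j`, `C_P(N) ≤ A`.  Then the kernel of the action of `P` on `N/A` is `N`
(duality for finite abelian groups), hence `|P|` divides `|N| * |GL_j(r)|`.
-/

set_option autoImplicit false
set_option linter.style.haveILetI false

namespace Cfsg.Agent.Lib.Helper17.Class2Aut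

open scoped commutatorElement
open Cfsg.Agent.Lib.Helper17.Class2Sq

variable {P : Type*} [Group P]

theorem normal_of_le_center {A : Subgroup P} (hA : A ≤ Subgroup.center P) : A.Normal := by
  refine ⟨fun a ha g => ?_⟩
  have h := Subgroup.mem_center_iff.mp (hA ha) g
  have : g * a * g⁻¹ = a := by rw [h, mul_assoc, mul_inv_cancel, mul_one]
  rw [this]
  exact ha

/-- the commutator homomorphism `x ↦ ⁅g, x⁆` from `N` to the central subgroup `A` -/
def tHom {A N : Subgroup P} (hA : A ≤ Subgroup.center P) (g : P)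
    (hg : ∀ x ∈ N, ⁅g, x⁆ ∈ A) : N →* A where
  toFun x := ⟨⁅g, (x : P)⁆, hg x x.2⟩
  map_one' := by
    apply Subtype.ext
    simp [commutatorElement_def]
  map_mul' x y := by
    apply Subtype.ext
    simp only [Subgroup.coe_mul]
    rw [commElt_mul_right]
    have hz := Subgroup.mem_center_iff.mp (hA (hg y y.2)) (x : P)
    rw [hz, mul_assoc, mul_inv_cancel, mul_one]

theorem tHom_apply {A N : Subgroup P} (hA : A ≤ Subgroup.center P) (g : P)
    (hg : ∀ x ∈ N, ⁅g, x⁆ ∈ A) (x : N) : ((tHom hA g hg x : A) : P) = ⁅g, (x : P)⁆ := rfl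

theorem commute_of_commutator_eq {g y x : P} (h : ⁅g, x⁆ = ⁅y, x⁆) :
    (y⁻¹ * g) * x = x * (y⁻¹ * g) := by
  simp only [commutatorElement_def] at h
  have h1 : g * x * g⁻¹ = y * x * y⁻¹ := by
    have := congrArg (fun t => t * x) h
    simpa [mul_assoc] using this
  calc (y⁻¹ * g) * x = y⁻¹ * (g * x * g⁻¹) * g := by group
    _ = y⁻¹ * (y * x * y⁻¹) * g := by rw [h1]
    _ = x * (y⁻¹ * g) := by group

variable [Finite P]

/-- **Main lemma.** -/
theorem card_dvd (r : ℕ) [Fact r.Prime] (A N : Subgroup P) [hNn : N.Normal]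
    (hA : A ≤ Subgroup.center P) (hAN : A ≤ N) [IsCyclic A] (hrA : r ∣ Nat.card A)
    (hcomm : ∀ x ∈ N, ∀ y ∈ N, ⁅x, y⁆ ∈ A) (hexp : ∀ x ∈ N, x ^ r ∈ A)
    (hcent : ∀ g : P, (∀ x ∈ N, g * x = x * g) → g ∈ A)
    (j : ℕ) (hcard : Nat.card N = Nat.card A * r ^ j) :
    Nat.card P ∣ Nat.card N * ∏ i ∈ Finset.range j, (r ^ j - r ^ i) := by
  have hr : r.Prime := Fact.out
  haveI hAn : A.Normal := normal_of_le_center hA
  obtain ⟨π, hπ⟩ : ∃ π : P →* P ⧸ A, π = QuotientGroup.mk' A := ⟨_, rfl⟩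
  have hπsurj : Function.Surjective π := by rw [hπ]; exact QuotientGroup.mk'_surjective A
  have hπ1 : ∀ x : P, π x = 1 ↔ x ∈ A := by
    intro x
    rw [hπ]
    exact QuotientGroup.eq_one_iff x
  have hπeq : ∀ x y : P, π x = π y ↔ x⁻¹ * y ∈ A := by
    intro x y
    rw [← hπ1, map_mul, map_inv, inv_mul_eq_one]
  obtain ⟨E, hE⟩ : ∃ E : Subgroup (P ⧸ A), E = N.map π := ⟨_, rfl⟩
  haveI hEn : E.Normal := by rw [hE]; exact Subgroup.Normal.map hNn π hπsurj
  have hEmem : ∀ x ∈ N, π x ∈ E := by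
    intro x hx
    rw [hE]
    exact Subgroup.mem_map_of_mem π hx
  -- `E` is elementary abelian
  have hEcomm : ∀ u v : E, u * v = v * u := by
    rintro ⟨u, hu⟩ ⟨v, hv⟩
    rw [hE] at hu hv
    obtain ⟨x, hx, rfl⟩ := hu
    obtain ⟨y, hy, rfl⟩ := hv
    apply Subtype.ext
    show π x * π y = π y * π x
    rw [← map_mul, ← map_mul, hπeq]
    have := hcomm x⁻¹ (inv_mem hx) y⁻¹ (inv_mem hy)
    have h2 : (x * y)⁻¹ * (y * x) = ⁅y⁻¹, x⁻¹⁆ := by
      simp only [commutatorElement_def]; group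
    rw [h2]
    exact hcomm y⁻¹ (inv_mem hy) x⁻¹ (inv_mem hx)
  have hEexp : ∀ u : E, u ^ r = 1 := by
    rintro ⟨u, hu⟩
    rw [hE] at hu
    obtain ⟨x, hx, rfl⟩ := hu
    apply Subtype.ext
    show (π x) ^ r = 1
    rw [← map_pow, hπ1]
    exact hexp x hx
  -- the surjection `N → E`
  obtain ⟨f, hf⟩ : ∃ f : N →* E, ∀ x : N, ((f x : E) : P ⧸ A) = π x :=
    ⟨(π.comp N.subtype).codRestrict E (fun x => hEmem x x.2), fun x => rfl⟩
  have hfsurj : Function.Surjective f := by
    rintro ⟨u, hu⟩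
    rw [hE] at hu
    obtain ⟨x, hx, rfl⟩ := hu
    exact ⟨⟨x, hx⟩, Subtype.ext (hf _)⟩
  have hfker : ∀ x : N, x ∈ f.ker ↔ (x : P) ∈ A := by
    intro x
    rw [MonoidHom.mem_ker, ← hπ1, ← hf]
    exact ⟨fun h => congrArg Subtype.val h, fun h => Subtype.ext h⟩
  have hcardE : Nat.card E = r ^ j := by
    have h1 : Nat.card f.ker * f.ker.index = Nat.card N := Subgroup.card_mul_index _
    rw [Subgroup.index_ker, MonoidHom.range_eq_top.mpr hfsurj, Subgroup.card_top] at h1
    have h2 : f.ker = A.subgroupOf N := by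
      ext x
      rw [hfker, Subgroup.mem_subgroupOf]
    have h3 : Nat.card (A.subgroupOf N) = Nat.card A :=
      Nat.card_congr (Subgroup.subgroupOfEquivOfLe hAN).toEquiv
    rw [h2, h3, hcard] at h1
    exact Nat.eq_of_mul_eq_mul_left Nat.card_pos h1
  -- the action on `E`
  obtain ⟨φ, hφ⟩ : ∃ φ : P →* MulAut E, φ = (MulAut.conjNormal (H := E)).comp π := ⟨_, rfl⟩
  have hφapp : ∀ (g : P) (u : E), ((φ g u : E) : P ⧸ A) = π g * u * (π g)⁻¹ := by
    intro g u
    rw [hφ]
    rfl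
  -- commutators of the kernel with `N` lie in `A`
  have hkerA : ∀ g ∈ φ.ker, ∀ x ∈ N, ⁅g, x⁆ ∈ A := by
    intro g hg x hx
    rw [MonoidHom.mem_ker] at hg
    have h1 := hφapp g ⟨π x, hEmem x hx⟩
    rw [hg] at h1
    simp only [MulAut.one_apply] at h1
    rw [← hπ1, commutatorElement_def, map_mul, map_mul, map_mul, map_inv, map_inv, ← h1]
    group
  have hNker : N ≤ φ.ker := by
    intro x hx
    rw [MonoidHom.mem_ker]
    apply MulEquiv.ext
    intro u
    apply Subtype.ext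
    rw [hφapp, MulAut.one_apply]
    have h1 := hEcomm ⟨π x, hEmem x hx⟩ u
    have h2 : π x * (u : P ⧸ A) = u * π x := congrArg Subtype.val h1
    rw [h2, mul_assoc, mul_inv_cancel, mul_one]
  -- duality
  letI iEc : CommGroup E := { (inferInstance : Group E) with mul_comm := hEcomm }
  letI iAc : CommGroup A :=
    { (inferInstance : Group A) with
      mul_comm := fun a b => Subtype.ext (Subgroup.mem_center_iff.mp (hA b.2) (a : P)) }
  haveI : NeZero r := ⟨hr.ne_zero⟩
  haveI hroots : HasEnoughRootsOfUnity A r := by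
    refine ⟨?_, ?_⟩
    · obtain ⟨ζ, hζ⟩ := exists_prime_orderOf_dvd_card' (G := A) r hrA
      exact ⟨ζ, hζ ▸ IsPrimitiveRoot.orderOf ζ⟩
    · haveI : IsCyclic (A)ˣ := isCyclic_of_surjective (toUnits (G := A)) (toUnits (G := A)).surjective
      infer_instance
  have hexpE : Monoid.exponent E ∣ r := Monoid.exponent_dvd_of_forall_pow_eq_one hEexp
  haveI : HasEnoughRootsOfUnity A (Monoid.exponent E) := HasEnoughRootsOfUnity.of_dvd A hexpE
  have hdual : Nat.card (E →* (A)ˣ) = Nat.card E :=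
    CommGroup.card_monoidHom_of_hasEnoughRootsOfUnity E A
  -- the homomorphisms `T g`
  have hTex : ∀ (g : P) (hg : ∀ x ∈ N, ⁅g, x⁆ ∈ A), ∃ T : E →* (A)ˣ,
      ∀ x : N, (((T (f x) : (A)ˣ) : A) : P) = ⁅g, (x : P)⁆ := by
    intro g hg
    have hk : f.ker ≤ (tHom hA g hg).ker := by
      intro x hx
      rw [hfker] at hx
      rw [MonoidHom.mem_ker]
      apply Subtype.ext
      rw [tHom_apply]
      have := Subgroup.mem_center_iff.mp (hA hx) g
      show ⁅g, (x : P)⁆ = 1
      rw [commutatorElement_eq_one_iff_mul_comm]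
      exact this
    refine ⟨(toUnits (G := A)).toMonoidHom.comp
      (f.liftOfRightInverse (Function.surjInv hfsurj) (Function.rightInverse_surjInv hfsurj)
        ⟨tHom hA g hg, hk⟩), ?_⟩
    intro x
    show ((((f.liftOfRightInverse (Function.surjInv hfsurj) (Function.rightInverse_surjInv hfsurj)
        ⟨tHom hA g hg, hk⟩) (f x) : A)) : P) = _
    rw [MonoidHom.liftOfRightInverse_comp_apply]
    rfl
  choose T hT using hTex
  -- the map `E → Hom(E, Aˣ)`
  have hsN : ∀ u : E, ∀ x ∈ N, ⁅((Function.surjInv hfsurj u : N) : P), x⁆ ∈ A :=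
    fun u x hx => hcomm _ (Function.surjInv hfsurj u).2 x hx
  obtain ⟨Φ, hΦ⟩ : ∃ Φ : E → (E →* (A)ˣ), ∀ u, Φ u = T _ (hsN u) := ⟨_, fun u => rfl⟩
  have hΦinj : Function.Injective Φ := by
    intro u v huv
    rw [hΦ, hΦ] at huv
    have h1 : ∀ x ∈ N, ⁅((Function.surjInv hfsurj u : N) : P), x⁆ =
        ⁅((Function.surjInv hfsurj v : N) : P), x⁆ := by
      intro x hx
      rw [← hT _ (hsN u) ⟨x, hx⟩, ← hT _ (hsN v) ⟨x, hx⟩, huv]
    have h2 : ((Function.surjInv hfsurj v : N) : P)⁻¹ * ((Function.surjInv hfsurj u : N) : P) ∈ A :=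
      hcent _ (fun x hx => commute_of_commutator_eq (h1 x hx))
    have h3 : π ((Function.surjInv hfsurj v : N) : P) = π ((Function.surjInv hfsurj u : N) : P) :=
      (hπeq _ _).mpr h2
    rw [← hf, ← hf, Function.surjInv_eq hfsurj, Function.surjInv_eq hfsurj] at h3
    exact (Subtype.ext h3).symm
  have hΦsurj : Function.Surjective Φ :=
    (hΦinj.bijective_of_nat_card_le hdual.le).2
  -- the kernel is `N`
  have hkerN : φ.ker = N := by
    apply le_antisymm _ hNker
    intro g hg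
    obtain ⟨u, hu⟩ := hΦsurj (T g (hkerA g hg))
    rw [hΦ] at hu
    have h1 : ∀ x ∈ N, ⁅g, x⁆ = ⁅((Function.surjInv hfsurj u : N) : P), x⁆ := by
      intro x hx
      rw [← hT _ (hsN u) ⟨x, hx⟩, ← hT g (hkerA g hg) ⟨x, hx⟩, hu]
    have h2 : ((Function.surjInv hfsurj u : N) : P)⁻¹ * g ∈ A :=
      hcent _ (fun x hx => commute_of_commutator_eq (h1 x hx))
    have h3 : g = ((Function.surjInv hfsurj u : N) : P) *
        (((Function.surjInv hfsurj u : N) : P)⁻¹ * g) := by group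
    rw [h3]
    exact mul_mem (Function.surjInv hfsurj u).2 (hAN h2)
  -- the count
  have h1 : Nat.card φ.ker * φ.ker.index = Nat.card P := Subgroup.card_mul_index _
  rw [Subgroup.index_ker, hkerN] at h1
  rw [← h1]
  apply Nat.mul_dvd_mul_left
  rw [← ElemAbGL.card_mulAut r hEcomm hEexp j hcardE]
  exact Subgroup.card_subgroup_dvd_card _

end Cfsg.Agent.Lib.Helper17.Class2Aut
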