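/-
Helper lemmas (helper17): the context `Ctx` obtained from a split with the one-sided class
product property, and its basic consequences (the family `F` of non-`A` elements is an abelian
normal subgroup).
-/
import Mathlib
import Cfsg.Agent.Lib.Helper17.ClassGraph2

set_option autoImplicit false

namespace Cfsg.Agent.Lib.Helper17.ClassGraph

open scoped commutatorElement

variable {G : Type*} [Group G]

/-- The context: a split `A`, `B` together with a normal subgroup `T` and the subgroup `F` of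
non-`A` elements. -/
structure Ctx (A B : G → Prop) where
  T : Subgroup G
  F : Subgroup G
  split : Split A B
  Tn : T.Normal
  Fn : F.Normal
  memF : ∀ g : G, g ∈ F ↔ ¬ A g
  commT : ∀ f ∈ F, ∀ g : G, ⁅g, f⁆ ∈ T
  centT : ∀ f ∈ F, T ≤ Subgroup.centralizer ({f} : Set G)
  clT : ∀ x : G, A x → ∀ t ∈ T, x * t ∈ cl x
  dvdT : ∀ x : G, A x → Nat.card T ∣ ind x
  exA : ∃ a : G, A a
  exB : ∃ b : G, B b

theorem ind_one : ind (1 : G) = 1 := by
  rw [ind_eq_one_iff]; exact Subgroup.one_mem _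

theorem comm_eq_one_of_central {f : G} (hf : f ∈ Subgroup.center G) (g : G) : ⁅g, f⁆ = 1 := by
  rw [commutatorElement_eq_one_iff_commute]
  exact (Subgroup.mem_center_iff.mp hf g)

theorem comm_mul_right (g a b : G) : ⁅g, a * b⁆ = ⁅g, a⁆ * (a * ⁅g, b⁆ * a⁻¹) := by
  simp only [commutatorElement_def]; group

theorem comm_mul_left (a b u : G) : ⁅a * b, u⁆ = a * ⁅b, u⁆ * a⁻¹ * ⁅a, u⁆ := by
  simp only [commutatorElement_def]; group

theorem Split.exists_ctx [Finite G] {A B : G → Prop} (h : Split A B) (hA : ∃ a : G, A a)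
    (hB : ∃ b : G, B b)
    (hQ : ∀ x b : G, A x → B b → ∀ g : G, ⁅g, b⁆ ∈ rstab (cl x)) : Nonempty (Ctx A B) := by
  classical
  let T : Subgroup G := ⨅ x : {x : G // A x}, rstab (cl x.1)
  have Tn : T.Normal := Subgroup.normal_iInf_normal (fun x => rstab_cl_normal x.1)
  have hT2 : ∀ b : G, B b → ∀ g : G, ⁅g, b⁆ ∈ T := fun b hb g =>
    Subgroup.mem_iInf.mpr (fun x => hQ x.1 b x.2 hb g)
  have hT3 : ∀ x : G, A x → ∀ t ∈ T, x * t ∈ cl x := by
    intro x hx t ht
    have h1 : t ∈ rstab (cl x) := (Subgroup.mem_iInf.mp ht) ⟨x, hx⟩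
    exact (h1 x).mp (self_mem_cl x)
  have hT4 : ∀ x : G, A x → Nat.card T ∣ ind x := by
    intro x hx
    exact dvd_trans (Subgroup.card_dvd_of_le (iInf_le _ (⟨x, hx⟩ : {x : G // A x})))
      (card_rstab_cl_dvd x)
  obtain ⟨a₀, ha₀⟩ := hA
  have hT5 : ∀ b : G, B b → (Nat.card T).Coprime (ind b) := fun b hb =>
    Nat.Coprime.coprime_dvd_left (hT4 a₀ ha₀) (h.cop a₀ b ha₀ hb)
  have hT6 : ∀ b : G, B b → T ≤ Subgroup.centralizer ({b} : Set G) := fun b hb =>
    le_centralizer_of_coprime T b (hT5 b hb)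
  have hA1 : ¬ A (1 : G) := fun h1 => h.neA 1 h1 ind_one
  let F : Subgroup G :=
    { carrier := {g | ¬ A g}
      one_mem' := hA1
      inv_mem' := by
        intro g hg hg'
        exact hg (h.monoA g⁻¹ g (by rw [ind_inv]) hg')
      mul_mem' := by
        intro g₁ g₂ h1 h2 hx
        change ¬ A g₁ at h1
        change ¬ A g₂ at h2
        change A (g₁ * g₂) at hx
        by_cases c1 : ind g₁ = 1
        · rw [ind_eq_one_iff] at c1
          exact h2 (h.monoA _ _ (by rw [ind_central_mul c1]) hx)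
        by_cases c2 : ind g₂ = 1
        · rw [ind_eq_one_iff] at c2
          exact h1 (h.monoA _ _ (by rw [ind_mul_central c2]) hx)
        have b1 : B g₁ := (h.cov g₁ c1).resolve_left h1
        have b2 : B g₂ := (h.cov g₂ c2).resolve_left h2
        have hcT : ∀ g : G, ⁅g, g₁ * g₂⁆ ∈ T := by
          intro g
          rw [comm_mul_right]
          exact T.mul_mem (hT2 g₁ b1 g) (Tn.conj_mem _ (hT2 g₂ b2 g) g₁)
        have le1 : ind (g₁ * g₂) ≤ Nat.card T := ind_le_card_of_comm_mem T _ hcT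
        have le3 : ind g₂ ≤ Nat.card T := ind_le_card_of_comm_mem T g₂ (hT2 g₂ b2)
        have le2 : Nat.card T ≤ ind (g₁ * g₂) := Nat.le_of_dvd (ind_pos _) (hT4 _ hx)
        have b1' : B g₁⁻¹ := h.monoB g₁ _ (by rw [ind_inv]) b1
        have le4 : ind (g₁ * g₂) ≤ ind g₂ := by
          have := ind_le_ind_mul' (h.cop _ _ hx b1')
          rwa [inv_mul_cancel_left] at this
        have e : ind (g₁ * g₂) = ind g₂ := by omega
        have hc := h.cop _ _ hx b2
        rw [e, Nat.coprime_self] at hc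
        exact c2 hc }
  have memF : ∀ g : G, g ∈ F ↔ ¬ A g := fun g => Iff.rfl
  have Fn : F.Normal := by
    constructor
    intro f hf g hA'
    exact hf (h.monoA _ f (by rw [ind_conj]) hA')
  have commT : ∀ f ∈ F, ∀ g : G, ⁅g, f⁆ ∈ T := by
    intro f hf g
    by_cases c1 : ind f = 1
    · rw [ind_eq_one_iff] at c1
      rw [comm_eq_one_of_central c1]; exact T.one_mem
    · exact hT2 f ((h.cov f c1).resolve_left hf) g
  have centT : ∀ f ∈ F, T ≤ Subgroup.centralizer ({f} : Set G) := by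
    intro f hf
    by_cases c1 : ind f = 1
    · rw [ind, Subgroup.index_eq_one] at c1
      rw [c1]; exact le_top
    · exact hT6 f ((h.cov f c1).resolve_left hf)
  exact ⟨⟨T, F, h, Tn, Fn, memF, commT, centT, hT3, hT4, ⟨a₀, ha₀⟩, hB⟩⟩

namespace Ctx

variable {A B : G → Prop} (c : Ctx A B)

theorem not_A_of_mem_T {t : G} (ht : t ∈ c.T) : ¬ A t := by
  intro hA
  have h1 := c.clT t hA t⁻¹ (c.T.inv_mem ht)
  rw [mul_inv_cancel] at h1
  obtain ⟨g, hg'⟩ := h1
  have hg : g * t * g⁻¹ = 1 := hg'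
  have h2 : t = 1 := by
    have : g⁻¹ * (g * t * g⁻¹) * g = g⁻¹ * 1 * g := by rw [hg]
    simpa [mul_assoc] using this
  rw [h2] at hA
  exact c.split.neA 1 hA ind_one

theorem T_le_F : c.T ≤ c.F := fun _ ht => (c.memF _).mpr (c.not_A_of_mem_T ht)

theorem center_le_F : Subgroup.center G ≤ c.F := by
  intro z hz
  rw [c.memF]
  intro hA
  exact c.split.neA z hA ((ind_eq_one_iff z).mpr hz)

theorem B_of_mem {f : G} (hf : f ∈ c.F) (h1 : ind f ≠ 1) : B f :=
  (c.split.cov f h1).resolve_left ((c.memF f).mp hf)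

theorem A_of_not_mem {f : G} (hf : f ∉ c.F) : A f := by
  by_contra h
  exact hf ((c.memF f).mpr h)

theorem not_mem_of_A {f : G} (hf : A f) : f ∉ c.F := fun h => (c.memF f).mp h hf

theorem mem_of_B {f : G} (hf : B f) : f ∈ c.F :=
  (c.memF f).mpr (fun hA => c.split.not_both f hA hf)

theorem commute_T_F {t f : G} (ht : t ∈ c.T) (hf : f ∈ c.F) : Commute t f := by
  have := c.centT f hf ht
  rw [mem_centralizer_singleton] at this
  exact this

theorem comm_mem_T {f : G} (hf : f ∈ c.F) (u : G) : ⁅f, u⁆ ∈ c.T := by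
  have := c.T.inv_mem (c.commT f hf u)
  rwa [commutatorElement_inv] at this

theorem cop_card [Finite G] {b : G} (hb : B b) : (Nat.card c.T).Coprime (ind b) := by
  obtain ⟨a₀, ha₀⟩ := c.exA
  exact Nat.Coprime.coprime_dvd_left (c.dvdT a₀ ha₀) (c.split.cop a₀ b ha₀ hb)

theorem pow_mem_center [Finite G] {f : G} (hf : f ∈ c.F) :
    f ^ Nat.card c.T ∈ Subgroup.center G :=
  pow_card_mem_center c.T f (c.centT f hf) (c.commT f hf)

/-- `f ↦ [f, u]` is a homomorphism from `F` to `F` (with image in `T`). -/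
noncomputable def psi (u : G) : ↥c.F →* ↥c.F :=
  MonoidHom.mk' (fun f => ⟨⁅(f : G), u⁆, c.T_le_F (c.comm_mem_T f.2 u)⟩) (by
    intro f₁ f₂
    apply Subtype.ext
    change ⁅(f₁ : G) * (f₂ : G), u⁆ = ⁅(f₁ : G), u⁆ * ⁅(f₂ : G), u⁆
    rw [comm_mul_left]
    have h1 : Commute ⁅(f₂ : G), u⁆ (f₁ : G) := c.commute_T_F (c.comm_mem_T f₂.2 u) f₁.2
    have h2 : Commute ⁅(f₂ : G), u⁆ ⁅(f₁ : G), u⁆ :=
      c.commute_T_F (c.comm_mem_T f₂.2 u) (c.T_le_F (c.comm_mem_T f₁.2 u))
    have e : (f₁ : G) * ⁅(f₂ : G), u⁆ * (f₁ : G)⁻¹ = ⁅(f₂ : G), u⁆ := by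
      rw [← h1.eq]; group
    rw [e, h2.eq])

theorem psi_apply (u : G) (f : ↥c.F) : ((c.psi u f : ↥c.F) : G) = ⁅(f : G), u⁆ := rfl

/-- `F` is abelian. -/
theorem commute_F [Finite G] {f b : G} (hf : f ∈ c.F) (hb : b ∈ c.F) : Commute f b := by
  by_cases c1 : ind b = 1
  · rw [ind_eq_one_iff] at c1
    exact (Subgroup.mem_center_iff.mp c1 f)
  have hB := c.B_of_mem hb c1
  have hcop := c.cop_card hB
  have := c.Fn
  -- the kernel of psi b is C_F(b)
  have hker : (c.psi b).ker = (Subgroup.centralizer ({b} : Set G)).subgroupOf c.F := by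
    ext f'
    rw [MonoidHom.mem_ker, Subgroup.mem_subgroupOf, mem_centralizer_singleton]
    constructor
    · intro h
      have h' := congrArg Subtype.val h
      rw [psi_apply, Subgroup.coe_one, commutatorElement_eq_one_iff_commute] at h'
      exact h'
    · intro h
      apply Subtype.ext
      rw [psi_apply, Subgroup.coe_one, commutatorElement_eq_one_iff_commute]
      exact h
  have h1 : (Subgroup.centralizer ({b} : Set G)).relIndex c.F ∣ Nat.card c.T := by
    have e1 : (Subgroup.centralizer ({b} : Set G)).relIndex c.F = (c.psi b).ker.index := by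
      rw [hker]; rfl
    rw [e1, Subgroup.index_ker]
    have hle : (c.psi b).range ≤ c.T.subgroupOf c.F := by
      rintro _ ⟨f', rfl⟩
      rw [Subgroup.mem_subgroupOf, psi_apply]
      exact c.comm_mem_T f'.2 b
    have e2 : Nat.card (c.T.subgroupOf c.F) = Nat.card c.T :=
      Nat.card_congr (Subgroup.subgroupOfEquivOfLe c.T_le_F).toEquiv
    rw [← e2]
    exact Subgroup.card_dvd_of_le hle
  have h2 := relIndex_dvd_index_of_normal' (Subgroup.centralizer ({b} : Set G)) c.F
  have h3 := Subgroup.relIndex_eq_one.mp (Nat.eq_one_of_dvd_coprimes hcop h1 h2)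
  have := h3 hf
  rw [mem_centralizer_singleton] at this
  exact this

/-- An element `y ∉ Z(G)` of order coprime to `|T|` has no non-central fixed points on `F`. -/
theorem central_of_commute [Finite G] {y f : G} (hy : (orderOf y).Coprime (Nat.card c.T))
    (hy1 : ind y ≠ 1) (hf : f ∈ c.F) (hyf : Commute y f) : f ∈ Subgroup.center G := by
  by_contra hfc
  have hf1 : ind f ≠ 1 := fun h => hfc ((ind_eq_one_iff f).mp h)
  have hBf := c.B_of_mem hf hf1
  have hyF : y ∉ c.F := by
    intro hyF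
    have h1 := c.pow_mem_center hyF
    obtain ⟨m, hm⟩ := exists_pow_eq_self_of_coprime hy.symm
    have h2 : y ∈ Subgroup.center G := by
      rw [← hm]; exact Subgroup.pow_mem _ h1 m
    exact hy1 ((ind_eq_one_iff y).mpr h2)
  have hAy := c.A_of_not_mem hyF
  have p1 : y ^ orderOf y ∈ Subgroup.center G := by
    rw [pow_orderOf_eq_one]; exact Subgroup.one_mem _
  have p2 := c.pow_mem_center hf
  have l1 := centralizer_mul_le hyf p1 p2 hy
  have l2 := centralizer_mul_le hyf.symm p2 p1 hy.symm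
  rw [← hyf.eq] at l2
  have a1 : A (y * f) := c.split.monoA y _ (ind_dvd_of_le l1) hAy
  have a2 : B (y * f) := c.split.monoB f _ (ind_dvd_of_le l2) hBf
  exact c.split.not_both _ a1 a2

end Ctx

end Cfsg.Agent.Lib.Helper17.ClassGraph
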