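/-
Helper lemmas (helper17): in the context `Ctx`, a complement `H = C_G(Q)` to the abelian normal
subgroup `F` modulo the centre; `H` acts fixed-point-freely on `F / Z(G)`.
-/
import Mathlib
import Cfsg.Agent.Lib.Helper17.ClassGraph3
import Cfsg.Agent.Lib.Helper22.Frobenius

set_option autoImplicit false

namespace Cfsg.Agent.Lib.Helper17.ClassGraph

open scoped commutatorElement

variable {G : Type*} [Group G]

theorem comm_central_mul {z : G} (hz : z ∈ Subgroup.center G) (f u : G) :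
    ⁅f, z * u⁆ = ⁅f, u⁆ := by
  have h1 : f * z = z * f := (Subgroup.mem_center_iff.mp hz f)
  have h2 : Commute z u := (Subgroup.mem_center_iff.mp hz u).symm
  rw [commutatorElement_def, commutatorElement_def, mul_inv_rev]
  calc f * (z * u) * f⁻¹ * (u⁻¹ * z⁻¹) = (f * z) * u * f⁻¹ * u⁻¹ * z⁻¹ := by group
    _ = z * (f * u * f⁻¹ * u⁻¹) * z⁻¹ := by rw [h1]; group
    _ = f * u * f⁻¹ * u⁻¹ := by
      have h3 : z * (f * u * f⁻¹ * u⁻¹) = (f * u * f⁻¹ * u⁻¹) * z :=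
        ((Subgroup.mem_center_iff.mp hz _)).symm
      rw [h3]; group

namespace Ctx

variable {A B : G → Prop} (c : Ctx A B)

/-- The data of a "complement modulo the centre". -/
structure Compl (H : Subgroup G) : Prop where
  center_le : Subgroup.center G ≤ H
  inf_le : c.F ⊓ H ≤ Subgroup.center G
  factor : ∀ g : G, ∃ f ∈ c.F, ∃ h ∈ H, g = f * h

theorem exists_compl [Finite G] : ∃ H : Subgroup G, c.Compl H ∧
    ∃ y₀ : G, (orderOf y₀).Coprime (Nat.card c.T) ∧ ind y₀ ≠ 1 := by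
  obtain ⟨b₀, hb₀⟩ := c.exB
  obtain ⟨q, hq, hqb⟩ := Nat.exists_prime_and_dvd (c.split.neB b₀ hb₀)
  have : Fact q.Prime := ⟨hq⟩
  have hqA : ∀ x : G, A x → ¬ q ∣ ind x := fun x hx hd =>
    hq.one_lt.ne' (Nat.eq_one_of_dvd_coprimes (c.split.cop x b₀ hx hb₀) hd hqb)
  have hqT : q.Coprime (Nat.card c.T) := by
    obtain ⟨a₀, ha₀⟩ := c.exA
    rw [Nat.Prime.coprime_iff_not_dvd hq]
    exact fun hd => hqA a₀ ha₀ (dvd_trans hd (c.dvdT a₀ ha₀))
  let Q : Sylow q G := default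
  have hy : ∃ y₀ ∈ (Q : Subgroup G), y₀ ∉ Subgroup.center G := by
    by_contra hcon
    push Not at hcon
    have h1 : (Q : Subgroup G) ≤ Subgroup.centralizer ({b₀} : Set G) := by
      intro y hy
      rw [mem_centralizer_singleton]
      exact (Subgroup.mem_center_iff.mp (hcon y hy) b₀).symm
    have h2 : ind b₀ ∣ (Q : Subgroup G).index := Subgroup.index_dvd_of_le h1
    exact Q.not_dvd_index (dvd_trans hqb h2)
  obtain ⟨y₀, hy₀Q, hy₀Z⟩ := hy
  have hy₀o : (orderOf y₀).Coprime (Nat.card c.T) := by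
    obtain ⟨k, hk⟩ := Q.isPGroup' ⟨y₀, hy₀Q⟩
    have hk' : y₀ ^ q ^ k = 1 := by
      have := congrArg Subtype.val hk
      rwa [Subgroup.coe_pow, Subgroup.coe_one] at this
    exact Nat.Coprime.coprime_dvd_left (orderOf_dvd_of_pow_eq_one hk') (hqT.pow_left k)
  have hy₀1 : ind y₀ ≠ 1 := fun h => hy₀Z ((ind_eq_one_iff y₀).mp h)
  refine ⟨Subgroup.centralizer ((Q : Subgroup G) : Set G), ⟨?_, ?_, ?_⟩, y₀, hy₀o, hy₀1⟩
  · exact Subgroup.center_le_centralizer _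
  · intro f hf
    have hfH : f ∈ Subgroup.centralizer ((Q : Subgroup G) : Set G) := hf.2
    rw [Subgroup.mem_centralizer_iff] at hfH
    exact c.central_of_commute hy₀o hy₀1 hf.1 (hfH y₀ hy₀Q)
  · have := c.Fn
    have htop : c.F ⊔ Subgroup.centralizer ((Q : Subgroup G) : Set G) = ⊤ := by
      by_contra hne
      obtain ⟨x, _, hx⟩ := Cfsg.Agent.Lib.Helper22.exists_ne_one_forall_conj_not_mem _ hne
      by_cases hxA : A x
      · obtain ⟨g, hg⟩ := exists_conj_mem_centralizer_sylow Q x (hqA x hxA)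
        apply hx g⁻¹
        rw [inv_inv]
        exact Subgroup.mem_sup_right hg
      · apply hx 1
        rw [inv_one, one_mul, mul_one]
        exact Subgroup.mem_sup_left ((c.memF x).mpr hxA)
    intro g
    have hg : g ∈ c.F ⊔ Subgroup.centralizer ((Q : Subgroup G) : Set G) := by
      rw [htop]; exact Subgroup.mem_top g
    rw [Subgroup.mem_sup_of_normal_left] at hg
    obtain ⟨f, hf, h, hh, rfl⟩ := hg
    exact ⟨f, hf, h, hh, rfl⟩

variable {c}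

theorem Compl.A_of_mem {H : Subgroup G} (hH : c.Compl H) {u : G} (hu : u ∈ H) (hu1 : ind u ≠ 1) :
    A u := by
  apply c.A_of_not_mem
  intro huF
  exact hu1 ((ind_eq_one_iff u).mpr (hH.inf_le ⟨huF, hu⟩))

theorem Compl.sup_eq_top {H : Subgroup G} (hH : c.Compl H) : H ⊔ c.F = ⊤ := by
  rw [eq_top_iff]
  intro g _
  obtain ⟨f, hf, h, hh, rfl⟩ := hH.factor g
  exact Subgroup.mul_mem _ (Subgroup.mem_sup_right hf) (Subgroup.mem_sup_left hh)

theorem Compl.inf_eq {H : Subgroup G} (hH : c.Compl H) : c.F ⊓ H = Subgroup.center G :=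
  le_antisymm hH.inf_le (le_inf c.center_le_F hH.center_le)

/-- Surjectivity of `f ↦ [f, u]` onto `T` modulo the centre. -/
theorem Compl.sur {H : Subgroup G} (hH : c.Compl H) {u : G} (hu : u ∈ H) (hu1 : ind u ≠ 1)
    {t : G} (ht : t ∈ c.T) : ∃ f ∈ c.F, ∃ z ∈ Subgroup.center G, ⁅f, u⁆ = t * z := by
  have hA := hH.A_of_mem hu hu1
  have := c.Tn
  have ht' : u⁻¹ * t * u ∈ c.T := by
    have := c.Tn.conj_mem t ht u⁻¹
    rwa [inv_inv] at this
  obtain ⟨g, hg'⟩ := c.clT u hA _ ht'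
  have hg : g * u * g⁻¹ = t * u := by
    have : g * u * g⁻¹ = u * (u⁻¹ * t * u) := hg'
    rw [this]; group
  obtain ⟨f, hf, h, hh, rfl⟩ := hH.factor g
  have hu₁ : h * u * h⁻¹ ∈ H := H.mul_mem (H.mul_mem hh hu) (H.inv_mem hh)
  have e1 : ⁅f, h * u * h⁻¹⁆ = t * (u * (h * u * h⁻¹)⁻¹) := by
    rw [commutatorElement_def]
    have : f * (h * u * h⁻¹) * f⁻¹ = t * u := by rw [← hg]; group
    rw [this]; group
  have hcT : ⁅f, h * u * h⁻¹⁆ ∈ c.T := c.comm_mem_T hf _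
  have hzT : u * (h * u * h⁻¹)⁻¹ ∈ c.T := by
    have : u * (h * u * h⁻¹)⁻¹ = t⁻¹ * ⁅f, h * u * h⁻¹⁆ := by rw [e1]; group
    rw [this]; exact c.T.mul_mem (c.T.inv_mem ht) hcT
  have hzH : u * (h * u * h⁻¹)⁻¹ ∈ H := H.mul_mem hu (H.inv_mem hu₁)
  have hz : u * (h * u * h⁻¹)⁻¹ ∈ Subgroup.center G := hH.inf_le ⟨c.T_le_F hzT, hzH⟩
  refine ⟨f, hf, u * (h * u * h⁻¹)⁻¹, hz, ?_⟩
  rw [← e1]
  have e2 : h * u * h⁻¹ = (u * (h * u * h⁻¹)⁻¹)⁻¹ * u := by group
  have hz' : (u * (h * u * h⁻¹)⁻¹)⁻¹ ∈ Subgroup.center G := Subgroup.inv_mem _ hz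
  conv_rhs => rw [e2]
  rw [comm_central_mul hz']

variable (c)

theorem inj_y [Finite G] {y f : G} (hy : (orderOf y).Coprime (Nat.card c.T)) (hy1 : ind y ≠ 1)
    (hf : f ∈ c.F) (hz : ⁅f, y⁆ ∈ Subgroup.center G) : f ∈ Subgroup.center G := by
  have hzT : ⁅f, y⁆ ∈ c.T := c.comm_mem_T hf y
  have e1 : f * y * f⁻¹ = ⁅f, y⁆ * y := by rw [commutatorElement_def]; group
  have hcomm : Commute ⁅f, y⁆ y := (Subgroup.mem_center_iff.mp hz y).symm
  have e2 : ⁅f, y⁆ ^ orderOf y = 1 := by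
    have h1 : (f * y * f⁻¹) ^ orderOf y = 1 := by
      rw [conj_pow, pow_orderOf_eq_one]; group
    rw [e1, hcomm.mul_pow, pow_orderOf_eq_one, mul_one] at h1
    exact h1
  have e3 : ⁅f, y⁆ ^ Nat.card c.T = 1 := by
    have := pow_card_eq_one' (G := c.T) (x := ⟨⁅f, y⁆, hzT⟩)
    have h := congrArg Subtype.val this
    rwa [Subgroup.coe_pow, Subgroup.coe_one] at h
  have e4 : orderOf ⁅f, y⁆ = 1 :=
    Nat.eq_one_of_dvd_coprimes hy (orderOf_dvd_of_pow_eq_one e2) (orderOf_dvd_of_pow_eq_one e3)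
  rw [orderOf_eq_one_iff, commutatorElement_eq_one_iff_commute] at e4
  exact c.central_of_commute hy hy1 hf e4.symm

/-- The centre inside `F`. -/
noncomputable def ZF : Subgroup ↥c.F := (Subgroup.center G).subgroupOf c.F

instance ZF_normal : (c.ZF).Normal := by
  unfold ZF; infer_instance

/-- `f ↦ [f, u]` modulo the centre. -/
noncomputable def Phi (u : G) : ↥c.F →* ↥c.F ⧸ c.ZF := (QuotientGroup.mk' c.ZF).comp (c.psi u)

theorem mem_ker_Phi {u : G} {f : ↥c.F} :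
    f ∈ (c.Phi u).ker ↔ ⁅(f : G), u⁆ ∈ Subgroup.center G := by
  rw [MonoidHom.mem_ker, Phi, MonoidHom.comp_apply, QuotientGroup.mk'_apply,
    QuotientGroup.eq_one_iff, ZF, Subgroup.mem_subgroupOf, psi_apply]

theorem ZF_le_ker (u : G) : c.ZF ≤ (c.Phi u).ker := by
  intro f hf
  rw [mem_ker_Phi]
  rw [ZF, Subgroup.mem_subgroupOf] at hf
  have : ⁅(f : G), u⁆ = 1 := by
    rw [commutatorElement_eq_one_iff_commute]
    exact (Subgroup.mem_center_iff.mp hf u).symm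
  rw [this]; exact Subgroup.one_mem _

/-- The image of `T` in `F / Z`. -/
noncomputable def Tbar : Subgroup (↥c.F ⧸ c.ZF) :=
  (c.T.subgroupOf c.F).map (QuotientGroup.mk' c.ZF)

theorem range_Phi_le (u : G) : (c.Phi u).range ≤ c.Tbar := by
  rintro _ ⟨f, rfl⟩
  refine ⟨c.psi u f, ?_, rfl⟩
  rw [SetLike.mem_coe, Subgroup.mem_subgroupOf, psi_apply]
  exact c.comm_mem_T f.2 u

variable {c}

theorem Compl.Tbar_le_range {H : Subgroup G} (hH : c.Compl H) {u : G} (hu : u ∈ H)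
    (hu1 : ind u ≠ 1) : c.Tbar ≤ (c.Phi u).range := by
  rintro _ ⟨t, ht, rfl⟩
  rw [SetLike.mem_coe, Subgroup.mem_subgroupOf] at ht
  obtain ⟨f, hf, z, hz, hfz⟩ := hH.sur hu hu1 ht
  refine ⟨⟨f, hf⟩, ?_⟩
  rw [Phi, MonoidHom.comp_apply, QuotientGroup.mk'_apply, QuotientGroup.mk'_apply,
    QuotientGroup.eq, ZF, Subgroup.mem_subgroupOf]
  have : (((c.psi u ⟨f, hf⟩)⁻¹ * t : ↥c.F) : G) = z⁻¹ := by
    rw [Subgroup.coe_mul, Subgroup.coe_inv, psi_apply]
    change ⁅f, u⁆⁻¹ * (t : G) = z⁻¹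
    rw [hfz]; group
  rw [this]; exact Subgroup.inv_mem _ hz

theorem Compl.ker_eq [Finite G] {H : Subgroup G} (hH : c.Compl H) {y₀ : G}
    (hy : (orderOf y₀).Coprime (Nat.card c.T)) (hy1 : ind y₀ ≠ 1) {u : G} (hu : u ∈ H)
    (hu1 : ind u ≠ 1) : (c.Phi u).ker = c.ZF := by
  have k0 : (c.Phi y₀).ker = c.ZF := by
    apply le_antisymm _ (c.ZF_le_ker y₀)
    intro f hf
    rw [mem_ker_Phi] at hf
    rw [ZF, Subgroup.mem_subgroupOf]
    exact c.inj_y hy hy1 f.2 hf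
  have r1 : (c.Phi u).range = c.Tbar := le_antisymm (c.range_Phi_le u) (hH.Tbar_le_range hu hu1)
  have c0 : Nat.card c.ZF * Nat.card (c.Phi y₀).range = Nat.card ↥c.F := by
    rw [← Subgroup.index_ker, k0]; exact Subgroup.card_mul_index _
  have c1 : Nat.card (c.Phi u).ker * Nat.card c.Tbar = Nat.card ↥c.F := by
    rw [← r1, ← Subgroup.index_ker]; exact Subgroup.card_mul_index _
  have c2 : Nat.card (c.Phi y₀).range ≤ Nat.card c.Tbar :=
    Subgroup.card_le_of_le (c.range_Phi_le y₀)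
  have c3 : Nat.card (c.Phi u).ker ≤ Nat.card c.ZF := by
    have hpos : 0 < Nat.card c.Tbar := Nat.card_pos
    have : Nat.card (c.Phi u).ker * Nat.card c.Tbar ≤ Nat.card c.ZF * Nat.card c.Tbar := by
      rw [c1, ← c0]; exact Nat.mul_le_mul_left _ c2
    exact Nat.le_of_mul_le_mul_right this hpos
  exact (Subgroup.eq_of_le_of_card_ge (c.ZF_le_ker u) c3).symm

theorem Compl.fpf [Finite G] {H : Subgroup G} (hH : c.Compl H) {y₀ : G}
    (hy : (orderOf y₀).Coprime (Nat.card c.T)) (hy1 : ind y₀ ≠ 1) {u : G} (hu : u ∈ H)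
    (hu1 : ind u ≠ 1) {f : G} (hf : f ∈ c.F) (hz : ⁅f, u⁆ ∈ Subgroup.center G) :
    f ∈ Subgroup.center G := by
  have h1 : (⟨f, hf⟩ : ↥c.F) ∈ (c.Phi u).ker := by rw [mem_ker_Phi]; exact hz
  rw [hH.ker_eq hy hy1 hu hu1, ZF, Subgroup.mem_subgroupOf] at h1
  exact h1

theorem Compl.sur_F [Finite G] {H : Subgroup G} (hH : c.Compl H) {y₀ : G}
    (hy : (orderOf y₀).Coprime (Nat.card c.T)) (hy1 : ind y₀ ≠ 1) {u : G} (hu : u ∈ H)
    (hu1 : ind u ≠ 1) {f : G} (hf : f ∈ c.F) :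
    ∃ f' ∈ c.F, ∃ z ∈ Subgroup.center G, ⁅f', u⁆ = f * z := by
  have h1 : Nat.card (c.Phi u).range = Nat.card (↥c.F ⧸ c.ZF) := by
    rw [← Subgroup.index_ker, hH.ker_eq hy hy1 hu hu1]; rfl
  have h2 : (c.Phi u).range = ⊤ := Subgroup.eq_top_of_card_eq _ h1
  have h3 : (QuotientGroup.mk' c.ZF ⟨f, hf⟩) ∈ (c.Phi u).range := by rw [h2]; exact Subgroup.mem_top _
  obtain ⟨f', hf'⟩ := h3
  rw [Phi, MonoidHom.comp_apply, QuotientGroup.mk'_apply, QuotientGroup.mk'_apply,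
    QuotientGroup.eq, ZF, Subgroup.mem_subgroupOf] at hf'
  have hw : ⁅(f' : G), u⁆⁻¹ * f ∈ Subgroup.center G := by
    have := hf'
    rw [Subgroup.coe_mul, Subgroup.coe_inv, psi_apply] at this
    exact this
  refine ⟨f', f'.2, (⁅(f' : G), u⁆⁻¹ * f)⁻¹, Subgroup.inv_mem _ hw, ?_⟩
  group

end Ctx

end Cfsg.Agent.Lib.Helper17.ClassGraph
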