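/-
Helper lemmas (helper17): conclusion — a split of the non-central elements of a finite group into
two families of pairwise coprime class sizes forces `G / Z(G)` to be a Frobenius group with
abelian kernel and abelian complement.
-/
import Mathlib
import Cfsg.Prelude.Def_Solvable
import Cfsg.Agent.Lib.Helper17.ClassGraph4

set_option autoImplicit false

namespace Cfsg.Agent.Lib.Helper17.ClassGraph

open scoped commutatorElement Pointwise

variable {G : Type*} [Group G]

theorem mem_conj_smul' {K : Type*} [Group K] (H : Subgroup K) (g x : K) :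
    x ∈ MulAut.conj g • H ↔ g⁻¹ * x * g ∈ H := by
  rw [Subgroup.mem_pointwise_smul_iff_inv_smul_mem, MulAut.smul_def, ← map_inv,
    MulAut.conj_apply, inv_inv]

namespace Ctx

variable {A B : G → Prop} {c : Ctx A B}

/-- The complement is abelian. -/
theorem Compl.commute_H [Finite G] {H : Subgroup G} (hH : c.Compl H) {y₀ : G}
    (hy : (orderOf y₀).Coprime (Nat.card c.T)) (hy1 : ind y₀ ≠ 1) {u h : G} (hu : u ∈ H)
    (hh : h ∈ H) : Commute h u := by
  by_cases hu1 : ind u = 1
  · rw [ind_eq_one_iff] at hu1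
    exact (Subgroup.mem_center_iff.mp hu1 h)
  have hA := hH.A_of_mem hu hu1
  have := c.Fn
  -- step 1: `C(u) ≤ H`
  have s1 : Subgroup.centralizer ({u} : Set G) ≤ H := by
    intro g hg
    rw [mem_centralizer_singleton] at hg
    obtain ⟨f, hf, h', hh', rfl⟩ := hH.factor g
    have hu₁ : h' * u * h'⁻¹ ∈ H := H.mul_mem (H.mul_mem hh' hu) (H.inv_mem hh')
    have e1 : f * (h' * u * h'⁻¹) * f⁻¹ = u := by
      have : f * (h' * u * h'⁻¹) * f⁻¹ = (f * h' * u) * (f * h')⁻¹ := by group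
      rw [this, hg]; group
    have e2 : ⁅f, h' * u * h'⁻¹⁆ = u * (h' * u * h'⁻¹)⁻¹ := by
      rw [commutatorElement_def, e1]
    have hcH : ⁅f, h' * u * h'⁻¹⁆ ∈ H := by
      rw [e2]; exact H.mul_mem hu (H.inv_mem hu₁)
    have hcZ : ⁅f, h' * u * h'⁻¹⁆ ∈ Subgroup.center G :=
      hH.inf_le ⟨c.T_le_F (c.comm_mem_T hf _), hcH⟩
    have hu₁1 : ind (h' * u * h'⁻¹) ≠ 1 := by rw [ind_conj]; exact hu1
    have hfZ := hH.fpf hy hy1 hu₁ hu₁1 hf hcZ
    exact H.mul_mem (hH.center_le hfZ) hh'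
  -- step 2: `C(b₀) = F`
  obtain ⟨b₀, hb₀⟩ := c.exB
  have hb₀F := c.mem_of_B hb₀
  have s2 : Subgroup.centralizer ({b₀} : Set G) = c.F := by
    apply le_antisymm
    · intro g hg
      rw [mem_centralizer_singleton] at hg
      obtain ⟨f, hf, h', hh', rfl⟩ := hH.factor g
      have hfb : Commute f b₀ := c.commute_F hf hb₀F
      have hhb : Commute h' b₀ := by
        have h1 : Commute (f * h') b₀ := hg
        have h2 : Commute (f⁻¹ * (f * h')) b₀ := (hfb.inv_left).mul_left h1
        rwa [inv_mul_cancel_left] at h2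
      by_cases hh1 : ind h' = 1
      · rw [ind_eq_one_iff] at hh1
        exact c.F.mul_mem hf (c.center_le_F hh1)
      · exfalso
        have hc1 : ⁅b₀, h'⁆ = 1 := by
          rw [commutatorElement_eq_one_iff_commute]; exact hhb.symm
        have := hH.fpf hy hy1 hh' hh1 hb₀F (by rw [hc1]; exact Subgroup.one_mem _)
        exact c.split.neB b₀ hb₀ ((ind_eq_one_iff b₀).mpr this)
    · intro f hf
      rw [mem_centralizer_singleton]
      exact c.commute_F hf hb₀F
  -- step 3, 4
  have d1 : (Subgroup.centralizer ({u} : Set G)).relIndex H ∣ ind u :=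
    Subgroup.relIndex_dvd_index_of_le s1
  have hZu : Subgroup.center G ≤ Subgroup.centralizer ({u} : Set G) :=
    Subgroup.center_le_centralizer _
  have d2 : (Subgroup.centralizer ({u} : Set G)).relIndex H ∣ (Subgroup.center G).relIndex H :=
    Subgroup.relIndex_dvd_of_le_left H hZu
  have e3 : (Subgroup.center G).relIndex H = ind b₀ := by
    rw [ind, s2, ← hH.inf_eq, Subgroup.inf_relIndex_right, ← Subgroup.relIndex_sup_right H c.F,
      hH.sup_eq_top, Subgroup.relIndex_top_right]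
  rw [e3] at d2
  have hcop := c.split.cop u b₀ hA hb₀
  have e4 := Nat.eq_one_of_dvd_coprimes hcop d1 d2
  have := Subgroup.relIndex_eq_one.mp e4 hh
  rw [mem_centralizer_singleton] at this
  exact this

/-- The conclusion. -/
theorem conclusion [Finite G] (c : Ctx A B) :
    ∃ H : Subgroup (G ⧸ Subgroup.center G), Cfsg.IsFrobeniusComplement H ∧ IsMulCommutative H ∧
      ∀ x ∈ Cfsg.frobeniusKernel H, ∀ y ∈ Cfsg.frobeniusKernel H, x * y = y * x := by
  obtain ⟨H, hH, y₀, hy, hy1⟩ := c.exists_compl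
  have := c.Fn
  have hmem : ∀ x : G, (QuotientGroup.mk' (Subgroup.center G) x) ∈
      H.map (QuotientGroup.mk' (Subgroup.center G)) ↔ x ∈ H := by
    intro x
    constructor
    · rintro ⟨h, hh, hhx⟩
      rw [QuotientGroup.mk'_apply, QuotientGroup.mk'_apply, QuotientGroup.eq] at hhx
      have := H.mul_mem hh (hH.center_le hhx)
      rwa [mul_inv_cancel_left] at this
    · intro hx; exact ⟨x, hx, rfl⟩
  have hone : ∀ x : G, (QuotientGroup.mk' (Subgroup.center G) x) = 1 ↔ x ∈ Subgroup.center G := by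
    intro x; rw [QuotientGroup.mk'_apply, QuotientGroup.eq_one_iff]
  -- kernel elements come from `F`
  have hker : ∀ x ∈ Cfsg.frobeniusKernel (H.map (QuotientGroup.mk' (Subgroup.center G))),
      ∃ f ∈ c.F, QuotientGroup.mk' (Subgroup.center G) f = x := by
    intro xb hxb
    obtain ⟨x, rfl⟩ := QuotientGroup.mk'_surjective (Subgroup.center G) xb
    obtain ⟨f, hf, h, hh, rfl⟩ := hH.factor x
    by_cases hh1 : ind h = 1
    · rw [ind_eq_one_iff] at hh1
      exact ⟨f * h, c.F.mul_mem hf (c.center_le_F hh1), rfl⟩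
    · rcases hxb with h1 | h2
      · exact ⟨1, c.F.one_mem, by rw [h1, map_one]⟩
      · exfalso
        obtain ⟨f', hf', z, hz, hfz⟩ := hH.sur_F hy hy1 hh hh1 hf
        apply h2 (QuotientGroup.mk' (Subgroup.center G) f')
        rw [mem_conj_smul', ← map_inv, ← map_mul, ← map_mul, hmem]
        -- f'⁻¹ * (f * h) * f' ∈ H
        have e1 : f' * h * f'⁻¹ = ⁅f', h⁆ * h := by rw [commutatorElement_def]; group
        have hzh : z * h = h * z := (Subgroup.mem_center_iff.mp hz h).symm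
        have e2 : f'⁻¹ * (f * h) * f' = h * z⁻¹ := by
          have e3 : f * h = f' * h * f'⁻¹ * z⁻¹ := by
            rw [e1, hfz, mul_assoc f z h, hzh]; group
          rw [e3]
          have hz' : f' * z⁻¹ = z⁻¹ * f' :=
            (Subgroup.mem_center_iff.mp (Subgroup.inv_mem _ hz) f')
          calc f'⁻¹ * (f' * h * f'⁻¹ * z⁻¹) * f' = h * f'⁻¹ * (z⁻¹ * f') := by group
            _ = h * f'⁻¹ * (f' * z⁻¹) := by rw [hz']
            _ = h * z⁻¹ := by group
        rw [e2]
        exact H.mul_mem hh (hH.center_le (Subgroup.inv_mem _ hz))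
  refine ⟨H.map (QuotientGroup.mk' (Subgroup.center G)), ⟨?_, ?_, ?_⟩, ?_, ?_⟩
  · -- nontrivial
    obtain ⟨a, ha⟩ := c.exA
    obtain ⟨f, hf, h, hh, rfl⟩ := hH.factor a
    have hh1 : h ∉ Subgroup.center G := by
      intro hz
      exact c.not_mem_of_A ha (c.F.mul_mem hf (c.center_le_F hz))
    intro hbot
    have h1 : QuotientGroup.mk' (Subgroup.center G) h ∈
        H.map (QuotientGroup.mk' (Subgroup.center G)) := (hmem h).mpr hh
    rw [hbot, Subgroup.mem_bot, hone] at h1
    exact hh1 h1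
  · -- proper
    obtain ⟨b₀, hb₀⟩ := c.exB
    intro htop
    have h1 : QuotientGroup.mk' (Subgroup.center G) b₀ ∈
        H.map (QuotientGroup.mk' (Subgroup.center G)) := by rw [htop]; exact Subgroup.mem_top _
    rw [hmem] at h1
    have := hH.inf_le ⟨c.mem_of_B hb₀, h1⟩
    exact c.split.neB b₀ hb₀ ((ind_eq_one_iff b₀).mpr this)
  · -- TI
    intro gb hgb
    obtain ⟨g, rfl⟩ := QuotientGroup.mk'_surjective (Subgroup.center G) gb
    rw [hmem] at hgb
    rw [eq_bot_iff]
    intro xb hxb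
    rw [Subgroup.mem_inf] at hxb
    obtain ⟨hx1, hx2⟩ := hxb
    obtain ⟨u, hu, rfl⟩ := hx1
    rw [mem_conj_smul', ← map_inv, ← map_mul, ← map_mul, hmem] at hx2
    rw [Subgroup.mem_bot, hone]
    by_contra huZ
    have hu1 : ind u ≠ 1 := fun h => huZ ((ind_eq_one_iff u).mp h)
    obtain ⟨f, hf, h, hh, rfl⟩ := hH.factor g
    have hfZ : f ∉ Subgroup.center G := by
      intro hz
      exact hgb (H.mul_mem (hH.center_le hz) hh)
    have h3 : f⁻¹ * u * f ∈ H := by
      have := H.mul_mem (H.mul_mem hh hx2) (H.inv_mem hh)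
      have e : h * ((f * h)⁻¹ * u * (f * h)) * h⁻¹ = f⁻¹ * u * f := by group
      rwa [e] at this
    have h4 : ⁅f⁻¹, u⁆ ∈ H := by
      have e : ⁅f⁻¹, u⁆ = f⁻¹ * u * f * u⁻¹ := by rw [commutatorElement_def, inv_inv]
      rw [e]; exact H.mul_mem h3 (H.inv_mem hu)
    have hf' : f⁻¹ ∈ c.F := c.F.inv_mem hf
    have h5 : ⁅f⁻¹, u⁆ ∈ Subgroup.center G := hH.inf_le ⟨c.T_le_F (c.comm_mem_T hf' u), h4⟩
    have h6 := hH.fpf hy hy1 hu hu1 hf' h5
    have := Subgroup.inv_mem _ h6
    rw [inv_inv] at this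
    exact hfZ this
  · -- abelian complement
    refine ⟨⟨fun a b => ?_⟩⟩
    obtain ⟨a, ha⟩ := a
    obtain ⟨b, hb⟩ := b
    apply Subtype.ext
    obtain ⟨h₁, hh₁, rfl⟩ := ha
    obtain ⟨h₂, hh₂, rfl⟩ := hb
    change QuotientGroup.mk' (Subgroup.center G) h₁ * QuotientGroup.mk' (Subgroup.center G) h₂ =
      QuotientGroup.mk' (Subgroup.center G) h₂ * QuotientGroup.mk' (Subgroup.center G) h₁
    rw [← map_mul, ← map_mul, (hH.commute_H hy hy1 hh₂ hh₁).eq]
  · -- kernel commutes
    intro x hx y hy'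
    obtain ⟨f₁, hf₁, rfl⟩ := hker x hx
    obtain ⟨f₂, hf₂, rfl⟩ := hker y hy'
    rw [← map_mul, ← map_mul, (c.commute_F hf₁ hf₂).eq]

end Ctx

/-- Main theorem for a split. -/
theorem Split.conclusion [Finite G] {A B : G → Prop} (h : Split A B) (hA : ∃ a : G, A a)
    (hB : ∃ b : G, B b) :
    ∃ H : Subgroup (G ⧸ Subgroup.center G), Cfsg.IsFrobeniusComplement H ∧ IsMulCommutative H ∧
      ∀ x ∈ Cfsg.frobeniusKernel H, ∀ y ∈ Cfsg.frobeniusKernel H, x * y = y * x := by
  rcases h.dichotomy with hQ | hQ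
  · obtain ⟨c⟩ := h.exists_ctx hA hB hQ
    exact c.conclusion
  · obtain ⟨c⟩ := h.symm.exists_ctx hB hA (fun x b hx hb g => hQ b x hb hx g)
    exact c.conclusion

end Cfsg.Agent.Lib.Helper17.ClassGraph
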