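/-
helper17: S4481 leaf (LAT2) `lattice_core` (planner helper6, `notes/S4481_leaves.lean`): the lattice lemma, full
form, over helper2's (LAT1) `lattice_star`.
-/
import Mathlib
import Cfsg.Agent.Lib.Helper2.DIHLAT1

set_option autoImplicit false

namespace Cfsg.Agent.Lib.Helper17.DIHLAT2

open Cfsg.Agent.Lib.Helper2.DIHLAT1

variable {B : Type*} [Fintype B] [DecidableEq B]

/-- the core in the good case: `γ c = δ₁` and `γ (a j) = 0` -/
theorem core_of_good (q : ℕ) (m0 me : B → ℤ) (mj : Fin q → B → ℤ) (b₀ : B)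
    (γ : B → ℤ) (hγ : ∀ χ, γ χ = m0 χ - me χ - (if χ = b₀ then 1 else 0))
    (hγb : γ b₀ = 0) (hγn : ∑ χ, γ χ * γ χ = 3)
    (δ₁ : ℤ) (c : B) (a : Fin q → B) (hδ₁ : δ₁ = 1 ∨ δ₁ = -1) (ha : Function.Injective a) (hc0 : c ≠ b₀)
    (hane : ∀ j, a j ≠ b₀ ∧ a j ≠ c)
    (hmj : ∀ j χ, mj j χ = m0 χ - (if χ = b₀ then 1 else 0) - (if χ = c then δ₁ else 0) +
        (if χ = a j then δ₁ else 0))
    (hγc : γ c = δ₁) (hγa : ∀ j, γ (a j) = 0) :
    ∃ (δ₁ δ₂ δ₃ : ℤ) (c b b' : B) (a : Fin q → B),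
      (δ₁ = 1 ∨ δ₁ = -1) ∧ (δ₂ = 1 ∨ δ₂ = -1) ∧ (δ₃ = 1 ∨ δ₃ = -1) ∧
      Function.Injective a ∧ c ≠ b₀ ∧ b ≠ b₀ ∧ b' ≠ b₀ ∧ c ≠ b ∧ c ≠ b' ∧ b ≠ b' ∧
      (∀ j, a j ≠ b₀ ∧ a j ≠ c ∧ a j ≠ b ∧ a j ≠ b') ∧
      (∀ χ, me χ = m0 χ - (if χ = b₀ then 1 else 0) - (if χ = c then δ₁ else 0) -
        (if χ = b then δ₂ else 0) - (if χ = b' then δ₃ else 0)) ∧
      (∀ j χ, mj j χ = m0 χ - (if χ = b₀ then 1 else 0) - (if χ = c then δ₁ else 0) +
        (if χ = a j then δ₁ else 0)) := by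
  have hδsq : δ₁ * δ₁ = 1 := by rcases hδ₁ with h | h <;> rw [h] <;> norm_num
  -- `γ' = γ - δ₁ e_c` has norm two
  set γ' : B → ℤ := fun χ => γ χ - (if χ = c then δ₁ else 0) with hγ'
  have hγ'n : ∑ χ, γ' χ * γ' χ = 2 := by
    have e : ∀ χ : B, γ' χ * γ' χ = γ χ * γ χ - (if χ = c then 2 * δ₁ * γ χ - δ₁ * δ₁ else 0) := by
      intro χ
      simp only [hγ']
      split_ifs <;> ring
    rw [Finset.sum_congr rfl (fun χ _ => e χ), Finset.sum_sub_distrib, hγn, Finset.sum_ite_eq']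
    simp only [Finset.mem_univ, if_true, hγc, hδsq]
    rw [mul_assoc, hδsq]
    norm_num
  obtain ⟨x, y, hxy, hx, hy, hz⟩ := norm_two_shape γ' hγ'n
  have hγ'c : γ' c = 0 := by
    show γ c - (if c = c then δ₁ else 0) = 0
    rw [if_pos rfl, hγc, sub_self]
  have hγ'b : γ' b₀ = 0 := by
    show γ b₀ - (if b₀ = c then δ₁ else 0) = 0
    rw [if_neg (Ne.symm hc0), hγb, sub_zero]
  have hγ'a : ∀ j, γ' (a j) = 0 := by
    intro j
    show γ (a j) - (if a j = c then δ₁ else 0) = 0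
    rw [if_neg (hane j).2, hγa j, sub_zero]
  have hx0 : γ' x ≠ 0 := by rcases hx with h | h <;> rw [h] <;> norm_num
  have hy0 : γ' y ≠ 0 := by rcases hy with h | h <;> rw [h] <;> norm_num
  have hxc : c ≠ x := fun h => hx0 (h ▸ hγ'c)
  have hyc : c ≠ y := fun h => hy0 (h ▸ hγ'c)
  have hxb : x ≠ b₀ := fun h => hx0 (h ▸ hγ'b)
  have hyb : y ≠ b₀ := fun h => hy0 (h ▸ hγ'b)
  have hxa : ∀ j, a j ≠ x := fun j h => hx0 (h ▸ hγ'a j)
  have hya : ∀ j, a j ≠ y := fun j h => hy0 (h ▸ hγ'a j)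
  refine ⟨δ₁, γ' x, γ' y, c, x, y, a, hδ₁, hx, hy, ha, hc0, hxb, hyb, hxc, hyc, hxy,
    fun j => ⟨(hane j).1, (hane j).2, hxa j, hya j⟩, ?_, hmj⟩
  intro χ
  have h1 : me χ = m0 χ - (if χ = b₀ then 1 else 0) - γ χ := by rw [hγ χ]; ring
  have h2 : γ χ = (if χ = c then δ₁ else 0) + γ' χ := by simp only [hγ']; ring
  have h3 : γ' χ = (if χ = x then γ' x else 0) + (if χ = y then γ' y else 0) := by
    by_cases h4 : χ = x
    · rw [h4, if_pos rfl, if_neg hxy, add_zero]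
    · by_cases h5 : χ = y
      · rw [h5, if_neg (Ne.symm hxy), if_pos rfl, zero_add]
      · rw [hz χ h4 h5, if_neg h4, if_neg h5, add_zero]
  rw [h1, h2, h3]
  ring

/-- **LAT2** the lattice lemma, full form. -/
theorem lattice_core (q : ℕ) (hq : 1 ≤ q) (hq2 : q ≠ 2) (m0 me : B → ℤ) (mj : Fin q → B → ℤ) (b₀ : B) (t : ℤ) (f : B → ℤ)
    (hf : ∀ χ, 0 < f χ) (hf0 : f b₀ = 1)
    (h00 : ∑ χ, m0 χ * m0 χ = t + 2) (hee : ∑ χ, me χ * me χ = t + 2)
    (h0e : ∑ χ, m0 χ * me χ = t)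
    (h0j : ∀ j, ∑ χ, m0 χ * mj j χ = t) (hej : ∀ j, ∑ χ, me χ * mj j χ = t)
    (hjj : ∀ i j, ∑ χ, mj i χ * mj j χ = t + if i = j then 1 else 0)
    (hb0 : m0 b₀ = 1) (hbe : me b₀ = 0) (hbj : ∀ j, mj j b₀ = 0)
    (hfe : ∑ χ, (m0 χ - me χ) * f χ = 0) (hfj : ∀ j, ∑ χ, (m0 χ - mj j χ) * f χ = 0) :
    ∃ (δ₁ δ₂ δ₃ : ℤ) (c b b' : B) (a : Fin q → B),
      (δ₁ = 1 ∨ δ₁ = -1) ∧ (δ₂ = 1 ∨ δ₂ = -1) ∧ (δ₃ = 1 ∨ δ₃ = -1) ∧
      Function.Injective a ∧ c ≠ b₀ ∧ b ≠ b₀ ∧ b' ≠ b₀ ∧ c ≠ b ∧ c ≠ b' ∧ b ≠ b' ∧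
      (∀ j, a j ≠ b₀ ∧ a j ≠ c ∧ a j ≠ b ∧ a j ≠ b') ∧
      (∀ χ, me χ = m0 χ - (if χ = b₀ then 1 else 0) - (if χ = c then δ₁ else 0) -
        (if χ = b then δ₂ else 0) - (if χ = b' then δ₃ else 0)) ∧
      (∀ j χ, mj j χ = m0 χ - (if χ = b₀ then 1 else 0) - (if χ = c then δ₁ else 0) +
        (if χ = a j then δ₁ else 0)) := by
  obtain ⟨δ₁, c, a, hδ₁, ha, hc0, hane, hmj⟩ :=
    lattice_star q hq m0 mj b₀ t f hf hf0 h00 h0j hjj hb0 hbj hfj
  -- the vector `γ = g_ε`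
  set γ : B → ℤ := fun χ => m0 χ - me χ - (if χ = b₀ then 1 else 0) with hγdef
  have hγ : ∀ χ, γ χ = m0 χ - me χ - (if χ = b₀ then 1 else 0) := fun χ => rfl
  have hγb : γ b₀ = 0 := by
    show m0 b₀ - me b₀ - (if b₀ = b₀ then 1 else 0) = 0
    rw [if_pos rfl, hb0, hbe]
    norm_num
  have hγn : ∑ χ, γ χ * γ χ = 3 := by
    have e : ∀ χ : B, γ χ * γ χ =
        m0 χ * m0 χ - m0 χ * me χ - m0 χ * me χ + me χ * me χ
          - (if χ = b₀ then 2 * (m0 χ - me χ) - 1 else 0) := by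
      intro χ
      simp only [hγdef]
      split_ifs <;> ring
    rw [Finset.sum_congr rfl (fun χ _ => e χ), Finset.sum_sub_distrib, Finset.sum_add_distrib,
      Finset.sum_sub_distrib, Finset.sum_sub_distrib, h00, h0e, hee, Finset.sum_ite_eq']
    simp only [Finset.mem_univ, if_true, hb0, hbe]
    ring
  have hγf : ∑ χ, γ χ * f χ = -1 := by
    have e : ∀ χ : B, γ χ * f χ = (m0 χ - me χ) * f χ - (if χ = b₀ then f χ else 0) := by
      intro χ
      simp only [hγdef]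
      split_ifs <;> ring
    rw [Finset.sum_congr rfl (fun χ _ => e χ), Finset.sum_sub_distrib, hfe, Finset.sum_ite_eq']
    simp only [Finset.mem_univ, if_true, hf0]
    ring
  -- the inner product of `γ` with `g j`
  have hγg : ∀ j, δ₁ * γ c - δ₁ * γ (a j) = 1 := by
    intro j
    have hne : c ≠ a j := fun h => (hane j).2 h.symm
    have h1 : ∑ χ, γ χ * (m0 χ - mj j χ - (if χ = b₀ then 1 else 0)) = 1 := by
      have e : ∀ χ : B, γ χ * (m0 χ - mj j χ - (if χ = b₀ then 1 else 0)) =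
          m0 χ * m0 χ - m0 χ * mj j χ - m0 χ * me χ + me χ * mj j χ
            - (if χ = b₀ then (m0 χ - me χ) + (m0 χ - mj j χ) - 1 else 0) := by
        intro χ
        simp only [hγdef]
        split_ifs <;> ring
      rw [Finset.sum_congr rfl (fun χ _ => e χ), Finset.sum_sub_distrib, Finset.sum_add_distrib,
        Finset.sum_sub_distrib, Finset.sum_sub_distrib, h00, h0j, h0e, hej, Finset.sum_ite_eq']
      simp only [Finset.mem_univ, if_true, hb0, hbe, hbj]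
      ring
    have h2 : ∑ χ, γ χ * (m0 χ - mj j χ - (if χ = b₀ then 1 else 0)) = δ₁ * γ c - δ₁ * γ (a j) := by
      have e : ∀ χ : B, γ χ * (m0 χ - mj j χ - (if χ = b₀ then 1 else 0)) =
          (if χ = c then δ₁ * γ χ else 0) - (if χ = a j then δ₁ * γ χ else 0) := by
        intro χ
        rw [hmj j χ]
        split_ifs <;> ring
      rw [Finset.sum_congr rfl (fun χ _ => e χ), Finset.sum_sub_distrib, Finset.sum_ite_eq',
        Finset.sum_ite_eq']
      simp only [Finset.mem_univ, if_true]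
    rw [← h2, h1]
  have hval := val_of_norm_le_three γ 3 le_rfl hγn
  have halt : ∀ j, (γ c = δ₁ ∧ γ (a j) = 0) ∨ (γ c = 0 ∧ γ (a j) = -δ₁) := by
    intro j
    have h1 := hγg j
    have h2 := hval c
    have h3 := hval (a j)
    rcases hδ₁ with h | h <;> rw [h] at h1 ⊢ <;> omega
  have hδ0 : δ₁ ≠ 0 := by rcases hδ₁ with h | h <;> rw [h] <;> norm_num
  by_cases hgood : γ c = δ₁
  · -- the good case
    have hγa : ∀ j, γ (a j) = 0 := by
      intro j
      rcases halt j with h | h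
      · exact h.2
      · exact absurd (hgood.symm.trans h.1) hδ0
    exact core_of_good q m0 me mj b₀ γ hγ hγb hγn δ₁ c a hδ₁ ha hc0 hane hmj hgood hγa
  · -- the bad case: `γ c = 0`, `γ (a j) = -δ₁`
    have hγc0 : γ c = 0 := by
      rcases halt ⟨0, hq⟩ with h | h
      · exact absurd h.1 hgood
      · exact h.1
    have hγa : ∀ j, γ (a j) = -δ₁ := by
      intro j
      rcases halt j with h | h
      · exact absurd h.1 hgood
      · exact h.2
    -- `q ≤ 3`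
    have hcard := card_support_of_norm γ 3 le_rfl (by exact_mod_cast hγn)
    have hsub : Finset.univ.image a ⊆ Finset.univ.filter (fun χ => γ χ ≠ 0) := by
      intro χ hχ
      obtain ⟨j, -, rfl⟩ := Finset.mem_image.mp hχ
      rw [Finset.mem_filter]
      refine ⟨Finset.mem_univ _, ?_⟩
      rw [hγa j]
      exact neg_ne_zero.mpr hδ0
    have hcardim : (Finset.univ.image a).card = q := by
      rw [Finset.card_image_of_injective _ ha, Finset.card_univ, Fintype.card_fin]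
    have hq3 : q ≤ 3 := by
      rw [← hcardim, ← hcard]
      exact Finset.card_le_card hsub
    rcases (by omega : q = 1 ∨ q = 3) with rfl | rfl
    · -- `q = 1`: swap the roles of `c` and `a 0`
      have hsub1 : ∀ j : Fin 1, j = 0 := fun j => Subsingleton.elim j 0
      refine core_of_good 1 m0 me mj b₀ γ hγ hγb hγn (-δ₁) (a 0) (fun _ => c)
        (by rcases hδ₁ with h | h <;> rw [h] <;> norm_num) (fun i j _ => Subsingleton.elim i j)
        (hane 0).1 (fun j => ⟨hc0, fun h => (hane 0).2 h.symm⟩) ?_ (hγa 0) (fun _ => hγc0)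
      intro j χ
      rw [hmj j χ, hsub1 j]
      show _ = m0 χ - (if χ = b₀ then 1 else 0) - (if χ = a 0 then -δ₁ else 0) +
        (if χ = c then -δ₁ else 0)
      by_cases h1 : χ = c
      · have h2 : χ ≠ a 0 := fun h => (hane 0).2 (h.symm.trans h1)
        simp only [if_pos h1, if_neg h2]
        ring
      · simp only [if_neg h1]
        split_ifs <;> ring
    · -- `q = 3`: impossible
      exfalso
      have heq : Finset.univ.image a = Finset.univ.filter (fun χ => γ χ ≠ 0) :=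
        Finset.eq_of_subset_of_card_le hsub (by rw [hcard, hcardim])
      have h1 : ∑ χ, γ χ * f χ = ∑ χ ∈ Finset.univ.filter (fun χ => γ χ ≠ 0), γ χ * f χ := by
        symm
        apply Finset.sum_subset (Finset.subset_univ _)
        intro χ _ hχ
        rw [Finset.mem_filter, not_and, not_not] at hχ
        rw [hχ (Finset.mem_univ _), zero_mul]
      rw [h1, ← heq, Finset.sum_image (fun i _ j _ h => ha h)] at hγf
      have h2 : ∑ j : Fin 3, γ (a j) * f (a j) = -δ₁ * ∑ j : Fin 3, f (a j) := by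
        rw [Finset.mul_sum]
        apply Finset.sum_congr rfl
        intro j _
        rw [hγa j]
      rw [h2] at hγf
      have h3 : (3 : ℤ) ≤ ∑ j : Fin 3, f (a j) := by
        have : ∑ j : Fin 3, (1 : ℤ) ≤ ∑ j : Fin 3, f (a j) :=
          Finset.sum_le_sum (fun j _ => hf (a j))
        simpa using this
      rcases hδ₁ with rfl | rfl
      · nlinarith
      · nlinarith

end Cfsg.Agent.Lib.Helper17.DIHLAT2
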