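/-
helper17: S4481 leaf (VAL) `values_of_shape`, `_of` form over (SYM): the values on `σ^l`, `0 < l < 2h`, from the
shape of the multiplicity vectors.
-/
import Mathlib
import Cfsg.Agent.Lib.Helper6.DihBlkDefs

set_option autoImplicit false

namespace Cfsg.Agent.Lib.Helper17.DIHVALof

open Cfsg.Agent.Lib.Helper6.DihBlk
open scoped ComplexConjugate

/-- splitting a sum over `range (2h)` into `0`, `h` and the pairs `{i, 2h - i}`, `h = n + 1` -/
theorem split_sum_succ (n : ℕ) (F : ℕ → ℂ) :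
    ∑ i ∈ Finset.range (2 * (n + 1)), F i =
      F 0 + F (n + 1) + ∑ j ∈ Finset.range n, (F (j + 1) + F (2 * (n + 1) - (j + 1))) := by
  have h2 : 2 * (n + 1) = (n + 1) + (n + 1) := by ring
  rw [h2, Finset.sum_range_add, Finset.sum_range_succ' (fun i => F i) n,
    Finset.sum_range_succ' (fun i => F (n + 1 + i)) n]
  simp only [add_zero]
  rw [Finset.sum_add_distrib]
  have hrefl : ∑ j ∈ Finset.range n, F (n + 1 + (n + 1) - (j + 1)) =
      ∑ j ∈ Finset.range n, F (n + 1 + (j + 1)) := by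
    rw [← Finset.sum_range_reflect (fun j => F (n + 1 + (n + 1) - (j + 1))) n]
    apply Finset.sum_congr rfl
    intro j hj
    rw [Finset.mem_range] at hj
    congr 1
    omega
  rw [hrefl]
  ring

/-- splitting a sum over `range (2h)` into `0`, `h` and the pairs `{i, 2h - i}` -/
theorem split_sum (h : ℕ) (hh : 1 ≤ h) (F : ℕ → ℂ) :
    ∑ i ∈ Finset.range (2 * h), F i =
      F 0 + F h + ∑ j : Fin (h - 1), (F ((j : ℕ) + 1) + F (2 * h - ((j : ℕ) + 1))) := by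
  obtain ⟨n, rfl⟩ : ∃ n, h = n + 1 := ⟨h - 1, by omega⟩
  rw [split_sum_succ, Finset.sum_range]
  rfl

variable {B : Type*} [Fintype B] [DecidableEq B] {h : ℕ} {ζ : ℂ}

/-- the general formula for `X χ l`, `0 < l < 2h`, from the shapes -/
theorem X_formula (hh : 2 ≤ h) (hζ : IsPrimitiveRoot ζ (2 * h)) (D : DihData B h ζ)
    (hsym : ∀ χ i, 0 < i → i < 2 * h → D.mu χ (2 * h - i) = D.mu χ i)
    (δ₁ δ₂ δ₃ : ℤ) (c b b' : B) (a : Fin (h - 1) → B)
    (hme : ∀ χ, (D.mu χ h : ℤ) = (D.mu χ 0 : ℤ) - (if χ = D.b₀ then 1 else 0) - (if χ = c then δ₁ else 0) -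
        (if χ = b then δ₂ else 0) - (if χ = b' then δ₃ else 0))
    (hmj : ∀ (j : Fin (h - 1)) χ, (D.mu χ ((j : ℕ) + 1) : ℤ) = (D.mu χ 0 : ℤ) - (if χ = D.b₀ then 1 else 0) -
        (if χ = c then δ₁ else 0) + (if χ = a j then δ₁ else 0))
    (l : ℕ) (hl0 : 0 < l) (hl : l < 2 * h) (χ : B) :
    D.X χ l = ((if χ = D.b₀ then 1 else 0) + (if χ = c then (δ₁ : ℂ) else 0)) -
      ((if χ = b then (δ₂ : ℂ) else 0) + (if χ = b' then (δ₃ : ℂ) else 0)) * (-1) ^ l +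
      ∑ j : Fin (h - 1), (if χ = a j then (δ₁ : ℂ) else 0) *
        (ζ ^ (((j : ℕ) + 1) * l) + (ζ ^ (((j : ℕ) + 1) * l))⁻¹) := by
  set w : ℂ := ζ ^ l with hw
  have hw2h : w ^ (2 * h) = 1 := by
    rw [hw, ← pow_mul, mul_comm, pow_mul, hζ.pow_eq_one, one_pow]
  have hw1 : w ≠ 1 := hζ.pow_ne_one_of_pos_of_lt hl0.ne' hl
  have hgeom : ∑ i ∈ Finset.range (2 * h), w ^ i = 0 := by
    have h1 := geom_sum_mul w (2 * h)
    rw [hw2h, sub_self] at h1
    rcases mul_eq_zero.mp h1 with h2 | h2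
    · exact h2
    · exact absurd (sub_eq_zero.mp h2) hw1
  have hζh : ζ ^ h = -1 := by
    have h1 : (ζ ^ h) ^ 2 = 1 := by rw [← pow_mul, mul_comm, hζ.pow_eq_one]
    have h2 : ζ ^ h ≠ 1 := hζ.pow_ne_one_of_pos_of_lt (by omega) (by omega)
    rw [sq] at h1
    rcases mul_self_eq_one_iff.mp h1 with h3 | h3
    · exact absurd h3 h2
    · exact h3
  have hwh : w ^ h = (-1) ^ l := by
    rw [hw, ← pow_mul, mul_comm, pow_mul, hζh]
  -- the expansion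
  have hX : D.X χ l = ∑ i ∈ Finset.range (2 * h), (D.mu χ i : ℂ) * w ^ i := by
    rw [D.hexp]
    apply Finset.sum_congr rfl
    intro i _
    rw [hw, ← pow_mul, mul_comm l i]
  set R : ℂ := (D.mu χ 0 : ℂ) - (if χ = D.b₀ then 1 else 0) - (if χ = c then (δ₁ : ℂ) else 0) with hR
  have hX2 : D.X χ l = ∑ i ∈ Finset.range (2 * h), ((D.mu χ i : ℂ) - R) * w ^ i := by
    rw [hX]
    have : ∑ i ∈ Finset.range (2 * h), ((D.mu χ i : ℂ) - R) * w ^ i =
        ∑ i ∈ Finset.range (2 * h), (D.mu χ i : ℂ) * w ^ i - R * ∑ i ∈ Finset.range (2 * h), w ^ i := by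
      rw [Finset.mul_sum, ← Finset.sum_sub_distrib]
      apply Finset.sum_congr rfl
      intro i _
      ring
    rw [this, hgeom, mul_zero, sub_zero]
  rw [hX2, split_sum h (by omega)]
  have hg0 : (D.mu χ 0 : ℂ) - R = (if χ = D.b₀ then 1 else 0) + (if χ = c then (δ₁ : ℂ) else 0) := by
    rw [hR]; ring
  have hgh : (D.mu χ h : ℂ) - R =
      -((if χ = b then (δ₂ : ℂ) else 0) + (if χ = b' then (δ₃ : ℂ) else 0)) := by
    have := congrArg (Int.cast : ℤ → ℂ) (hme χ)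
    push_cast at this
    rw [this, hR]
    ring
  have hgj : ∀ j : Fin (h - 1), (D.mu χ ((j : ℕ) + 1) : ℂ) - R = (if χ = a j then (δ₁ : ℂ) else 0) := by
    intro j
    have := congrArg (Int.cast : ℤ → ℂ) (hmj j χ)
    push_cast at this
    rw [this, hR]
    ring
  have hgj' : ∀ j : Fin (h - 1), (D.mu χ (2 * h - ((j : ℕ) + 1)) : ℂ) - R =
      (if χ = a j then (δ₁ : ℂ) else 0) := by
    intro j
    have hj := j.2
    rw [hsym χ ((j : ℕ) + 1) (by omega) (by omega)]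
    exact hgj j
  have hwinv : ∀ j : Fin (h - 1), w ^ (2 * h - ((j : ℕ) + 1)) = (w ^ ((j : ℕ) + 1))⁻¹ := by
    intro j
    have hj := j.2
    have h1 : w ^ (2 * h - ((j : ℕ) + 1)) * w ^ ((j : ℕ) + 1) = 1 := by
      rw [← pow_add, Nat.sub_add_cancel (by omega), hw2h]
    exact eq_inv_of_mul_eq_one_left h1
  have hwj : ∀ j : Fin (h - 1), w ^ ((j : ℕ) + 1) = ζ ^ (((j : ℕ) + 1) * l) := by
    intro j
    rw [hw, ← pow_mul, mul_comm]
  rw [hg0, hgh, pow_zero, mul_one, hwh]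
  have hsum : ∑ j : Fin (h - 1), (((D.mu χ ((j : ℕ) + 1) : ℂ) - R) * w ^ ((j : ℕ) + 1) +
      ((D.mu χ (2 * h - ((j : ℕ) + 1)) : ℂ) - R) * w ^ (2 * h - ((j : ℕ) + 1))) =
      ∑ j : Fin (h - 1), (if χ = a j then (δ₁ : ℂ) else 0) *
        (ζ ^ (((j : ℕ) + 1) * l) + (ζ ^ (((j : ℕ) + 1) * l))⁻¹) := by
    apply Finset.sum_congr rfl
    intro j _
    rw [hgj, hgj', hwinv, hwj]
    ring
  rw [hsum]
  ring

/-- **VAL**, `_of` form over (SYM) -/
theorem values_of_shape_of (hh : 2 ≤ h) (hζ : IsPrimitiveRoot ζ (2 * h)) (D : DihData B h ζ)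
    (hsym : ∀ χ i, 0 < i → i < 2 * h → D.mu χ (2 * h - i) = D.mu χ i)
    (δ₁ δ₂ δ₃ : ℤ) (c b b' : B) (a : Fin (h - 1) → B)
    (ha : Function.Injective a) (hc0 : c ≠ D.b₀) (hb0 : b ≠ D.b₀) (hb0' : b' ≠ D.b₀) (hcb : c ≠ b)
    (hcb' : c ≠ b') (hbb' : b ≠ b')
    (hane : ∀ j, a j ≠ D.b₀ ∧ a j ≠ c ∧ a j ≠ b ∧ a j ≠ b')
    (hme : ∀ χ, (D.mu χ h : ℤ) = (D.mu χ 0 : ℤ) - (if χ = D.b₀ then 1 else 0) - (if χ = c then δ₁ else 0) -
        (if χ = b then δ₂ else 0) - (if χ = b' then δ₃ else 0))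
    (hmj : ∀ (j : Fin (h - 1)) χ, (D.mu χ ((j : ℕ) + 1) : ℤ) = (D.mu χ 0 : ℤ) - (if χ = D.b₀ then 1 else 0) -
        (if χ = c then δ₁ else 0) + (if χ = a j then δ₁ else 0))
    (l : ℕ) (hl0 : 0 < l) (hl : l < 2 * h) :
    D.X c l = (δ₁ : ℂ) ∧ D.X b l = (δ₂ : ℂ) * (-1) ^ (l + 1) ∧ D.X b' l = (δ₃ : ℂ) * (-1) ^ (l + 1) ∧
      (∀ j : Fin (h - 1), D.X (a j) l = (δ₁ : ℂ) * (ζ ^ (((j : ℕ) + 1) * l) + (ζ ^ (((j : ℕ) + 1) * l))⁻¹)) ∧
      ∀ χ, χ ≠ D.b₀ → χ ≠ c → χ ≠ b → χ ≠ b' → (∀ j, χ ≠ a j) → D.X χ l = 0 := by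
  have hF := X_formula hh hζ D hsym δ₁ δ₂ δ₃ c b b' a hme hmj l hl0 hl
  refine ⟨?_, ?_, ?_, ?_, ?_⟩
  · rw [hF c]
    have h1 : ∀ j : Fin (h - 1), (if c = a j then (δ₁ : ℂ) else 0) = 0 :=
      fun j => if_neg (fun hc => (hane j).2.1 hc.symm)
    simp only [h1, zero_mul, Finset.sum_const_zero, if_neg hc0, if_neg hcb, if_neg hcb', if_true]
    ring
  · rw [hF b]
    have h1 : ∀ j : Fin (h - 1), (if b = a j then (δ₁ : ℂ) else 0) = 0 :=
      fun j => if_neg (fun hc => (hane j).2.2.1 hc.symm)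
    simp only [h1, zero_mul, Finset.sum_const_zero, if_neg hb0, if_neg (Ne.symm hcb), if_neg hbb', if_true]
    ring
  · rw [hF b']
    have h1 : ∀ j : Fin (h - 1), (if b' = a j then (δ₁ : ℂ) else 0) = 0 :=
      fun j => if_neg (fun hc => (hane j).2.2.2 hc.symm)
    simp only [h1, zero_mul, Finset.sum_const_zero, if_neg hb0', if_neg (Ne.symm hcb'),
      if_neg (Ne.symm hbb'), if_true]
    ring
  · intro j
    rw [hF (a j)]
    rw [Finset.sum_eq_single j]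
    · simp only [if_neg (hane j).1, if_neg (hane j).2.1, if_neg (hane j).2.2.1, if_neg (hane j).2.2.2,
        if_true]
      ring
    · intro j' _ hj'
      rw [if_neg (fun hc => hj' (ha hc).symm), zero_mul]
    · intro hj
      exact absurd (Finset.mem_univ j) hj
  · intro χ h0 hc hb hb' hj
    rw [hF χ]
    have h1 : ∀ j : Fin (h - 1), (if χ = a j then (δ₁ : ℂ) else 0) = 0 := fun j => if_neg (hj j)
    simp only [h1, zero_mul, Finset.sum_const_zero, if_neg h0, if_neg hc, if_neg hb, if_neg hb']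
    ring

end Cfsg.Agent.Lib.Helper17.DIHVALof
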