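/-
helper17: S4481 leaf (VAL) `values_of_shape`, exact form (over GRAM = helper9, SYM `_of` = helper15, and my
`DIHVALof`).
-/
import Mathlib
import Cfsg.Agent.Lib.Helper6.DihBlkDefs
import Cfsg.Agent.Lib.Helper9.DIHGRAM
import Cfsg.Agent.Lib.Helper15.DIHSYM
import Cfsg.Agent.Lib.Helper17.DIHVALof

set_option autoImplicit false

namespace Cfsg.Agent.Lib.Helper17.DIHVAL

open Cfsg.Agent.Lib.Helper6.DihBlk
open scoped ComplexConjugate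

variable {B : Type*} [Fintype B] [DecidableEq B] {h : ℕ} {ζ : ℂ}

/-- **VAL** the values on `σ^l`, `0 < l < 2h`, from the shape of the multiplicity vectors. -/
theorem values_of_shape (hh : 2 ≤ h) (hζ : IsPrimitiveRoot ζ (2 * h)) (D : DihData B h ζ)
    (δ₁ δ₂ δ₃ : ℤ) (c b b' : B) (a : Fin (h - 1) → B)
    (ha : Function.Injective a) (hc0 : c ≠ D.b₀) (hb0 : b ≠ D.b₀) (hb0' : b' ≠ D.b₀) (hcb : c ≠ b)
    (hcb' : c ≠ b') (hbb' : b ≠ b')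
    (hane : ∀ j, a j ≠ D.b₀ ∧ a j ≠ c ∧ a j ≠ b ∧ a j ≠ b')
    (hme : ∀ χ, (D.mu χ h : ℤ) = (D.mu χ 0 : ℤ) - (if χ = D.b₀ then 1 else 0) - (if χ = c then δ₁ else 0) -
        (if χ = b then δ₂ else 0) - (if χ = b' then δ₃ else 0))
    (hmj : ∀ (j : Fin (h - 1)) χ, (D.mu χ ((j : ℕ) + 1) : ℤ) = (D.mu χ 0 : ℤ) - (if χ = D.b₀ then 1 else 0) -
        (if χ = c then δ₁ else 0) + (if χ = a j then δ₁ else 0))
    (l : ℕ) (hl0 : 0 < l) (hl : l < 2 * h) :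
    D.X c l = (δ₁ : ℂ) ∧ D.X b l = (δ₂ : ℂ) * (-1) ^ (l + 1) ∧ D.X b' l = (δ₃ : ℂ) * (-1) ^ (l + 1) ∧
      (∀ j : Fin (h - 1), D.X (a j) l = (δ₁ : ℂ) * (ζ ^ (((j : ℕ) + 1) * l) + (ζ ^ (((j : ℕ) + 1) * l))⁻¹)) ∧
      ∀ χ, χ ≠ D.b₀ → χ ≠ c → χ ≠ b → χ ≠ b' → (∀ j, χ ≠ a j) → D.X χ l = 0 :=
  Cfsg.Agent.Lib.Helper17.DIHVALof.values_of_shape_of hh hζ D
    (fun χ i hi0 hi => Cfsg.Agent.Lib.Helper15.DIHSYM.mu_symm_of hh D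
      (Cfsg.Agent.Lib.Helper9.DIHGRAM.gram hh hζ D) χ i hi0 hi)
    δ₁ δ₂ δ₃ c b b' a ha hc0 hb0 hb0' hcb hcb' hbb' hane hme hmj l hl0 hl

end Cfsg.Agent.Lib.Helper17.DIHVAL
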