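import Mathlib
import Cfsg.Agent.Lib.Helper8.DOMDefs
import Cfsg.Agent.Lib.Helper8.DOMBasic
import Cfsg.Agent.Lib.Helper17.DOMCoreC

/-!
# DOM-DEVISS, part A (helper17): the devissage step

`Cl τ ρ` : every `N`-equivariant map `T → V` lands in `ν V`.  If `W ≤ V` is `G`-stable and `Cl` holds
for `W` and `V ⧸ W`, it holds for `V`; hence, by induction on the dimension, `Cl` for all irreducible
representations implies `Cl` for all finite-dimensional ones.
-/

set_option autoImplicit false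
set_option linter.unusedSectionVars false

namespace Cfsg.Agent.Lib.Helper17.DOMDevA

open Cfsg.Agent.Lib.Helper8.DOM Cfsg.Agent.Lib.Helper8.DOMBasic

variable {F : Type*} [Field F] {G : Type*} [Group G] [Finite G]
variable {T : Type*} [AddCommGroup T] [Module F T]

/-- every `N`-equivariant map `T → V` lands in the norms. -/
def Cl (P : Subgroup G) (τ : Representation F (Nz P) T) {V : Type*} [AddCommGroup V] [Module F V]
    (ρ : Representation F G V) : Prop :=
  ∀ f : T →ₗ[F] V, (∀ (n : (Nz P)) (t : T), f (τ n t) = ρ (n : G) (f t)) →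
    ∀ t, f t ∈ LinearMap.range (nrm ρ P)

section subquot

variable {V : Type*} [AddCommGroup V] [Module F V]

theorem nrm_sub (ρ : Representation F G V) (P : Subgroup G) (W : Submodule F V)
    (hW : ∀ g, W ≤ W.comap (ρ g)) (w : W) :
    ((nrm (ρ.subrepresentation W hW) P w : W) : V) = nrm ρ P (w : V) := by
  classical
  have _ : Fintype P := Fintype.ofFinite P
  rw [nrm_eq_sum, nrm_eq_sum, LinearMap.sum_apply, LinearMap.sum_apply, Submodule.coe_sum]
  apply Finset.sum_congr rfl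
  intro x _
  rfl

theorem nrm_quot (ρ : Representation F G V) (P : Subgroup G) (W : Submodule F V)
    (hW : ∀ g, W ≤ W.comap (ρ g)) (v : V) :
    nrm (ρ.quotient W hW) P (W.mkQ v) = W.mkQ (nrm ρ P v) := by
  classical
  have _ : Fintype P := Fintype.ofFinite P
  rw [nrm_eq_sum, nrm_eq_sum, LinearMap.sum_apply, LinearMap.sum_apply, map_sum]
  apply Finset.sum_congr rfl
  intro x _
  rfl

end subquot

section step

variable (p : ℕ) [Fact p.Prime] [CharP F p]
variable {V : Type*} [AddCommGroup V] [Module F V]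

/-- the devissage step. -/
theorem cl_of_sub_quot [FiniteDimensional F T] (P : Subgroup G) (hP : Nat.card P = p)
    (hidx : ¬ p ∣ P.relIndex (Nz P)) (τ : Representation F (Nz P) T)
    (hτ : ∀ x : (Nz P), (x : G) ∈ P → τ x = 1)
    (ρ : Representation F G V) (W : Submodule F V) (hW : ∀ g, W ≤ W.comap (ρ g))
    (hClW : Cl P τ (ρ.subrepresentation W hW)) (hClQ : Cl P τ (ρ.quotient W hW)) :
    Cl P τ ρ := by
  classical
  intro f hf t₀
  obtain ⟨H, hHN, hHc, hdecomp⟩ := DOMCoreC.exists_compl (F := F) p P hP hidx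
  have _ : Fintype H := Fintype.ofFinite H
  have hPN : P ≤ Nz P := Subgroup.le_normalizer
  -- the quotient map
  have hfbar : ∀ t, ∃ v, f t - nrm ρ P v ∈ W := by
    intro t
    have h1 := hClQ (W.mkQ ∘ₗ f) (by
      intro n t
      simp only [LinearMap.coe_comp, Function.comp_apply, hf]
      rfl) t
    obtain ⟨q, hq⟩ := h1
    obtain ⟨v, rfl⟩ := W.mkQ_surjective q
    refine ⟨v, ?_⟩
    rw [nrm_quot] at hq
    rw [← Submodule.Quotient.mk_eq_zero, Submodule.Quotient.mk_sub]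
    have : W.mkQ (f t) = W.mkQ (nrm ρ P v) := hq.symm
    simp only [Submodule.mkQ_apply] at this
    rw [this, sub_self]
  -- a linear choice
  let b := Module.finBasis F T
  choose v₀ hv₀ using fun i => hfbar (b i)
  let g₀ : T →ₗ[F] V := b.constr F v₀
  have hδ₀ : ∀ t, f t - nrm ρ P (g₀ t) ∈ W := by
    have h0 : W.mkQ ∘ₗ (f - nrm ρ P ∘ₗ g₀) = 0 := by
      apply b.ext
      intro i
      simp only [LinearMap.coe_comp, Function.comp_apply, LinearMap.sub_apply, g₀,
        Module.Basis.constr_basis, LinearMap.zero_apply]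
      exact (Submodule.Quotient.mk_eq_zero W).mpr (hv₀ i)
    intro t
    have := LinearMap.congr_fun h0 t
    simp only [LinearMap.coe_comp, Function.comp_apply, LinearMap.sub_apply,
      LinearMap.zero_apply] at this
    exact (Submodule.Quotient.mk_eq_zero W).mp this
  -- the average of `g₀` over `H`
  let τH : H → (T →ₗ[F] T) := fun h => τ ⟨(h : G), hHN h.2⟩
  let g₁ : T →ₗ[F] V :=
    ((Nat.card H : F)⁻¹) • ∑ h : H, (ρ (h : G)) ∘ₗ g₀ ∘ₗ τH h⁻¹
  have hg₁ : ∀ t, g₁ t = ((Nat.card H : F)⁻¹) • ∑ h : H, ρ (h : G) (g₀ (τH h⁻¹ t)) := by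
    intro t
    simp only [g₁, LinearMap.smul_apply, LinearMap.sum_apply, LinearMap.coe_comp,
      Function.comp_apply]
  have hτH_mul : ∀ a b : H, τH (a * b) = τH a ∘ₗ τH b := by
    intro a b
    simp only [τH]
    have : (⟨((a * b : H) : G), hHN (a * b).2⟩ : Nz P) = ⟨(a : G), hHN a.2⟩ * ⟨(b : G), hHN b.2⟩ :=
      rfl
    rw [this, map_mul]
    rfl
  have hτH_one : τH 1 = LinearMap.id := by
    simp only [τH]
    have : (⟨((1 : H) : G), hHN (1 : H).2⟩ : Nz P) = 1 := rfl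
    rw [this, map_one]
    rfl
  -- `g₁` is `H`-equivariant
  have hg₁H : ∀ (k : H) (t : T), ρ (k : G) (g₁ t) = g₁ (τH k t) := by
    intro k t
    rw [hg₁, hg₁, map_smul, map_sum]
    congr 1
    apply Fintype.sum_equiv (Equiv.mulLeft k)
    intro h
    simp only [Equiv.coe_mulLeft, Subgroup.coe_mul, mul_inv_rev]
    rw [← Module.End.mul_apply (ρ (k : G)), ← map_mul]
    congr 2
    have : τH (h⁻¹ * k⁻¹) (τH k t) = τH h⁻¹ t := by
      rw [← LinearMap.comp_apply, ← hτH_mul, inv_mul_cancel_right]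
    exact this.symm
  -- `δ' = f - ν g₁` has values in `W`
  have hfH : ∀ (k : H) (t : T), f (τH k t) = ρ (k : G) (f t) := fun k t => hf ⟨(k : G), hHN k.2⟩ t
  have hδ' : ∀ t, f t - nrm ρ P (g₁ t) ∈ W := by
    intro t
    have h1 : f t - nrm ρ P (g₁ t) = ((Nat.card H : F)⁻¹) •
        ∑ h : H, ρ (h : G) (f (τH h⁻¹ t) - nrm ρ P (g₀ (τH h⁻¹ t))) := by
      have h2 : ∀ h : H, ρ (h : G) (f (τH h⁻¹ t) - nrm ρ P (g₀ (τH h⁻¹ t))) =
          f t - nrm ρ P (ρ (h : G) (g₀ (τH h⁻¹ t))) := by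
        intro h
        rw [map_sub, ← hfH h, ← LinearMap.comp_apply (τH h), ← hτH_mul, mul_inv_cancel, hτH_one,
          LinearMap.id_apply, nrm_comm ρ P (hHN h.2)]
      rw [Finset.sum_congr rfl (fun h _ => h2 h), Finset.sum_sub_distrib, Finset.sum_const,
        Finset.card_univ, ← Nat.card_eq_fintype_card, smul_sub, ← Nat.cast_smul_eq_nsmul F,
        smul_smul, inv_mul_cancel₀ hHc, one_smul, hg₁, map_smul, map_sum]
    rw [h1]
    apply Submodule.smul_mem
    apply Submodule.sum_mem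
    intro h _
    exact hW _ (hδ₀ _)
  -- equivariance of `δ'`
  have hνfix : ∀ y ∈ P, ∀ v, ρ y (nrm ρ P v) = nrm ρ P v := by
    intro y hy v
    exact (range_nrm_le_fixed ρ P ⟨v, rfl⟩) y hy
  have hδ'P : ∀ y ∈ P, ∀ s, ρ y (f s - nrm ρ P (g₁ s)) = f s - nrm ρ P (g₁ s) := by
    intro y hy s
    rw [map_sub, hνfix y hy]
    have h1 := hf ⟨y, hPN hy⟩ s
    rw [hτ ⟨y, hPN hy⟩ hy] at h1
    simp only [Module.End.one_apply] at h1
    rw [← h1]
  have hδ'H : ∀ (k : H) (s : T), f (τH k s) - nrm ρ P (g₁ (τH k s)) =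
      ρ (k : G) (f s - nrm ρ P (g₁ s)) := by
    intro k s
    rw [map_sub, hfH, ← hg₁H, nrm_comm ρ P (hHN k.2)]
  -- the corestriction to `W`
  let δ : T →ₗ[F] W := (f - nrm ρ P ∘ₗ g₁).codRestrict W (by
    intro t
    simp only [LinearMap.sub_apply, LinearMap.coe_comp, Function.comp_apply]
    exact hδ' t)
  have hδval : ∀ t, ((δ t : W) : V) = f t - nrm ρ P (g₁ t) := fun t => rfl
  have hδeq : ∀ (n : (Nz P)) (t : T), δ (τ n t) = (ρ.subrepresentation W hW) (n : G) (δ t) := by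
    intro n t
    apply Subtype.ext
    obtain ⟨y, hy, h, hh, hn⟩ := hdecomp (n : G) n.2
    have hnfac : n = (⟨y, hPN hy⟩ : Nz P) * ⟨h, hHN hh⟩ := Subtype.ext hn
    have hτn : τ n t = τ ⟨y, hPN hy⟩ (τH ⟨h, hh⟩ t) := by
      rw [hnfac, map_mul]
      rfl
    have hτy : τ (⟨y, hPN hy⟩ : Nz P) = 1 := hτ _ hy
    rw [hτn, hτy, Module.End.one_apply, hδval]
    show _ = ρ (n : G) ((δ t : W) : V)
    rw [hδval, hn, map_mul, Module.End.mul_apply]
    have h3 : ρ h (f t - nrm ρ P (g₁ t)) =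
        f (τH ⟨h, hh⟩ t) - nrm ρ P (g₁ (τH ⟨h, hh⟩ t)) := (hδ'H ⟨h, hh⟩ t).symm
    rw [h3, hδ'P y hy]
  obtain ⟨w, hw⟩ := hClW δ hδeq t₀
  refine ⟨g₁ t₀ + (w : V), ?_⟩
  have h1 := congrArg (Subtype.val) hw
  rw [nrm_sub, hδval] at h1
  rw [map_add, h1]
  abel

end step

end Cfsg.Agent.Lib.Helper17.DOMDevA
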