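import Mathlib
import Cfsg.Agent.Lib.Helper8.DOMDefs
import Cfsg.Agent.Lib.Helper8.DOMBasic
import Cfsg.Agent.Lib.Helper17.DOMCoreC
import Cfsg.Agent.Lib.Helper17.DOMDevA

/-!
# DOM-DEVISS, part B (helper17): induction on the dimension, the induced module, the contradiction
-/

set_option autoImplicit false
set_option linter.unusedSectionVars false

namespace Cfsg.Agent.Lib.Helper17.DOMDevB

open Cfsg.Agent.Lib.Helper8.DOM Cfsg.Agent.Lib.Helper8.DOMBasic
open Cfsg.Agent.Lib.Helper17.DOMDevA

universe u v w u'

variable {F : Type u} [Field F] {G : Type v} [Group G] [Finite G]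
variable {T : Type w} [AddCommGroup T] [Module F T]

section induction

variable (p : ℕ) [Fact p.Prime] [CharP F p]

/-- `Cl` for all irreducible representations implies `Cl` for all finite-dimensional ones. -/
theorem cl_all [FiniteDimensional F T] (P : Subgroup G) (hP : Nat.card P = p)
    (hidx : ¬ p ∣ P.relIndex (Nz P)) (τ : Representation F (Nz P) T)
    (hτ : ∀ x : (Nz P), (x : G) ∈ P → τ x = 1)
    (hirr : ∀ (V : Type u') [AddCommGroup V] [Module F V] [FiniteDimensional F V]
      (ρ : Representation F G V), ρ.IsIrreducible → Cl P τ ρ) :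
    ∀ (d : ℕ) (V : Type u') [AddCommGroup V] [Module F V] [FiniteDimensional F V]
      (ρ : Representation F G V), Module.finrank F V = d → Cl P τ ρ := by
  intro d
  induction d using Nat.strong_induction_on with
  | _ d ih =>
    intro V _ _ _ ρ hd
    by_cases hirr' : ρ.IsIrreducible
    · exact hirr V ρ hirr'
    by_cases hsub : Subsingleton V
    · intro f _ t
      have : f t = 0 := Subsingleton.elim _ _
      rw [this]
      exact Submodule.zero_mem _
    have hnt : Nontrivial V := not_subsingleton_iff_nontrivial.mp hsub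
    obtain ⟨a, habot, hatop⟩ : ∃ a : Subrepresentation ρ, a ≠ ⊥ ∧ a ≠ ⊤ := by
      by_contra hcon
      push Not at hcon
      apply hirr'
      have hbt : (⊥ : Subrepresentation ρ) ≠ ⊤ := by
        intro h
        have h1 := congrArg Subrepresentation.toSubmodule h
        exact bot_ne_top h1
      exact
        { exists_pair_ne := ⟨⊥, ⊤, hbt⟩
          eq_bot_or_eq_top := fun a => by
            by_cases h : a = ⊥
            · left; exact h
            · right; exact hcon a h }
    obtain ⟨W, hWdef⟩ : ∃ W : Submodule F V, W = a.toSubmodule := ⟨_, rfl⟩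
    have hW : ∀ g, W ≤ W.comap (ρ g) := by
      intro g v hv
      rw [hWdef] at hv ⊢
      exact a.apply_mem_toSubmodule g hv
    have hWbot : W ≠ ⊥ := by
      intro h
      apply habot
      apply Subrepresentation.toSubmodule_injective
      rw [← hWdef, h]
      rfl
    have hWtop : W ≠ ⊤ := by
      intro h
      apply hatop
      apply Subrepresentation.toSubmodule_injective
      rw [← hWdef, h]
      rfl
    have h1 : Module.finrank F W < d := by
      rw [← hd]; exact Submodule.finrank_lt hWtop
    have h2 : Module.finrank F (V ⧸ W) < d := by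
      have h3 := Submodule.finrank_quotient_add_finrank W
      have h4 : 0 < Module.finrank F W := by
        rw [Module.finrank_pos_iff, Submodule.nontrivial_iff_ne_bot]
        exact hWbot
      omega
    exact cl_of_sub_quot p P hP hidx τ hτ ρ W hW
      (ih _ h1 W (ρ.subrepresentation W hW) rfl) (ih _ h2 (V ⧸ W) (ρ.quotient W hW) rfl)

end induction

section induced

variable (P : Subgroup G) (τ : Representation F (Nz P) T)

/-- the induced module `{φ : G → T | φ (n g) = τ n (φ g)}` -/
def indSub : Submodule F (G → T) where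
  carrier := {φ | ∀ (n : (Nz P)) (g : G), φ ((n : G) * g) = τ n (φ g)}
  add_mem' := by
    intro a b ha hb n g
    simp only [Pi.add_apply, map_add, ha n g, hb n g]
  zero_mem' := by
    intro n g
    simp
  smul_mem' := by
    intro c a ha n g
    simp only [Pi.smul_apply, map_smul, ha n g]

/-- right translation on the induced module -/
def indRep : Representation F G (indSub P τ) where
  toFun g :=
    { toFun := fun φ => ⟨fun g' => φ.1 (g' * g), by
        intro n g'
        have := φ.2 n (g' * g)
        rw [← mul_assoc] at this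
        exact this⟩
      map_add' := by
        intro φ ψ
        apply Subtype.ext
        funext g'
        rfl
      map_smul' := by
        intro c φ
        apply Subtype.ext
        funext g'
        rfl }
  map_one' := by
    apply LinearMap.ext
    intro φ
    apply Subtype.ext
    funext g'
    show φ.1 (g' * 1) = φ.1 g'
    rw [mul_one]
  map_mul' := by
    intro g₁ g₂
    apply LinearMap.ext
    intro φ
    apply Subtype.ext
    funext g'
    show φ.1 (g' * (g₁ * g₂)) = φ.1 (g' * g₁ * g₂)
    rw [mul_assoc]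

theorem indRep_apply (g : G) (φ : indSub P τ) (g' : G) :
    ((indRep P τ g φ : indSub P τ) : G → T) g' = (φ : G → T) (g' * g) := rfl

open Classical in
/-- `t ↦ (y ↦ τ y t on N, 0 off N)` -/
noncomputable def jmap : T →ₗ[F] indSub P τ where
  toFun t := ⟨fun g => if h : g ∈ Nz P then τ ⟨g, h⟩ t else 0, by
    intro n g
    by_cases hg : g ∈ Nz P
    · have hng : (n : G) * g ∈ Nz P := (Nz P).mul_mem n.2 hg
      simp only [dif_pos hg, dif_pos hng]
      have : (⟨(n : G) * g, hng⟩ : Nz P) = n * ⟨g, hg⟩ := rfl
      rw [this, map_mul]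
      rfl
    · have hng : (n : G) * g ∉ Nz P := by
        intro h
        apply hg
        have := (Nz P).mul_mem ((Nz P).inv_mem n.2) h
        rwa [inv_mul_cancel_left] at this
      simp only [dif_neg hg, dif_neg hng, map_zero]⟩
  map_add' := by
    intro a b
    apply Subtype.ext
    funext g
    by_cases hg : g ∈ Nz P
    · simp only [dif_pos hg, map_add]
      show _ = (if h : g ∈ Nz P then τ ⟨g, h⟩ a else 0) + (if h : g ∈ Nz P then τ ⟨g, h⟩ b else 0)
      rw [dif_pos hg, dif_pos hg]
    · simp only [dif_neg hg]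
      show _ = (if h : g ∈ Nz P then τ ⟨g, h⟩ a else 0) + (if h : g ∈ Nz P then τ ⟨g, h⟩ b else 0)
      rw [dif_neg hg, dif_neg hg, add_zero]
  map_smul' := by
    intro c a
    apply Subtype.ext
    funext g
    by_cases hg : g ∈ Nz P
    · simp only [dif_pos hg, map_smul, RingHom.id_apply]
      show _ = c • (if h : g ∈ Nz P then τ ⟨g, h⟩ a else 0)
      rw [dif_pos hg]
    · simp only [dif_neg hg, RingHom.id_apply]
      show _ = c • (if h : g ∈ Nz P then τ ⟨g, h⟩ a else 0)
      rw [dif_neg hg, smul_zero]

open Classical in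
theorem jmap_apply (t : T) (g : G) :
    ((jmap P τ t : indSub P τ) : G → T) g = if h : g ∈ Nz P then τ ⟨g, h⟩ t else 0 := rfl

theorem jmap_one (t : T) : ((jmap P τ t : indSub P τ) : G → T) 1 = t := by
  rw [jmap_apply, dif_pos (Nz P).one_mem]
  have : (⟨1, (Nz P).one_mem⟩ : Nz P) = 1 := rfl
  rw [this, map_one]
  rfl

theorem jmap_equivariant (n : (Nz P)) (t : T) :
    jmap P τ (τ n t) = indRep P τ (n : G) (jmap P τ t) := by
  apply Subtype.ext
  funext g
  rw [indRep_apply, jmap_apply, jmap_apply]
  by_cases hg : g ∈ Nz P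
  · have hgn : g * (n : G) ∈ Nz P := (Nz P).mul_mem hg n.2
    rw [dif_pos hg, dif_pos hgn]
    have : (⟨g * (n : G), hgn⟩ : Nz P) = ⟨g, hg⟩ * n := rfl
    rw [this, map_mul]
    rfl
  · have hgn : g * (n : G) ∉ Nz P := by
      intro h
      apply hg
      have := (Nz P).mul_mem h ((Nz P).inv_mem n.2)
      rwa [mul_inv_cancel_right] at this
    rw [dif_neg hg, dif_neg hgn]

/-- the value at `1` of a norm vanishes in characteristic `p = |P|`. -/
theorem nrm_indRep_one (p : ℕ) [CharP F p] (hP : Nat.card P = p)
    (hτ : ∀ x : (Nz P), (x : G) ∈ P → τ x = 1) (φ : indSub P τ) :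
    ((nrm (indRep P τ) P φ : indSub P τ) : G → T) 1 = 0 := by
  classical
  have _ : Fintype P := Fintype.ofFinite P
  have hPN : P ≤ Nz P := Subgroup.le_normalizer
  let ev : indSub P τ →ₗ[F] T := (LinearMap.proj (1 : G)) ∘ₗ (indSub P τ).subtype
  have hev : ∀ ψ : indSub P τ, ev ψ = (ψ : G → T) 1 := fun ψ => rfl
  rw [← hev, nrm_eq_sum, LinearMap.sum_apply, map_sum]
  have h1 : ∀ x : P, ev (indRep P τ (x : G) φ) = (φ : G → T) 1 := by
    intro x
    rw [hev, indRep_apply, one_mul]
    have h2 := φ.2 ⟨(x : G), hPN x.2⟩ 1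
    rw [mul_one] at h2
    rw [h2, hτ ⟨(x : G), hPN x.2⟩ x.2]
    rfl
  rw [Finset.sum_congr rfl (fun x _ => h1 x), Finset.sum_const, Finset.card_univ,
    ← Nat.card_eq_fintype_card, hP, ← Nat.cast_smul_eq_nsmul F, CharP.cast_eq_zero, zero_smul]

end induced

section final

variable (p : ℕ) [Fact p.Prime] [CharP F p]

/-- DEVISS, core form. -/
theorem exists_irr_stable_map_core (P : Subgroup G) (hP : Nat.card P = p)
    (hidx : ¬ p ∣ P.relIndex (Nz P))
    [FiniteDimensional F T] [Nontrivial T]
    (τ : Representation F (Nz P) T)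
    (hτ : ∀ x : (Nz P), (x : G) ∈ P → τ x = 1) :
    ∃ (V : Type (max v w)) (_ : AddCommGroup V) (_ : Module F V) (_ : FiniteDimensional F V)
      (ρ : Representation F G V), ρ.IsIrreducible ∧
      ∃ f : T →ₗ[F] V, (∀ (n : (Nz P)) (t : T), f (τ n t) = ρ (n : G) (f t)) ∧
        ∃ t, f t ∉ LinearMap.range (nrm ρ P) := by
  by_contra hcon
  have hirr : ∀ (V : Type (max v w)) [AddCommGroup V] [Module F V] [FiniteDimensional F V]
      (ρ : Representation F G V), ρ.IsIrreducible → Cl P τ ρ := by
    intro V i1 i2 i3 ρ hρ f hf t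
    by_contra hnot
    exact hcon ⟨V, i1, i2, i3, ρ, hρ, f, hf, t, hnot⟩
  have hall := cl_all p P hP hidx τ hτ hirr _ (indSub P τ) (indRep P τ) rfl
  obtain ⟨t, ht⟩ := exists_ne (0 : T)
  obtain ⟨φ, hφ⟩ := hall (jmap P τ) (jmap_equivariant P τ) t
  apply ht
  rw [← jmap_one P τ t, ← hφ]
  exact nrm_indRep_one P τ p hP hτ φ

end final

end Cfsg.Agent.Lib.Helper17.DOMDevB
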