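import Mathlib
import Cfsg.Prelude.Def_BlockRank
import Cfsg.Agent.Lib.Helper8.DOMDefs
import Cfsg.Agent.Lib.Helper27.BlkAlgDefs2
import Cfsg.Agent.Lib.Helper27.BlkAlgL3
import Cfsg.Agent.Lib.Helper19.BlkAlgB1
import Cfsg.Agent.Lib.Helper18.BlkAlgB3
import Cfsg.Agent.Lib.Helper17.DOMDevB

/-!
# DOM-DEVISS (helper17): `exists_irr_stable_map`

Exact statement of the leaf `exists_irr_stable_map` of `notes/S4442_M_leaves.lean`.  The proof is
`DOMDevB.exists_irr_stable_map_core` (dévissage step in `DOMDevA`, induction on the dimension and the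
induced module in `DOMDevB`).
-/

set_option autoImplicit false
set_option linter.unusedSectionVars false

namespace Cfsg.Agent.Lib.Helper17.DOMDEVISS

open Cfsg Cfsg.Agent.Lib.Helper8.DOM Cfsg.Agent.Lib.Helper27.BlkAlg

universe u v w

section modules

variable {F : Type u} [Field F] {G : Type v} [Group G] [Finite G]
variable {V : Type w} [AddCommGroup V] [Module F V]
variable (p : ℕ) [Fact p.Prime] [CharP F p]

/-- DEVISS -/
theorem exists_irr_stable_map (P : Subgroup G) (hP : Nat.card P = p)
    (hidx : ¬ p ∣ P.relIndex (Nz P))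
    {T : Type w} [AddCommGroup T] [Module F T] [FiniteDimensional F T] [Nontrivial T]
    (τ : Representation F (Nz P) T)
    (hτ : ∀ x : (Nz P), (x : G) ∈ P → τ x = 1) :
    ∃ (V : Type (max v w)) (_ : AddCommGroup V) (_ : Module F V) (_ : FiniteDimensional F V)
      (ρ : Representation F G V), ρ.IsIrreducible ∧
      ∃ f : T →ₗ[F] V, (∀ (n : (Nz P)) (t : T), f (τ n t) = ρ (n : G) (f t)) ∧
        ∃ t, f t ∉ LinearMap.range (nrm ρ P) :=
  Cfsg.Agent.Lib.Helper17.DOMDevB.exists_irr_stable_map_core p P hP hidx τ hτ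

end modules

end Cfsg.Agent.Lib.Helper17.DOMDEVISS
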