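import Mathlib
import Cfsg.Prelude.Def_BlockRank
import Cfsg.Agent.Lib.Helper27.DODefs
import Cfsg.Agent.Lib.Helper27.BlkAlgDefs2
import Cfsg.Agent.Lib.Helper23.DOLOC1
import Cfsg.Agent.Lib.Helper22.DOLOC2
import Cfsg.Agent.Lib.Helper23.DOLOC3
import Cfsg.Agent.Lib.Helper16.DOCONJ
import Cfsg.Agent.Lib.Helper26.DOINERT
import Cfsg.Agent.Lib.Helper26.DOSETUP
import Cfsg.Agent.Lib.Helper23.DOGCOUNT
import Cfsg.Agent.Lib.Helper13.DOROOTCONJ

/-!
# S4502 read-off, part A (helper17): the class number of `N_G(P)`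

`P` a Sylow `p`-subgroup of order `p`, `C = C_G(P)`, `N = N_G(P)`, `f = |N : C|`.  Every irreducible
character of `C` is `φ_(θ,i)` for a unique `P`-trivial `θ` and a unique central index `i`; the stabilizer of
`φ_(θ,0) = θ` is `T_θ`, the stabilizer of `φ_(θ,i)`, `i ≠ 0`, is `C`.  With helper23's Clifford count
`|N : C| k(N) = ∑_φ e_φ²` this gives `f k(N) = ∑_θ (e_θ² + p - 1)`.
-/

set_option autoImplicit false
set_option linter.unusedSectionVars false

namespace Cfsg.Agent.Lib.Helper17.DOS4502A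

open Cfsg Cfsg.Agent.CharLib Cfsg.Agent.Lib.Helper8.DOM Cfsg.Agent.Lib.Helper27.DO
open Cfsg.Agent.Lib.Helper6 Cfsg.Agent.Lib.Helper24
open Cfsg.Agent.Lib.Helper26.DOINERT

universe u

variable {G : Type u} [Group G] [Finite G] {p : ℕ} [Fact p.Prime] {M : Ideal AlgInt}

/-- the `P`-trivial irreducible characters of `C_G(P)` -/
abbrev Theta (P : Subgroup G) : Type u :=
  {θ : IrrCharacter (Cz P) // PTriv P (θ : Cz P → ℂ)}

/-- the inertial index `|T_φ : C|` of a function on `C` -/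
noncomputable def eIdx (P : Subgroup G) (φ : Cz P → ℂ) : ℕ :=
  (Cz P).relIndex (inertiaSub P φ)

theorem isInertia_inertiaSub (P : Subgroup G) (φ : Cz P → ℂ) : IsInertia P φ (inertiaSub P φ) :=
  fun _ => Iff.rfl

/-- a `P`-trivial irreducible character has central index `0` -/
theorem hasIdx_zero_of_pTriv (P : Subgroup G) (hP : Nat.card P = p) (x0 : G)
    (hx0 : P = Subgroup.zpowers x0) (θ : IrrCharacter (Cz P)) (hθ : PTriv P (θ : Cz P → ℂ)) :
    HasIdx p P x0 (θ : Cz P → ℂ) 0 := by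
  obtain ⟨j, hj, -⟩ := Cfsg.Agent.Lib.Helper23.DOLOC1.exists_unique_hasIdx P hP x0 hx0 θ
  have hx0C : x0 ∈ Cz P := Cfsg.Agent.Lib.Helper22.DOLOC2.gen_mem_Cz P x0 hx0
  have hx0P : x0 ∈ P := by rw [hx0]; exact Subgroup.mem_zpowers x0
  have h1 := hj 1 ⟨x0, hx0C⟩ (by simp)
  have h2 := hθ ⟨x0, hx0C⟩ hx0P
  rw [h2] at h1
  have h3 : zetaP p ^ j.val = 1 := by
    have hne := irr_apply_one_ne_zero θ
    have : (zetaP p ^ j.val - 1) * (θ : Cz P → ℂ) 1 = 0 := by
      rw [sub_mul, one_mul, ← h1, sub_self]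
    rcases mul_eq_zero.mp this with h | h
    · exact sub_eq_zero.mp h
    · exact absurd h hne
  have h4 : p ∣ j.val :=
    (Cfsg.Agent.Lib.Helper23.DOLOC1.zetaP_isPrimitiveRoot (p := p)).pow_eq_one_iff_dvd _ |>.mp h3
  have h5 : j.val = 0 := Nat.eq_zero_of_dvd_of_lt h4 (ZMod.val_lt j)
  have h6 : j = 0 := (ZMod.val_eq_zero j).mp h5
  rw [h6] at hj
  exact hj

/-- the stabilizer of a character with nonzero central index is `C` -/
theorem inertiaSub_eq_of_idx_ne_zero (P : Subgroup G) (hP : Nat.card P = p) (x0 : G)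
    (hx0 : P = Subgroup.zpowers x0) (φ : IrrCharacter (Cz P)) (i : ZMod p) (hi : i ≠ 0)
    (hφ : HasIdx p P x0 (φ : Cz P → ℂ) i) : inertiaSub P (φ : Cz P → ℂ) = Cz P := by
  have hp : p.Prime := Fact.out
  apply le_antisymm
  · intro g hg
    obtain ⟨hgN, hgφ⟩ := hg
    have hord : orderOf x0 = p := Cfsg.Agent.Lib.Helper26.DOSETUP.orderOf_gen P hP x0 hx0
    obtain ⟨u, hu⟩ := Cfsg.Agent.Lib.Helper26.DOSETUP.exists_unit P x0 hx0 hord g hgN
    have hconj : conjC P ⟨g, hgN⟩ (φ : Cz P → ℂ) = (φ : Cz P → ℂ) := by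
      funext c
      exact hgφ c _ rfl
    have h1 := Cfsg.Agent.Lib.Helper16.DOCONJ.hasIdx_conjC P x0 hx0 ⟨g, hgN⟩ u hu
      (φ : Cz P → ℂ) i hφ
    rw [hconj] at h1
    obtain ⟨j, -, hj⟩ := Cfsg.Agent.Lib.Helper23.DOLOC1.exists_unique_hasIdx P hP x0 hx0 φ
    have h2 : (u : ZMod p) * i = i := by rw [hj _ h1, hj _ hφ]
    have h3 : ((u : ZMod p) - 1) * i = 0 := by rw [sub_mul, one_mul, h2, sub_self]
    have h4 : (u : ZMod p) = 1 := by
      rcases mul_eq_zero.mp h3 with h | h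
      · exact sub_eq_zero.mp h
      · exact absurd h hi
    have h5 : (u : ZMod p).val = 1 := by
      rw [h4]
      have : Fact (1 < p) := ⟨hp.one_lt⟩
      exact ZMod.val_one p
    rw [h5, pow_one] at hu
    have hcomm : g * x0 = x0 * g := by
      calc g * x0 = g * x0 * g⁻¹ * g := by group
        _ = x0 * g := by rw [hu]
    rw [Subgroup.mem_centralizer_iff]
    intro h hh
    rw [SetLike.mem_coe, hx0, Subgroup.mem_zpowers_iff] at hh
    obtain ⟨k, rfl⟩ := hh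
    have hc : Commute g x0 := hcomm
    exact ((hc.zpow_right k).eq).symm
  · exact (Cfsg.Agent.Lib.Helper26.DOINERT.le_of_isInertia P φ _
      (isInertia_inertiaSub P (φ : Cz P → ℂ))).1

/-- every irreducible character of `C` is `φ_(θ,i)` for a unique pair `(θ, i)` -/
theorem exists_bij (hM : IsPModular p M) (P : Subgroup G) (hP : Nat.card P = p)
    (hSyl : ¬ p ∣ P.index) (x0 : G) (hx0 : P = Subgroup.zpowers x0) :
    ∃ Ψ : IrrCharacter (Cz P) → Theta P × ZMod p, Function.Bijective Ψ ∧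
      (∀ φ : IrrCharacter (Cz P), ((Ψ φ).1 : IrrCharacter (Cz P)) ∈ blockOf M (φ : Cz P → ℂ)) ∧
      (∀ φ : IrrCharacter (Cz P), HasIdx p P x0 (φ : Cz P → ℂ) (Ψ φ).2) := by
  have hprime : M.IsPrime := isPrime_of_isPModular hM
  have h3 := fun φ => Cfsg.Agent.Lib.Helper23.DOLOC3.exists_pTriv_mem hM P hP hSyl φ
  choose th hth using h3
  have h1 := fun φ => (Cfsg.Agent.Lib.Helper23.DOLOC1.exists_unique_hasIdx P hP x0 hx0 φ).exists
  choose ix hix using h1
  refine ⟨fun φ => (⟨th φ, (hth φ).2⟩, ix φ), ⟨?_, ?_⟩, fun φ => (hth φ).1, hix⟩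
  · -- injective
    intro φ φ' h
    have hθ : th φ = th φ' := congrArg (fun x => (x.1 : IrrCharacter (Cz P))) h
    have hi : ix φ = ix φ' := congrArg Prod.snd h
    have hL := (Cfsg.Agent.Lib.Helper22.DOLOC2.block_of_pTriv hM P hP hSyl x0 hx0 (th φ)
      (hth φ).2).1 (ix φ)
    have hφ : φ ∈ blockOf M ((th φ : IrrCharacter (Cz P)) : Cz P → ℂ) :=
      sameBlock_symm (hth φ).1
    have hφ' : φ' ∈ blockOf M ((th φ : IrrCharacter (Cz P)) : Cz P → ℂ) := by
      rw [hθ]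
      exact sameBlock_symm (hth φ').1
    have hi' : HasIdx p P x0 (φ' : Cz P → ℂ) (ix φ) := by rw [hi]; exact hix φ'
    exact hL.unique ⟨hφ, hix φ⟩ ⟨hφ', hi'⟩
  · -- surjective
    rintro ⟨⟨θ, hθ⟩, i⟩
    have hL := Cfsg.Agent.Lib.Helper22.DOLOC2.block_of_pTriv hM P hP hSyl x0 hx0 θ hθ
    obtain ⟨φ, ⟨hφb, hφi⟩, -⟩ := hL.1 i
    refine ⟨φ, ?_⟩
    have h4 : th φ = θ := by
      apply hL.2.2 (th φ) ?_ (hth φ).2
      -- `th φ ∈ blockOf φ`, `φ ∈ blockOf θ`
      exact sameBlock_trans hφb (hth φ).1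
    have h5 : ix φ = i := by
      obtain ⟨j, -, hj⟩ := Cfsg.Agent.Lib.Helper23.DOLOC1.exists_unique_hasIdx P hP x0 hx0 φ
      rw [hj _ (hix φ), hj _ hφi]
    apply Prod.ext
    · exact Subtype.ext h4
    · exact h5

end Cfsg.Agent.Lib.Helper17.DOS4502A
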