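import Mathlib
import Cfsg.Agent.Lib.Helper17.DOS4502A

/-!
# S4502 read-off, part B (helper17): `f k(N) = ∑_θ (e_θ² + p - 1)`
-/

set_option autoImplicit false
set_option linter.unusedSectionVars false

namespace Cfsg.Agent.Lib.Helper17.DOS4502B

open Cfsg Cfsg.Agent.CharLib Cfsg.Agent.Lib.Helper8.DOM Cfsg.Agent.Lib.Helper27.DO
open Cfsg.Agent.Lib.Helper6 Cfsg.Agent.Lib.Helper24
open Cfsg.Agent.Lib.Helper26.DOINERT Cfsg.Agent.Lib.Helper17.DOS4502A
open Cfsg.Agent.Lib.Helper23.Def1COUNT Cfsg.Agent.Lib.Helper23.DOGCOUNT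

universe u

variable {G : Type u} [Group G] [Finite G] {p : ℕ} [Fact p.Prime] {M : Ideal AlgInt}

/-- `∑_{i : ℤ/p} (a if i = 0, else 1) = a + (p - 1)` -/
theorem sum_ite_zmod (a : ℕ) :
    ∑ i : ZMod p, (if i = 0 then a else 1) = a + (p - 1) := by
  classical
  rw [← Finset.add_sum_erase Finset.univ _ (Finset.mem_univ (0 : ZMod p)), if_pos rfl]
  congr 1
  rw [Finset.sum_congr rfl (fun i hi => if_neg (Finset.ne_of_mem_erase hi)), Finset.sum_const,
    Finset.card_erase_of_mem (Finset.mem_univ _), Finset.card_univ, ZMod.card, smul_eq_mul, mul_one]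

/-- the identification of `Irr (C_G(P))` with `Irr (C_N(P))` -/
noncomputable def irrEquiv (P : Subgroup G) : IrrCharacter (Cz P) ≃ IrrCharacter (Cn P) where
  toFun φ := ⟨(φ : Cz P → ℂ) ∘ eC P, isIrrCharacter_comp_mulEquiv' (eC P) φ.2⟩
  invFun ψ := ⟨(ψ : Cn P → ℂ) ∘ (eC P).symm, isIrrCharacter_comp_mulEquiv' (eC P).symm ψ.2⟩
  left_inv φ := by
    apply Subtype.ext
    funext c
    simp
  right_inv ψ := by
    apply Subtype.ext
    funext c
    simp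

/-- **the class number of `N_G(P)`**: `f k(N) = ∑_θ (e_θ² + p - 1)`. -/
theorem relIndex_mul_card_conjClasses (hM : IsPModular p M) (P : Subgroup G)
    (hP : Nat.card P = p) (hSyl : ¬ p ∣ P.index) :
    (Cz P).relIndex (Nz P) * Nat.card (ConjClasses (Nz P)) =
      ∑ᶠ θ : Theta P, (eIdx P (θ.1 : Cz P → ℂ) ^ 2 + (p - 1)) := by
  classical
  have hprime : M.IsPrime := isPrime_of_isPModular hM
  obtain ⟨x0, hx0⟩ := Cfsg.Agent.Lib.Helper13.DOROOTCONJ.exists_gen P hP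
  letI : Fintype (Nz P) := Fintype.ofFinite _
  letI : Fintype (Cn P) := Fintype.ofFinite _
  have hcyc := isCyclic_quot P hP
  have h1 := index_mul_card_conjClasses (Cn P) hcyc
  have h2 : (Cn P).index = (Cz P).relIndex (Nz P) := rfl
  rw [h2] at h1
  rw [h1, ← finsum_comp_equiv (irrEquiv P)]
  have h3 : ∀ φ : IrrCharacter (Cz P),
      (Cn P).relIndex (stab (Cn P) ((irrEquiv P φ : IrrCharacter (Cn P)) : Cn P → ℂ)) =
        eIdx P (φ : Cz P → ℂ) :=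
    fun φ => relIndex_stab P (φ : Cz P → ℂ) _ (isInertia_inertiaSub P (φ : Cz P → ℂ))
  simp only [h3]
  obtain ⟨Ψ, hΨ, hΨb, hΨi⟩ := exists_bij hM P hP hSyl x0 hx0
  letI := fintypeIrr (Cz P)
  letI : Fintype (Theta P) := Fintype.ofFinite _
  rw [finsum_eq_sum_of_fintype, finsum_eq_sum_of_fintype]
  let g : Theta P × ZMod p → ℕ := fun x =>
    if x.2 = 0 then eIdx P ((x.1.1 : IrrCharacter (Cz P)) : Cz P → ℂ) ^ 2 else 1
  have h4 : ∀ φ : IrrCharacter (Cz P), eIdx P (φ : Cz P → ℂ) ^ 2 = g (Ψ φ) := by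
    intro φ
    show _ = if (Ψ φ).2 = 0 then _ else 1
    by_cases h0 : (Ψ φ).2 = 0
    · rw [if_pos h0]
      have hL := (Cfsg.Agent.Lib.Helper22.DOLOC2.block_of_pTriv hM P hP hSyl x0 hx0 (Ψ φ).1.1
        (Ψ φ).1.2).1 0
      have hφ : φ ∈ blockOf M (((Ψ φ).1.1 : IrrCharacter (Cz P)) : Cz P → ℂ) :=
        sameBlock_symm (hΨb φ)
      have hφi : HasIdx p P x0 (φ : Cz P → ℂ) 0 := by rw [← h0]; exact hΨi φ
      have hθ := hasIdx_zero_of_pTriv P hP x0 hx0 (Ψ φ).1.1 (Ψ φ).1.2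
      have heq : φ = (Ψ φ).1.1 := hL.unique ⟨hφ, hφi⟩ ⟨mem_blockOf_self _, hθ⟩
      rw [← heq]
    · rw [if_neg h0, eIdx, inertiaSub_eq_of_idx_ne_zero P hP x0 hx0 φ _ h0 (hΨi φ),
        Subgroup.relIndex_self, one_pow]
  have h5 := hΨ.sum_comp g
  rw [Finset.sum_congr rfl (fun φ _ => h4 φ), h5, Fintype.sum_prod_type]
  apply Finset.sum_congr rfl
  intro θ _
  exact sum_ite_zmod (p := p) (eIdx P ((θ.1 : IrrCharacter (Cz P)) : Cz P → ℂ) ^ 2)

end Cfsg.Agent.Lib.Helper17.DOS4502B
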