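import Mathlib
import Cfsg.Agent.Lib.Helper17.DOS4502A
import Cfsg.Agent.Lib.Helper6.BrauerMap
import Cfsg.Agent.Lib.Helper6.InducedDefect
import Cfsg.Agent.Lib.Helper6.DefectOrder
import Cfsg.Agent.Lib.Helper6.SylowBlockCount
import Cfsg.Agent.Lib.Lead.SecondMain4

/-!
# S4502 read-off, part C (helper17): the action of `N` on the roots, blocks of positive defect

* the action `n • θ = θ ∘ (conjugation by n⁻¹)` of `N_G(P)` on the `P`-trivial characters of `C_G(P)`;
  the stabilizer of `θ` is `T_θ`, so `e_θ |orbit θ| = f` and `e` is constant on orbits;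
* every `θ` induces a block of `G` of positive defect.
-/

set_option autoImplicit false
set_option linter.unusedSectionVars false

namespace Cfsg.Agent.Lib.Helper17.DOS4502C

open Cfsg Cfsg.Agent.CharLib Cfsg.Agent.Lib.Helper8.DOM Cfsg.Agent.Lib.Helper27.DO
open Cfsg.Agent.Lib.Helper6 Cfsg.Agent.Lib.Helper24
open Cfsg.Agent.Lib.Helper26.DOINERT Cfsg.Agent.Lib.Helper17.DOS4502A
open Cfsg.Agent.Lib.Helper16.DOCONJ

universe u

variable {G : Type u} [Group G] [Finite G] {p : ℕ} [Fact p.Prime] {M : Ideal AlgInt}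

theorem conjC_mul (P : Subgroup G) (a b : Nz P) (φ : Cz P → ℂ) :
    conjC P a (conjC P b φ) = conjC P (b * a) φ := by
  funext c
  show φ _ = φ _
  congr 1
  apply Subtype.ext
  simp [mul_assoc]

theorem conjC_one_left (P : Subgroup G) (φ : Cz P → ℂ) : conjC P 1 φ = φ := by
  funext c
  show φ _ = φ c
  congr 1
  apply Subtype.ext
  simp

/-- the action of `N_G(P)` on the `P`-trivial irreducible characters of `C_G(P)` -/
noncomputable instance thetaAction (P : Subgroup G) : MulAction (Nz P) (Theta P) where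
  smul n θ := ⟨⟨conjC P n⁻¹ (θ.1 : Cz P → ℂ), isIrrCharacter_conjC P n⁻¹ θ.1⟩,
    pTriv_conjC P n⁻¹ _ θ.2⟩
  one_smul θ := by
    apply Subtype.ext
    apply Subtype.ext
    show conjC P (1 : Nz P)⁻¹ (θ.1 : Cz P → ℂ) = _
    rw [inv_one, conjC_one_left]
  mul_smul a b θ := by
    apply Subtype.ext
    apply Subtype.ext
    show conjC P (a * b)⁻¹ (θ.1 : Cz P → ℂ) = conjC P a⁻¹ (conjC P b⁻¹ (θ.1 : Cz P → ℂ))
    rw [conjC_mul, mul_inv_rev]

theorem smul_coe (P : Subgroup G) (n : Nz P) (θ : Theta P) :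
    (((n • θ : Theta P).1 : IrrCharacter (Cz P)) : Cz P → ℂ) =
      conjC P n⁻¹ ((θ.1 : IrrCharacter (Cz P)) : Cz P → ℂ) := rfl

/-- the stabilizer of `θ` is the inertia group -/
theorem stabilizer_eq (P : Subgroup G) (θ : Theta P) :
    MulAction.stabilizer (Nz P) θ =
      (inertiaSub P ((θ.1 : IrrCharacter (Cz P)) : Cz P → ℂ)).subgroupOf (Nz P) := by
  ext n
  rw [MulAction.mem_stabilizer_iff, Subgroup.mem_subgroupOf]
  constructor
  · intro h
    have h1 : conjC P n⁻¹ ((θ.1 : IrrCharacter (Cz P)) : Cz P → ℂ) =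
        ((θ.1 : IrrCharacter (Cz P)) : Cz P → ℂ) := by
      rw [← smul_coe, h]
    have h2 : conjC P n ((θ.1 : IrrCharacter (Cz P)) : Cz P → ℂ) =
        ((θ.1 : IrrCharacter (Cz P)) : Cz P → ℂ) := by
      conv_lhs => rw [← h1]
      exact conjC_conjC_inv P n _
    refine ⟨n.2, fun c c' hc => ?_⟩
    have h3 := congrFun h2 c
    rw [← h3]
    have h4 : c' = ⟨(n : G) * (c : G) * (n : G)⁻¹, conj_mem_Cz P n.2 c.2⟩ := Subtype.ext hc
    rw [h4]
    rfl
  · rintro ⟨-, h⟩
    apply Subtype.ext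
    apply Subtype.ext
    rw [smul_coe]
    have h2 : conjC P n ((θ.1 : IrrCharacter (Cz P)) : Cz P → ℂ) =
        ((θ.1 : IrrCharacter (Cz P)) : Cz P → ℂ) := by
      funext c
      exact h c _ rfl
    conv_lhs => rw [← h2]
    exact conjC_inv_conjC P n _

/-- `e_θ |orbit θ| = f` -/
theorem eIdx_mul_ncard_orbit (P : Subgroup G) (θ : Theta P) :
    eIdx P ((θ.1 : IrrCharacter (Cz P)) : Cz P → ℂ) * (MulAction.orbit (Nz P) θ).ncard =
      (Cz P).relIndex (Nz P) := by
  rw [← MulAction.index_stabilizer, stabilizer_eq]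
  have hle := Cfsg.Agent.Lib.Helper26.DOINERT.le_of_isInertia P θ.1 _
    (isInertia_inertiaSub P ((θ.1 : IrrCharacter (Cz P)) : Cz P → ℂ))
  exact Subgroup.relIndex_mul_relIndex _ _ _ hle.1 hle.2

theorem relIndex_Cz_Nz_pos (P : Subgroup G) : 0 < (Cz P).relIndex (Nz P) :=
  Nat.pos_of_ne_zero (Subgroup.index_ne_zero_of_finite (H := (Cz P).subgroupOf (Nz P)))

/-- `e` is constant on orbits -/
theorem eIdx_eq_of_mem_orbit (P : Subgroup G) (θ θ' : Theta P)
    (h : θ' ∈ MulAction.orbit (Nz P) θ) :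
    eIdx P ((θ'.1 : IrrCharacter (Cz P)) : Cz P → ℂ) =
      eIdx P ((θ.1 : IrrCharacter (Cz P)) : Cz P → ℂ) := by
  have h1 := eIdx_mul_ncard_orbit P θ
  have h2 := eIdx_mul_ncard_orbit P θ'
  have h3 : MulAction.orbit (Nz P) θ' = MulAction.orbit (Nz P) θ := MulAction.orbit_eq_iff.mpr h
  rw [h3, ← h1] at h2
  have hpos : 0 < (MulAction.orbit (Nz P) θ).ncard := by
    rcases Nat.eq_zero_or_pos (MulAction.orbit (Nz P) θ).ncard with h0 | h0
    · rw [h0, mul_zero] at h1
      exact absurd h1.symm (relIndex_Cz_Nz_pos P).ne'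
    · exact h0
  exact Nat.eq_of_mul_eq_mul_right hpos h2

/-- every irreducible character of `C_G(P)` lies in a block inducing a block of positive defect -/
theorem exists_induced_pos (hM : IsPModular p M) (P : Subgroup G) (hP : Nat.card P = p)
    (hSyl : ¬ p ∣ P.index) (θ : IrrCharacter (Cz P)) :
    ∃ B : Set (IrrCharacter G), IsInducedBlock M (Cz P) (blockOf M (θ : Cz P → ℂ)) B ∧
      0 < blockDefect p B := by
  classical
  have hp : p.Prime := Fact.out
  letI : Fintype (Cz P) := Fintype.ofFinite _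
  have hPC : P ≤ Cz P := Cfsg.Agent.Lib.Helper23.DOLOC3.le_Cz' P hP
  have hPp : IsPGroup p P := IsPGroup.of_card (n := 1) (by rw [hP, pow_one])
  have hb : IsPBlock M (blockOf M (θ : Cz P → ℂ)) := ⟨θ, rfl⟩
  obtain ⟨B, hB⟩ := inducedBlockDefined_of_le_normalizer hM P (Cz P) hPp hPC le_rfl
    (Subgroup.centralizer_le_normalizer _) _ hb
  refine ⟨B, hB, ?_⟩
  -- the defect group of `blockOf θ`
  set D : Subgroup (Cz P) := P.subgroupOf (Cz P) with hD
  have hcen : ∀ (d : Cz P), d ∈ D → ∀ c : Cz P, c * d = d * c := by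
    intro d hd c
    rw [hD, Subgroup.mem_subgroupOf] at hd
    apply Subtype.ext
    have hc := c.2
    rw [Subgroup.mem_centralizer_iff] at hc
    exact (hc d hd).symm
  have hDn : D.Normal := by
    constructor
    intro d hd c
    have h1 : c * d * c⁻¹ = d := by
      rw [hcen d hd c, mul_inv_cancel_right]
    rw [h1]
    exact hd
  have hDcard : Nat.card D = p := by
    rw [hD, Nat.card_congr (Subgroup.subgroupOfEquivOfLe hPC).toEquiv, hP]
  have hDp : IsPGroup p D := IsPGroup.of_card (n := 1) (by rw [hDcard, pow_one])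
  have hDidx : ¬ p ∣ D.index := by
    intro h
    apply hSyl
    have h1 : D.index = P.relIndex (Cz P) := rfl
    rw [← Subgroup.relIndex_mul_index hPC, ← h1]
    exact Dvd.dvd.mul_right h _
  have hbD := isDefectGroup_of_normal_sylow hM D hDp hDidx _ hb
  obtain ⟨E, hE, hDE⟩ := exists_defectGroup_ge_of_induced hM (Cz P) _ B hB D hbD
  have hmap : D.map (Cz P).subtype = P := by
    rw [hD, Subgroup.subgroupOf_map_subtype]
    exact inf_eq_left.mpr hPC
  rw [hmap] at hDE
  have hcardE := card_defectGroup_eq hM B hB.2.1 E hE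
  rcases Nat.eq_zero_or_pos (blockDefect p B) with h0 | h0
  · exfalso
    rw [h0, pow_zero] at hcardE
    have h1 : Nat.card P ≤ Nat.card E := Subgroup.card_le_of_le hDE
    rw [hP, hcardE] at h1
    exact absurd h1 (not_le.mpr hp.one_lt)
  · exact h0

end Cfsg.Agent.Lib.Helper17.DOS4502C
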