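import Mathlib
import Cfsg.Agent.Lib.Helper17.DOS4502B
import Cfsg.Agent.Lib.Helper17.DOS4502C

/-!
# S4502 read-off, part D (helper17): `f |Irr_{p'}(G)| = ∑_θ (e_θ² + p - 1)` and the assembly (`_of` form)

The blocks of positive defect correspond to the `N`-orbits of roots; a block with root `θ` has
`e_θ + (p-1)/e_θ` members and `f / e_θ` roots.
-/

set_option autoImplicit false
set_option linter.unusedSectionVars false

namespace Cfsg.Agent.Lib.Helper17.DOS4502D

open Cfsg Cfsg.Agent.CharLib Cfsg.Agent.Lib.Helper8.DOM Cfsg.Agent.Lib.Helper27.DO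
open Cfsg.Agent.Lib.Helper6 Cfsg.Agent.Lib.Helper24 Cfsg.Agent.Lib.Helper27.BlkAlg
open Cfsg.Agent.Lib.Helper26.DOINERT Cfsg.Agent.Lib.Helper17.DOS4502A
open Cfsg.Agent.Lib.Helper17.DOS4502C
open Cfsg.Agent.Lib.Helper16.DOCONJ

universe u

variable {G : Type u} [Group G] [Finite G] {p : ℕ} [Fact p.Prime] {M : Ideal AlgInt}

/-- the roots of a block of positive defect: their contribution is `f |B|` -/
theorem sum_fiber_eq (hM : IsPModular p M) (P : Subgroup G) (hP : Nat.card P = p)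
    (hSyl : ¬ p ∣ P.index)
    (hcard : ∀ (B : Set (IrrCharacter G)) (θ : IrrCharacter (Cz P)) (T : Subgroup G),
      IsPBlock M B → IsDefectGroup p M B P → PTriv P (θ : Cz P → ℂ) →
      IsInducedBlock M (Cz P) (blockOf M (θ : Cz P → ℂ)) B → IsInertia P (θ : Cz P → ℂ) T →
      (Cz P).relIndex T ∣ p - 1 ∧
        Nat.card B = (Cz P).relIndex T + (p - 1) / (Cz P).relIndex T)
    (hdefp : ∀ B : Set (IrrCharacter G), IsPBlock M B → 0 < blockDefect p B →
      IsDefectGroup p M B P)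
    (hroot : ∀ B : Set (IrrCharacter G), IsPBlock M B → IsDefectGroup p M B P →
      ∃ θ : IrrCharacter (Cz P), PTriv P (θ : Cz P → ℂ) ∧
        IsInducedBlock M (Cz P) (blockOf M (θ : Cz P → ℂ)) B)
    [Fintype (Theta P)] [DecidableEq (Set (IrrCharacter G))]
    (β : Theta P → Set (IrrCharacter G))
    (hβ : ∀ θ : Theta P,
      IsInducedBlock M (Cz P) (blockOf M ((θ.1 : IrrCharacter (Cz P)) : Cz P → ℂ)) (β θ))
    (B : Set (IrrCharacter G)) (hB : IsPBlock M B) (hd : 0 < blockDefect p B) :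
    ∑ θ ∈ Finset.univ.filter (fun θ : Theta P => β θ = B),
        (eIdx P ((θ.1 : IrrCharacter (Cz P)) : Cz P → ℂ) ^ 2 + (p - 1)) =
      (Cz P).relIndex (Nz P) * Nat.card B := by
  have hprime : M.IsPrime := isPrime_of_isPModular hM
  have hBP := hdefp B hB hd
  obtain ⟨θ₀, hθ₀, hind₀⟩ := hroot B hB hBP
  set Θ₀ : Theta P := ⟨θ₀, hθ₀⟩ with hΘ₀
  -- the fiber is the orbit of `Θ₀`
  have hset : ((Finset.univ.filter (fun θ : Theta P => β θ = B) : Finset (Theta P)) :
      Set (Theta P)) = MulAction.orbit (Nz P) Θ₀ := by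
    ext θ
    simp only [Finset.coe_filter, Finset.mem_univ, true_and, Set.mem_ofPred_eq]
    constructor
    · intro h
      have hind : IsInducedBlock M (Cz P)
          (blockOf M ((θ.1 : IrrCharacter (Cz P)) : Cz P → ℂ)) B := by
        rw [← h]; exact hβ θ
      obtain ⟨n, hn⟩ := Cfsg.Agent.Lib.Helper13.DOROOTCONJ.exists_conj_of_roots hM P hP hSyl B hB
        hBP θ₀ θ.1 hθ₀ θ.2 hind₀ hind
      refine ⟨n⁻¹, ?_⟩
      apply Subtype.ext
      apply Subtype.ext
      rw [smul_coe, inv_inv]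
      exact hn.symm
    · rintro ⟨n, rfl⟩
      have h1 := isInducedBlock_conjC (M := M) P n⁻¹ θ₀ B hind₀
      exact Cfsg.Agent.CharLib.isInducedBlock_unique (hβ (n • Θ₀)) h1
  have hcardF : (Finset.univ.filter (fun θ : Theta P => β θ = B)).card =
      (MulAction.orbit (Nz P) Θ₀).ncard := by
    rw [← hset, Set.ncard_coe_finset]
  have hconst : ∀ θ ∈ Finset.univ.filter (fun θ : Theta P => β θ = B),
      (eIdx P ((θ.1 : IrrCharacter (Cz P)) : Cz P → ℂ) ^ 2 + (p - 1)) =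
        (eIdx P (θ₀ : Cz P → ℂ) ^ 2 + (p - 1)) := by
    intro θ hθ
    have hmem : θ ∈ MulAction.orbit (Nz P) Θ₀ := by
      rw [← hset]; exact hθ
    rw [eIdx_eq_of_mem_orbit P Θ₀ θ hmem]
  rw [Finset.sum_congr rfl hconst, Finset.sum_const, smul_eq_mul, hcardF]
  obtain ⟨hdvd, hcB⟩ := hcard B θ₀ (inertiaSub P (θ₀ : Cz P → ℂ)) hB hBP hθ₀ hind₀
    (isInertia_inertiaSub P _)
  have hf := eIdx_mul_ncard_orbit P Θ₀
  have he : eIdx P (θ₀ : Cz P → ℂ) = (Cz P).relIndex (inertiaSub P (θ₀ : Cz P → ℂ)) := rfl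
  rw [← he] at hdvd hcB
  have hf' : eIdx P (θ₀ : Cz P → ℂ) * (MulAction.orbit (Nz P) Θ₀).ncard =
      (Cz P).relIndex (Nz P) := hf
  have hepos : 0 < eIdx P (θ₀ : Cz P → ℂ) := by
    rcases Nat.eq_zero_or_pos (eIdx P (θ₀ : Cz P → ℂ)) with h0 | h0
    · rw [h0, zero_mul] at hf'
      exact absurd hf'.symm (relIndex_Cz_Nz_pos P).ne'
    · exact h0
  obtain ⟨k, hk⟩ := hdvd
  have hdiv : (p - 1) / eIdx P (θ₀ : Cz P → ℂ) = k := by
    rw [hk]; exact Nat.mul_div_cancel_left k hepos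
  rw [hcB, hdiv, ← hf', hk]
  ring

/-- **(I)** `f |{χ : blockOf χ has positive defect}| = ∑_θ (e_θ² + p - 1)`. -/
theorem relIndex_mul_card_pos_of (hM : IsPModular p M) (P : Subgroup G) (hP : Nat.card P = p)
    (hSyl : ¬ p ∣ P.index)
    (hcard : ∀ (B : Set (IrrCharacter G)) (θ : IrrCharacter (Cz P)) (T : Subgroup G),
      IsPBlock M B → IsDefectGroup p M B P → PTriv P (θ : Cz P → ℂ) →
      IsInducedBlock M (Cz P) (blockOf M (θ : Cz P → ℂ)) B → IsInertia P (θ : Cz P → ℂ) T →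
      (Cz P).relIndex T ∣ p - 1 ∧
        Nat.card B = (Cz P).relIndex T + (p - 1) / (Cz P).relIndex T)
    (hdefp : ∀ B : Set (IrrCharacter G), IsPBlock M B → 0 < blockDefect p B →
      IsDefectGroup p M B P)
    (hroot : ∀ B : Set (IrrCharacter G), IsPBlock M B → IsDefectGroup p M B P →
      ∃ θ : IrrCharacter (Cz P), PTriv P (θ : Cz P → ℂ) ∧
        IsInducedBlock M (Cz P) (blockOf M (θ : Cz P → ℂ)) B) :
    (Cz P).relIndex (Nz P) *
        Nat.card {χ : IrrCharacter G // 0 < blockDefect p (blockOf M (χ : G → ℂ))} =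
      ∑ᶠ θ : Theta P, (eIdx P ((θ.1 : IrrCharacter (Cz P)) : Cz P → ℂ) ^ 2 + (p - 1)) := by
  classical
  have hprime : M.IsPrime := isPrime_of_isPModular hM
  letI := fintypeIrr G
  letI : Fintype (Theta P) := Fintype.ofFinite _
  have hex := fun θ : Theta P => exists_induced_pos hM P hP hSyl (θ.1 : IrrCharacter (Cz P))
  choose β hβ using hex
  set 𝔅 : Finset (Set (IrrCharacter G)) :=
    (blocks M G).filter (fun B => 0 < blockDefect p B) with h𝔅
  have hmapsθ : ∀ θ ∈ (Finset.univ : Finset (Theta P)), β θ ∈ 𝔅 := fun θ _ =>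
    Finset.mem_filter.mpr ⟨(mem_blocks M _).mpr (hβ θ).1.2.1, (hβ θ).2⟩
  rw [finsum_eq_sum_of_fintype, ← Finset.sum_fiberwise_of_maps_to hmapsθ]
  have hL : Nat.card {χ : IrrCharacter G // 0 < blockDefect p (blockOf M (χ : G → ℂ))} =
      ∑ B ∈ 𝔅, Nat.card B := by
    rw [Nat.card_eq_fintype_card, Fintype.card_subtype]
    have hmapsχ : Set.MapsTo (fun χ : IrrCharacter G => blockOf M (χ : G → ℂ))
        ↑(Finset.univ.filter
          (fun χ : IrrCharacter G => 0 < blockDefect p (blockOf M (χ : G → ℂ)))) ↑𝔅 := by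
      intro χ hχ
      simp only [Finset.coe_filter, Finset.mem_univ, true_and, Set.mem_ofPred_eq] at hχ
      exact Finset.mem_coe.mpr (Finset.mem_filter.mpr ⟨(mem_blocks M _).mpr ⟨χ, rfl⟩, hχ⟩)
    rw [Finset.card_eq_sum_card_fiberwise hmapsχ]
    apply Finset.sum_congr rfl
    intro B hB
    obtain ⟨hB1, hB2⟩ := Finset.mem_filter.mp hB
    have hBblk : IsPBlock M B := (mem_blocks M B).mp hB1
    rw [← Set.ncard_coe_finset, Nat.card_coe_set_eq]
    congr 1
    ext χ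
    simp only [Finset.coe_filter, Finset.mem_filter, Finset.mem_univ, true_and,
      Set.mem_ofPred_eq]
    constructor
    · rintro ⟨-, h⟩
      rw [← h]
      exact mem_blockOf_self χ
    · intro hχ
      have h1 : blockOf M (χ : G → ℂ) = B :=
        isPBlock_eq_of_mem ⟨χ, rfl⟩ hBblk (mem_blockOf_self χ) hχ
      rw [h1]
      exact ⟨hB2, rfl⟩
  rw [hL, Finset.mul_sum]
  apply Finset.sum_congr rfl
  intro B hB
  obtain ⟨hB1, hB2⟩ := Finset.mem_filter.mp hB
  have hBblk : IsPBlock M B := (mem_blocks M B).mp hB1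
  exact (sum_fiber_eq hM P hP hSyl hcard hdefp hroot β (fun θ => (hβ θ).1) B hBblk hB2).symm

end Cfsg.Agent.Lib.Helper17.DOS4502D
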