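import Mathlib
import Cfsg.Agent.Lib.Helper17.DOS4502D
import Cfsg.Agent.Lib.Helper17.BlkDefZero

/-!
# S4502 read-off (helper17), `_of` form over FULL / DEFP / ROOT of `notes/S4442_O_leaves.lean`

`p ∥ |G|`, `P` a Sylow `p`-subgroup: `|{χ ∈ Irr G : p ∤ χ(1)}| = k(N_G(P))`.
-/

set_option autoImplicit false
set_option linter.unusedSectionVars false

namespace Cfsg.Agent.Lib.Helper17.DOS4502

open Cfsg Cfsg.Agent.CharLib Cfsg.Agent.Lib.Helper8.DOM Cfsg.Agent.Lib.Helper27.DO
open Cfsg.Agent.Lib.Helper6 Cfsg.Agent.Lib.Helper24 Cfsg.Agent.Lib.Helper27.BlkAlg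
open Cfsg.Agent.Lib.Helper17.DOS4502A Cfsg.Agent.Lib.Helper17.BlkDefZero

universe u

variable {G : Type u} [Group G] [Finite G] {p : ℕ} [Fact p.Prime] {M : Ideal AlgInt}

theorem s4502_of (hM : IsPModular p M) (hdiv : p ∣ Nat.card G) (hsq : ¬ p ^ 2 ∣ Nat.card G)
    (P : Sylow p G)
    (hcard : ∀ (B : Set (IrrCharacter G)) (θ : IrrCharacter (Cz (P : Subgroup G)))
      (T : Subgroup G),
      IsPBlock M B → IsDefectGroup p M B (P : Subgroup G) →
      PTriv (P : Subgroup G) (θ : Cz (P : Subgroup G) → ℂ) →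
      IsInducedBlock M (Cz (P : Subgroup G)) (blockOf M (θ : Cz (P : Subgroup G) → ℂ)) B →
      IsInertia (P : Subgroup G) (θ : Cz (P : Subgroup G) → ℂ) T →
      (Cz (P : Subgroup G)).relIndex T ∣ p - 1 ∧
        Nat.card B = (Cz (P : Subgroup G)).relIndex T +
          (p - 1) / (Cz (P : Subgroup G)).relIndex T)
    (hdefp : ∀ B : Set (IrrCharacter G), IsPBlock M B → 0 < blockDefect p B →
      IsDefectGroup p M B (P : Subgroup G))
    (hroot : ∀ B : Set (IrrCharacter G), IsPBlock M B → IsDefectGroup p M B (P : Subgroup G) →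
      ∃ θ : IrrCharacter (Cz (P : Subgroup G)),
        PTriv (P : Subgroup G) (θ : Cz (P : Subgroup G) → ℂ) ∧
        IsInducedBlock M (Cz (P : Subgroup G))
          (blockOf M (θ : Cz (P : Subgroup G) → ℂ)) B) :
    Nat.card {χ : IrrCharacter G // ¬ p ∣ charDegree (χ : G → ℂ)} =
      Nat.card (ConjClasses (Subgroup.normalizer ((P : Subgroup G) : Set G))) := by
  have hp : p.Prime := Fact.out
  have hcardG : Nat.card G ≠ 0 := Nat.card_pos.ne'
  have hfact : (Nat.card G).factorization p = 1 := by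
    have h1 : 1 ≤ (Nat.card G).factorization p :=
      (hp.pow_dvd_iff_le_factorization hcardG).mp (by rwa [pow_one])
    have h2 : ¬ 2 ≤ (Nat.card G).factorization p := fun h =>
      hsq ((hp.pow_dvd_iff_le_factorization hcardG).mpr h)
    omega
  have hP : Nat.card (P : Subgroup G) = p := by
    rw [Sylow.card_eq_multiplicity, hfact, pow_one]
  have hSyl : ¬ p ∣ (P : Subgroup G).index := P.not_dvd_index
  -- `p ∤ χ(1)` iff the block of `χ` has positive defect
  have hequiv : ∀ χ : IrrCharacter G,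
      ¬ p ∣ charDegree (χ : G → ℂ) ↔ 0 < blockDefect p (blockOf M (χ : G → ℂ)) := by
    intro χ
    have h1 := blockDefect_blockOf_eq_zero_iff p M hM χ
    have h2 : IsDefZero p χ ↔ p ∣ charDegree (χ : G → ℂ) := by
      unfold IsDefZero
      rw [hfact]
      exact (hp.dvd_iff_one_le_factorization (irr_charDegree_pos χ).ne').symm
    rw [Nat.pos_iff_ne_zero, ne_eq, h1, h2]
  rw [Nat.card_congr (Equiv.subtypeEquivRight hequiv)]
  have hI := Cfsg.Agent.Lib.Helper17.DOS4502D.relIndex_mul_card_pos_of hM (P : Subgroup G) hP hSyl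
    hcard hdefp hroot
  have hII := Cfsg.Agent.Lib.Helper17.DOS4502B.relIndex_mul_card_conjClasses hM (P : Subgroup G)
    hP hSyl
  rw [← hII] at hI
  exact Nat.eq_of_mul_eq_mul_left (Cfsg.Agent.Lib.Helper17.DOS4502C.relIndex_Cz_Nz_pos _) hI

end Cfsg.Agent.Lib.Helper17.DOS4502
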