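import Mathlib
import Cfsg.Agent.Lib.Helper17.DOS4502
import Cfsg.Agent.Lib.Helper27.DOFullStmt
import Cfsg.Agent.Lib.Helper8.DOMFinalB
import Cfsg.Agent.Lib.Helper26.DODEFP
import Cfsg.Agent.Lib.Helper13.DOROOT
import Cfsg.Agent.Lib.Helper6.Knoerr

/-!
# S4502 read-off (helper17) over `hfull : FullStmt G p M` (helper27's statement of DO-FULL)

All other cited leaves (DEFP, ROOT, Part M FINAL) are the landed exact modules.
-/

set_option autoImplicit false
set_option linter.unusedSectionVars false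

namespace Cfsg.Agent.Lib.Helper17.DOS4502F

open Cfsg Cfsg.Agent.CharLib Cfsg.Agent.Lib.Helper8.DOM Cfsg.Agent.Lib.Helper27.DO
open Cfsg.Agent.Lib.Helper27.BlkAlg Cfsg.Agent.Lib.Helper27.DOFullStmt

universe u

variable {G : Type u} [Group G] [Finite G] {p : ℕ} [Fact p.Prime] {M : Ideal AlgInt}

/-- a Sylow `p`-subgroup of a group with `p ∥ |G|` has order `p` -/
theorem sylow_facts (hdiv : p ∣ Nat.card G) (hsq : ¬ p ^ 2 ∣ Nat.card G) (P : Sylow p G) :
    Nat.card (P : Subgroup G) = p ∧ ¬ p ∣ (P : Subgroup G).index := by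
  have hp : p.Prime := Fact.out
  have hcardG : Nat.card G ≠ 0 := Nat.card_pos.ne'
  have hfact : (Nat.card G).factorization p = 1 := by
    have h1 : 1 ≤ (Nat.card G).factorization p :=
      (hp.pow_dvd_iff_le_factorization hcardG).mp (by rwa [pow_one])
    have h2 : ¬ 2 ≤ (Nat.card G).factorization p := fun h =>
      hsq ((hp.pow_dvd_iff_le_factorization hcardG).mpr h)
    omega
  refine ⟨?_, P.not_dvd_index⟩
  rw [Sylow.card_eq_multiplicity, hfact, pow_one]

/-- S4502 from the statement of DO-FULL -/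
theorem s4502_of_full [Fintype (IrrCharacter G)] (hM : IsPModular p M)
    (hdiv : p ∣ Nat.card G) (hsq : ¬ p ^ 2 ∣ Nat.card G) (P : Sylow p G)
    (hfull : FullStmt G p M) :
    Nat.card {χ : IrrCharacter G // ¬ p ∣ charDegree (χ : G → ℂ)} =
      Nat.card (ConjClasses (Subgroup.normalizer ((P : Subgroup G) : Set G))) := by
  obtain ⟨hP, hSyl⟩ := sylow_facts hdiv hsq P
  have hfinal := Cfsg.Agent.Lib.Helper8.DOMFinalB.hfinal hM (P : Subgroup G) hP hSyl
  refine Cfsg.Agent.Lib.Helper17.DOS4502.s4502_of hM hdiv hsq P ?_ ?_ ?_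
  · intro B θ T hB hBP hθ hind hT
    have h := hfull (P : Subgroup G) hP hSyl hfinal B hB hBP θ hθ hind T hT
    exact ⟨h.1, h.2.1⟩
  · intro B hB hd
    exact Cfsg.Agent.Lib.Helper26.DODEFP.isDefectGroup_of_pos hM (P : Subgroup G) hP hSyl B hB hd
  · intro B hB hBP
    exact Cfsg.Agent.Lib.Helper13.DOROOT.exists_root hM (P : Subgroup G) hP hSyl B hB hBP

end Cfsg.Agent.Lib.Helper17.DOS4502F
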