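import Mathlib

/-!
helper17: vector-valued Dedekind independence of characters: if `∑ i, χ i y • w i = 0` for all
`y`, with pairwise distinct monoid homomorphisms `χ i : G →* F` into a field, then all `w i = 0`.
-/

set_option autoImplicit false

namespace Cfsg.Agent.Lib.Helper17.DedekindVec

theorem eq_zero_of_sum_smul_eq_zero {G F W ι : Type*} [Monoid G] [Field F] [AddCommGroup W]
    [Module F W] [Fintype ι] (χ : ι → (G →* F)) (hχ : Function.Injective χ) (w : ι → W)
    (h : ∀ y : G, ∑ i, χ i y • w i = 0) : ∀ i, w i = 0 := by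
  intro i₀
  rw [← Module.forall_dual_apply_eq_zero_iff F]
  intro φ
  have hli : LinearIndependent F (fun i => ((χ i : G →* F) : G → F)) :=
    (linearIndependent_monoidHom G F).comp χ hχ
  have hsum : ∑ i, φ (w i) • ((χ i : G →* F) : G → F) = 0 := by
    funext y
    rw [Finset.sum_apply, Pi.zero_apply]
    have h1 := congrArg φ (h y)
    rw [map_sum, map_zero] at h1
    rw [← h1]
    apply Finset.sum_congr rfl
    intro i _
    rw [map_smul, Pi.smul_apply, smul_eq_mul, smul_eq_mul, mul_comm]
  exact Fintype.linearIndependent_iff.mp hli (fun i => φ (w i)) hsum i₀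

end Cfsg.Agent.Lib.Helper17.DedekindVec
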