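import Cfsg.Agent.Lib.Helper2.EQDefs

/-!
# EQ leaf M11: conjugation by `diag(c,1,..,1)` on root elements, torus and Weyl elements
-/

set_option autoImplicit false

namespace Cfsg.Agent.Lib.Helper17.EQ

open Matrix Module Cfsg.Agent.Lib.Helper16.SLMin Cfsg.Agent.Lib.Helper16.SLMinSpine
  Cfsg.Agent.Lib.Helper2.EQ

variable {F : Type*} [Field F] {N : ℕ}

theorem dgc_apply (c : F) (i j : Fin (N + 1)) :
    dgc (N := N) c i j = if i = j then (if i = 0 then c else 1) else 0 := by
  unfold dgc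
  rw [diagonal_apply]

/-- entries of a conjugate by `diag(c,1,..,1)` -/
theorem cj_apply (c : Fˣ) (g : SpecialLinearGroup (Fin (N + 1)) F) (i j : Fin (N + 1)) :
    (cj c g : Matrix (Fin (N + 1)) (Fin (N + 1)) F) i j =
      (if i = 0 then (c : F) else 1) * (g : Matrix (Fin (N + 1)) (Fin (N + 1)) F) i j *
        (if j = 0 then ((c⁻¹ : Fˣ) : F) else 1) := by
  have h : (cj c g : Matrix (Fin (N + 1)) (Fin (N + 1)) F) =
      dgc (c : F) * (g : Matrix (Fin (N + 1)) (Fin (N + 1)) F) * dgc ((c⁻¹ : Fˣ) : F) := rfl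
  rw [h]
  unfold dgc
  rw [mul_diagonal, diagonal_mul]

theorem X_apply_of_ne {m : ℕ} {a b : Fin m} (hab : a ≠ b) (t : F) (i j : Fin m) :
    (X a b t : Matrix (Fin m) (Fin m) F) i j =
      (if i = j then 1 else 0) + (if i = a ∧ j = b then t else 0) := by
  have h : (X a b t : Matrix (Fin m) (Fin m) F) = transvection a b t := by
    simp [X, hab]
  rw [h]
  unfold transvection
  rw [Matrix.add_apply, Matrix.one_apply, Matrix.single_apply]
  congr 1
  apply if_congr _ rfl rfl
  constructor <;> rintro ⟨h1, h2⟩ <;> exact ⟨h1.symm, h2.symm⟩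

theorem X_self {m : ℕ} (a : Fin m) (t : F) : X a a t = 1 := by
  simp [X]

/-- M11a -/
theorem cj_X (c : Fˣ) (a b : Fin (N + 1)) (t : F) :
    cj c (X a b t) =
      X a b ((if a = 0 then (c : F) else 1) * (if b = 0 then ((c⁻¹ : Fˣ) : F) else 1) * t) := by
  by_cases hab : a = b
  · subst hab
    rw [X_self, X_self, map_one]
  · apply Subtype.ext
    ext i j
    rw [cj_apply, X_apply_of_ne hab, X_apply_of_ne hab]
    by_cases hij : i = j
    · subst hij
      have h2 : ¬ (i = a ∧ i = b) := fun h => hab (h.1.symm.trans h.2)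
      rw [if_pos rfl, if_neg h2, if_neg h2, add_zero, mul_one]
      by_cases hi : i = 0
      · rw [if_pos hi, if_pos hi, ← Units.val_mul, mul_inv_cancel, Units.val_one]
      · rw [if_neg hi, if_neg hi, mul_one]
    · rw [if_neg hij, zero_add, zero_add]
      by_cases h2 : i = a ∧ j = b
      · rw [if_pos h2, if_pos h2, h2.1, h2.2]
        ring
      · rw [if_neg h2, if_neg h2, mul_zero, zero_mul]

theorem dg_apply {m : ℕ} (t : Tor m F) (i j : Fin m) :
    (dg t : Matrix (Fin m) (Fin m) F) i j = if i = j then ((t : Fin m → Fˣ) i : F) else 0 := by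
  change (diagonal fun i => ((t : Fin m → Fˣ) i : F)) i j = _
  rw [diagonal_apply]

/-- M11b -/
theorem cj_dg (c : Fˣ) (t : Tor (N + 1) F) : cj c (dg t) = dg t := by
  apply Subtype.ext
  ext i j
  rw [cj_apply, dg_apply]
  by_cases hij : i = j
  · subst hij
    rw [if_pos rfl]
    by_cases hi : i = 0
    · rw [if_pos hi, if_pos hi, mul_comm, ← mul_assoc, ← Units.val_mul, inv_mul_cancel,
        Units.val_one, one_mul]
    · rw [if_neg hi, if_neg hi, one_mul, mul_one]
  · rw [if_neg hij, mul_zero, zero_mul]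

theorem X_coe_of_ne {m : ℕ} {a b : Fin m} (hab : a ≠ b) (t : F) :
    (X a b t : Matrix (Fin m) (Fin m) F) = 1 + single a b t := by
  have h : (X a b t : Matrix (Fin m) (Fin m) F) = transvection a b t := by
    simp [X, hab]
  rw [h]
  rfl

/-- the Weyl element as a matrix -/
theorem sd_coe {m : ℕ} {a b : Fin m} (hab : a ≠ b) :
    ((sd a b : SpecialLinearGroup (Fin m) F) : Matrix (Fin m) (Fin m) F) =
      1 + single a b 1 - single b a 1 - single a a 1 - single b b 1 := by
  have h : ((sd a b : SpecialLinearGroup (Fin m) F) : Matrix (Fin m) (Fin m) F) =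
      (X a b (1 : F) : Matrix (Fin m) (Fin m) F) * (X b a (-1 : F) : Matrix (Fin m) (Fin m) F) *
        (X a b (1 : F) : Matrix (Fin m) (Fin m) F) := rfl
  rw [h, X_coe_of_ne hab, X_coe_of_ne hab.symm]
  simp only [Matrix.mul_add, Matrix.add_mul, Matrix.mul_one, Matrix.one_mul,
    single_mul_single_same, single_mul_single_of_ne _ _ _ _ hab.symm]
  simp only [mul_neg, mul_one]
  have hn : ∀ i j : Fin m, (single i j (-1 : F) : Matrix (Fin m) (Fin m) F) = - single i j (1 : F) := by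
    intro i j
    ext k l
    rw [Matrix.neg_apply, single_apply, single_apply]
    split_ifs <;> simp
  simp only [hn]
  abel

/-- M11d: `cj c` fixes the Weyl elements away from the index `0` -/
theorem cj_sd_ne (c : Fˣ) (a b : Fin (N + 1)) (ha : a ≠ 0) (hb : b ≠ 0) :
    cj c (sd a b : SpecialLinearGroup (Fin (N + 1)) F) = sd a b := by
  unfold sd
  simp only [map_mul, cj_X, if_neg ha, if_neg hb, one_mul]

/-- M11c: `cj c` on the Weyl element at position `(0,1)` -/
theorem cj_sd_zero (c : Fˣ) (hN : 1 ≤ N) :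
    cj c (sd (0 : Fin (N + 1)) ⟨1, by omega⟩ : SpecialLinearGroup (Fin (N + 1)) F) =
      sd 0 ⟨1, by omega⟩ * dg (hc ⟨1, by omega⟩ 0 c) := by
  have h01 : (0 : Fin (N + 1)) ≠ ⟨1, by omega⟩ := by
    intro h
    have := congrArg Fin.val h
    simp at this
  apply Subtype.ext
  ext i j
  rw [cj_apply]
  have hR : ((sd (0 : Fin (N + 1)) ⟨1, by omega⟩ * dg (hc ⟨1, by omega⟩ 0 c) :
      SpecialLinearGroup (Fin (N + 1)) F) : Matrix (Fin (N + 1)) (Fin (N + 1)) F) i j =
      ((sd (0 : Fin (N + 1)) ⟨1, by omega⟩ : SpecialLinearGroup (Fin (N + 1)) F) :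
        Matrix (Fin (N + 1)) (Fin (N + 1)) F) i j *
        (((hc (⟨1, by omega⟩ : Fin (N + 1)) 0 c : Tor (N + 1) F) : Fin (N + 1) → Fˣ) j : F) := by
    have h : ((sd (0 : Fin (N + 1)) ⟨1, by omega⟩ * dg (hc ⟨1, by omega⟩ 0 c) :
        SpecialLinearGroup (Fin (N + 1)) F) : Matrix (Fin (N + 1)) (Fin (N + 1)) F) =
        ((sd (0 : Fin (N + 1)) ⟨1, by omega⟩ : SpecialLinearGroup (Fin (N + 1)) F) :
          Matrix (Fin (N + 1)) (Fin (N + 1)) F) *
          diagonal (fun k => (((hc (⟨1, by omega⟩ : Fin (N + 1)) 0 c : Tor (N + 1) F) :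
            Fin (N + 1) → Fˣ) k : F)) := rfl
    rw [h, mul_diagonal]
  rw [hR, sd_coe h01]
  have hhc : (((hc (⟨1, by omega⟩ : Fin (N + 1)) 0 c : Tor (N + 1) F) : Fin (N + 1) → Fˣ) j : F) =
      (if j = ⟨1, by omega⟩ then (c : F) else 1) * (if j = 0 then ((c⁻¹ : Fˣ) : F) else 1) := by
    change ((Pi.mulSingle (⟨1, by omega⟩ : Fin (N + 1)) c * Pi.mulSingle 0 c⁻¹ : Fin (N + 1) → Fˣ) j : F) = _
    rw [Pi.mul_apply, Units.val_mul, Pi.mulSingle_apply, Pi.mulSingle_apply]
    split_ifs <;> simp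
  rw [hhc]
  clear hR hhc
  simp only [Matrix.sub_apply, Matrix.add_apply, Matrix.one_apply, single_apply]
  by_cases hi0 : i = 0 <;> by_cases hj0 : j = 0 <;>
    by_cases hi1 : i = ⟨1, by omega⟩ <;> by_cases hj1 : j = ⟨1, by omega⟩ <;>
    simp_all [eq_comm]

end Cfsg.Agent.Lib.Helper17.EQ
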