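/-
Helper lemmas (helper17): extraspecial groups of order `p ^ 3` and exponent `p ^ 2`, `p` odd:
the `p`-th power map is a homomorphism whose kernel `Ω₁` is abelian of order `p ^ 2` and
self-centralizing.
-/
import Cfsg.Prelude.Def_Transfer
import Cfsg.Agent.Lib.Helper20.NormalRankTwo

set_option autoImplicit false

namespace Cfsg.Agent.Lib.Helper17

open scoped commutatorElement

section ES3

variable {S : Type*} [Group S] {p : ℕ}

theorem es3_comm_mem_center (hE : Cfsg.IsExtraspecial p S) (a b : S) :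
    ⁅a, b⁆ ∈ Subgroup.center S := by
  rw [← hE.1.2.2, commutator_def]
  exact Subgroup.commutator_mem_commutator (Subgroup.mem_top a) (Subgroup.mem_top b)

theorem es3_pow_eq_one_of_mem_center (hE : Cfsg.IsExtraspecial p S) {c : S}
    (hc : c ∈ Subgroup.center S) : c ^ p = 1 := by
  have h := pow_card_eq_one' (G := Subgroup.center S) (x := ⟨c, hc⟩)
  rw [hE.2] at h
  exact congrArg Subtype.val h

theorem es3_pow_mem_center (hE : Cfsg.IsExtraspecial p S) (y : S) :
    y ^ p ∈ Subgroup.center S := by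
  rw [Subgroup.mem_center_iff]
  intro x
  have hc := es3_comm_mem_center hE x y
  have h1 : x * y * x⁻¹ = ⁅x, y⁆ * y := by simp [commutatorElement_def]
  have h2 : (x * y * x⁻¹) ^ p = x * y ^ p * x⁻¹ := conj_pow
  have hcomm : Commute ⁅x, y⁆ y := (Subgroup.mem_center_iff.mp hc y).symm
  have h3 : (⁅x, y⁆ * y) ^ p = y ^ p := by
    rw [hcomm.mul_pow, es3_pow_eq_one_of_mem_center hE hc, one_mul]
  rw [h1, h3] at h2
  calc x * y ^ p = (x * y ^ p * x⁻¹) * x := by group
    _ = y ^ p * x := by rw [← h2]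

theorem es3_mul_pow [Fact p.Prime] (hp2 : p ≠ 2) (hE : Cfsg.IsExtraspecial p S) (a b : S) :
    (a * b) ^ p = a ^ p * b ^ p :=
  Cfsg.Agent.Lib.Helper20.mul_pow_prime_of_central Fact.out hp2 a b
    (fun g => Subgroup.mem_center_iff.mp (es3_comm_mem_center hE b a) g)
    (es3_pow_eq_one_of_mem_center hE (es3_comm_mem_center hE b a))

/-- The `p`-th power homomorphism of an extraspecial `p`-group, `p` odd. -/
def es3PowHom [Fact p.Prime] (hp2 : p ≠ 2) (hE : Cfsg.IsExtraspecial p S) : S →* S where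
  toFun y := y ^ p
  map_one' := one_pow p
  map_mul' a b := es3_mul_pow hp2 hE a b

theorem es3_mem_ker [Fact p.Prime] (hp2 : p ≠ 2) (hE : Cfsg.IsExtraspecial p S) (y : S) :
    y ∈ (es3PowHom hp2 hE).ker ↔ y ^ p = 1 := MonoidHom.mem_ker

theorem es3_center_le_ker [Fact p.Prime] (hp2 : p ≠ 2) (hE : Cfsg.IsExtraspecial p S) :
    Subgroup.center S ≤ (es3PowHom hp2 hE).ker := fun _ hc =>
  (es3_mem_ker hp2 hE _).2 (es3_pow_eq_one_of_mem_center hE hc)

theorem es3_not_exp [Fact p.Prime] (hexp : Monoid.exponent S = p ^ 2) :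
    ¬ ∀ y : S, y ^ p = 1 := by
  intro h
  have hp : p.Prime := Fact.out
  have h1 : Monoid.exponent S ∣ p := Monoid.exponent_dvd_of_forall_pow_eq_one h
  rw [hexp] at h1
  have h2 : p ^ 2 ≤ p := Nat.le_of_dvd hp.pos h1
  nlinarith [hp.two_le]

theorem es3_card_ker [Finite S] [Fact p.Prime] (hp2 : p ≠ 2) (hE : Cfsg.IsExtraspecial p S)
    (hcard : Nat.card S = p ^ 3) (hexp : Monoid.exponent S = p ^ 2) :
    Nat.card (es3PowHom hp2 hE).ker = p ^ 2 := by
  have hp : p.Prime := Fact.out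
  set φ := es3PowHom hp2 hE with hφ
  have hrange : φ.range ≤ Subgroup.center S := by
    rintro _ ⟨y, rfl⟩
    exact es3_pow_mem_center hE y
  have hdvd : Nat.card φ.range ∣ p := by
    rw [← hE.2]; exact Subgroup.card_dvd_of_le hrange
  have hne : Nat.card φ.range ≠ 1 := by
    intro h1
    apply es3_not_exp (S := S) hexp
    intro y
    have : φ y ∈ φ.range := ⟨y, rfl⟩
    rw [Subgroup.card_eq_one.mp h1, Subgroup.mem_bot] at this
    exact this
  have hcr : Nat.card φ.range = p := by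
    rcases (Nat.dvd_prime hp).mp hdvd with h | h
    · exact absurd h hne
    · exact h
  have hidx : φ.ker.index = p := by rw [Subgroup.index_ker, hcr]
  have hmul := Subgroup.card_mul_index φ.ker
  rw [hidx, hcard] at hmul
  have : Nat.card φ.ker * p = p ^ 2 * p := by rw [hmul]; ring
  exact Nat.eq_of_mul_eq_mul_right hp.pos this

theorem es3_ker_comm [Finite S] [Fact p.Prime] (hp2 : p ≠ 2) (hE : Cfsg.IsExtraspecial p S)
    (hcard : Nat.card S = p ^ 3) (hexp : Monoid.exponent S = p ^ 2) {x y : S}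
    (hx : x ∈ (es3PowHom hp2 hE).ker) (hy : y ∈ (es3PowHom hp2 hE).ker) : x * y = y * x := by
  have h := (IsPGroup.isMulCommutative_of_card_eq_prime_sq
    (es3_card_ker hp2 hE hcard hexp)).is_comm.comm ⟨x, hx⟩ ⟨y, hy⟩
  exact congrArg Subtype.val h

theorem es3_mem_ker_of_commute [Finite S] [Fact p.Prime] (hp2 : p ≠ 2)
    (hE : Cfsg.IsExtraspecial p S)
    (hcard : Nat.card S = p ^ 3) (hexp : Monoid.exponent S = p ^ 2) {e y : S}
    (he : e ∈ (es3PowHom hp2 hE).ker) (hez : e ∉ Subgroup.center S) (hy : y * e = e * y) :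
    y ∈ (es3PowHom hp2 hE).ker := by
  have hp : p.Prime := Fact.out
  by_contra hyk
  set φ := es3PowHom hp2 hE with hφ
  have hcr : Nat.card φ.ker = p ^ 2 := es3_card_ker hp2 hE hcard hexp
  have hidx : φ.ker.index = p := by
    have hmul := Subgroup.card_mul_index φ.ker
    rw [hcr, hcard] at hmul
    have : p ^ 2 * φ.ker.index = p ^ 2 * p := by rw [hmul]; ring
    exact Nat.eq_of_mul_eq_mul_left (pow_pos hp.pos 2) this
  have hle : φ.ker ≤ Subgroup.centralizer ({e} : Set S) := fun x hx =>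
    Subgroup.mem_centralizer_singleton_iff.mpr (es3_ker_comm hp2 hE hcard hexp hx he)
  have hnle : ¬ Subgroup.centralizer ({e} : Set S) ≤ φ.ker := fun h =>
    hyk (h (Subgroup.mem_centralizer_singleton_iff.mpr hy))
  have htop := Cfsg.Agent.Lib.Helper20.eq_top_of_index_prime hp hidx hle hnle
  apply hez
  rw [Subgroup.mem_center_iff]
  intro g
  have : g ∈ Subgroup.centralizer ({e} : Set S) := by rw [htop]; exact Subgroup.mem_top g
  exact Subgroup.mem_centralizer_singleton_iff.mp this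

/-- The facts about an extraspecial subgroup `P` of order `p ^ 3` and exponent `p ^ 2` (`p` odd) of a
group `G`, its centre `Z` and `E = Ω₁(P)`, expressed inside `G`. -/
structure ES3Config (p : ℕ) {G : Type*} [Group G] (P Z E : Subgroup G) : Prop where
  Z_le_E : Z ≤ E
  E_le_P : E ≤ P
  E_comm : ∀ x ∈ E, ∀ y ∈ E, x * y = y * x
  mem_E_iff : ∀ x ∈ P, (x ∈ E ↔ x ^ p = 1)
  self_centralizing : ∀ x ∈ E, x ∉ Z → ∀ y ∈ P, y * x = x * y → y ∈ E
  comm_mem : ∀ x ∈ P, ∀ y ∈ P, x * y * x⁻¹ * y⁻¹ ∈ Z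
  Z_central : ∀ z ∈ Z, ∀ y ∈ P, y * z = z * y
  card_Z : Nat.card Z = p
  card_E : Nat.card E = p ^ 2
  pow_mem : ∀ y ∈ P, y ^ p ∈ Z
  mul_pow : ∀ ε ∈ E, ∀ y ∈ P, (ε * y) ^ p = y ^ p
  not_exp : ¬ ∀ y ∈ P, y ^ p = 1

theorem es3Config_of_subgroup {G : Type*} [Group G] {p : ℕ} [Fact p.Prime] (hp2 : p ≠ 2)
    (P : Subgroup G) [Finite P] (hE : Cfsg.IsExtraspecial p ↥P)
    (hcard : Nat.card P = p ^ 3) (hexp : Monoid.exponent ↥P = p ^ 2) :
    ES3Config p P ((Subgroup.center ↥P).map P.subtype)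
      ((es3PowHom hp2 hE).ker.map P.subtype) where
  Z_le_E := Subgroup.map_mono (es3_center_le_ker hp2 hE)
  E_le_P := Subgroup.map_subtype_le _
  E_comm := by
    rintro _ ⟨s, hs, rfl⟩ _ ⟨s', hs', rfl⟩
    exact congrArg Subtype.val (es3_ker_comm hp2 hE hcard hexp hs hs')
  mem_E_iff := by
    intro x hx
    constructor
    · rintro ⟨s, hs, rfl⟩
      have := (es3_mem_ker hp2 hE s).1 hs
      simpa using congrArg Subtype.val this
    · intro h
      refine ⟨⟨x, hx⟩, (es3_mem_ker hp2 hE _).2 ?_, rfl⟩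
      exact Subtype.ext (by simpa using h)
  self_centralizing := by
    rintro _ ⟨s, hs, rfl⟩ hsZ y hy hcomm
    have hsz : s ∉ Subgroup.center ↥P := fun h => hsZ ⟨s, h, rfl⟩
    have hc : (⟨y, hy⟩ : ↥P) * s = s * ⟨y, hy⟩ := Subtype.ext (by simpa using hcomm)
    exact ⟨⟨y, hy⟩, es3_mem_ker_of_commute hp2 hE hcard hexp hs hsz hc, rfl⟩
  comm_mem := by
    intro x hx y hy
    refine ⟨⁅(⟨x, hx⟩ : ↥P), ⟨y, hy⟩⁆, es3_comm_mem_center hE _ _, ?_⟩
    simp [commutatorElement_def]
  Z_central := by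
    rintro _ ⟨s, hs, rfl⟩ y hy
    have := Subgroup.mem_center_iff.mp hs ⟨y, hy⟩
    simpa using congrArg Subtype.val this
  card_Z := by
    rw [Subgroup.card_map_of_injective (Subgroup.subtype_injective _)]
    exact hE.2
  card_E := by
    rw [Subgroup.card_map_of_injective (Subgroup.subtype_injective _)]
    exact es3_card_ker hp2 hE hcard hexp
  pow_mem := by
    intro y hy
    exact ⟨(⟨y, hy⟩ : ↥P) ^ p, es3_pow_mem_center hE _, by simp⟩
  mul_pow := by
    rintro _ ⟨s, hs, rfl⟩ y hy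
    have h1 := es3_mul_pow hp2 hE s ⟨y, hy⟩
    rw [(es3_mem_ker hp2 hE s).1 hs, one_mul] at h1
    simpa using congrArg Subtype.val h1
  not_exp := by
    intro h
    apply es3_not_exp (S := ↥P) hexp
    intro s
    exact Subtype.ext (by simpa using h s s.2)

end ES3

end Cfsg.Agent.Lib.Helper17
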