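/-
Helper lemmas (helper17): if a Sylow `p`-subgroup `P` of `G` (`p` odd) is extraspecial of order `p ^ 3`
and exponent `p ^ 2`, then `Z(P)` is strongly closed in `P` with respect to `G`.
-/
import Cfsg.Agent.Lib.Helper17.Extraspecial3
import Cfsg.Agent.Lib.Helper17.WeaklyClosed

set_option autoImplicit false

namespace Cfsg.Agent.Lib.Helper17

open scoped Pointwise

/-- If `x y x⁻¹ = c y` and `x` commutes with `c`, then `x ^ k y x ^ (-k) = c ^ k y`. -/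
theorem conj_pow_of_comm {G : Type*} [Group G] {x y c : G} (h : x * y * x⁻¹ = c * y)
    (hc : x * c = c * x) (k : ℕ) : x ^ k * y * (x ^ k)⁻¹ = c ^ k * y := by
  induction k with
  | zero => simp
  | succ k ih =>
    have h1 : x * c ^ k * x⁻¹ = c ^ k := by
      have : Commute x (c ^ k) := Commute.pow_right hc k
      rw [this.eq]; group
    calc x ^ (k + 1) * y * (x ^ (k + 1))⁻¹ = x * (x ^ k * y * (x ^ k)⁻¹) * x⁻¹ := by
          rw [pow_succ']; group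
      _ = x * (c ^ k * y) * x⁻¹ := by rw [ih]
      _ = (x * c ^ k * x⁻¹) * (x * y * x⁻¹) := by group
      _ = c ^ k * (c * y) := by rw [h, h1]
      _ = c ^ (k + 1) * y := by rw [pow_succ]; group

theorem es3_fusion {G : Type*} [Group G] [Finite G] {p : ℕ} [Fact p.Prime] (hp2 : p ≠ 2)
    (P : Sylow p G) {Z E : Subgroup G} (cfg : ES3Config p (P : Subgroup G) Z E) :
    ∀ z ∈ Z, ∀ g : G, g * z * g⁻¹ ∈ (P : Subgroup G) → g * z * g⁻¹ ∈ Z := by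
  intro z hz g hgP
  by_contra hnZ
  have hp : p.Prime := Fact.out
  obtain ⟨e, he_def⟩ : ∃ e, e = g * z * g⁻¹ := ⟨_, rfl⟩
  rw [← he_def] at hgP hnZ
  have hz1 : z ≠ 1 := by
    rintro rfl
    apply hnZ
    rw [he_def]; simp
  have hzE : z ∈ E := cfg.Z_le_E hz
  have hzP : z ∈ (P : Subgroup G) := cfg.E_le_P hzE
  have hzp : z ^ p = 1 := (cfg.mem_E_iff z hzP).1 hzE
  have hep : e ^ p = 1 := by rw [he_def, conj_pow, hzp]; simp
  have heE : e ∈ E := (cfg.mem_E_iff e hgP).2 hep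
  -- powers in Z
  have hZpow : ∀ u ∈ Z, u ≠ 1 → ∀ v ∈ Z, ∃ k : ℕ, u ^ k = v := by
    intro u hu hu1 v hv
    have h1 := mem_powers_of_prime_card (G := ↥Z) cfg.card_Z (g := ⟨u, hu⟩) (g' := ⟨v, hv⟩)
      (by simpa [Subtype.ext_iff] using hu1)
    obtain ⟨k, hk⟩ := h1
    exact ⟨k, by simpa using congrArg Subtype.val hk⟩
  -- conjugation by P preserves E
  have hPE : ∀ y ∈ (P : Subgroup G), ∀ x ∈ E, y * x * y⁻¹ ∈ E := by
    intro y hy x hx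
    have hxP := cfg.E_le_P hx
    have hyxP : y * x * y⁻¹ ∈ (P : Subgroup G) := mul_mem (mul_mem hy hxP) (inv_mem hy)
    apply (cfg.mem_E_iff _ hyxP).2
    rw [conj_pow, (cfg.mem_E_iff x hxP).1 hx]; simp
  -- weakly closed
  have hwc : ∀ h : G, E.map (MulAut.conj h).toMonoidHom ≤ (P : Subgroup G) →
      E.map (MulAut.conj h).toMonoidHom = E := by
    intro h hh
    apply Subgroup.eq_of_le_of_card_ge
    · intro x hx
      have hxP := hh hx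
      obtain ⟨y, hy, rfl⟩ := hx
      apply (cfg.mem_E_iff _ hxP).2
      have := (cfg.mem_E_iff y (cfg.E_le_P hy)).1 hy
      simp only [MulEquiv.coe_toMonoidHom, MulAut.conj_apply]
      rw [conj_pow, this]; simp
    · exact (Cfsg.Agent.Lib.Helper16.card_map_conj E h).ge
  obtain ⟨n, hnN, hnz⟩ := fusion_of_weaklyClosed_abelian P cfg.E_le_P cfg.E_comm hwc hzE g
    (by rw [← he_def]; exact heE)
  rw [← he_def] at hnz
  have hnE' : ∀ x ∈ E, n⁻¹ * x * n ∈ E := by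
    intro x hx
    have := (Subgroup.mem_normalizer_iff.mp (inv_mem hnN) x).1 hx
    simpa using this
  -- a₀
  obtain ⟨a₀, ha₀P, ha₀p⟩ : ∃ y ∈ (P : Subgroup G), y ^ p ≠ 1 := by
    by_contra h; push Not at h; exact cfg.not_exp h
  have ha₀E : a₀ ∉ E := fun h => ha₀p ((cfg.mem_E_iff a₀ ha₀P).1 h)
  have hkey : ∀ x ∈ E, x ∉ Z → ∃ ζ ∈ Z, ζ ≠ 1 ∧ a₀ * x * a₀⁻¹ = ζ * x := by
    intro x hx hxZ
    refine ⟨a₀ * x * a₀⁻¹ * x⁻¹, cfg.comm_mem a₀ ha₀P x (cfg.E_le_P hx), ?_, by group⟩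
    intro h1
    apply ha₀E
    apply cfg.self_centralizing x hx hxZ a₀ ha₀P
    calc a₀ * x = (a₀ * x * a₀⁻¹ * x⁻¹) * x * a₀ := by group
      _ = x * a₀ := by rw [h1, one_mul]
  obtain ⟨z₁, hz₁Z, hz₁1, hz₁⟩ := hkey e heE hnZ
  obtain ⟨k, hk⟩ := hZpow z₁ hz₁Z hz₁1 z hz
  have ha₀z₁ : a₀ * z₁ = z₁ * a₀ := cfg.Z_central z₁ hz₁Z a₀ ha₀P
  obtain ⟨a, ha⟩ : ∃ a, a = a₀ ^ k := ⟨_, rfl⟩
  have haP : a ∈ (P : Subgroup G) := by rw [ha]; exact pow_mem ha₀P k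
  have hae : a * e * a⁻¹ = z * e := by rw [ha, conj_pow_of_comm hz₁ ha₀z₁ k, hk]
  have haz : a * z * a⁻¹ = z := by
    have := cfg.Z_central z hz a haP
    rw [this]; group
  -- z'
  obtain ⟨z', hz'⟩ : ∃ z', z' = n⁻¹ * z * n := ⟨_, rfl⟩
  have hz'E : z' ∈ E := by rw [hz']; exact hnE' z hzE
  have hnz' : n * z' * n⁻¹ = z := by rw [hz']; group
  have hz'Z : z' ∉ Z := by
    intro h
    have hz'1 : z' ≠ 1 := by
      intro h1; apply hz1; rw [← hnz', h1]; simp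
    obtain ⟨j, hj⟩ := hZpow z' h hz'1 z hz
    apply hnZ
    have : e = z ^ j := by
      calc e = n * z * n⁻¹ := hnz.symm
        _ = n * z' ^ j * n⁻¹ := by rw [hj]
        _ = (n * z' * n⁻¹) ^ j := conj_pow.symm
        _ = z ^ j := by rw [hnz']
    rw [this]; exact pow_mem hz j
  obtain ⟨z₂, hz₂Z, hz₂1, hz₂⟩ := hkey z' hz'E hz'Z
  obtain ⟨b₀, hb₀⟩ : ∃ b₀, b₀ = n * a₀ * n⁻¹ := ⟨_, rfl⟩
  obtain ⟨e₁, he₁⟩ : ∃ e₁, e₁ = n * z₂ * n⁻¹ := ⟨_, rfl⟩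
  have hb₀z : b₀ * z * b₀⁻¹ = e₁ * z := by
    calc b₀ * z * b₀⁻¹ = n * (a₀ * z' * a₀⁻¹) * n⁻¹ := by rw [hb₀, hz']; group
      _ = n * (z₂ * z') * n⁻¹ := by rw [hz₂]
      _ = e₁ * z := by rw [he₁, hz']; group
  have hb₀e : b₀ * e * b₀⁻¹ = e := by
    have h1 : a₀ * z * a₀⁻¹ = z := by rw [cfg.Z_central z hz a₀ ha₀P]; group
    calc b₀ * e * b₀⁻¹ = n * (a₀ * z * a₀⁻¹) * n⁻¹ := by rw [hb₀, ← hnz]; group
      _ = n * z * n⁻¹ := by rw [h1]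
      _ = e := hnz
  have hb₀e₁ : b₀ * e₁ = e₁ * b₀ := by
    have h1 : a₀ * z₂ = z₂ * a₀ := cfg.Z_central z₂ hz₂Z a₀ ha₀P
    calc b₀ * e₁ = n * (a₀ * z₂) * n⁻¹ := by rw [hb₀, he₁]; group
      _ = n * (z₂ * a₀) * n⁻¹ := by rw [h1]
      _ = e₁ * b₀ := by rw [hb₀, he₁]; group
  obtain ⟨l, hl⟩ := hZpow z₂ hz₂Z hz₂1 z⁻¹ (inv_mem hz)
  have he₁l : e₁ ^ l = e⁻¹ := by
    rw [he₁, conj_pow, hl, ← hnz]; group
  obtain ⟨b, hb⟩ : ∃ b, b = b₀ ^ l := ⟨_, rfl⟩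
  have hbz : b * z * b⁻¹ = e⁻¹ * z := by rw [hb, conj_pow_of_comm hb₀z hb₀e₁ l, he₁l]
  have hbe : b * e * b⁻¹ = e := by
    have h1 : b₀ * e = e * b₀ := by
      calc b₀ * e = (b₀ * e * b₀⁻¹) * b₀ := by group
        _ = e * b₀ := by rw [hb₀e]
    have h2 : Commute b e := by rw [hb]; exact Commute.pow_left h1 l
    rw [h2.eq]; group
  -- the inverting element
  have hze : z * e = e * z := cfg.E_comm z hzE e heE
  obtain ⟨w, hw⟩ : ∃ w, w = a * b * a := ⟨_, rfl⟩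
  have hwz : w * z * w⁻¹ = e⁻¹ := by
    calc w * z * w⁻¹ = a * (b * (a * z * a⁻¹) * b⁻¹) * a⁻¹ := by rw [hw]; group
      _ = a * (e⁻¹ * z) * a⁻¹ := by rw [haz, hbz]
      _ = (a * e * a⁻¹)⁻¹ * (a * z * a⁻¹) := by group
      _ = e⁻¹ := by rw [hae, haz]; group
  have hwe : w * e * w⁻¹ = z := by
    calc w * e * w⁻¹ = a * (b * (a * e * a⁻¹) * b⁻¹) * a⁻¹ := by rw [hw]; group
      _ = a * ((b * z * b⁻¹) * (b * e * b⁻¹)) * a⁻¹ := by rw [hae]; group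
      _ = a * (e⁻¹ * z * e) * a⁻¹ := by rw [hbz, hbe]
      _ = a * z * a⁻¹ := by rw [mul_assoc e⁻¹, hze, inv_mul_cancel_left]
      _ = z := haz
  obtain ⟨t, ht⟩ : ∃ t, t = w * w := ⟨_, rfl⟩
  have htz : t * z * t⁻¹ = z⁻¹ := by
    calc t * z * t⁻¹ = w * (w * z * w⁻¹) * w⁻¹ := by rw [ht]; group
      _ = (w * e * w⁻¹)⁻¹ := by rw [hwz]; group
      _ = z⁻¹ := by rw [hwe]
  have hte : t * e * t⁻¹ = e⁻¹ := by
    calc t * e * t⁻¹ = w * (w * e * w⁻¹) * w⁻¹ := by rw [ht]; group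
      _ = e⁻¹ := by rw [hwe, hwz]
  have htE : ∀ x ∈ E, t * x * t⁻¹ = x⁻¹ := by
    let K : Subgroup G :=
      { carrier := {x | x ∈ E ∧ t * x * t⁻¹ = x⁻¹}
        one_mem' := ⟨E.one_mem, by simp⟩
        mul_mem' := by
          rintro x y ⟨hx, hx'⟩ ⟨hy, hy'⟩
          refine ⟨E.mul_mem hx hy, ?_⟩
          calc t * (x * y) * t⁻¹ = (t * x * t⁻¹) * (t * y * t⁻¹) := by group
            _ = x⁻¹ * y⁻¹ := by rw [hx', hy']
            _ = (x * y)⁻¹ := by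
              rw [mul_inv_rev, cfg.E_comm _ (inv_mem hx) _ (inv_mem hy)]
        inv_mem' := by
          rintro x ⟨hx, hx'⟩
          refine ⟨E.inv_mem hx, ?_⟩
          calc t * x⁻¹ * t⁻¹ = (t * x * t⁻¹)⁻¹ := by group
            _ = (x⁻¹)⁻¹ := by rw [hx'] }
    have hKE : K ≤ E := fun x hx => hx.1
    have hZK : Z ≤ K := by
      intro v hv
      obtain ⟨j, hj⟩ := hZpow z hz hz1 v hv
      refine ⟨cfg.Z_le_E hv, ?_⟩
      rw [← hj, ← conj_pow, htz, inv_pow]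
    have heK : e ∈ K := ⟨heE, hte⟩
    have hKeq : K = E := by
      have h1 : Nat.card Z ∣ Nat.card K := Subgroup.card_dvd_of_le hZK
      have h2 : Nat.card K ∣ Nat.card E := Subgroup.card_dvd_of_le hKE
      rw [cfg.card_Z] at h1; rw [cfg.card_E] at h2
      obtain ⟨j, hj2, hj⟩ := (Nat.dvd_prime_pow hp).1 h2
      interval_cases j
      · rw [hj, pow_zero] at h1
        exact absurd (Nat.dvd_one.mp h1) hp.one_lt.ne'
      · exfalso; apply hnZ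
        have : Z = K := Subgroup.eq_of_le_of_card_ge hZK (by rw [hj, cfg.card_Z, pow_one])
        rw [this]; exact heK
      · exact Subgroup.eq_of_le_of_card_ge hKE (by rw [hj, cfg.card_E])
    intro x hx
    have : x ∈ K := by rw [hKeq]; exact hx
    exact this.2
  -- elements inverting `E` act centrally
  have hcentral : ∀ τ : G, (∀ x ∈ E, τ * x * τ⁻¹ = x⁻¹) → ∀ y ∈ (P : Subgroup G), ∀ x ∈ E,
      x * (τ * y * τ⁻¹ * y⁻¹) = (τ * y * τ⁻¹ * y⁻¹) * x := by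
    intro τ hτ y hy x hx
    have hx' : y⁻¹ * x * y ∈ E := by simpa using hPE y⁻¹ (inv_mem hy) x hx
    have h1 : τ⁻¹ * (y⁻¹ * x * y) * τ = (y⁻¹ * x * y)⁻¹ := by
      have h0 := hτ (y⁻¹ * x * y)⁻¹ (inv_mem hx')
      rw [inv_inv] at h0
      calc τ⁻¹ * (y⁻¹ * x * y) * τ = τ⁻¹ * (τ * (y⁻¹ * x * y)⁻¹ * τ⁻¹) * τ := by rw [h0]
        _ = (y⁻¹ * x * y)⁻¹ := by group
    have h2 : τ * x⁻¹ * τ⁻¹ = x := by simpa using hτ x⁻¹ (inv_mem hx)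
    have h3 : (τ * y * τ⁻¹ * y⁻¹) * x * (τ * y * τ⁻¹ * y⁻¹)⁻¹ = x := by
      calc (τ * y * τ⁻¹ * y⁻¹) * x * (τ * y * τ⁻¹ * y⁻¹)⁻¹
          = τ * (y * (τ⁻¹ * (y⁻¹ * x * y) * τ) * y⁻¹) * τ⁻¹ := by group
        _ = τ * (y * (y⁻¹ * x * y)⁻¹ * y⁻¹) * τ⁻¹ := by rw [h1]
        _ = τ * x⁻¹ * τ⁻¹ := by group
        _ = x := h2
    calc x * (τ * y * τ⁻¹ * y⁻¹)
        = ((τ * y * τ⁻¹ * y⁻¹) * x * (τ * y * τ⁻¹ * y⁻¹)⁻¹) * (τ * y * τ⁻¹ * y⁻¹) := by rw [h3]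
      _ = (τ * y * τ⁻¹ * y⁻¹) * x := by group
  obtain ⟨C, hC⟩ : ∃ C, C = Subgroup.centralizer (E : Set G) := ⟨_, rfl⟩
  have hPNC : (P : Subgroup G) ≤ Subgroup.normalizer (C : Set G) := by
    intro y hy
    apply Cfsg.Agent.Lib.Helper16.mem_normalizer_of_map_conj_le
    rintro _ ⟨c, hc, rfl⟩
    simp only [MulEquiv.coe_toMonoidHom, MulAut.conj_apply]
    have hc' : c ∈ Subgroup.centralizer (E : Set G) := by rw [← hC]; exact hc
    rw [Subgroup.mem_centralizer_iff] at hc'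
    rw [hC, Subgroup.mem_centralizer_iff]
    intro x hx
    have hx' : y⁻¹ * x * y ∈ E := by simpa using hPE y⁻¹ (inv_mem hy) x hx
    have h1 := hc' _ hx'
    calc x * (y * c * y⁻¹) = y * ((y⁻¹ * x * y) * c) * y⁻¹ := by group
      _ = y * (c * (y⁻¹ * x * y)) * y⁻¹ := by rw [h1]
      _ = y * c * y⁻¹ * x := by group
  have htPX : ((P : Subgroup G).map (MulAut.conj t).toMonoidHom) ≤ (P : Subgroup G) ⊔ C := by
    rintro _ ⟨y, hy, rfl⟩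
    simp only [MulEquiv.coe_toMonoidHom, MulAut.conj_apply]
    have h1 : t * y * t⁻¹ * y⁻¹ ∈ C := by
      rw [hC, Subgroup.mem_centralizer_iff]
      intro x hx
      exact hcentral t htE y hy x hx
    have : t * y * t⁻¹ = (t * y * t⁻¹ * y⁻¹) * y := by group
    rw [this]
    exact mul_mem (Subgroup.mem_sup_right h1) (Subgroup.mem_sup_left hy)
  obtain ⟨u, huX, hu⟩ := Cfsg.Agent.Lib.Helper16.exists_conj_le_sylow P le_sup_left htPX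
    (P.isPGroup'.map _)
  have huX' : u ∈ ((P : Subgroup G) : Set G) * (C : Set G) := by
    rw [← Subgroup.coe_mul_of_left_le_normalizer_right _ _ hPNC]; exact huX
  obtain ⟨y₁, hy₁, c, hc, rfl⟩ := huX'
  obtain ⟨t', ht'⟩ : ∃ t', t' = c * t := ⟨_, rfl⟩
  have ht'P : ∀ y ∈ (P : Subgroup G), t' * y * t'⁻¹ ∈ (P : Subgroup G) := by
    intro y hy
    have h1 : (y₁ * c) * (t * y * t⁻¹) * (y₁ * c)⁻¹ ∈ (P : Subgroup G) :=
      hu ⟨t * y * t⁻¹, ⟨y, hy, by simp⟩, by simp [mul_assoc]⟩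
    have h2 : t' * y * t'⁻¹ = y₁⁻¹ * ((y₁ * c) * (t * y * t⁻¹) * (y₁ * c)⁻¹) * y₁ := by
      rw [ht']; group
    rw [h2]
    exact mul_mem (mul_mem (inv_mem hy₁) h1) hy₁
  have ht'E : ∀ x ∈ E, t' * x * t'⁻¹ = x⁻¹ := by
    intro x hx
    have hc' : c ∈ Subgroup.centralizer (E : Set G) := by rw [← hC]; exact hc
    have h1 : c * x⁻¹ = x⁻¹ * c := (Subgroup.mem_centralizer_iff.mp hc' x⁻¹ (inv_mem hx)).symm
    calc t' * x * t'⁻¹ = c * (t * x * t⁻¹) * c⁻¹ := by rw [ht']; group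
      _ = c * x⁻¹ * c⁻¹ := by rw [htE x hx]
      _ = x⁻¹ := by rw [h1]; group
  -- final contradiction
  obtain ⟨v, hv⟩ : ∃ v, v = t' * a₀ * t'⁻¹ := ⟨_, rfl⟩
  have hvP : v ∈ (P : Subgroup G) := by rw [hv]; exact ht'P a₀ ha₀P
  obtain ⟨ε, hε⟩ : ∃ ε, ε = t' * a₀ * t'⁻¹ * a₀⁻¹ := ⟨_, rfl⟩
  have hεP : ε ∈ (P : Subgroup G) := by
    rw [hε, ← hv]; exact mul_mem hvP (inv_mem ha₀P)
  have hεe : ε * e = e * ε := by rw [hε]; exact (hcentral t' ht'E a₀ ha₀P e heE).symm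
  have hεE : ε ∈ E := cfg.self_centralizing e heE hnZ ε hεP hεe
  have hv1 : v ^ p = a₀ ^ p := by
    have : v = ε * a₀ := by rw [hε, hv]; group
    rw [this, cfg.mul_pow ε hεE a₀ ha₀P]
  have hv2 : v ^ p = (a₀ ^ p)⁻¹ := by
    rw [hv, conj_pow]
    exact ht'E _ (cfg.Z_le_E (cfg.pow_mem a₀ ha₀P))
  have h2 : (a₀ ^ p) ^ 2 = 1 := by
    have h0 : (a₀ ^ p)⁻¹ = a₀ ^ p := by rw [← hv2, hv1]
    calc (a₀ ^ p) ^ 2 = (a₀ ^ p) * (a₀ ^ p) := pow_two _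
      _ = (a₀ ^ p)⁻¹ * (a₀ ^ p) := by rw [h0]
      _ = 1 := inv_mul_cancel _
  have h3 : (a₀ ^ p) ^ p = 1 :=
    (cfg.mem_E_iff _ (pow_mem ha₀P p)).1 (cfg.Z_le_E (cfg.pow_mem a₀ ha₀P))
  apply ha₀p
  have hd : orderOf (a₀ ^ p) ∣ Nat.gcd 2 p :=
    Nat.dvd_gcd (orderOf_dvd_of_pow_eq_one h2) (orderOf_dvd_of_pow_eq_one h3)
  have hg : Nat.gcd 2 p = 1 := (Nat.coprime_primes Nat.prime_two hp).2 (Ne.symm hp2)
  rw [hg, Nat.dvd_one, orderOf_eq_one_iff] at hd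
  exact hd

end Cfsg.Agent.Lib.Helper17
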