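import Mathlib

/-!
helper17: `A < C` normal subgroups of a finite group `G`, `A` central in `C`, `C` solvable.
Then there are a prime `r` and a normal subgroup `N` of `G` with `A < N ≤ C`, `[N,N] ≤ A` and
`N^r ≤ A` (an elementary abelian normal section on top of `A`).
-/

set_option autoImplicit false
set_option linter.style.haveILetI false

namespace Cfsg.Agent.Lib.Helper17.ExistsClass2

open scoped commutatorElement

theorem exists_class_two {G : Type*} [Group G] [Finite G] (A C : Subgroup G) [hAn : A.Normal]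
    [hCn : C.Normal] (hAC : A ≤ C) (hne : A ≠ C) (hsol : Group.IsSolvable C) :
    ∃ (r : ℕ) (N : Subgroup G), r.Prime ∧ N.Normal ∧ A ≤ N ∧ N ≤ C ∧ A ≠ N ∧
      (∀ x ∈ N, ∀ y ∈ N, ⁅x, y⁆ ∈ A) ∧ (∀ x ∈ N, x ^ r ∈ A) := by
  classical
  obtain ⟨π, hπ⟩ : ∃ π : G →* G ⧸ A, π = QuotientGroup.mk' A := ⟨_, rfl⟩
  have hπsurj : Function.Surjective π := by rw [hπ]; exact QuotientGroup.mk'_surjective A
  have hπ1 : ∀ x : G, π x = 1 ↔ x ∈ A := by
    intro x
    rw [hπ]
    exact QuotientGroup.eq_one_iff x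
  -- the derived series of `C`, inside `G`
  obtain ⟨S, hS⟩ : ∃ S : ℕ → Subgroup G, ∀ n, S n = (derivedSeries C n).map C.subtype :=
    ⟨_, fun n => rfl⟩
  have hSn : ∀ n, (S n).Normal := by
    intro n
    rw [hS]
    haveI : (derivedSeries C n).Characteristic := derivedSeries_characteristic C n
    infer_instance
  have hS0 : S 0 = C := by
    rw [hS, derivedSeries_zero, ← MonoidHom.range_eq_map, Subgroup.range_subtype]
  have hSle : ∀ n, S n ≤ C := by
    intro n
    rw [hS]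
    rintro _ ⟨x, -, rfl⟩
    exact x.2
  have hScomm : ∀ n, ∀ x ∈ S n, ∀ y ∈ S n, ⁅x, y⁆ ∈ S (n + 1) := by
    intro n x hx y hy
    rw [hS] at hx hy
    obtain ⟨x', hx', rfl⟩ := hx
    obtain ⟨y', hy', rfl⟩ := hy
    rw [hS, derivedSeries_succ]
    refine ⟨⁅x', y'⁆, Subgroup.commutator_mem_commutator hx' hy', ?_⟩
    simp [commutatorElement_def]
  have hex : ∃ n, S n ≤ A := by
    obtain ⟨n, hn⟩ := hsol.solvable
    refine ⟨n, ?_⟩
    rw [hS, hn, Subgroup.map_bot]
    exact bot_le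
  have hn0 : Nat.find hex ≠ 0 := by
    intro h
    have := Nat.find_spec hex
    rw [h, hS0] at this
    exact hne (le_antisymm hAC this)
  obtain ⟨i, hi⟩ := Nat.exists_eq_succ_of_ne_zero hn0
  have hi1 : ¬ S i ≤ A := by
    intro h
    have := Nat.find_min' hex h
    omega
  have hi2 : S (i + 1) ≤ A := by
    have := Nat.find_spec hex
    rwa [hi] at this
  -- the abelian normal subgroup `M'` of the quotient
  obtain ⟨M', hM'⟩ : ∃ M' : Subgroup (G ⧸ A), M' = (S i).map π := ⟨_, rfl⟩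
  haveI hM'n : M'.Normal := by rw [hM']; exact Subgroup.Normal.map (hSn i) π hπsurj
  have hM'comm : ∀ u ∈ M', ∀ v ∈ M', u * v = v * u := by
    intro u hu v hv
    rw [hM'] at hu hv
    obtain ⟨x, hx, rfl⟩ := hu
    obtain ⟨y, hy, rfl⟩ := hv
    have h1 : ⁅x, y⁆ ∈ A := hi2 (hScomm i x hx y hy)
    rw [← hπ1, map_commutatorElement, commutatorElement_eq_one_iff_mul_comm] at h1
    exact h1
  have hM'ne : M' ≠ ⊥ := by
    intro h
    apply hi1
    intro x hx
    rw [← hπ1]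
    have : π x ∈ M' := by rw [hM']; exact Subgroup.mem_map_of_mem π hx
    rw [h, Subgroup.mem_bot] at this
    exact this
  have hcard : Nat.card M' ≠ 1 := fun h => hM'ne (Subgroup.card_eq_one.mp h)
  obtain ⟨r, hr, hrd⟩ := Nat.exists_prime_and_dvd hcard
  haveI : Fact r.Prime := ⟨hr⟩
  obtain ⟨u₀, hu₀⟩ := exists_prime_orderOf_dvd_card' (G := M') r hrd
  -- the `r`-torsion of `M'`
  let N' : Subgroup (G ⧸ A) :=
    { carrier := {u | u ∈ M' ∧ u ^ r = 1}
      one_mem' := ⟨one_mem _, one_pow _⟩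
      mul_mem' := by
        rintro u v ⟨hu, hur⟩ ⟨hv, hvr⟩
        refine ⟨mul_mem hu hv, ?_⟩
        rw [(show Commute u v from hM'comm u hu v hv).mul_pow, hur, hvr, one_mul]
      inv_mem' := by
        rintro u ⟨hu, hur⟩
        exact ⟨inv_mem hu, by rw [inv_pow, hur, inv_one]⟩ }
  have hN'mem : ∀ u, u ∈ N' ↔ u ∈ M' ∧ u ^ r = 1 := fun u => Iff.rfl
  haveI hN'n : N'.Normal := by
    refine ⟨fun u hu g => ?_⟩
    rw [hN'mem] at hu ⊢
    refine ⟨hM'n.conj_mem u hu.1 g, ?_⟩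
    rw [conj_pow, hu.2, mul_one, mul_inv_cancel]
  refine ⟨r, N'.comap π, hr, inferInstance, ?_, ?_, ?_, ?_, ?_⟩
  · intro a ha
    rw [Subgroup.mem_comap, (hπ1 a).mpr ha]
    exact one_mem _
  · intro x hx
    rw [Subgroup.mem_comap, hN'mem, hM'] at hx
    obtain ⟨⟨s, hs, hsx⟩, -⟩ := hx
    have h1 : s⁻¹ * x ∈ A := by
      rw [← hπ1, map_mul, map_inv, hsx, inv_mul_cancel]
    have h2 : x = s * (s⁻¹ * x) := by group
    rw [h2]
    exact mul_mem (hSle i hs) (hAC h1)
  · intro h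
    have h1 : (u₀ : G ⧸ A) ∈ N' := by
      rw [hN'mem]
      refine ⟨u₀.2, ?_⟩
      have := pow_orderOf_eq_one u₀
      rw [hu₀] at this
      exact congrArg Subtype.val this
    obtain ⟨x, hx⟩ := hπsurj (u₀ : G ⧸ A)
    have h2 : x ∈ N'.comap π := by rw [Subgroup.mem_comap, hx]; exact h1
    rw [← h, ← hπ1, hx] at h2
    have h3 : u₀ = 1 := Subtype.ext h2
    rw [h3, orderOf_one] at hu₀
    exact hr.one_lt.ne hu₀
  · intro x hx y hy
    rw [Subgroup.mem_comap, hN'mem] at hx hy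
    rw [← hπ1, map_commutatorElement, commutatorElement_eq_one_iff_mul_comm]
    exact hM'comm _ hx.1 _ hy.1
  · intro x hx
    rw [Subgroup.mem_comap, hN'mem] at hx
    rw [← hπ1, map_pow]
    exact hx.2

end Cfsg.Agent.Lib.Helper17.ExistsClass2
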