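import Mathlib
import Cfsg.Agent.Lib.Helper26.F2Defs

set_option autoImplicit false

/-!
Helper17: leaf F2-CYC4 of the S3390 market (planner helper26).
-/

namespace Cfsg.Agent.Lib.Helper17.F2CYC4

open Cfsg.Agent.Lib.Helper26.F2 MulAction Subgroup

variable {G : Type*} [Group G] [Finite G] {Ω : Type*} [Finite Ω] [MulAction G Ω]

/-- in a finite cyclic group a subgroup of order `n` is the set of solutions of `x ^ n = 1`. -/
theorem coe_eq_of_card {C : Type*} [Group C] [Finite C] [IsCyclic C] (A : Subgroup C) (n : ℕ)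
    (hn : 0 < n) (hA : Nat.card A = n) : (A : Set C) = {x : C | x ^ n = 1} := by
  classical
  have : Fintype C := Fintype.ofFinite C
  have hsub : (A : Set C) ⊆ {x : C | x ^ n = 1} := by
    intro x hx
    have h := pow_card_eq_one' (G := ↥A) (x := ⟨x, hx⟩)
    rw [hA] at h
    have := congrArg (Subtype.val) h
    simpa using this
  have hle : ({x : C | x ^ n = 1} : Set C).ncard ≤ n := by
    have h := IsCyclic.card_pow_eq_one_le (α := C) hn
    rw [Set.ncard_eq_toFinset_card']
    convert h using 2
    ext x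
    simp
  have hAc : (A : Set C).ncard = n := by
    rw [← hA]; rfl
  exact Set.eq_of_subset_of_ncard_le hsub (by rw [hAc]; exact hle) (Set.toFinite _)

/-- **F2-CYC4** in a cyclic group of order 4 two subgroups of order 2 coincide. -/
theorem eq_of_card_two_of_cyclic (P : Subgroup G) (hc : IsCyclic ↥P) (A B : Subgroup G)
    (hA : A ≤ P) (hB : B ≤ P) (hA2 : Nat.card A = 2) (hB2 : Nat.card B = 2) : A = B := by
  have hcA : Nat.card ↥(A.subgroupOf P) = 2 := by
    rw [Nat.card_congr (Subgroup.subgroupOfEquivOfLe hA).toEquiv, hA2]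
  have hcB : Nat.card ↥(B.subgroupOf P) = 2 := by
    rw [Nat.card_congr (Subgroup.subgroupOfEquivOfLe hB).toEquiv, hB2]
  have heq : A.subgroupOf P = B.subgroupOf P := by
    apply SetLike.coe_injective
    rw [coe_eq_of_card (A.subgroupOf P) 2 (by norm_num) hcA,
      coe_eq_of_card (B.subgroupOf P) 2 (by norm_num) hcB]
  have := congrArg (Subgroup.map P.subtype) heq
  rwa [Subgroup.subgroupOf_map_subtype, Subgroup.subgroupOf_map_subtype,
    inf_eq_left.mpr hA, inf_eq_left.mpr hB] at this

end Cfsg.Agent.Lib.Helper17.F2CYC4
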