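import Mathlib
import Cfsg.Agent.Lib.Helper26.F2Defs

set_option autoImplicit false

/-!
Helper17: leaf F2-FIX3 of the S3390 market (planner helper26).
-/

namespace Cfsg.Agent.Lib.Helper17.F2FIX3

open Cfsg.Agent.Lib.Helper26.F2 MulAction Subgroup

variable {G : Type*} [Group G] [Finite G] {Ω : Type*} [Finite Ω] [MulAction G Ω]

/-- **F2-FIX3** -/
theorem fix3_of_card (hfix : ∀ g : G, g ≠ 1 → Nat.card (MulAction.fixedBy Ω g) ≤ 2) : Fix3 G Ω := by
  intro g hg a b c hab hac hbc ha hb hc
  have h2 := hfix g hg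
  have hfin : Finite (MulAction.fixedBy Ω g) := inferInstance
  let f : Fin 3 → MulAction.fixedBy Ω g := ![⟨a, ha⟩, ⟨b, hb⟩, ⟨c, hc⟩]
  have hinj : Function.Injective f := by
    intro i j hij
    fin_cases i <;> fin_cases j <;> simp [f, Subtype.ext_iff] at hij <;> first | rfl | (exfalso; tauto)
  have := Nat.card_le_card_of_injective f hinj
  rw [Nat.card_eq_fintype_card, Fintype.card_fin] at this
  omega

end Cfsg.Agent.Lib.Helper17.F2FIX3
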