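import Mathlib
import Cfsg.Agent.Lib.Helper26.F2Defs

set_option autoImplicit false

/-!
Helper17: leaf F2-INV of the S3390 market (planner helper26).
-/

namespace Cfsg.Agent.Lib.Helper17.F2INV

open Cfsg.Agent.Lib.Helper26.F2 MulAction Subgroup

variable {G : Type*} [Group G] [Finite G] {Ω : Type*} [Finite Ω] [MulAction G Ω]

/-- **F2-INV** a nontrivial 2-subgroup contains an involution. -/
theorem exists_invol (P : Subgroup G) (hP : IsPGroup 2 P) (hne : P ≠ ⊥) :
    ∃ t ∈ P, orderOf t = 2 := by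
  have : Fact (Nat.Prime 2) := ⟨Nat.prime_two⟩
  have hnt : Nontrivial ↥P := (Subgroup.nontrivial_iff_ne_bot P).mpr hne
  obtain ⟨n, hn⟩ := hP.exists_card_eq
  have hn0 : n ≠ 0 := by
    rintro rfl
    rw [pow_zero] at hn
    have := (Nat.card_eq_one_iff_unique.mp hn).1
    exact not_subsingleton ↥P this
  have hdvd : 2 ∣ Nat.card ↥P := by
    rw [hn]; exact dvd_pow_self 2 hn0
  obtain ⟨t, ht⟩ := exists_prime_orderOf_dvd_card' 2 hdvd
  exact ⟨(t : G), t.2, by rw [Subgroup.orderOf_coe]; exact ht⟩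

end Cfsg.Agent.Lib.Helper17.F2INV
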