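import Mathlib
import Cfsg.Agent.Lib.Helper26.F2Defs

set_option autoImplicit false

/-!
Helper17: leaf F2-K4 of the S3390 market (planner helper26).
-/

namespace Cfsg.Agent.Lib.Helper17.F2K4

open Cfsg.Agent.Lib.Helper26.F2 MulAction Subgroup

variable {G : Type*} [Group G] [Finite G] {Ω : Type*} [Finite Ω] [MulAction G Ω]

/-- **F2-K4** a noncyclic group of order 4 is `DihedralGroup 2`. -/
theorem klein_of_card_four (P : Type*) [Group P] (h4 : Nat.card P = 4) (hnc : ¬ IsCyclic P) :
    Nonempty (P ≃* DihedralGroup 2) := by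
  have hfin : Finite P := Nat.finite_of_card_ne_zero (by rw [h4]; norm_num)
  have hsq : ∀ x : P, x ^ 2 = 1 := by
    intro x
    have hdvd : orderOf x ∣ 4 := by rw [← h4]; exact orderOf_dvd_natCard x
    have hle : orderOf x ≤ 4 := Nat.le_of_dvd (by norm_num) hdvd
    have hne4 : orderOf x ≠ 4 := by
      intro h
      exact hnc (isCyclic_of_orderOf_eq_card x (by rw [h, h4]))
    have hpos : 0 < orderOf x := orderOf_pos x
    have h12 : orderOf x = 1 ∨ orderOf x = 2 := by
      interval_cases h : orderOf x
      · left; rfl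
      · right; rfl
      · exfalso; omega
      · exfalso; exact hne4 rfl
    rcases h12 with h | h
    · rw [orderOf_eq_one_iff] at h; rw [h, one_pow]
    · rw [← h]; exact pow_orderOf_eq_one x
  have hexp : Monoid.exponent P = 2 := by
    have hdvd : Monoid.exponent P ∣ 2 := Monoid.exponent_dvd_of_forall_pow_eq_one hsq
    have hne1 : Monoid.exponent P ≠ 1 := by
      intro h
      have hs : Subsingleton P := Monoid.exp_eq_one_iff.mp h
      have : Nat.card P = 1 := Nat.card_unique
      omega
    have := (Nat.dvd_prime Nat.prime_two).mp hdvd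
    tauto
  have hK : IsKleinFour P := ⟨h4, hexp⟩
  exact IsKleinFour.nonempty_mulEquiv

end Cfsg.Agent.Lib.Helper17.F2K4
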