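import Mathlib
import Cfsg.Prelude.Def_GeometricClasses
import Cfsg.Agent.Lib.Helper20.AschDefs
import Cfsg.Agent.Lib.Helper20.FCDefs
import Cfsg.Agent.Lib.Helper18.C2Defs

/-!
FORM-CLIFFORD market (helper20), leaf (C1) `sp_c8` (helper17): symplectic, `q` even, a pair of complementary totally
singular subspaces stabilised by `Y` gives a `Y`-invariant quadratic form with polar form `f`.
-/

set_option autoImplicit false
set_option linter.unusedSectionVars false
set_option linter.unusedVariables false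

namespace Cfsg.Agent.Lib.Helper17.FCLeaf
open Matrix Cfsg.Geo Cfsg.Agent.Lib.Helper20.Asch Cfsg.Agent.Lib.Helper20.FC Cfsg.Agent.Lib.Helper18.C2

variable {F : Type*} [Field F] [Fintype F] {n : ℕ}

/-- a finite field of even order has characteristic two -/
theorem two_eq_zero_of_not_odd_card (h2 : ¬ Odd (Fintype.card F)) : (2 : F) = 0 := by
  obtain ⟨p, hp⟩ := CharP.exists F
  haveI := hp
  obtain ⟨k, hprime, hcard⟩ := FiniteField.card F p
  have hev : Even (Fintype.card F) := Nat.not_odd_iff_even.mp h2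
  rw [hcard] at hev
  have hpe : Even p := (Nat.even_pow.mp hev).1
  have hp2 : p = 2 := (Nat.Prime.even_iff hprime).mp hpe
  subst hp2
  exact CharTwo.two_eq_zero

theorem neg_eq_self_of_two_eq_zero (h2 : (2 : F) = 0) (x : F) : -x = x := by
  have : x + x = 0 := by rw [← two_mul, h2, zero_mul]
  exact neg_eq_of_add_eq_zero_left this

/-- (C1) SYMPLECTIC, `q` even, a totally singular pair ⇒ class 8. -/
theorem sp_c8 {f : (Fin n → F) → (Fin n → F) → F} (hf : IsSymplecticForm f)
    (h2 : ¬ Odd (Fintype.card F)) {Y : Subgroup (GL (Fin n) F)} (hiso : Isoms Y f) {k : ℕ}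
    {D : Fin 2 → Submodule F (Fin n → F)} (hD : IsMDecomposition k D)
    (hts : ∀ i, IsTotallySingularFor f (D i)) (hY : Y ≤ decompositionStabilizer D) :
    ∃ Q : (Fin n → F) → F, IsNondegenerateQuadraticForm Q ∧ (∀ u v, QuadraticMap.polar Q u v = f u v) ∧
      FixesQuadForm (matrixSet Y) Q ∧ Y ≤ quadSimilarityGroup Q := by
  have h20 : (2 : F) = 0 := two_eq_zero_of_not_odd_card h2
  have hneg : ∀ x : F, -x = x := neg_eq_self_of_two_eq_zero h20
  have hb := hf.bilinear
  have hsplit : ∀ v : Fin n → F, v = pr hD 0 v + pr hD 1 v := by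
    intro v
    have := sum_pr hD v
    rw [Fin.sum_univ_two] at this
    exact this.symm
  set Q : (Fin n → F) → F := fun v => f (pr hD 0 v) (pr hD 1 v) with hQ
  have hpolar : ∀ u v, QuadraticMap.polar Q u v = f u v := by
    intro u v
    unfold QuadraticMap.polar
    simp only [hQ, map_add]
    have e1 : f (pr hD 0 u) (pr hD 0 v) = 0 := hts 0 _ (pr_mem hD 0 u) _ (pr_mem hD 0 v)
    have e2 : f (pr hD 1 u) (pr hD 1 v) = 0 := hts 1 _ (pr_mem hD 1 u) _ (pr_mem hD 1 v)
    have e3 : f (pr hD 0 v) (pr hD 1 u) = f (pr hD 1 u) (pr hD 0 v) := by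
      rw [hf.skew, hneg]
    conv_rhs => rw [hsplit u, hsplit v]
    rw [hb.add_left, hb.add_right, hb.add_right, hb.add_left, hb.add_right, hb.add_right, e1, e2, e3]
    ring
  have hfix : ∀ y ∈ Y, ∀ v, Q ((y : Matrix (Fin n) (Fin n) F) *ᵥ v) = Q v := by
    intro y hy v
    obtain ⟨ρ, hρ⟩ := hY hy
    have hmem : ∀ i, (y : Matrix (Fin n) (Fin n) F) *ᵥ (pr hD i v) ∈ D (ρ i) := by
      intro i
      rw [← hρ i]
      exact ⟨_, pr_mem hD i v, by simp [Matrix.toLin'_apply]⟩
    have hyv : (y : Matrix (Fin n) (Fin n) F) *ᵥ v = (y : Matrix (Fin n) (Fin n) F) *ᵥ (pr hD 0 v)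
        + (y : Matrix (Fin n) (Fin n) F) *ᵥ (pr hD 1 v) := by
      rw [← Matrix.mulVec_add, ← hsplit v]
    have hpr : ∀ i, pr hD (ρ i) ((y : Matrix (Fin n) (Fin n) F) *ᵥ v) = (y : Matrix (Fin n) (Fin n) F) *ᵥ (pr hD i v) := by
      intro i
      rw [hyv, map_add]
      fin_cases i
      · have hne : ρ 1 ≠ ρ 0 := fun h => by simpa using ρ.injective h
        simp only [Fin.zero_eta]
        rw [pr_same hD (hmem 0), pr_ne hD hne (hmem 1), add_zero]
      · have hne : ρ 0 ≠ ρ 1 := fun h => by simpa using ρ.injective h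
        simp only [Fin.mk_one]
        rw [pr_ne hD hne (hmem 0), pr_same hD (hmem 1), zero_add]
    have hcases : ρ 0 = 0 ∧ ρ 1 = 1 ∨ ρ 0 = 1 ∧ ρ 1 = 0 := by
      have hne : ρ 0 ≠ ρ 1 := fun h => by simpa using ρ.injective h
      rcases Fin.exists_fin_two.mp ⟨ρ 0, rfl⟩ with h0 | h0 <;>
        rcases Fin.exists_fin_two.mp ⟨ρ 1, rfl⟩ with h1 | h1
      · exact absurd (h0.trans h1.symm) hne
      · exact Or.inl ⟨h0, h1⟩
      · exact Or.inr ⟨h0, h1⟩
      · exact absurd (h0.trans h1.symm) hne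
    simp only [hQ]
    rcases hcases with ⟨h0, h1⟩ | ⟨h0, h1⟩
    · have a0 := hpr 0
      have a1 := hpr 1
      rw [h0] at a0
      rw [h1] at a1
      rw [a0, a1, hiso y hy]
    · have a0 := hpr 0
      have a1 := hpr 1
      rw [h0] at a0
      rw [h1] at a1
      rw [a0, a1, hiso y hy, hf.skew, hneg]
  refine ⟨Q, ⟨?_, ?_, ?_⟩, hpolar, ?_, ?_⟩
  · intro c v
    simp only [hQ, map_smul]
    rw [hb.smul_left, hb.smul_right]
    ring
  · have : QuadraticMap.polar Q = f := by
      funext u v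
      exact hpolar u v
    rw [this]
    exact hb
  · have : QuadraticMap.polar Q = f := by
      funext u v
      exact hpolar u v
    rw [this]
    exact hf.nondegenerate
  · rintro s ⟨y, hy, rfl⟩ v
    exact hfix y hy v
  · intro y hy
    exact ⟨1, fun v => by rw [hfix y hy v, Units.val_one, one_mul]⟩

end Cfsg.Agent.Lib.Helper17.FCLeaf
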