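/-
helper17: S4642 leaf INVL `irrOverIn_inv` (planner helper2, `notes/S4642_leaves.lean`):
`Irr(L | θ)` is stable under `G`-conjugation when `θ` is `G`-invariant.
-/
import Mathlib
import Cfsg.Prelude.Def_BrauerPairs
import Cfsg.Agent.Lib.Helper2.FongPTDefs
import Cfsg.Agent.Lib.Helper6.KnoerrGen
import Cfsg.Agent.Lib.Helper6.Fong
import Cfsg.Agent.Lib.Helper6.MinMax
import Cfsg.Agent.Lib.Helper23.PairIndA
import Cfsg.Agent.Lib.Helper23.PairIndB
import Cfsg.Agent.Lib.Helper24.MaxPair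

set_option autoImplicit false

namespace Cfsg.Agent.Lib.Helper17.FPTINVL

open Cfsg Cfsg.Agent.CharLib Cfsg.Agent.Lib.Helper24 Cfsg.Agent.Lib.Helper23
  Cfsg.Agent.Lib.Helper6 Cfsg.Agent.Lib.Helper2.FongPT
open scoped ComplexConjugate

universe u

variable {G : Type u} [Group G] [Fintype G] {p : ℕ} [hpp : Fact p.Prime] {M : Ideal AlgInt}

/-- conjugation by `g` as a permutation of the normal subgroup `K` -/
def conjEquiv (K : Subgroup G) [hKn : K.Normal] (g : G) : K ≃ K where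
  toFun k := ⟨g * (k : G) * g⁻¹, hKn.conj_mem k k.2 g⟩
  invFun k := ⟨g⁻¹ * (k : G) * g, by
    have := hKn.conj_mem k k.2 g⁻¹
    rwa [inv_inv] at this⟩
  left_inv k := by
    apply Subtype.ext
    show g⁻¹ * (g * (k : G) * g⁻¹) * g = k
    group
  right_inv k := by
    apply Subtype.ext
    show g * (g⁻¹ * (k : G) * g) * g⁻¹ = k
    group

/-- (INVL) `Irr(L | θ)` is stable under `G`-conjugation (in the form `Fong.fong` wants). -/
theorem irrOverIn_inv (K L : Subgroup G) (hKL : K ≤ L) [hKn : K.Normal] [hLn : L.Normal]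
    [Fintype K] (θ : IrrCharacter K)
    (hθ : ∀ g : G, IsConjCharOf K g (θ : K → ℂ) (θ : K → ℂ)) :
    ∀ g : G, ∀ ψ ∈ irrOverIn K L hKL (θ : K → ℂ), ∀ ψ' : IrrCharacter L,
      (∀ n : L, (ψ' : L → ℂ) n = (ψ : L → ℂ) ⟨g * n * g⁻¹, hLn.conj_mem n n.2 g⟩) →
      ψ' ∈ irrOverIn K L hKL (θ : K → ℂ) := by
  intro g ψ hψ ψ' hψ'
  show classInner (fun k : K => (ψ' : L → ℂ) ⟨(k : G), hKL k.2⟩) (θ : K → ℂ) ≠ 0
  have hψ0 : classInner (fun k : K => (ψ : L → ℂ) ⟨(k : G), hKL k.2⟩) (θ : K → ℂ) ≠ 0 := hψ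
  have heq : classInner (fun k : K => (ψ' : L → ℂ) ⟨(k : G), hKL k.2⟩) (θ : K → ℂ) =
      classInner (fun k : K => (ψ : L → ℂ) ⟨(k : G), hKL k.2⟩) (θ : K → ℂ) := by
    unfold classInner
    congr 1
    apply Fintype.sum_equiv (conjEquiv K g)
    intro k
    have h1 : (θ : K → ℂ) (conjEquiv K g k) = (θ : K → ℂ) k := hθ g k (conjEquiv K g k) rfl
    rw [h1]
    show (ψ' : L → ℂ) ⟨(k : G), hKL k.2⟩ * _ = _
    rw [hψ' ⟨(k : G), hKL k.2⟩]
    rfl
  rw [heq]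
  exact hψ0

end Cfsg.Agent.Lib.Helper17.FPTINVL
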