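/-
helper17: S4427 market "FRB", leaf FRB-CTRPOW (the class trace of `(e_R e_Q)^N` counts words).
-/
import Mathlib
import Cfsg.Prelude.Def_Blocks
import Cfsg.Agent.Lib.Helper24.LocalRing
import Cfsg.Agent.Lib.Helper9.FRBDefs

set_option autoImplicit false
set_option linter.unusedSectionVars false

namespace Cfsg.Agent.Lib.Helper17.FRBCTRPOW

open Cfsg Cfsg.Agent.Lib.Helper9.FRB

variable {G : Type*} [Group G]

open Classical

/-- `avg H` as a scaled sum of group elements -/
theorem avg_eq_sum [Fintype G] (H : Subgroup G) :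
    avg H = ((Nat.card H : ℝ))⁻¹ • ∑ z : H, MonoidAlgebra.single (z : G) (1 : ℝ) := by
  classical
  apply MonoidAlgebra.coeff_injective
  ext g
  rw [avg_coeff, MonoidAlgebra.coeff_smul, Finsupp.smul_apply, MonoidAlgebra.coeff_sum,
    Finsupp.finsetSum_apply]
  simp_rw [MonoidAlgebra.coeff_single, Finsupp.single_apply]
  by_cases hg : g ∈ H
  · rw [if_pos hg]
    rw [Finset.sum_eq_single (⟨g, hg⟩ : H)]
    · simp
    · intro b _ hb
      rw [if_neg]
      intro h
      apply hb
      exact Subtype.ext h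
    · intro h
      exact absurd (Finset.mem_univ _) h
  · rw [if_neg hg]
    rw [Finset.sum_eq_zero]
    · simp
    · intro b _
      rw [if_neg]
      intro h
      apply hg
      rw [← h]
      exact b.2

/-- the evaluation of a letter -/
def ev (Q R : Subgroup G) (a : R × Q) : G := (a.1 : G) * (a.2 : G)

theorem avg_mul_avg [Fintype G] (Q R : Subgroup G) :
    avg R * avg Q = (((Nat.card R * Nat.card Q : ℕ) : ℝ))⁻¹ •
      ∑ a : R × Q, MonoidAlgebra.single (ev Q R a) (1 : ℝ) := by
  classical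
  rw [avg_eq_sum R, avg_eq_sum Q, smul_mul_smul_comm, Finset.sum_mul_sum, Fintype.sum_prod_type]
  congr 1
  · push_cast
    rw [mul_inv]
  · apply Finset.sum_congr rfl
    intro z _
    apply Finset.sum_congr rfl
    intro y _
    rw [MonoidAlgebra.single_mul_single, one_mul]
    rfl

theorem pow_eq_sum [Fintype G] (Q R : Subgroup G) (N : ℕ) :
    (avg R * avg Q) ^ N = ((((Nat.card R * Nat.card Q : ℕ) : ℝ)) ^ N)⁻¹ •
      ∑ w : Fin N → R × Q, MonoidAlgebra.single ((List.ofFn fun i => ev Q R (w i)).prod) (1 : ℝ) := by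
  classical
  induction N with
  | zero =>
    simp only [pow_zero, inv_one, one_smul]
    rw [Fintype.sum_unique]
    simp [MonoidAlgebra.one_def]
  | succ N ih =>
    rw [pow_succ', ih, avg_mul_avg, smul_mul_smul_comm, Finset.sum_mul_sum, pow_succ', mul_inv]
    congr 1
    rw [← Fintype.sum_prod_type']
    apply Fintype.sum_equiv (Fin.consEquiv (fun _ => R × Q))
    intro aw
    rw [MonoidAlgebra.single_mul_single, one_mul]
    congr 1
    rw [List.ofFn_succ, List.prod_cons]
    simp [Fin.consEquiv]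

theorem coeff_pow [Fintype G] (Q R : Subgroup G) (N : ℕ) (k : G) :
    ((avg R * avg Q) ^ N).coeff k = ((((Nat.card R * Nat.card Q : ℕ) : ℝ)) ^ N)⁻¹ *
      ∑ w : Fin N → R × Q, if (List.ofFn fun i => ev Q R (w i)).prod = k then (1 : ℝ) else 0 := by
  rw [pow_eq_sum, MonoidAlgebra.coeff_smul, Finsupp.smul_apply, MonoidAlgebra.coeff_sum,
    Finsupp.finsetSum_apply, smul_eq_mul]
  congr 1
  apply Finset.sum_congr rfl
  intro w _
  rw [MonoidAlgebra.coeff_single, Finsupp.single_apply]

/-- counting the conjugators -/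
theorem sum_conj [Fintype G] (g k : G) :
    (∑ h : G, if k = h⁻¹ * g * h then (1 : ℝ) else 0) =
      if IsConj k g then (Fintype.card {h : G // h⁻¹ * g * h = g} : ℝ) else 0 := by
  by_cases hc : IsConj k g
  · rw [if_pos hc]
    obtain ⟨t, ht⟩ := isConj_iff.mp hc
    -- k = t⁻¹ g t
    have hk : k = t⁻¹ * g * t := by
      rw [← ht]; group
    have h1 : (∑ h : G, if k = h⁻¹ * g * h then (1 : ℝ) else 0) =
        ∑ h : G, if h⁻¹ * g * h = g then (1 : ℝ) else 0 := by
      apply Fintype.sum_equiv (Equiv.mulRight t⁻¹)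
      intro h
      rw [Equiv.coe_mulRight]
      have hiff : (k = h⁻¹ * g * h) ↔ ((h * t⁻¹)⁻¹ * g * (h * t⁻¹) = g) := by
        rw [hk]
        constructor
        · intro h1
          have : (h * t⁻¹)⁻¹ * g * (h * t⁻¹) = t * (h⁻¹ * g * h) * t⁻¹ := by group
          rw [this, ← h1]; group
        · intro h1
          have : h⁻¹ * g * h = t⁻¹ * ((h * t⁻¹)⁻¹ * g * (h * t⁻¹)) * t := by group
          rw [this, h1]
      by_cases h2 : k = h⁻¹ * g * h
      · rw [if_pos h2, if_pos (hiff.mp h2)]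
      · rw [if_neg h2, if_neg (fun h3 => h2 (hiff.mpr h3))]
    rw [h1, Finset.sum_boole, Fintype.card_subtype]
  · rw [if_neg hc]
    apply Finset.sum_eq_zero
    intro h _
    rw [if_neg]
    intro h1
    apply hc
    rw [isConj_iff]
    exact ⟨h, by rw [h1]; group⟩

theorem ctr_pow [Fintype G] (Q R : Subgroup G) (g : G) (N : ℕ) :
    ∃ c : ℕ, ctr g ((avg R * avg Q) ^ N) =
      ((((Nat.card R * Nat.card Q : ℕ) : ℝ)) ^ N)⁻¹ * (c : ℝ) *
        (Nat.card {w : Fin N → R × Q //
          IsConj ((List.ofFn fun i => ((w i).1 : G) * ((w i).2 : G)).prod) g} : ℝ) := by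
  classical
  refine ⟨Fintype.card {h : G // h⁻¹ * g * h = g}, ?_⟩
  have hcard : (Nat.card {w : Fin N → R × Q //
      IsConj ((List.ofFn fun i => ((w i).1 : G) * ((w i).2 : G)).prod) g} : ℝ) =
      ∑ w : Fin N → R × Q, if IsConj (List.ofFn fun i => ev Q R (w i)).prod g then (1 : ℝ) else 0 := by
    rw [Nat.card_eq_fintype_card, Fintype.card_subtype, Finset.sum_boole]
    rfl
  rw [hcard]
  calc ctr g ((avg R * avg Q) ^ N)
      = ∑ h : G, ((((Nat.card R * Nat.card Q : ℕ) : ℝ)) ^ N)⁻¹ *
          ∑ w : Fin N → R × Q,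
            if (List.ofFn fun i => ev Q R (w i)).prod = h⁻¹ * g * h then (1 : ℝ) else 0 := by
        unfold ctr
        apply Finset.sum_congr rfl
        intro h _
        rw [coeff_pow]
    _ = ((((Nat.card R * Nat.card Q : ℕ) : ℝ)) ^ N)⁻¹ * ∑ w : Fin N → R × Q, ∑ h : G,
            if (List.ofFn fun i => ev Q R (w i)).prod = h⁻¹ * g * h then (1 : ℝ) else 0 := by
        rw [← Finset.mul_sum, Finset.sum_comm]
    _ = ((((Nat.card R * Nat.card Q : ℕ) : ℝ)) ^ N)⁻¹ * ∑ w : Fin N → R × Q,
            if IsConj (List.ofFn fun i => ev Q R (w i)).prod g then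
              (Fintype.card {h : G // h⁻¹ * g * h = g} : ℝ) else 0 := by
        congr 1
        apply Finset.sum_congr rfl
        intro w _
        rw [sum_conj]
    _ = ((((Nat.card R * Nat.card Q : ℕ) : ℝ)) ^ N)⁻¹ *
          ((Fintype.card {h : G // h⁻¹ * g * h = g} : ℕ) : ℝ) *
          ∑ w : Fin N → R × Q,
            if IsConj (List.ofFn fun i => ev Q R (w i)).prod g then (1 : ℝ) else 0 := by
        rw [mul_assoc]
        congr 1
        rw [Finset.mul_sum]
        apply Finset.sum_congr rfl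
        intro w _
        by_cases hc : IsConj (List.ofFn fun i => ev Q R (w i)).prod g
        · rw [if_pos hc, if_pos hc, mul_one]
        · rw [if_neg hc, if_neg hc, mul_zero]

end Cfsg.Agent.Lib.Helper17.FRBCTRPOW
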