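/-
helper17: S4427 market "FRB", leaf FRB-POLY (the separating polynomial with local-integer
coefficients).
-/
import Mathlib
import Cfsg.Prelude.Def_Blocks
import Cfsg.Agent.Lib.Helper24.LocalRing
import Cfsg.Agent.Lib.Helper9.FRBDefs

set_option autoImplicit false
set_option linter.unusedSectionVars false

namespace Cfsg.Agent.Lib.Helper17.FRBPOLY

open Cfsg Cfsg.Agent.Lib.Helper24

variable {M : Ideal AlgInt}

/-- the real numbers that are local integers at `M`, as a subring -/
def localReal (M : Ideal AlgInt) [hp : M.IsPrime] : Subring ℝ where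
  carrier := {r | MemLocalRing M ((r : ℝ) : ℂ)}
  mul_mem' := by
    intro a b ha hb
    change MemLocalRing M (((a * b : ℝ)) : ℂ)
    rw [Complex.ofReal_mul]
    exact memLocalRing_mul ha hb
  one_mem' := by
    change MemLocalRing M (((1 : ℝ)) : ℂ)
    have := memLocalRing_of_algInt (M := M) 1 hp.one_notMem
    simpa using this
  add_mem' := by
    intro a b ha hb
    change MemLocalRing M (((a + b : ℝ)) : ℂ)
    rw [Complex.ofReal_add]
    exact memLocalRing_add ha hb
  zero_mem' := by
    change MemLocalRing M (((0 : ℝ)) : ℂ)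
    have := memLocalRing_of_algInt (M := M) 0 hp.one_notMem
    simpa using this
  neg_mem' := by
    intro a ha
    change MemLocalRing M (((-a : ℝ)) : ℂ)
    rw [Complex.ofReal_neg]
    exact memLocalRing_neg ha

theorem mem_localReal [hp : M.IsPrime] (r : ℝ) :
    r ∈ localReal M ↔ MemLocalRing M ((r : ℝ) : ℂ) := Iff.rfl

/-- (F1) a local integer outside the local ideal has a local-integer inverse -/
theorem inv_mem {z : ℂ} (hz : MemLocalRing M z) (hu : ¬ MemLocalIdeal M z) :
    MemLocalRing M z⁻¹ := by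
  obtain ⟨a, b, hb, hab⟩ := hz
  have ha : a ∉ M := by
    intro ha
    exact hu ⟨a, b, ha, hb, hab⟩
  refine ⟨b, a, ha, ?_⟩
  rw [← hab, inv_div]

/-- (F2) -/
theorem not_ideal_of_inv [hp : M.IsPrime] {z : ℂ} (hz0 : z ≠ 0) (hinv : MemLocalRing M z⁻¹) :
    ¬ MemLocalIdeal M z := by
  intro hI
  have h1 : MemLocalIdeal M (z * z⁻¹) := memLocalIdeal_mul_right hI hinv
  rw [mul_inv_cancel₀ hz0] at h1
  exact not_memLocalIdeal_one h1

theorem ne_zero_of_not_ideal [hp : M.IsPrime] {z : ℂ} (hu : ¬ MemLocalIdeal M z) : z ≠ 0 := by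
  intro h
  apply hu
  rw [h]
  exact memLocalIdeal_zero hp.one_notMem

theorem pow_memLocalRing [hp : M.IsPrime] {z : ℂ} (hz : MemLocalRing M z) (N : ℕ) :
    MemLocalRing M (z ^ N) := by
  induction N with
  | zero =>
    rw [pow_zero]
    have := memLocalRing_of_algInt (M := M) 1 hp.one_notMem
    simpa using this
  | succ N ih =>
    rw [pow_succ]
    exact memLocalRing_mul ih hz

/-- (F3) -/
theorem pow_not_ideal [hp : M.IsPrime] {z : ℂ} (hz : MemLocalRing M z) (hu : ¬ MemLocalIdeal M z)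
    (N : ℕ) : ¬ MemLocalIdeal M (z ^ N) := by
  have hz0 := ne_zero_of_not_ideal hu
  apply not_ideal_of_inv (pow_ne_zero N hz0)
  rw [← inv_pow]
  exact pow_memLocalRing (inv_mem hz hu) N

/-- (F4) -/
theorem pow_ideal [hp : M.IsPrime] {z : ℂ} (hI : MemLocalIdeal M z) (N : ℕ) (hN : 0 < N) :
    MemLocalIdeal M (z ^ N) := by
  obtain ⟨k, rfl⟩ := Nat.exists_eq_succ_of_ne_zero hN.ne'
  rw [pow_succ']
  exact memLocalIdeal_mul_right hI (pow_memLocalRing (memLocalRing_of_memLocalIdeal hI) k)

/-- (F5) -/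
theorem sub_not_ideal [hp : M.IsPrime] {z w : ℂ} (hu : ¬ MemLocalIdeal M z)
    (hI : MemLocalIdeal M w) : ¬ MemLocalIdeal M (z - w) := by
  intro h
  apply hu
  have := memLocalIdeal_add h hI
  rwa [sub_add_cancel] at this

open Polynomial in
open Classical in
theorem unit_poly {p : ℕ} {M : Ideal AlgInt} (hM : IsPModular p M) (S : Finset ℝ)
    (hS : ∀ l ∈ S, MemLocalRing M ((l : ℝ) : ℂ)) (N : ℕ) (hN : 0 < N) :
    ∃ h : Polynomial ℝ, (∀ i, MemLocalRing M ((h.coeff i : ℝ) : ℂ)) ∧
      ∀ l ∈ S, h.eval (l ^ N) = if MemLocalIdeal M ((l : ℝ) : ℂ) then 0 else 1 := by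
  have hp : M.IsPrime := isPrime_of_isPModular hM
  set U : Finset ℝ := (S.filter fun l => ¬ MemLocalIdeal M ((l : ℝ) : ℂ)).image (fun l => l ^ N)
    with hU
  set V : Finset ℝ := (S.filter fun l => MemLocalIdeal M ((l : ℝ) : ℂ)).image (fun l => l ^ N)
    with hV
  -- properties of the nodes
  have hUprop : ∀ α ∈ U, MemLocalRing M ((α : ℝ) : ℂ) ∧ ¬ MemLocalIdeal M ((α : ℝ) : ℂ) := by
    intro α hα
    obtain ⟨l, hl, rfl⟩ := Finset.mem_image.mp hα
    rw [Finset.mem_filter] at hl
    rw [Complex.ofReal_pow]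
    exact ⟨pow_memLocalRing (hS l hl.1) N, pow_not_ideal (hS l hl.1) hl.2 N⟩
  have hVprop : ∀ β ∈ V, MemLocalIdeal M ((β : ℝ) : ℂ) := by
    intro β hβ
    obtain ⟨l, hl, rfl⟩ := Finset.mem_image.mp hβ
    rw [Finset.mem_filter] at hl
    rw [Complex.ofReal_pow]
    exact pow_ideal hl.2 N hN
  have hdiff : ∀ α ∈ U, ∀ β ∈ V, (α - β) ≠ 0 ∧ MemLocalRing M (((α - β)⁻¹ : ℝ) : ℂ) := by
    intro α hα β hβ
    have h1 : ¬ MemLocalIdeal M (((α - β : ℝ)) : ℂ) := by
      rw [Complex.ofReal_sub]
      exact sub_not_ideal (hUprop α hα).2 (hVprop β hβ)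
    have h2 : MemLocalRing M (((α - β : ℝ)) : ℂ) := by
      rw [Complex.ofReal_sub]
      exact memLocalRing_sub (hUprop α hα).1 (memLocalRing_of_memLocalIdeal (hVprop β hβ))
    constructor
    · intro h0
      apply ne_zero_of_not_ideal h1
      rw [h0, Complex.ofReal_zero]
    · rw [Complex.ofReal_inv]
      exact inv_mem h2 h1
  -- the polynomial
  set h : Polynomial ℝ :=
    ∏ β ∈ V, (1 - ∏ α ∈ U, (1 - C ((α - β)⁻¹) * (X - C β))) with hh
  refine ⟨h, ?_, ?_⟩
  · -- coefficients
    have hmem : h ∈ Polynomial.lifts (localReal M).subtype := by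
      have hC : ∀ r : ℝ, r ∈ localReal M → (C r : Polynomial ℝ) ∈ Polynomial.lifts (localReal M).subtype := by
        intro r hr
        exact Polynomial.C_mem_lifts (localReal M).subtype ⟨r, hr⟩
      have hX : (X : Polynomial ℝ) ∈ Polynomial.lifts (localReal M).subtype := Polynomial.X_mem_lifts _
      have h1 : (1 : Polynomial ℝ) ∈ Polynomial.lifts (localReal M).subtype := one_mem _
      have hring : ∀ a b : Polynomial ℝ, a ∈ Polynomial.lifts (localReal M).subtype →
          b ∈ Polynomial.lifts (localReal M).subtype →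
          a - b ∈ Polynomial.lifts (localReal M).subtype := by
        intro a b ha hb
        obtain ⟨qa, rfl⟩ := (Polynomial.mem_lifts _).mp ha
        obtain ⟨qb, rfl⟩ := (Polynomial.mem_lifts _).mp hb
        exact (Polynomial.mem_lifts _).mpr ⟨qa - qb, Polynomial.map_sub _⟩
      rw [hh]
      apply Subsemiring.prod_mem
      intro β hβ
      apply hring _ _ h1
      apply Subsemiring.prod_mem
      intro α hα
      apply hring _ _ h1
      apply mul_mem
      · exact hC _ (hdiff α hα β hβ).2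
      · apply hring _ _ hX
        exact hC _ (memLocalRing_of_memLocalIdeal (hVprop β hβ))
    rw [Polynomial.lifts_iff_coeff_lifts] at hmem
    intro i
    obtain ⟨r, hr⟩ := hmem i
    have : h.coeff i ∈ localReal M := by
      rw [← hr]
      exact r.2
    exact this
  · intro l hl
    by_cases hI : MemLocalIdeal M ((l : ℝ) : ℂ)
    · rw [if_pos hI]
      have hβ0 : l ^ N ∈ V := Finset.mem_image.mpr ⟨l, Finset.mem_filter.mpr ⟨hl, hI⟩, rfl⟩
      rw [hh, Polynomial.eval_prod]
      apply Finset.prod_eq_zero hβ0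
      rw [Polynomial.eval_sub, Polynomial.eval_one, Polynomial.eval_prod]
      rw [Finset.prod_eq_one]
      · ring
      · intro α _
        simp
    · rw [if_neg hI]
      have hα0 : l ^ N ∈ U := Finset.mem_image.mpr ⟨l, Finset.mem_filter.mpr ⟨hl, hI⟩, rfl⟩
      rw [hh, Polynomial.eval_prod]
      apply Finset.prod_eq_one
      intro β hβ
      rw [Polynomial.eval_sub, Polynomial.eval_one, Polynomial.eval_prod]
      rw [Finset.prod_eq_zero hα0]
      · ring
      · have := (hdiff (l ^ N) hα0 β hβ).1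
        simp only [Polynomial.eval_sub, Polynomial.eval_one, Polynomial.eval_mul, Polynomial.eval_C,
          Polynomial.eval_X]
        rw [inv_mul_cancel₀ this, sub_self]

end Cfsg.Agent.Lib.Helper17.FRBPOLY
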