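/-
helper17: S4427 market "FRB", leaf FRB-SPEC (spectral theorem for a `rev`-symmetric element
of the real group algebra).
-/
import Mathlib
import Cfsg.Prelude.Def_Blocks
import Cfsg.Agent.Lib.Helper24.LocalRing
import Cfsg.Agent.Lib.Helper9.FRBDefs

set_option autoImplicit false
set_option linter.unusedSectionVars false

namespace Cfsg.Agent.Lib.Helper17.FRBSPEC

open Cfsg Cfsg.Agent.Lib.Helper9.FRB

variable {G : Type*} [Group G]

theorem coeff_mul_fintype [Fintype G] (x y : MonoidAlgebra ℝ G) (g : G) :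
    (x * y).coeff g = ∑ h : G, x.coeff (g * h⁻¹) * y.coeff h := by
  rw [MonoidAlgebra.coeff_mul_apply_right, Finsupp.sum_fintype]
  intro h; simp

/-- the coordinate isomorphism -/
noncomputable def phi [Fintype G] : MonoidAlgebra ℝ G ≃ₗ[ℝ] EuclideanSpace ℝ G :=
  (MonoidAlgebra.coeffLinearEquiv ℝ).trans
    ((Finsupp.linearEquivFunOnFinite ℝ ℝ G).trans (WithLp.linearEquiv 2 ℝ (G → ℝ)).symm)

theorem phi_apply [Fintype G] (w : MonoidAlgebra ℝ G) (g : G) : phi w g = w.coeff g := by
  simp [phi]

theorem inner_phi [Fintype G] (a b : MonoidAlgebra ℝ G) :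
    inner ℝ (phi a) (phi b) = ∑ g : G, a.coeff g * b.coeff g := by
  rw [PiLp.inner_apply]
  apply Finset.sum_congr rfl
  intro g _
  rw [phi_apply, phi_apply]
  simp [mul_comm]

/-- left multiplication by `x`, transported to Euclidean space -/
noncomputable def opT [Fintype G] (x : MonoidAlgebra ℝ G) :
    EuclideanSpace ℝ G →ₗ[ℝ] EuclideanSpace ℝ G :=
  (phi (G := G)).toLinearMap ∘ₗ (LinearMap.mulLeft ℝ x) ∘ₗ (phi (G := G)).symm.toLinearMap

theorem opT_phi [Fintype G] (x a : MonoidAlgebra ℝ G) : opT x (phi a) = phi (x * a) := by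
  simp [opT]

theorem opT_symm [Fintype G] (x : MonoidAlgebra ℝ G) (hx : rev x = x) :
    (opT x).IsSymmetric := by
  intro u v
  obtain ⟨a, rfl⟩ := phi.surjective u
  obtain ⟨b, rfl⟩ := phi.surjective v
  rw [opT_phi, opT_phi, inner_phi, inner_phi]
  have hxinv : ∀ k : G, x.coeff k⁻¹ = x.coeff k := by
    intro k
    rw [← rev_coeff, hx]
  simp_rw [coeff_mul_fintype, Finset.sum_mul, Finset.mul_sum]
  rw [Finset.sum_comm]
  apply Finset.sum_congr rfl
  intro h _
  apply Finset.sum_congr rfl
  intro g _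
  have : x.coeff (h * g⁻¹) = x.coeff (g * h⁻¹) := by
    rw [← hxinv (h * g⁻¹)]
    congr 1
    group
  rw [this]
  ring

theorem eig_mul (x v : MonoidAlgebra ℝ G) (l : ℝ) (hxv : x * v = l • v) (P : Polynomial ℝ) :
    Polynomial.aeval x P * v = P.eval l • v := by
  induction P using Polynomial.induction_on with
  | C a =>
    rw [Polynomial.aeval_C, Polynomial.eval_C, Algebra.algebraMap_eq_smul_one, smul_mul_assoc, one_mul]
  | add p q hp hq =>
    rw [map_add, add_mul, hp, hq, Polynomial.eval_add, add_smul]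
  | monomial n a ih =>
    rw [pow_succ, ← mul_assoc, map_mul, Polynomial.aeval_X, mul_assoc, hxv, mul_smul_comm, ih,
      smul_smul]
    congr 1
    rw [Polynomial.eval_mul (q := Polynomial.X), Polynomial.eval_X, mul_comm]

theorem spec [Finite G] (x : MonoidAlgebra ℝ G) (hx : rev x = x) :
    ∃ S : Finset ℝ,
      (∀ P₁ P₂ : Polynomial ℝ, (∀ l ∈ S, P₁.eval l = P₂.eval l) →
        Polynomial.aeval x P₁ = Polynomial.aeval x P₂) ∧
      (∀ (l : ℝ) (v : MonoidAlgebra ℝ G), v ≠ 0 → x * v = l • v → l ∈ S) ∧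
      (∀ l ∈ S, ∃ v : MonoidAlgebra ℝ G, v ≠ 0 ∧ x * v = l • v) := by
  classical
  have : Fintype G := Fintype.ofFinite G
  have hT := opT_symm x hx
  set n := Module.finrank ℝ (EuclideanSpace ℝ G) with hn
  have hn' : Module.finrank ℝ (EuclideanSpace ℝ G) = n := rfl
  set b := hT.eigenvectorBasis hn' with hb
  set ev := hT.eigenvalues hn' with hev
  have hTb : ∀ i, opT x (b i) = ev i • b i := fun i => hT.apply_eigenvectorBasis hn' i
  -- eigenvectors in the algebra
  have hvb : ∀ i, x * phi.symm (b i) = ev i • phi.symm (b i) := by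
    intro i
    apply phi.injective
    rw [← opT_phi, LinearEquiv.apply_symm_apply, hTb, map_smul, LinearEquiv.apply_symm_apply]
  have hbne : ∀ i, phi.symm (b i) ≠ 0 := by
    intro i h
    have h0 : b i = 0 := by
      have := congrArg phi h
      rwa [LinearEquiv.apply_symm_apply, map_zero] at this
    exact b.toBasis.ne_zero i (by simpa using h0)
  refine ⟨Finset.univ.image ev, ?_, ?_, ?_⟩
  · intro P₁ P₂ hP
    have hP' : ∀ i, P₁.eval (ev i) = P₂.eval (ev i) := fun i =>
      hP (ev i) (Finset.mem_image_of_mem ev (Finset.mem_univ i))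
    -- both sides agree on all eigenvectors, hence on 1
    have h1 : (1 : MonoidAlgebra ℝ G) = ∑ i, (b.repr (phi 1) i) • phi.symm (b i) := by
      apply phi.injective
      rw [map_sum]
      simp_rw [map_smul, LinearEquiv.apply_symm_apply]
      exact (b.sum_repr (phi 1)).symm
    have key : ∀ P : Polynomial ℝ, Polynomial.aeval x P =
        ∑ i, (b.repr (phi 1) i) • (P.eval (ev i) • phi.symm (b i)) := by
      intro P
      conv_lhs => rw [← mul_one (Polynomial.aeval x P), h1, Finset.mul_sum]
      apply Finset.sum_congr rfl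
      intro i _
      rw [mul_smul_comm, eig_mul x _ _ (hvb i)]
    rw [key P₁, key P₂]
    apply Finset.sum_congr rfl
    intro i _
    rw [hP' i]
  · intro l v hv hxv
    have hTv : opT x (phi v) = l • phi v := by rw [opT_phi, hxv, map_smul]
    have hphiv : phi v ≠ 0 := by
      intro h
      exact hv (phi.injective (by rw [h, map_zero]))
    have hrepr : b.repr (phi v) ≠ 0 := by
      intro h
      exact hphiv (b.repr.injective (by rw [h, map_zero]))
    obtain ⟨i, hi⟩ : ∃ i, b.repr (phi v) i ≠ 0 := by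
      by_contra hcon
      push Not at hcon
      apply hrepr
      ext i
      exact hcon i
    have h1 := hT.eigenvectorBasis_apply_self_apply hn' (phi v) i
    rw [hTv, map_smul] at h1
    have h2 : l * b.repr (phi v) i = ev i * b.repr (phi v) i := by
      simpa using h1
    have h3 : l = ev i := mul_right_cancel₀ hi h2
    rw [h3]
    exact Finset.mem_image_of_mem ev (Finset.mem_univ i)
  · intro l hl
    obtain ⟨i, _, rfl⟩ := Finset.mem_image.mp hl
    exact ⟨phi.symm (b i), hbne i, hvb i⟩

end Cfsg.Agent.Lib.Helper17.FRBSPEC
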