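import Mathlib

/-!
# Galois descent with a normal basis

`descent`: a finite group `G` acting faithfully on a field `L` by ring automorphisms, and
semilinearly on an `L`-vector space `V`.  Then there is `θ : L` such that every `v : V` is
uniquely `∑ g, (g θ) • w g` with all `w g` fixed by `G`.
-/

set_option autoImplicit false

namespace Cfsg.Agent.Lib.Helper17
namespace FreeMod

open scoped BigOperators

section Descent

variable {L : Type*} [Field L] {G : Type*} [Group G] [Fintype G]
variable {V : Type*} [AddCommGroup V] [Module L V]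

/-- normal basis element for a faithful action given by a hom into `RingAut L`. -/
theorem exists_normal_element [DecidableEq G] (act : G →* RingAut L) (hact : Function.Injective act) :
    ∃ θ : L, (Matrix.of fun x g : G => act x (act g θ)).det ≠ 0 ∧
      ∀ c : L, ∃ a : G → L, (∀ g x, act x (a g) = a g) ∧ c = ∑ g, a g * act g θ := by
  classical
  let _ : MulSemiringAction G L := MulSemiringAction.compHom L act
  have hsmul : ∀ (g : G) (a : L), g • a = act g a := fun g a => rfl
  have : FaithfulSMul G L := ⟨fun {g₁ g₂} h => hact (RingEquiv.ext fun a => by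
    have := h a; rwa [hsmul, hsmul] at this)⟩
  obtain ⟨θ, hθ⟩ := exists_linearIndependent_algEquiv_apply (FixedPoints.subfield G L) L
  have hli : LinearIndependent (FixedPoints.subfield G L) (fun g : G => g • θ) :=
    hθ.comp (FixedPoints.toAlgAutMulEquiv G L) (FixedPoints.toAlgAutMulEquiv G L).injective
  have hcard : Fintype.card G = Module.finrank (FixedPoints.subfield G L) L :=
    (FixedPoints.finrank_eq_card G L).symm
  let b : Module.Basis G (FixedPoints.subfield G L) L :=
    basisOfLinearIndependentOfCardEqFinrank hli hcard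
  have hb : ∀ g, b g = g • θ := fun g => by
    simp [b, coe_basisOfLinearIndependentOfCardEqFinrank]
  -- expansion
  have hexp : ∀ c : L, ∃ a : G → L, (∀ g x, act x (a g) = a g) ∧ c = ∑ g, a g * act g θ := by
    intro c
    refine ⟨fun g => ((b.repr c g : FixedPoints.subfield G L) : L), ?_, ?_⟩
    · intro g x
      have := (b.repr c g).2 x
      rwa [hsmul] at this
    · conv_lhs => rw [← b.sum_repr c]
      refine Finset.sum_congr rfl fun g _ => ?_
      rw [hb, hsmul]
      rfl
  refine ⟨θ, ?_, hexp⟩
  -- determinant nonzero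
  intro hdet
  obtain ⟨c, hc0, hc⟩ := Matrix.exists_vecMul_eq_zero_iff.mpr hdet
  apply hc0
  -- Dedekind
  have hded := linearIndependent_monoidHom L L
  have hinj : Function.Injective (fun x : G => ((act x : L ≃+* L) : L →+* L).toMonoidHom) := by
    intro x y hxy
    apply hact
    ext a
    have := congrArg (fun f : L →* L => f a) hxy
    simpa using this
  have hli2 := hded.comp _ hinj
  rw [Fintype.linearIndependent_iff] at hli2
  funext x
  apply hli2 c
  funext a
  obtain ⟨coef, hfix, ha⟩ := hexp a
  simp only [Finset.sum_apply, Pi.smul_apply, smul_eq_mul, Function.comp, Pi.zero_apply]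
  have hcg : ∀ g, ∑ x, c x * act x (act g θ) = 0 := by
    intro g
    have := congrFun hc g
    simpa [Matrix.vecMul, dotProduct] using this
  calc ∑ x, c x * (act x) a
      = ∑ x, c x * ∑ g, coef g * act x (act g θ) := by
        refine Finset.sum_congr rfl fun x _ => ?_
        congr 1
        rw [ha, map_sum]
        refine Finset.sum_congr rfl fun g _ => ?_
        rw [map_mul, hfix]
    _ = ∑ g, coef g * ∑ x, c x * act x (act g θ) := by
        simp_rw [Finset.mul_sum]
        rw [Finset.sum_comm]
        refine Finset.sum_congr rfl fun g _ => Finset.sum_congr rfl fun x _ => ?_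
        ring
    _ = 0 := by simp [hcg]

/-- Galois descent with a normal basis. -/
theorem descent [DecidableEq G] (act : G →* RingAut L) (hact : Function.Injective act)
    (τ : G →* AddMonoid.End V)
    (hτ : ∀ (g : G) (a : L) (v : V), τ g (a • v) = (act g a) • τ g v) :
    ∃ θ : L, θ ≠ 0 ∧
      (∀ w : G → V, (∀ g x, τ x (w g) = w g) → ∑ g, (act g θ) • w g = 0 → ∀ g, w g = 0) ∧
      (∀ v : V, ∃ w : G → V, (∀ g x, τ x (w g) = w g) ∧ v = ∑ g, (act g θ) • w g) := by
  classical
  obtain ⟨θ, hdet, hexp⟩ := exists_normal_element act hact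
  set M : Matrix G G L := Matrix.of fun x g : G => act x (act g θ) with hM
  have hMu : IsUnit M.det := isUnit_iff_ne_zero.mpr hdet
  have hMinv1 : M⁻¹ * M = 1 := Matrix.nonsing_inv_mul M hMu
  have hMinv2 : M * M⁻¹ = 1 := Matrix.mul_nonsing_inv M hMu
  have hθ0 : θ ≠ 0 := by
    rintro rfl
    apply hdet
    have : M = 0 := by
      ext x g; simp [hM]
    rw [this]
    have : Nonempty G := ⟨1⟩
    exact Matrix.det_zero
  have hτsum : ∀ (x : G) (f : G → V), τ x (∑ g, f g) = ∑ g, τ x (f g) := fun x f =>
    map_sum (τ x) f Finset.univ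
  refine ⟨θ, hθ0, ?_, ?_⟩
  · intro w hw hsum g'
    have h1 : ∀ x, ∑ g, M x g • w g = 0 := by
      intro x
      have := congrArg (τ x) hsum
      rw [hτsum, map_zero] at this
      rw [← this]
      refine Finset.sum_congr rfl fun g _ => ?_
      rw [hτ, hw]
      rfl
    calc w g' = ∑ g, (1 : Matrix G G L) g' g • w g := by
          simp [Matrix.one_apply]
      _ = ∑ g, (∑ x, M⁻¹ g' x * M x g) • w g := by
          refine Finset.sum_congr rfl fun g _ => ?_
          rw [← hMinv1]; rfl
      _ = ∑ x, M⁻¹ g' x • ∑ g, M x g • w g := by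
          simp_rw [Finset.sum_smul, Finset.smul_sum, mul_smul]
          rw [Finset.sum_comm]
      _ = 0 := by simp [h1]
  · intro v
    set u : G → V := fun g => ∑ x, τ x ((act g θ) • v) with hu
    have hufix : ∀ g y, τ y (u g) = u g := by
      intro g y
      simp only [hu]
      rw [hτsum]
      refine Fintype.sum_equiv (Equiv.mulLeft y) _ _ fun x => ?_
      simp only [Equiv.coe_mulLeft]
      rw [map_mul]; rfl
    have hu2 : ∀ g, u g = ∑ x, M x g • τ x v := by
      intro g
      simp only [hu]
      refine Finset.sum_congr rfl fun x _ => ?_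
      rw [hτ]; rfl
    have hv : v = ∑ g, M⁻¹ g 1 • u g := by
      symm
      calc ∑ g, M⁻¹ g 1 • u g = ∑ g, M⁻¹ g 1 • ∑ x, M x g • τ x v := by
            simp_rw [hu2]
        _ = ∑ x, (∑ g, M x g * M⁻¹ g 1) • τ x v := by
            simp_rw [Finset.sum_smul, Finset.smul_sum, ← mul_smul]
            rw [Finset.sum_comm]
            refine Finset.sum_congr rfl fun x _ => Finset.sum_congr rfl fun g _ => ?_
            rw [mul_comm]
        _ = ∑ x, (1 : Matrix G G L) x 1 • τ x v := by
            refine Finset.sum_congr rfl fun x _ => ?_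
            rw [← hMinv2]; rfl
        _ = v := by
            simp [Matrix.one_apply]
    choose coef hfix hc using fun g => hexp (M⁻¹ g 1)
    refine ⟨fun g' => ∑ g, coef g g' • u g, ?_, ?_⟩
    · intro g' x
      rw [hτsum]
      refine Finset.sum_congr rfl fun g _ => ?_
      rw [hτ, hfix, hufix]
    · conv_lhs => rw [hv]
      calc ∑ g, M⁻¹ g 1 • u g = ∑ g, (∑ g', coef g g' * act g' θ) • u g := by
            refine Finset.sum_congr rfl fun g _ => ?_
            rw [← hc]
        _ = ∑ g', act g' θ • ∑ g, coef g g' • u g := by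
            simp_rw [Finset.sum_smul, Finset.smul_sum, ← mul_smul]
            rw [Finset.sum_comm]
            refine Finset.sum_congr rfl fun x _ => Finset.sum_congr rfl fun g _ => ?_
            rw [mul_comm]

end Descent

end FreeMod
end Cfsg.Agent.Lib.Helper17
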