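import Mathlib

/-!
# Free generation of a representation by a subspace: bookkeeping lemmas
-/

set_option autoImplicit false

namespace Cfsg.Agent.Lib.Helper17
namespace FreeMod

open scoped BigOperators
open Module

variable {k V : Type*} [Field k] [AddCommGroup V] [Module k V] [FiniteDimensional k V]
variable {H : Type*} [Group H] [Finite H]

/-- `W` freely generates the subspace `M` under the operators `σ h`. -/
def FreeGen (σ : Representation k H V) (M W : Submodule k V) : Prop :=
  (⨆ h, W.map (σ h)) = M ∧ Nat.card H * finrank k W = finrank k M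

omit [FiniteDimensional k V] [Finite H] in
theorem rep_injective (σ : Representation k H V) (h : H) : Function.Injective (σ h) := by
  intro a b hab
  have := congrArg (σ h⁻¹) hab
  simpa [← Module.End.mul_apply, ← map_mul] using this

omit [FiniteDimensional k V] [Finite H] in
theorem finrank_map_rep (σ : Representation k H V) (h : H) (W : Submodule k V) :
    finrank k (W.map (σ h)) = finrank k W :=
  (LinearEquiv.finrank_eq (Submodule.equivMapOfInjective (σ h) (rep_injective σ h) W)).symm

omit [FiniteDimensional k V] [Finite H] in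
theorem map_map_rep (σ : Representation k H V) (a b : H) (W : Submodule k V) :
    (W.map (σ b)).map (σ a) = W.map (σ (a * b)) := by
  rw [← Submodule.map_comp, map_mul]; rfl

/-- finrank of a supremum of submodules with separating operators. -/
theorem finrank_iSup_of_sep {ι : Type*} [Fintype ι] [DecidableEq ι] (N : ι → Submodule k V)
    (e : ι → Module.End k V) (h1 : ∀ i, ∀ v ∈ N i, e i v = v)
    (h0 : ∀ i j, i ≠ j → ∀ v ∈ N j, e i v = 0) :
    finrank k ↥(⨆ i, N i) = ∑ i, finrank k (N i) := by
  classical
  let Φ : (∀ i, N i) →ₗ[k] V := ∑ i, (N i).subtype ∘ₗ LinearMap.proj i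
  have hΦ : ∀ w, Φ w = ∑ i, (w i : V) := by
    intro w; simp [Φ, LinearMap.sum_apply]
  have hinj : Function.Injective Φ := by
    rw [← LinearMap.ker_eq_bot, LinearMap.ker_eq_bot']
    intro w hw
    funext i
    have := congrArg (e i) hw
    rw [hΦ, map_sum, map_zero, Finset.sum_eq_single i] at this
    · rw [h1 i _ (w i).2] at this
      exact Subtype.ext this
    · intro j _ hji
      exact h0 i j (Ne.symm hji) _ (w j).2
    · intro h; exact absurd (Finset.mem_univ i) h
  have hrange : LinearMap.range Φ = ⨆ i, N i := by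
    apply le_antisymm
    · rintro _ ⟨w, rfl⟩
      rw [hΦ]
      exact Submodule.sum_mem _ fun i _ => Submodule.mem_iSup_of_mem i (w i).2
    · apply iSup_le
      intro i v hv
      refine ⟨Pi.single i ⟨v, hv⟩, ?_⟩
      rw [hΦ, Finset.sum_eq_single i]
      · simp
      · intro j _ hji
        simp [Pi.single_eq_of_ne hji]
      · intro h; exact absurd (Finset.mem_univ i) h
  rw [← hrange, LinearMap.finrank_range_of_inj hinj, Module.finrank_pi_fintype]

omit [FiniteDimensional k V] in
theorem FreeGen.le {σ : Representation k H V} {M W : Submodule k V} (h : FreeGen σ M W) :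
    W ≤ M := by
  rw [← h.1]
  refine le_trans ?_ (le_iSup _ (1 : H))
  rw [map_one]
  intro v hv
  exact ⟨v, hv, rfl⟩

/-- internal direct sum from free generation of the whole space. -/
theorem FreeGen.isInternal [DecidableEq H] {σ : Representation k H V} {W : Submodule k V}
    (h : FreeGen σ ⊤ W) : DirectSum.IsInternal (fun g : H => W.map (σ g)) := by
  classical
  cases nonempty_fintype H
  show Function.Bijective (DirectSum.coeLinearMap fun g : H => W.map (σ g))
  have hsurj : Function.Surjective (DirectSum.coeLinearMap fun g : H => W.map (σ g)) := by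
    rw [← LinearMap.range_eq_top, DirectSum.range_coeLinearMap, h.1]
  have hfr : finrank k (DirectSum H fun g : H => ↥(W.map (σ g))) = finrank k V := by
    rw [Module.finrank_directSum]
    simp_rw [finrank_map_rep]
    rw [Finset.sum_const, Finset.card_univ, smul_eq_mul, ← Nat.card_eq_fintype_card, h.2]
    exact finrank_top k V
  exact ⟨(LinearMap.injective_iff_surjective_of_finrank_eq_finrank hfr).mpr hsurj, hsurj⟩

omit [FiniteDimensional k V] in
/-- induced principle. -/
theorem FreeGen.induced {σ : Representation k H V} (H₁ : Subgroup H) {M₁ M W : Submodule k V}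
    (h1 : FreeGen (σ.comp H₁.subtype) M₁ W) (h2 : (⨆ h, M₁.map (σ h)) = M)
    (h3 : finrank k M = H₁.index * finrank k M₁) : FreeGen σ M W := by
  constructor
  · apply le_antisymm
    · apply iSup_le
      intro h
      rw [← h2]
      exact le_trans (Submodule.map_mono h1.le) (le_iSup (fun h => M₁.map (σ h)) h)
    · rw [← h2]
      apply iSup_le
      intro h
      rw [← h1.1, Submodule.map_iSup]
      apply iSup_le
      intro h₁
      have : (W.map ((σ.comp H₁.subtype) h₁)).map (σ h) = W.map (σ (h * h₁)) :=
        map_map_rep σ h h₁ W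
      rw [this]
      exact le_iSup (fun h => W.map (σ h)) (h * h₁)
  · rw [h3, ← h1.2, ← mul_assoc, Subgroup.index_mul_card]

/-- extension principle. -/
theorem FreeGen.extension (σ : Representation k H V) (M : Submodule k V)
    (hM : ∀ h, M ≤ M.comap (σ h)) {W₁ : Submodule k V} (h1 : FreeGen σ M W₁)
    {W₂ : Submodule k (V ⧸ M)} (h2 : FreeGen (σ.quotient M hM) ⊤ W₂) :
    ∃ W, FreeGen σ ⊤ W := by
  obtain ⟨s, hs⟩ := LinearMap.exists_rightInverse_of_surjective M.mkQ (Submodule.range_mkQ M)
  have hs' : ∀ q, M.mkQ (s q) = q := fun q => LinearMap.congr_fun hs q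
  have hsinj : Function.Injective s := fun a b hab => by
    rw [← hs' a, ← hs' b, hab]
  set W₂' := W₂.map s with hW₂'
  have hdisj : W₁ ⊓ W₂' = ⊥ := by
    rw [eq_bot_iff]
    rintro v ⟨hv1, q, hq, rfl⟩
    have : M.mkQ (s q) = 0 := (Submodule.Quotient.mk_eq_zero M).mpr (h1.le hv1)
    rw [hs'] at this
    simp [this]
  refine ⟨W₁ ⊔ W₂', ?_, ?_⟩
  · -- spanning
    set N := ⨆ h, (W₁ ⊔ W₂').map (σ h) with hN
    have hMN : M ≤ N := by
      rw [← h1.1]
      apply iSup_le
      intro h
      exact le_trans (Submodule.map_mono le_sup_left) (le_iSup (fun h => (W₁ ⊔ W₂').map (σ h)) h)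
    have hQ : N.map M.mkQ = ⊤ := by
      rw [eq_top_iff, ← h2.1]
      apply iSup_le
      intro h
      rintro _ ⟨q, hq, rfl⟩
      refine ⟨σ h (s q), ?_, ?_⟩
      · apply Submodule.mem_iSup_of_mem h
        exact ⟨s q, Submodule.mem_sup_right ⟨q, hq, rfl⟩, rfl⟩
      · have : (σ.quotient M hM) h (M.mkQ (s q)) = M.mkQ (σ h (s q)) := by
          simp [Representation.quotient]
        rw [← this, hs']
    rw [Submodule.map_mkQ_eq_top] at hQ
    rw [← hQ]
    exact (sup_eq_right.mpr hMN).symm
  · have hfr : finrank k ↥(W₁ ⊔ W₂') = finrank k W₁ + finrank k W₂ := by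
      have := Submodule.finrank_sup_add_finrank_inf_eq W₁ W₂'
      rw [hdisj, finrank_bot, add_zero] at this
      rw [this, hW₂', (LinearEquiv.finrank_eq (Submodule.equivMapOfInjective s hsinj W₂)).symm]
    rw [hfr, mul_add, h1.2, h2.2, finrank_top, finrank_top, add_comm]
    exact Submodule.finrank_quotient_add_finrank M

end FreeMod
end Cfsg.Agent.Lib.Helper17
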