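import Mathlib

/-!
# Components of a space under a commuting family of operators
-/

set_option autoImplicit false

namespace Cfsg.Agent.Lib.Helper17
namespace FreeMod

open scoped BigOperators
open Module

variable {k V : Type*} [Field k] [AddCommGroup V] [Module k V]
variable {Z : Type*} [Group Z]
variable (ρ : Representation k Z V)

/-- the operator algebra generated by the `ρ z`. -/
def opAlg : Subalgebra k (Module.End k V) := Algebra.adjoin k (Set.range ρ)

theorem rho_mem (z : Z) : ρ z ∈ opAlg ρ := Algebra.subset_adjoin ⟨z, rfl⟩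

/-- endomorphisms preserving a subspace. -/
def stabAlg (N : Submodule k V) : Subalgebra k (Module.End k V) where
  carrier := {f | ∀ v ∈ N, f v ∈ N}
  mul_mem' := fun {f g} hf hg v hv => hf _ (hg v hv)
  one_mem' := fun v hv => hv
  add_mem' := fun {f g} hf hg v hv => N.add_mem (hf v hv) (hg v hv)
  zero_mem' := fun v _ => N.zero_mem
  algebraMap_mem' := fun c v hv => by
    show (algebraMap k (Module.End k V) c) v ∈ N
    rw [Module.algebraMap_end_apply]
    exact N.smul_mem c hv

theorem opAlg_comm (hc : ∀ z z', Commute (ρ z) (ρ z')) :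
    ∀ a ∈ opAlg ρ, ∀ b ∈ opAlg ρ, a * b = b * a := by
  have h1 : opAlg ρ ≤ Subalgebra.centralizer k (Set.range ρ) := by
    apply Algebra.adjoin_le
    rintro _ ⟨z, rfl⟩
    rw [SetLike.mem_coe, Subalgebra.mem_centralizer_iff]
    rintro _ ⟨z', rfl⟩
    exact (hc z' z).eq
  have h2 : opAlg ρ ≤ Subalgebra.centralizer k (opAlg ρ : Set (Module.End k V)) := by
    apply Algebra.adjoin_le
    rintro _ ⟨z, rfl⟩
    rw [SetLike.mem_coe, Subalgebra.mem_centralizer_iff]
    intro g hg
    have := h1 hg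
    rw [Subalgebra.mem_centralizer_iff] at this
    exact (this (ρ z) ⟨z, rfl⟩).symm
  intro a ha b hb
  have := h2 ha
  rw [Subalgebra.mem_centralizer_iff] at this
  exact (this b hb).symm

/-- `ρ`-invariant subspaces. -/
def ZInv (N : Submodule k V) : Prop := ∀ z, ∀ v ∈ N, ρ z v ∈ N

variable {ρ}

theorem ZInv.opAlg {N : Submodule k V} (hN : ZInv ρ N) : ∀ r ∈ opAlg ρ, ∀ v ∈ N, r v ∈ N := by
  have : FreeMod.opAlg ρ ≤ stabAlg N := by
    apply Algebra.adjoin_le
    rintro _ ⟨z, rfl⟩
    exact hN z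
  intro r hr
  exact this hr

variable (ρ)

/-- `r` kills `U`. -/
def Kills (r : Module.End k V) (U : Submodule k V) : Prop := ∀ u ∈ U, r u = 0

/-- the component of `U`: vectors killed by everything in the operator algebra killing `U`. -/
def comp (U : Submodule k V) : Submodule k V where
  carrier := {v | ∀ r ∈ opAlg ρ, Kills r U → r v = 0}
  add_mem' := fun {a b} ha hb r hr hk => by rw [map_add, ha r hr hk, hb r hr hk, add_zero]
  zero_mem' := fun r _ _ => map_zero r
  smul_mem' := fun c v hv r hr hk => by rw [map_smul, hv r hr hk, smul_zero]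

theorem mem_comp {U : Submodule k V} {v : V} :
    v ∈ comp ρ U ↔ ∀ r ∈ opAlg ρ, Kills r U → r v = 0 := Iff.rfl

theorem le_comp (U : Submodule k V) : U ≤ comp ρ U := fun u hu _ _ hk => hk u hu

theorem comp_zinv (hc : ∀ z z', Commute (ρ z) (ρ z')) (U : Submodule k V) :
    ∀ a ∈ opAlg ρ, ∀ v ∈ comp ρ U, a v ∈ comp ρ U := by
  intro a ha v hv r hr hk
  have h := opAlg_comm ρ hc r hr a ha
  calc r (a v) = (r * a) v := rfl
    _ = (a * r) v := by rw [h]
    _ = a (r v) := rfl
    _ = 0 := by rw [hv r hr hk, map_zero]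

/-- simple invariant subspaces. -/
structure Simp (U : Submodule k V) : Prop where
  ne_bot : U ≠ ⊥
  inv : ZInv ρ U
  min : ∀ U' : Submodule k V, U' ≤ U → ZInv ρ U' → U' = ⊥ ∨ U' = U

theorem exists_simp [FiniteDimensional k V] {N : Submodule k V} (hN : N ≠ ⊥) (hNi : ZInv ρ N) :
    ∃ U, U ≤ N ∧ Simp ρ U := by
  let S : Set (Submodule k V) := {U | U ≠ ⊥ ∧ U ≤ N ∧ ZInv ρ U}
  have hne : S.Nonempty := ⟨N, hN, le_refl _, hNi⟩
  obtain ⟨U, hU, hmin⟩ := (wellFounded_lt (α := Submodule k V)).has_min S hne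
  refine ⟨U, hU.2.1, hU.1, hU.2.2, fun U' hle hi => ?_⟩
  by_cases h0 : U' = ⊥
  · exact Or.inl h0
  · right
    by_contra hne'
    exact hmin U' ⟨h0, le_trans hle hU.2.1, hi⟩ (lt_of_le_of_ne hle hne')

variable {ρ}

theorem exists_inv [FiniteDimensional k V] (hc : ∀ z z', Commute (ρ z) (ρ z'))
    {U : Submodule k V} (hU : Simp ρ U) {r : Module.End k V} (hr : r ∈ opAlg ρ)
    (hk : ¬ Kills r U) :
    ∃ s ∈ opAlg ρ, ∀ v ∈ comp ρ U, s (r v) = v ∧ r (s v) = v := by
  have hRinv := hU.inv.opAlg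
  have hinj : ∀ u ∈ U, r u = 0 → u = 0 := by
    have hU' : ZInv ρ (U ⊓ LinearMap.ker r) := fun z v hv => ⟨hU.inv z v hv.1, by
      have hv2 : r v = 0 := hv.2
      show r (ρ z v) = 0
      have := opAlg_comm ρ hc r hr (ρ z) (rho_mem ρ z)
      calc r (ρ z v) = (r * ρ z) v := rfl
        _ = (ρ z * r) v := by rw [this]
        _ = ρ z (r v) := rfl
        _ = 0 := by rw [hv2, map_zero]⟩
    rcases hU.min _ inf_le_left hU' with h | h
    · intro u hu hru
      have : u ∈ U ⊓ LinearMap.ker r := ⟨hu, hru⟩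
      rw [h] at this
      exact (Submodule.mem_bot k).mp this
    · exfalso
      apply hk
      intro u hu
      have : u ∈ U ⊓ LinearMap.ker r := by rw [h]; exact hu
      exact this.2
  let E : ↥(opAlg ρ) →ₗ[k] (↥U →ₗ[k] V) :=
    { toFun := fun a => a.1 ∘ₗ U.subtype
      map_add' := fun a b => by ext u; simp
      map_smul' := fun c a => by ext u; simp }
  let T : ↥(opAlg ρ) →ₗ[k] (↥U →ₗ[k] V) :=
    { toFun := fun a => (r * a.1) ∘ₗ U.subtype
      map_add' := fun a b => by ext u; simp [mul_add]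
      map_smul' := fun c a => by ext u; simp }
  have hker : LinearMap.ker T = LinearMap.ker E := by
    ext a
    simp only [LinearMap.mem_ker]
    constructor
    · intro h
      ext u
      have h1 : r (a.1 u) = 0 := by
        have := LinearMap.congr_fun h u
        simpa [T] using this
      have := hinj _ (hRinv a.1 a.2 u u.2) h1
      simpa [E] using this
    · intro h
      ext u
      have h1 : a.1 u = 0 := by
        have := LinearMap.congr_fun h u
        simpa [E] using this
      simp [T, h1]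
  have hrange : LinearMap.range T ≤ LinearMap.range E := by
    rintro _ ⟨a, rfl⟩
    exact ⟨⟨r * a.1, (opAlg ρ).mul_mem hr a.2⟩, rfl⟩
  have heq : LinearMap.range T = LinearMap.range E := by
    apply Submodule.eq_of_le_of_finrank_eq hrange
    have h1 := LinearMap.finrank_range_add_finrank_ker T
    have h2 := LinearMap.finrank_range_add_finrank_ker E
    rw [hker] at h1
    omega
  have h1mem : E 1 ∈ LinearMap.range T := heq ▸ ⟨1, rfl⟩
  obtain ⟨s, hs⟩ := h1mem
  have hsu : ∀ u ∈ U, r (s.1 u) = u := by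
    intro u hu
    have := LinearMap.congr_fun hs ⟨u, hu⟩
    simpa [T, E] using this
  have hkill : Kills (r * s.1 - 1) U := by
    intro u hu
    simp [hsu u hu]
  have hmem : r * s.1 - 1 ∈ opAlg ρ :=
    (opAlg ρ).sub_mem ((opAlg ρ).mul_mem hr s.2) (opAlg ρ).one_mem
  refine ⟨s.1, s.2, fun v hv => ?_⟩
  have h1 : r (s.1 v) = v := by
    have := hv _ hmem hkill
    simpa [sub_eq_zero] using this
  refine ⟨?_, h1⟩
  have := opAlg_comm ρ hc r hr s.1 s.2
  calc s.1 (r v) = (s.1 * r) v := rfl
    _ = (r * s.1) v := by rw [this]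
    _ = v := h1

theorem comp_eq_of_le [FiniteDimensional k V] (hc : ∀ z z', Commute (ρ z) (ρ z'))
    {U U' : Submodule k V} (hU : Simp ρ U) (hU' : Simp ρ U') (hle : U' ≤ comp ρ U) :
    comp ρ U' = comp ρ U := by
  have hiff : ∀ r ∈ opAlg ρ, Kills r U ↔ Kills r U' := by
    intro r hr
    constructor
    · intro hk u hu
      exact hle hu r hr hk
    · intro hk
      by_contra hnk
      obtain ⟨s, hs, hsr⟩ := exists_inv hc hU hr hnk
      apply hU'.ne_bot
      rw [eq_bot_iff]
      intro u hu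
      have := (hsr u (hle hu)).1
      rw [hk u hu, map_zero] at this
      rw [← this]
      exact Submodule.zero_mem _
  ext v
  simp only [mem_comp]
  constructor
  · intro h r hr hk
    exact h r hr ((hiff r hr).mp hk)
  · intro h r hr hk
    exact h r hr ((hiff r hr).mpr hk)

theorem exists_kills_of_comp_ne [FiniteDimensional k V] (hc : ∀ z z', Commute (ρ z) (ρ z'))
    {U U' : Submodule k V} (hU : Simp ρ U) (hU' : Simp ρ U') (hne : comp ρ U' ≠ comp ρ U) :
    ∃ r ∈ opAlg ρ, Kills r U' ∧ ¬ Kills r U := by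
  by_contra hcon
  push Not at hcon
  apply hne
  apply (comp_eq_of_le hc hU' hU _).symm
  intro u hu r hr hk
  exact hcon r hr hk u hu

/-- separating element. -/
theorem exists_sep [FiniteDimensional k V] (hc : ∀ z z', Commute (ρ z) (ρ z'))
    {U₀ : Submodule k V} (hU₀ : Simp ρ U₀) (S : Finset (Submodule k V))
    (hS : ∀ U ∈ S, Simp ρ U ∧ comp ρ U ≠ comp ρ U₀) :
    ∃ e ∈ opAlg ρ, (∀ v ∈ comp ρ U₀, e v = v) ∧ ∀ U ∈ S, ∀ v ∈ comp ρ U, e v = 0 := by
  classical
  induction S using Finset.induction_on with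
  | empty => exact ⟨1, (opAlg ρ).one_mem, fun v _ => rfl, fun U hU => absurd hU (Finset.notMem_empty U)⟩
  | insert U S hUS ih =>
    obtain ⟨e', he', h1, h0⟩ := ih fun U' hU' => hS U' (Finset.mem_insert_of_mem hU')
    obtain ⟨hUs, hUne⟩ := hS U (Finset.mem_insert_self U S)
    obtain ⟨r, hr, hkU, hnk⟩ := exists_kills_of_comp_ne hc hU₀ hUs hUne
    obtain ⟨s, hs, hsr⟩ := exists_inv hc hU₀ hr hnk
    refine ⟨e' * (s * r), (opAlg ρ).mul_mem he' ((opAlg ρ).mul_mem hs hr), ?_, ?_⟩
    · intro v hv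
      show e' (s (r v)) = v
      rw [(hsr v hv).1, h1 v hv]
    · intro U' hU' v hv
      rcases Finset.mem_insert.mp hU' with rfl | hU'
      · show e' (s (r v)) = 0
        rw [hv r hr hkU, map_zero, map_zero]
      · have hcomm := opAlg_comm ρ hc e' he' (s * r) ((opAlg ρ).mul_mem hs hr)
        rw [hcomm]
        show (s * r) (e' v) = 0
        rw [h0 U' hU' v hv, map_zero]

end FreeMod
end Cfsg.Agent.Lib.Helper17
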