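import Cfsg.Agent.Lib.Helper17.FreeMod1
import Cfsg.Agent.Lib.Helper17.FreeMod2
import Cfsg.Agent.Lib.Helper17.FreeMod3

/-!
# Free modules from Galois descent: the single-component case
-/

set_option autoImplicit false

namespace Cfsg.Agent.Lib.Helper17
namespace FreeMod

open scoped BigOperators
open Module

section FixedQuot

/-- a fixed-point-free automorphism stays fixed-point-free modulo an invariant subgroup. -/
theorem mem_of_comm_mem {Z : Type*} [Group Z] [Finite Z] (α : MulAut Z)
    (hα : ∀ z, α z = z → z = 1) (K : Subgroup Z) (hK : ∀ z ∈ K, α z ∈ K) {z : Z}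
    (hz : z⁻¹ * α z ∈ K) : z ∈ K := by
  let f : K → K := fun x => ⟨x.1⁻¹ * α x.1, K.mul_mem (K.inv_mem x.2) (hK x.1 x.2)⟩
  have key : ∀ a b : Z, a⁻¹ * α a = b⁻¹ * α b → a = b := by
    intro a b h
    have h1 : α (b * a⁻¹) = b * a⁻¹ := by
      rw [map_mul, map_inv]
      have : α b = b * (a⁻¹ * α a) := by rw [h]; group
      rw [this]; group
    have := hα _ h1
    rw [mul_inv_eq_one] at this
    exact this.symm
  have hinj : Function.Injective f := by
    intro a b hab
    have := congrArg Subtype.val hab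
    exact Subtype.ext (key _ _ this)
  have hsurj := Finite.injective_iff_surjective.mp hinj
  obtain ⟨x, hx⟩ := hsurj ⟨z⁻¹ * α z, hz⟩
  have := congrArg Subtype.val hx
  have hxz := key _ _ this
  rw [← hxz]
  exact x.2

end FixedQuot

section Single

variable {k V : Type*} [Field k] [AddCommGroup V] [Module k V] [FiniteDimensional k V]
variable {G : Type*} [Group G] [Finite G]

omit [FiniteDimensional k V] [Finite G] in
theorem rep_inv_apply (σ : Representation k G V) (g : G) (v : V) : σ g⁻¹ (σ g v) = v := by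
  rw [← Module.End.mul_apply, ← map_mul, inv_mul_cancel, map_one]; rfl

omit [FiniteDimensional k V] [Finite G] in
theorem rep_apply_inv (σ : Representation k G V) (g : G) (v : V) : σ g (σ g⁻¹ v) = v := by
  rw [← Module.End.mul_apply, ← map_mul, mul_inv_cancel, map_one]; rfl

/-- field-like operator algebra normalized faithfully by a group: free module. -/
theorem single_free (R : Subalgebra k (Module.End k V))
    (hRc : ∀ a ∈ R, ∀ b ∈ R, a * b = b * a)
    (hRi : ∀ a ∈ R, a ≠ 0 → ∃ b ∈ R, a * b = 1)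
    (σ : Representation k G V) (hσ : ∀ g, ∀ a ∈ R, σ g * a * σ g⁻¹ ∈ R)
    (hf : ∀ g, g ≠ 1 → ∃ a ∈ R, σ g * a * σ g⁻¹ ≠ a) :
    ∃ W, FreeGen σ ⊤ W := by
  classical
  cases nonempty_fintype G
  by_cases hV : Subsingleton V
  · refine ⟨⊥, ?_, ?_⟩
    · exact Subsingleton.elim _ _
    · have : finrank k (⊤ : Submodule k V) = 0 := by
        rw [finrank_top]; exact Module.finrank_zero_of_subsingleton
      rw [this, finrank_bot, mul_zero]
  rw [not_subsingleton_iff_nontrivial] at hV
  have h01 : (0 : Module.End k V) ≠ 1 := by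
    intro h
    obtain ⟨v, hv⟩ := exists_ne (0 : V)
    apply hv
    have := LinearMap.congr_fun h v
    simpa using this.symm
  let _ : Field ↥R := IsField.toField
    { exists_pair_ne := ⟨0, 1, fun h => h01 (congrArg Subtype.val h)⟩
      mul_comm := fun x y => Subtype.ext (hRc x.1 x.2 y.1 y.2)
      mul_inv_cancel := fun {x} hx => by
        obtain ⟨y, hy, hxy⟩ := hRi x.1 x.2 (fun h => hx (Subtype.ext h))
        exact ⟨⟨y, hy⟩, Subtype.ext hxy⟩ }
  -- the action on R
  have hmm : ∀ g : G, σ g⁻¹ * σ g = 1 := fun g => by rw [← map_mul, inv_mul_cancel, map_one]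
  have hmm' : ∀ g : G, σ g * σ g⁻¹ = 1 := fun g => by rw [← map_mul, mul_inv_cancel, map_one]
  let cj : G → ↥R → ↥R := fun g a => ⟨σ g * a.1 * σ g⁻¹, hσ g a.1 a.2⟩
  have hcj_mul : ∀ g a b, cj g (a * b) = cj g a * cj g b := by
    intro g a b
    apply Subtype.ext
    show σ g * (a.1 * b.1) * σ g⁻¹ = (σ g * a.1 * σ g⁻¹) * (σ g * b.1 * σ g⁻¹)
    calc σ g * (a.1 * b.1) * σ g⁻¹ = σ g * a.1 * 1 * b.1 * σ g⁻¹ := by simp [mul_assoc]
      _ = (σ g * a.1 * σ g⁻¹) * (σ g * b.1 * σ g⁻¹) := by rw [← hmm g]; simp [mul_assoc]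
  have hcj_add : ∀ g a b, cj g (a + b) = cj g a + cj g b := by
    intro g a b
    apply Subtype.ext
    show σ g * (a.1 + b.1) * σ g⁻¹ = (σ g * a.1 * σ g⁻¹) + (σ g * b.1 * σ g⁻¹)
    rw [mul_add, add_mul]
  have hcj_cj : ∀ g h a, cj g (cj h a) = cj (g * h) a := by
    intro g h a
    apply Subtype.ext
    show σ g * (σ h * a.1 * σ h⁻¹) * σ g⁻¹ = σ (g * h) * a.1 * σ (g * h)⁻¹
    rw [mul_inv_rev, map_mul, map_mul]
    simp [mul_assoc]
  have hcj_one : ∀ a, cj 1 a = a := by
    intro a
    apply Subtype.ext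
    show σ 1 * a.1 * σ 1⁻¹ = a.1
    simp
  let act : G →* RingAut ↥R :=
    { toFun := fun g =>
        { toFun := cj g
          invFun := cj g⁻¹
          left_inv := fun a => by rw [hcj_cj, inv_mul_cancel, hcj_one]
          right_inv := fun a => by rw [hcj_cj, mul_inv_cancel, hcj_one]
          map_mul' := hcj_mul g
          map_add' := hcj_add g }
      map_one' := by
        apply RingEquiv.ext
        intro a
        exact hcj_one a
      map_mul' := fun g h => by
        apply RingEquiv.ext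
        intro a
        exact (hcj_cj g h a).symm }
  have hact_apply : ∀ g a, ((act g) a : ↥R).1 = σ g * a.1 * σ g⁻¹ := fun g a => rfl
  have hact : Function.Injective act := by
    rw [injective_iff_map_eq_one]
    intro g hg
    by_contra hg1
    obtain ⟨a, ha, hne⟩ := hf g hg1
    apply hne
    have := congrArg (fun e : RingAut ↥R => (e ⟨a, ha⟩).1) hg
    simpa [hact_apply] using this
  have hsmul : ∀ (a : ↥R) (v : V), a • v = a.1 v := fun a v => rfl
  let τ : G →* AddMonoid.End V :=
    { toFun := fun g => (σ g).toAddMonoidHom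
      map_one' := by
        ext v
        show (σ 1) v = v
        rw [map_one]; rfl
      map_mul' := fun g h => by
        ext v
        show (σ (g * h)) v = σ g (σ h v)
        rw [map_mul]; rfl }
  have hτ_apply : ∀ g v, τ g v = σ g v := fun g v => rfl
  have hτ : ∀ (g : G) (a : ↥R) (v : V), τ g (a • v) = (act g a) • τ g v := by
    intro g a v
    rw [hτ_apply, hτ_apply, hsmul, hsmul, hact_apply]
    show σ g (a.1 v) = σ g (a.1 (σ g⁻¹ (σ g v)))
    rw [rep_inv_apply]
  obtain ⟨θ, hθ0, huniq, hex⟩ := descent act hact τ hτ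
  -- fixed vectors
  let V₀ : Submodule k V :=
    { carrier := {v | ∀ g, σ g v = v}
      add_mem' := fun {a b} ha hb g => by rw [map_add, ha g, hb g]
      zero_mem' := fun g => map_zero _
      smul_mem' := fun c v hv g => by rw [map_smul, hv g] }
  have hθinj : Function.Injective θ.1 := by
    obtain ⟨b, hb, hθb⟩ := hRi θ.1 θ.2 (fun h => hθ0 (Subtype.ext h))
    have hbθ : b * θ.1 = 1 := by rw [← hRc θ.1 θ.2 b hb]; exact hθb
    intro x y hxy
    have := congrArg b hxy
    rw [← Module.End.mul_apply, ← Module.End.mul_apply, hbθ] at this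
    exact this
  have hterm : ∀ (g : G) (w : V), (∀ x, σ x w = w) → (act g θ) • w = σ g (θ.1 w) := by
    intro g w hw
    rw [hsmul, hact_apply]
    show σ g (θ.1 (σ g⁻¹ w)) = σ g (θ.1 w)
    rw [hw]
  refine ⟨V₀.map θ.1, ?_, ?_⟩
  · rw [eq_top_iff]
    intro v _
    obtain ⟨w, hw, hv⟩ := hex v
    rw [hv]
    refine Submodule.sum_mem _ fun g _ => ?_
    rw [hterm g (w g) (fun x => hw g x)]
    exact Submodule.mem_iSup_of_mem g ⟨θ.1 (w g), ⟨w g, fun x => hw g x, rfl⟩, rfl⟩
  · -- dimension count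
    let Ψ : (G → ↥V₀) →ₗ[k] V := ∑ g, (σ g ∘ₗ θ.1 ∘ₗ V₀.subtype) ∘ₗ LinearMap.proj g
    have hΨ : ∀ w, Ψ w = ∑ g, σ g (θ.1 (w g).1) := by
      intro w; simp [Ψ, LinearMap.sum_apply]
    have hΨ' : ∀ w : G → ↥V₀, Ψ w = ∑ g, (act g θ) • (w g).1 := by
      intro w
      rw [hΨ]
      refine Finset.sum_congr rfl fun g _ => ?_
      rw [hterm g _ (w g).2]
    have hinj : Function.Injective Ψ := by
      rw [← LinearMap.ker_eq_bot, LinearMap.ker_eq_bot']
      intro w hw
      rw [hΨ'] at hw
      have := huniq (fun g => (w g).1) (fun g x => (w g).2 x) hw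
      funext g
      exact Subtype.ext (this g)
    have hsurj : Function.Surjective Ψ := by
      intro v
      obtain ⟨w, hw, hv⟩ := hex v
      refine ⟨fun g => ⟨w g, fun x => hw g x⟩, ?_⟩
      rw [hΨ', hv]
    have e := LinearEquiv.ofBijective Ψ ⟨hinj, hsurj⟩
    have h1 : finrank k (G → ↥V₀) = finrank k V := LinearEquiv.finrank_eq e
    rw [Module.finrank_pi_fintype, Finset.sum_const, Finset.card_univ, smul_eq_mul] at h1
    rw [finrank_top, ← h1, Nat.card_eq_fintype_card]
    congr 1
    exact (LinearEquiv.finrank_eq (Submodule.equivMapOfInjective θ.1 hθinj V₀)).symm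

end Single

end FreeMod
end Cfsg.Agent.Lib.Helper17
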