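import Cfsg.Agent.Lib.Helper17.FreeMod4

/-!
# Frobenius-type actions: the abelian core
-/

set_option autoImplicit false

namespace Cfsg.Agent.Lib.Helper17
namespace FreeMod

open scoped BigOperators
open Module

variable {k V : Type*} [Field k] [AddCommGroup V] [Module k V]
variable {Z H : Type*} [Group Z] [Group H]

/-- compatibility data: `H` normalizes the commuting operators `ρ z`. -/
structure Compat (ρ : Representation k Z V) (σ : Representation k H V) (φ : H →* MulAut Z) :
    Prop where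
  compat : ∀ h z, σ h * ρ z = ρ (φ h z) * σ h
  comm : ∀ z z', Commute (ρ z) (ρ z')

variable {ρ : Representation k Z V} {σ : Representation k H V} {φ : H →* MulAut Z}

theorem Compat.conj_rho (hC : Compat ρ σ φ) (h : H) (z : Z) :
    σ h * ρ z * σ h⁻¹ = ρ (φ h z) := by
  rw [hC.compat, mul_assoc, ← map_mul, mul_inv_cancel, map_one, mul_one]

/-- the subalgebra of operators whose conjugate lies in `R`. -/
def conjAlg (σ : Representation k H V) (h : H) (R : Subalgebra k (Module.End k V)) :
    Subalgebra k (Module.End k V) where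
  carrier := {r | σ h * r * σ h⁻¹ ∈ R}
  mul_mem' := fun {a b} ha hb => by
    have : σ h * (a * b) * σ h⁻¹ = (σ h * a * σ h⁻¹) * (σ h * b * σ h⁻¹) := by
      have hmm : σ h⁻¹ * σ h = 1 := by rw [← map_mul, inv_mul_cancel, map_one]
      calc σ h * (a * b) * σ h⁻¹ = σ h * a * 1 * b * σ h⁻¹ := by simp [mul_assoc]
        _ = (σ h * a * σ h⁻¹) * (σ h * b * σ h⁻¹) := by rw [← hmm]; simp [mul_assoc]
    show σ h * (a * b) * σ h⁻¹ ∈ R
    rw [this]
    exact R.mul_mem ha hb
  one_mem' := by
    show σ h * 1 * σ h⁻¹ ∈ R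
    rw [mul_one, ← map_mul, mul_inv_cancel, map_one]
    exact R.one_mem
  add_mem' := fun {a b} ha hb => by
    show σ h * (a + b) * σ h⁻¹ ∈ R
    rw [mul_add, add_mul]
    exact R.add_mem ha hb
  zero_mem' := by
    show σ h * 0 * σ h⁻¹ ∈ R
    simp
  algebraMap_mem' := fun c => by
    show σ h * algebraMap k _ c * σ h⁻¹ ∈ R
    rw [← Algebra.commutes, mul_assoc, ← map_mul, mul_inv_cancel, map_one, mul_one]
    exact R.algebraMap_mem c

theorem Compat.conj_mem (hC : Compat ρ σ φ) (h : H) {r : Module.End k V} (hr : r ∈ opAlg ρ) :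
    σ h * r * σ h⁻¹ ∈ opAlg ρ := by
  have : opAlg ρ ≤ conjAlg σ h (opAlg ρ) := by
    apply Algebra.adjoin_le
    rintro _ ⟨z, rfl⟩
    show σ h * ρ z * σ h⁻¹ ∈ opAlg ρ
    rw [hC.conj_rho]
    exact rho_mem ρ _
  exact this hr

theorem Compat.zinv_map (hC : Compat ρ σ φ) (h : H) {U : Submodule k V} (hU : ZInv ρ U) :
    ZInv ρ (U.map (σ h)) := by
  rintro z _ ⟨u, hu, rfl⟩
  refine ⟨ρ ((φ h)⁻¹ z) u, hU _ u hu, ?_⟩
  have := hC.compat h ((φ h)⁻¹ z)
  rw [MulAut.apply_inv_self] at this
  calc σ h (ρ ((φ h)⁻¹ z) u) = (σ h * ρ ((φ h)⁻¹ z)) u := rfl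
    _ = (ρ z * σ h) u := by rw [this]
    _ = ρ z (σ h u) := rfl

theorem map_inv_map (σ : Representation k H V) (h : H) (U : Submodule k V) :
    (U.map (σ h)).map (σ h⁻¹) = U := by
  rw [map_map_rep, inv_mul_cancel, map_one]
  exact Submodule.map_id U

theorem map_map_inv (σ : Representation k H V) (h : H) (U : Submodule k V) :
    (U.map (σ h⁻¹)).map (σ h) = U := by
  rw [map_map_rep, mul_inv_cancel, map_one]
  exact Submodule.map_id U

theorem Compat.simp_map (hC : Compat ρ σ φ) (h : H) {U : Submodule k V} (hU : Simp ρ U) :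
    Simp ρ (U.map (σ h)) := by
  refine ⟨?_, hC.zinv_map h hU.inv, ?_⟩
  · intro h0
    apply hU.ne_bot
    rw [← map_inv_map σ h U, h0, Submodule.map_bot]
  · intro U' hle hi
    have h1 : U'.map (σ h⁻¹) ≤ U := by
      rw [← map_inv_map σ h U]
      exact Submodule.map_mono hle
    rcases hU.min _ h1 (hC.zinv_map h⁻¹ hi) with h2 | h2
    · left
      rw [← map_map_inv σ h U', h2, Submodule.map_bot]
    · right
      rw [← map_map_inv σ h U', h2]

theorem Compat.map_comp_le (hC : Compat ρ σ φ) (h : H) (U : Submodule k V) :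
    (comp ρ U).map (σ h) ≤ comp ρ (U.map (σ h)) := by
  rintro _ ⟨w, hw, rfl⟩ r hr hk
  have hr' : σ h⁻¹ * r * σ h ∈ opAlg ρ := by
    have := hC.conj_mem h⁻¹ hr
    rwa [inv_inv] at this
  have hk' : Kills (σ h⁻¹ * r * σ h) U := by
    intro u hu
    show σ h⁻¹ (r (σ h u)) = 0
    rw [hk _ ⟨u, hu, rfl⟩, map_zero]
  have := hw _ hr' hk'
  have h2 : σ h⁻¹ (r (σ h w)) = 0 := this
  have := congrArg (σ h) h2
  rwa [rep_apply_inv, map_zero] at this

theorem Compat.comp_map (hC : Compat ρ σ φ) (h : H) (U : Submodule k V) :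
    comp ρ (U.map (σ h)) = (comp ρ U).map (σ h) := by
  apply le_antisymm
  · have := hC.map_comp_le h⁻¹ (U.map (σ h))
    rw [map_inv_map] at this
    have h2 := Submodule.map_mono (f := σ h) this
    rwa [map_map_inv] at h2
  · exact hC.map_comp_le h U

/-- the stabilizer of a subspace. -/
def stabC (σ : Representation k H V) (c : Submodule k V) : Subgroup H where
  carrier := {h | c.map (σ h) = c}
  mul_mem' := fun {a b} ha hb => by
    show c.map (σ (a * b)) = c
    rw [← map_map_rep, hb, ha]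
  one_mem' := by
    show c.map (σ 1) = c
    rw [map_one]; exact Submodule.map_id c
  inv_mem' := fun {a} ha => by
    show c.map (σ a⁻¹) = c
    have : c.map (σ a) = c := ha
    conv_lhs => rw [← this]
    exact map_inv_map σ a c

theorem mem_stabC {σ : Representation k H V} {c : Submodule k V} {h : H} :
    h ∈ stabC σ c ↔ c.map (σ h) = c := Iff.rfl

end FreeMod
end Cfsg.Agent.Lib.Helper17
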