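import Cfsg.Agent.Lib.Helper17.FreeMod5

/-!
# Frobenius-type actions: orbits of components and the abelian core
-/

set_option autoImplicit false

namespace Cfsg.Agent.Lib.Helper17
namespace FreeMod

open scoped BigOperators
open Module

section Transport

variable {k V : Type*} [Field k] [AddCommGroup V] [Module k V] [FiniteDimensional k V]
variable {G : Type*} [Group G] [Finite G]

omit [Finite G] [FiniteDimensional k V] in
/-- free generation of a subrepresentation, transported to the ambient space. -/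
theorem FreeGen.of_sub (σ' : Representation k G V) (c : Submodule k V)
    (hc : ∀ g, c ≤ c.comap (σ' g)) {W' : Submodule k ↥c}
    (h : FreeGen (σ'.subrepresentation c hc) ⊤ W') : FreeGen σ' c (W'.map c.subtype) := by
  constructor
  · have h1 : ∀ g, (W'.map c.subtype).map (σ' g)
        = (W'.map ((σ'.subrepresentation c hc) g)).map c.subtype := by
      intro g
      rw [← Submodule.map_comp, ← Submodule.map_comp]
      congr 1
    simp_rw [h1]
    rw [← Submodule.map_iSup, h.1, Submodule.map_subtype_top]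
  · rw [Submodule.finrank_map_subtype_eq, h.2, finrank_top]

end Transport

section ResAlg

variable {k V : Type*} [Field k] [AddCommGroup V] [Module k V]
variable {Z : Type*} [Group Z]

/-- restrictions of the operator algebra to a subspace. -/
def resAlg (ρ : Representation k Z V) (c : Submodule k V) : Subalgebra k (Module.End k ↥c) where
  carrier := {f | ∃ r ∈ opAlg ρ, ∀ v : ↥c, (f v : V) = r v}
  mul_mem' := by
    rintro f f' ⟨r, hr, hf⟩ ⟨r', hr', hf'⟩
    refine ⟨r * r', (opAlg ρ).mul_mem hr hr', fun v => ?_⟩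
    show ((f (f' v) : ↥c) : V) = r (r' v)
    rw [hf, hf']
  one_mem' := ⟨1, (opAlg ρ).one_mem, fun v => rfl⟩
  add_mem' := by
    rintro f f' ⟨r, hr, hf⟩ ⟨r', hr', hf'⟩
    refine ⟨r + r', (opAlg ρ).add_mem hr hr', fun v => ?_⟩
    show ((f v + f' v : ↥c) : V) = r v + r' v
    rw [Submodule.coe_add, hf, hf']
  zero_mem' := ⟨0, (opAlg ρ).zero_mem, fun v => rfl⟩
  algebraMap_mem' := fun a => ⟨algebraMap k _ a, (opAlg ρ).algebraMap_mem a, fun v => by
    rw [Module.algebraMap_end_apply, Module.algebraMap_end_apply]; rfl⟩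

end ResAlg

section Orbit

variable {k V : Type*} [Field k] [AddCommGroup V] [Module k V] [FiniteDimensional k V]
variable {Z H : Type*} [Group Z] [Group H] [Finite Z] [Finite H]
variable {ρ : Representation k Z V} {σ : Representation k H V} {φ : H →* MulAut Z}

omit [Finite Z] in
theorem finrank_orbit (hC : Compat ρ σ φ) {U : Submodule k V} (hU : Simp ρ U) :
    finrank k ↥(⨆ h, (comp ρ U).map (σ h))
      = (stabC σ (comp ρ U)).index * finrank k (comp ρ U) := by
  classical
  set c := comp ρ U with hc
  set H₁ := stabC σ c with hH₁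
  cases nonempty_fintype (H ⧸ H₁)
  let N : H ⧸ H₁ → Submodule k V := fun q => c.map (σ q.out)
  have hsup : (⨆ h, c.map (σ h)) = ⨆ q, N q := by
    apply le_antisymm
    · apply iSup_le
      intro h
      obtain ⟨h₁, hh₁⟩ := QuotientGroup.mk_out_eq_mul H₁ h
      have : c.map (σ h) = N (QuotientGroup.mk h) := by
        show c.map (σ h) = c.map (σ (QuotientGroup.mk h : H ⧸ H₁).out)
        rw [hh₁, ← map_map_rep]
        congr 1
        exact (mem_stabC.mp h₁.2).symm
      rw [this]
      exact le_iSup N _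
    · apply iSup_le
      intro q
      exact le_iSup (fun h => c.map (σ h)) q.out
  have hNcomp : ∀ q, N q = comp ρ (U.map (σ q.out)) := fun q => (hC.comp_map q.out U).symm
  have hNne : ∀ q q', q ≠ q' → N q' ≠ N q := by
    intro q q' hne heq
    apply hne
    have h1 : c.map (σ (q.out⁻¹ * q'.out)) = c := by
      rw [← map_map_rep]
      show (N q').map (σ q.out⁻¹) = c
      rw [heq]
      exact map_inv_map σ q.out c
    have h2 : q.out⁻¹ * q'.out ∈ H₁ := mem_stabC.mpr h1
    have h3 : (QuotientGroup.mk q.out : H ⧸ H₁) = QuotientGroup.mk q'.out :=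
      QuotientGroup.eq.mpr h2
    rwa [QuotientGroup.out_eq', QuotientGroup.out_eq'] at h3
  have hsep : ∀ q, ∃ e ∈ opAlg ρ, (∀ v ∈ N q, e v = v) ∧ ∀ q', q ≠ q' → ∀ v ∈ N q', e v = 0 := by
    intro q
    obtain ⟨e, he, h1, h0⟩ := exists_sep hC.comm (hC.simp_map q.out hU)
      ((Finset.univ.erase q).image fun q' => U.map (σ q'.out)) (by
        intro U' hU'
        obtain ⟨q', hq', rfl⟩ := Finset.mem_image.mp hU'
        refine ⟨hC.simp_map q'.out hU, ?_⟩
        rw [← hNcomp, ← hNcomp]
        exact hNne q q' (Finset.ne_of_mem_erase hq').symm)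
    refine ⟨e, he, ?_, ?_⟩
    · intro v hv
      rw [hNcomp] at hv
      exact h1 v hv
    · intro q' hne v hv
      rw [hNcomp] at hv
      exact h0 _ (Finset.mem_image.mpr ⟨q', Finset.mem_erase.mpr ⟨hne.symm, Finset.mem_univ _⟩, rfl⟩)
        v hv
  choose e he h1 h0 using hsep
  rw [hsup, finrank_iSup_of_sep N e h1 h0]
  simp only [N, finrank_map_rep]
  rw [Finset.sum_const, Finset.card_univ, smul_eq_mul, Subgroup.index, Nat.card_eq_fintype_card]

theorem orbit_free (hC : Compat ρ σ φ) (hfpf : ∀ h, h ≠ 1 → ∀ z, φ h z = z → z = 1)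
    (hfix : ∀ v, (∀ z, ρ z v = v) → v = 0) {U : Submodule k V} (hU : Simp ρ U) :
    ∃ W, FreeGen σ (⨆ h, (comp ρ U).map (σ h)) W := by
  classical
  set c := comp ρ U with hc
  set H₁ := stabC σ c with hH₁
  have hcR : ∀ r ∈ opAlg ρ, ∀ v ∈ c, r v ∈ c := comp_zinv ρ hC.comm U
  set σ₁ : Representation k H₁ V := σ.comp H₁.subtype with hσ₁
  have hc₁ : ∀ g : H₁, c ≤ c.comap (σ₁ g) := by
    intro g v hv
    have : c.map (σ g.1) = c := mem_stabC.mp g.2
    show σ g.1 v ∈ c
    rw [← this]
    exact ⟨v, hv, rfl⟩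
  set σc := σ₁.subrepresentation c hc₁ with hσc
  have hσc_apply : ∀ (g : H₁) (v : ↥c), ((σc g v : ↥c) : V) = σ g.1 v := fun g v => rfl
  have hfree : ∃ W', FreeGen σc ⊤ W' := by
    apply single_free (resAlg ρ c)
    · rintro f ⟨r, hr, hf⟩ f' ⟨r', hr', hf'⟩
      ext v
      show ((f (f' v) : ↥c) : V) = ((f' (f v) : ↥c) : V)
      rw [hf, hf', hf', hf]
      have := opAlg_comm ρ hC.comm r hr r' hr'
      calc r (r' v) = (r * r') v := rfl
        _ = (r' * r) v := by rw [this]
        _ = r' (r v) := rfl
    · rintro f ⟨r, hr, hf⟩ hf0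
      have hnk : ¬ Kills r U := by
        intro hk
        apply hf0
        ext v
        rw [hf]
        exact v.2 r hr hk
      obtain ⟨s, hs, hsr⟩ := exists_inv hC.comm hU hr hnk
      refine ⟨s.restrict (hcR s hs), ⟨s, hs, fun v => rfl⟩, ?_⟩
      ext v
      show ((f (s.restrict (hcR s hs) v) : ↥c) : V) = v
      rw [hf]
      exact (hsr v v.2).2
    · rintro g f ⟨r, hr, hf⟩
      refine ⟨σ g.1 * r * σ g.1⁻¹, hC.conj_mem g.1 hr, fun v => ?_⟩
      show ((σc g (f (σc g⁻¹ v)) : ↥c) : V) = σ g.1 (r (σ g.1⁻¹ v))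
      rw [hσc_apply, hf, hσc_apply]
      rfl
    · intro g hg1
      by_contra hcon
      push Not at hcon
      have hgH : (g : H) ≠ 1 := fun h => hg1 (Subtype.ext h)
      -- ρ (φ g z) = ρ z on c
      have hrz : ∀ z, ∀ v ∈ c, ρ (φ g.1 z) v = ρ z v := by
        intro z v hv
        have hmem : (ρ z).restrict (hcR _ (rho_mem ρ z)) ∈ resAlg ρ c :=
          ⟨ρ z, rho_mem ρ z, fun v => rfl⟩
        have := hcon _ hmem
        have h2 := congrArg (fun f : Module.End k ↥c => ((f ⟨v, hv⟩ : ↥c) : V)) this
        have h3 : σ g.1 (ρ z (σ g.1⁻¹ v)) = ρ z v := h2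
        rw [← hC.conj_rho]
        exact h3
      let K : Subgroup Z :=
        { carrier := {z | ∀ v ∈ c, ρ z v = v}
          mul_mem' := fun {a b} ha hb v hv => by
            rw [map_mul]
            show ρ a (ρ b v) = v
            rw [hb v hv, ha v hv]
          one_mem' := fun v _ => by rw [map_one]; rfl
          inv_mem' := fun {a} ha v hv => by
            have := ha v hv
            conv_lhs => rw [← this]
            exact rep_inv_apply ρ a v }
      have hall : ∀ z, z ∈ K := by
        intro z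
        apply mem_of_comm_mem (φ g.1) (hfpf g.1 hgH) K
        · intro z hz v hv
          rw [hrz z v hv]
          exact hz v hv
        · intro v hv
          rw [map_mul]
          show ρ z⁻¹ (ρ (φ g.1 z) v) = v
          rw [hrz z v hv]
          exact rep_inv_apply ρ z v
      apply hU.ne_bot
      rw [eq_bot_iff]
      intro u hu
      have := hfix u (fun z => hall z u (le_comp ρ U hu))
      rw [this]
      exact Submodule.zero_mem _
  obtain ⟨W', hW'⟩ := hfree
  have h1 : FreeGen σ₁ c (W'.map c.subtype) := FreeGen.of_sub σ₁ c hc₁ hW'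
  exact ⟨_, FreeGen.induced H₁ h1 rfl (finrank_orbit hC hU)⟩

end Orbit

section AbCore

universe u

variable {k : Type*} [Field k] {Z H : Type*} [Group Z] [Group H] [Fintype Z] [Finite H]

/-- the abelian core of the Frobenius free-module theorem. -/
theorem ab_core (φ : H →* MulAut Z) (hfpf : ∀ h, h ≠ 1 → ∀ z, φ h z = z → z = 1)
    (hcard : (Fintype.card Z : k) ≠ 0) :
    ∀ (n : ℕ) (V : Type u) [AddCommGroup V] [Module k V] [FiniteDimensional k V]
      (ρ : Representation k Z V) (σ : Representation k H V),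
      Compat ρ σ φ → (∑ z, ρ z = 0) → finrank k V = n → ∃ W, FreeGen σ ⊤ W := by
  intro n
  induction n using Nat.strong_induction_on with
  | _ n ih =>
    intro V _ _ _ ρ σ hC hsum hn
    have hfix : ∀ v, (∀ z, ρ z v = v) → v = 0 := by
      intro v hv
      have h1 := LinearMap.congr_fun hsum v
      rw [LinearMap.sum_apply, LinearMap.zero_apply] at h1
      simp_rw [hv] at h1
      rw [Finset.sum_const, Finset.card_univ, ← Nat.cast_smul_eq_nsmul k] at h1
      rcases smul_eq_zero.mp h1 with h | h
      · exact absurd h hcard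
      · exact h
    by_cases hV : (⊤ : Submodule k V) = ⊥
    · refine ⟨⊥, ?_, ?_⟩
      · rw [hV]
        simp
      · rw [hV, finrank_bot, mul_zero]
    obtain ⟨U, -, hU⟩ := exists_simp ρ hV (fun z v _ => Submodule.mem_top)
    obtain ⟨W₁, hW₁⟩ := orbit_free hC hfpf hfix hU
    set c := comp ρ U with hc
    set M := ⨆ h, c.map (σ h) with hM
    have hMσ : ∀ h, M ≤ M.comap (σ h) := by
      intro h
      rw [← Submodule.map_le_iff_le_comap, hM, Submodule.map_iSup]
      apply iSup_le
      intro g
      rw [map_map_rep]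
      exact le_iSup (fun g => c.map (σ g)) (h * g)
    have hMρ : ∀ z, M ≤ M.comap (ρ z) := by
      intro z
      rw [← Submodule.map_le_iff_le_comap, hM, Submodule.map_iSup]
      apply iSup_le
      intro g
      refine le_trans ?_ (le_iSup (fun g => c.map (σ g)) g)
      rintro _ ⟨v, hv, rfl⟩
      rw [hc, ← hC.comp_map] at hv ⊢
      exact comp_zinv ρ hC.comm _ (ρ z) (rho_mem ρ z) v hv
    have hCQ : Compat (ρ.quotient M hMρ) (σ.quotient M hMσ) φ := by
      constructor
      · intro h z
        apply LinearMap.ext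
        intro x
        obtain ⟨v, rfl⟩ := Submodule.mkQ_surjective M x
        show M.mkQ (σ h (ρ z v)) = M.mkQ (ρ (φ h z) (σ h v))
        have := hC.compat h z
        have h2 : σ h (ρ z v) = ρ (φ h z) (σ h v) := LinearMap.congr_fun this v
        rw [h2]
      · intro z z'
        apply LinearMap.ext
        intro x
        obtain ⟨v, rfl⟩ := Submodule.mkQ_surjective M x
        show M.mkQ (ρ z (ρ z' v)) = M.mkQ (ρ z' (ρ z v))
        have h2 : ρ z (ρ z' v) = ρ z' (ρ z v) := LinearMap.congr_fun (hC.comm z z').eq v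
        rw [h2]
    have hsumQ : ∑ z, (ρ.quotient M hMρ) z = 0 := by
      apply LinearMap.ext
      intro x
      obtain ⟨v, rfl⟩ := Submodule.mkQ_surjective M x
      rw [LinearMap.sum_apply, LinearMap.zero_apply]
      have : ∀ z, (ρ.quotient M hMρ) z (M.mkQ v) = M.mkQ (ρ z v) := fun z => rfl
      simp_rw [this]
      rw [← map_sum, ← LinearMap.sum_apply, hsum, LinearMap.zero_apply, map_zero]
    have hMne : M ≠ ⊥ := by
      intro h0
      apply hU.ne_bot
      rw [eq_bot_iff, ← h0]
      refine le_trans (le_comp ρ U) ?_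
      refine le_trans ?_ (le_iSup (fun g => c.map (σ g)) 1)
      rw [map_one]
      intro v hv
      exact ⟨v, hv, rfl⟩
    have hlt : finrank k (V ⧸ M) < n := by
      have h1 := Submodule.finrank_quotient_add_finrank M
      have h2 : 0 < finrank k M := by
        rw [Module.finrank_pos_iff]
        exact (Submodule.nontrivial_iff_ne_bot).mpr hMne
      omega
    obtain ⟨W₂, hW₂⟩ := ih _ hlt (V ⧸ M) (ρ.quotient M hMρ) (σ.quotient M hMσ) hCQ hsumQ rfl
    exact FreeGen.extension σ M hMσ hW₁ hW₂

end AbCore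

end FreeMod
end Cfsg.Agent.Lib.Helper17
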