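import Cfsg.Agent.Lib.Helper17.FreeMod6

/-!
# Frobenius free-module theorem: nilpotent kernel of order prime to the characteristic
-/

set_option autoImplicit false

namespace Cfsg.Agent.Lib.Helper17
namespace FreeMod

open scoped BigOperators commutatorElement
open Module

section NilCore

universe u

variable {k : Type*} [Field k] {A : Type*} [Group A] [Finite A]

/-- nilpotent normal subgroup `F` of order prime to the characteristic, acted on
fixed-point-freely by `H`, with `∑ f, ρ f = 0`: the space is free over `H`. -/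
theorem nil_core (F H : Subgroup A) [F.Normal] [Fintype ↥F] (hnil : Group.IsNilpotent ↥F)
    (hchar : (Fintype.card ↥F : k) ≠ 0)
    (hfpf : ∀ h ∈ H, h ≠ 1 → ∀ f ∈ F, h * f * h⁻¹ = f → f = 1) :
    ∀ (n : ℕ) (V : Type u) [AddCommGroup V] [Module k V] [FiniteDimensional k V]
      (ρ : Representation k A V), (∑ f : ↥F, ρ f = 0) → finrank k V = n →
      ∃ W, FreeGen (ρ.comp H.subtype) ⊤ W := by
  classical
  intro n
  induction n using Nat.strong_induction_on with
  | _ n ih =>
    intro V _ _ _ ρ hsum hn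
    by_cases hV : (⊤ : Submodule k V) = ⊥
    · refine ⟨⊥, ?_, ?_⟩
      · rw [hV]; simp
      · rw [hV, finrank_bot, mul_zero]
    have hVnt : Nontrivial V := by
      rw [← Submodule.nontrivial_iff k]
      exact ⟨⟨⊤, ⊥, hV⟩⟩
    have h01 : (1 : Module.End k V) ≠ 0 := by
      intro h
      obtain ⟨v, hv⟩ := exists_ne (0 : V)
      apply hv
      have := LinearMap.congr_fun h v
      simpa using this
    set ρF : ↥F →* Module.End k V := (ρ : A →* Module.End k V).comp F.subtype with hρF
    have hnotall : ¬ ∀ f : ↥F, ρ f = 1 := by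
      intro hall
      simp_rw [hall] at hsum
      rw [Finset.sum_const, Finset.card_univ, ← Nat.cast_smul_eq_nsmul k] at hsum
      rcases smul_eq_zero.mp hsum with h | h
      · exact hchar h
      · exact h01 h
    have hex : ∃ i, ¬ Subgroup.upperCentralSeries ↥F i ≤ ρF.ker := by
      obtain ⟨n₀, hn₀⟩ := hnil.nilpotent'
      refine ⟨n₀, fun hle => hnotall fun f => ?_⟩
      have : f ∈ ρF.ker := hle (hn₀ ▸ Subgroup.mem_top f)
      exact MonoidHom.mem_ker.mp this
    have hfind := Nat.find_spec hex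
    have hmin := fun m => Nat.find_min hex (m := m)
    obtain ⟨j, hj⟩ : ∃ j, Nat.find hex = j + 1 := by
      rcases Nat.exists_eq_succ_of_ne_zero (n := Nat.find hex) (by
        intro h0
        rw [h0, Subgroup.upperCentralSeries_zero] at hfind
        exact hfind bot_le) with ⟨j, hj⟩
      exact ⟨j, hj⟩
    rw [hj] at hfind
    have hjle : Subgroup.upperCentralSeries ↥F j ≤ ρF.ker := by
      by_contra hcon
      exact hmin j (by omega) hcon
    set Zs : Subgroup A := (Subgroup.upperCentralSeries ↥F (j + 1)).map F.subtype with hZs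
    have hZn : Zs.Normal := ConjAct.normal_of_characteristic_of_normal
    have hZF : Zs ≤ F := by
      rintro _ ⟨z, -, rfl⟩
      exact z.2
    have hcomm : ∀ z ∈ Zs, ∀ f ∈ F, ρ z * ρ f = ρ f * ρ z := by
      rintro _ ⟨z, hz, rfl⟩ f hf
      have h1 : ⁅z, (⟨f, hf⟩ : ↥F)⁆ ∈ ρF.ker :=
        hjle (Subgroup.mem_upperCentralSeries_succ_iff.mp hz ⟨f, hf⟩)
      have h2 : ρ (z.1 * f * z.1⁻¹ * f⁻¹) = 1 := by
        have := MonoidHom.mem_ker.mp h1
        rw [commutatorElement_def] at this
        simpa [hρF] using this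
      have h3 : z.1 * f = (z.1 * f * z.1⁻¹ * f⁻¹) * (f * z.1) := by group
      show ρ (F.subtype z) * ρ f = ρ f * ρ (F.subtype z)
      rw [Subgroup.coe_subtype, ← map_mul, h3, map_mul, h2, one_mul, map_mul]
    have hZnot : ∃ z ∈ Zs, ρ z ≠ 1 := by
      by_contra hcon
      push Not at hcon
      apply hfind
      intro z hz
      rw [MonoidHom.mem_ker]
      exact hcon z.1 ⟨z, hz, rfl⟩
    have : Fintype ↥Zs := Fintype.ofFinite _
    set NZ : Module.End k V := ∑ z : ↥Zs, ρ z with hNZ
    have hNZ_right : ∀ z ∈ Zs, NZ * ρ z = NZ := by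
      intro z hz
      rw [hNZ, Finset.sum_mul]
      refine Fintype.sum_equiv (Equiv.mulRight (⟨z, hz⟩ : ↥Zs)) _ _ fun x => ?_
      rw [← map_mul]; rfl
    have hNZ_conj : ∀ a : A, ρ a * NZ = NZ * ρ a := by
      intro a
      rw [hNZ, Finset.mul_sum, Finset.sum_mul]
      refine Fintype.sum_equiv (MulAut.conjNormal a : ↥Zs ≃* ↥Zs).toEquiv _ _ fun x => ?_
      rw [← map_mul, ← map_mul]
      congr 1
      show a * x.1 = ((MulAut.conjNormal a : MulAut ↥Zs) x : A) * a
      rw [MulAut.conjNormal_apply]; group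
    set M : Submodule k V := LinearMap.ker NZ with hM
    have hMinv : ∀ a, M ≤ M.comap (ρ a) := by
      intro a v hv
      show NZ (ρ a v) = 0
      have h1 : NZ v = 0 := hv
      calc NZ (ρ a v) = (NZ * ρ a) v := rfl
        _ = (ρ a * NZ) v := by rw [hNZ_conj]
        _ = ρ a (NZ v) := rfl
        _ = 0 := by rw [h1, map_zero]
    have hMne : M ≠ ⊥ := by
      intro h0
      obtain ⟨z, hz, hz1⟩ := hZnot
      apply hz1
      apply LinearMap.ext
      intro v
      have h1 : ρ z v - v ∈ M := by
        show NZ (ρ z v - v) = 0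
        rw [map_sub]
        have : NZ (ρ z v) = (NZ * ρ z) v := rfl
        rw [this, hNZ_right z hz, sub_self]
      rw [h0, Submodule.mem_bot, sub_eq_zero] at h1
      exact h1
    -- abelian core on M
    let φ : ↥H →* MulAut ↥Zs := (MulAut.conjNormal (H := Zs)).comp H.subtype
    have hφ : ∀ (h : ↥H) (z : ↥Zs), ((φ h z : ↥Zs) : A) = h.1 * z.1 * h.1⁻¹ := by
      intro h z
      show ((MulAut.conjNormal h.1 : MulAut ↥Zs) z : A) = _
      rw [MulAut.conjNormal_apply]
    have hfpf' : ∀ h : ↥H, h ≠ 1 → ∀ z : ↥Zs, φ h z = z → z = 1 := by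
      intro h hh z hz
      have h1 := congrArg Subtype.val hz
      rw [hφ] at h1
      have := hfpf h.1 h.2 (fun h0 => hh (Subtype.ext h0)) z.1 (hZF z.2) h1
      exact Subtype.ext this
    have hcardZ : (Fintype.card ↥Zs : k) ≠ 0 := by
      intro h0
      apply hchar
      have hdvd : Nat.card ↥Zs ∣ Nat.card ↥F := Subgroup.card_dvd_of_le hZF
      rw [Nat.card_eq_fintype_card, Nat.card_eq_fintype_card] at hdvd
      obtain ⟨m, hm⟩ := hdvd
      rw [hm, Nat.cast_mul, h0, zero_mul]
    let ρZ₀ : Representation k ↥Zs V := ρ.comp Zs.subtype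
    let σ₀ : Representation k ↥H V := ρ.comp H.subtype
    set ρZ : Representation k ↥Zs ↥M :=
      ρZ₀.subrepresentation M (fun z => hMinv z.1) with hρZ
    set σM : Representation k ↥H ↥M :=
      σ₀.subrepresentation M (fun h => hMinv h.1) with hσM
    have hC : Compat ρZ σM φ := by
      constructor
      · intro h z
        apply LinearMap.ext
        intro v
        apply Subtype.ext
        show ρ h.1 (ρ z.1 v.1) = ρ ((φ h z : ↥Zs) : A) (ρ h.1 v.1)
        rw [hφ]
        have : ρ h.1 (ρ z.1 v.1) = ρ (h.1 * z.1) v.1 := by rw [map_mul]; rfl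
        rw [this]
        have h2 : ρ (h.1 * z.1 * h.1⁻¹) (ρ h.1 v.1) = ρ (h.1 * z.1 * h.1⁻¹ * h.1) v.1 := by
          rw [map_mul (ρ : A →* Module.End k V) (h.1 * z.1 * h.1⁻¹) h.1]; rfl
        rw [h2]
        congr 2
        group
      · intro z z'
        apply LinearMap.ext
        intro v
        apply Subtype.ext
        show ρ z.1 (ρ z'.1 v.1) = ρ z'.1 (ρ z.1 v.1)
        have := hcomm z.1 z.2 z'.1 (hZF z'.2)
        exact LinearMap.congr_fun this v.1
    have hsumM : ∑ z, ρZ z = 0 := by
      apply LinearMap.ext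
      intro v
      apply Subtype.ext
      rw [LinearMap.sum_apply, LinearMap.zero_apply]
      rw [Submodule.coe_sum]
      have h1 : NZ v.1 = 0 := v.2
      rw [hNZ, LinearMap.sum_apply] at h1
      exact h1
    obtain ⟨W', hW'⟩ := ab_core (k := k) φ hfpf' hcardZ _ ↥M ρZ σM hC hsumM rfl
    have hW₁ : FreeGen (ρ.comp H.subtype) M (W'.map M.subtype) :=
      FreeGen.of_sub (ρ.comp H.subtype) M (fun h => hMinv h.1) hW'
    -- quotient
    have hsumQ : ∑ f : ↥F, (ρ.quotient M hMinv) f = 0 := by
      apply LinearMap.ext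
      intro x
      obtain ⟨v, rfl⟩ := Submodule.mkQ_surjective M x
      rw [LinearMap.sum_apply, LinearMap.zero_apply]
      have : ∀ f : ↥F, (ρ.quotient M hMinv) f (M.mkQ v) = M.mkQ (ρ f v) := fun f => rfl
      simp_rw [this]
      rw [← map_sum, ← LinearMap.sum_apply, hsum, LinearMap.zero_apply, map_zero]
    have hlt : finrank k (V ⧸ M) < n := by
      have h1 := Submodule.finrank_quotient_add_finrank M
      have h2 : 0 < finrank k M := by
        rw [Module.finrank_pos_iff]
        exact (Submodule.nontrivial_iff_ne_bot).mpr hMne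
      omega
    obtain ⟨W₂, hW₂⟩ := ih _ hlt (V ⧸ M) (ρ.quotient M hMinv) hsumQ rfl
    exact FreeGen.extension (ρ.comp H.subtype) M (fun h => hMinv h.1) hW₁ hW₂

end NilCore

end FreeMod
end Cfsg.Agent.Lib.Helper17
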