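import Cfsg.Agent.Lib.Helper17.FreeMod7
import Cfsg.Agent.Lib.Helper8.ThNilpC
import Cfsg.Agent.Lib.Helper29.HallTransfer

/-!
# Frobenius free-module theorem (any characteristic)
-/

set_option autoImplicit false

namespace Cfsg.Agent.Lib.Helper17
namespace FreeMod

open scoped BigOperators
open Module

section PFix

/-- a finite `p`-group acting linearly on a nontrivial space in characteristic `p` fixes a
nonzero vector. -/
theorem exists_fixed_of_pgroup {k : Type*} [Field k] (p : ℕ) [hp : Fact p.Prime] [CharP k p]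
    {P : Type*} [Group P] [Finite P] (hP : IsPGroup p P) {V : Type*} [AddCommGroup V]
    [Module k V] [Nontrivial V] (ρ : Representation k P V) :
    ∃ v : V, v ≠ 0 ∧ ∀ g : P, ρ g v = v := by
  classical
  obtain ⟨v₀, hv₀⟩ := exists_ne (0 : V)
  have hpV : ∀ x : V, p • x = 0 := by
    intro x
    rw [← Nat.cast_smul_eq_nsmul k p x, CharP.cast_eq_zero k p, zero_smul]
  set S : Set V := Set.range fun g : P => ρ g v₀ with hS
  have hSfin : S.Finite := Set.finite_range _
  set U : AddSubgroup V := AddSubgroup.closure S with hU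
  have hUfg : AddGroup.FG ↥U := by
    rw [AddGroup.fg_iff_addSubgroup_fg, AddSubgroup.fg_iff]
    exact ⟨S, rfl, hSfin⟩
  have hUtors : IsAddTorsion ↥U := by
    intro x
    rw [isOfFinAddOrder_iff_nsmul_eq_zero]
    exact ⟨p, hp.out.pos, Subtype.ext (hpV x.1)⟩
  have hUfin : Finite ↥U := AddCommGroup.finite_of_fg_isAddTorsion ↥U hUtors
  have hUinv : ∀ (g : P) (u : V), u ∈ U → ρ g u ∈ U := by
    intro g u hu
    induction hu using AddSubgroup.closure_induction with
    | mem x hx =>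
      obtain ⟨g', rfl⟩ := hx
      apply AddSubgroup.subset_closure
      refine ⟨g * g', ?_⟩
      show ρ (g * g') v₀ = ρ g (ρ g' v₀)
      rw [map_mul]; rfl
    | zero => rw [map_zero]; exact U.zero_mem
    | add x y _ _ hx hy => rw [map_add]; exact U.add_mem hx hy
    | neg x _ hx => rw [map_neg]; exact U.neg_mem hx
  let _ : MulAction P ↥U :=
    { smul := fun g u => ⟨ρ g u.1, hUinv g u.1 u.2⟩
      one_smul := fun u => Subtype.ext (by show ρ 1 u.1 = u.1; rw [map_one]; rfl)
      mul_smul := fun g h u => Subtype.ext (by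
        show ρ (g * h) u.1 = ρ g (ρ h u.1)
        rw [map_mul]; rfl) }
  have hsmul : ∀ (g : P) (u : ↥U), ((g • u : ↥U) : V) = ρ g u.1 := fun g u => rfl
  have hv₀U : v₀ ∈ U := AddSubgroup.subset_closure ⟨1, by show ρ 1 v₀ = v₀; rw [map_one]; rfl⟩
  have hpU : p ∣ Nat.card ↥U := by
    have h2 : addOrderOf (⟨v₀, hv₀U⟩ : ↥U) ∣ p :=
      addOrderOf_dvd_of_nsmul_eq_zero (Subtype.ext (hpV v₀))
    have h3 : addOrderOf (⟨v₀, hv₀U⟩ : ↥U) ≠ 1 := by
      rw [Ne, AddMonoid.addOrderOf_eq_one_iff]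
      intro h
      exact hv₀ (congrArg Subtype.val h)
    have h4 : addOrderOf (⟨v₀, hv₀U⟩ : ↥U) = p := by
      rcases (Nat.dvd_prime hp.out).mp h2 with h | h
      · exact absurd h h3
      · exact h
    rw [← h4]
    exact addOrderOf_dvd_natCard _
  have h0 : (0 : ↥U) ∈ MulAction.fixedPoints P ↥U := by
    intro g
    apply Subtype.ext
    rw [hsmul]
    simp
  obtain ⟨b, hb, hne⟩ := hP.exists_fixed_point_of_prime_dvd_card_of_fixed_point ↥U hpU h0
  refine ⟨b.1, fun h => hne (Subtype.ext h.symm), fun g => ?_⟩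
  have := hb g
  rw [← hsmul, this]

end PFix

section Main

universe u

variable {k : Type*} [Field k] {A : Type*} [Group A] [Finite A]
variable {V : Type u} [AddCommGroup V] [Module k V] [FiniteDimensional k V]

/-- `nil_core` with the fixed-point hypothesis. -/
theorem nil_core' (ρ : Representation k A V) (F H : Subgroup A) [F.Normal]
    (hnil : Group.IsNilpotent ↥F) (hchar : (Nat.card ↥F : k) ≠ 0)
    (hfpf : ∀ h ∈ H, h ≠ 1 → ∀ f ∈ F, h * f * h⁻¹ = f → f = 1)
    (hCF : ∀ v : V, (∀ f ∈ F, ρ f v = v) → v = 0) :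
    ∃ W, FreeGen (ρ.comp H.subtype) ⊤ W := by
  classical
  have : Fintype ↥F := Fintype.ofFinite _
  have hsum : ∑ f : ↥F, ρ f = 0 := by
    apply LinearMap.ext
    intro v
    rw [LinearMap.zero_apply]
    apply hCF
    intro g hg
    rw [LinearMap.sum_apply, map_sum]
    refine Fintype.sum_equiv (Equiv.mulLeft (⟨g, hg⟩ : ↥F)) _ _ fun x => ?_
    show ρ g (ρ x.1 v) = ρ (g * x.1) v
    rw [map_mul]; rfl
  refine nil_core F H hnil ?_ hfpf _ V ρ hsum rfl
  rwa [← Nat.card_eq_fintype_card]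

/-- **Frobenius free-module theorem**: `F` normal nilpotent, `H` acting fixed-point-freely on
`F`, and `F` with no nonzero fixed vector: the space is a free module for `H`. -/
theorem frobenius_free (ρ : Representation k A V) (F H : Subgroup A) [F.Normal]
    (hnil : Group.IsNilpotent ↥F)
    (hfpf : ∀ h ∈ H, h ≠ 1 → ∀ f ∈ F, h * f * h⁻¹ = f → f = 1)
    (hCF : ∀ v : V, (∀ f ∈ F, ρ f v = v) → v = 0) :
    ∃ W, FreeGen (ρ.comp H.subtype) ⊤ W := by
  classical
  by_cases hchar : (Nat.card ↥F : k) = 0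
  swap
  · exact nil_core' ρ F H hnil hchar hfpf hCF
  -- characteristic `p` dividing the order of `F`
  obtain ⟨p, hpc⟩ := CharP.exists k
  have hpdvd : p ∣ Nat.card ↥F := (CharP.cast_eq_zero_iff k p _).mp hchar
  have hp : p.Prime := by
    rcases CharP.char_is_prime_or_zero k p with h | h
    · exact h
    · exfalso
      rw [h, zero_dvd_iff] at hpdvd
      exact Nat.card_pos.ne' hpdvd
  have : Fact p.Prime := ⟨hp⟩
  obtain ⟨P, N, hNn, hNP⟩ := Cfsg.Agent.Lib.Helper8.ThNilp.hasNormalPComplement_of_isNilpotent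
    (Y := ↥F) p hnil
  have hcardNP : Nat.card ↥N * Nat.card ↥(P : Subgroup ↥F) = Nat.card ↥F := hNP.card_mul_card
  obtain ⟨m, hm⟩ := (IsPGroup.iff_card.mp P.isPGroup')
  have hNcop : (Nat.card ↥N).Coprime p := by
    have h1 : Nat.card ↥(P : Subgroup ↥F) = p ^ (Nat.card ↥F).factorization p := P.card_eq_multiplicity
    have hne : Nat.card ↥F ≠ 0 := Nat.card_pos.ne'
    have h2 : Nat.card ↥N = Nat.card ↥F / p ^ (Nat.card ↥F).factorization p := by
      have h3 : Nat.card ↥N * p ^ (Nat.card ↥F).factorization p = Nat.card ↥F := by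
        rw [← h1]; exact hcardNP
      exact (Nat.div_eq_of_eq_mul_left (pow_pos hp.pos _) h3.symm).symm
    rw [h2]
    exact (Nat.coprime_ordCompl hp hne).symm
  have hNhall : (Nat.card ↥N).Coprime N.index := by
    have h1 : N.index = Nat.card ↥(P : Subgroup ↥F) := by
      have := N.card_mul_index
      rw [← hcardNP] at this
      exact Nat.eq_of_mul_eq_mul_left Nat.card_pos this
    rw [h1, hm]
    exact hNcop.pow_right m
  set Q : Subgroup A := N.map F.subtype with hQ
  have hQF : Q ≤ F := by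
    rintro _ ⟨z, -, rfl⟩
    exact z.2
  have hQcard : Nat.card ↥Q = Nat.card ↥N :=
    Nat.card_congr (N.equivMapOfInjective F.subtype F.subtype_injective).symm.toEquiv
  have hQn : Q.Normal := by
    constructor
    intro x hx a
    obtain ⟨z, hz, rfl⟩ := hx
    have hmemF : a * z.1 * a⁻¹ ∈ F := (inferInstance : F.Normal).conj_mem z.1 z.2 a
    refine ⟨⟨a * z.1 * a⁻¹, hmemF⟩, ?_, rfl⟩
    apply Cfsg.Agent.Lib.Helper29.mem_of_pow_card_eq_one N hNhall
    apply Subtype.ext
    have hz1 : z ^ Nat.card ↥N = 1 := by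
      have := pow_card_eq_one' (G := ↥N) (x := ⟨z, hz⟩)
      exact congrArg Subtype.val this
    have hz2 : z.1 ^ Nat.card ↥N = 1 := by
      have := congrArg Subtype.val hz1
      simpa using this
    show (a * z.1 * a⁻¹) ^ Nat.card ↥N = 1
    rw [conj_pow, hz2, mul_one, mul_inv_cancel]
  have hQnil : Group.IsNilpotent ↥Q := by
    have h1 : Group.IsNilpotent ↥N := Subgroup.isNilpotent N
    exact Group.nilpotent_of_mulEquiv (N.equivMapOfInjective F.subtype F.subtype_injective)
  have hQchar : (Nat.card ↥Q : k) ≠ 0 := by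
    rw [hQcard, Ne, CharP.cast_eq_zero_iff k p]
    intro hd
    have := hNcop.symm
    rw [Nat.Prime.coprime_iff_not_dvd hp] at this
    exact this hd
  have hfpfQ : ∀ h ∈ H, h ≠ 1 → ∀ f ∈ Q, h * f * h⁻¹ = f → f = 1 :=
    fun h hh h1 f hf => hfpf h hh h1 f (hQF hf)
  -- no fixed vectors for `Q`
  have hCQ : ∀ v : V, (∀ f ∈ Q, ρ f v = v) → v = 0 := by
    by_contra hcon
    push Not at hcon
    obtain ⟨v₁, hv₁, hv₁0⟩ := hcon
    let V₁ : Submodule k V :=
      { carrier := {v | ∀ f ∈ Q, ρ f v = v}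
        add_mem' := fun {a b} ha hb f hf => by rw [map_add, ha f hf, hb f hf]
        zero_mem' := fun f _ => map_zero _
        smul_mem' := fun c v hv f hf => by rw [map_smul, hv f hf] }
    have hV₁inv : ∀ a : A, V₁ ≤ V₁.comap (ρ a) := by
      intro a v hv f hf
      show ρ f (ρ a v) = ρ a v
      have h1 : a⁻¹ * f * a ∈ Q := by
        have := hQn.conj_mem f hf a⁻¹
        rwa [inv_inv] at this
      have h2 := hv _ h1
      calc ρ f (ρ a v) = ρ (f * a) v := by rw [map_mul]; rfl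
        _ = ρ (a * (a⁻¹ * f * a)) v := by congr 2; group
        _ = ρ a (ρ (a⁻¹ * f * a) v) := by rw [map_mul]; rfl
        _ = ρ a v := by rw [h2]
    have hV₁nt : Nontrivial ↥V₁ := ⟨⟨⟨v₁, hv₁⟩, 0, fun h => hv₁0 (congrArg Subtype.val h)⟩⟩
    let ρP₀ : Representation k ↥(P : Subgroup ↥F) V :=
      (ρ.comp F.subtype).comp (P : Subgroup ↥F).subtype
    let ρP : Representation k ↥(P : Subgroup ↥F) ↥V₁ :=
      ρP₀.subrepresentation V₁ (fun g => hV₁inv g.1.1)
    obtain ⟨w, hw0, hw⟩ := exists_fixed_of_pgroup p P.isPGroup' ρP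
    apply hw0
    apply Subtype.ext
    apply hCF w.1
    intro f hf
    -- f = n * x with n ∈ N, x ∈ P
    obtain ⟨⟨n, x⟩, hnx⟩ := hNP.existsUnique (⟨f, hf⟩ : ↥F)
    have hfnx : (⟨f, hf⟩ : ↥F) = n.1 * x.1 := hnx.1.symm
    have hf' : f = n.1.1 * x.1.1 := congrArg Subtype.val hfnx
    have hx : ρ x.1.1 w.1 = w.1 := congrArg Subtype.val (hw x)
    have hn : ρ n.1.1 w.1 = w.1 := w.2 n.1.1 ⟨n.1, n.2, rfl⟩
    calc ρ f w.1 = ρ (n.1.1 * x.1.1) w.1 := by rw [hf']
      _ = ρ n.1.1 (ρ x.1.1 w.1) := by rw [map_mul]; rfl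
      _ = w.1 := by rw [hx, hn]
  have := hQn
  exact nil_core' ρ Q H hQnil hQchar hfpfQ hCQ

end Main

end FreeMod
end Cfsg.Agent.Lib.Helper17
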