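import Mathlib
import Cfsg.Prelude.Def_TwoFusion
import Cfsg.Agent.Lib.Helper12.FamilyTransfer
import Cfsg.Agent.Lib.Helper16.StrongFusion
import Cfsg.Agent.Lib.Helper27.ZJ2
import Cfsg.Agent.Lib.Helper17.Basic
import Cfsg.Agent.Lib.Helper17.SubnSupp

/-!
# `N_G(D)` controls fusion in `S` modulo a strongly closed subgroup `D`

(The group form of Puig's theorem `𝓕/D = N_𝓕(D)/D`.)  If `D` is strongly closed in the Sylow
`p`-subgroup `S` and `g` conjugates `B ⊆ S` into `S`, some `n ∈ N_G(D)` satisfies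
`g⁻¹ b g ≡ n⁻¹ b n (mod D)` for all `b ∈ B`.
-/

set_option autoImplicit false
open scoped Pointwise
open Cfsg.Agent.Lib.Helper12

namespace Cfsg.Agent.Lib.Helper17

variable {G : Type*} [Group G]

/-- `N_G(D)` realizes the right conjugation by `g` on `B` modulo `D`. -/
def PCtl (D : Subgroup G) (B : Set G) (g : G) : Prop :=
  ∃ n ∈ Subgroup.normalizer (D : Set G), ∀ b ∈ B, (n⁻¹ * b * n)⁻¹ * (g⁻¹ * b * g) ∈ D

theorem PCtl.one (D : Subgroup G) (B : Set G) : PCtl D B 1 :=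
  ⟨1, one_mem _, fun b _ => by simp⟩

theorem PCtl.mono {D : Subgroup G} {B B' : Set G} {g : G} (h : PCtl D B g) (hB : B' ⊆ B) :
    PCtl D B' g := by
  obtain ⟨n, hn, h⟩ := h
  exact ⟨n, hn, fun b hb => h b (hB hb)⟩

theorem PCtl.trans {D : Subgroup G} {B : Set G} {g h : G} (h₁ : PCtl D B g)
    (h₂ : PCtl D (cjs g B) h) : PCtl D B (g * h) := by
  obtain ⟨n₁, hn₁, h₁⟩ := h₁
  obtain ⟨n₂, hn₂, h₂⟩ := h₂
  refine ⟨n₁ * n₂, mul_mem hn₁ hn₂, fun b hb => ?_⟩
  have e1 := h₂ (g⁻¹ * b * g) ⟨b, hb, rfl⟩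
  have e2 := h₁ b hb
  have e3 : n₂⁻¹ * ((n₁⁻¹ * b * n₁)⁻¹ * (g⁻¹ * b * g)) * n₂⁻¹⁻¹ ∈ D :=
    (Subgroup.mem_normalizer_iff.mp (inv_mem hn₂) _).mp e2
  have e : ((n₁ * n₂)⁻¹ * b * (n₁ * n₂))⁻¹ * ((g * h)⁻¹ * b * (g * h)) =
      (n₂⁻¹ * ((n₁⁻¹ * b * n₁)⁻¹ * (g⁻¹ * b * g)) * n₂⁻¹⁻¹) *
        ((n₂⁻¹ * (g⁻¹ * b * g) * n₂)⁻¹ * (h⁻¹ * (g⁻¹ * b * g) * h)) := by group
  rw [e]
  exact D.mul_mem e3 e1

theorem pctl_of_chain (D : Subgroup G) (𝓕 : Set (Subgroup G)) (l : List (Subgroup G × G))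
    (hmem : ∀ q ∈ l, PCtl D (q.1 : Set G) q.2) :
    ∀ B : Set G, Chain 𝓕 B l → PCtl D B (prodOf l) := by
  induction l with
  | nil =>
    intro B _
    rw [prodOf_nil]
    exact PCtl.one D B
  | cons q l ih =>
    obtain ⟨T, x⟩ := q
    rintro B ⟨hT, hx, hB, hl⟩
    rw [prodOf_cons]
    apply ((hmem (T, x) List.mem_cons_self).mono hB).trans
    exact ih (fun q hq => hmem q (List.mem_cons_of_mem _ hq)) _ hl

theorem inv_conj_mem_of_mem_normalizer {T : Subgroup G} {m t : G}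
    (hm : m ∈ Subgroup.normalizer (T : Set G)) (ht : t ∈ T) : m⁻¹ * t * m ∈ T := by
  have := (Subgroup.mem_normalizer_iff.mp (inv_mem hm) t).mp ht
  simpa using this

/-- closure of `D ∩ T` under conjugation by `N_G(T)`, for `D` strongly closed and `T ≤ S` -/
theorem stronglyClosed_inv_conj_mem {D S T : Subgroup G} (hD : Cfsg.IsStronglyClosed D S)
    (hTS : T ≤ S) {d m : G} (hd : d ∈ D) (hdT : d ∈ T)
    (hm : m ∈ Subgroup.normalizer (T : Set G)) : m⁻¹ * d * m ∈ D := by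
  have h1 : m⁻¹ * d * m ∈ T := inv_conj_mem_of_mem_normalizer hm hdT
  have h2 := hD.2 d hd m⁻¹ (by simpa using hTS h1)
  simpa using h2

/-- the elements of `N_G(T)` acting trivially on `T/(T ∩ D)` -/
def modKer (D T : Subgroup G)
    (hcl : ∀ d ∈ D, d ∈ T → ∀ m ∈ Subgroup.normalizer (T : Set G), m⁻¹ * d * m ∈ D) :
    Subgroup ↥(Subgroup.normalizer (T : Set G)) where
  carrier := {l | ∀ t ∈ T, t⁻¹ * ((l : G)⁻¹ * t * (l : G)) ∈ D}
  one_mem' := by
    intro t _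
    simp
  mul_mem' := by
    intro l m hl hm t ht
    have h1 := hl t ht
    have h1T : t⁻¹ * ((l : G)⁻¹ * t * (l : G)) ∈ T :=
      T.mul_mem (T.inv_mem ht) (inv_conj_mem_of_mem_normalizer l.2 ht)
    have h2 := hcl _ h1 h1T (m : G) m.2
    have h3 := hm t ht
    have e : t⁻¹ * (((l * m : ↥(Subgroup.normalizer (T : Set G))) : G)⁻¹ * t *
        ((l * m : ↥(Subgroup.normalizer (T : Set G))) : G)) =
        (t⁻¹ * ((m : G)⁻¹ * t * (m : G))) *
          ((m : G)⁻¹ * (t⁻¹ * ((l : G)⁻¹ * t * (l : G))) * (m : G)) := by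
      simp only [Subgroup.coe_mul]; group
    rw [e]
    exact D.mul_mem h3 h2
  inv_mem' := by
    intro l hl t ht
    have ht' : (l : G) * t * (l : G)⁻¹ ∈ T := (Subgroup.mem_normalizer_iff.mp l.2 t).mp ht
    have h1 := hl _ ht'
    have e : t⁻¹ * (((l⁻¹ : ↥(Subgroup.normalizer (T : Set G))) : G)⁻¹ * t *
        ((l⁻¹ : ↥(Subgroup.normalizer (T : Set G))) : G)) =
        (((l : G) * t * (l : G)⁻¹)⁻¹ * ((l : G)⁻¹ * ((l : G) * t * (l : G)⁻¹) * (l : G)))⁻¹ := by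
      simp only [Subgroup.coe_inv]; group
    rw [e]
    exact D.inv_mem h1

theorem mem_modKer {D T : Subgroup G}
    {hcl : ∀ d ∈ D, d ∈ T → ∀ m ∈ Subgroup.normalizer (T : Set G), m⁻¹ * d * m ∈ D}
    {l : ↥(Subgroup.normalizer (T : Set G))} :
    l ∈ modKer D T hcl ↔ ∀ t ∈ T, t⁻¹ * ((l : G)⁻¹ * t * (l : G)) ∈ D := Iff.rfl

instance modKer_normal (D T : Subgroup G)
    (hcl : ∀ d ∈ D, d ∈ T → ∀ m ∈ Subgroup.normalizer (T : Set G), m⁻¹ * d * m ∈ D) :
    (modKer D T hcl).Normal := by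
  constructor
  intro l hl n t ht
  have ht₁ : (n : G)⁻¹ * t * (n : G) ∈ T := inv_conj_mem_of_mem_normalizer n.2 ht
  have h1 := hl _ ht₁
  have h1T : ((n : G)⁻¹ * t * (n : G))⁻¹ * ((l : G)⁻¹ * ((n : G)⁻¹ * t * (n : G)) * (l : G)) ∈ T :=
    T.mul_mem (T.inv_mem ht₁) (inv_conj_mem_of_mem_normalizer l.2 ht₁)
  have h2 := hcl _ h1 h1T ((n : G)⁻¹) (inv_mem n.2)
  have e : t⁻¹ * (((n * l * n⁻¹ : ↥(Subgroup.normalizer (T : Set G))) : G)⁻¹ * t *
      ((n * l * n⁻¹ : ↥(Subgroup.normalizer (T : Set G))) : G)) =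
      (n : G)⁻¹⁻¹ * (((n : G)⁻¹ * t * (n : G))⁻¹ *
        ((l : G)⁻¹ * ((n : G)⁻¹ * t * (n : G)) * (l : G))) * (n : G)⁻¹ := by
    simp only [Subgroup.coe_mul, Subgroup.coe_inv]; group
  rw [e]
  exact h2

theorem pctl_of_tame [Finite G] {p : ℕ} [Fact p.Prime] (S : Sylow p G) (D : Subgroup G)
    (hsc : Cfsg.IsStronglyClosed D (S : Subgroup G)) :
    ∀ (d : ℕ) (T : Subgroup G), T ∈ tameFamily S →
      Nat.card (S : Subgroup G) - Nat.card T = d →
      ∀ x ∈ Subgroup.normalizer ((T : Subgroup G) : Set G), PCtl D (T : Set G) x := by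
  intro d
  induction d using Nat.strong_induction_on with
  | _ d IH =>
  intro T htame hd x hxN
  have hcardS : ∀ K : Subgroup G, K ≤ (S : Subgroup G) → Nat.card K ≤ Nat.card (S : Subgroup G) :=
    fun K hK => Subgroup.card_le_of_le hK
  have lemA : ∀ B : Subgroup G, B ≤ (S : Subgroup G) → Nat.card T < Nat.card B → ∀ g : G,
      cj g⁻¹ B ≤ (S : Subgroup G) → PCtl D (B : Set G) g := by
    intro B hB hlt g hg
    obtain ⟨l, hl, hprod⟩ := reach_tame S B hB g hg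
    rw [← hprod]
    apply pctl_of_chain D (tameFamily S) l _ _ hl
    intro q hq
    have hq𝓕 : q.1 ∈ tameFamily S := (hl.mem _ q hq).1
    have hqN := (hl.mem _ q hq).2
    have h1 : Nat.card B ≤ Nat.card q.1 := hl.card_le _ q hq
    have h2 := hcardS _ hq𝓕.1
    have h3 := hcardS _ htame.1
    exact IH (Nat.card (S : Subgroup G) - Nat.card q.1) (by omega) q.1 hq𝓕 rfl q.2 hqN
  have hDS : D ≤ (S : Subgroup G) := hsc.1
  have hTS : T ≤ (S : Subgroup G) := htame.1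
  have hDnS : ∀ s ∈ (S : Subgroup G), ∀ a ∈ D, s * a * s⁻¹ ∈ D := by
    intro s hs a ha
    exact hsc.2 a ha s (mul_mem (mul_mem hs (hDS ha)) (inv_mem hs))
  by_cases hDT : D ≤ T
  · have hx' : x⁻¹ ∈ Subgroup.normalizer (D : Set G) := by
      apply mem_normalizer_of_forall_conj_mem
      intro a ha
      apply hsc.2 a ha x⁻¹
      apply hTS
      exact (Subgroup.mem_normalizer_iff.mp (inv_mem hxN) a).mp (hDT ha)
    refine ⟨x, by simpa using inv_mem hx', fun b _ => ?_⟩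
    rw [inv_mul_cancel]
    exact D.one_mem
  · set N : Subgroup G := Subgroup.normalizer ((T : Subgroup G) : Set G) with hN
    have hTN : T ≤ N := Subgroup.le_normalizer
    have hS₀p : IsPGroup p ↥((S : Subgroup G) ⊓ N) := S.2.to_le inf_le_left
    obtain ⟨S₀, hS₀⟩ := Cfsg.Agent.Lib.Helper16.exists_sylow_of_relIndex
      ((S : Subgroup G) ⊓ N) N hS₀p htame.2
    have hcl : ∀ d ∈ D, d ∈ T → ∀ m ∈ Subgroup.normalizer (T : Set G), m⁻¹ * d * m ∈ D :=
      fun d hd hdT m hm => stronglyClosed_inv_conj_mem hsc hTS hd hdT hm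
    set K' : Subgroup ↥N := modKer D T hcl with hK'
    set T' : Subgroup ↥N := T.subgroupOf N with hT'
    haveI hT'n : T'.Normal := Subgroup.normal_in_normalizer
    have hfr := Cfsg.Agent.Lib.Helper27.frattini_inf S₀ K'
    have hxtop : (⟨x, hxN⟩ : ↥N) ∈
        Subgroup.normalizer ((((S₀ : Subgroup ↥N) ⊓ K' : Subgroup ↥N)) : Set ↥N) ⊔ K' := by
      rw [hfr]; exact Subgroup.mem_top _
    obtain ⟨y, hy, k, hk, hxyk⟩ := Subgroup.mem_sup_of_normal_right.mp hxtop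
    set R' : Subgroup ↥N := T' ⊔ ((S₀ : Subgroup ↥N) ⊓ K') with hR'
    set R : Subgroup G := R'.map N.subtype with hR
    have hR'S : R' ≤ (S : Subgroup G).subgroupOf N := by
      apply sup_le
      · intro t ht
        exact hTS ht
      · intro s hs
        have h1 : s ∈ (S₀ : Subgroup ↥N) := hs.1
        rw [hS₀, Subgroup.mem_subgroupOf] at h1
        exact h1.1
    have hRS : R ≤ (S : Subgroup G) := by
      rintro _ ⟨r, hr, rfl⟩
      exact hR'S hr
    have hTR : T ≤ R := by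
      intro t ht
      exact ⟨⟨t, hTN ht⟩, Subgroup.mem_sup_left (by rw [hT', Subgroup.mem_subgroupOf]; exact ht), rfl⟩
    have hTnD : T ≤ Subgroup.normalizer (D : Set G) := by
      intro t ht
      apply mem_normalizer_of_forall_conj_mem
      intro a ha
      exact hDnS t (hTS ht) a ha
    have hex : ∃ a ∈ D, a ∈ N ∧ a ∉ T := by
      by_contra hcon
      push Not at hcon
      have hTA : T ≠ T ⊔ D := fun h => hDT (by rw [h]; exact le_sup_right)
      have hTAS : T ⊔ D ≤ (S : Subgroup G) := sup_le hTS hDS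
      have hlt := card_lt_card_inf_normalizer (S.2.to_le hTAS) le_sup_left hTA
      have hle : (T ⊔ D) ⊓ N ≤ T := by
        intro u hu
        obtain ⟨hu1, hu2⟩ := Subgroup.mem_inf.mp hu
        rw [sup_comm] at hu1
        have hmul := Subgroup.coe_mul_of_right_le_normalizer_left D T hTnD
        have hu1' : u ∈ (D : Set G) * (T : Set G) := by rw [← hmul]; exact hu1
        obtain ⟨a, ha, t, ht, rfl⟩ := Set.mem_mul.mp hu1'
        have haN : a ∈ N := by
          have := N.mul_mem hu2 (N.inv_mem (hTN ht))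
          simpa using this
        exact T.mul_mem (hcon a ha haN) ht
      exact absurd (Subgroup.card_le_of_le hle) (not_le.mpr hlt)
    obtain ⟨a, haD, haN, haT⟩ := hex
    have haR : a ∈ R := by
      refine ⟨⟨a, haN⟩, Subgroup.mem_sup_right (Subgroup.mem_inf.mpr ⟨?_, ?_⟩), rfl⟩
      · rw [hS₀, Subgroup.mem_subgroupOf]
        exact ⟨hDS haD, haN⟩
      · rw [hK', mem_modKer]
        intro t ht
        have h1 : t⁻¹ * a⁻¹ * t⁻¹⁻¹ ∈ D := hDnS _ (inv_mem (hTS ht)) _ (D.inv_mem haD)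
        have e : t⁻¹ * (a⁻¹ * t * a) = (t⁻¹ * a⁻¹ * t⁻¹⁻¹) * a := by group
        show t⁻¹ * (a⁻¹ * t * a) ∈ D
        rw [e]
        exact D.mul_mem h1 haD
    have hlt : Nat.card T < Nat.card R := by
      apply lt_of_le_of_ne (Subgroup.card_le_of_le hTR)
      intro h
      have := Subgroup.eq_of_le_of_card_ge hTR h.ge
      exact haT (this ▸ haR)
    have hyR' : y ∈ Subgroup.normalizer (R' : Set ↥N) := by
      have h1 : Subgroup.zpowers y ≤ Subgroup.normalizer (T' : Set ↥N) := by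
        rw [Subgroup.normalizer_eq_top]; exact le_top
      have h2 : Subgroup.zpowers y ≤
          Subgroup.normalizer (((S₀ : Subgroup ↥N) ⊓ K' : Subgroup ↥N) : Set ↥N) := by
        rw [Subgroup.zpowers_le]; exact hy
      exact le_normalizer_sup_of_le h1 h2 (Subgroup.mem_zpowers y)
    have hyR : (y : G) ∈ Subgroup.normalizer (R : Set G) := by
      apply Subgroup.le_normalizer_map N.subtype
      exact ⟨y, hyR', rfl⟩
    have hcj : cj (y : G)⁻¹ R ≤ (S : Subgroup G) := by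
      rw [cj_eq_of_mem_normalizer (inv_mem hyR)]; exact hRS
    obtain ⟨n, hn, hnR⟩ := lemA R hRS hlt y hcj
    refine ⟨n, hn, fun t ht => ?_⟩
    have hxG : x = (y : G) * (k : G) := (congrArg Subtype.val hxyk).symm
    have ht₁ : (y : G)⁻¹ * t * (y : G) ∈ T := inv_conj_mem_of_mem_normalizer y.2 ht
    have hk' := (mem_modKer.mp hk) _ ht₁
    have e : (n⁻¹ * t * n)⁻¹ * (x⁻¹ * t * x) =
        ((n⁻¹ * t * n)⁻¹ * ((y : G)⁻¹ * t * (y : G))) *
          (((y : G)⁻¹ * t * (y : G))⁻¹ * ((k : G)⁻¹ * ((y : G)⁻¹ * t * (y : G)) * (k : G))) := by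
      rw [hxG]; group
    rw [e]
    exact D.mul_mem (hnR t (hTR ht)) hk'

/-- `N_G(D)` controls fusion in `S` modulo the strongly closed subgroup `D`. -/
theorem pctl_main [Finite G] {p : ℕ} [Fact p.Prime] (S : Sylow p G) (D : Subgroup G)
    (hsc : Cfsg.IsStronglyClosed D (S : Subgroup G)) (B : Set G) (hB : B ⊆ (S : Subgroup G)) (g : G)
    (hg : cjs g B ⊆ (S : Subgroup G)) : PCtl D B g := by
  set T : Subgroup G := Subgroup.closure B with hT
  have hTS : T ≤ (S : Subgroup G) := (Subgroup.closure_le _).mpr hB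
  have hTg : cj g⁻¹ T ≤ (S : Subgroup G) := by
    rw [cj_def, hT, MonoidHom.map_closure, Subgroup.closure_le]
    rintro _ ⟨b, hb, rfl⟩
    apply hg
    exact ⟨b, hb, by simp [MulAut.conj_apply]⟩
  obtain ⟨l, hl, hprod⟩ := reach_tame S T hTS g hTg
  have h1 : PCtl D (T : Set G) (prodOf l) := by
    apply pctl_of_chain D (tameFamily S) l _ _ hl
    intro q hq
    exact pctl_of_tame S D hsc _ q.1 (hl.mem _ q hq).1 rfl q.2 (hl.mem _ q hq).2
  rw [hprod] at h1
  exact h1.mono Subgroup.subset_closure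

end Cfsg.Agent.Lib.Helper17
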