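import Mathlib
import Cfsg.Prelude.Def_TwoFusion
import Cfsg.Prelude.Def_Transfer
import Cfsg.Agent.Lib.Helper12.PNilpotent
import Cfsg.Agent.Lib.Helper17.ModClosed
import Cfsg.Agent.Lib.Helper17.ZJClosed

/-!
# A Frobenius normal `p`-complement criterion relative to a strongly closed subgroup
-/

set_option autoImplicit false
open scoped Pointwise
open Cfsg.Agent.Lib.Helper12

universe u

namespace Cfsg.Agent.Lib.Helper17

variable {G : Type u} [Group G] [Finite G] {p : ℕ} [Fact p.Prime]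

/-- In a subgroup `M` with a normal `p`-complement, an element of `M` normalizing the `p`-subgroup
`P ≤ M` has a `p`-power power centralizing `P`. -/
theorem exists_pow_mem_centralizer_of_npc (M P : Subgroup G) (hPM : P ≤ M) (hP : IsPGroup p P)
    (hM : Cfsg.HasNormalPComplement p ↥M) (n : G) (hnM : n ∈ M)
    (hnP : n ∈ Subgroup.normalizer (P : Set G)) :
    ∃ e : ℕ, n ^ (p ^ e) ∈ Subgroup.centralizer (P : Set G) := by
  have hF := hasNormalPComplement_iff_frobCond.mp hM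
  have hP' : IsPGroup p (P.subgroupOf M) := hP.comap_subtype
  have hn' : (⟨n, hnM⟩ : ↥M) ∈ Subgroup.normalizer ((P.subgroupOf M : Subgroup ↥M) : Set ↥M) := by
    rw [Subgroup.mem_normalizer_iff]
    intro x
    rw [Subgroup.mem_subgroupOf, Subgroup.mem_subgroupOf]
    exact (Subgroup.mem_normalizer_iff.mp hnP) (x : G)
  obtain ⟨e, he⟩ := hF.exists_pow_mem_centralizer (P.subgroupOf M) hP' ⟨n, hnM⟩ hn'
  refine ⟨e, ?_⟩
  rw [Subgroup.mem_centralizer_iff]
  intro u hu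
  have := (Subgroup.mem_centralizer_iff.mp he) ⟨u, hPM hu⟩ (Subgroup.mem_subgroupOf.mpr hu)
  have h2 := congrArg Subtype.val this
  simpa using h2

/-- an element of order prime to `p` lies in every subgroup containing one of its `p`-power powers -/
theorem mem_of_pow_mem_of_coprime {H : Subgroup G} {g : G} (hg : (orderOf g).Coprime p) {e : ℕ}
    (h : g ^ (p ^ e) ∈ H) : g ∈ H := by
  have hc : (p ^ e).Coprime (orderOf g) := (Nat.Coprime.pow_right e hg).symm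
  obtain ⟨m, hm⟩ := exists_pow_eq_self_of_coprime hc
  rw [← hm]
  exact H.pow_mem h m

/-- the hypothesis of the criterion -/
def CentricNPC (p : ℕ) (D : Subgroup G) : Prop :=
  ∀ U : Subgroup G, U ≤ D → D ⊓ Subgroup.centralizer (U : Set G) ≤ U →
    Cfsg.HasNormalPComplement p ↥(Subgroup.normalizer (U : Set G))

theorem pow_mem_centralizer_of_tame (S : Sylow p G) (D : Subgroup G)
    (hsc : Cfsg.IsStronglyClosed D (S : Subgroup G)) (hH : CentricNPC p D)
    (V : Subgroup G) (hV : V ∈ tameFamily S) (hVD : V ≤ D) (x : G)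
    (hx : x ∈ Subgroup.normalizer (V : Set G)) :
    ∃ e : ℕ, x ^ (p ^ e) ∈ Subgroup.centralizer (V : Set G) := by
  set N : Subgroup G := Subgroup.normalizer ((V : Subgroup G) : Set G) with hN
  have hS₀p : IsPGroup p ↥((S : Subgroup G) ⊓ N) := S.2.to_le inf_le_left
  obtain ⟨S₀, hS₀⟩ := Cfsg.Agent.Lib.Helper16.exists_sylow_of_relIndex
    ((S : Subgroup G) ⊓ N) N hS₀p hV.2
  set C' : Subgroup ↥N := (Subgroup.centralizer (V : Set G)).subgroupOf N with hC'
  haveI hC'n : C'.Normal := by rw [hC', hN]; infer_instance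
  have hfr := Cfsg.Agent.Lib.Helper27.frattini_inf S₀ C'
  have hxtop : (⟨x, hx⟩ : ↥N) ∈
      Subgroup.normalizer ((((S₀ : Subgroup ↥N) ⊓ C' : Subgroup ↥N)) : Set ↥N) ⊔ C' := by
    rw [hfr]; exact Subgroup.mem_top _
  obtain ⟨y, hy, c, hc, hxyc⟩ := Subgroup.mem_sup_of_normal_right.mp hxtop
  have hCN : Subgroup.centralizer (V : Set G) ≤ N := Subgroup.centralizer_le_normalizer _
  -- `y` normalizes `D ∩ C_G(V)`
  have hyDC : (y : G) ∈ Subgroup.normalizer ((D ⊓ Subgroup.centralizer (V : Set G) : Subgroup G) : Set G) := by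
    apply mem_normalizer_of_forall_conj_mem
    intro d hd
    have hdN : d ∈ N := hCN hd.2
    have hd' : (⟨d, hdN⟩ : ↥N) ∈ (S₀ : Subgroup ↥N) ⊓ C' := by
      refine Subgroup.mem_inf.mpr ⟨?_, ?_⟩
      · rw [hS₀, Subgroup.mem_subgroupOf]
        exact ⟨hsc.1 hd.1, hdN⟩
      · rw [hC', Subgroup.mem_subgroupOf]
        exact hd.2
    have h1 := (Subgroup.mem_normalizer_iff.mp hy ⟨d, hdN⟩).mp hd'
    have h2 : (y * ⟨d, hdN⟩ * y⁻¹ : ↥N) ∈ (S₀ : Subgroup ↥N) := h1.1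
    rw [hS₀, Subgroup.mem_subgroupOf] at h2
    have h3 : (y * ⟨d, hdN⟩ * y⁻¹ : ↥N) ∈ C' := h1.2
    rw [hC', Subgroup.mem_subgroupOf] at h3
    have e : ((y * ⟨d, hdN⟩ * y⁻¹ : ↥N) : G) = (y : G) * d * (y : G)⁻¹ := by simp
    rw [e] at h2 h3
    exact ⟨hsc.2 d hd.1 (y : G) h2.1, h3⟩
  have hyU₁ : (y : G) ∈ Subgroup.normalizer
      ((V ⊔ (D ⊓ Subgroup.centralizer (V : Set G)) : Subgroup G) : Set G) := by
    have h1 : Subgroup.zpowers (y : G) ≤ Subgroup.normalizer (V : Set G) :=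
      Subgroup.zpowers_le.mpr y.2
    have h2 : Subgroup.zpowers (y : G) ≤
        Subgroup.normalizer ((D ⊓ Subgroup.centralizer (V : Set G) : Subgroup G) : Set G) :=
      Subgroup.zpowers_le.mpr hyDC
    exact le_normalizer_sup_of_le h1 h2 (Subgroup.mem_zpowers _)
  have hU₁D : V ⊔ (D ⊓ Subgroup.centralizer (V : Set G)) ≤ D := sup_le hVD inf_le_left
  have hU₁c : D ⊓ Subgroup.centralizer
      ((V ⊔ (D ⊓ Subgroup.centralizer (V : Set G)) : Subgroup G) : Set G) ≤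
      V ⊔ (D ⊓ Subgroup.centralizer (V : Set G)) := by
    refine le_trans ?_ le_sup_right
    exact inf_le_inf_left D (Subgroup.centralizer_le (le_sup_left (a := V)))
  have hnpc := hH _ hU₁D hU₁c
  have hU₁p : IsPGroup p ↥(V ⊔ (D ⊓ Subgroup.centralizer (V : Set G)) : Subgroup G) :=
    S.2.to_le (hU₁D.trans hsc.1)
  obtain ⟨e, he⟩ := exists_pow_mem_centralizer_of_npc _ _ Subgroup.le_normalizer hU₁p hnpc
    (y : G) hyU₁ hyU₁
  have heV : (y : G) ^ (p ^ e) ∈ Subgroup.centralizer (V : Set G) :=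
    Subgroup.centralizer_le (le_sup_left (a := V)) he
  refine ⟨e, ?_⟩
  -- `x ^ n ≡ y ^ n` modulo `C_G(V)`
  have hmk : (QuotientGroup.mk (⟨x, hx⟩ : ↥N) : ↥N ⧸ C') = QuotientGroup.mk y := by
    rw [← hxyc, QuotientGroup.mk_mul]
    have : (QuotientGroup.mk c : ↥N ⧸ C') = 1 := (QuotientGroup.eq_one_iff c).mpr hc
    rw [this, mul_one]
  have hmk2 : (QuotientGroup.mk ((⟨x, hx⟩ : ↥N) ^ (p ^ e)) : ↥N ⧸ C') =
      QuotientGroup.mk (y ^ (p ^ e)) := by
    rw [QuotientGroup.mk_pow, QuotientGroup.mk_pow, hmk]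
  have h3 : (y ^ (p ^ e))⁻¹ * (⟨x, hx⟩ : ↥N) ^ (p ^ e) ∈ C' := QuotientGroup.eq.mp hmk2.symm
  rw [hC', Subgroup.mem_subgroupOf] at h3
  have e2 : x ^ (p ^ e) = (y : G) ^ (p ^ e) *
      (((y ^ (p ^ e))⁻¹ * (⟨x, hx⟩ : ↥N) ^ (p ^ e) : ↥N) : G) := by
    simp
  rw [e2]
  exact Subgroup.mul_mem _ heV h3

theorem pow_mem_centralizer_of_le (S : Sylow p G) (D : Subgroup G)
    (hsc : Cfsg.IsStronglyClosed D (S : Subgroup G)) (hH : CentricNPC p D)
    (U : Subgroup G) (hUD : U ≤ D) (x : G)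
    (hx : x ∈ Subgroup.normalizer (U : Set G)) :
    ∃ e : ℕ, x ^ (p ^ e) ∈ Subgroup.centralizer (U : Set G) := by
  obtain ⟨b, V, hV, hbV, -⟩ := exists_tame_conj S (hUD.trans hsc.1)
  have hVD : V ≤ D := by
    rw [← hbV]
    rintro _ ⟨u, hu, rfl⟩
    have h1 : (MulAut.conj b).toMonoidHom u ∈ V := by rw [← hbV]; exact ⟨u, hu, rfl⟩
    exact hsc.2 u (hUD hu) b (hV.1 h1)
  have hx' : b * x * b⁻¹ ∈ Subgroup.normalizer (V : Set G) := by
    rw [← hbV, ← cj_normalizer]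
    exact ⟨x, hx, rfl⟩
  obtain ⟨e, he⟩ := pow_mem_centralizer_of_tame S D hsc hH V hV hVD _ hx'
  refine ⟨e, ?_⟩
  rw [Subgroup.mem_centralizer_iff]
  intro u hu
  have h1 : b * u * b⁻¹ ∈ V := by rw [← hbV]; exact ⟨u, hu, rfl⟩
  have h2 := (Subgroup.mem_centralizer_iff.mp he) _ h1
  rw [conj_pow] at h2
  have h3 : b * (u * x ^ p ^ e) * b⁻¹ = b * (x ^ p ^ e * u) * b⁻¹ := by
    calc b * (u * x ^ p ^ e) * b⁻¹ = b * u * b⁻¹ * (b * x ^ p ^ e * b⁻¹) := by group
      _ = b * x ^ p ^ e * b⁻¹ * (b * u * b⁻¹) := h2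
      _ = b * (x ^ p ^ e * u) * b⁻¹ := by group
  exact mul_left_cancel (mul_right_cancel h3)

theorem mem_centralizer_of_le_sylow (S : Sylow p G) (D : Subgroup G)
    (hsc : Cfsg.IsStronglyClosed D (S : Subgroup G)) (hH : CentricNPC p D)
    (Q : Subgroup G) (hQS : Q ≤ (S : Subgroup G)) (g : G)
    (hg : g ∈ Subgroup.normalizer (Q : Set G)) (hcop : (orderOf g).Coprime p) :
    g ∈ Subgroup.centralizer (Q : Set G) := by
  have hp : p.Prime := Fact.out
  have hgQ : ∀ q ∈ Q, g⁻¹ * q * g ∈ Q := fun q hq => inv_conj_mem_of_mem_normalizer hg hq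
  have hgjQ : ∀ (j : ℕ), ∀ q ∈ Q, g⁻¹ ^ j * q * g ^ j ∈ Q := by
    intro j q hq
    have := inv_conj_mem_of_mem_normalizer (Subgroup.pow_mem _ hg j) hq
    rwa [← inv_pow] at this
  -- (i) control modulo `D`
  obtain ⟨n, hn, hnQ⟩ := pctl_main S D hsc (Q : Set G) hQS g (by
    rintro _ ⟨q, hq, rfl⟩
    exact hQS (hgQ q hq))
  -- (ii) a `p`-power power of `n` centralizes `Q ⊔ D`
  have hM : Cfsg.HasNormalPComplement p ↥(Subgroup.normalizer (D : Set G)) :=
    hH D le_rfl inf_le_left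
  have hSM : (S : Subgroup G) ≤ Subgroup.normalizer (D : Set G) := stronglyClosed_le_normalizer hsc
  have hPS : Q ⊔ D ≤ (S : Subgroup G) := sup_le hQS hsc.1
  have hPp : IsPGroup p ↥(Q ⊔ D : Subgroup G) := S.2.to_le hPS
  have hDnorm : ∀ d ∈ D, n⁻¹ * d * n ∈ D := fun d hd => inv_conj_mem_of_mem_normalizer hn hd
  have hnP : n ∈ Subgroup.normalizer ((Q ⊔ D : Subgroup G) : Set G) := by
    have h1 : n⁻¹ ∈ Subgroup.normalizer ((Q ⊔ D : Subgroup G) : Set G) := by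
      apply mem_normalizer_of_map_conj_le
      rw [Subgroup.map_sup]
      apply sup_le
      · rintro _ ⟨q, hq, rfl⟩
        have h2 := D.inv_mem (hnQ q hq)
        have e : (MulAut.conj n⁻¹).toMonoidHom q =
            (g⁻¹ * q * g) * ((n⁻¹ * q * n)⁻¹ * (g⁻¹ * q * g))⁻¹ := by
          simp only [MulEquiv.coe_toMonoidHom, MulAut.conj_apply]; group
        rw [e]
        exact Subgroup.mul_mem _ (Subgroup.mem_sup_left (hgQ q hq)) (Subgroup.mem_sup_right h2)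
      · rintro _ ⟨d, hd, rfl⟩
        have e : (MulAut.conj n⁻¹).toMonoidHom d = n⁻¹ * d * n := by
          simp only [MulEquiv.coe_toMonoidHom, MulAut.conj_apply]; group
        rw [e]
        exact Subgroup.mem_sup_right (hDnorm d hd)
    simpa using inv_mem h1
  obtain ⟨e, he⟩ := exists_pow_mem_centralizer_of_npc _ (Q ⊔ D) (hPS.trans hSM) hPp hM n hn hnP
  -- (iii) iterate
  have hiter : ∀ (j : ℕ), ∀ q ∈ Q, (n⁻¹ ^ j * q * n ^ j)⁻¹ * (g⁻¹ ^ j * q * g ^ j) ∈ D := by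
    intro j
    induction j with
    | zero =>
      intro q _
      simp
    | succ j ih =>
      intro q hq
      have hqj := hgjQ j q hq
      have hdj := ih q hq
      have h1 := hnQ _ hqj
      have h2 := hDnorm _ hdj
      have e : (n⁻¹ ^ (j + 1) * q * n ^ (j + 1))⁻¹ * (g⁻¹ ^ (j + 1) * q * g ^ (j + 1)) =
          (n⁻¹ * ((n⁻¹ ^ j * q * n ^ j)⁻¹ * (g⁻¹ ^ j * q * g ^ j)) * n) *
            ((n⁻¹ * (g⁻¹ ^ j * q * g ^ j) * n)⁻¹ * (g⁻¹ * (g⁻¹ ^ j * q * g ^ j) * g)) := by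
        rw [pow_succ, pow_succ, pow_succ, pow_succ]
        have c1 : n⁻¹ ^ j * n⁻¹ = n⁻¹ * n⁻¹ ^ j := (pow_succ n⁻¹ j).symm.trans (pow_succ' n⁻¹ j)
        have c2 : g⁻¹ ^ j * g⁻¹ = g⁻¹ * g⁻¹ ^ j := (pow_succ g⁻¹ j).symm.trans (pow_succ' g⁻¹ j)
        rw [c1, c2]
        group
      rw [e]
      exact D.mul_mem h2 h1
  -- (iv) choose `j`
  have hcop' : (p ^ e).Coprime (orderOf g) := (Nat.Coprime.pow_right e hcop).symm
  obtain ⟨j, hj0, hj1⟩ := Nat.chineseRemainder hcop' 0 1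
  have hpe : p ^ e ∣ j := (Nat.modEq_zero_iff_dvd).mp hj0
  have hgj : g ^ j = g := by
    have := (pow_eq_pow_iff_modEq (x := g) (n := j) (m := 1)).mpr hj1
    rwa [pow_one] at this
  have hgj' : g⁻¹ ^ j = g⁻¹ := by rw [inv_pow, hgj]
  have hnj : n ^ j ∈ Subgroup.centralizer ((Q ⊔ D : Subgroup G) : Set G) := by
    obtain ⟨k, rfl⟩ := hpe
    rw [pow_mul]
    exact Subgroup.pow_mem _ he k
  have hstep : ∀ q ∈ Q, q⁻¹ * (g⁻¹ * q * g) ∈ D := by
    intro q hq
    have h1 := hiter j q hq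
    have h2 : n⁻¹ ^ j * q * n ^ j = q := by
      have hc := (Subgroup.mem_centralizer_iff.mp hnj) q (Subgroup.mem_sup_left hq)
      rw [inv_pow, mul_assoc, hc, ← mul_assoc, inv_mul_cancel, one_mul]
    rwa [h2, hgj, hgj'] at h1
  -- (v) `g` centralizes `Q ⊓ D`
  have hgN : g ∈ Subgroup.normalizer ((Q ⊓ D : Subgroup G) : Set G) := by
    apply mem_normalizer_of_forall_conj_mem
    intro u hu
    have h1 : g * u * g⁻¹ ∈ Q := (Subgroup.mem_normalizer_iff.mp hg u).mp hu.1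
    exact ⟨h1, hsc.2 u hu.2 g (hQS h1)⟩
  obtain ⟨e', he'⟩ := pow_mem_centralizer_of_le S D hsc hH (Q ⊓ D) inf_le_right g hgN
  have hgC : g ∈ Subgroup.centralizer ((Q ⊓ D : Subgroup G) : Set G) :=
    mem_of_pow_mem_of_coprime hcop he'
  -- (vi) conclusion
  rw [Subgroup.mem_centralizer_iff]
  intro q hq
  obtain ⟨c, hcdef⟩ : ∃ c, c = q⁻¹ * (g⁻¹ * q * g) := ⟨_, rfl⟩
  have hcQD : c ∈ Q ⊓ D := by
    rw [hcdef]
    exact ⟨Q.mul_mem (Q.inv_mem hq) (hgQ q hq), hstep q hq⟩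
  have hcg : c * g = g * c := (Subgroup.mem_centralizer_iff.mp hgC) c hcQD
  have hcig : ∀ i : ℕ, c ^ i * g = g * c ^ i := fun i => ((Commute.pow_left hcg i : Commute (c ^ i) g)).eq
  have hq1 : g⁻¹ * q * g = q * c := by rw [hcdef]; group
  have hpow : ∀ i : ℕ, g⁻¹ ^ i * q * g ^ i = q * c ^ i := by
    intro i
    induction i with
    | zero => simp
    | succ i ih =>
      have e1 : g⁻¹ ^ (i + 1) * q * g ^ (i + 1) = g⁻¹ * (g⁻¹ ^ i * q * g ^ i) * g := by
        rw [pow_succ' g⁻¹ i, pow_succ g i]; group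
      rw [e1, ih]
      calc g⁻¹ * (q * c ^ i) * g = (g⁻¹ * q * g) * (g⁻¹ * (c ^ i * g)) := by group
        _ = (q * c) * (g⁻¹ * (g * c ^ i)) := by rw [hq1, hcig i]
        _ = q * c ^ (i + 1) := by rw [pow_succ' c i]; group
  have hcm : c ^ orderOf g = 1 := by
    have h1 := hpow (orderOf g)
    rw [inv_pow, pow_orderOf_eq_one, inv_one, one_mul, mul_one] at h1
    exact (mul_eq_left.mp h1.symm)
  have hc1 : c = 1 := by
    obtain ⟨k, hk⟩ := (S.2.to_le hQS) ⟨c, hcQD.1⟩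
    have hk' : c ^ p ^ k = 1 := by
      have := congrArg Subtype.val hk
      simpa using this
    have d1 : orderOf c ∣ orderOf g := orderOf_dvd_of_pow_eq_one hcm
    have d2 : orderOf c ∣ p ^ k := orderOf_dvd_of_pow_eq_one hk'
    have h3 : (orderOf g).Coprime (p ^ k) := Nat.Coprime.pow_right k hcop
    exact orderOf_eq_one_iff.mp (Nat.eq_one_of_dvd_coprimes h3 d1 d2)
  rw [hc1, mul_one] at hq1
  calc q * g = g * (g⁻¹ * q * g) := by group
    _ = g * q := by rw [hq1]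

theorem frobCond_of_centricNPC (S : Sylow p G) (D : Subgroup G)
    (hsc : Cfsg.IsStronglyClosed D (S : Subgroup G)) (hH : CentricNPC p D) :
    Cfsg.Agent.Lib.Helper29.FrobCond p G := by
  intro Q hQ g hg hcop
  obtain ⟨a, -, ha⟩ := exists_conj_mem_sylow S ⊤ Q le_top le_top hQ
  have hQ'S : cj a Q ≤ (S : Subgroup G) := by
    rintro _ ⟨q, hq, rfl⟩
    simpa [MulAut.conj_apply] using ha q hq
  have hg' : a * g * a⁻¹ ∈ Subgroup.normalizer ((cj a Q : Subgroup G) : Set G) := by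
    rw [← cj_normalizer]
    exact ⟨g, hg, rfl⟩
  have hord : orderOf (a * g * a⁻¹) = orderOf g :=
    orderOf_injective (MulAut.conj a).toMonoidHom (MulAut.conj a).injective g
  have h1 := mem_centralizer_of_le_sylow S D hsc hH (cj a Q) hQ'S (a * g * a⁻¹) hg'
    (by rw [hord]; exact hcop)
  rw [Subgroup.mem_centralizer_iff]
  intro q hq
  have h2 := (Subgroup.mem_centralizer_iff.mp h1) (a * q * a⁻¹) ⟨q, hq, rfl⟩
  have h3 : a * (q * g) * a⁻¹ = a * (g * q) * a⁻¹ := by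
    calc a * (q * g) * a⁻¹ = a * q * a⁻¹ * (a * g * a⁻¹) := by group
      _ = a * g * a⁻¹ * (a * q * a⁻¹) := h2
      _ = a * (g * q) * a⁻¹ := by group
  exact mul_left_cancel (mul_right_cancel h3)

/-- **Frobenius criterion relative to a strongly closed subgroup** -/
theorem hasNormalPComplement_iff_centricNPC (S : Sylow p G) (D : Subgroup G)
    (hsc : Cfsg.IsStronglyClosed D (S : Subgroup G)) :
    Cfsg.HasNormalPComplement p G ↔ CentricNPC p D := by
  constructor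
  · intro h U _ _
    exact hasNormalPComplement_subgroup h _
  · intro hH
    exact hasNormalPComplement_iff_frobCond.mpr (frobCond_of_centricNPC S D hsc hH)

end Cfsg.Agent.Lib.Helper17
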