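import Cfsg.Agent.Lib.Helper17.FreeMod9

/-!
# Counting fixed points of a Frobenius group acting on an elementary abelian group
-/

set_option autoImplicit false

namespace Cfsg.Agent.Lib.Helper17
namespace FrobCount

open scoped BigOperators
open Module FreeMod

/-- a finite nontrivial solvable group has a proper, automorphism-invariant normal subgroup with
elementary abelian quotient. -/
theorem exists_top_section (G : Type*) [Group G] [Finite G] [Group.IsSolvable G] [Nontrivial G] :
    ∃ p : ℕ, p.Prime ∧ p ∣ Nat.card G ∧ ∃ M₀ : Subgroup G, M₀ ≠ ⊤ ∧ M₀.Normal ∧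
      (∀ φ : G ≃* G, ∀ x ∈ M₀, φ x ∈ M₀) ∧ (∀ a b : G, a * b * a⁻¹ * b⁻¹ ∈ M₀) ∧
      ∀ a : G, a ^ p ∈ M₀ := by
  classical
  have hlt : commutator G < ⊤ := Group.IsSolvable.commutator_lt_top_of_nontrivial G
  have hcard : Nat.card (Abelianization G) ≠ 1 := by
    intro h
    have h1 : (commutator G).index = 1 := h
    rw [Subgroup.index_eq_one] at h1
    exact hlt.ne h1
  set p := (Nat.card (Abelianization G)).minFac with hp
  have hpp : p.Prime := Nat.minFac_prime hcard
  have hpdvd : p ∣ Nat.card (Abelianization G) := Nat.minFac_dvd _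
  have hpG : p ∣ Nat.card G := by
    refine hpdvd.trans ?_
    have : Nat.card (Abelianization G) = (commutator G).index := rfl
    rw [this]
    exact Subgroup.index_dvd_card _
  have : Fact p.Prime := ⟨hpp⟩
  obtain ⟨z, hz⟩ := exists_prime_orderOf_dvd_card' p hpdvd
  have hz1 : z ≠ 1 := by
    intro h
    rw [h, orderOf_one] at hz
    exact hpp.one_lt.ne hz
  have hzp : z ^ p = 1 := by rw [← hz]; exact pow_orderOf_eq_one z
  let f : Abelianization G →* Abelianization G := powMonoidHom p
  have hf : ∀ x, f x = x ^ p := fun _ => rfl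
  have hninj : ¬ Function.Injective f := by
    intro hinj
    apply hz1
    apply hinj
    rw [hf, hzp, map_one]
  have hnsurj : ¬ Function.Surjective f := fun hs => hninj (Finite.injective_iff_surjective.mpr hs)
  refine ⟨p, hpp, hpG, f.range.comap Abelianization.of, ?_, inferInstance, ?_, ?_, ?_⟩
  · intro h
    apply hnsurj
    intro y
    obtain ⟨x, rfl⟩ := QuotientGroup.mk_surjective y
    have : x ∈ f.range.comap Abelianization.of := by rw [h]; trivial
    exact this
  · rintro φ x ⟨z, hz⟩
    refine ⟨Abelianization.map φ.toMonoidHom z, ?_⟩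
    show f (Abelianization.map φ.toMonoidHom z) = Abelianization.of (φ x)
    rw [hf, ← map_pow, ← hf, hz, Abelianization.map_of]
    rfl
  · intro a b
    show Abelianization.of (a * b * a⁻¹ * b⁻¹) ∈ f.range
    have : Abelianization.of (a * b * a⁻¹ * b⁻¹) = 1 := by
      rw [map_mul, map_mul, map_mul, map_inv, map_inv,
        mul_comm (Abelianization.of a) (Abelianization.of b)]
      group
    rw [this]
    exact one_mem _
  · intro a
    exact ⟨Abelianization.of a, by rw [hf, map_pow]⟩

universe u

/-- **Frobenius action on an elementary abelian group**: the counting formula. -/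
theorem abstract_formula_comm {A : Type u} [CommGroup A] [Finite A]
    {p : ℕ} (hp : p.Prime) (hexp : ∀ a : A, a ^ p = 1) {Γ : Type*} [Group Γ] [Finite Γ]
    (act : Γ →* MulAut A) (F H : Subgroup Γ) [F.Normal] (hnil : Group.IsNilpotent ↥F)
    (hpF : ¬ p ∣ Nat.card ↥F)
    (hfpf : ∀ h ∈ H, h ≠ 1 → ∀ f ∈ F, h * f * h⁻¹ = f → f = 1) :
    Nat.card {a : A // ∀ g ∈ F ⊔ H, act g a = a} ^ Nat.card ↥H * Nat.card A
      = Nat.card {a : A // ∀ g ∈ H, act g a = a} ^ Nat.card ↥H
        * Nat.card {a : A // ∀ g ∈ F, act g a = a} := by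
  classical
  have : Fact p.Prime := ⟨hp⟩
  obtain ⟨iM⟩ : Nonempty (Module (ZMod p) (Additive A)) :=
    ⟨AddCommGroup.zmodModule (n := p) (by
      intro x
      have h2 : p • x = Additive.ofMul ((Additive.toMul x) ^ p) := rfl
      rw [h2, hexp]; rfl)⟩
  let ρ : Γ →* Module.End (ZMod p) (Additive A) :=
    { toFun := fun g => (MonoidHom.toAdditive (act g).toMonoidHom).toZModLinearMap p
      map_one' := by
        apply LinearMap.ext
        intro x
        change Additive.ofMul ((act 1) (Additive.toMul x)) = x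
        rw [map_one]
        rfl
      map_mul' := fun g h => by
        apply LinearMap.ext
        intro x
        change Additive.ofMul ((act (g * h)) (Additive.toMul x)) =
          Additive.ofMul ((act g) (Additive.toMul (Additive.ofMul ((act h) (Additive.toMul x)))))
        rw [map_mul]
        rfl }
  have hρ : ∀ (g : Γ) (x : Additive A), ρ g x = Additive.ofMul (act g (Additive.toMul x)) :=
    fun _ _ => rfl
  have hfix : ∀ S : Subgroup Γ, Nat.card {a : A // ∀ g ∈ S, act g a = a}
      = p ^ finrank (ZMod p) (fixOn ρ S) := by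
    intro S
    have h1 := Module.natCard_eq_pow_finrank (K := ZMod p) (V := ↥(fixOn ρ S))
    rw [Nat.card_zmod] at h1
    rw [← h1]
    refine Nat.card_congr
      { toFun := fun a => ⟨Additive.ofMul a.1, mem_fixOn.mpr fun s hs => ?_⟩
        invFun := fun x => ⟨Additive.toMul x.1, fun g hg => ?_⟩
        left_inv := fun a => rfl
        right_inv := fun x => rfl }
    · rw [hρ]
      exact congrArg Additive.ofMul (a.2 s hs)
    · have := mem_fixOn.mp x.2 g hg
      rw [hρ] at this
      exact Additive.ofMul.injective this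
  have hA : Nat.card A = p ^ finrank (ZMod p) (Additive A) := by
    have h1 := Module.natCard_eq_pow_finrank (K := ZMod p) (V := Additive A)
    rw [Nat.card_zmod] at h1
    rw [← h1]
    exact Nat.card_congr Additive.ofMul
  have hchar : (Nat.card ↥F : ZMod p) ≠ 0 := by
    rw [Ne, ZMod.natCast_eq_zero_iff]
    exact hpF
  have key := frobenius_dim_formula ρ F H hnil hchar hfpf
  rw [hfix, hfix, hfix, hA, ← pow_mul, ← pow_mul, ← pow_add, ← pow_add]
  congr 1
  linarith [key, mul_comm (Nat.card ↥H) (finrank (ZMod p) ↥(fixOn ρ (F ⊔ H))),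
    mul_comm (Nat.card ↥H) (finrank (ZMod p) ↥(fixOn ρ H))]

/-- the same for a group known to be commutative. -/
theorem abstract_formula {A : Type u} [iG : Group A] [Finite A] (hcomm : ∀ a b : A, a * b = b * a)
    {p : ℕ} (hp : p.Prime) (hexp : ∀ a : A, a ^ p = 1) {Γ : Type*} [Group Γ] [Finite Γ]
    (act : Γ →* MulAut A) (F H : Subgroup Γ) [F.Normal] (hnil : Group.IsNilpotent ↥F)
    (hpF : ¬ p ∣ Nat.card ↥F)
    (hfpf : ∀ h ∈ H, h ≠ 1 → ∀ f ∈ F, h * f * h⁻¹ = f → f = 1) :
    Nat.card {a : A // ∀ g ∈ F ⊔ H, act g a = a} ^ Nat.card ↥H * Nat.card A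
      = Nat.card {a : A // ∀ g ∈ H, act g a = a} ^ Nat.card ↥H
        * Nat.card {a : A // ∀ g ∈ F, act g a = a} := by
  obtain ⟨iC, hiC⟩ : ∃ iC : CommGroup A, iC.toGroup = iG :=
    ⟨{ iG with mul_comm := hcomm }, rfl⟩
  subst hiC
  exact abstract_formula_comm hp hexp act F H hnil hpF hfpf

end FrobCount
end Cfsg.Agent.Lib.Helper17
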