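/-
Helper lemmas (helper17): translating between chains of Sylow subgroups (the `Link` relation
of `AG2`) and factorisations `g = y₁ ⋯ yₙ y₀` through members of a conjugation-closed family
(the format of `Cfsg.FamilyStronglyControlsFusion`).
-/
import Mathlib
import Cfsg.Prelude.Def_SylowControl
import Cfsg.Agent.Lib.Helper17.AG6

set_option autoImplicit false
open scoped Pointwise

namespace Cfsg.Agent.Lib.Helper17

variable {G : Type*} [Group G] {p : ℕ}

theorem ofFn_snoc_eq {α : Type*} {n : ℕ} (y : Fin n → α) (z : α) :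
    List.ofFn (Fin.snoc y z : Fin (n + 1) → α) = List.ofFn y ++ [z] := by
  rw [List.ofFn_succ', List.concat_eq_append]
  simp

theorem ofFn_eq_init_append {α : Type*} {n : ℕ} (y : Fin (n + 1) → α) :
    List.ofFn y = List.ofFn (fun j : Fin n => y j.castSucc) ++ [y (Fin.last n)] := by
  rw [List.ofFn_succ', List.concat_eq_append]

theorem take_append_singleton_of_lt {α : Type*} {n : ℕ} (y : Fin n → α) (z : α) (j : Fin n) :
    (List.ofFn y ++ [z]).take (j.val + 1) = (List.ofFn y).take (j.val + 1) := by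
  apply List.take_append_of_le_length
  rw [List.length_ofFn]
  exact j.isLt

theorem take_append_singleton_last {α : Type*} {n : ℕ} (y : Fin n → α) (z : α) :
    (List.ofFn y ++ [z]).take (n + 1) = List.ofFn y ++ [z] := by
  apply List.take_of_length_le
  simp

/-- A chain over `D` starting at `S` gives a factorisation through members of `𝓕(S)`. -/
theorem exists_factorization_of_link [Finite G] [Fact p.Prime] {𝓕 : Set (Subgroup G)}
    (h𝓕 : Cfsg.IsNormalSet 𝓕) {D : Subgroup G} {S T : Sylow p G} (h : Link p 𝓕 D S T) :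
    ∃ (n : ℕ) (Y : Fin n → Subgroup G) (y : Fin n → G),
      (∀ i, Y i ∈ Cfsg.sylowMembers p 𝓕 (S : Subgroup G) ∧ y i ∈ Y i) ∧
      T = (List.ofFn y).prod • S ∧
      ∀ i : Fin n, ∀ d ∈ D,
        (((List.ofFn y).take (i.val + 1)).prod)⁻¹ * d * ((List.ofFn y).take (i.val + 1)).prod ∈
          (S : Subgroup G) ⊓ Y i := by
  unfold Link at h
  induction h with
  | refl =>
    refine ⟨0, fun i => i.elim0, fun i => i.elim0, fun i => i.elim0, ?_, fun i => i.elim0⟩
    simp
  | @tail T' T _ hstep ih =>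
    obtain ⟨n, Y, y, hY, hT', hD⟩ := ih
    obtain ⟨X, x, hXT', hXT, hx, hT, hDT', hDT, hDX⟩ := hstep
    set u := (List.ofFn y).prod with hu
    have hXS : Cfsg.subgroupConjRight u X ∈ Cfsg.sylowMembers p 𝓕 (S : Subgroup G) := by
      apply sylowMembers_conj h𝓕
      rw [← hT']; exact hXT'
    have hzmem : u⁻¹ * x * u ∈ Cfsg.subgroupConjRight u X := by
      rw [mem_subgroupConjRight_iff]
      have : u * (u⁻¹ * x * u) * u⁻¹ = x := by group
      rw [this]; exact hx
    have hprod : (List.ofFn y ++ [u⁻¹ * x * u]).prod = x * u := by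
      rw [List.prod_append, List.prod_singleton, ← hu]; group
    refine ⟨n + 1, Fin.snoc Y (Cfsg.subgroupConjRight u X), Fin.snoc y (u⁻¹ * x * u), ?_, ?_, ?_⟩
    · intro i
      refine Fin.lastCases ?_ (fun j => ?_) i
      · rw [Fin.snoc_last, Fin.snoc_last]; exact ⟨hXS, hzmem⟩
      · rw [Fin.snoc_castSucc, Fin.snoc_castSucc]; exact hY j
    · rw [ofFn_snoc_eq, hprod, hT, hT', smul_smul]
    · intro i
      refine Fin.lastCases ?_ (fun j => ?_) i
      · intro d hd
        rw [ofFn_snoc_eq, Fin.val_last, take_append_singleton_last, hprod, Fin.snoc_last]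
        refine Subgroup.mem_inf.2 ⟨?_, ?_⟩
        · have h1 : d ∈ ((T : Sylow p G) : Subgroup G) := hDT hd
          rw [hT, hT', smul_smul, mem_sylow_smul_iff] at h1
          exact h1
        · rw [mem_subgroupConjRight_iff]
          have : u * ((x * u)⁻¹ * d * (x * u)) * u⁻¹ = x⁻¹ * d * x := by group
          rw [this]
          exact X.mul_mem (X.mul_mem (X.inv_mem hx) (hDX hd)) hx
      · intro d hd
        rw [ofFn_snoc_eq, Fin.val_castSucc, take_append_singleton_of_lt, Fin.snoc_castSucc]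
        exact hD j d hd

/-- A factorisation through members of `𝓕(S)` along which `D` stays inside `S ∩ Yᵢ` gives a
chain over `D` from `S` to `(y₁⋯yₙ) • S`. -/
theorem link_of_factorization [Finite G] [Fact p.Prime] {𝓕 : Set (Subgroup G)}
    (h𝓕 : Cfsg.IsNormalSet 𝓕) {D : Subgroup G} (S : Sylow p G) (hDS : D ≤ (S : Subgroup G)) :
    ∀ (n : ℕ) (Y : Fin n → Subgroup G) (y : Fin n → G),
      (∀ i, Y i ∈ Cfsg.sylowMembers p 𝓕 (S : Subgroup G) ∧ y i ∈ Y i) →
      (∀ i : Fin n, ∀ d ∈ D,
        (((List.ofFn y).take (i.val + 1)).prod)⁻¹ * d * ((List.ofFn y).take (i.val + 1)).prod ∈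
          (S : Subgroup G) ⊓ Y i) →
      Link p 𝓕 D S ((List.ofFn y).prod • S) ∧
        D ≤ (((List.ofFn y).prod • S : Sylow p G) : Subgroup G) := by
  intro n
  induction n with
  | zero =>
    intro Y y _ _
    simp only [List.ofFn_zero, List.prod_nil, one_smul]
    exact ⟨Link.refl S, hDS⟩
  | succ n ih =>
    intro Y y hY hD
    set y₀ : Fin n → G := fun j => y j.castSucc with hy₀
    set Y₀ : Fin n → Subgroup G := fun j => Y j.castSucc with hY₀
    have hlist : List.ofFn y = List.ofFn y₀ ++ [y (Fin.last n)] := ofFn_eq_init_append y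
    obtain ⟨hlink, hDu⟩ := ih Y₀ y₀ (fun j => hY j.castSucc) (by
      intro j d hd
      have := hD j.castSucc d hd
      rw [hlist, Fin.val_castSucc, take_append_singleton_of_lt] at this
      exact this)
    set u := (List.ofFn y₀).prod with hu
    set z := y (Fin.last n) with hz
    set Z := Y (Fin.last n) with hZ
    have hzZ : z ∈ Z := (hY (Fin.last n)).2
    have hZS : Z ∈ Cfsg.sylowMembers p 𝓕 (S : Subgroup G) := (hY (Fin.last n)).1
    have hprod : (List.ofFn y).prod = u * z := by
      rw [hlist, List.prod_append, List.prod_singleton]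
    have hlast : ∀ d ∈ D, (u * z)⁻¹ * d * (u * z) ∈ (S : Subgroup G) ⊓ Z := by
      intro d hd
      have := hD (Fin.last n) d hd
      rw [hlist, Fin.val_last, take_append_singleton_last, ← hlist, hprod] at this
      exact this
    have hXeq : Cfsg.subgroupConjRight u⁻¹ Z = Cfsg.subgroupConjRight (u * z)⁻¹ Z := by
      ext t
      rw [mem_subgroupConjRight_iff, mem_subgroupConjRight_iff]
      have e : (u * z)⁻¹ * t * (u * z)⁻¹⁻¹ = z⁻¹ * (u⁻¹ * t * u⁻¹⁻¹) * z := by group
      rw [e]
      constructor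
      · intro h; exact Z.mul_mem (Z.mul_mem (Z.inv_mem hzZ) h) hzZ
      · intro h
        have : u⁻¹ * t * u⁻¹⁻¹ = z * (z⁻¹ * (u⁻¹ * t * u⁻¹⁻¹) * z) * z⁻¹ := by group
        rw [this]; exact Z.mul_mem (Z.mul_mem hzZ h) (Z.inv_mem hzZ)
    have hX1 : Cfsg.subgroupConjRight u⁻¹ Z ∈
        Cfsg.sylowMembers p 𝓕 (((u • S : Sylow p G)) : Subgroup G) := by
      have : Z ∈ Cfsg.sylowMembers p 𝓕 ((u⁻¹ • (u • S) : Sylow p G) : Subgroup G) := by
        rw [inv_smul_smul]; exact hZS
      exact sylowMembers_conj h𝓕 this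
    have hX2 : Cfsg.subgroupConjRight u⁻¹ Z ∈
        Cfsg.sylowMembers p 𝓕 ((((u * z) • S : Sylow p G)) : Subgroup G) := by
      rw [hXeq]
      have : Z ∈ Cfsg.sylowMembers p 𝓕 (((u * z)⁻¹ • ((u * z) • S) : Sylow p G) : Subgroup G) := by
        rw [inv_smul_smul]; exact hZS
      exact sylowMembers_conj h𝓕 this
    have hDuz : D ≤ ((((u * z) • S : Sylow p G)) : Subgroup G) := by
      intro d hd
      rw [mem_sylow_smul_iff]
      exact (Subgroup.mem_inf.1 (hlast d hd)).1
    rw [hprod]
    refine ⟨hlink.trans (Link.of_step ?_), hDuz⟩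
    refine ⟨Cfsg.subgroupConjRight u⁻¹ Z, u * z * u⁻¹, hX1, hX2, ?_, ?_, hDu, hDuz, ?_⟩
    · rw [mem_subgroupConjRight_iff]
      have : u⁻¹ * (u * z * u⁻¹) * u⁻¹⁻¹ = z := by group
      rw [this]; exact hzZ
    · rw [smul_smul]
      congr 1
      group
    · intro d hd
      rw [hXeq, mem_subgroupConjRight_iff, inv_inv]
      exact (Subgroup.mem_inf.1 (hlast d hd)).2

end Cfsg.Agent.Lib.Helper17
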