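/-
helper17: S2318 leaf C1 `chev_hXU` (market of helper27, notes/S2318_leaves.lean):
`U = U_{s_i} X_{α_i}` inside `D.group F`.
-/
import Mathlib
import Cfsg.Agent.Lib.Helper27.GGDefs
import Cfsg.Agent.Lib.Helper6.BNRedB
import Cfsg.Agent.Lib.Helper6.ChevStX1

set_option autoImplicit false

namespace Cfsg.Agent.Lib.Helper17.GG

open Cfsg Cfsg.Agent.Lib.Helper3.BN Cfsg.Agent.Lib.Helper3.WordLen Cfsg.Agent.Lib.Helper6.BNSt
open Cfsg.Agent.Lib.Helper6.CoxRed Cfsg.Agent.Lib.Helper27.GG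
open Cfsg.Lie Cfsg.Agent.Lib.Helper7 Cfsg.Agent.Lib.Helper6.ChevSt Cfsg.Agent.Lib.Helper6.ChevStX1
open scoped Pointwise

variable (D : ChevalleyDatum) (hD : D ∈ [chevG2, chevB2, chevD4, chevF4, chevE6, chevE7, chevE8])
variable (F : Type*) [Field F]

/-- the root subgroup of the `i`-th fundamental root inside `D.group F` -/
abbrev Xc (i : ℕ) : Subgroup ↥(D.group F) := (D.rootSubgroup F (D.simple i)).subgroupOf (D.group F)

/-- `U_{s_i} = ⟨X_r : r > 0, r ≠ α_i⟩` inside `D.group F` -/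
abbrev Usc (i : ℕ) : Subgroup ↥(D.group F) := (upSubgroup D F i).subgroupOf (D.group F)

include hD

theorem up_le_posUnipotent (i : ℕ) (hi : i < D.rank) : upSubgroup D F i ≤ D.posUnipotent F := by
  rw [← up_sup_rootSubgroup D hD F i hi]
  exact le_sup_left

theorem simpleRoot_le_posUnipotent (i : ℕ) (hi : i < D.rank) :
    D.rootSubgroup F (D.simple i) ≤ D.posUnipotent F := by
  rw [← up_sup_rootSubgroup D hD F i hi]
  exact le_sup_right

variable [Fintype F]

/-- **C1** (`up_sup_rootSubgroup`, `rootSubgroup_le_normalizer_up`) -/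
theorem chev_hXU (i : Fin D.rank) : ∀ u ∈ Uc D F, ∃ y ∈ Usc D F i, ∃ x ∈ Xc D F i, u = y * x := by
  intro u hu
  have hu' : (u : GL D.Idx F) ∈ D.posUnipotent F := Subgroup.mem_subgroupOf.1 hu
  have hmem : (u : GL D.Idx F) ∈
      ((upSubgroup D F i ⊔ D.rootSubgroup F (D.simple i) : Subgroup (GL D.Idx F)) :
        Set (GL D.Idx F)) := by
    rw [up_sup_rootSubgroup D hD F i i.2]
    exact hu'
  rw [Subgroup.coe_mul_of_right_le_normalizer_left _ _
    (le_trans le_sup_left (rootSubgroup_le_normalizer_up D hD F i i.2)), Set.mem_mul] at hmem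
  obtain ⟨y, hy, x, hx, hyx⟩ := hmem
  have hyG : y ∈ D.group F :=
    posUnipotent_le_group D hD F (up_le_posUnipotent D hD F i i.2 hy)
  have hxG : x ∈ D.group F :=
    posUnipotent_le_group D hD F (simpleRoot_le_posUnipotent D hD F i i.2 hx)
  refine ⟨⟨y, hyG⟩, Subgroup.mem_subgroupOf.2 hy, ⟨x, hxG⟩, Subgroup.mem_subgroupOf.2 hx, ?_⟩
  apply Subtype.ext
  rw [Subgroup.coe_mul]
  exact hyx.symm

end Cfsg.Agent.Lib.Helper17.GG
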