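/-
helper17: S2318 leaf C2 `chev_hXUs` (market of helper27, notes/S2318_leaves.lean):
`X_{α_i} ⊓ U_{s_i} = ⊥` inside `D.group F`  (conjugate by `n_i`: `X_{-α_i} ⊓ U = ⊥`).
-/
import Mathlib
import Cfsg.Agent.Lib.Helper27.GGDefs
import Cfsg.Agent.Lib.Helper6.BNRedB
import Cfsg.Agent.Lib.Helper6.ChevStX1
import Cfsg.Agent.Lib.Helper7.ChevRank1
import Cfsg.Agent.Lib.Helper7.ChevCanon2
import Cfsg.Agent.Lib.Helper17.GGC1

set_option autoImplicit false

namespace Cfsg.Agent.Lib.Helper17.GG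

open Cfsg Cfsg.Agent.Lib.Helper3.BN Cfsg.Agent.Lib.Helper3.WordLen Cfsg.Agent.Lib.Helper6.BNSt
open Cfsg.Agent.Lib.Helper6.CoxRed Cfsg.Agent.Lib.Helper27.GG
open Cfsg.Lie Cfsg.Agent.Lib.Helper7 Cfsg.Agent.Lib.Helper6.ChevSt Cfsg.Agent.Lib.Helper6.ChevStX1

variable (D : ChevalleyDatum) (hD : D ∈ [chevG2, chevB2, chevD4, chevF4, chevE6, chevE7, chevE8])
variable (F : Type*) [Field F]

include hD

/-- in `GL`: `X_{α_i} ⊓ U_{s_i} = ⊥` -/
theorem rootSubgroup_inf_up (i : ℕ) (hi : i < D.rank) :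
    D.rootSubgroup F (D.simple i) ⊓ upSubgroup D F i = ⊥ := by
  rw [Subgroup.eq_bot_iff_forall]
  intro x hx
  obtain ⟨hx1, hx2⟩ := Subgroup.mem_inf.1 hx
  obtain ⟨t, rfl⟩ := (mem_rootSubgroup_iff D hD F _ _).1 hx1
  have hn := nFund_mem_normalizer_up D hD F i hi
  rw [Subgroup.mem_set_normalizer_iff] at hn
  have h1 : nFund D hD F i * xGL D hD F (D.simple i) t * (nFund D hD F i)⁻¹ ∈ upSubgroup D F i :=
    (hn _).1 hx2
  have h2 : nFund D hD F i * xGL D hD F (D.simple i) t * (nFund D hD F i)⁻¹ ∈ D.posUnipotent F :=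
    up_le_posUnipotent D hD F i hi h1
  have h3 := nFund_conj_simple_mem D hD F i hi t
  have h4 : nFund D hD F i * xGL D hD F (D.simple i) t * (nFund D hD F i)⁻¹ ∈
      D.posUnipotent F ⊓ D.negUnipotent F := Subgroup.mem_inf.2 ⟨h2, h3⟩
  rw [posUnipotent_inf_negUnipotent D hD F, Subgroup.mem_bot] at h4
  have h5 : xGL D hD F (D.simple i) t =
      (nFund D hD F i)⁻¹ * (nFund D hD F i * xGL D hD F (D.simple i) t * (nFund D hD F i)⁻¹) *
        nFund D hD F i := by group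
  rw [h5, h4]
  group

variable [Fintype F]

/-- **C2** (unique factorisation in `U`) -/
theorem chev_hXUs (i : Fin D.rank) : Xc D F i ⊓ Usc D F i = ⊥ := by
  rw [Subgroup.eq_bot_iff_forall]
  intro x hx
  obtain ⟨hx1, hx2⟩ := Subgroup.mem_inf.1 hx
  have h1 : (x : GL D.Idx F) ∈ D.rootSubgroup F (D.simple i) ⊓ upSubgroup D F i :=
    Subgroup.mem_inf.2 ⟨Subgroup.mem_subgroupOf.1 hx1, Subgroup.mem_subgroupOf.1 hx2⟩
  rw [rootSubgroup_inf_up D hD F i i.2, Subgroup.mem_bot] at h1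
  exact Subtype.ext h1

end Cfsg.Agent.Lib.Helper17.GG
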