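import Mathlib
import Cfsg.Agent.Lib.Helper18.Glaub2Defs
import Cfsg.Prelude.Def_Solvable
import Cfsg.Prelude.Def_CaseTheorems
import Cfsg.Agent.Lib.Helper1.Fitting

/-!
# S4385 market "GLAUB2": leaf A3 `sylow_facts` (helper17)
-/

set_option autoImplicit false

namespace Cfsg.Agent.Lib.Helper17.GLAUB2A3

open Cfsg Cfsg.Agent.Lib.Helper18.Sims3 Cfsg.Agent.Lib.Helper18.Glaub

variable {G : Type*} [Group G]

/-- LEAF A3 (Sylow facts, ambient form). -/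
theorem sylow_facts [Finite G] (H P : Subgroup G) (n : ℕ) (hodd : Odd n)
    (hcard : Nat.card ↥H = 2 * n * Nat.card ↥(Cfsg.pCore 2 ↥H))
    (hPH : P ≤ H) (hP : IsPGroup 2 ↥P) (hPsyl : ¬ 2 ∣ P.relIndex H) :
    (Cfsg.pCore 2 ↥H).map H.subtype ≤ P ∧
    Nat.card ↥P = 2 * Nat.card ↥((Cfsg.pCore 2 ↥H).map H.subtype) ∧
    Nat.card ↥H = 2 * n * Nat.card ↥((Cfsg.pCore 2 ↥H).map H.subtype) ∧
    H ≤ Subgroup.normalizer (((Cfsg.pCore 2 ↥H).map H.subtype : Subgroup G) : Set G) ∧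
    Cfsg.pCore 2 ↥H ≤ P.subgroupOf H ∧
    Nat.card ↥(P.subgroupOf H) = 2 * Nat.card ↥(Cfsg.pCore 2 ↥H) := by
  classical
  have : Fact (Nat.Prime 2) := ⟨Nat.prime_two⟩
  -- `P.subgroupOf H` is a Sylow `2`-subgroup of `↥H`
  have hP0 : IsPGroup 2 ↥(P.subgroupOf H) := hP.comap_subtype
  have hidx : ¬ 2 ∣ (P.subgroupOf H).index := hPsyl
  let S : Sylow 2 ↥H := hP0.toSylow hidx
  have hS : (S : Subgroup ↥H) = P.subgroupOf H := rfl
  have hle0 : Cfsg.pCore 2 ↥H ≤ P.subgroupOf H := by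
    rw [← hS]
    exact Cfsg.Agent.Lib.Helper1.pCore_le_sylow S
  have hcardT : Nat.card ↥((Cfsg.pCore 2 ↥H).map H.subtype) = Nat.card ↥(Cfsg.pCore 2 ↥H) :=
    Subgroup.card_map_of_injective H.subtype_injective
  have hcardP : Nat.card ↥(P.subgroupOf H) = Nat.card ↥P :=
    Nat.card_congr (Subgroup.subgroupOfEquivOfLe hPH).toEquiv
  -- the order computation
  have hT2 : IsPGroup 2 ↥(Cfsg.pCore 2 ↥H) := Cfsg.Agent.Lib.Helper1.pCore_isPGroup 2 ↥H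
  obtain ⟨a, ha⟩ := IsPGroup.iff_card.mp hP0
  obtain ⟨b, hb⟩ := IsPGroup.iff_card.mp hT2
  have hmul : Nat.card ↥(P.subgroupOf H) * (P.subgroupOf H).index = Nat.card ↥H :=
    Subgroup.card_mul_index _
  have hrodd : Nat.Coprime 2 (P.subgroupOf H).index :=
    (Nat.Prime.coprime_iff_not_dvd Nat.prime_two).mpr hidx
  have hnodd : Nat.Coprime 2 n :=
    (Nat.Prime.coprime_iff_not_dvd Nat.prime_two).mpr (fun h => by
      obtain ⟨k, hk⟩ := hodd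
      omega)
  have heq : 2 ^ a * (P.subgroupOf H).index = 2 ^ (b + 1) * n := by
    rw [← ha, hmul, hcard, hb, pow_succ]
    ring
  have h1 : 2 ^ a ∣ 2 ^ (b + 1) :=
    (Nat.Coprime.pow_left a hnodd).dvd_of_dvd_mul_right (Dvd.intro _ heq)
  have h2 : 2 ^ (b + 1) ∣ 2 ^ a :=
    (Nat.Coprime.pow_left (b + 1) hrodd).dvd_of_dvd_mul_right (Dvd.intro _ heq.symm)
  have hab : 2 ^ a = 2 ^ (b + 1) := Nat.dvd_antisymm h1 h2
  have hc0 : Nat.card ↥(P.subgroupOf H) = 2 * Nat.card ↥(Cfsg.pCore 2 ↥H) := by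
    rw [ha, hb, hab, pow_succ, mul_comm]
  refine ⟨?_, ?_, ?_, ?_, hle0, hc0⟩
  · calc (Cfsg.pCore 2 ↥H).map H.subtype ≤ (P.subgroupOf H).map H.subtype := Subgroup.map_mono hle0
      _ = P ⊓ H := Subgroup.subgroupOf_map_subtype P H
      _ ≤ P := inf_le_left
  · rw [hcardT, ← hcardP, hc0]
  · rw [hcardT, hcard]
  · have hn : (Cfsg.pCore 2 ↥H).Normal := Cfsg.Agent.Lib.Helper1.pCore_normal 2 ↥H
    have h3 := Subgroup.le_normalizer_map (H := Cfsg.pCore 2 ↥H) H.subtype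
    rw [Subgroup.normalizer_eq_top, ← MonoidHom.range_eq_map, Subgroup.range_subtype] at h3
    exact h3

end Cfsg.Agent.Lib.Helper17.GLAUB2A3
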