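import Mathlib
import Cfsg.Agent.Lib.Helper18.Glaub2Defs
import Cfsg.Prelude.Def_Solvable
import Cfsg.Prelude.Def_CaseTheorems

/-!
# S4385 market "GLAUB2": leaf DL3 `two_mul_le_d` (helper17; port of helper5's SIMS-L3)
-/

set_option autoImplicit false

namespace Cfsg.Agent.Lib.Helper17.GLAUB2DL3

open Cfsg Cfsg.Agent.Lib.Helper18.Sims3 Cfsg.Agent.Lib.Helper18.Glaub

variable {G : Type*} [Group G]

/-- the generators are nontrivial. -/
theorem x_ne_one_d {g : G} {x : ℕ → G} {t : ℕ} (h : DData g x t) (h1 : 1 ≤ t) (i : ℕ) :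
    x i ≠ 1 := by
  intro hx
  have hc := h.pdata.card i i le_rfl (by omega)
  have : Hx x i i = ⊥ := by
    unfold Hx
    rw [Set.Icc_self, Set.image_singleton, hx, Subgroup.closure_singleton_one]
  rw [this, Subgroup.card_bot] at hc
  norm_num at hc

/-- LEAF DL3 (port of SIMS-L3). -/
theorem two_mul_le_d [Finite G] {g : G} {x : ℕ → G} {t : ℕ} (h : DData g x t) (h1 : 1 ≤ t)
    (l : ℕ) (hl1 : 1 ≤ l) (hlt : l ≤ t) (hl : CommLt x l) : 2 * l ≤ t + 2 := by
  by_contra hcon
  rw [not_le] at hcon
  -- general commutation: |i - j| < l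
  have hcomm : ∀ i j, i < j + l → j < i + l → Commute (x i) (x j) := by
    intro i j h1 h2
    rcases le_total i j with hij | hij
    · have := hl i (j - i) (by omega)
      rwa [show i + (j - i) = j by omega] at this
    · have := hl j (i - j) (by omega)
      rw [show j + (i - j) = i by omega] at this
      exact this.symm
  have hin : l - 1 ≤ t - 1 := by omega
  have hi : ∀ j, j ≤ t + 1 → Commute (x j) (x (l - 1)) :=
    fun j hj => hcomm j (l - 1) (by omega) (by omega)
  have hN : Subgroup.zpowers (x (l - 1)) = ⊥ := by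
    apply h.coreP
    · rw [Subgroup.zpowers_le]
      exact Subgroup.subset_closure ⟨l - 1, ⟨Nat.zero_le _, hin⟩, rfl⟩
    · intro j hj
      have hc : Commute (x j) (x (l - 1)) := hi j hj
      rw [Subgroup.mem_normalizer_iff]
      intro w
      have hcz : ∀ w ∈ Subgroup.zpowers (x (l - 1)), x j * w * (x j)⁻¹ = w := by
        rintro _ ⟨k, rfl⟩
        have : Commute (x j) (x (l - 1) ^ k) := hc.zpow_right k
        rw [this.eq, mul_inv_cancel_right]
      constructor
      · intro hw
        rw [hcz w hw]; exact hw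
      · intro hw
        have := hcz _ hw
        have e : w = x j * w * (x j)⁻¹ := by
          have e2 : (x j)⁻¹ * (x j * (x j * w * (x j)⁻¹) * (x j)⁻¹) * x j =
              (x j)⁻¹ * (x j * w * (x j)⁻¹) * x j := by
            rw [this]
          have l1 : (x j)⁻¹ * (x j * (x j * w * (x j)⁻¹) * (x j)⁻¹) * x j = x j * w * (x j)⁻¹ := by
            group
          have l2 : (x j)⁻¹ * (x j * w * (x j)⁻¹) * x j = w := by group
          rw [l1, l2] at e2
          exact e2.symm
        rw [e]; exact hw
  exact x_ne_one_d h h1 (l - 1) (Subgroup.zpowers_eq_bot.mp hN)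

end Cfsg.Agent.Lib.Helper17.GLAUB2DL3
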