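import Mathlib
import Cfsg.Agent.Lib.Helper18.Glaub2Defs
import Cfsg.Prelude.Def_Solvable
import Cfsg.Prelude.Def_CaseTheorems
import Cfsg.Agent.Lib.Helper12.Cores

/-!
# S4385 market "GLAUB2": leaf IDS `image_in_quotient_oddCore` (helper17)
-/

set_option autoImplicit false

namespace Cfsg.Agent.Lib.Helper17.GLAUB2IDS

open Cfsg Cfsg.Agent.Lib.Helper18.Sims3 Cfsg.Agent.Lib.Helper18.Glaub

variable {G : Type*} [Group G]

/-- LEAF IDS (images of a subgroup of order 8 and of a central involution in the quotient). -/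
theorem image_in_quotient_oddCore [Finite G] (H S : Subgroup G) (hSH : S ≤ H)
    (hS : Nat.card ↥S = 8)
    (z : G) (hzH : z ∈ H) (hz2 : z * z = 1) (hzc : ∀ h ∈ H, h * z = z * h) (hzS : z ∉ S) :
    Nat.card ↥((S.subgroupOf H).map (QuotientGroup.mk' (Cfsg.oddCore ↥H))) = 8 ∧
    (QuotientGroup.mk' (Cfsg.oddCore ↥H) ⟨z, hzH⟩) ∉
      (S.subgroupOf H).map (QuotientGroup.mk' (Cfsg.oddCore ↥H)) := by
  classical
  have hR : (Nat.card ↥(Cfsg.oddCore ↥H)).Coprime 2 :=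
    Cfsg.Agent.Lib.Helper12.pPrimeCore_coprime (X := ↥H) 2
  have hcS0 : Nat.card ↥(S.subgroupOf H) = 8 := by
    rw [← hS]
    exact Nat.card_congr (Subgroup.subgroupOfEquivOfLe hSH).toEquiv
  have hcop : (Nat.card ↥(S.subgroupOf H)).Coprime (Nat.card ↥(Cfsg.oddCore ↥H)) := by
    rw [hcS0]
    have h8 : (8 : ℕ) = 2 ^ 3 := by norm_num
    rw [h8]
    exact Nat.Coprime.pow_left 3 hR.symm
  have hinf : S.subgroupOf H ⊓ Cfsg.oddCore ↥H = ⊥ := (Subgroup.disjoint_of_coprime_natCard hcop).eq_bot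
  constructor
  · let f : ↥(S.subgroupOf H) →* (↥H ⧸ Cfsg.oddCore ↥H) :=
      (QuotientGroup.mk' (Cfsg.oddCore ↥H)).comp (S.subgroupOf H).subtype
    have hf : Function.Injective f := by
      rw [injective_iff_map_eq_one]
      intro s hs
      have h1 : ((s : ↥H) : ↥H ⧸ Cfsg.oddCore ↥H) = 1 := hs
      have h2 : (s : ↥H) ∈ Cfsg.oddCore ↥H := (QuotientGroup.eq_one_iff _).mp h1
      have h3 : (s : ↥H) ∈ S.subgroupOf H ⊓ Cfsg.oddCore ↥H := Subgroup.mem_inf.mpr ⟨s.2, h2⟩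
      rw [hinf, Subgroup.mem_bot] at h3
      exact Subtype.ext h3
    have hrange : f.range = (S.subgroupOf H).map (QuotientGroup.mk' (Cfsg.oddCore ↥H)) := by
      rw [MonoidHom.range_comp, Subgroup.range_subtype]
    rw [← hrange, ← hcS0]
    exact Nat.card_congr (MonoidHom.ofInjective hf).toEquiv.symm
  · rintro ⟨s, hs, hsz⟩
    -- `r := s⁻¹ z` lies in the odd core and is a `2`-element
    have hr : s⁻¹ * (⟨z, hzH⟩ : ↥H) ∈ Cfsg.oddCore ↥H := by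
      have h1 : ((s : ↥H) : ↥H ⧸ Cfsg.oddCore ↥H) = ((⟨z, hzH⟩ : ↥H) : ↥H ⧸ Cfsg.oddCore ↥H) := hsz
      exact QuotientGroup.eq.mp h1
    have hzc' : Commute (s⁻¹ : ↥H) (⟨z, hzH⟩ : ↥H) := by
      apply Subtype.ext
      show ((s⁻¹ : ↥H) : G) * z = z * ((s⁻¹ : ↥H) : G)
      exact hzc _ (s⁻¹).2
    have hs8 : s ^ 8 = 1 := by
      have h1 : (⟨s, hs⟩ : ↥(S.subgroupOf H)) ^ 8 = 1 := by
        rw [← hcS0]
        exact pow_card_eq_one'
      exact congrArg Subtype.val h1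
    have hz8 : (⟨z, hzH⟩ : ↥H) ^ 8 = 1 := by
      apply Subtype.ext
      show z ^ 8 = 1
      have h2 : z ^ 2 = 1 := by rw [pow_two]; exact hz2
      calc z ^ 8 = (z ^ 2) ^ 4 := by rw [← pow_mul]
        _ = 1 := by rw [h2, one_pow]
    have hr8 : (s⁻¹ * (⟨z, hzH⟩ : ↥H)) ^ 8 = 1 := by
      rw [hzc'.mul_pow, inv_pow, hs8, hz8, inv_one, one_mul]
    have ho1 : orderOf (s⁻¹ * (⟨z, hzH⟩ : ↥H)) ∣ 8 := orderOf_dvd_of_pow_eq_one hr8
    have ho2 : orderOf (s⁻¹ * (⟨z, hzH⟩ : ↥H)) ∣ Nat.card ↥(Cfsg.oddCore ↥H) := by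
      have h1 := orderOf_dvd_natCard (⟨s⁻¹ * (⟨z, hzH⟩ : ↥H), hr⟩ : ↥(Cfsg.oddCore ↥H))
      rwa [← Subgroup.orderOf_coe] at h1
    have h8 : (8 : ℕ) = 2 ^ 3 := by norm_num
    have hcop8 : Nat.Coprime 8 (Nat.card ↥(Cfsg.oddCore ↥H)) := by
      rw [h8]
      exact Nat.Coprime.pow_left 3 hR.symm
    have ho : orderOf (s⁻¹ * (⟨z, hzH⟩ : ↥H)) = 1 :=
      Nat.eq_one_of_dvd_coprimes hcop8 ho1 ho2
    have h1 : s⁻¹ * (⟨z, hzH⟩ : ↥H) = 1 := orderOf_eq_one_iff.mp ho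
    have h2 : (⟨z, hzH⟩ : ↥H) = s := by
      have := congrArg (fun w => s * w) h1
      simpa using this
    apply hzS
    have h3 : ((⟨z, hzH⟩ : ↥H) : G) ∈ S := by
      rw [h2]
      exact Subgroup.mem_subgroupOf.mp hs
    exact h3

end Cfsg.Agent.Lib.Helper17.GLAUB2IDS
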