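import Mathlib
import Cfsg.Agent.Lib.Helper18.GlaubDefs

set_option autoImplicit false

/-!
Helper17: leaf GLAUB-G1 of the S4359 market (planner helper18): under the hypotheses of
Glauberman's theorem `P` is a `p`-group.
-/

namespace Cfsg.Agent.Lib.Helper17.GLAUBG1

open Cfsg Cfsg.Agent.Lib.Helper18.Sims3 Cfsg.Agent.Lib.Helper18.Glaub

variable {G : Type*} [Group G]

/-- an element of `p'`-order of a group lies in every normal subgroup of index `p`. -/
theorem mem_of_coprime_of_index {K : Type*} [Group K] (Q : Subgroup K) [Q.Normal] (p : ℕ)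
    (hidx : Q.index = p) (u : K) (hfin : 0 < orderOf u) (hcop : (orderOf u).Coprime p) : u ∈ Q := by
  have hpow : u ^ p ∈ Q := by rw [← hidx]; exact Q.pow_index_mem u
  rcases Nat.lt_or_ge 1 (orderOf u) with h1 | h1
  · obtain ⟨m, -, hm⟩ := Nat.exists_mul_mod_eq_one_of_coprime hcop.symm h1
    have : u = (u ^ p) ^ m := by
      rw [← pow_mul, ← pow_mod_orderOf, hm, pow_one]
    rw [this]
    exact Q.pow_mem hpow m
  · have : orderOf u = 1 := by omega
    rw [orderOf_eq_one_iff] at this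
    rw [this]; exact Q.one_mem

theorem orderOf_conj_eq (g y : G) : orderOf (g * y * g⁻¹) = orderOf y := by
  have := orderOf_injective (MulAut.conj g).toMonoidHom (MulAut.conj g).injective y
  simpa using this

theorem mem_cj_iff (w : G) (S : Subgroup G) (y : G) :
    y ∈ cj w S ↔ ∃ a ∈ S, w * a * w⁻¹ = y := by
  unfold cj
  rw [Subgroup.mem_map]
  rfl

/-- LEAF G1 (`P` is a `p`-group). -/
theorem isPGroup_of_normal_index [Finite G] (P : Subgroup G) (γ : G) (p : ℕ) (hp : p.Prime)
    (hN : ((P ⊓ cj γ P).subgroupOf (cj γ P)).Normal)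
    (hidx : (P ⊓ cj γ P).relIndex (cj γ P) = p)
    (h1 : ∀ Q : Subgroup G, Q ≤ P → (Q.subgroupOf P).Normal → cj γ Q = Q → Q = ⊥) :
    IsPGroup p ↥P := by
  -- the subgroup generated by the `p'`-elements of `P`
  set S : Set G := {y | y ∈ P ∧ (orderOf y).Coprime p} with hS
  set N : Subgroup G := Subgroup.closure S with hNdef
  have hNP : N ≤ P := (Subgroup.closure_le P).mpr (fun y hy => hy.1)
  -- stability of `S` under conjugation by `P`
  have hconjS : ∀ g ∈ P, ∀ n ∈ N, g * n * g⁻¹ ∈ N := by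
    intro g hg n hn
    have hmap : N.map (MulAut.conj g).toMonoidHom ≤ N := by
      rw [hNdef, MonoidHom.map_closure, Subgroup.closure_le]
      rintro _ ⟨y, hy, rfl⟩
      apply Subgroup.subset_closure
      refine ⟨?_, ?_⟩
      · exact P.mul_mem (P.mul_mem hg hy.1) (P.inv_mem hg)
      · change (orderOf (g * y * g⁻¹)).Coprime p
        rw [orderOf_conj_eq]; exact hy.2
    exact hmap ⟨n, hn, rfl⟩
  have hnorm : (N.subgroupOf P).Normal := by
    refine ⟨fun n hn g => ?_⟩
    rw [Subgroup.mem_subgroupOf] at hn ⊢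
    have := hconjS (g : G) g.2 (n : G) hn
    simpa using this
  -- `cj γ N ≤ N`
  have hcjle : cj γ N ≤ N := by
    unfold cj
    rw [hNdef, MonoidHom.map_closure, Subgroup.closure_le]
    rintro _ ⟨y, hy, rfl⟩
    apply Subgroup.subset_closure
    have hmemK : γ * y * γ⁻¹ ∈ cj γ P := (mem_cj_iff γ P _).mpr ⟨y, hy.1, rfl⟩
    have hord : orderOf (γ * y * γ⁻¹) = orderOf y := orderOf_conj_eq γ y
    let u : ↥(cj γ P) := ⟨γ * y * γ⁻¹, hmemK⟩
    have hu : orderOf u = orderOf y := by
      rw [← hord, ← Subgroup.orderOf_coe]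
    have hidx' : ((P ⊓ cj γ P).subgroupOf (cj γ P)).index = p := hidx
    have hmem := mem_of_coprime_of_index ((P ⊓ cj γ P).subgroupOf (cj γ P)) p hidx' u
      (orderOf_pos u) (by rw [hu]; exact hy.2)
    rw [Subgroup.mem_subgroupOf] at hmem
    refine ⟨hmem.1, ?_⟩
    change (orderOf (γ * y * γ⁻¹)).Coprime p
    rw [hord]; exact hy.2
  have hcjeq : cj γ N = N := by
    refine Subgroup.eq_of_le_of_card_ge hcjle ?_
    unfold cj
    rw [Subgroup.card_map_of_injective (MulAut.conj γ).injective]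
  have hbot : N = ⊥ := h1 N hNP hnorm hcjeq
  -- every element of `P` is a `p`-element
  intro y
  obtain ⟨a, r, hr, hyr⟩ := Nat.exists_eq_pow_mul_and_not_dvd (orderOf_pos y).ne' p hp.ne_one
  refine ⟨a, ?_⟩
  have hcop : r.Coprime p := ((Nat.Prime.coprime_iff_not_dvd hp).mpr hr).symm
  have hord : orderOf (y ^ p ^ a) = r := by
    rw [orderOf_pow' y (pow_ne_zero a hp.ne_zero), hyr,
      Nat.gcd_eq_right (Dvd.intro _ rfl), Nat.mul_div_cancel_left _ (pow_pos hp.pos a)]
  have hmemN : ((y ^ p ^ a : ↥P) : G) ∈ N := by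
    apply Subgroup.subset_closure
    refine ⟨(y ^ p ^ a).2, ?_⟩
    rw [Subgroup.orderOf_coe, hord]; exact hcop
  rw [hbot, Subgroup.mem_bot] at hmemN
  exact Subtype.ext hmemN

end Cfsg.Agent.Lib.Helper17.GLAUBG1
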