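import Mathlib
import Cfsg.Agent.Lib.Helper18.GlaubDefs

set_option autoImplicit false

/-!
Helper17: leaf GLAUB-G6 of the S4359 market (planner helper18): transport of the condition
`P ∩ Z(K) = 1` to the generator sequence.
-/

namespace Cfsg.Agent.Lib.Helper17.GLAUBG6

open Cfsg Cfsg.Agent.Lib.Helper18.Sims3 Cfsg.Agent.Lib.Helper18.Glaub

variable {G : Type*} [Group G]

theorem mem_cj_iff (w : G) (S : Subgroup G) (y : G) :
    y ∈ cj w S ↔ ∃ a ∈ S, w * a * w⁻¹ = y := by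
  unfold cj
  rw [Subgroup.mem_map]
  rfl

/-- LEAF G6 (transport of `P ∩ Z(K) = 1` to the generator sequence). -/
theorem center_transport (γ : G) (P : Subgroup G) (t n : ℕ) (h1 : 1 ≤ t) (x : ℕ → G)
    (hH : ∀ i, Hx x i (i + t - 1) = cj (γ ^ (i + t)) P)
    (K : Subgroup G) (hK : K = ⨆ i ∈ Finset.range (n + 1), cj (γ ^ i) P)
    (h2 : P ⊓ (Subgroup.center ↥K).map K.subtype = ⊥) :
    ∀ z ∈ Hx x 0 (t - 1), (∀ j, j ≤ t + n - 1 → Commute z (x j)) → z = 1 := by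
  intro z hz hcomm
  have hz' : z ∈ cj (γ ^ t) P := by
    have := hH 0
    rw [zero_add] at this
    rw [← this]; exact hz
  obtain ⟨w, hwP, rfl⟩ := (mem_cj_iff _ _ _).mp hz'
  -- `w` centralizes every `cj (γ ^ i) P`, `i ≤ n`
  have hcent : ∀ i, i ≤ n → cj (γ ^ i) P ≤ Subgroup.centralizer ({w} : Set G) := by
    intro i hi v hv
    obtain ⟨u, huP, rfl⟩ := (mem_cj_iff _ _ _).mp hv
    -- the element `γ^(i+t) u γ^-(i+t)` lies in `Hx x i (i+t-1)`
    have hmem : γ ^ (i + t) * u * (γ ^ (i + t))⁻¹ ∈ Hx x i (i + t - 1) := by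
      rw [hH i]; exact (mem_cj_iff _ _ _).mpr ⟨u, huP, rfl⟩
    have hle : Hx x i (i + t - 1) ≤ Subgroup.centralizer ({γ ^ t * w * (γ ^ t)⁻¹} : Set G) := by
      unfold Hx
      rw [Subgroup.closure_le]
      rintro _ ⟨j, hj, rfl⟩
      rw [SetLike.mem_coe, Subgroup.mem_centralizer_singleton_iff]
      have hj' : j ≤ t + n - 1 := by
        have := hj.2
        omega
      exact ((hcomm j hj').eq).symm
    have hc := hle hmem
    rw [Subgroup.mem_centralizer_singleton_iff] at hc ⊢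
    -- conjugate back by `γ ^ t`
    have e1 : γ ^ (i + t) * u * (γ ^ (i + t))⁻¹ =
        γ ^ t * (γ ^ i * u * (γ ^ i)⁻¹) * (γ ^ t)⁻¹ := by
      rw [add_comm, pow_add]; group
    rw [e1] at hc
    have e2 : γ ^ i * u * (γ ^ i)⁻¹ * w =
        (γ ^ t)⁻¹ * (γ ^ t * (γ ^ i * u * (γ ^ i)⁻¹) * (γ ^ t)⁻¹ * (γ ^ t * w * (γ ^ t)⁻¹)) * γ ^ t := by
      group
    have e3 : w * (γ ^ i * u * (γ ^ i)⁻¹) =
        (γ ^ t)⁻¹ * (γ ^ t * w * (γ ^ t)⁻¹ * (γ ^ t * (γ ^ i * u * (γ ^ i)⁻¹) * (γ ^ t)⁻¹)) * γ ^ t := by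
      group
    rw [e2, e3, hc]
  have hKle : K ≤ Subgroup.centralizer ({w} : Set G) := by
    rw [hK]
    refine iSup₂_le (fun i hi => hcent i ?_)
    have := Finset.mem_range.mp hi
    omega
  have hPK : P ≤ K := by
    rw [hK]
    have h0 : cj (γ ^ 0) P = P := by
      ext y
      rw [mem_cj_iff]
      constructor
      · rintro ⟨a, ha, rfl⟩; simpa using ha
      · intro hy; exact ⟨y, hy, by simp⟩
    have : cj (γ ^ 0) P ≤ ⨆ i ∈ Finset.range (n + 1), cj (γ ^ i) P :=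
      le_iSup₂_of_le 0 (Finset.mem_range.mpr (by omega)) le_rfl
    rwa [h0] at this
  have hwK : w ∈ K := hPK hwP
  have hwZ : w ∈ (Subgroup.center ↥K).map K.subtype := by
    refine ⟨⟨w, hwK⟩, ?_, rfl⟩
    rw [SetLike.mem_coe, Subgroup.mem_center_iff]
    intro k
    apply Subtype.ext
    have := hKle k.2
    rw [Subgroup.mem_centralizer_singleton_iff] at this
    exact this
  have hw1 : w = 1 := by
    have : w ∈ P ⊓ (Subgroup.center ↥K).map K.subtype := ⟨hwP, hwZ⟩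
    rw [h2, Subgroup.mem_bot] at this
    exact this
  rw [hw1]; group

end Cfsg.Agent.Lib.Helper17.GLAUBG6
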