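import Mathlib
import Cfsg.Prelude.Def_PLocal
import Cfsg.Agent.Lib.Helper27.GlaubRepl2

/-!
Glauberman's replacement theorem (helper27's `GlaubRepl`): the rank statement
`|Ω₁(A)| ≤ |Ω₁(A*)|`.
-/

set_option autoImplicit false
open scoped commutatorElement

namespace Cfsg.Agent.Lib.Helper17

open Cfsg.Agent.Lib.Helper27 Cfsg.Agent.Lib.Helper27.GlaubRepl

variable {S : Type*} [Group S]

/-- the elements of an abelian subgroup with `e`-th power one -/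
def omegaSub (A : Subgroup S) (hA : ∀ x ∈ A, ∀ y ∈ A, x * y = y * x) (e : ℕ) : Subgroup S where
  carrier := {a | a ∈ A ∧ a ^ e = 1}
  one_mem' := ⟨A.one_mem, one_pow e⟩
  mul_mem' := by
    rintro x y ⟨hx, hxe⟩ ⟨hy, hye⟩
    have hc : Commute x y := hA x hx y hy
    exact ⟨A.mul_mem hx hy, by rw [hc.mul_pow, hxe, hye, one_mul]⟩
  inv_mem' := by
    rintro x ⟨hx, hxe⟩
    exact ⟨A.inv_mem hx, by rw [inv_pow, hxe, inv_one]⟩

theorem mem_omegaSub {A : Subgroup S} {hA : ∀ x ∈ A, ∀ y ∈ A, x * y = y * x} {e : ℕ} {a : S} :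
    a ∈ omegaSub A hA e ↔ a ∈ A ∧ a ^ e = 1 := Iff.rfl

theorem omegaOne_eq_omegaSub (A : Subgroup S) (hA : ∀ x ∈ A, ∀ y ∈ A, x * y = y * x) (p : ℕ) :
    Cfsg.omegaOne p A = omegaSub A hA p := by
  unfold Cfsg.omegaOne
  exact Subgroup.closure_eq (omegaSub A hA p)

variable {A B : Subgroup S} {b : S}

theorem phi_pow_eq_one (h : Hyp A B b) {e : ℕ} (he : Odd e) {a : S} (ha : a ∈ A)
    (hae : a ^ e = 1) : (phi b a) ^ e = 1 := by
  rw [h.phi_eq]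
  have hx := h.beta_mem ha
  have hxi : (b⁻¹ * a * b)⁻¹ ∈ conjB A b := Subgroup.inv_mem _ hx
  have hg : ⁅(b⁻¹ * a * b)⁻¹, a⁆ ∈ dSub A b := by
    have := h.comm_mem_dSub ha hxi
    have e' : ⁅(b⁻¹ * a * b)⁻¹, a⁆ = (⁅a, (b⁻¹ * a * b)⁻¹⁆)⁻¹ := by
      simp only [commutatorElement_def]; group
    rw [e']; exact Subgroup.inv_mem _ this
  have hxe : ((b⁻¹ * a * b)⁻¹) ^ e = 1 := by
    have e1 : b⁻¹ * a * b = b⁻¹ * a * b⁻¹⁻¹ := by rw [inv_inv]
    rw [inv_pow, e1, conj_pow, hae]; simp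
  have c1 := h.dSub_central hg (Subgroup.mem_sup_left ha)
  have c2 := h.dSub_central hg (Subgroup.mem_sup_right hxi)
  have hce : (⁅(b⁻¹ * a * b)⁻¹, a⁆) ^ e = 1 := by
    have h1 := Hyp.pow_mul_comm_aux (x := a) (y := (b⁻¹ * a * b)⁻¹) rfl c1 c2 e
    rw [hxe, one_mul, mul_one] at h1
    exact (mul_eq_right.mp h1.symm)
  rw [Hyp.mul_pow_aux rfl c1 c2 e, hae, hxe, one_mul, one_mul]
  obtain ⟨k, hk⟩ := he
  have hch : e.choose 2 = e * k := by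
    rw [Nat.choose_two_right, hk]
    have : (2 * k + 1) * (2 * k + 1 - 1) = 2 * ((2 * k + 1) * k) := by
      rw [Nat.add_sub_cancel]; ring
    rw [this, Nat.mul_div_cancel_left _ (by norm_num : 0 < 2)]
  rw [hch, pow_mul, hce, one_pow]

theorem card_omega_le [Finite S] (h : Hyp A B b) {e : ℕ} (he : Odd e) :
    Nat.card (omegaSub A h.comm e) ≤
      Nat.card (omegaSub h.aStar (fun x hx y hy => h.aStar_comm hx hy) e) := by
  obtain ⟨ΩA, hΩA⟩ : ∃ K, K = omegaSub A h.comm e := ⟨_, rfl⟩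
  obtain ⟨ΩS, hΩS⟩ : ∃ K, K = omegaSub h.aStar (fun x hx y hy => h.aStar_comm hx hy) e := ⟨_, rfl⟩
  obtain ⟨ΩD, hΩD⟩ : ∃ K, K = omegaSub (dSub A b)
    (fun x hx y hy => h.comm x hx.1 y hy.1) e := ⟨_, rfl⟩
  rw [← hΩA, ← hΩS]
  have memA : ∀ a, a ∈ ΩA ↔ a ∈ A ∧ a ^ e = 1 := fun a => by rw [hΩA]; rfl
  have memS : ∀ a, a ∈ ΩS ↔ a ∈ h.aStar ∧ a ^ e = 1 := fun a => by rw [hΩS]; rfl
  have memD : ∀ a, a ∈ ΩD ↔ a ∈ dSub A b ∧ a ^ e = 1 := fun a => by rw [hΩD]; rfl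
  have hDA : ΩD ≤ ΩA := fun d hd => (memA d).mpr ⟨((memD d).mp hd).1.1, ((memD d).mp hd).2⟩
  have hDS : ΩD ≤ ΩS := fun d hd =>
    (memS d).mpr ⟨h.dSub_le_aStar ((memD d).mp hd).1, ((memD d).mp hd).2⟩
  have e1 : (ΩD.subgroupOf ΩA).index * Nat.card ΩD = Nat.card ΩA := by
    rw [← Subgroup.index_mul_card (ΩD.subgroupOf ΩA)]
    congr 1
    exact (Nat.card_congr (Subgroup.subgroupOfEquivOfLe hDA).toEquiv).symm
  have e2 : (ΩD.subgroupOf ΩS).index * Nat.card ΩD = Nat.card ΩS := by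
    rw [← Subgroup.index_mul_card (ΩD.subgroupOf ΩS)]
    congr 1
    exact (Nat.card_congr (Subgroup.subgroupOfEquivOfLe hDS).toEquiv).symm
  rw [← e1, ← e2]
  apply Nat.mul_le_mul_right
  unfold Subgroup.index
  have hphi : ∀ a : ΩA, phi b (a : S) ∈ ΩS := fun a =>
    (memS _).mpr ⟨h.phi_mem_aStar ((memA _).mp a.2).1,
      phi_pow_eq_one h he ((memA _).mp a.2).1 ((memA _).mp a.2).2⟩
  refine Nat.card_le_card_of_injective (Quotient.map'
    (fun a : ΩA => (⟨phi b a, hphi a⟩ : ΩS)) ?_) ?_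
  · intro a a' haa
    rw [QuotientGroup.leftRel_apply] at haa ⊢
    rw [Subgroup.mem_subgroupOf] at haa ⊢
    rw [memD] at haa ⊢
    refine ⟨(h.phi_quot_iff ((memA _).mp a.2).1 ((memA _).mp a'.2).1).mpr haa.1, ?_⟩
    exact ((memS _).mp (Subtype.mem ((⟨phi b a, hphi a⟩ : ΩS)⁻¹ * ⟨phi b a', hphi a'⟩))).2
  · intro q q'
    refine Quotient.inductionOn₂' q q' ?_
    intro a a' hq
    rw [Quotient.map'_mk'', Quotient.map'_mk'', Quotient.eq''] at hq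
    rw [Quotient.eq'']
    rw [QuotientGroup.leftRel_apply] at hq ⊢
    rw [Subgroup.mem_subgroupOf] at hq ⊢
    rw [memD] at hq ⊢
    refine ⟨(h.phi_quot_iff ((memA _).mp a.2).1 ((memA _).mp a'.2).1).mp hq.1, ?_⟩
    exact ((memA _).mp (Subtype.mem (a⁻¹ * a'))).2

/-- Glauberman's replacement step (helper27's `replacement_step`) with the rank statement. -/
theorem replacement_step_rank [Finite S] {p : ℕ} [Fact p.Prime] (hS : IsPGroup p S) (hp : p ≠ 2)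
    (A B : Subgroup S) [hBn : B.Normal] (hA : ∀ x ∈ A, ∀ y ∈ A, x * y = y * x) (hBA : ⁅B, B⁆ ≤ A)
    (hnot : ¬ B ≤ Subgroup.normalizer (A : Set S)) :
    ∃ (A' : Subgroup S) (hA' : ∀ x ∈ A', ∀ y ∈ A', x * y = y * x), Nat.card A' = Nat.card A ∧
      A ⊓ B < A' ⊓ B ∧ A' ≤ Subgroup.normalizer (A : Set S) ∧
      (∀ e : ℕ, Odd e → (∀ a ∈ A, a ^ e = 1) → ∀ y ∈ A', y ^ e = 1) ∧
      (∀ D : Subgroup S, D.Normal → A ≤ D → A' ≤ D) ∧
      Nat.card (omegaSub A hA p) ≤ Nat.card (omegaSub A' hA' p) := by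
  obtain ⟨b, hb, hbN, hbA⟩ := exists_normalizing hS A B hnot
  have hpp := (Fact.out : p.Prime)
  have hodd : (∀ x ∈ B, ∀ y ∈ B, x * y = y * x) ∨ Odd (orderOf b) := by
    right
    obtain ⟨k, hk⟩ := hS b
    have hdvd : orderOf b ∣ p ^ k := orderOf_dvd_of_pow_eq_one hk
    obtain ⟨j, -, hj⟩ := (Nat.dvd_prime_pow hpp).mp hdvd
    rw [hj]
    exact (hpp.odd_of_ne_two hp).pow
  have h : Hyp A B b := ⟨hA, hBn, hb, hBA, hbN, hodd⟩
  have hbinv : b⁻¹ ∉ Subgroup.normalizer (A : Set S) := fun hc => hbA (by simpa using inv_mem hc)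
  have hex : ∃ a ∈ A, b⁻¹ * a * b ∉ A := by
    by_contra hcon
    push Not at hcon
    apply hbinv
    apply Subgroup.mem_normalizer_fintype
    intro n hn
    have := hcon n hn
    simpa using this
  obtain ⟨a₀, ha₀, ha₀'⟩ := hex
  refine ⟨h.aStar, fun x hx y hy => h.aStar_comm hx hy, h.card_aStar, ?_, h.aStar_le_N,
    fun e he hAe y hy => h.pow_eq_one_of_mem_aStar he hAe hy, ?_,
    card_omega_le h (hpp.odd_of_ne_two hp)⟩
  · refine lt_of_le_not_ge h.inf_le_aStar_inf ?_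
    intro hle
    have := (hle (h.phi_mem_aStar_inf ha₀)).1
    rw [h.phi_eq] at this
    apply ha₀'
    have h2 := A.mul_mem (A.inv_mem this) ha₀
    have e : (a₀ * (b⁻¹ * a₀ * b)⁻¹)⁻¹ * a₀ = b⁻¹ * a₀ * b := by group
    rwa [e] at h2
  · intro D hD hAD
    rintro _ ⟨a, ha, d, hd, rfl⟩
    refine D.mul_mem ?_ (hAD hd.1)
    rw [h.phi_eq]
    refine D.mul_mem (hAD ha) (D.inv_mem ?_)
    have := hD.conj_mem a (hAD ha) b⁻¹
    simpa using this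

end Cfsg.Agent.Lib.Helper17
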