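import Cfsg.Agent.Lib.Helper14.HNx.G100

/-!
# S2082 leaf D1

A graph automorphism `c` of the Higman-Sims graph on the 100 points of helper14's `L100Table` with `c² = 1` which commutes
with `E = π(x y³ z y z)` is trivial.  (`E` fixes only the point `0` and has the two orbits of `8` and of `19` on the 22
neighbours of `0`; an involution commuting with `E` fixes `0`; if it moved `8` (or `19`) to `v` it would be determined on
the orbits of `8` and `v`, and then the point `1` has no possible image; so all neighbours of `0` are fixed, and the other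
77 points are determined by their neighbours among these.)
-/

set_option autoImplicit false
set_option maxRecDepth 100000

namespace Cfsg.Agent.Lib.Helper17.HnOD1

open Cfsg.Agent.Lib.Helper28.TC2Upper Cfsg.Agent.Lib.Helper28.TC2Lower
open Cfsg.Agent.Lib.Helper14.HNx

/-- `e` on points -/
noncomputable def eN (p : ℕ) : ℕ := G100.T.walkT [4, 2, 4, 2, 2, 2, 0] p

/-- orbit table: for a neighbour `v` of `0` the `e`-orbit of `v`, starting at `v` -/
def orbT : List (List ℕ) := [[], [], [], [], [], [], [], [], [8, 11, 24, 36, 71, 17, 80, 70, 72, 93, 26], [], [], [11, 24, 36, 71, 17, 80, 70, 72, 93, 26, 8], [], [], [], [], [], [17, 80, 70, 72, 93, 26, 8, 11, 24, 36, 71], [], [19, 62, 89, 86, 98, 76, 58, 77, 83, 82, 57], [], [], [], [], [24, 36, 71, 17, 80, 70, 72, 93, 26, 8, 11], [], [26, 8, 11, 24, 36, 71, 17, 80, 70, 72, 93], [], [], [], [], [], [], [], [], [], [36, 71, 17, 80, 70, 72, 93, 26, 8, 11, 24], [], [], [], [], [], [], [], [], [], [], [], [], [], [], [], [], [], [], [], [], [57, 19, 62, 89, 86, 98, 76, 58, 77, 83,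 82], [58, 77, 83, 82, 57, 19, 62, 89, 86, 98, 76], [], [], [], [62, 89, 86, 98, 76, 58, 77, 83, 82, 57, 19], [], [], [], [], [], [], [], [70, 72, 93, 26, 8, 11, 24, 36, 71, 17, 80], [71, 17, 80, 70, 72, 93, 26, 8, 11, 24, 36], [72, 93, 26, 8, 11, 24, 36, 71, 17, 80, 70], [], [], [], [76, 58, 77, 83, 82, 57, 19, 62, 89, 86, 98], [77, 83, 82, 57, 19, 62, 89, 86, 98, 76, 58], [], [], [80, 70, 72, 93, 26, 8, 11, 24, 36, 71, 17], [], [82, 57, 19, 62, 89, 86, 98, 76, 58, 77, 83], [83, 82, 57, 19, 62, 89, 86, 98, 76, 58, 77], [], [], [86, 98, 76, 58, 77, 83, 82, 57, 19, 62, 89], [], [], [89, 86, 98, 76, 58, 77, 83, 82, 57, 19, 62], [], [], [], [93, 26, 8, 11, 24, 36, 71, 17, 80, 70, 72], [], [], [], [], [98, 76, 58, 77, 83, 82, 57, 19, 62, 89, 86], []]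

/-- the `i`-th point of the orbit of `v` -/
def orb (v i : ℕ) : ℕ := (orbT.getD v []).getD i 0

theorem xnor_iff (a b : Bool) : (not (xor a b)) = true ↔ a = b := by cases a <;> cases b <;> simp

theorem bnot_iff (b : Bool) : (not b) = true ↔ ¬ b = true := by cases b <;> simp

/-- `0` is the only fixed point of `e` -/
noncomputable def chkFix : Bool :=
  and (Nat.beq (eN 0) 0) (allLoop (fun p => or (Nat.beq p 0) (not (Nat.beq (eN p) p))) 100)

/-- the orbit table is correct -/
noncomputable def chkOrb : Bool :=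
  allLoop (fun v => or (not (G100.adjB v 0))
    (and (Nat.beq (orb v 0) v) (allLoop (fun i => Nat.beq (eN (orb v i)) (orb v (Nat.succ i))) 10))) 100

/-- the patterns of `w'` and `w` on the orbits of `v` and `r` are exchanged -/
noncomputable def matchSw (r v w w' : ℕ) : Bool :=
  allLoop (fun i => and (not (xor (G100.adjB w' (orb v i)) (G100.adjB w (orb r i))))
    (not (xor (G100.adjB w' (orb r i)) (G100.adjB w (orb v i))))) 11

/-- no involution commuting with `e` moves `r` to another neighbour `v` of `0`: the point `1` has no image -/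
noncomputable def chkSwap (r : ℕ) : Bool :=
  allLoop (fun v => or (not (G100.adjB v 0))
    (or (Nat.beq v r) (allLoop (fun w' => not (matchSw r v 1 w')) 100))) 100

/-- the neighbours of `0` are the orbits of `8` and `19` -/
noncomputable def chkNb : Bool :=
  allLoop (fun n => or (not (G100.adjB n 0))
    (not (allLoop (fun i => and (not (Nat.beq (orb 8 i) n)) (not (Nat.beq (orb 19 i) n))) 11))) 100

/-- `w'` and `w` have the same neighbours among the neighbours of `0` -/
noncomputable def matchFix (w w' : ℕ) : Bool :=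
  allLoop (fun i => and (not (xor (G100.adjB w' (orb 8 i)) (G100.adjB w (orb 8 i))))
    (not (xor (G100.adjB w' (orb 19 i)) (G100.adjB w (orb 19 i))))) 11

/-- a point which is neither `0` nor a neighbour of `0` is determined by its neighbours among the neighbours of `0` -/
noncomputable def chkHex : Bool :=
  allLoop (fun w => or (Nat.beq w 0) (or (G100.adjB w 0)
    (allLoop (fun w' => or (Nat.beq w' w) (not (matchFix w w'))) 100))) 100

theorem chkFix_true : chkFix = true := by decide +kernel
theorem chkOrb_true : chkOrb = true := by decide +kernel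
theorem chkSwap8_true : chkSwap 8 = true := by decide +kernel
theorem chkSwap19_true : chkSwap 19 = true := by decide +kernel
theorem chkNb_true : chkNb = true := by decide +kernel
theorem chkHex_true : chkHex = true := by decide +kernel
theorem adj8 : G100.adjB 8 0 = true := by decide +kernel
theorem adj19 : G100.adjB 19 0 = true := by decide +kernel

/-- a point -/
abbrev pt (p : ℕ) (h : p < 100) : Fin G100.T.n := ⟨p, h⟩

theorem orb_eq (v : ℕ) (hv : v < 100) (hadj : G100.adjB v 0 = true) (i : ℕ) (hi : i < 11) :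
    orb v i = eN^[i] v := by
  have h := chkOrb_true
  unfold chkOrb at h
  rw [allLoop_eq_true] at h
  have h1 := h v hv
  rw [hadj] at h1
  simp only [Bool.not_true, Bool.false_or, Bool.and_eq_true] at h1
  obtain ⟨h0, hs⟩ := h1
  rw [Data.nbeq_iff] at h0
  rw [allLoop_eq_true] at hs
  induction i with
  | zero => exact h0
  | succ k ih =>
    have h2 := hs k (by omega)
    rw [Data.nbeq_iff] at h2
    rw [Function.iterate_succ_apply', ← ih (by omega), h2]

section
variable (E c : Equiv.Perm (Fin G100.T.n))

theorem iter_val (hE : ∀ p : Fin G100.T.n, (E p).val = eN p.val) (i : ℕ) (p : Fin G100.T.n) :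
    ((E ^ i) p).val = eN^[i] p.val := by
  induction i generalizing p with
  | zero => rfl
  | succ k ih =>
    rw [pow_succ, Equiv.Perm.mul_apply, ih, Function.iterate_succ_apply, hE]

theorem comm_iter (hP2 : ∀ p, c (E p) = E (c p)) (i : ℕ) (p : Fin G100.T.n) :
    c ((E ^ i) p) = (E ^ i) (c p) := by
  induction i generalizing p with
  | zero => rfl
  | succ k ih =>
    rw [pow_succ, Equiv.Perm.mul_apply, Equiv.Perm.mul_apply, ih, hP2]

/-- the orbit point as a value -/
theorem orb_val (hE : ∀ p : Fin G100.T.n, (E p).val = eN p.val) (r : ℕ) (hr : r < 100)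
    (hradj : G100.adjB r 0 = true) (i : ℕ) (hi : i < 11) : orb r i = ((E ^ i) (pt r hr)).val := by
  rw [orb_eq r hr hradj i hi, iter_val E hE]

/-- `c` fixes the base point `r` -/
theorem base_fixed (hE : ∀ p : Fin G100.T.n, (E p).val = eN p.val)
    (hadj : ∀ p q : Fin G100.T.n, G100.adjB (c p).val (c q).val = G100.adjB p.val q.val)
    (hP2 : ∀ p, c (E p) = E (c p)) (hP3 : ∀ p, c (c p) = p)
    (h0 : c (pt 0 (by norm_num)) = pt 0 (by norm_num))
    (r : ℕ) (hr : r < 100) (hradj : G100.adjB r 0 = true) (hchk : chkSwap r = true) :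
    c (pt r hr) = pt r hr := by
  by_contra hne
  have hv : (c (pt r hr)).val < 100 := (c (pt r hr)).2
  have hvadj : G100.adjB (c (pt r hr)).val 0 = true := by
    have h1 := hadj (pt r hr) (pt 0 (by norm_num))
    rw [h0] at h1
    rw [← hradj]
    exact h1
  have hvr : (c (pt r hr)).val ≠ r := fun h => hne (Fin.ext h)
  unfold chkSwap at hchk
  rw [allLoop_eq_true] at hchk
  have h1 := hchk _ hv
  rw [hvadj] at h1
  simp only [Bool.not_true, Bool.false_or, Bool.or_eq_true, Data.nbeq_iff] at h1
  rcases h1 with h1 | h1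
  · exact hvr h1
  rw [allLoop_eq_true] at h1
  have h2 := h1 (c (pt 1 (by norm_num))).val (c (pt 1 (by norm_num))).2
  rw [bnot_iff] at h2
  apply h2
  unfold matchSw
  rw [allLoop_eq_true]
  intro i hi
  have e1 : orb r i = ((E ^ i) (pt r hr)).val := orb_val E hE r hr hradj i hi
  have e2 : orb (c (pt r hr)).val i = (c ((E ^ i) (pt r hr))).val := by
    rw [orb_eq _ hv hvadj i hi, comm_iter E c hP2, iter_val E hE]
  rw [Bool.and_eq_true, xnor_iff, xnor_iff]
  constructor
  · rw [e1, e2]
    exact hadj _ _
  · rw [e2]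
    have e3 : orb r i = (c (c ((E ^ i) (pt r hr)))).val := by rw [hP3]; exact e1
    rw [e3]
    exact hadj _ _

end

/-- **LEAF D1** -/
theorem D1 (E c : Equiv.Perm (Fin G100.T.n))
    (hE : ∀ p : Fin G100.T.n, (E p).val = G100.T.walkT [4, 2, 4, 2, 2, 2, 0] p.val)
    (hadj : ∀ p q : Fin G100.T.n, G100.adjB (c p).val (c q).val = G100.adjB p.val q.val)
    (hcomm : c * E = E * c) (hc2 : c * c = 1) : c = 1 := by
  have hE' : ∀ p : Fin G100.T.n, (E p).val = eN p.val := hE
  have hP2 : ∀ p, c (E p) = E (c p) := fun p => by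
    have := congrArg (fun f : Equiv.Perm (Fin G100.T.n) => f p) hcomm
    simpa only [Equiv.Perm.mul_apply] using this
  have hP3 : ∀ p, c (c p) = p := fun p => by
    have := congrArg (fun f : Equiv.Perm (Fin G100.T.n) => f p) hc2
    simpa only [Equiv.Perm.mul_apply, Equiv.Perm.one_apply] using this
  -- step 1: `c` fixes `0`
  have h0 : c (pt 0 (by norm_num)) = pt 0 (by norm_num) := by
    have hf := chkFix_true
    unfold chkFix at hf
    rw [Bool.and_eq_true, Data.nbeq_iff, allLoop_eq_true] at hf
    obtain ⟨hf0, hf1⟩ := hf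
    have hE0 : E (pt 0 (by norm_num)) = pt 0 (by norm_num) := Fin.ext (by rw [hE']; exact hf0)
    have h1 : (E (c (pt 0 (by norm_num)))).val = (c (pt 0 (by norm_num))).val := by rw [← hP2, hE0]
    rw [hE'] at h1
    have h2 := hf1 (c (pt 0 (by norm_num))).val (c (pt 0 (by norm_num))).2
    rw [Bool.or_eq_true, Data.nbeq_iff, bnot_iff, Data.nbeq_iff] at h2
    rcases h2 with h2 | h2
    · exact Fin.ext h2
    · exact absurd h1 h2
  -- steps 2, 3: `c` fixes the neighbours of `0`
  have h8 := base_fixed E c hE' hadj hP2 hP3 h0 8 (by norm_num) adj8 chkSwap8_true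
  have h19 := base_fixed E c hE' hadj hP2 hP3 h0 19 (by norm_num) adj19 chkSwap19_true
  have hf8 : ∀ i, c ((E ^ i) (pt 8 (by norm_num))) = (E ^ i) (pt 8 (by norm_num)) := fun i => by
    rw [comm_iter E c hP2, h8]
  have hf19 : ∀ i, c ((E ^ i) (pt 19 (by norm_num))) = (E ^ i) (pt 19 (by norm_num)) := fun i => by
    rw [comm_iter E c hP2, h19]
  -- step 4
  apply Equiv.Perm.ext
  intro p
  rw [Equiv.Perm.one_apply]
  have hx := chkHex_true
  unfold chkHex at hx
  rw [allLoop_eq_true] at hx
  have h1 := hx p.val p.2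
  rw [Bool.or_eq_true, Data.nbeq_iff, Bool.or_eq_true] at h1
  rcases h1 with h1 | h1 | h1
  · have : p = pt 0 (by norm_num) := Fin.ext h1
    rw [this]
    exact h0
  · have hn := chkNb_true
    unfold chkNb at hn
    rw [allLoop_eq_true] at hn
    have h2 := hn p.val p.2
    rw [h1] at h2
    simp only [Bool.not_true, Bool.false_or] at h2
    rw [bnot_iff, allLoop_eq_true] at h2
    push Not at h2
    obtain ⟨i, hi, h3⟩ := h2
    have h3' : ¬ ((¬ orb 8 i = p.val) ∧ (¬ orb 19 i = p.val)) := by
      intro h
      apply h3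
      rw [Bool.and_eq_true, bnot_iff, bnot_iff, Data.nbeq_iff, Data.nbeq_iff]
      exact h
    by_cases h4 : orb 8 i = p.val
    · have : p = (E ^ i) (pt 8 (by norm_num)) := Fin.ext (by rw [← h4, orb_val E hE' 8 (by norm_num) adj8 i hi])
      rw [this]
      exact hf8 i
    · have h5 : orb 19 i = p.val := by
        by_contra h5
        exact h3' ⟨h4, h5⟩
      have : p = (E ^ i) (pt 19 (by norm_num)) := Fin.ext (by rw [← h5, orb_val E hE' 19 (by norm_num) adj19 i hi])
      rw [this]
      exact hf19 i
  · rw [allLoop_eq_true] at h1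
    have h2 := h1 (c p).val (c p).2
    rw [Bool.or_eq_true, Data.nbeq_iff, bnot_iff] at h2
    rcases h2 with h2 | h2
    · exact Fin.ext h2
    · exfalso
      apply h2
      unfold matchFix
      rw [allLoop_eq_true]
      intro i hi
      rw [Bool.and_eq_true, xnor_iff, xnor_iff]
      constructor
      · rw [orb_val E hE' 8 (by norm_num) adj8 i hi]
        have := hadj p ((E ^ i) (pt 8 (by norm_num)))
        rw [hf8 i] at this
        exact this
      · rw [orb_val E hE' 19 (by norm_num) adj19 i hi]
        have := hadj p ((E ^ i) (pt 19 (by norm_num)))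
        rw [hf19 i] at this
        exact this

end Cfsg.Agent.Lib.Helper17.HnOD1
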