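import Mathlib

/-!
helper17: the arithmetic behind Huppert's theorem on solvable linear groups transitive on nonzero
vectors.  If `x = p^d`, `r ∣ x - 1`, `r^k ≤ m` and
`x^m - 1 ∣ d * (x - 1) * r^(2k) * |GL_{2k}(r)|`, then `x^m ∈ {9, 25, 49, 121, 529, 81}`.
-/

set_option autoImplicit false

namespace Cfsg.Agent.Lib.Helper17.HuppertArith

def Sgood (n : ℕ) : Prop := n = 9 ∨ n = 25 ∨ n = 49 ∨ n = 121 ∨ n = 529 ∨ n = 81

def isS (n : ℕ) : Bool := n == 9 || n == 25 || n == 49 || n == 121 || n == 529 || n == 81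

theorem isS_iff (n : ℕ) : isS n = true ↔ Sgood n := by
  unfold isS Sgood
  simp only [Bool.or_eq_true, beq_iff_eq, or_assoc]

def hasDiv (p : ℕ) : Bool := (List.range p).any fun a => Nat.ble 2 a && p % a == 0

theorem not_prime_of_hasDiv {p : ℕ} (h : hasDiv p = true) : ¬ p.Prime := by
  unfold hasDiv at h
  rw [List.any_eq_true] at h
  obtain ⟨a, ha, h2⟩ := h
  rw [List.mem_range] at ha
  rw [Bool.and_eq_true, Nat.ble_eq, beq_iff_eq] at h2
  intro hp
  have hdvd : a ∣ p := Nat.dvd_of_mod_eq_zero h2.2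
  rcases (Nat.dvd_prime hp).mp hdvd with h3 | h3
  · omega
  · omega

def chk (r e M D mmax X : ℕ) : Bool :=
  (List.range (D + 1)).all fun d => d == 0 ||
    (List.range (mmax + 1)).all fun m => Nat.ble m e ||
      (List.range (X + 1)).all fun p => Nat.blt p 2 || !(Nat.ble (p ^ d) X) ||
        !((p ^ d - 1) % r == 0) || !((d * (p ^ d - 1) * M) % ((p ^ d) ^ m - 1) == 0) ||
        isS ((p ^ d) ^ m) || hasDiv p

theorem chk_sound {r e M D mmax X : ℕ} (h : chk r e M D mmax X = true)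
    {d m p : ℕ} (hd1 : 1 ≤ d) (hdD : d ≤ D) (hem : e < m) (hmm : m ≤ mmax) (hp2 : 2 ≤ p)
    (hpX : p ^ d ≤ X) (hr : r ∣ p ^ d - 1) (hdiv : (p ^ d) ^ m - 1 ∣ d * (p ^ d - 1) * M)
    (hp : p.Prime) : Sgood ((p ^ d) ^ m) := by
  unfold chk at h
  rw [List.all_eq_true] at h
  have h1 := h d (List.mem_range.mpr (by omega))
  rw [Bool.or_eq_true, beq_iff_eq] at h1
  rcases h1 with h1 | h1
  · omega
  rw [List.all_eq_true] at h1
  have h2 := h1 m (List.mem_range.mpr (by omega))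
  rw [Bool.or_eq_true, Nat.ble_eq] at h2
  rcases h2 with h2 | h2
  · omega
  rw [List.all_eq_true] at h2
  have hpX' : p ≤ X := le_trans (Nat.le_self_pow (by omega) p) hpX
  have h3 := h2 p (List.mem_range.mpr (by omega))
  simp only [Bool.or_eq_true, Bool.not_eq_true', beq_eq_false_iff_ne, ne_eq] at h3
  rcases h3 with ((((h3 | h3) | h3) | h3) | h3) | h3
  · rw [Nat.blt_eq] at h3; omega
  · rw [← Bool.not_eq_true, Nat.ble_eq] at h3; omega
  · exact absurd (Nat.mod_eq_zero_of_dvd hr) h3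
  · exact absurd (Nat.mod_eq_zero_of_dvd hdiv) h3
  · exact (isS_iff _).mp h3
  · exact absurd hp (not_prime_of_hasDiv h3)

/-- the order of `GL_j(r)` -/
def glc (j r : ℕ) : ℕ := ∏ i ∈ Finset.range j, (r ^ j - r ^ i)

theorem glc_le (j r : ℕ) : glc j r ≤ r ^ (j * j) := by
  unfold glc
  calc ∏ i ∈ Finset.range j, (r ^ j - r ^ i) ≤ ∏ _i ∈ Finset.range j, r ^ j :=
        Finset.prod_le_prod' (fun i _ => Nat.sub_le _ _)
    _ = r ^ (j * j) := by rw [Finset.prod_const, Finset.card_range, ← pow_mul]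

theorem glc_pos {j r : ℕ} (hr : 2 ≤ r) : 0 < glc j r := by
  unfold glc
  apply Finset.prod_pos
  intro i hi
  rw [Finset.mem_range] at hi
  exact Nat.sub_pos_of_lt (Nat.pow_lt_pow_right (by omega) hi)

theorem lem_d (M e D₀ : ℕ) (he : 1 ≤ e) (hD₀ : 1 ≤ D₀) (hbase : D₀ * M < 2 ^ (D₀ * e)) :
    ∀ d, D₀ ≤ d → d * M < 2 ^ (d * e) := by
  intro d hd
  induction d, hd using Nat.le_induction with
  | base => exact hbase
  | succ d hd ih =>
    have hM : M ≤ d * M := Nat.le_mul_of_pos_left M (by omega)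
    have h1 : (d + 1) * M < 2 ^ (d * e) + 2 ^ (d * e) := by
      rw [Nat.add_mul, one_mul]; omega
    have h2 : 2 ^ (d * e) + 2 ^ (d * e) = 2 ^ (d * e + 1) := by rw [pow_succ]; ring
    have h3 : 2 ^ (d * e + 1) ≤ 2 ^ ((d + 1) * e) := by
      apply Nat.pow_le_pow_right (by norm_num)
      rw [Nat.add_mul, one_mul]; omega
    omega

theorem key_le {x m d M : ℕ} (hx : 2 ≤ x) (hm : 1 ≤ m)
    (hpos : 0 < d * M) (hdiv : x ^ m - 1 ∣ d * (x - 1) * M) : x ^ (m - 1) ≤ d * M := by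
  obtain ⟨m', rfl⟩ : ∃ m', m = m' + 1 := ⟨m - 1, by omega⟩
  obtain ⟨x', rfl⟩ : ∃ x', x = x' + 2 := ⟨x - 2, by omega⟩
  rw [Nat.add_sub_cancel]
  have hy : 1 ≤ (x' + 2) ^ m' := Nat.one_le_pow _ _ (by omega)
  have h0 : 0 < d * (x' + 2 - 1) * M := by
    have : d * (x' + 2 - 1) * M = d * M * (x' + 1) := by
      rw [show x' + 2 - 1 = x' + 1 by omega]; ring
    rw [this]
    exact Nat.mul_pos hpos (by omega)
  have h1 := Nat.le_of_dvd h0 hdiv
  rw [pow_succ, show x' + 2 - 1 = x' + 1 by omega] at h1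
  by_contra hcon
  push Not at hcon
  have h2 : (d * M + 1) * (x' + 2) ≤ (x' + 2) ^ m' * (x' + 2) := Nat.mul_le_mul_right _ hcon
  have h3 : d * (x' + 1) * M = d * M * x' + d * M := by ring
  have h4 : (d * M + 1) * (x' + 2) = d * M * x' + 2 * (d * M) + x' + 2 := by ring
  omega

theorem case_gen {r e M D mmax X : ℕ} (hchk : chk r e M D mmax X = true) (he : 1 ≤ e)
    (hM : 0 < M) (hD : (D + 1) * M < 2 ^ ((D + 1) * e)) (hmm : D * M < (r + 1) ^ mmax)
    (hX : D * M < (X + 1) ^ e)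
    {p d m : ℕ} (hp : p.Prime) (hd : 1 ≤ d) (hrx : r ∣ p ^ d - 1) (hm : e < m)
    (hdiv : (p ^ d) ^ m - 1 ∣ d * (p ^ d - 1) * M) : Sgood ((p ^ d) ^ m) := by
  have hp2 := hp.two_le
  have h2d : 2 ^ d ≤ p ^ d := Nat.pow_le_pow_left hp2 d
  have hx2 : 2 ≤ p ^ d := le_trans (by
    calc 2 = 2 ^ 1 := by norm_num
      _ ≤ 2 ^ d := Nat.pow_le_pow_right (by norm_num) hd) h2d
  have hrle : r + 1 ≤ p ^ d := by
    have := Nat.le_of_dvd (by omega) hrx
    omega
  have hkey : (p ^ d) ^ (m - 1) ≤ d * M :=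
    key_le hx2 (by omega) (Nat.mul_pos (by omega) hM) hdiv
  have hem : e ≤ m - 1 := by omega
  have hxe : (p ^ d) ^ e ≤ (p ^ d) ^ (m - 1) := Nat.pow_le_pow_right (by omega) hem
  -- bound on d
  have hdD : d ≤ D := by
    by_contra hcon
    push Not at hcon
    have h1 := lem_d M e (D + 1) he (by omega) hD d (by omega)
    have h2 : 2 ^ (d * e) ≤ (p ^ d) ^ e := by
      rw [pow_mul]; exact Nat.pow_le_pow_left h2d e
    omega
  have hkey' : (p ^ d) ^ (m - 1) ≤ D * M := le_trans hkey (Nat.mul_le_mul_right _ hdD)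
  have hmle : m ≤ mmax := by
    by_contra hcon
    push Not at hcon
    have h1 : (r + 1) ^ mmax ≤ (p ^ d) ^ mmax := Nat.pow_le_pow_left hrle _
    have h2 : (p ^ d) ^ mmax ≤ (p ^ d) ^ (m - 1) := Nat.pow_le_pow_right (by omega) (by omega)
    omega
  have hxX : p ^ d ≤ X := by
    by_contra hcon
    push Not at hcon
    have h1 : (X + 1) ^ e ≤ (p ^ d) ^ e := Nat.pow_le_pow_left (by omega) _
    omega
  exact chk_sound hchk hd hdD hm hmle hp2 hxX hrx hdiv hp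

theorem chk_2_1 : chk 2 1 24 7 5 168 = true := by decide +kernel
theorem hM_2_1 : 2 ^ (2 * 1) * glc (2 * 1) 2 = 24 := by decide +kernel
theorem case_2_1 {p d m : ℕ} (hp : p.Prime) (hd : 1 ≤ d) (hrx : 2 ∣ p ^ d - 1) (hm : 2 ^ 1 ≤ m)
    (hdiv : (p ^ d) ^ m - 1 ∣ d * (p ^ d - 1) * (2 ^ (2 * 1) * glc (2 * 1) 2)) : Sgood ((p ^ d) ^ m) := by
  rw [hM_2_1] at hdiv
  exact case_gen chk_2_1 (by norm_num) (by norm_num) (by norm_num) (by norm_num) (by norm_num)
    hp hd hrx (by norm_num at hm; omega) hdiv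

theorem chk_2_2 : chk 2 3 322560 7 14 131 = true := by decide +kernel
theorem hM_2_2 : 2 ^ (2 * 2) * glc (2 * 2) 2 = 322560 := by decide +kernel
theorem case_2_2 {p d m : ℕ} (hp : p.Prime) (hd : 1 ≤ d) (hrx : 2 ∣ p ^ d - 1) (hm : 2 ^ 2 ≤ m)
    (hdiv : (p ^ d) ^ m - 1 ∣ d * (p ^ d - 1) * (2 ^ (2 * 2) * glc (2 * 2) 2)) : Sgood ((p ^ d) ^ m) := by
  rw [hM_2_2] at hdiv
  exact case_gen chk_2_2 (by norm_num) (by norm_num) (by norm_num) (by norm_num) (by norm_num)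
    hp hd hrx (by norm_num at hm; omega) hdiv

theorem chk_2_3 : chk 2 7 1290157424640 6 28 69 = true := by decide +kernel
theorem hM_2_3 : 2 ^ (2 * 3) * glc (2 * 3) 2 = 1290157424640 := by decide +kernel
theorem case_2_3 {p d m : ℕ} (hp : p.Prime) (hd : 1 ≤ d) (hrx : 2 ∣ p ^ d - 1) (hm : 2 ^ 3 ≤ m)
    (hdiv : (p ^ d) ^ m - 1 ∣ d * (p ^ d - 1) * (2 ^ (2 * 3) * glc (2 * 3) 2)) : Sgood ((p ^ d) ^ m) := by
  rw [hM_2_3] at hdiv
  exact case_gen chk_2_3 (by norm_num) (by norm_num) (by norm_num) (by norm_num) (by norm_num)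
    hp hd hrx (by norm_num at hm; omega) hdiv

theorem chk_2_4 : chk 2 15 1369104324918194995200 4 46 28 = true := by decide +kernel
theorem hM_2_4 : 2 ^ (2 * 4) * glc (2 * 4) 2 = 1369104324918194995200 := by decide +kernel
theorem case_2_4 {p d m : ℕ} (hp : p.Prime) (hd : 1 ≤ d) (hrx : 2 ∣ p ^ d - 1) (hm : 2 ^ 4 ≤ m)
    (hdiv : (p ^ d) ^ m - 1 ∣ d * (p ^ d - 1) * (2 ^ (2 * 4) * glc (2 * 4) 2)) : Sgood ((p ^ d) ^ m) := by
  rw [hM_2_4] at hdiv
  exact case_gen chk_2_4 (by norm_num) (by norm_num) (by norm_num) (by norm_num) (by norm_num)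
    hp hd hrx (by norm_num at hm; omega) hdiv

theorem chk_2_5 : chk 2 31 375234700595146883504949480652800 3 70 11 = true := by decide +kernel
theorem hM_2_5 : 2 ^ (2 * 5) * glc (2 * 5) 2 = 375234700595146883504949480652800 := by decide +kernel
theorem case_2_5 {p d m : ℕ} (hp : p.Prime) (hd : 1 ≤ d) (hrx : 2 ∣ p ^ d - 1) (hm : 2 ^ 5 ≤ m)
    (hdiv : (p ^ d) ^ m - 1 ∣ d * (p ^ d - 1) * (2 ^ (2 * 5) * glc (2 * 5) 2)) : Sgood ((p ^ d) ^ m) := by
  rw [hM_2_5] at hdiv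
  exact case_gen chk_2_5 (by norm_num) (by norm_num) (by norm_num) (by norm_num) (by norm_num)
    hp hd hrx (by norm_num at hm; omega) hdiv

theorem chk_2_6 : chk 2 63 26385458351250481733136055834218002085052416000 2 98 5 = true := by decide +kernel
theorem hM_2_6 : 2 ^ (2 * 6) * glc (2 * 6) 2 = 26385458351250481733136055834218002085052416000 := by decide +kernel
theorem case_2_6 {p d m : ℕ} (hp : p.Prime) (hd : 1 ≤ d) (hrx : 2 ∣ p ^ d - 1) (hm : 2 ^ 6 ≤ m)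
    (hdiv : (p ^ d) ^ m - 1 ∣ d * (p ^ d - 1) * (2 ^ (2 * 6) * glc (2 * 6) 2)) : Sgood ((p ^ d) ^ m) := by
  rw [hM_2_6] at hdiv
  exact case_gen chk_2_6 (by norm_num) (by norm_num) (by norm_num) (by norm_num) (by norm_num)
    hp hd hrx (by norm_num at hm; omega) hdiv

theorem chk_2_7 : chk 2 127 475231131781377719509366115693602433255794024417464359583744000 1 132 3 = true := by decide +kernel
theorem hM_2_7 : 2 ^ (2 * 7) * glc (2 * 7) 2 = 475231131781377719509366115693602433255794024417464359583744000 := by decide +kernel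
theorem case_2_7 {p d m : ℕ} (hp : p.Prime) (hd : 1 ≤ d) (hrx : 2 ∣ p ^ d - 1) (hm : 2 ^ 7 ≤ m)
    (hdiv : (p ^ d) ^ m - 1 ∣ d * (p ^ d - 1) * (2 ^ (2 * 7) * glc (2 * 7) 2)) : Sgood ((p ^ d) ^ m) := by
  rw [hM_2_7] at hdiv
  exact case_gen chk_2_7 (by norm_num) (by norm_num) (by norm_num) (by norm_num) (by norm_num)
    hp hd hrx (by norm_num at hm; omega) hdiv

theorem chk_2_8 : chk 2 255 2191516442724341427197177313875589633807794746965524995685190525909237120368640000 1 171 2 = true := by decide +kernel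
theorem hM_2_8 : 2 ^ (2 * 8) * glc (2 * 8) 2 = 2191516442724341427197177313875589633807794746965524995685190525909237120368640000 := by decide +kernel
theorem case_2_8 {p d m : ℕ} (hp : p.Prime) (hd : 1 ≤ d) (hrx : 2 ∣ p ^ d - 1) (hm : 2 ^ 8 ≤ m)
    (hdiv : (p ^ d) ^ m - 1 ∣ d * (p ^ d - 1) * (2 ^ (2 * 8) * glc (2 * 8) 2)) : Sgood ((p ^ d) ^ m) := by
  rw [hM_2_8] at hdiv
  exact case_gen chk_2_8 (by norm_num) (by norm_num) (by decide +kernel) (by decide +kernel)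
    (by decide +kernel)
    hp hd hrx (by norm_num at hm; omega) hdiv

theorem chk_3_1 : chk 3 2 432 5 6 46 = true := by decide +kernel
theorem hM_3_1 : 3 ^ (2 * 1) * glc (2 * 1) 3 = 432 := by decide +kernel
theorem case_3_1 {p d m : ℕ} (hp : p.Prime) (hd : 1 ≤ d) (hrx : 3 ∣ p ^ d - 1) (hm : 3 ^ 1 ≤ m)
    (hdiv : (p ^ d) ^ m - 1 ∣ d * (p ^ d - 1) * (3 ^ (2 * 1) * glc (2 * 1) 3)) : Sgood ((p ^ d) ^ m) := by
  rw [hM_3_1] at hdiv
  exact case_gen chk_3_1 (by norm_num) (by norm_num) (by norm_num) (by norm_num) (by norm_num)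
    hp hd hrx (by norm_num at hm; omega) hdiv

theorem chk_3_2 : chk 3 8 1965150720 4 17 17 = true := by decide +kernel
theorem hM_3_2 : 3 ^ (2 * 2) * glc (2 * 2) 3 = 1965150720 := by decide +kernel
theorem case_3_2 {p d m : ℕ} (hp : p.Prime) (hd : 1 ≤ d) (hrx : 3 ∣ p ^ d - 1) (hm : 3 ^ 2 ≤ m)
    (hdiv : (p ^ d) ^ m - 1 ∣ d * (p ^ d - 1) * (3 ^ (2 * 2) * glc (2 * 2) 3)) : Sgood ((p ^ d) ^ m) := by
  rw [hM_3_2] at hdiv
  exact case_gen chk_3_2 (by norm_num) (by norm_num) (by norm_num) (by norm_num) (by norm_num)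
    hp hd hrx (by norm_num at hm; omega) hdiv

theorem chk_3_3 : chk 3 26 61330486826476707840 2 34 5 = true := by decide +kernel
theorem hM_3_3 : 3 ^ (2 * 3) * glc (2 * 3) 3 = 61330486826476707840 := by decide +kernel
theorem case_3_3 {p d m : ℕ} (hp : p.Prime) (hd : 1 ≤ d) (hrx : 3 ∣ p ^ d - 1) (hm : 3 ^ 3 ≤ m)
    (hdiv : (p ^ d) ^ m - 1 ∣ d * (p ^ d - 1) * (3 ^ (2 * 3) * glc (2 * 3) 3)) : Sgood ((p ^ d) ^ m) := by
  rw [hM_3_3] at hdiv
  exact case_gen chk_3_3 (by norm_num) (by norm_num) (by norm_num) (by norm_num) (by norm_num)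
    hp hd hrx (by norm_num at hm; omega) hdiv

theorem chk_5_1 : chk 5 4 12000 3 6 13 = true := by decide +kernel
theorem hM_5_1 : 5 ^ (2 * 1) * glc (2 * 1) 5 = 12000 := by decide +kernel
theorem case_5_1 {p d m : ℕ} (hp : p.Prime) (hd : 1 ≤ d) (hrx : 5 ∣ p ^ d - 1) (hm : 5 ^ 1 ≤ m)
    (hdiv : (p ^ d) ^ m - 1 ∣ d * (p ^ d - 1) * (5 ^ (2 * 1) * glc (2 * 1) 5)) : Sgood ((p ^ d) ^ m) := by
  rw [hM_5_1] at hdiv
  exact case_gen chk_5_1 (by norm_num) (by norm_num) (by norm_num) (by norm_num) (by norm_num)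
    hp hd hrx (by norm_num at hm; omega) hdiv

theorem chk_7_1 : chk 7 6 98784 3 7 8 = true := by decide +kernel
theorem hM_7_1 : 7 ^ (2 * 1) * glc (2 * 1) 7 = 98784 := by decide +kernel
theorem case_7_1 {p d m : ℕ} (hp : p.Prime) (hd : 1 ≤ d) (hrx : 7 ∣ p ^ d - 1) (hm : 7 ^ 1 ≤ m)
    (hdiv : (p ^ d) ^ m - 1 ∣ d * (p ^ d - 1) * (7 ^ (2 * 1) * glc (2 * 1) 7)) : Sgood ((p ^ d) ^ m) := by
  rw [hM_7_1] at hdiv
  exact case_gen chk_7_1 (by norm_num) (by norm_num) (by norm_num) (by norm_num) (by norm_num)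
    hp hd hrx (by norm_num at hm; omega) hdiv

theorem two_pow_gt : ∀ k, 9 ≤ k → 4 * k ^ 2 + 2 * k + 1 < 2 ^ k := by
  intro k hk
  induction k, hk using Nat.le_induction with
  | base => norm_num
  | succ k hk ih =>
    have h1 : 2 ^ (k + 1) = 2 * 2 ^ k := by ring
    rw [h1]
    nlinarith

theorem rk_cases {r k : ℕ} (hr : r.Prime) (hk : 1 ≤ k) (h : r ^ k ≤ 4 * k ^ 2 + 2 * k + 1) :
    (r = 2 ∧ k ≤ 8) ∨ (r = 3 ∧ k ≤ 3) ∨ (r = 5 ∧ k = 1) ∨ (r = 7 ∧ k = 1) := by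
  have hr2 := hr.two_le
  have hk8 : k ≤ 8 := by
    by_contra hcon
    push Not at hcon
    have h1 := two_pow_gt k (by omega)
    have h2 : 2 ^ k ≤ r ^ k := Nat.pow_le_pow_left hr2 k
    omega
  have hbound : ∀ c : ℕ, 4 * k ^ 2 + 2 * k + 1 < c ^ k → r < c := by
    intro c hc
    by_contra hcon
    push Not at hcon
    have := Nat.pow_le_pow_left hcon k
    omega
  interval_cases k
  · have := hbound 8 (by norm_num)
    interval_cases r <;> first | omega | (exfalso; revert hr; decide)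
  · have := hbound 5 (by norm_num)
    interval_cases r <;> first | omega | (exfalso; revert hr; decide)
  · have := hbound 4 (by norm_num)
    interval_cases r <;> omega
  · have := hbound 3 (by norm_num)
    interval_cases r
    omega
  · have := hbound 3 (by norm_num)
    interval_cases r
    omega
  · have := hbound 3 (by norm_num)
    interval_cases r
    omega
  · have := hbound 3 (by norm_num)
    interval_cases r
    omega
  · have := hbound 3 (by norm_num)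
    interval_cases r
    omega

/-- **Main arithmetic lemma.** -/
theorem main {p d m r k : ℕ} (hp : p.Prime) (hd : 1 ≤ d) (hr : r.Prime) (hk : 1 ≤ k)
    (hrx : r ∣ p ^ d - 1) (hm : r ^ k ≤ m)
    (hdiv : (p ^ d) ^ m - 1 ∣ d * (p ^ d - 1) * (r ^ (2 * k) * glc (2 * k) r)) :
    Sgood ((p ^ d) ^ m) := by
  have hp2 := hp.two_le
  have hr2 := hr.two_le
  have h2d : 2 ^ d ≤ p ^ d := Nat.pow_le_pow_left hp2 d
  have hdlt : d < p ^ d := lt_of_lt_of_le Nat.lt_two_pow_self h2d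
  have hx2 : 2 ≤ p ^ d := by omega
  have hrlt : r < p ^ d := by
    have := Nat.le_of_dvd (by omega) hrx
    omega
  have hrk2 : 2 ≤ r ^ k := by
    calc 2 ≤ r := hr2
      _ = r ^ 1 := (pow_one r).symm
      _ ≤ r ^ k := Nat.pow_le_pow_right (by omega) hk
  have hMpos : 0 < r ^ (2 * k) * glc (2 * k) r :=
    Nat.mul_pos (Nat.pow_pos (by omega)) (glc_pos hr2)
  have hkey : (p ^ d) ^ (m - 1) ≤ d * (r ^ (2 * k) * glc (2 * k) r) :=
    key_le hx2 (by omega) (Nat.mul_pos (by omega) hMpos) hdiv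
  -- crude bound
  have hM1 : r ^ (2 * k) * glc (2 * k) r ≤ (p ^ d) ^ (2 * k + 2 * k * (2 * k)) := by
    calc r ^ (2 * k) * glc (2 * k) r ≤ r ^ (2 * k) * r ^ (2 * k * (2 * k)) :=
          Nat.mul_le_mul_left _ (glc_le _ _)
      _ = r ^ (2 * k + 2 * k * (2 * k)) := (pow_add _ _ _).symm
      _ ≤ (p ^ d) ^ (2 * k + 2 * k * (2 * k)) := Nat.pow_le_pow_left hrlt.le _
  have h3 : (p ^ d) ^ (m - 1) < (p ^ d) ^ (2 * k + 2 * k * (2 * k) + 1) := by
    calc (p ^ d) ^ (m - 1) ≤ d * (r ^ (2 * k) * glc (2 * k) r) := hkey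
      _ ≤ d * (p ^ d) ^ (2 * k + 2 * k * (2 * k)) := Nat.mul_le_mul_left _ hM1
      _ < p ^ d * (p ^ d) ^ (2 * k + 2 * k * (2 * k)) :=
          Nat.mul_lt_mul_of_pos_right hdlt (Nat.pow_pos (by omega))
      _ = (p ^ d) ^ (2 * k + 2 * k * (2 * k) + 1) := by rw [pow_succ]; ring
  have h4 : m - 1 < 2 * k + 2 * k * (2 * k) + 1 := (Nat.pow_lt_pow_iff_right (by omega)).mp h3
  have h5 : r ^ k ≤ 4 * k ^ 2 + 2 * k + 1 := by
    have : 2 * k * (2 * k) = 4 * k ^ 2 := by ring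
    omega
  rcases rk_cases hr hk h5 with ⟨rfl, hk8⟩ | ⟨rfl, hk3⟩ | ⟨rfl, rfl⟩ | ⟨rfl, rfl⟩
  · interval_cases k
    · exact case_2_1 hp hd hrx hm hdiv
    · exact case_2_2 hp hd hrx hm hdiv
    · exact case_2_3 hp hd hrx hm hdiv
    · exact case_2_4 hp hd hrx hm hdiv
    · exact case_2_5 hp hd hrx hm hdiv
    · exact case_2_6 hp hd hrx hm hdiv
    · exact case_2_7 hp hd hrx hm hdiv
    · exact case_2_8 hp hd hrx hm hdiv
  · interval_cases k
    · exact case_3_1 hp hd hrx hm hdiv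
    · exact case_3_2 hp hd hrx hm hdiv
    · exact case_3_3 hp hd hrx hm hdiv
  · exact case_5_1 hp hd hrx hm hdiv
  · exact case_7_1 hp hd hrx hm hdiv

/-- the case `C_H(A) = A` -/
theorem no_small {p d m : ℕ} (hp : p.Prime) (hd : 1 ≤ d) (hm : 2 ≤ m) :
    ¬ ((p ^ d) ^ m - 1 ∣ d * (p ^ d - 1)) := by
  intro hdiv
  have hp2 := hp.two_le
  have h2d : 2 ^ d ≤ p ^ d := Nat.pow_le_pow_left hp2 d
  have hdlt : d < p ^ d := lt_of_lt_of_le Nat.lt_two_pow_self h2d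
  have hx2 : 2 ≤ p ^ d := by omega
  have hdiv' : (p ^ d) ^ m - 1 ∣ d * (p ^ d - 1) * 1 := by rwa [mul_one]
  have hkey := key_le hx2 (by omega) (by omega : 0 < d * 1) hdiv'
  have h1 : (p ^ d) ^ 1 ≤ (p ^ d) ^ (m - 1) := Nat.pow_le_pow_right (by omega) (by omega)
  rw [pow_one] at h1
  omega

end Cfsg.Agent.Lib.Helper17.HuppertArith
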