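import Cfsg.Agent.S4126
import Cfsg.Agent.Lib.Helper26.FSFocalSmall
import Cfsg.Agent.Lib.Helper26.FSHyperfocal
import Cfsg.Agent.Lib.Helper26.FSFrobenius

/-!
Automorphisms of order prime to `p` of a `p`-group `H` inside a group `A` of automorphisms, and chains
`Z 0 ≤ Z 1 ≤ …` of `H` that the automorphisms respect on the elements of small order (order `p`, or `4` when `p = 2`)
of an invariant subgroup `K` containing the commutators `x⁻¹ g(x)`.  Used for S5297 and S5298 (maps between small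
cyclic subgroups of the hyperfocal subgroup).
-/

set_option autoImplicit false
universe u

namespace Cfsg.Agent.Lib.Helper17

open Cfsg Cfsg.FusionSystem Cfsg.Agent.Lib.Helper26

section Abstract

variable {H : Type u} [Group H]

/-- Inside an `A`-invariant subgroup `K` of the `p`-group `H` on which the `p'`-automorphism `g ∈ A` acts nontrivially
there is an `A`-invariant subgroup `D` of small exponent on which `g` still acts nontrivially. -/
theorem exists_small_invariant [Finite H] {p : ℕ} [Fact p.Prime] (hH : IsPGroup p H)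
    (A : Subgroup (MulAut H)) (hInn : Inn H ≤ A) (K : Subgroup H) (hK : ∀ a ∈ A, ∀ x ∈ K, a x ∈ K)
    (g : MulAut H) (hgA : g ∈ A) (hcop : (orderOf g).Coprime p) (x : H) (hx : x ∈ K) (hgx : g x ≠ x) :
    ∃ D : Subgroup H, D ≤ K ∧ (∀ a ∈ A, ∀ d ∈ D, a d ∈ D) ∧
      (∀ d ∈ D, d ^ p = 1 ∨ (p = 2 ∧ d ^ 4 = 1)) ∧ ∃ d ∈ D, g d ≠ d := by
  classical
  let φ : ↥A →* MulAut H := A.subtype
  let Γ := H ⋊[φ] ↥A
  have : Finite Γ := Finite.of_equiv _ (SemidirectProduct.equivProd (N := H) (G := ↥A) (φ := φ)).symm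
  let il : H →* Γ := SemidirectProduct.inl
  let ir : ↥A →* Γ := SemidirectProduct.inr
  have hil_inj : Function.Injective il := SemidirectProduct.inl_injective
  have hir_inj : Function.Injective ir := SemidirectProduct.inr_injective
  have haut : ∀ (a : ↥A) (n : H), il ((a : MulAut H) n) = ir a * il n * (ir a)⁻¹ := by
    intro a n
    have := SemidirectProduct.inl_aut (φ := φ) a n
    rw [map_inv] at this
    exact this
  let R : Subgroup Γ := K.map il
  have hRn : R.Normal := by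
    constructor
    rintro _ ⟨k, hk, rfl⟩ γ
    obtain ⟨l, r, hγ⟩ : ∃ (l : H) (r : ↥A), γ = il l * ir r :=
      ⟨γ.left, γ.right, (SemidirectProduct.inl_left_mul_inr_right γ).symm⟩
    subst hγ
    have h1 : ir r * il k * (ir r)⁻¹ = il ((r : MulAut H) k) := (haut _ _).symm
    have h2 : il l * ir r * il k * (il l * ir r)⁻¹ = il (l * ((r : MulAut H) k) * l⁻¹) := by
      have h5 : il l * ir r * il k * (il l * ir r)⁻¹ = il l * (ir r * il k * (ir r)⁻¹) * (il l)⁻¹ := by
        rw [mul_inv_rev]; simp only [mul_assoc]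
      rw [h5, h1, ← map_inv, ← map_mul, ← map_mul]
    rw [h2]
    refine ⟨_, ?_, rfl⟩
    have h3 : (r : MulAut H) k ∈ K := hK _ r.2 k hk
    have h4 := hK (MulAut.conj l) (hInn ⟨l, rfl⟩) _ h3
    rwa [MulAut.conj_apply] at h4
  have hRp : IsPGroup p R := (hH.to_subgroup K).map il
  let g' : Γ := ir ⟨g, hgA⟩
  have hg'ord : orderOf g' = orderOf g := by
    have h1 : orderOf g' = orderOf (⟨g, hgA⟩ : ↥A) := orderOf_injective ir hir_inj _
    rw [h1, Subgroup.orderOf_mk]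
  have hcomm : ∀ n : H, g' * il n = il n * g' → g n = n := by
    intro n hn
    have h1 : il (g n) = g' * il n * g'⁻¹ := haut ⟨g, hgA⟩ n
    rw [hn, mul_inv_cancel_right] at h1
    exact hil_inj h1
  obtain ⟨D', hD'n, hD'R, hD'exp, a', ha'D, hga'⟩ := Cfsg.Agent.S4126.exists_small_exponent p
    (if p = 2 then 4 else p) rfl R hRp g' (by rw [hg'ord]; exact hcop) (il x) ⟨x, hx, rfl⟩
    (fun h => hgx (hcomm x h))
  refine ⟨D'.comap il, ?_, ?_, ?_, ?_⟩
  · intro d hd
    obtain ⟨k, hk, hkd⟩ := hD'R (Subgroup.mem_comap.mp hd)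
    rw [← hil_inj hkd]
    exact hk
  · intro a ha d hd
    rw [Subgroup.mem_comap]
    have := haut ⟨a, ha⟩ d
    rw [show ((⟨a, ha⟩ : ↥A) : MulAut H) = a from rfl] at this
    rw [this]
    exact hD'n.conj_mem _ (Subgroup.mem_comap.mp hd) _
  · intro d hd
    have h1 := hD'exp _ (Subgroup.mem_comap.mp hd)
    rw [← map_pow] at h1
    have h2 : d ^ (if p = 2 then 4 else p) = 1 := hil_inj (by rw [h1, map_one])
    by_cases hp2 : p = 2
    · right
      rw [if_pos hp2] at h2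
      exact ⟨hp2, h2⟩
    · left
      rw [if_neg hp2] at h2
      exact h2
  · obtain ⟨k, hk, hka⟩ := hD'R ha'D
    refine ⟨k, ?_, ?_⟩
    · rw [Subgroup.mem_comap, hka]
      exact ha'D
    · intro hgk
      apply hga'
      rw [← hka]
      have h1 : il (g k) = g' * il k * g'⁻¹ := haut ⟨g, hgA⟩ k
      rw [hgk] at h1
      exact mul_inv_eq_iff_eq_mul.mp h1.symm

/-- A `p'`-automorphism `g ∈ A` lying in every `A`-normalized subgroup containing `B` is trivial, if `A` respects a chain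
`Z` on the small elements of an invariant subgroup `K ⊇ [H, g]` and `B` acts trivially on the factors of the chain
(again on small elements of `K`). -/
theorem coprime_trivial_of_chain [Finite H] {p : ℕ} [Fact p.Prime] (hH : IsPGroup p H)
    (A : Subgroup (MulAut H)) (hInn : Inn H ≤ A)
    (Z : ℕ → Subgroup H) (hmono : Monotone Z) (h0 : Z 0 = ⊥) (n : ℕ) (hn : Z n = ⊤)
    (K : Subgroup H) (hKinv : ∀ a ∈ A, ∀ x ∈ K, a x ∈ K)
    (B : Subgroup (MulAut H)) (hBA : B ≤ A)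
    (h1 : ∀ a ∈ A, ∀ y ∈ K, (y ^ p = 1 ∨ (p = 2 ∧ y ^ 4 = 1)) → ∀ i, y ∈ Z i → a y ∈ Z i)
    (h2 : ∀ r ∈ B, ∀ y ∈ K, (y ^ p = 1 ∨ (p = 2 ∧ y ^ 4 = 1)) → ∀ i, y ∈ Z (i + 1) → y⁻¹ * r y ∈ Z i)
    (g : MulAut H) (hgA : g ∈ A) (hcop : (orderOf g).Coprime p)
    (hgK : ∀ x : H, x⁻¹ * g x ∈ K)
    (hgB : ∀ N : Subgroup (MulAut H), (∀ a ∈ A, ∀ m ∈ N, a * m * a⁻¹ ∈ N) → B ≤ N → g ∈ N) : g = 1 := by
  by_contra hne
  have hex : ∃ x : H, g x ≠ x := by
    by_contra hcon
    push Not at hcon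
    apply hne
    ext x
    exact hcon x
  obtain ⟨x, hx⟩ := hex
  have hy0 : g (x⁻¹ * g x) ≠ x⁻¹ * g x := fun hc =>
    hx (Cfsg.Agent.Lib.Helper20.fix_of_fix_comm hH g hcop x hc)
  obtain ⟨D, hDK, hDinv, hDsmall, d₀, hd₀, hgd₀⟩ :=
    exists_small_invariant hH A hInn K hKinv g hgA hcop _ (hgK x) hy0
  -- the chain `D ⊓ Z i`
  let T : ℕ → Subgroup H := fun i => D ⊓ Z i
  have hTmono : Monotone T := fun i j hij => inf_le_inf_left D (hmono hij)
  have hinv1 : ∀ γ ∈ A, ∀ i x, x ∈ T i → γ x ∈ T i := by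
    intro γ hγ i x hx
    obtain ⟨hxD, hxZ⟩ := Subgroup.mem_inf.mp hx
    exact Subgroup.mem_inf.mpr ⟨hDinv γ hγ x hxD, h1 γ hγ x (hDK hxD) (hDsmall x hxD) i hxZ⟩
  have hinv : ∀ γ ∈ A, ∀ i x, x ∈ T i ↔ γ x ∈ T i := by
    intro γ hγ i x
    constructor
    · exact hinv1 γ hγ i x
    · intro hx
      have := hinv1 γ⁻¹ (A.inv_mem hγ) i _ hx
      rwa [MulAut.inv_apply_self] at this
  have hBstab : B ≤ chainStab T hTmono ⊓ A := by
    intro r hr
    refine Subgroup.mem_inf.mpr ⟨?_, hBA hr⟩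
    rw [mem_chainStab]
    refine ⟨hinv r (hBA hr), fun i x hx => ?_⟩
    obtain ⟨hxD, hxZ⟩ := Subgroup.mem_inf.mp hx
    refine Subgroup.mem_inf.mpr ⟨D.mul_mem (D.inv_mem hxD) (hDinv r (hBA hr) x hxD), ?_⟩
    exact h2 r hr x (hDK hxD) (hDsmall x hxD) i hxZ
  have hnorm : ∀ a ∈ A, ∀ m ∈ chainStab T hTmono ⊓ A, a * m * a⁻¹ ∈ chainStab T hTmono ⊓ A := by
    intro a ha m hm
    have hN := chainStab_inf_normal T hTmono A hinv
    have hmA : m ∈ A := (Subgroup.mem_inf.mp hm).2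
    have h3 : (⟨m, hmA⟩ : ↥A) ∈ (chainStab T hTmono ⊓ A).subgroupOf A := by
      rw [Subgroup.mem_subgroupOf]; exact hm
    have h4 := hN.conj_mem _ h3 ⟨a, ha⟩
    rw [Subgroup.mem_subgroupOf] at h4
    exact h4
  have hgstab : g ∈ chainStab T hTmono := (Subgroup.mem_inf.mp (hgB _ hnorm hBstab)).1
  rw [mem_chainStab] at hgstab
  have hfix : ∀ i, ∀ x ∈ T i, g x = x := by
    intro i
    induction i with
    | zero =>
      intro x hx
      have : x ∈ Z 0 := (Subgroup.mem_inf.mp hx).2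
      rw [h0, Subgroup.mem_bot] at this
      rw [this, map_one]
    | succ i ih =>
      intro x hx
      have hc := hgstab.2 i x hx
      exact Cfsg.Agent.Lib.Helper20.fix_of_fix_comm hH g hcop x (ih _ hc)
  apply hgd₀
  apply hfix n
  refine Subgroup.mem_inf.mpr ⟨hd₀, ?_⟩
  rw [hn]
  exact Subgroup.mem_top _

end Abstract

section Small

/-- The cyclic group generated by a nontrivial small element has order `p` or `4`. -/
theorem card_zpowers_small {G : Type*} [Group G] {p : ℕ} [Fact p.Prime] (y : G) (hy1 : y ≠ 1)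
    (hys : y ^ p = 1 ∨ (p = 2 ∧ y ^ 4 = 1)) :
    Nat.card (Subgroup.zpowers y) = p ∨ Nat.card (Subgroup.zpowers y) = 4 := by
  have hpp : p.Prime := Fact.out
  rw [Nat.card_zpowers]
  rcases hys with h | ⟨h2, h4⟩
  · left
    exact orderOf_eq_prime h hy1
  · have hd : orderOf y ∣ 2 ^ 2 := orderOf_dvd_of_pow_eq_one (by norm_num; exact h4)
    obtain ⟨k, hk, hk2⟩ := (Nat.dvd_prime_pow Nat.prime_two).mp hd
    interval_cases k
    · exfalso
      apply hy1
      rw [← orderOf_eq_one_iff, hk2]; norm_num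
    · left; rw [hk2, h2]; norm_num
    · right; rw [hk2]; norm_num

end Small

section Ucs

open scoped commutatorElement

variable {Ω : Type u} [Group Ω]

/-- The upper central series of `S`, inside the ambient group. -/
def ucs (S : Subgroup Ω) (i : ℕ) : Subgroup Ω := (Subgroup.upperCentralSeries ↥S i).map S.subtype

theorem ucs_le (S : Subgroup Ω) (i : ℕ) : ucs S i ≤ S := by
  rintro _ ⟨x, -, rfl⟩
  exact x.2

theorem mem_ucs_iff (S : Subgroup Ω) (i : ℕ) (y : Ω) (hy : y ∈ S) :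
    y ∈ ucs S i ↔ (⟨y, hy⟩ : ↥S) ∈ Subgroup.upperCentralSeries ↥S i := by
  constructor
  · rintro ⟨x, hx, hxy⟩
    have : x = ⟨y, hy⟩ := Subtype.ext hxy
    rwa [← this]
  · intro h
    exact ⟨⟨y, hy⟩, h, rfl⟩

theorem ucs_mono (S : Subgroup Ω) : Monotone (ucs S) := fun _ _ hij =>
  Subgroup.map_mono (Subgroup.upperCentralSeries_mono _ hij)

theorem ucs_zero (S : Subgroup Ω) : ucs S 0 = ⊥ := by
  unfold ucs
  rw [Subgroup.upperCentralSeries_zero, Subgroup.map_bot]

theorem exists_ucs_eq {S : Subgroup Ω} [Finite S] {p : ℕ} [Fact p.Prime] (hS : IsPGroup p S) :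
    ∃ n : ℕ, ucs S n = S := by
  haveI : Group.IsNilpotent ↥S := hS.isNilpotent
  obtain ⟨n, hn⟩ := Group.IsNilpotent.nilpotent (G := ↥S)
  refine ⟨n, ?_⟩
  unfold ucs
  rw [hn, ← MonoidHom.range_eq_map, Subgroup.range_subtype]

theorem ucs_conj_mem {S : Subgroup Ω} {i : ℕ} {s y : Ω} (hs : s ∈ S) (hy : y ∈ ucs S i) :
    s * y * s⁻¹ ∈ ucs S i := by
  have hyS : y ∈ S := ucs_le S i hy
  rw [mem_ucs_iff S i y hyS] at hy
  have hn : (Subgroup.upperCentralSeries ↥S i).Normal := inferInstance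
  have := hn.conj_mem _ hy ⟨s, hs⟩
  exact ⟨_, this, rfl⟩

theorem ucs_comm_mem {S : Subgroup Ω} {i : ℕ} {s y : Ω} (hs : s ∈ S) (hy : y ∈ ucs S (i + 1)) :
    y⁻¹ * (s * y * s⁻¹) ∈ ucs S i := by
  have hyS : y ∈ S := ucs_le S _ hy
  rw [mem_ucs_iff S _ y hyS] at hy
  have hy' := (Subgroup.upperCentralSeries ↥S (i + 1)).inv_mem hy
  rw [Subgroup.mem_upperCentralSeries_succ_iff] at hy'
  have := hy' ⟨s, hs⟩
  refine ⟨_, this, ?_⟩
  show (⁅(⟨y, hyS⟩ : ↥S)⁻¹, ⟨s, hs⟩⁆ : ↥S).1 = y⁻¹ * (s * y * s⁻¹)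
  rw [commutatorElement_def]
  simp [mul_assoc]

/-- An injective endomorphism of the finite group `S` preserves the upper central series. -/
theorem ucs_map_mem {S : Subgroup Ω} [Finite S] (ψ : ↥S →* Ω) (hinj : Function.Injective ψ)
    (hψ : ∀ x, ψ x ∈ S) {i : ℕ} {y : Ω} (hy : y ∈ ucs S i) (hyS : y ∈ S) : ψ ⟨y, hyS⟩ ∈ ucs S i := by
  let σ₀ : ↥S →* ↥S := ψ.codRestrict S hψ
  have hσinj : Function.Injective σ₀ := by
    intro a b hab
    apply hinj
    exact congrArg Subtype.val hab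
  have hσbij : Function.Bijective σ₀ := Finite.injective_iff_bijective.mp hσinj
  let σ : ↥S ≃* ↥S := MulEquiv.ofBijective σ₀ hσbij
  rw [mem_ucs_iff S i y hyS] at hy
  have hchar : (Subgroup.upperCentralSeries ↥S i).Characteristic := inferInstance
  have := (Subgroup.characteristic_iff_le_comap.mp hchar σ) hy
  rw [Subgroup.mem_comap] at this
  exact ⟨_, this, rfl⟩

end Ucs

section Fusion

variable {Ω : Type u} [Group Ω] {S : Subgroup Ω}

/-- The restriction of an automorphism in `Aut_F(P)` to the cyclic subgroup generated by `y ∈ P`. -/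
theorem restrict_zpowers_mem (F : FusionSystem S) {P : Subgroup Ω} (hPS : P ≤ S) {α : MulAut P}
    (hα : α ∈ F.autGroup P) (y : P) (hle : Subgroup.zpowers (y : Ω) ≤ P) :
    (P.subtype.comp α.toMonoidHom).comp (Subgroup.inclusion hle) ∈
      F.homSet (Subgroup.zpowers (y : Ω)) (Subgroup.zpowers ((α y : P) : Ω)) := by
  refine ⟨inclusion_comp_mem F hle ((mem_autGroup_iff F hPS α).mp hα), ?_⟩
  rintro ⟨x, hx⟩
  obtain ⟨k, hk⟩ := Subgroup.mem_zpowers_iff.mp hx
  have h1 : (⟨x, hle hx⟩ : P) = y ^ k := Subtype.ext (by show x = ((y ^ k : P) : Ω); rw [← hk]; simp)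
  show ((α ⟨x, hle hx⟩ : P) : Ω) ∈ _
  rw [h1, map_zpow]
  have h2 : (((α y) ^ k : P) : Ω) = ((α y : P) : Ω) ^ k := by simp
  rw [h2]
  exact Subgroup.zpow_mem_zpowers _ k

/-- Automorphisms in `Aut_F(P)` preserve the hyperfocal subgroup. -/
theorem aut_apply_mem_hyperfocal [Finite S] {p : ℕ} [Fact p.Prime] (hS : IsPGroup p S) (F : FusionSystem S)
    (hF : F.IsSaturated p) {P : Subgroup Ω} (hPS : P ≤ S) {α : MulAut P} (hα : α ∈ F.autGroup P) (x : P)
    (hx : (x : Ω) ∈ F.hyperfocalSubgroup p) : ((α x : P) : Ω) ∈ F.hyperfocalSubgroup p := by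
  have hle : Subgroup.zpowers (x : Ω) ≤ P := (Subgroup.zpowers_le).mpr x.2
  have hφ := restrict_zpowers_mem F hPS hα x hle
  have hA : Subgroup.zpowers (x : Ω) ≤ F.hyperfocalSubgroup p := (Subgroup.zpowers_le).mpr hx
  exact (hyperfocal_stronglyClosed hS F hF).2 _ hA _ hφ.1 ⟨(x : Ω), Subgroup.mem_zpowers _⟩

/-- The restriction of `α ∈ Aut_F(P)` to the cyclic group generated by a small element `y` of the hyperfocal subgroup belongs
to any family `X` of maps containing all maps of `F` between small cyclic subgroups of the hyperfocal subgroup. -/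
theorem exists_small_map [Finite S] {p : ℕ} [Fact p.Prime] (hS : IsPGroup p S) (F : FusionSystem S)
    (hF : F.IsSaturated p) (X : (A : Subgroup Ω) → Set (A →* Ω))
    (h : ∀ A B : Subgroup Ω, A ≤ F.hyperfocalSubgroup p → B ≤ F.hyperfocalSubgroup p → IsCyclic ↥A →
      (Nat.card ↥A = p ∨ Nat.card ↥A = 4) → IsCyclic ↥B → (Nat.card ↥B = p ∨ Nat.card ↥B = 4) →
      F.homSet A B ⊆ X A)
    {P : Subgroup Ω} (hPS : P ≤ S) {α : MulAut P} (hα : α ∈ F.autGroup P) (y : P)
    (hyH : (y : Ω) ∈ F.hyperfocalSubgroup p) (hy1 : y ≠ 1)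
    (hys : (y : Ω) ^ p = 1 ∨ (p = 2 ∧ (y : Ω) ^ 4 = 1)) :
    ∃ φ ∈ X (Subgroup.zpowers (y : Ω)), φ ⟨(y : Ω), Subgroup.mem_zpowers _⟩ = ((α y : P) : Ω) := by
  have hle : Subgroup.zpowers (y : Ω) ≤ P := (Subgroup.zpowers_le).mpr y.2
  have hφ := restrict_zpowers_mem F hPS hα y hle
  have hA : Subgroup.zpowers (y : Ω) ≤ F.hyperfocalSubgroup p := (Subgroup.zpowers_le).mpr hyH
  have hB : Subgroup.zpowers ((α y : P) : Ω) ≤ F.hyperfocalSubgroup p :=
    (Subgroup.zpowers_le).mpr (aut_apply_mem_hyperfocal hS F hF hPS hα y hyH)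
  have hyΩ : (y : Ω) ≠ 1 := fun hc => hy1 (Subtype.ext hc)
  have hαy1 : ((α y : P) : Ω) ≠ 1 := by
    intro hc
    apply hy1
    apply α.injective
    rw [map_one]
    exact Subtype.ext hc
  have hαys : ((α y : P) : Ω) ^ p = 1 ∨ (p = 2 ∧ ((α y : P) : Ω) ^ 4 = 1) := by
    rcases hys with h1 | ⟨h2, h1⟩
    · left
      have h3 : y ^ p = 1 := Subtype.ext (by simpa using h1)
      have h4 : (α y) ^ p = 1 := by rw [← map_pow, h3, map_one]
      have := congrArg Subtype.val h4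
      simpa using this
    · right
      refine ⟨h2, ?_⟩
      have h3 : y ^ 4 = 1 := Subtype.ext (by simpa using h1)
      have h4 : (α y) ^ 4 = 1 := by rw [← map_pow, h3, map_one]
      have := congrArg Subtype.val h4
      simpa using this
  refine ⟨_, h _ _ hA hB inferInstance (card_zpowers_small _ hyΩ hys) inferInstance
    (card_zpowers_small _ hαy1 hαys) hφ, rfl⟩

end Fusion

end Cfsg.Agent.Lib.Helper17
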