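/-
Helper lemmas (helper17): isolated p-elements.
-/
import Cfsg.Agent.Lib.Helper17.Basic
import Cfsg.Prelude.Def_IsolatedElements
import Mathlib.GroupTheory.Sylow
import Mathlib.Tactic

set_option autoImplicit false

namespace Cfsg.Agent.Lib.Helper17

/-- An isolated element of a `p`-subgroup `R` is central in `R`. -/
theorem isolated_comm_of_pgroup {G : Type*} [Group G] [Finite G] {p : ℕ} [Fact p.Prime] {x : G}
    (hiso : Cfsg.IsIsolated x) (R : Subgroup G) (hR : IsPGroup p R) (hxR : x ∈ R) :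
    ∀ r ∈ R, r * x = x * r := by
  have hQ : R ⊓ Subgroup.centralizer ({x} : Set G) = R := by
    apply eq_of_normalizer_inf_le _ R hR inf_le_left
    intro n hn
    have hxQ : x ∈ R ⊓ Subgroup.centralizer ({x} : Set G) :=
      ⟨hxR, Subgroup.mem_centralizer_singleton_iff.2 rfl⟩
    have h1 := conj_mem_of_mem_normalizer hn.1 hxQ
    have h1' : n * x * n⁻¹ ∈ Subgroup.centralizer ({x} : Set G) := h1.2
    have h2 : Commute x (n * x * n⁻¹) := (Subgroup.mem_centralizer_singleton_iff.1 h1').symm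
    have h3 := hiso n h2
    refine ⟨hn.2, Subgroup.mem_centralizer_singleton_iff.2 ?_⟩
    calc n * x = (n * x * n⁻¹) * n := by group
      _ = x * n := by rw [h3]
  intro r hr
  have : r ∈ R ⊓ Subgroup.centralizer ({x} : Set G) := hQ.ge hr
  exact Subgroup.mem_centralizer_singleton_iff.1 this.2

/-- The normalizer of a `p`-subgroup containing an isolated element `x` centralizes `x`. -/
theorem isolated_normalizer_le {G : Type*} [Group G] [Finite G] {p : ℕ} [Fact p.Prime] {x : G}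
    (hiso : Cfsg.IsIsolated x) (R : Subgroup G) (hR : IsPGroup p R) (hxR : x ∈ R) :
    Subgroup.normalizer (R : Set G) ≤ Subgroup.centralizer ({x} : Set G) := by
  intro n hn
  have h1 := conj_mem_of_mem_normalizer hn hxR
  have h2 : Commute x (n * x * n⁻¹) := (isolated_comm_of_pgroup hiso R hR hxR _ h1).symm
  have h3 := hiso n h2
  rw [Subgroup.mem_centralizer_singleton_iff]
  calc n * x = (n * x * n⁻¹) * n := by group
    _ = x * n := by rw [h3]

theorem isPGroup_zpowers_of_orderOf {G : Type*} [Group G] {p : ℕ} [Fact p.Prime] {x : G}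
    (hx : ∃ k : ℕ, orderOf x = p ^ k) : IsPGroup p (Subgroup.zpowers x) := by
  obtain ⟨k, hk⟩ := hx
  apply IsPGroup.of_card (n := k)
  rw [Nat.card_zpowers, hk]

/-- Fusion of an isolated `p`-element inside a subgroup `K` is realised inside `K`. -/
theorem isolated_fusion {G : Type*} [Group G] [Finite G] {p : ℕ} [Fact p.Prime] {x : G}
    (hx : ∃ k : ℕ, orderOf x = p ^ k) (hiso : Cfsg.IsIsolated x) (K : Subgroup G) (hxK : x ∈ K)
    (g : G) (hyK : g * x * g⁻¹ ∈ K) : ∃ c ∈ K, g * x * g⁻¹ = c * x * c⁻¹ := by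
  set y := g * x * g⁻¹ with hy
  have hyord : orderOf y = orderOf x := by
    have : y = MulAut.conj g x := by simp [hy]
    rw [this, MulEquiv.orderOf_eq]
  have hx' : ∃ k : ℕ, orderOf (⟨x, hxK⟩ : ↥K) = p ^ k := by
    obtain ⟨k, hk⟩ := hx
    exact ⟨k, by rw [← hk]; exact Subgroup.orderOf_mk x hxK⟩
  have hy' : ∃ k : ℕ, orderOf (⟨y, hyK⟩ : ↥K) = p ^ k := by
    obtain ⟨k, hk⟩ := hx
    exact ⟨k, by rw [← hk, ← hyord]; exact Subgroup.orderOf_mk y hyK⟩
  obtain ⟨P₁, hP₁⟩ := (isPGroup_zpowers_of_orderOf hx').exists_le_sylow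
  obtain ⟨P₂, hP₂⟩ := (isPGroup_zpowers_of_orderOf hy').exists_le_sylow
  obtain ⟨c, hc⟩ := MulAction.exists_smul_eq ↥K P₁ P₂
  have hx1 : (⟨x, hxK⟩ : ↥K) ∈ (P₁ : Subgroup ↥K) := hP₁ (Subgroup.mem_zpowers _)
  have hy2 : (⟨y, hyK⟩ : ↥K) ∈ (P₂ : Subgroup ↥K) := hP₂ (Subgroup.mem_zpowers _)
  rw [← hc, Sylow.coe_subgroup_smul, Subgroup.mem_pointwise_smul_iff_inv_smul_mem] at hy2
  simp only [MulAut.smul_def, MulAut.inv_apply, MulAut.conj_symm_apply] at hy2
  -- R = image of P₁ in G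
  have hR : IsPGroup p ((P₁ : Subgroup ↥K).map K.subtype) := P₁.isPGroup'.map K.subtype
  have hxR : x ∈ (P₁ : Subgroup ↥K).map K.subtype := ⟨⟨x, hxK⟩, hx1, rfl⟩
  have hyR : (c : G)⁻¹ * y * (c : G) ∈ (P₁ : Subgroup ↥K).map K.subtype := ⟨_, hy2, by simp⟩
  have hcomm := isolated_comm_of_pgroup hiso _ hR hxR _ hyR
  have heq : (c : G)⁻¹ * y * (c : G) = ((c : G)⁻¹ * g) * x * ((c : G)⁻¹ * g)⁻¹ := by
    rw [hy]; group
  have h3 := hiso ((c : G)⁻¹ * g) (by rw [← heq]; exact hcomm.symm)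
  refine ⟨c, c.2, ?_⟩
  rw [← h3, ← heq]
  group

end Cfsg.Agent.Lib.Helper17
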