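/-
Helper lemmas (helper17): towards the `W(S)`-analogue of the ZJ-theorem for action-`p`-stable groups.
Part 2: the join of the conjugates of a subgroup; a subgroup `W` of a Sylow `p`-subgroup on which
quadratic action is trivial and which lies in `O_p(G)` has an elementary abelian normal closure `V`;
under `p`-stability every elementary abelian subgroup of largest order of `S` centralizes `V`.
-/
import Cfsg.Agent.Lib.Helper17.WStable

set_option autoImplicit false

namespace Cfsg.Agent.Lib.Helper17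

open scoped commutatorElement

/-- The join of all conjugates of `D` (its normal closure). -/
def conjSup {G : Type*} [Group G] (D : Subgroup G) : Subgroup G :=
  ⨆ g : G, D.map (MulAut.conj g).toMonoidHom

theorem conjSup_map_le {G : Type*} [Group G] (D : Subgroup G) (h : G) :
    (conjSup D).map (MulAut.conj h).toMonoidHom ≤ conjSup D := by
  unfold conjSup
  rw [Subgroup.map_iSup]
  apply iSup_le
  intro g
  rw [Subgroup.map_map]
  have : (MulAut.conj h).toMonoidHom.comp (MulAut.conj g).toMonoidHom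
      = (MulAut.conj (h * g)).toMonoidHom := by
    ext z
    simp [mul_assoc]
  rw [this]
  exact le_iSup (fun g : G => D.map (MulAut.conj g).toMonoidHom) (h * g)

instance conjSup_normal {G : Type*} [Group G] (D : Subgroup G) : (conjSup D).Normal :=
  ⟨fun n hn h => conjSup_map_le D h ⟨n, hn, by simp⟩⟩

theorem conj_le_conjSup {G : Type*} [Group G] (D : Subgroup G) (g : G) :
    D.map (MulAut.conj g).toMonoidHom ≤ conjSup D :=
  le_iSup (fun g : G => D.map (MulAut.conj g).toMonoidHom) g

theorem le_conjSup {G : Type*} [Group G] (D : Subgroup G) : D ≤ conjSup D := by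
  intro d hd
  exact conj_le_conjSup D 1 ⟨d, hd, by simp⟩

theorem conjSup_le {G : Type*} [Group G] (D N : Subgroup G) [hN : N.Normal] (h : D ≤ N) :
    conjSup D ≤ N := by
  apply iSup_le
  rintro g _ ⟨d, hd, rfl⟩
  exact hN.conj_mem d (h hd) g

/-- If `D` commutes with all its conjugates, its normal closure is abelian. -/
theorem conjSup_comm {G : Type*} [Group G] (D : Subgroup G)
    (h : ∀ g : G, ∀ y ∈ D.map (MulAut.conj g).toMonoidHom, ∀ d ∈ D, d * y = y * d) :
    conjSup D ≤ Subgroup.centralizer (conjSup D : Set G) := by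
  apply iSup_le
  intro g
  rw [Subgroup.le_centralizer_iff]
  apply iSup_le
  intro g' y' hy'
  rw [Subgroup.mem_centralizer_iff]
  rintro y hy
  obtain ⟨d, hd, rfl⟩ := hy
  obtain ⟨d', hd', rfl⟩ := hy'
  have h1 : (MulAut.conj (g⁻¹ * g')).toMonoidHom d' ∈
      D.map (MulAut.conj (g⁻¹ * g')).toMonoidHom := ⟨d', hd', rfl⟩
  have h2 := h (g⁻¹ * g') _ h1 d hd
  simp only [MulEquiv.coe_toMonoidHom, MulAut.conj_apply] at h2 ⊢
  have h3 : g * (d * (g⁻¹ * g' * d' * (g⁻¹ * g')⁻¹)) * g⁻¹
      = g * ((g⁻¹ * g' * d' * (g⁻¹ * g')⁻¹) * d) * g⁻¹ := by rw [h2]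
  calc g * d * g⁻¹ * (g' * d' * g'⁻¹)
      = g * (d * (g⁻¹ * g' * d' * (g⁻¹ * g')⁻¹)) * g⁻¹ := by group
    _ = g * ((g⁻¹ * g' * d' * (g⁻¹ * g')⁻¹) * d) * g⁻¹ := h3
    _ = g' * d' * g'⁻¹ * (g * d * g⁻¹) := by group

/-- If `D` is elementary abelian and commutes with all its conjugates, its normal closure is
elementary abelian. -/
theorem conjSup_elemAb {G : Type*} [Group G] (D : Subgroup G) {p : ℕ}
    (hD : Cfsg.IsElementaryAbelian p D)
    (h : ∀ g : G, ∀ y ∈ D.map (MulAut.conj g).toMonoidHom, ∀ d ∈ D, d * y = y * d) :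
    Cfsg.IsElementaryAbelian p (conjSup D) := by
  have hcomm := conjSup_comm D h
  refine ⟨Subgroup.le_centralizer_iff_isMulCommutative.1 hcomm, ?_⟩
  intro x hx
  have key : x ∈ conjSup D ∧ x ^ p = 1 := by
    have hx' : x ∈ ⨆ g : G, D.map (MulAut.conj g).toMonoidHom := hx
    refine Subgroup.iSup_induction (C := fun x => x ∈ conjSup D ∧ x ^ p = 1) _ hx' ?_ ?_ ?_
    · rintro g _ ⟨d, hd, rfl⟩
      refine ⟨conj_le_conjSup D g ⟨d, hd, rfl⟩, ?_⟩
      rw [← map_pow, hD.2 d hd, map_one]
    · exact ⟨Subgroup.one_mem _, one_pow _⟩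
    · rintro x y ⟨hx, hxp⟩ ⟨hy, hyp⟩
      refine ⟨Subgroup.mul_mem _ hx hy, ?_⟩
      have hc : Commute x y := by
        have := hcomm hy
        rw [Subgroup.mem_centralizer_iff] at this
        exact this x hx
      rw [hc.mul_pow, hxp, hyp, one_mul]
  exact key.2

/-- Under `p`-stability on the normal closure `V` of `W`, where quadratic action of elements of a
Sylow `p`-subgroup on `W` is trivial, every element acting quadratically on `V` centralizes `V`. -/
theorem conjSup_le_centralizer_of_quadratic {G : Type*} [Group G] [Finite G] {p : ℕ} [Fact p.Prime]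
    (S : Sylow p G) (W : Subgroup G)
    (hQT : ∀ y ∈ (S : Subgroup G), (∀ u ∈ W, y * ⁅u, y⁆ = ⁅u, y⁆ * y) → ∀ u ∈ W, u * y = y * u)
    (hst : Cfsg.IsPStableOn p (conjSup W)) (a : G)
    (hquad : ⁅⁅conjSup W, Subgroup.zpowers a⁆, Subgroup.zpowers a⁆ = ⊥) :
    conjSup W ≤ Subgroup.centralizer ({a} : Set G) := by
  have hq1 := (quad_elementwise (conjSup W) a).1 hquad
  apply iSup_le
  rintro g _ ⟨u, hu, rfl⟩
  obtain ⟨s, hs, c, hcC, hx'⟩ :=
    exists_sylow_mul_centralizer_of_quadratic (conjSup W) hst S a g hquad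
  rw [Subgroup.mem_centralizer_iff] at hcC
  have hq2 := quad_conj (conjSup W) a g hq1
  have h3 := quad_of_mul_centralizer (conjSup W) (g⁻¹ * a * g) s c hx'
    (fun v hv => hcC v hv) hq2
  have h4 : ∀ u ∈ W, u * s = s * u := hQT s hs (fun u hu => (h3 u (le_conjSup W hu)).2)
  have h5 : ⁅u, g⁻¹ * a * g⁆ = 1 := by
    rw [← (h3 u (le_conjSup W hu)).1, commutatorElement_eq_one_iff_mul_comm]
    exact h4 u hu
  rw [commutatorElement_eq_one_iff_mul_comm] at h5
  rw [Subgroup.mem_centralizer_iff]
  intro x hx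
  rw [Set.mem_singleton_iff] at hx
  subst hx
  simp only [MulEquiv.coe_toMonoidHom, MulAut.conj_apply]
  calc x * (g * u * g⁻¹) = g * ((g⁻¹ * x * g) * u) * g⁻¹ := by group
    _ = g * (u * (g⁻¹ * x * g)) * g⁻¹ := by rw [h5]
    _ = g * u * g⁻¹ * x := by group

open Cfsg.Agent.Lib.Helper4 in
/-- Under `p`-stability on the elementary abelian normal closure `V ≤ S` of `W`, where quadratic
action of elements of the Sylow `p`-subgroup `S` on `W` is trivial, every elementary abelian
subgroup of `S` of largest order centralizes `V`. -/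
theorem maxIn_le_centralizer_conjSup {G : Type*} [Group G] [Finite G] {p : ℕ} [Fact p.Prime]
    (S : Sylow p G) (W : Subgroup G)
    (hQT : ∀ y ∈ (S : Subgroup G), (∀ u ∈ W, y * ⁅u, y⁆ = ⁅u, y⁆ * y) → ∀ u ∈ W, u * y = y * u)
    (hVea : Cfsg.IsElementaryAbelian p (conjSup W)) (hVS : conjSup W ≤ (S : Subgroup G))
    (hst : Cfsg.IsPStableOn p (conjSup W)) (A : Subgroup G)
    (hA : A ∈ Cfsg.Agent.Lib.Helper27.maxIn (Cfsg.IsElementaryAbelian p) (S : Subgroup G)) :
    A ≤ Subgroup.centralizer (conjSup W : Set G) := by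
  set V := conjSup W with hVdef
  have hVn : V.Normal := conjSup_normal W
  obtain ⟨hAS, hAea, hAmax⟩ := hA
  have hVcomm : ∀ x ∈ V, ∀ y ∈ V, x * y = y * x := elemAb_comm hVea
  have hAcomm : ∀ x ∈ A, ∀ y ∈ A, x * y = y * x := elemAb_comm hAea
  have hact : AbAct V A := by
    refine ⟨hVcomm, ?_, ?_⟩
    · rw [Subgroup.normalizer_eq_top]; exact le_top
    · rw [Subgroup.commutator_self_eq_bot_iff.2 hAea.1]; exact bot_le
  -- `A` has the largest measure among its subgroups
  have hbest : ∀ X : Subgroup G, X ≤ A → tm V X ≤ tm V A := by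
    intro X hXA
    unfold tm
    have hXea : Cfsg.IsElementaryAbelian p X := elemAb_mono hXA hAea
    have hCea : Cfsg.IsElementaryAbelian p (V ⊓ Subgroup.centralizer (X : Set G)) :=
      elemAb_mono inf_le_left hVea
    have hsup : Cfsg.IsElementaryAbelian p (X ⊔ (V ⊓ Subgroup.centralizer (X : Set G))) := by
      apply elemAb_sup hXea hCea
      intro a ha b hb
      have := (Subgroup.mem_inf.1 hb).2
      rw [Subgroup.mem_centralizer_iff] at this
      exact this a ha
    have hle : X ⊔ (V ⊓ Subgroup.centralizer (X : Set G)) ≤ (S : Subgroup G) :=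
      sup_le (hXA.trans hAS) (inf_le_left.trans hVS)
    have h1 := hAmax _ hle hsup
    have h2 := card_mul_card_le_card_sup_mul_card_inf X (V ⊓ Subgroup.centralizer (X : Set G))
    have h3 : X ⊓ (V ⊓ Subgroup.centralizer (X : Set G)) ≤
        V ⊓ Subgroup.centralizer (A : Set G) := by
      intro z hz
      refine Subgroup.mem_inf.mpr ⟨hz.2.1, ?_⟩
      rw [Subgroup.mem_centralizer_iff]
      intro a ha
      exact hAcomm a ha z (hXA hz.1)
    have h4 := Subgroup.card_le_of_le h3
    exact h2.trans (Nat.mul_le_mul h1 h4)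
  obtain ⟨-, hrep⟩ := timmesfeld_replacement hact hbest V le_rfl
  -- every element of `A*` centralizes `V`
  have hstar : V ≤ Subgroup.centralizer
      ((A ⊓ Subgroup.centralizer ((⁅V, A⁆ : Subgroup G) : Set G) : Subgroup G) : Set G) := by
    rw [Subgroup.le_centralizer_iff]
    intro a ha
    have h1 : Subgroup.zpowers a ≤ A := Subgroup.zpowers_le.2 ha.1
    have h2 : Subgroup.zpowers a ≤ Subgroup.centralizer ((⁅V, A⁆ : Subgroup G) : Set G) :=
      Subgroup.zpowers_le.2 ha.2
    have hquad : ⁅⁅V, Subgroup.zpowers a⁆, Subgroup.zpowers a⁆ = ⊥ := by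
      rw [eq_bot_iff]
      calc ⁅⁅V, Subgroup.zpowers a⁆, Subgroup.zpowers a⁆
          ≤ ⁅⁅V, A⁆, Subgroup.zpowers a⁆ :=
            Subgroup.commutator_mono (Subgroup.commutator_mono le_rfl h1) le_rfl
        _ = ⊥ := by
          rw [Subgroup.commutator_eq_bot_iff_le_centralizer]
          exact Subgroup.le_centralizer_iff.1 h2
    have h3 := conjSup_le_centralizer_of_quadratic S W hQT hst a hquad
    rw [Subgroup.mem_centralizer_iff]
    intro v hv
    have := h3 hv
    rw [Subgroup.mem_centralizer_iff] at this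
    exact (this a rfl).symm
  have hV : V = ⁅V, A⁆ ⊔ (V ⊓ Subgroup.centralizer (A : Set G)) := by
    rw [← hrep, inf_eq_left.2 hstar]
  -- `[V, A] ≤ [[V, A], A]`
  have hXV : ⁅V, A⁆ ≤ V := Subgroup.commutator_le_left V A
  have hle : ⁅V, A⁆ ≤ ⁅⁅V, A⁆, A⁆ := by
    rw [Subgroup.commutator_le]
    intro v hv a ha
    let T : Subgroup G :=
      { carrier := {v | v ∈ V ∧ ⁅v, a⁆ ∈ ⁅⁅V, A⁆, A⁆}
        mul_mem' := by
          rintro x y ⟨hx, hxc⟩ ⟨hy, hyc⟩
          refine ⟨V.mul_mem hx hy, ?_⟩
          rw [hact.comm_mul ha hx hy]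
          exact Subgroup.mul_mem _ hxc hyc
        one_mem' := by
          refine ⟨V.one_mem, ?_⟩
          rw [commutatorElement_one_left]
          exact Subgroup.one_mem _
        inv_mem' := by
          rintro x ⟨hx, hxc⟩
          refine ⟨V.inv_mem hx, ?_⟩
          have h1 := hact.comm_mul ha hx (V.inv_mem hx)
          rw [mul_inv_cancel, commutatorElement_one_left] at h1
          have h2 : ⁅x⁻¹, a⁆ = ⁅x, a⁆⁻¹ := eq_inv_of_mul_eq_one_right h1.symm
          rw [h2]
          exact Subgroup.inv_mem _ hxc }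
    have hT : V ≤ T := by
      rw [hV]
      apply sup_le
      · intro x hx
        exact ⟨hXV hx, Subgroup.commutator_mem_commutator hx ha⟩
      · intro y hy
        refine ⟨(Subgroup.mem_inf.1 hy).1, ?_⟩
        have h1 := (Subgroup.mem_inf.1 hy).2
        rw [Subgroup.mem_centralizer_iff] at h1
        have h2 : ⁅y, a⁆ = 1 := by
          rw [commutatorElement_eq_one_iff_mul_comm]
          exact (h1 a ha).symm
        rw [h2]
        exact Subgroup.one_mem _
    exact (hT hv).2
  have hXp : IsPGroup p (⁅V, A⁆ : Subgroup G) := S.isPGroup'.to_le (hXV.trans hVS)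
  have hAp : IsPGroup p A := S.isPGroup'.to_le hAS
  have hAX : A ≤ Subgroup.normalizer ((⁅V, A⁆ : Subgroup G) : Set G) := by
    rw [Subgroup.le_normalizer_iff_commutator_le_left]
    exact Subgroup.commutator_mono hXV le_rfl
  have hbot := eq_bot_of_le_commutator (p := p) _ A hXp hAp hAX hle
  rw [Subgroup.commutator_comm, Subgroup.commutator_eq_bot_iff_le_centralizer] at hbot
  exact hbot

end Cfsg.Agent.Lib.Helper17
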