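/-
Helper lemmas (helper17): the `W(S)`-analogue of the ZJ-theorem for action-`p`-stable groups.
Part 3: the subgroup `W(S)` of a Sylow `p`-subgroup, viewed in `G`.
-/
import Cfsg.Agent.Lib.Helper17.WStable2

set_option autoImplicit false

namespace Cfsg.Agent.Lib.Helper17

open scoped commutatorElement
open Cfsg.Agent.Lib.Helper4 Cfsg.Agent.Lib.Helper27

/-- `W(P)` viewed inside the ambient group. -/
def wOf {G : Type*} [Group G] (p : ℕ) (P : Subgroup G) : Subgroup G :=
  (Cfsg.stableNormalClosure p ↥P).map P.subtype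

theorem wOf_le {G : Type*} [Group G] (p : ℕ) (P : Subgroup G) : wOf p P ≤ P :=
  Subgroup.map_subtype_le _

theorem le_normalizer_wOf {G : Type*} [Group G] [Finite G] {p : ℕ} [Fact p.Prime] (P : Subgroup G)
    (hP : IsPGroup p P) : P ≤ Subgroup.normalizer (wOf p P : Set G) := by
  have hchar : (Cfsg.stableNormalClosure p ↥P).Characteristic := (stableNormalClosure_props hP).1
  have hn : (Cfsg.stableNormalClosure p ↥P).Normal := Subgroup.normal_of_characteristic _
  intro x hx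
  apply mem_normalizer_of_forall_conj_mem
  rintro _ ⟨w, hw, rfl⟩
  exact ⟨⟨x, hx⟩ * w * ⟨x, hx⟩⁻¹, hn.conj_mem w hw ⟨x, hx⟩, by simp⟩

theorem wOf_le_of_mem_maxIn {G : Type*} [Group G] [Finite G] {p : ℕ} [Fact p.Prime] (P : Subgroup G)
    (A : Subgroup G) (hA : A ∈ maxIn (Cfsg.IsElementaryAbelian p) P) : wOf p P ≤ A := by
  have h1 : wOf p P ≤ (Cfsg.omegaCenterThompson p ↥P).map P.subtype :=
    Subgroup.map_mono stableNormalClosure_le_omegaCenterThompson
  rw [omegaCenterThompson_map_eq] at h1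
  exact h1.trans (wSub_le_of_mem_maxIn (goodClass_ea p) hA)

theorem wOf_elemAb {G : Type*} [Group G] [Finite G] {p : ℕ} [Fact p.Prime] (P : Subgroup G) :
    Cfsg.IsElementaryAbelian p (wOf p P) := by
  obtain ⟨A, hA⟩ := maxIn_nonempty (goodClass_ea (G := G) p) P
  exact elemAb_mono (wOf_le_of_mem_maxIn P A hA) hA.2.1

theorem wOf_quadTriv {G : Type*} [Group G] [Finite G] {p : ℕ} [Fact p.Prime] (P : Subgroup G)
    (hP : IsPGroup p P) (y : G) (hy : y ∈ P)
    (h : ∀ u ∈ wOf p P, y * ⁅u, y⁆ = ⁅u, y⁆ * y) : ∀ u ∈ wOf p P, u * y = y * u := by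
  have hQ := quadTriv_stableNormalClosure hP
  rintro _ ⟨u, hu, rfl⟩
  have h1 := hQ ⟨y, hy⟩ (fun u₀ hu₀ => by
    apply Subtype.ext
    have := h _ ⟨u₀, hu₀, rfl⟩
    simpa [commutatorElement_def] using this) u hu
  have := congrArg Subtype.val h1
  simpa using this

/-- `W(S) ≤ O_p(G)` when the action on `O_p(G)/Φ(O_p(G))` is `p`-stable and `G` has
characteristic `p`. -/
theorem wOf_le_pCore {G : Type*} [Group G] [Finite G] {p : ℕ} [Fact p.Prime]
    (hc : Subgroup.centralizer (Cfsg.pCore p G : Set G) ≤ Cfsg.pCore p G)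
    (hst : Cfsg.IsPStableOnSection p (Cfsg.pCore p G)
      ((frattini ↥(Cfsg.pCore p G)).map (Cfsg.pCore p G).subtype)) (S : Sylow p G) :
    wOf p (S : Subgroup G) ≤ Cfsg.pCore p G := by
  have hQS : Cfsg.pCore p G ≤ (S : Subgroup G) :=
    (pCore_isPGroup p G).le_sylow_of_normal S
  have hWn := le_normalizer_wOf (S : Subgroup G) S.isPGroup'
  have hWab : IsMulCommutative (wOf p (S : Subgroup G)) := (wOf_elemAb (S : Subgroup G)).1
  intro w hw
  apply mem_pCore_of_quadratic_section hc hst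
  have hza : Subgroup.zpowers w ≤ wOf p (S : Subgroup G) := (Subgroup.zpowers_le).2 hw
  have h1 : ⁅Cfsg.pCore p G, Subgroup.zpowers w⁆ ≤ wOf p (S : Subgroup G) :=
    (Subgroup.commutator_mono hQS hza).trans
      ((Subgroup.le_normalizer_iff_commutator_le_right).1 hWn)
  rw [eq_bot_iff]
  calc ⁅⁅Cfsg.pCore p G, Subgroup.zpowers w⁆, Subgroup.zpowers w⁆
      ≤ ⁅wOf p (S : Subgroup G), wOf p (S : Subgroup G)⁆ := Subgroup.commutator_mono h1 hza
    _ = ⊥ := Subgroup.commutator_self_eq_bot_iff.2 hWab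

/-- `W(S)` commutes with all its conjugates. -/
theorem wOf_conj_comm {G : Type*} [Group G] [Finite G] {p : ℕ} [Fact p.Prime]
    (hc : Subgroup.centralizer (Cfsg.pCore p G : Set G) ≤ Cfsg.pCore p G)
    (hst : Cfsg.IsPStableOnSection p (Cfsg.pCore p G)
      ((frattini ↥(Cfsg.pCore p G)).map (Cfsg.pCore p G).subtype)) (S : Sylow p G) :
    ∀ g : G, ∀ y ∈ (wOf p (S : Subgroup G)).map (MulAut.conj g).toMonoidHom,
      ∀ d ∈ wOf p (S : Subgroup G), d * y = y * d := by
  have hWQ := wOf_le_pCore hc hst S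
  have hQS : Cfsg.pCore p G ≤ (S : Subgroup G) :=
    (pCore_isPGroup p G).le_sylow_of_normal S
  have hQn : (Cfsg.pCore p G).Normal := pCore_normal p G
  have hWn := le_normalizer_wOf (S : Subgroup G) S.isPGroup'
  have hWcomm := elemAb_comm (wOf_elemAb (p := p) (S : Subgroup G))
  rintro g _ ⟨y₀, hy₀, rfl⟩
  have hyQ : g * y₀ * g⁻¹ ∈ Cfsg.pCore p G := hQn.conj_mem y₀ (hWQ hy₀) g
  simp only [MulEquiv.coe_toMonoidHom, MulAut.conj_apply]
  apply wOf_quadTriv (S : Subgroup G) S.isPGroup' (g * y₀ * g⁻¹) (hQS hyQ)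
  intro u hu
  have hu' : g⁻¹ * u * g ∈ (S : Subgroup G) := by
    have := hQn.conj_mem u (hWQ hu) g⁻¹
    rw [inv_inv] at this
    exact hQS this
  have h1 : (g⁻¹ * u * g) * y₀ * (g⁻¹ * u * g)⁻¹ ∈ wOf p (S : Subgroup G) :=
    conj_mem_of_mem_normalizer (hWn hu') hy₀
  have h2 : ⁅g⁻¹ * u * g, y₀⁆ ∈ wOf p (S : Subgroup G) := by
    rw [commutatorElement_def]
    exact Subgroup.mul_mem _ h1 (Subgroup.inv_mem _ hy₀)
  have h3 := hWcomm _ hy₀ _ h2
  have h4 : ⁅u, g * y₀ * g⁻¹⁆ = g * ⁅g⁻¹ * u * g, y₀⁆ * g⁻¹ := by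
    simp only [commutatorElement_def]; group
  rw [h4]
  calc g * y₀ * g⁻¹ * (g * ⁅g⁻¹ * u * g, y₀⁆ * g⁻¹)
      = g * (y₀ * ⁅g⁻¹ * u * g, y₀⁆) * g⁻¹ := by group
    _ = g * (⁅g⁻¹ * u * g, y₀⁆ * y₀) * g⁻¹ := by rw [h3]
    _ = g * ⁅g⁻¹ * u * g, y₀⁆ * g⁻¹ * (g * y₀ * g⁻¹) := by group

theorem normalizer_le_normalizer_jSub {G : Type*} [Group G] {𝔛 : Subgroup G → Prop}
    (h : GoodClass 𝔛) (T : Subgroup G) :
    Subgroup.normalizer (T : Set G) ≤ Subgroup.normalizer (jSub 𝔛 T : Set G) := by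
  intro g hg
  rw [Subgroup.mem_normalizer_iff_map_conj_eq] at hg ⊢
  have hg' : T.map (MulAut.conj g).toMonoidHom = T := hg
  have := jSub_map h (MulAut.conj g) T
  rw [hg'] at this
  exact this.symm

universe u

/-- The inclusion of a Sylow `p`-subgroup `S` into `N_G(J(S))` is a stable embedding when `G` is
action-`p`-stable of characteristic `p`. -/
theorem isStableEmbedding_inclusion {G : Type u} [Group G] [Finite G] {p : ℕ} [Fact p.Prime]
    (hst : Cfsg.IsActionPStable p G)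
    (hc : Subgroup.centralizer (Cfsg.pCore p G : Set G) ≤ Cfsg.pCore p G) (S : Sylow p G)
    (hPN : (S : Subgroup G) ≤
      Subgroup.normalizer (Cfsg.thompsonSubgroupOf p (S : Subgroup G) : Set G)) :
    Cfsg.IsStableEmbedding p (Subgroup.inclusion hPN) := by
  have hQS : Cfsg.pCore p G ≤ (S : Subgroup G) :=
    (pCore_isPGroup p G).le_sylow_of_normal S
  refine ⟨Subgroup.inclusion_injective hPN, inferInstance, ⟨S.subtype hPN, ?_⟩, ?_, ?_, ?_⟩
  · rw [Sylow.coe_subtype, Subgroup.inclusion_range]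
  · have hQN := hQS.trans hPN
    have hQ'n : ((Cfsg.pCore p G).subgroupOf
        (Subgroup.normalizer (Cfsg.thompsonSubgroupOf p (S : Subgroup G) : Set G))).Normal :=
      (pCore_normal p G).subgroupOf _
    have hQ'p : IsPGroup p ((Cfsg.pCore p G).subgroupOf
        (Subgroup.normalizer (Cfsg.thompsonSubgroupOf p (S : Subgroup G) : Set G))) :=
      (pCore_isPGroup p G).comap_subtype
    have hQ'le := le_pCore _ hQ'n hQ'p
    intro x hx
    apply hQ'le
    rw [Subgroup.mem_subgroupOf]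
    apply hc
    rw [Subgroup.mem_centralizer_iff]
    intro q hq
    rw [Subgroup.mem_centralizer_iff] at hx
    have := hx ⟨q, hQN hq⟩ (hQ'le (by rw [Subgroup.mem_subgroupOf]; exact hq))
    exact congrArg Subtype.val this
  · have h1 : (Cfsg.thompsonSubgroup p ↥(S : Subgroup G)).map (Subgroup.inclusion hPN) =
        (Cfsg.thompsonSubgroupOf p (S : Subgroup G)).subgroupOf
          (Subgroup.normalizer (Cfsg.thompsonSubgroupOf p (S : Subgroup G) : Set G)) := by
      ext x
      rw [Subgroup.mem_subgroupOf]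
      constructor
      · rintro ⟨y, hy, rfl⟩; exact ⟨y, hy, rfl⟩
      · rintro ⟨y, hy, hyx⟩; exact ⟨y, hy, Subtype.ext hyx⟩
    rw [h1]
    exact Subgroup.normal_in_normalizer
  · intro V hVn hV
    apply hst.2.2 S V
    calc V.map (Subgroup.normalizer
          (Cfsg.thompsonSubgroupOf p (S : Subgroup G) : Set G)).subtype
        ≤ ((Cfsg.omegaCenterThompson p ↥(S : Subgroup G)).map (Subgroup.inclusion hPN)).map
          (Subgroup.normalizer (Cfsg.thompsonSubgroupOf p (S : Subgroup G) : Set G)).subtype :=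
          Subgroup.map_mono hV
      _ = (Cfsg.omegaCenterThompson p ↥(S : Subgroup G)).map (S : Subgroup G).subtype := by
          rw [Subgroup.map_map]; rfl

theorem le_normalizer_thompsonSubgroupOf {G : Type*} [Group G] (p : ℕ) (P : Subgroup G) :
    P ≤ Subgroup.normalizer (Cfsg.thompsonSubgroupOf p P : Set G) := by
  rw [thompsonSubgroupOf_eq_jSub]
  exact Subgroup.le_normalizer.trans (normalizer_le_normalizer_jSub (goodClass_ea p) P)

/-- `N_G(J(S))` normalizes `W(S)`. -/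
theorem normalizer_thompson_le_normalizer_wOf {G : Type u} [Group G] [Finite G] {p : ℕ}
    [Fact p.Prime] (hst : Cfsg.IsActionPStable p G)
    (hc : Subgroup.centralizer (Cfsg.pCore p G : Set G) ≤ Cfsg.pCore p G) (S : Sylow p G) :
    Subgroup.normalizer (Cfsg.thompsonSubgroupOf p (S : Subgroup G) : Set G) ≤
      Subgroup.normalizer (wOf p (S : Subgroup G) : Set G) := by
  have hPN := le_normalizer_thompsonSubgroupOf p (S : Subgroup G)
  have hemb := isStableEmbedding_inclusion hst hc S hPN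
  have hnorm := (stableNormalClosure_mem_stableFamily (S := ↥(S : Subgroup G)) p).2 _
    (Subgroup.inclusion hPN) hemb
  intro n hn
  apply mem_normalizer_of_forall_conj_mem
  rintro _ ⟨w, hw, rfl⟩
  obtain ⟨w', hw', hw'eq⟩ := hnorm.conj_mem _ (Subgroup.mem_map_of_mem _ hw) ⟨n, hn⟩
  refine ⟨w', hw', ?_⟩
  have := congrArg Subtype.val hw'eq
  simpa using this

/-- **The analogue of the ZJ-theorem for `W(S)`**: in an action-`p`-stable group of characteristic
`p`, `W(S)` is normal. -/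
theorem wOf_normal {G : Type u} [Group G] [Finite G] {p : ℕ}
    [Fact p.Prime] (hst : Cfsg.IsActionPStable p G)
    (hc : Subgroup.centralizer (Cfsg.pCore p G : Set G) ≤ Cfsg.pCore p G) (S : Sylow p G) :
    (wOf p (S : Subgroup G)).Normal := by
  have hQS : Cfsg.pCore p G ≤ (S : Subgroup G) :=
    (pCore_isPGroup p G).le_sylow_of_normal S
  have hQn : (Cfsg.pCore p G).Normal := pCore_normal p G
  have hcomm := wOf_conj_comm hc hst.2.1 S
  have hVea : Cfsg.IsElementaryAbelian p (conjSup (wOf p (S : Subgroup G))) :=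
    conjSup_elemAb _ (wOf_elemAb _) hcomm
  have hVQ : conjSup (wOf p (S : Subgroup G)) ≤ Cfsg.pCore p G :=
    conjSup_le _ _ (wOf_le_pCore hc hst.2.1 S)
  have hVS := hVQ.trans hQS
  have hVst : Cfsg.IsPStableOn p (conjSup (wOf p (S : Subgroup G))) := hst.1 _ hVea
  have hAcen : ∀ A ∈ maxIn (Cfsg.IsElementaryAbelian p) (S : Subgroup G),
      A ≤ Subgroup.centralizer (conjSup (wOf p (S : Subgroup G)) : Set G) := fun A hA =>
    maxIn_le_centralizer_conjSup S _ (wOf_quadTriv (S : Subgroup G) S.isPGroup') hVea hVS hVst A hA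
  set C₁ := Subgroup.centralizer (conjSup (wOf p (S : Subgroup G)) : Set G) with hC₁
  have hC₁n : C₁.Normal := Subgroup.normal_centralizer
  have hTle : ∀ A ∈ maxIn (Cfsg.IsElementaryAbelian p) (S : Subgroup G),
      A ≤ (S : Subgroup G) ⊓ C₁ := fun A hA => le_inf hA.1 (hAcen A hA)
  have hmax := maxIn_eq_of_forall_le (goodClass_ea p) hTle inf_le_left
  have hJ : jSub (Cfsg.IsElementaryAbelian p) ((S : Subgroup G) ⊓ C₁) =
      jSub (Cfsg.IsElementaryAbelian p) (S : Subgroup G) := by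
    unfold jSub; rw [hmax]
  have hNT : Subgroup.normalizer (((S : Subgroup G) ⊓ C₁ : Subgroup G) : Set G) ≤
      Subgroup.normalizer (Cfsg.thompsonSubgroupOf p (S : Subgroup G) : Set G) := by
    rw [thompsonSubgroupOf_eq_jSub, ← hJ]
    exact normalizer_le_normalizer_jSub (goodClass_ea p) _
  have hfr := frattini_inf S C₁
  have hNW := hNT.trans (normalizer_thompson_le_normalizer_wOf hst hc S)
  refine ⟨fun w hw g => ?_⟩
  have hg : g ∈ Subgroup.normalizer (((S : Subgroup G) ⊓ C₁ : Subgroup G) : Set G) ⊔ C₁ := by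
    rw [hfr]; exact Subgroup.mem_top g
  rw [Subgroup.mem_sup_of_normal_right] at hg
  obtain ⟨n, hn, c, hcC, rfl⟩ := hg
  have hcw : c * w * c⁻¹ = w := by
    rw [hC₁, Subgroup.mem_centralizer_iff] at hcC
    have := hcC w (le_conjSup _ hw)
    rw [← this]; group
  have : n * c * w * (n * c)⁻¹ = n * (c * w * c⁻¹) * n⁻¹ := by group
  rw [this, hcw]
  exact conj_mem_of_mem_normalizer (hNW hn) hw

end Cfsg.Agent.Lib.Helper17
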