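import Mathlib
import Cfsg.Agent.Lib.Helper22.FFAbF
import Cfsg.Agent.Lib.Helper27.Thompson
import Cfsg.Agent.Lib.Helper17.BGFitA
import Cfsg.Agent.S2941
import Cfsg.Agent.Lib.Helper17.WStable3
import Cfsg.Prelude.Def_JComponents
import Cfsg.Agent.Lib.Helper18.JSubDefs
import Cfsg.Agent.Lib.Helper1.Fitting

/-!
S2942 market "JSUB" (helper17): leaf G2, `F(↥L) = O₂(↥L)` for `L ∈ jOvergroups T`.
-/

set_option autoImplicit false
set_option linter.unusedSectionVars false
set_option linter.style.haveILetI false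

namespace Cfsg.Agent.Lib.Helper17.JSubLeaf

open Subgroup
open scoped commutatorElement

section G
variable {G : Type*} [Group G] [Finite G]

/-- `C_{↥L}(O₂(↥L)) ≤ O₂(↥L)` from the condition in `G` -/
theorem centralizer_pCore_le_of_mem_jOvergroups {T L : Subgroup G} (hLT : L ∈ Cfsg.jOvergroups T) :
    centralizer ((Cfsg.pCore 2 ↥L : Subgroup ↥L) : Set ↥L) ≤ Cfsg.pCore 2 ↥L := by
  intro x hx
  have h1 : (x : G) ∈ centralizer ((Cfsg.pCoreOf 2 L : Subgroup G) : Set G) := by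
    rw [mem_centralizer_iff]
    rintro y ⟨y', hy', rfl⟩
    have := (mem_centralizer_iff.mp hx) y' hy'
    exact congrArg Subtype.val this
  obtain ⟨y', hy', hyx⟩ := hLT.2.2 h1
  have : y' = x := Subtype.ext hyx
  rw [← this]; exact hy'

/-- LEAF G2 -/
theorem fitting_eq_pCore_of_mem_jOvergroups {T L : Subgroup G} (hLT : L ∈ Cfsg.jOvergroups T) :
    Cfsg.fittingSubgroup ↥L = Cfsg.pCore 2 ↥L := by
  have : Fact (Nat.Prime 2) := ⟨Nat.prime_two⟩
  apply le_antisymm
  · rw [Cfsg.Agent.Lib.Helper1.fittingSubgroup_eq_iSup_pCore]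
    apply iSup_le
    intro q
    have hq : Fact (Nat.Prime (q : ℕ)) := ⟨q.2⟩
    by_cases hq2 : (q : ℕ) = 2
    · rw [hq2]
    · intro x hx
      apply centralizer_pCore_le_of_mem_jOvergroups hLT
      rw [mem_centralizer_iff]
      intro y hy
      exact (Cfsg.Agent.Lib.Helper1.pCore_commute hq2 x y hx hy).eq.symm
  · exact Cfsg.Agent.Lib.Helper1.le_fittingSubgroup (Cfsg.Agent.Lib.Helper1.pCore_normal 2 ↥L)
      (Cfsg.Agent.Lib.Helper1.pCore_isPGroup 2 ↥L).isNilpotent

end G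

end Cfsg.Agent.Lib.Helper17.JSubLeaf
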