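import Mathlib
import Cfsg.Agent.Lib.Helper22.FFAbF
import Cfsg.Agent.Lib.Helper27.Thompson
import Cfsg.Agent.Lib.Helper17.BGFitA
import Cfsg.Agent.S2941
import Cfsg.Agent.Lib.Helper17.WStable3
import Cfsg.Prelude.Def_JComponents
import Cfsg.Agent.Lib.Helper18.JSubDefs

/-!
S2942 market "JSUB" (helper17): leaf G5, `J(T.subgroupOf L) = J(T).subgroupOf L`.
-/

set_option autoImplicit false
set_option linter.unusedSectionVars false
set_option linter.style.haveILetI false

namespace Cfsg.Agent.Lib.Helper17.JSubLeaf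

open Subgroup
open Cfsg.Agent.Lib.Helper27

section G
variable {G : Type*} [Group G]

theorem map_mem_maxEAIn_of_subgroupOf {p : ℕ} {T L : Subgroup G} (hTL : T ≤ L) {B : Subgroup ↥L}
    (hB : B ∈ maxEAIn p (T.subgroupOf L)) : B.map L.subtype ∈ maxEAIn p T := by
  obtain ⟨hBT, hBe, hBmax⟩ := hB
  refine ⟨?_, (isElementaryAbelian_map_subtype L B).mpr hBe, ?_⟩
  · rw [Subgroup.map_le_iff_le_comap]; exact hBT
  · intro A' hA'T hA'e
    have h1 : (A'.subgroupOf L).map L.subtype = A' := map_subgroupOf_of_le (hA'T.trans hTL)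
    have h2 : Cfsg.IsElementaryAbelian p (A'.subgroupOf L) := by
      rw [← isElementaryAbelian_map_subtype, h1]; exact hA'e
    have h3 := hBmax (A'.subgroupOf L) (Subgroup.comap_mono hA'T) h2
    rw [card_map_subtype]
    calc Nat.card A' = Nat.card ((A'.subgroupOf L).map L.subtype) := by rw [h1]
      _ = Nat.card (A'.subgroupOf L) := card_map_subtype _ _
      _ ≤ Nat.card B := h3

theorem subgroupOf_mem_maxEAIn {p : ℕ} {T L : Subgroup G} (hTL : T ≤ L) {A : Subgroup G}
    (hA : A ∈ maxEAIn p T) : A.subgroupOf L ∈ maxEAIn p (T.subgroupOf L) := by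
  obtain ⟨hAT, hAe, hAmax⟩ := hA
  have h1 : (A.subgroupOf L).map L.subtype = A := map_subgroupOf_of_le (hAT.trans hTL)
  refine ⟨Subgroup.comap_mono hAT, ?_, ?_⟩
  · rw [← isElementaryAbelian_map_subtype, h1]; exact hAe
  · intro B' hB'T hB'e
    have h2 : B'.map L.subtype ≤ T := by
      rw [Subgroup.map_le_iff_le_comap]; exact hB'T
    have h3 := hAmax (B'.map L.subtype) h2 ((isElementaryAbelian_map_subtype L B').mpr hB'e)
    rw [card_map_subtype] at h3
    calc Nat.card B' ≤ Nat.card A := h3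
      _ = Nat.card ((A.subgroupOf L).map L.subtype) := by rw [h1]
      _ = Nat.card (A.subgroupOf L) := card_map_subtype _ _

theorem map_thompsonSubgroupOf_subgroupOf (p : ℕ) {T L : Subgroup G} (hTL : T ≤ L) :
    (Cfsg.thompsonSubgroupOf p (T.subgroupOf L)).map L.subtype = Cfsg.thompsonSubgroupOf p T := by
  rw [thompsonSubgroupOf_eq, thompsonSubgroupOf_eq, (Subgroup.gc_map_comap L.subtype).l_sSup]
  apply le_antisymm
  · apply iSup₂_le
    intro B hB
    exact le_sSup (map_mem_maxEAIn_of_subgroupOf hTL hB)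
  · apply sSup_le
    intro A hA
    have h1 : (A.subgroupOf L).map L.subtype = A := map_subgroupOf_of_le (hA.1.trans hTL)
    calc A = (A.subgroupOf L).map L.subtype := h1.symm
      _ ≤ ⨆ B ∈ maxEAIn p (T.subgroupOf L), B.map L.subtype :=
        le_iSup₂_of_le _ (subgroupOf_mem_maxEAIn hTL hA) le_rfl

/-- LEAF G5 -/
theorem thompsonSubgroupOf_subgroupOf [Finite G] {T L : Subgroup G} (hTL : T ≤ L) :
    Cfsg.thompsonSubgroupOf 2 (T.subgroupOf L) = (Cfsg.thompsonSubgroupOf 2 T).subgroupOf L := by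
  rw [← map_thompsonSubgroupOf_subgroupOf 2 hTL]
  exact (Subgroup.comap_map_eq_self_of_injective L.subtype_injective _).symm

end G

end Cfsg.Agent.Lib.Helper17.JSubLeaf
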