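/-
helper17: S4648 leaf (UNIT) `exists_conv_inverse`: an element of `O_M[G]` congruent to `1` is invertible in `ℂ[G]`.
-/
import Mathlib
import Cfsg.Prelude.Def_BlockRank
import Cfsg.Prelude.Def_BrauerPairs
import Cfsg.Agent.Lib.Helper27.SymAlgDefs
import Cfsg.Agent.Lib.Helper27.BlkAlgDefs2
import Cfsg.Agent.Lib.Helper18.BlkAlgB2
import Cfsg.Agent.Lib.Helper18.BlkAlgB3
import Cfsg.Agent.Lib.Helper19.BlkAlgB1
import Cfsg.Agent.Lib.Helper24.BlkAlgB5a

set_option autoImplicit false

namespace Cfsg.Agent.Lib.Helper17.K4UNIT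

open Cfsg Cfsg.Agent.Lib.Helper6 Cfsg.Agent.Lib.Helper24
open Cfsg.Agent.Lib.Helper27.SymAlg Cfsg.Agent.Lib.Helper27.BlkAlg
open Cfsg.Agent.Lib.Helper24.BlkAlgB5a (gmat)

universe u

variable (M : Ideal AlgInt) [M.IsMaximal] {p : ℕ} [Fact p.Prime]

variable {G : Type u} [Group G] [Fintype G]

/-- the group matrix of an element of `O_M[G]` congruent to `1` has nonzero determinant -/
theorem det_gmat_ne_zero [DecidableEq G] (s : G → ℂ) (hs : ∀ g, MemLocalRing M (s g))
    (h1 : redFun M s = 1) : (gmat s).det ≠ 0 := by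
  -- the coefficient function with values in the local subring
  let s' : G → localSubring M := fun g => ⟨s g, hs g⟩
  have hred : ∀ g, red M (s' g) = if g = 1 then 1 else 0 := by
    intro g
    have h2 : (redFun M s).coeff g = redC M (s g) := Cfsg.Agent.Lib.Helper24.BlkAlgB5a.coeff_redFun' M s g
    rw [h1, redC_of_mem M (hs g)] at h2
    rw [← h2, MonoidAlgebra.one_def, MonoidAlgebra.coeff_single, Finsupp.single_apply]
    by_cases h : g = 1
    · rw [if_pos h, if_pos h.symm]
    · rw [if_neg h, if_neg (Ne.symm h)]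
  have hmap : (gmat s').map (red M) = 1 := by
    rw [Cfsg.Agent.Lib.Helper24.BlkAlgB5a.gmat_map]
    have : (fun g => red M (s' g)) = fun g : G => if g = 1 then (1 : ResField M) else 0 := funext hred
    rw [this, Cfsg.Agent.Lib.Helper24.BlkAlgB5a.gmat_delta]
  have hdet' : red M (gmat s').det = 1 := by
    rw [RingHom.map_det, RingHom.mapMatrix_apply, hmap, Matrix.det_one]
  have hdet0 : (gmat s').det ≠ 0 := by
    intro h0
    rw [h0, map_zero] at hdet'
    exact zero_ne_one hdet'
  have hcoe : gmat s = (gmat s').map (localSubring M).subtype := by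
    rw [Cfsg.Agent.Lib.Helper24.BlkAlgB5a.gmat_map]
    rfl
  rw [hcoe, ← RingHom.mapMatrix_apply, ← RingHom.map_det]
  intro h0
  apply hdet0
  exact Subtype.ext h0

/-- (UNIT) an element of `O_M[G]` congruent to `1` is invertible in `ℂ[G]` -/
theorem exists_conv_inverse (hM : IsPModular p M) (s : G → ℂ) (hs : ∀ g, MemLocalRing M (s g))
    (h1 : redFun M s = 1) : ∃ t : G → ℂ, conv s t = classInd (1 : G) := by
  classical
  have hdet := det_gmat_ne_zero M s hs h1
  have hinv : gmat s * (gmat s)⁻¹ = 1 := Matrix.mul_nonsing_inv _ (isUnit_iff_ne_zero.mpr hdet)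
  refine ⟨fun x => (gmat s)⁻¹ x 1, ?_⟩
  rw [Cfsg.Agent.Lib.Helper24.BlkAlgB5a.classInd_one_eq]
  funext x
  have h2 : conv s (fun x => (gmat s)⁻¹ x 1) x = (gmat s * (gmat s)⁻¹) x 1 := by
    rw [Matrix.mul_apply]
    unfold conv
    refine Fintype.sum_equiv ((Equiv.inv G).trans (Equiv.mulRight x)) _ _ ?_
    intro g
    simp only [Equiv.trans_apply, Equiv.inv_apply, Equiv.coe_mulRight,
      Cfsg.Agent.Lib.Helper24.BlkAlgB5a.gmat_apply]
    congr 2
    group
  rw [h2, hinv, Matrix.one_apply]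

end Cfsg.Agent.Lib.Helper17.K4UNIT
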