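/-
helper17: S4651 leaf C2 (`finsum_chains_cone`), planner helper24 (`notes/S4651_leaves.lean`); twin of
helper7's `KRC2`.  The cone over `U = ⟨u⟩`: the chains `s` of nontrivial `p`-subgroups normalized by `u`,
other than `{U}`, are paired off by inserting / erasing `Y(s) = W(s) ⊔ U`, `W(s)` the largest member not
containing `U`; the pairing changes the parity of `s` and fixes `C_G(u) ⊓ N(s)`.
-/
import Mathlib
import Cfsg.Agent.Lib.Helper24.KRDefs

set_option autoImplicit false

namespace Cfsg.Agent.Lib.Helper17.KRC2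

open Cfsg Cfsg.Agent.Lib.Helper24.KR

universe u

section aux

variable {G : Type u} [Group G]

theorem conj_mem_sup {A B : Subgroup G} {g : G}
    (hA : g ∈ Subgroup.normalizer (A : Set G)) (hB : g ∈ Subgroup.normalizer (B : Set G)) :
    ∀ h ∈ A ⊔ B, g * h * g⁻¹ ∈ A ⊔ B := by
  have h1 : A ⊔ B ≤ Subgroup.comap (MulAut.conj g).toMonoidHom (A ⊔ B) := by
    apply sup_le
    · intro a ha
      rw [Subgroup.mem_comap]
      exact (le_sup_left : A ≤ A ⊔ B) ((Subgroup.mem_normalizer_iff.mp hA a).mp ha)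
    · intro b hb
      rw [Subgroup.mem_comap]
      exact (le_sup_right : B ≤ A ⊔ B) ((Subgroup.mem_normalizer_iff.mp hB b).mp hb)
  intro h hh
  exact h1 hh

theorem mem_normalizer_sup {A B : Subgroup G} {g : G}
    (hA : g ∈ Subgroup.normalizer (A : Set G)) (hB : g ∈ Subgroup.normalizer (B : Set G)) :
    g ∈ Subgroup.normalizer ((A ⊔ B : Subgroup G) : Set G) := by
  rw [Subgroup.mem_normalizer_iff]
  intro h
  constructor
  · exact conj_mem_sup hA hB h
  · intro hh
    have h2 := conj_mem_sup (inv_mem hA) (inv_mem hB) _ hh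
    have h3 : g⁻¹ * (g * h * g⁻¹) * g⁻¹⁻¹ = h := by group
    rwa [h3] at h2

theorem centralizer_le_normalizer_zpowers (u : G) :
    Cz u ≤ Subgroup.normalizer ((Subgroup.zpowers u : Subgroup G) : Set G) := by
  intro g hg
  have hc : g * u = u * g := Subgroup.mem_centralizer_singleton_iff.mp hg
  have h1 : g ∈ Subgroup.centralizer ((Subgroup.zpowers u : Subgroup G) : Set G) := by
    rw [Subgroup.mem_centralizer_iff]
    intro x hx
    obtain ⟨n, rfl⟩ := Subgroup.mem_zpowers_iff.mp hx
    have hcomm : Commute g u := hc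
    exact ((hcomm.zpow_right n).eq).symm
  exact Subgroup.centralizer_le_normalizer _ h1

end aux

open Classical

variable {G : Type u} [Group G]

/-- The members of the chain are pairwise comparable. -/
def Comparable (s : Finset (Subgroup G)) : Prop := ∀ Q ∈ s, ∀ R ∈ s, Q ≤ R ∨ R ≤ Q

/-- The largest member of `s` not containing `U` (`⊥` if there is none). -/
noncomputable def Wof (U : Subgroup G) (s : Finset (Subgroup G)) : Subgroup G :=
  (s.filter (fun Q => ¬ U ≤ Q)).sup id

/-- `W(s) ⊔ U`. -/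
noncomputable def Yof (U : Subgroup G) (s : Finset (Subgroup G)) : Subgroup G := Wof U s ⊔ U

/-- insert / erase `Y(s)`. -/
noncomputable def tau (U : Subgroup G) (s : Finset (Subgroup G)) : Finset (Subgroup G) :=
  if Yof U s ∈ s then s.erase (Yof U s) else insert (Yof U s) s

theorem Wof_eq_bot_or_mem (U : Subgroup G) (s : Finset (Subgroup G)) (hs : Comparable s) :
    Wof U s = ⊥ ∨ (Wof U s ∈ s ∧ ¬ U ≤ Wof U s) := by
  unfold Wof
  rcases (s.filter (fun Q => ¬ U ≤ Q)).eq_empty_or_nonempty with he | hne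
  · left
    rw [he, Finset.sup_empty]
  · right
    have h1 : (s.filter (fun Q => ¬ U ≤ Q)).sup' hne id ∈
        ((s.filter (fun Q => ¬ U ≤ Q) : Finset (Subgroup G)) : Set (Subgroup G)) := by
      apply Finset.sup'_mem
      · intro x hx y hy
        have hx' := Finset.mem_filter.mp (Finset.mem_coe.mp hx)
        have hy' := Finset.mem_filter.mp (Finset.mem_coe.mp hy)
        rcases hs x hx'.1 y hy'.1 with h | h
        · rw [sup_eq_right.mpr h]; exact hy
        · rw [sup_eq_left.mpr h]; exact hx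
      · intro i hi
        exact Finset.mem_coe.mpr hi
    rw [Finset.sup'_eq_sup] at h1
    have h2 := Finset.mem_filter.mp (Finset.mem_coe.mp h1)
    exact h2

theorem le_Wof (U : Subgroup G) (s : Finset (Subgroup G)) {Q : Subgroup G} (hQ : Q ∈ s)
    (hUQ : ¬ U ≤ Q) : Q ≤ Wof U s := by
  unfold Wof
  exact Finset.le_sup (f := id) (Finset.mem_filter.mpr ⟨hQ, hUQ⟩)

theorem Wof_le (U : Subgroup G) (s : Finset (Subgroup G)) (hs : Comparable s) {R : Subgroup G}
    (hR : R ∈ s) (hUR : U ≤ R) : Wof U s ≤ R := by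
  unfold Wof
  apply Finset.sup_le
  intro Q hQ
  have hQ' := Finset.mem_filter.mp hQ
  rcases hs Q hQ'.1 R hR with h | h
  · exact h
  · exact absurd (le_trans hUR h) hQ'.2

theorem le_Yof (U : Subgroup G) (s : Finset (Subgroup G)) : U ≤ Yof U s := le_sup_right

theorem Yof_le (U : Subgroup G) (s : Finset (Subgroup G)) (hs : Comparable s) {R : Subgroup G}
    (hR : R ∈ s) (hUR : U ≤ R) : Yof U s ≤ R := sup_le (Wof_le U s hs hR hUR) hUR

theorem le_Yof_of_not (U : Subgroup G) (s : Finset (Subgroup G)) {Q : Subgroup G} (hQ : Q ∈ s)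
    (hUQ : ¬ U ≤ Q) : Q ≤ Yof U s := le_trans (le_Wof U s hQ hUQ) le_sup_left

theorem filter_insert_Yof (U : Subgroup G) (s t : Finset (Subgroup G)) :
    (insert (Yof U s) t).filter (fun Q => ¬ U ≤ Q) = t.filter (fun Q => ¬ U ≤ Q) := by
  rw [Finset.filter_insert, if_neg]
  exact not_not.mpr (le_Yof U s)

theorem filter_erase_Yof (U : Subgroup G) (s t : Finset (Subgroup G)) :
    (t.erase (Yof U s)).filter (fun Q => ¬ U ≤ Q) = t.filter (fun Q => ¬ U ≤ Q) := by
  rw [Finset.filter_erase, Finset.erase_eq_of_notMem]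
  intro h
  exact (Finset.mem_filter.mp h).2 (le_Yof U s)

theorem Wof_insert (U : Subgroup G) (s t : Finset (Subgroup G)) :
    Wof U (insert (Yof U s) t) = Wof U t := by
  show ((insert (Yof U s) t).filter (fun Q => ¬ U ≤ Q)).sup id =
    (t.filter (fun Q => ¬ U ≤ Q)).sup id
  rw [filter_insert_Yof]

theorem Wof_erase (U : Subgroup G) (s t : Finset (Subgroup G)) :
    Wof U (t.erase (Yof U s)) = Wof U t := by
  show ((t.erase (Yof U s)).filter (fun Q => ¬ U ≤ Q)).sup id =
    (t.filter (fun Q => ¬ U ≤ Q)).sup id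
  rw [filter_erase_Yof]

theorem Yof_insert (U : Subgroup G) (s t : Finset (Subgroup G)) :
    Yof U (insert (Yof U s) t) = Yof U t := by
  show Wof U (insert (Yof U s) t) ⊔ U = Wof U t ⊔ U
  rw [Wof_insert]

theorem Yof_erase (U : Subgroup G) (s t : Finset (Subgroup G)) :
    Yof U (t.erase (Yof U s)) = Yof U t := by
  show Wof U (t.erase (Yof U s)) ⊔ U = Wof U t ⊔ U
  rw [Wof_erase]

theorem tau_of_mem (U : Subgroup G) (s : Finset (Subgroup G)) (h : Yof U s ∈ s) :
    tau U s = s.erase (Yof U s) := by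
  show (if Yof U s ∈ s then s.erase (Yof U s) else insert (Yof U s) s) = _
  rw [if_pos h]

theorem tau_of_notMem (U : Subgroup G) (s : Finset (Subgroup G)) (h : Yof U s ∉ s) :
    tau U s = insert (Yof U s) s := by
  show (if Yof U s ∈ s then s.erase (Yof U s) else insert (Yof U s) s) = _
  rw [if_neg h]

theorem Yof_tau (U : Subgroup G) (s : Finset (Subgroup G)) : Yof U (tau U s) = Yof U s := by
  by_cases h : Yof U s ∈ s
  · rw [tau_of_mem U s h, Yof_erase]
  · rw [tau_of_notMem U s h, Yof_insert]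

theorem tau_tau (U : Subgroup G) (s : Finset (Subgroup G)) : tau U (tau U s) = s := by
  have hY := Yof_tau U s
  by_cases h : Yof U s ∈ s
  · have h1 : tau U s = s.erase (Yof U s) := tau_of_mem U s h
    have h2 : Yof U (tau U s) ∉ tau U s := by
      rw [hY, h1]; exact Finset.notMem_erase _ _
    rw [tau_of_notMem U _ h2, hY, h1, Finset.insert_erase h]
  · have h1 : tau U s = insert (Yof U s) s := tau_of_notMem U s h
    have h2 : Yof U (tau U s) ∈ tau U s := by
      rw [hY, h1]; exact Finset.mem_insert_self _ _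
    rw [tau_of_mem U _ h2, hY, h1, Finset.erase_insert h]

theorem mem_normalizer_Wof (U : Subgroup G) (s : Finset (Subgroup G)) (hs : Comparable s) {g : G}
    (hg : g ∈ chainNorm s) : g ∈ Subgroup.normalizer ((Wof U s : Subgroup G) : Set G) := by
  rcases Wof_eq_bot_or_mem U s hs with h | h
  · rw [h, Subgroup.mem_normalizer_iff]
    intro x
    rw [Subgroup.mem_bot, Subgroup.mem_bot]
    constructor
    · rintro rfl
      group
    · intro hx
      have h4 : x = g⁻¹ * (g * x * g⁻¹) * g := by group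
      rw [h4, hx]
      group
  · exact (mem_chainNorm_iff s g).mp hg _ h.1

theorem mem_normalizer_Yof (u : G) (s : Finset (Subgroup G)) (hs : Comparable s) {g : G}
    (hgc : g ∈ Cz u) (hg : g ∈ chainNorm s) :
    g ∈ Subgroup.normalizer ((Yof (Subgroup.zpowers u) s : Subgroup G) : Set G) :=
  mem_normalizer_sup (mem_normalizer_Wof _ s hs hg) (centralizer_le_normalizer_zpowers u hgc)

theorem chainNorm_insert (Q : Subgroup G) (s : Finset (Subgroup G)) :
    chainNorm (insert Q s) = Subgroup.normalizer (Q : Set G) ⊓ chainNorm s := by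
  unfold chainNorm
  rw [Finset.iInf_insert]

theorem inf_chainNorm_insert (u : G) (t : Finset (Subgroup G)) (ht : Comparable t) :
    Cz u ⊓ chainNorm (insert (Yof (Subgroup.zpowers u) t) t) = Cz u ⊓ chainNorm t := by
  rw [chainNorm_insert]
  apply le_antisymm
  · exact inf_le_inf_left _ inf_le_right
  · intro g hg
    obtain ⟨h1, h2⟩ := Subgroup.mem_inf.mp hg
    exact Subgroup.mem_inf.mpr
      ⟨h1, Subgroup.mem_inf.mpr ⟨mem_normalizer_Yof u t ht h1 h2, h2⟩⟩

theorem comparable_erase (s : Finset (Subgroup G)) (hs : Comparable s) (Q : Subgroup G) :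
    Comparable (s.erase Q) :=
  fun A hA B hB => hs A (Finset.mem_of_mem_erase hA) B (Finset.mem_of_mem_erase hB)

theorem inf_chainNorm_tau (u : G) (s : Finset (Subgroup G)) (hs : Comparable s) :
    Cz u ⊓ chainNorm (tau (Subgroup.zpowers u) s) = Cz u ⊓ chainNorm s := by
  by_cases h : Yof (Subgroup.zpowers u) s ∈ s
  · rw [tau_of_mem _ s h]
    have h1 := inf_chainNorm_insert u (s.erase (Yof (Subgroup.zpowers u) s))
      (comparable_erase s hs _)
    rw [Yof_erase, Finset.insert_erase h] at h1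
    exact h1.symm
  · rw [tau_of_notMem _ s h]
    exact inf_chainNorm_insert u s hs

variable {p : ℕ}

/-- The chains of nontrivial `p`-subgroups normalized by `u`. -/
def Good (p : ℕ) (u : G) (s : Finset (Subgroup G)) : Prop := IsPChain p s ∧ u ∈ chainNorm s

theorem isPGroup_zpowers (u : G) (hu : ∃ k : ℕ, orderOf u = p ^ k) :
    IsPGroup p (Subgroup.zpowers u) := by
  obtain ⟨k, hk⟩ := hu
  apply IsPGroup.of_card (n := k)
  rw [Nat.card_zpowers, hk]

theorem isPGroup_Wof (U : Subgroup G) (s : Finset (Subgroup G)) (hs : IsPChain p s) :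
    IsPGroup p (Wof U s) := by
  rcases Wof_eq_bot_or_mem U s hs.2.1 with h | h
  · rw [h]; exact IsPGroup.of_bot
  · exact (hs.2.2 _ h.1).2

theorem isPGroup_Yof (u : G) (hu : ∃ k : ℕ, orderOf u = p ^ k) (s : Finset (Subgroup G))
    (hs : Good p u s) : IsPGroup p (Yof (Subgroup.zpowers u) s) := by
  apply IsPGroup.to_sup_of_normal_left' (isPGroup_Wof _ s hs.1) (isPGroup_zpowers u hu)
  rw [Subgroup.zpowers_le]
  exact mem_normalizer_Wof _ s hs.1.2.1 hs.2

theorem mem_Cz_self (u : G) : u ∈ Cz u := Subgroup.mem_centralizer_singleton_iff.mpr rfl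

theorem good_tau (u : G) (hu1 : u ≠ 1) (hu : ∃ k : ℕ, orderOf u = p ^ k)
    (s : Finset (Subgroup G)) (hs : Good p u s) (hne : s ≠ {Subgroup.zpowers u}) :
    Good p u (tau (Subgroup.zpowers u) s) := by
  have hcomp : Comparable s := hs.1.2.1
  have hY0 : Yof (Subgroup.zpowers u) s ≠ ⊥ := by
    intro h0
    have h1 : Subgroup.zpowers u ≤ ⊥ := h0 ▸ le_Yof (Subgroup.zpowers u) s
    exact (Subgroup.zpowers_ne_bot.mpr hu1) (le_bot_iff.mp h1)
  have hYp : IsPGroup p (Yof (Subgroup.zpowers u) s) := isPGroup_Yof u hu s hs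
  have hYn : u ∈ Subgroup.normalizer ((Yof (Subgroup.zpowers u) s : Subgroup G) : Set G) :=
    mem_normalizer_Yof u s hcomp (mem_Cz_self u) hs.2
  by_cases h : Yof (Subgroup.zpowers u) s ∈ s
  · rw [tau_of_mem _ s h]
    refine ⟨⟨?_, comparable_erase s hcomp _, ?_⟩, ?_⟩
    · rw [Finset.nonempty_iff_ne_empty]
      intro he
      have hall : ∀ Q ∈ s, Q = Yof (Subgroup.zpowers u) s := by
        intro Q hQ
        by_contra hQne
        have : Q ∈ s.erase (Yof (Subgroup.zpowers u) s) := Finset.mem_erase.mpr ⟨hQne, hQ⟩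
        rw [he] at this
        exact absurd this (Finset.notMem_empty _)
      have h2 : Wof (Subgroup.zpowers u) s = ⊥ := by
        rcases Wof_eq_bot_or_mem (Subgroup.zpowers u) s hcomp with h' | h'
        · exact h'
        · exfalso
          apply h'.2
          rw [hall _ h'.1]
          exact le_Yof _ s
      have h3 : Yof (Subgroup.zpowers u) s = Subgroup.zpowers u := by
        show Wof (Subgroup.zpowers u) s ⊔ Subgroup.zpowers u = Subgroup.zpowers u
        rw [h2, bot_sup_eq]
      apply hne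
      rw [Finset.eq_singleton_iff_unique_mem]
      refine ⟨h3 ▸ h, fun Q hQ => ?_⟩
      rw [hall Q hQ, h3]
    · intro Q hQ
      exact hs.1.2.2 Q (Finset.mem_of_mem_erase hQ)
    · rw [mem_chainNorm_iff]
      intro Q hQ
      exact (mem_chainNorm_iff s u).mp hs.2 Q (Finset.mem_of_mem_erase hQ)
  · rw [tau_of_notMem _ s h]
    refine ⟨⟨Finset.insert_nonempty _ _, ?_, ?_⟩, ?_⟩
    · have key : ∀ Q ∈ s, Q ≤ Yof (Subgroup.zpowers u) s ∨ Yof (Subgroup.zpowers u) s ≤ Q := by
        intro Q hQ
        by_cases hUQ : Subgroup.zpowers u ≤ Q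
        · exact Or.inr (Yof_le _ s hcomp hQ hUQ)
        · exact Or.inl (le_Yof_of_not _ s hQ hUQ)
      intro Q hQ R hR
      rcases Finset.mem_insert.mp hQ with rfl | hQ'
      · rcases Finset.mem_insert.mp hR with rfl | hR'
        · exact Or.inl le_rfl
        · exact (key R hR').symm
      · rcases Finset.mem_insert.mp hR with rfl | hR'
        · exact key Q hQ'
        · exact hcomp Q hQ' R hR'
    · intro Q hQ
      rcases Finset.mem_insert.mp hQ with rfl | hQ'
      · exact ⟨hY0, hYp⟩
      · exact hs.1.2.2 Q hQ'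
    · rw [mem_chainNorm_iff]
      intro Q hQ
      rcases Finset.mem_insert.mp hQ with rfl | hQ'
      · exact hYn
      · exact (mem_chainNorm_iff s u).mp hs.2 Q hQ'

theorem good_singleton (u : G) (hu1 : u ≠ 1) (hu : ∃ k : ℕ, orderOf u = p ^ k) :
    Good p u {Subgroup.zpowers u} := by
  refine ⟨⟨Finset.singleton_nonempty _, ?_, ?_⟩, ?_⟩
  · intro Q hQ R hR
    rw [Finset.mem_singleton.mp hQ, Finset.mem_singleton.mp hR]
    exact Or.inl le_rfl
  · intro Q hQ
    rw [Finset.mem_singleton.mp hQ]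
    exact ⟨Subgroup.zpowers_ne_bot.mpr hu1, isPGroup_zpowers u hu⟩
  · rw [mem_chainNorm_iff]
    intro Q hQ
    rw [Finset.mem_singleton.mp hQ]
    exact centralizer_le_normalizer_zpowers u (mem_Cz_self u)

theorem chainNorm_singleton (Q : Subgroup G) :
    chainNorm ({Q} : Finset (Subgroup G)) = Subgroup.normalizer (Q : Set G) := by
  unfold chainNorm
  simp

theorem tau_singleton (U : Subgroup G) : tau U {U} = ∅ := by
  have h1 : Wof U {U} = ⊥ := by
    show (({U} : Finset (Subgroup G)).filter (fun Q => ¬ U ≤ Q)).sup id = ⊥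
    rw [Finset.filter_singleton, if_neg (not_not.mpr le_rfl), Finset.sup_empty]
  have h2 : Yof U {U} = U := by
    show Wof U {U} ⊔ U = U
    rw [h1, bot_sup_eq]
  rw [tau_of_mem U {U} (by rw [h2]; exact Finset.mem_singleton_self U), h2,
    Finset.erase_singleton]

end Cfsg.Agent.Lib.Helper17.KRC2

namespace Cfsg.Agent.Lib.Helper17.KRC2

open Cfsg Cfsg.Agent.Lib.Helper24.KR

open Classical

universe u

variable {G : Type u} [Group G] [Finite G] {p : ℕ} [hpp : Fact p.Prime] {M : Ideal AlgInt}

/-- (C2) the cone over `⟨u⟩`. -/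
theorem finsum_chains_cone (u : G) (hu1 : u ≠ 1) (hu : ∃ k : ℕ, orderOf u = p ^ k)
    (Φ : Subgroup G → ℤ) :
    ∑ᶠ s ∈ {s : Finset (Subgroup G) | IsPChain p s ∧ u ∈ chainNorm s},
      (-1 : ℤ) ^ (s.card - 1) * Φ (Cz u ⊓ chainNorm s) = Φ (Cz u) := by
  have hfin : ({s : Finset (Subgroup G) | IsPChain p s ∧ u ∈ chainNorm s}).Finite :=
    Set.toFinite _
  rw [finsum_mem_eq_finite_toFinset_sum _ hfin]
  have hmemT : ∀ s, s ∈ hfin.toFinset ↔ Good p u s := fun s => by
    rw [Set.Finite.mem_toFinset]; rfl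
  have hU0 : ({Subgroup.zpowers u} : Finset (Subgroup G)) ∈ hfin.toFinset :=
    (hmemT _).mpr (good_singleton u hu1 hu)
  rw [← Finset.add_sum_erase _ _ hU0]
  have hmemE : ∀ s, s ∈ hfin.toFinset.erase {Subgroup.zpowers u} ↔
      s ≠ {Subgroup.zpowers u} ∧ Good p u s := fun s => by
    rw [Finset.mem_erase, hmemT]
  have hrest : ∑ s ∈ hfin.toFinset.erase {Subgroup.zpowers u},
      (-1 : ℤ) ^ (s.card - 1) * Φ (Cz u ⊓ chainNorm s) = 0 := by
    refine Finset.sum_involution (fun s _ => tau (Subgroup.zpowers u) s) ?_ ?_ ?_ ?_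
    · intro s hs
      obtain ⟨hne, hg⟩ := (hmemE s).mp hs
      have hg' := good_tau u hu1 hu s hg hne
      rw [inf_chainNorm_tau u s hg.1.2.1]
      by_cases h : Yof (Subgroup.zpowers u) s ∈ s
      · have hc : (tau (Subgroup.zpowers u) s).card = s.card - 1 := by
          rw [tau_of_mem _ s h, Finset.card_erase_of_mem h]
        have hpos : 0 < (tau (Subgroup.zpowers u) s).card := Finset.card_pos.mpr hg'.1.1
        obtain ⟨c, hc2⟩ : ∃ c, s.card = c + 2 := ⟨s.card - 2, by omega⟩
        rw [hc, hc2]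
        have e1 : c + 2 - 1 = c + 1 := by omega
        have e2 : c + 1 - 1 = c := by omega
        rw [e1, e2, pow_succ]
        ring
      · have hc : (tau (Subgroup.zpowers u) s).card = s.card + 1 := by
          rw [tau_of_notMem _ s h, Finset.card_insert_of_notMem h]
        have hpos : 0 < s.card := Finset.card_pos.mpr hg.1.1
        obtain ⟨c, hc2⟩ : ∃ c, s.card = c + 1 := ⟨s.card - 1, by omega⟩
        rw [hc, hc2]
        have e1 : c + 1 - 1 = c := by omega
        have e2 : c + 1 + 1 - 1 = c + 1 := by omega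
        rw [e1, e2, pow_succ]
        ring
    · intro s hs _ heq
      by_cases h : Yof (Subgroup.zpowers u) s ∈ s
      · rw [tau_of_mem _ s h] at heq
        have := Finset.notMem_erase (Yof (Subgroup.zpowers u) s) s
        rw [heq] at this
        exact this h
      · rw [tau_of_notMem _ s h] at heq
        apply h
        have h5 : Yof (Subgroup.zpowers u) s ∈ insert (Yof (Subgroup.zpowers u) s) s :=
          Finset.mem_insert_self _ _
        rw [heq] at h5
        exact h5
    · intro s hs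
      obtain ⟨hne, hg⟩ := (hmemE s).mp hs
      refine (hmemE _).mpr ⟨?_, good_tau u hu1 hu s hg hne⟩
      intro heq
      have h1 := tau_tau (Subgroup.zpowers u) s
      rw [heq, tau_singleton] at h1
      exact (Finset.nonempty_iff_ne_empty.mp hg.1.1) h1.symm
    · intro s hs
      exact tau_tau (Subgroup.zpowers u) s
  rw [hrest, add_zero, Finset.card_singleton, Nat.sub_self, pow_zero, one_mul,
    chainNorm_singleton, inf_eq_left.mpr (centralizer_le_normalizer_zpowers u)]

end Cfsg.Agent.Lib.Helper17.KRC2
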