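/-
helper17: S5286 (Leary-Stancu) leaf D `fusion_of_conj` in `_of` form, planner helper21
(`notes/S5286_leaves.lean`): conjugation by `g ∈ G F` between subgroups of `ι(S)` is a map of the system.
The wave-1 facts RED, GEO, ST, FS and the wave-2 leaf C enter as explicit hypotheses.
Induction on a reduced word of `g`.
-/
import Mathlib
import Cfsg.Agent.Lib.Helper21.LSBasic

set_option autoImplicit false
universe u
open Cfsg
open Cfsg.Agent.Lib.Helper21.LS

namespace Cfsg.Agent.Lib.Helper17.LSDof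

section General

variable {Γ : Type*} {Y : Type*} [Group Γ] [MulAction Γ Y]

theorem isReduced_map_lsmul (γ : Γ) {L : List (Y × Bool)} (h : FreeGroup.IsReduced L) :
    FreeGroup.IsReduced (L.map (lsmul γ)) := by
  unfold FreeGroup.IsReduced at h ⊢
  rw [List.isChain_map]
  refine h.imp ?_
  intro a b hab h1
  exact hab (MulAction.injective γ h1)

theorem eq_of_isReduced_of_mk_eq [DecidableEq Y] {L1 L2 : List (Y × Bool)}
    (h1 : FreeGroup.IsReduced L1) (h2 : FreeGroup.IsReduced L2)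
    (h : FreeGroup.mk L1 = FreeGroup.mk L2) : L1 = L2 := by
  have e1 : (FreeGroup.mk L1).toWord = L1 := by rw [FreeGroup.toWord_mk, h1.reduce_eq]
  have e2 : (FreeGroup.mk L2).toWord = L2 := by rw [FreeGroup.toWord_mk, h2.reduce_eq]
  rw [← e1, ← e2, h]

/-- an automorphism `lsmul γ` fixing a reduced word fixes its letters -/
theorem map_lsmul_eq_of_actHom_mk_eq [DecidableEq Y] (γ : Γ) {L : List (Y × Bool)}
    (h : FreeGroup.IsReduced L) (hfix : actHom Γ Y γ (FreeGroup.mk L) = FreeGroup.mk L) :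
    L.map (lsmul γ) = L := by
  rw [actHom_mk] at hfix
  exact eq_of_isReduced_of_mk_eq (isReduced_map_lsmul γ h) h hfix

end General

variable {Ω : Type u} [Group Ω] {S : Subgroup Ω} (F : FusionSystem S)

theorem vact_iotaHat (x : ↥S) (v : FreeGroup (X F)) :
    vact (iotaHat F x) v = actHom (Sig S) (X F) (lam S x) v := by
  simp [vact]

/-- if `g⁻¹ ι(x) g ∈ ι(S)` then `ι(x)` fixes the vertex `g.left` -/
theorem actHom_left_eq_of_conj_mem (g : Ghat F) (x : ↥S)
    (h : g⁻¹ * iotaHat F x * g ∈ Set.range (iotaHat F)) :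
    actHom (Sig S) (X F) (lam S x) g.left = g.left := by
  obtain ⟨z, hz⟩ := h
  have h1 : iotaHat F x * g = g * iotaHat F z := by
    rw [hz]; group
  have h2 := congrArg SemidirectProduct.left h1
  rw [SemidirectProduct.mul_left, SemidirectProduct.mul_left, iotaHat_left, iotaHat_left,
    iotaHat_right, map_one, one_mul, mul_one] at h2
  exact h2

/-- if `ι(x)` fixes the vertex `g.left` then `g⁻¹ ι(x) g` has trivial left part -/
theorem conj_left_eq_one (g : Ghat F) (x : ↥S)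
    (h : actHom (Sig S) (X F) (lam S x) g.left = g.left) :
    (g⁻¹ * iotaHat F x * g).left = 1 := by
  rw [← vact_one_left, vact_mul, vact_mul, vact_one_left, vact_iotaHat, h]
  rw [← vact_one_left g, ← vact_mul, inv_mul_cancel, vact_one]

theorem conj_right (g : Ghat F) (x : ↥S) :
    (g⁻¹ * iotaHat F x * g).right = g.right⁻¹ * lam S x * g.right := by
  rw [SemidirectProduct.mul_right, SemidirectProduct.mul_right, SemidirectProduct.inv_right,
    iotaHat_right]

/-- the induction on a reduced word -/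
theorem fusion_evalR
    (hGEO : ∀ (s0 : ↥S) (a : Step F) (l : List (Step F)), Reduced F (a :: l) →
      ∃ L : List (X F × Bool),
        FreeGroup.IsReduced (L ++ [lsmul (evalR F s0 l).right (letter F a.i a.ε)]) ∧
        FreeGroup.mk L = (evalR F s0 l).left ∧
        FreeGroup.mk (L ++ [lsmul (evalR F s0 l).right (letter F a.i a.ε)]) =
          (evalR F s0 (a :: l)).left)
    (hST1 : ∀ (i : Idx F) (y : ↥S), lam S y • xi F i = xi F i ↔ (y : Ω) ∈ i.Q)
    (hST2 : ∀ (i : Idx F) (y : ↥S),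
      lam S y • ((sig F i)⁻¹ • xi F i) = (sig F i)⁻¹ • xi F i ↔ (y : Ω) ∈ i.P)
    (hFS : ∀ (R : Subgroup Ω) (ψ' : R →* Ω), ψ' ∈ F.Hom R → ∀ a : Step F,
      (a.ε = true → ∀ x : R, ψ' x ∈ a.i.Q) → (a.ε = false → ∀ x : R, ψ' x ∈ a.i.P) →
      ∃ ψ ∈ F.Hom R, ∀ (x : R) (y' y : ↥S), (y' : Ω) = ψ' x → (y : Ω) = ψ x →
        iotaHat F y =
          (iotaHat F a.s)⁻¹ * (tau F a.i a.ε)⁻¹ * iotaHat F y' * tau F a.i a.ε * iotaHat F a.s)
    (hC : ∀ g : Ghat F, g ∈ G F → g.left = 1 → g ∈ Set.range (iotaHat F))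
    (s0 : ↥S) : ∀ l : List (Step F), Reduced F l → ∀ (R : Subgroup Ω) (hR : R ≤ S),
      (∀ x : R, (evalR F s0 l)⁻¹ * iotaHat F ⟨(x : Ω), hR x.2⟩ * evalR F s0 l ∈
        Set.range (iotaHat F)) →
      ∃ ψ ∈ F.Hom R, ∀ (x : R) (y : ↥S), (y : Ω) = ψ x →
        iotaHat F y = (evalR F s0 l)⁻¹ * iotaHat F ⟨(x : Ω), hR x.2⟩ * evalR F s0 l := by
  intro l
  induction l with
  | nil =>
    intro _ R hR _
    refine ⟨conjHom R ((s0⁻¹ : ↥S) : Ω), F.conj_mem hR (s0⁻¹).2, ?_⟩
    intro x y hy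
    have hy' : y = s0⁻¹ * ⟨(x : Ω), hR x.2⟩ * s0 := by
      apply Subtype.ext
      rw [hy]
      show (MulAut.conj ((s0⁻¹ : ↥S) : Ω)) (x : Ω) = _
      rw [MulAut.conj_apply]
      simp
    show iotaHat F y = (iotaHat F s0)⁻¹ * iotaHat F ⟨(x : Ω), hR x.2⟩ * iotaHat F s0
    rw [hy', map_mul, map_mul, map_inv]
  | cons a l ih =>
    intro hred R hR hconj
    have hred' : Reduced F l := by
      unfold Reduced at hred ⊢
      exact hred.tail
    obtain ⟨L, hLred, hLl, hLal⟩ := hGEO s0 a l hred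
    -- every `ι x` fixes the vertex of `a :: l`, hence the letters of its reduced word
    have hfixL : ∀ x : R,
        (L ++ [lsmul (evalR F s0 l).right (letter F a.i a.ε)]).map
          (lsmul (lam S ⟨(x : Ω), hR x.2⟩)) =
        L ++ [lsmul (evalR F s0 l).right (letter F a.i a.ε)] := by
      intro x
      apply map_lsmul_eq_of_actHom_mk_eq _ hLred
      rw [hLal]
      exact actHom_left_eq_of_conj_mem F _ _ (hconj x)
    have hfix1 : ∀ x : R, L.map (lsmul (lam S ⟨(x : Ω), hR x.2⟩)) = L := by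
      intro x
      have h := hfixL x
      rw [List.map_append] at h
      exact (List.append_inj' h (by simp)).1
    have hfix2 : ∀ x : R, lsmul (lam S ⟨(x : Ω), hR x.2⟩)
        (lsmul (evalR F s0 l).right (letter F a.i a.ε)) =
        lsmul (evalR F s0 l).right (letter F a.i a.ε) := by
      intro x
      have h := hfixL x
      rw [List.map_append] at h
      have h2 := (List.append_inj' h (by simp)).2
      simpa using h2
    -- the shorter word
    have hconj' : ∀ x : R, (evalR F s0 l)⁻¹ * iotaHat F ⟨(x : Ω), hR x.2⟩ * evalR F s0 l ∈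
        Set.range (iotaHat F) := by
      intro x
      apply hC
      · exact (G F).mul_mem ((G F).mul_mem ((G F).inv_mem (evalR_mem F s0 l)) (iotaHat_mem F _))
          (evalR_mem F s0 l)
      · apply conj_left_eq_one
        rw [← hLl, actHom_mk, hfix1 x]
    obtain ⟨ψ', hψ', hψ'eq⟩ := ih hred' R hR hconj'
    have hψ'S : ∀ x : R, ψ' x ∈ S := (F.le_of_mem hψ').2
    -- `lam (ψ' x)` fixes the letter of `a`
    have hletter : ∀ x : R, lsmul (lam S ⟨ψ' x, hψ'S x⟩) (letter F a.i a.ε) = letter F a.i a.ε := by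
      intro x
      have h1 := hψ'eq x ⟨ψ' x, hψ'S x⟩ rfl
      have h2 := congrArg SemidirectProduct.right h1
      rw [conj_right, iotaHat_right] at h2
      rw [h2]
      have h3 := hfix2 x
      have h4 : lam S ⟨(x : Ω), hR x.2⟩ • ((evalR F s0 l).right • (letter F a.i a.ε).1) =
          (evalR F s0 l).right • (letter F a.i a.ε).1 := congrArg Prod.fst h3
      show (((evalR F s0 l).right⁻¹ * lam S ⟨(x : Ω), hR x.2⟩ * (evalR F s0 l).right) •
        (letter F a.i a.ε).1, (letter F a.i a.ε).2) = letter F a.i a.ε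
      rw [mul_smul, mul_smul, h4, ← mul_smul, inv_mul_cancel, one_smul]
    have hQ : a.ε = true → ∀ x : R, ψ' x ∈ a.i.Q := by
      intro hε x
      have h := hletter x
      rw [hε] at h
      have h2 : lam S ⟨ψ' x, hψ'S x⟩ • xi F a.i = xi F a.i := congrArg Prod.fst h
      exact (hST1 a.i ⟨ψ' x, hψ'S x⟩).mp h2
    have hP : a.ε = false → ∀ x : R, ψ' x ∈ a.i.P := by
      intro hε x
      have h := hletter x
      rw [hε] at h
      have h2 : lam S ⟨ψ' x, hψ'S x⟩ • ((sig F a.i)⁻¹ • xi F a.i) = (sig F a.i)⁻¹ • xi F a.i :=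
        congrArg Prod.fst h
      exact (hST2 a.i ⟨ψ' x, hψ'S x⟩).mp h2
    obtain ⟨ψ, hψ, hψeq⟩ := hFS R ψ' hψ' a hQ hP
    refine ⟨ψ, hψ, ?_⟩
    intro x y hy
    have h1 := hψeq x ⟨ψ' x, hψ'S x⟩ y rfl hy
    have h2 := hψ'eq x ⟨ψ' x, hψ'S x⟩ rfl
    rw [h1, h2]
    show _ = (evalR F s0 l * tau F a.i a.ε * iotaHat F a.s)⁻¹ * _ *
      (evalR F s0 l * tau F a.i a.ε * iotaHat F a.s)
    group

/-- (D), `_of` form. -/
theorem fusion_of_conj_of
    (hRED : ∀ g : Ghat F, g ∈ G F →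
      ∃ (s0 : ↥S) (l : List (Step F)), Reduced F l ∧ evalR F s0 l = g)
    (hGEO : ∀ (s0 : ↥S) (a : Step F) (l : List (Step F)), Reduced F (a :: l) →
      ∃ L : List (X F × Bool),
        FreeGroup.IsReduced (L ++ [lsmul (evalR F s0 l).right (letter F a.i a.ε)]) ∧
        FreeGroup.mk L = (evalR F s0 l).left ∧
        FreeGroup.mk (L ++ [lsmul (evalR F s0 l).right (letter F a.i a.ε)]) =
          (evalR F s0 (a :: l)).left)
    (hST1 : ∀ (i : Idx F) (y : ↥S), lam S y • xi F i = xi F i ↔ (y : Ω) ∈ i.Q)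
    (hST2 : ∀ (i : Idx F) (y : ↥S),
      lam S y • ((sig F i)⁻¹ • xi F i) = (sig F i)⁻¹ • xi F i ↔ (y : Ω) ∈ i.P)
    (hFS : ∀ (R : Subgroup Ω) (ψ' : R →* Ω), ψ' ∈ F.Hom R → ∀ a : Step F,
      (a.ε = true → ∀ x : R, ψ' x ∈ a.i.Q) → (a.ε = false → ∀ x : R, ψ' x ∈ a.i.P) →
      ∃ ψ ∈ F.Hom R, ∀ (x : R) (y' y : ↥S), (y' : Ω) = ψ' x → (y : Ω) = ψ x →
        iotaHat F y =
          (iotaHat F a.s)⁻¹ * (tau F a.i a.ε)⁻¹ * iotaHat F y' * tau F a.i a.ε * iotaHat F a.s)
    (hC : ∀ g : Ghat F, g ∈ G F → g.left = 1 → g ∈ Set.range (iotaHat F))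
    (g : Ghat F) (hg : g ∈ G F) (R : Subgroup Ω) (hR : R ≤ S)
    (hconj : ∀ x : R, g⁻¹ * iotaHat F ⟨(x : Ω), hR x.2⟩ * g ∈ Set.range (iotaHat F)) :
    ∃ ψ ∈ F.Hom R, ∀ (x : R) (y : ↥S), (y : Ω) = ψ x →
      iotaHat F y = g⁻¹ * iotaHat F ⟨(x : Ω), hR x.2⟩ * g := by
  obtain ⟨s0, l, hl, rfl⟩ := hRED g hg
  exact fusion_evalR F hGEO hST1 hST2 hFS hC s0 l hl R hR hconj

end Cfsg.Agent.Lib.Helper17.LSDof
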