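/-
helper17: S5286 (Leary-Stancu) leaf D `fusion_of_conj`, planner helper21 (`notes/S5286_leaves.lean`),
EXACT name and binders.  Assembled from `LSDof.fusion_of_conj_of` and the landed wave-1 holders
(SG helper5, ST and PC helper20, PS and RED helper29, GEO and FS helper23); the vertex stabilizer
fact (C) is reproved here from RED and GEO so that this module does not wait for wave 2.
-/
import Mathlib
import Cfsg.Agent.Lib.Helper21.LSBasic
import Cfsg.Agent.Lib.Helper17.LSDof
import Cfsg.Agent.Lib.Helper20.LSST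
import Cfsg.Agent.Lib.Helper20.LSPC
import Cfsg.Agent.Lib.Helper29.LSRED
import Cfsg.Agent.Lib.Helper29.LSPS
import Cfsg.Agent.Lib.Helper5.LSSG
import Cfsg.Agent.Lib.Helper23.LSGEO
import Cfsg.Agent.Lib.Helper23.LSFS

set_option autoImplicit false
universe u
open Cfsg
open Cfsg.Agent.Lib.Helper21.LS

namespace Cfsg.Agent.Lib.Helper17.LSD

variable {Ω : Type u} [Group Ω] {S : Subgroup Ω} (F : FusionSystem S)

theorem sigGood_all [Finite ↥S] (i : Idx F) : SigGood F i (sig F i) :=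
  sigGood_sig_of_exists F i (Cfsg.Agent.Lib.Helper5.LSSG.exists_sigGood F i)

theorem red_all [Finite ↥S] (g : Ghat F) (hg : g ∈ G F) :
    ∃ (s0 : ↥S) (l : List (Step F)), Reduced F l ∧ evalR F s0 l = g :=
  Cfsg.Agent.Lib.Helper29.LSRED.exists_reduced_of F
    (fun b a h => Cfsg.Agent.Lib.Helper29.LSPS.pinch_prod F (sigGood_all F) b a h) g hg

theorem geo_all [Finite ↥S] (s0 : ↥S) (a : Step F) (l : List (Step F)) (h : Reduced F (a :: l)) :
    ∃ L : List (X F × Bool),
      FreeGroup.IsReduced (L ++ [lsmul (evalR F s0 l).right (letter F a.i a.ε)]) ∧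
      FreeGroup.mk L = (evalR F s0 l).left ∧
      FreeGroup.mk (L ++ [lsmul (evalR F s0 l).right (letter F a.i a.ε)]) =
        (evalR F s0 (a :: l)).left :=
  Cfsg.Agent.Lib.Helper23.LSGEO.evalR_cons_left_of F
    (fun b a h => Cfsg.Agent.Lib.Helper20.LSPC.not_cancel_of_not_pinch F (sigGood_all F) b a h)
    s0 a l h

/-- (C), reproved here: the stabilizer of the vertex `1` in `G F` is `ι(S)`. -/
theorem left_eq_one_mem_range [Finite ↥S] (g : Ghat F) (hg : g ∈ G F) (h1 : g.left = 1) :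
    g ∈ Set.range (iotaHat F) := by
  classical
  obtain ⟨s0, l, hl, rfl⟩ := red_all F g hg
  cases l with
  | nil => exact ⟨s0, rfl⟩
  | cons a l =>
    exfalso
    obtain ⟨L, hLred, -, hLal⟩ := geo_all F s0 a l hl
    rw [h1] at hLal
    have h2 : (FreeGroup.mk (L ++ [lsmul (evalR F s0 l).right (letter F a.i a.ε)])).toWord =
        L ++ [lsmul (evalR F s0 l).right (letter F a.i a.ε)] := by
      rw [FreeGroup.toWord_mk, hLred.reduce_eq]
    rw [hLal, FreeGroup.toWord_one] at h2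
    simp at h2

/-- (D) fusion: conjugation by `g ∈ G F` between subgroups of `ι(S)` is a map of the system. -/
theorem fusion_of_conj [Finite ↥S] (g : Ghat F) (hg : g ∈ G F) (R : Subgroup Ω) (hR : R ≤ S)
    (hconj : ∀ x : R, g⁻¹ * iotaHat F ⟨(x : Ω), hR x.2⟩ * g ∈ Set.range (iotaHat F)) :
    ∃ ψ ∈ F.Hom R, ∀ (x : R) (y : ↥S), (y : Ω) = ψ x →
      iotaHat F y = g⁻¹ * iotaHat F ⟨(x : Ω), hR x.2⟩ * g :=
  Cfsg.Agent.Lib.Helper17.LSDof.fusion_of_conj_of F (red_all F) (geo_all F)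
    (Cfsg.Agent.Lib.Helper20.LSST.lam_smul_xi_iff F)
    (fun i y => Cfsg.Agent.Lib.Helper20.LSST.lam_smul_sig_inv_xi_iff F i (sigGood_all F i) y)
    (fun R ψ' hψ' a hQ hP => Cfsg.Agent.Lib.Helper23.LSFS.fus_step F (sigGood_all F) R ψ' hψ' a hQ hP)
    (left_eq_one_mem_range F) g hg R hR hconj

end Cfsg.Agent.Lib.Helper17.LSD
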