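import Mathlib
import Cfsg.Agent.Lib.Helper17.LargeES

/-!
Large extraspecial subgroups, continued: the ambient structure `ES` on `O_2(C_G(u))` for every
conjugate `u` of `z`, and the basic lemma `Q u ∩ Q v ≤ Q (u v)` for orthogonal singular `u`, `v`.
-/

set_option autoImplicit false

namespace Cfsg.Agent.Lib.Helper17

open Cfsg.Agent.Lib.Helper11

variable {G : Type*} [Group G]

theorem coreCent_conj_eq [Finite G] {p : ℕ} [Fact p.Prime] (g x : G) :
    coreCent p (g * x * g⁻¹) = (coreCent p x).map (MulAut.conj g).toMonoidHom := by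
  apply le_antisymm
  · intro q hq
    rw [mem_map_conj_iff]
    have h1 := conj_mem_coreCent (p := p) g⁻¹ hq
    rw [inv_inv] at h1
    have e : g⁻¹ * (g * x * g⁻¹) * g = x := by group
    rwa [e] at h1
  · rintro _ ⟨q, hq, rfl⟩
    exact conj_mem_coreCent (p := p) g hq

theorem self_mem_coreCent_of_orderOf [Finite G] {z : G} (hz : orderOf z = 2) :
    z ∈ coreCent 2 z := by
  apply self_mem_coreCent
  apply IsPGroup.of_card (n := 1)
  rw [Nat.card_zpowers, hz, pow_one]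

/-- The ambient extraspecial structure of `O_2(C_G(z))` with centre `⟨z⟩`. -/
theorem es_coreCent_self [Finite G] {z : G} (hz : orderOf z = 2)
    (hE : Cfsg.IsExtraspecial 2 ↥(coreCent 2 z)) : ES (coreCent 2 z) z := by
  have hz1 : z ≠ 1 := by
    intro h; rw [h, orderOf_one] at hz; norm_num at hz
  have hzQ := self_mem_coreCent_of_orderOf hz
  obtain ⟨z', hES'⟩ := ES.of_isExtraspecial (coreCent 2 z) hE
  have hzz' : z' = z := by
    rcases hES'.cent z hzQ (fun b hb => (coreCent_comm hb).symm) with h | h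
    · exact absurd h hz1
    · exact h.symm
  rwa [hzz'] at hES'

theorem es_coreCent [Finite G] {z : G} (hz : orderOf z = 2)
    (hE : Cfsg.IsExtraspecial 2 ↥(coreCent 2 z)) (g : G) :
    ES (coreCent 2 (g * z * g⁻¹)) (g * z * g⁻¹) := by
  have : Fact (Nat.Prime 2) := ⟨Nat.prime_two⟩
  rw [coreCent_conj_eq]
  exact (es_coreCent_self hz hE).conj g

/-- `Q u ∩ Q v ≤ Q (u v)` for orthogonal `u`, `v`. -/
theorem mem_coreCent_mul [Finite G] {u v y : G} (hu : ES (coreCent 2 u) u)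
    (hv : v ∈ coreCent 2 u) (hv1 : v ≠ 1) (hvu : v ≠ u) (huv : u ∈ coreCent 2 v)
    (hy1 : y ∈ coreCent 2 u) (hy2 : y ∈ coreCent 2 v) : y ∈ coreCent 2 (u * v) := by
  have : Fact (Nat.Prime 2) := ⟨Nat.prime_two⟩
  obtain ⟨q, hq, hqv, -⟩ := hu.exists_conj hv hv1 hvu
  have hy' : q⁻¹ * y * q⁻¹⁻¹ ∈ coreCent 2 v := by
    rcases hu.conj_mem_pair ((coreCent 2 u).inv_mem hq) hy1 with h | h
    · rw [h]; exact hy2
    · rw [h]; exact (coreCent 2 v).mul_mem hy2 huv
  have h1 := conj_mem_coreCent (p := 2) q hy'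
  have e : q * (q⁻¹ * y * q⁻¹⁻¹) * q⁻¹ = y := by group
  rw [e, hqv, coreCent_comm hv] at h1
  exact h1

theorem biSup_induction {ι : Type*} (s : Set ι) (S : ι → Subgroup G) {C : G → Prop} {x : G}
    (hx : x ∈ ⨆ i ∈ s, S i) (mem : ∀ i ∈ s, ∀ x ∈ S i, C x) (one : C 1)
    (mul : ∀ x y, C x → C y → C (x * y)) : C x := by
  refine Subgroup.iSup_induction (C := C) _ hx (fun i x hx => ?_) one mul
  exact Subgroup.iSup_induction (C := C) _ hx (fun hi x hx => mem i hi x hx) one mul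

/-- `LU` normalizes `U` and centralizes `QU / U`. -/
theorem singular_LU_action (U : Subgroup G)
    (hES : ∀ u ∈ U, u ≠ 1 → ES (coreCent 2 u) u)
    (hO : ∀ u ∈ U, ∀ v ∈ U, u ≠ 1 → v ≠ 1 → v ∈ coreCent 2 u)
    {g : G} (hg : g ∈ ⨆ u ∈ ((U : Set G) \ {1}), coreCent 2 u) :
    (∀ v ∈ U, g * v * g⁻¹ ∈ U) ∧
      (∀ x ∈ ⨅ u ∈ ((U : Set G) \ {1}), coreCent 2 u, g * x * g⁻¹ * x⁻¹ ∈ U) := by
  refine biSup_induction (C := fun g => (∀ v ∈ U, g * v * g⁻¹ ∈ U) ∧
      (∀ x ∈ ⨅ u ∈ ((U : Set G) \ {1}), coreCent 2 u, g * x * g⁻¹ * x⁻¹ ∈ U)) _ _ hg ?_ ?_ ?_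
  · rintro u ⟨huU, hu1⟩ c hc
    have hu1' : u ≠ 1 := fun h => hu1 h
    have hE := hES u huU hu1'
    constructor
    · intro v hv
      by_cases hv1 : v = 1
      · rw [hv1]; simp
      rcases hE.conj_mem_pair hc (hO u huU v hv hu1' hv1) with h | h
      · rw [h]; exact hv
      · rw [h]; exact U.mul_mem hv huU
    · intro x hx
      have hxu : x ∈ coreCent 2 u := by
        have := (Subgroup.mem_iInf.mp hx) u
        exact (Subgroup.mem_iInf.mp this) ⟨huU, hu1⟩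
      rcases hE.conj_mem_pair hc hxu with h | h
      · rw [h, mul_inv_cancel]; exact U.one_mem
      · rw [h, coreCent_comm hxu, mul_inv_cancel_right]; exact huU
  · constructor
    · intro v hv; simpa using hv
    · intro x _; simp
  · rintro a b ⟨ha1, ha2⟩ ⟨hb1, hb2⟩
    constructor
    · intro v hv
      have e : a * b * v * (a * b)⁻¹ = a * (b * v * b⁻¹) * a⁻¹ := by group
      rw [e]; exact ha1 _ (hb1 v hv)
    · intro x hx
      have e : a * b * x * (a * b)⁻¹ * x⁻¹ = a * (b * x * b⁻¹ * x⁻¹) * a⁻¹ * (a * x * a⁻¹ * x⁻¹) := by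
        group
      rw [e]; exact U.mul_mem (ha1 _ (hb2 x hx)) (ha2 x hx)

theorem singular_le_coreCent (U : Subgroup G)
    (hO : ∀ u ∈ U, ∀ v ∈ U, u ≠ 1 → v ≠ 1 → v ∈ coreCent 2 u)
    {u : G} (hu : u ∈ U) (hu1 : u ≠ 1) : U ≤ coreCent 2 u := by
  intro v hv
  by_cases hv1 : v = 1
  · rw [hv1]; exact one_mem _
  · exact hO u hu v hv hu1 hv1

end Cfsg.Agent.Lib.Helper17
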