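import Mathlib
import Cfsg.Agent.Lib.Lead.GalChar
import Cfsg.Agent.Lib.Helper23.ComplexAut
import Cfsg.Agent.Lib.Helper10.CyclicTIGalois
import Cfsg.Agent.Lib.Helper9.MCFGal
import Cfsg.Agent.Lib.Helper9.MCFFix
import Cfsg.Agent.Lib.Helper13.MCFZT
import Cfsg.Agent.Lib.Helper13.MCFMem
import Cfsg.Agent.Lib.Helper20.MCFInd
import Cfsg.Agent.Lib.Helper11.MCFSyl
import Cfsg.Agent.Lib.Helper1.MCFTau
import Cfsg.Agent.Lib.Helper1.MCFRev

/-!
# S4923 (3u): the main argument for `n ≥ 4` (planner: helper17)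

`P ∈ Syl₂(G)`, `|P| = 2 ^ n`, `n ≥ 4`, `ζ` a primitive `2 ^ (n - 1)`-th root of unity.
`forward`: `|P : P'| = 4` gives `g ∈ P` of even class size with value field `ℚ(ζ ± ζ⁻¹)`.
`backward`: the converse.  The leaves are the `MCF*` modules of helper1, helper9, helper11,
helper13, helper20 (plan in `notes/S4923_plan.md`).
-/

set_option autoImplicit false

namespace Cfsg.Agent.Lib.Helper17.MCF

open Cfsg Cfsg.Agent.CharLib Cfsg.Agent.Lib.Helper23
open Cfsg.Agent.Lib.Helper10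
open Cfsg.Agent.Lib.Helper9.MCF Cfsg.Agent.Lib.Helper13.MCF Cfsg.Agent.Lib.Helper20.MCF
open Cfsg.Agent.Lib.Helper11.MCF Cfsg.Agent.Lib.Helper1.MCF

universe u
variable {G : Type u} [Group G] [Finite G]

omit [Finite G] in
theorem irr_conj (χ : IrrCharacter G) (g c : G) :
    (χ : G → ℂ) (c * g * c⁻¹) = (χ : G → ℂ) g :=
  IsCharacter.isClassFunction (IsIrrCharacter.isCharacter χ.2) g c

/-- KEY -/
theorem isConj_pow_iff_fix (k : ℕ) (τ : ℂ ≃+* ℂ)
    (hτ : ∀ μ : ℂ, μ ^ Nat.card G = 1 → τ μ = μ ^ k) (g : G) :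
    IsConj (g ^ k) g ↔ ∀ z ∈ IntermediateField.adjoin ℚ
      {z : ℂ | ∃ χ : IrrCharacter G, (χ : G → ℂ) g = z}, τ z = z := by
  rw [← forall_adjoin_iff]
  constructor
  · rintro h z ⟨χ, rfl⟩
    rw [apply_pow_of_ringEquiv k τ hτ χ g]
    obtain ⟨c, hc⟩ := isConj_iff.mp h
    have h1 : (χ : G → ℂ) (c * g ^ k * c⁻¹) = (χ : G → ℂ) (g ^ k) := irr_conj χ (g ^ k) c
    rw [hc] at h1
    exact h1.symm
  · intro h
    apply isConj_of_forall_irr_apply_eq
    intro χ
    rw [← apply_pow_of_ringEquiv k τ hτ χ g]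
    exact h _ ⟨χ, rfl⟩

/-- arithmetic: `2^(n-1) = 2 * 2^(n-2)` -/
theorem two_pow_pred (n : ℕ) (hn : 4 ≤ n) : 2 ^ (n - 1) = 2 * 2 ^ (n - 2) := by
  have : n - 1 = (n - 2) + 1 := by omega
  rw [this, pow_succ, mul_comm]

theorem two_pow_self (n : ℕ) (hn : 4 ≤ n) : 2 ^ n = 2 * 2 ^ (n - 1) := by
  have : n = (n - 1) + 1 := by omega
  conv_lhs => rw [this]
  rw [pow_succ, mul_comm]

theorem four_le_two_pow (n : ℕ) (hn : 4 ≤ n) : 4 ≤ 2 ^ (n - 2) := by
  have h : 2 ≤ n - 2 := by omega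
  calc 4 = 2 ^ 2 := by norm_num
    _ ≤ 2 ^ (n - 2) := Nat.pow_le_pow_right (by norm_num) h


/-- Step 1 of the converse: the fusion of `g` to its powers is read off from the field. -/
theorem fusion_of_field (P : Sylow 2 G) (n : ℕ) (hn : 4 ≤ n) (hP : Nat.card P = 2 ^ n) (ζ : ℂ)
    (hζ : IsPrimitiveRoot ζ (2 ^ (n - 1))) (g : G)
    (hF : IntermediateField.adjoin ℚ {z : ℂ | ∃ χ : IrrCharacter G, (χ : G → ℂ) g = z} =
        IntermediateField.adjoin ℚ ({ζ + ζ⁻¹} : Set ℂ) ∨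
      IntermediateField.adjoin ℚ {z : ℂ | ∃ χ : IrrCharacter G, (χ : G → ℂ) g = z} =
        IntermediateField.adjoin ℚ ({ζ - ζ⁻¹} : Set ℂ)) :
    ∃ k₀ : ℕ, (k₀ = 2 ^ (n - 1) - 1 ∨ k₀ = 2 ^ (n - 2) - 1) ∧
      ∀ k : ℕ, k.Coprime (Nat.card G) →
        (IsConj (g ^ k) g ↔ (k % 2 ^ (n - 1) = 1 ∨ k % 2 ^ (n - 1) = k₀)) := by
  have hcardpos : 0 < Nat.card G := Nat.card_pos
  have : NeZero (Nat.card G) := ⟨hcardpos.ne'⟩
  have hdvd : 2 ^ (n - 1) ∣ Nat.card G := by
    have h1 : 2 ^ (n - 1) ∣ 2 ^ n := pow_dvd_pow 2 (by omega)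
    have h2 : Nat.card P ∣ Nat.card G := Subgroup.card_subgroup_dvd_card (P : Subgroup G)
    rw [hP] at h2
    exact h1.trans h2
  have hζG : ζ ^ Nat.card G = 1 := by
    obtain ⟨c, hc⟩ := hdvd
    rw [hc, pow_mul, hζ.pow_eq_one, one_pow]
  rcases hF with hF | hF
  · refine ⟨2 ^ (n - 1) - 1, Or.inl rfl, fun k hk => ?_⟩
    obtain ⟨τ, hτ⟩ := exists_ringEquiv_complex_pow (Nat.card G) k hk
    rw [isConj_pow_iff_fix k τ hτ g, hF, ← forall_adjoin_iff]
    have hτζ : τ ζ = ζ ^ k := hτ ζ hζG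
    have h2 : 2 < 2 ^ (n - 1) := by
      have := four_le_two_pow n hn
      rw [two_pow_pred n hn]
      omega
    rw [← pow_add_inv_eq_iff (2 ^ (n - 1)) h2 ζ hζ k]
    constructor
    · intro h
      have := h (ζ + ζ⁻¹) rfl
      rwa [map_add, map_inv₀, hτζ] at this
    · intro h z hz
      rw [Set.mem_singleton_iff] at hz
      rw [hz, map_add, map_inv₀, hτζ]
      exact h
  · refine ⟨2 ^ (n - 2) - 1, Or.inr rfl, fun k hk => ?_⟩
    obtain ⟨τ, hτ⟩ := exists_ringEquiv_complex_pow (Nat.card G) k hk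
    rw [isConj_pow_iff_fix k τ hτ g, hF, ← forall_adjoin_iff]
    have hτζ : τ ζ = ζ ^ k := hτ ζ hζG
    have hm : 2 ≤ 2 ^ (n - 2) := by
      have := four_le_two_pow n hn
      omega
    have hζ' : IsPrimitiveRoot ζ (2 * 2 ^ (n - 2)) := by
      rw [← two_pow_pred n hn]; exact hζ
    rw [two_pow_pred n hn, ← pow_sub_inv_eq_iff (2 ^ (n - 2)) hm ζ hζ' k]
    constructor
    · intro h
      have := h (ζ - ζ⁻¹) rfl
      rwa [map_sub, map_inv₀, hτζ] at this
    · intro h z hz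
      rw [Set.mem_singleton_iff] at hz
      rw [hz, map_sub, map_inv₀, hτζ]
      exact h


/-- powers with exponents congruent modulo a multiple of the order agree -/
theorem pow_eq_pow_of_modEq {H : Type*} [Group H] (g : H) {a b d : ℕ} (hd : orderOf g ∣ d)
    (h : a ≡ b [MOD d]) : g ^ a = g ^ b := by
  rw [pow_eq_pow_iff_modEq]
  exact h.of_dvd hd

theorem orderOf_conj_local {H : Type*} [Group H] (c z : H) : orderOf (c * z * c⁻¹) = orderOf z := by
  have := orderOf_injective (MulAut.conj c).toMonoidHom (MulEquiv.injective _) z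
  simpa using this

/-- if every element of `P` commutes with `g` the class size of `g` is odd -/
theorem le_centralizer_absurd (P : Sylow 2 G) (g : G)
    (heven : 2 ∣ (Subgroup.centralizer ({g} : Set G)).index)
    (h : ∀ u ∈ (P : Subgroup G), u * g = g * u) : False := by
  apply not_two_dvd_index_centralizer P g _ heven
  intro u hu
  rw [Subgroup.mem_centralizer_iff]
  intro y hy
  rw [Set.mem_singleton_iff] at hy
  rw [hy]
  exact (h u hu).symm

/-- the converse for `n ≥ 4` -/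
theorem backward (P : Sylow 2 G) (n : ℕ) (hn : 4 ≤ n) (hP : Nat.card P = 2 ^ n) (ζ : ℂ)
    (hζ : IsPrimitiveRoot ζ (2 ^ (n - 1))) (g : G) (hgP : g ∈ (P : Subgroup G))
    (heven : 2 ∣ (Subgroup.centralizer ({g} : Set G)).index)
    (hF : IntermediateField.adjoin ℚ {z : ℂ | ∃ χ : IrrCharacter G, (χ : G → ℂ) g = z} =
        IntermediateField.adjoin ℚ ({ζ + ζ⁻¹} : Set ℂ) ∨
      IntermediateField.adjoin ℚ {z : ℂ | ∃ χ : IrrCharacter G, (χ : G → ℂ) g = z} =
        IntermediateField.adjoin ℚ ({ζ - ζ⁻¹} : Set ℂ)) :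
    (commutator ↥P).index = 4 := by
  classical
  have hP' : Nat.card (↥P) = 2 ^ n := hP
  obtain ⟨k₀, hk₀, hK⟩ := fusion_of_field P n hn hP ζ hζ g hF
  have hcardpos : 0 < Nat.card G := Nat.card_pos
  have hPdvd : 2 ^ n ∣ Nat.card G := by
    have h2 : Nat.card P ∣ Nat.card G := Subgroup.card_subgroup_dvd_card (P : Subgroup G)
    rwa [hP] at h2
  have h4 := four_le_two_pow n hn
  have hpred := two_pow_pred n hn
  have hself := two_pow_self n hn
  -- the order of `g`
  let g₀ : P := ⟨g, hgP⟩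
  have hord₀ : orderOf g₀ = orderOf g := Subgroup.orderOf_mk g hgP
  have hordn : orderOf g ∣ 2 ^ n := by
    rw [← hord₀, ← hP']
    exact orderOf_dvd_natCard g₀
  -- Step 2: the order does not divide `2^(n-2)`
  have hnot : ¬ orderOf g ∣ 2 ^ (n - 2) := by
    intro hdv
    have hodd : Nat.Coprime (1 + 2 ^ (n - 2)) (2 ^ n) := by
      apply Nat.Coprime.pow_right
      rw [Nat.coprime_two_right]
      have : Even (2 ^ (n - 2)) := (Nat.even_pow' (by omega)).mpr even_two
      exact Even.one_add this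
    obtain ⟨k, hkc, hkm⟩ := exists_coprime_lift (d := 2 ^ n) (N := Nat.card G)
      (k0 := 1 + 2 ^ (n - 2)) hcardpos hPdvd hodd
    have hgk : g ^ k = g := by
      rw [pow_eq_pow_of_modEq g hordn hkm, pow_add, pow_one]
      obtain ⟨c, hc⟩ := hdv
      rw [hc, pow_mul, pow_orderOf_eq_one, one_pow, mul_one]
    have hconj : IsConj (g ^ k) g := by rw [hgk]
    have hmod : k % 2 ^ (n - 1) = 1 + 2 ^ (n - 2) := by
      have h1 : k ≡ 1 + 2 ^ (n - 2) [MOD 2 ^ (n - 1)] :=
        hkm.of_dvd (pow_dvd_pow 2 (by omega))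
      rw [h1]
      apply Nat.mod_eq_of_lt
      omega
    rcases (hK k hkc).mp hconj with h | h
    · omega
    · rcases hk₀ with rfl | rfl <;> omega
  -- hence the order is `2^(n-1)` or `2^n`
  obtain ⟨m, hmn, hm⟩ := (Nat.dvd_prime_pow Nat.prime_two).mp hordn
  have hm1 : n - 1 ≤ m := by
    by_contra hlt
    push Not at hlt
    apply hnot
    rw [hm]
    exact pow_dvd_pow 2 (by omega)
  -- Step 3
  have hmne : m ≠ n := by
    rintro rfl
    -- `P` is generated by `g`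
    have htop : Subgroup.zpowers g₀ = ⊤ := by
      apply Subgroup.eq_top_of_card_eq
      rw [Nat.card_zpowers, hord₀, hm, hP']
    apply le_centralizer_absurd P g heven
    intro u hu
    have hmem : (⟨u, hu⟩ : P) ∈ Subgroup.zpowers g₀ := by rw [htop]; trivial
    obtain ⟨j, hj⟩ := Subgroup.mem_zpowers_iff.mp hmem
    have hj' : g ^ j = u := by
      have := congrArg Subtype.val hj
      simpa [g₀] using this
    rw [← hj']
    exact ((Commute.refl g).zpow_left j).eq
  have hm' : m = n - 1 := by omega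
  have hordg : orderOf g = 2 ^ (n - 1) := by rw [hm, hm']
  have hord₀' : orderOf g₀ = 2 ^ (n - 1) := by rw [hord₀, hordg]
  have hidx : (Subgroup.zpowers g₀).index = 2 := by
    have h1 := Subgroup.card_mul_index (Subgroup.zpowers g₀)
    rw [Nat.card_zpowers, hord₀', hP', hself] at h1
    have hpos : 0 < 2 ^ (n - 1) := by positivity
    nlinarith
  have hnormal : (Subgroup.zpowers g₀).Normal := Subgroup.normal_of_index_eq_two hidx
  have hne_top : Subgroup.zpowers g₀ ≠ ⊤ := by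
    intro h
    rw [h, Subgroup.index_top] at hidx
    omega
  obtain ⟨x₀, hx₀⟩ : ∃ x₀ : P, x₀ ∉ Subgroup.zpowers g₀ := by
    by_contra hcon
    push Not at hcon
    exact hne_top (Subgroup.eq_top_iff' _ |>.mpr hcon)
  have hcmem := hnormal.conj_mem g₀ (Subgroup.mem_zpowers g₀) x₀
  obtain ⟨j, hj⟩ := ((isOfFinOrder_of_finite g₀).mem_powers_iff_mem_zpowers).mpr hcmem
  -- `hj : g₀ ^ j = x₀ * g₀ * x₀⁻¹`
  have hj : g₀ ^ j = x₀ * g₀ * x₀⁻¹ := hj
  -- `j` is odd
  have hjcop : Nat.Coprime j (2 ^ n) := by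
    have ho : orderOf (g₀ ^ j) = orderOf g₀ := by
      rw [hj]
      exact orderOf_conj_local x₀ g₀
    rw [orderOf_pow' g₀ (by
      rintro rfl
      rw [pow_zero] at hj
      have : g₀ = 1 := by
        have h := hj.symm
        rw [mul_inv_eq_one] at h
        have h2 : x₀ * g₀ = x₀ * 1 := by rw [mul_one]; exact h
        exact mul_left_cancel h2
      rw [this, orderOf_one] at hord₀'
      have : 1 < 2 ^ (n - 1) := by omega
      omega)] at ho
    have hg1 : Nat.gcd (orderOf g₀) j = 1 := by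
      have hpos : 0 < orderOf g₀ := orderOf_pos g₀
      have hdvd := Nat.gcd_dvd_left (orderOf g₀) j
      obtain ⟨c, hc⟩ := hdvd
      have hgpos : 0 < Nat.gcd (orderOf g₀) j := Nat.gcd_pos_of_pos_left _ hpos
      rw [Nat.div_eq_iff_eq_mul_left hgpos (Nat.gcd_dvd_left _ _)] at ho
      nlinarith
    rw [hord₀'] at hg1
    have hodd : Nat.Coprime j 2 := by
      have h2 : (2 : ℕ) ∣ 2 ^ (n - 1) := dvd_pow_self 2 (by omega)
      exact Nat.Coprime.coprime_dvd_right h2 (Nat.coprime_comm.mp hg1)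
    exact Nat.Coprime.pow_right n hodd
  obtain ⟨k, hkc, hkm⟩ := exists_coprime_lift (d := 2 ^ n) (N := Nat.card G) (k0 := j)
    hcardpos hPdvd hjcop
  set x : G := (x₀ : G) with hx
  have hjG : g ^ j = x * g * x⁻¹ := by
    have := congrArg Subtype.val hj
    simpa [g₀] using this
  have hgk : g ^ k = x * g * x⁻¹ := by
    rw [pow_eq_pow_of_modEq g hordn hkm, hjG]
  have hconj : IsConj (g ^ k) g := by
    rw [hgk, isConj_iff]
    exact ⟨x⁻¹, by group⟩
  have hkmod : g ^ k = g ^ (k % 2 ^ (n - 1)) := by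
    rw [← hordg]
    exact (pow_mod_orderOf g k).symm
  -- elements of `P` outside `⟨g⟩` are in `⟨g⟩ x`
  have hcoset : ∀ u : P, u ∈ Subgroup.zpowers g₀ ∨ u * x₀⁻¹ ∈ Subgroup.zpowers g₀ := by
    intro u
    by_cases hu : u ∈ Subgroup.zpowers g₀
    · exact Or.inl hu
    · right
      rw [Subgroup.mul_mem_iff_of_index_two hidx]
      constructor
      · intro h; exact absurd h hu
      · intro h; exact absurd ((Subgroup.inv_mem_iff _).mp h) hx₀
  rcases (hK k hkc).mp hconj with h | h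
  · -- `x` centralizes `g`
    exfalso
    rw [h, pow_one] at hkmod
    have hxg : x * g = g * x := by
      have h1 : x * g * x⁻¹ = g := by rw [← hgk, hkmod]
      calc x * g = x * g * x⁻¹ * x := by group
        _ = g * x := by rw [h1]
    apply le_centralizer_absurd P g heven
    intro u hu
    rcases hcoset ⟨u, hu⟩ with hmem | hmem
    · obtain ⟨i, hi⟩ := Subgroup.mem_zpowers_iff.mp hmem
      have hi' : g ^ i = u := by
        have := congrArg Subtype.val hi
        simpa [g₀] using this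
      rw [← hi']
      exact ((Commute.refl g).zpow_left i).eq
    · obtain ⟨i, hi⟩ := Subgroup.mem_zpowers_iff.mp hmem
      have hi' : g ^ i = u * x⁻¹ := by
        have := congrArg Subtype.val hi
        simpa [g₀] using this
      have hu' : u = g ^ i * x := by rw [hi']; group
      rw [hu']
      have hc1 : Commute (g ^ i) g := (Commute.refl g).zpow_left i
      have hc2 : Commute x g := hxg
      exact (hc1.mul_left hc2).eq
  · -- `x g x⁻¹ = g ^ k₀`
    have hconj₀ : x₀ * g₀ * x₀⁻¹ = g₀ ^ k₀ := by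
      apply Subtype.ext
      have : x * g * x⁻¹ = g ^ k₀ := by rw [← hgk, hkmod, h]
      simpa [g₀] using this
    exact index_commutator_eq_four n hn hP' g₀ x₀ hord₀' hx₀ k₀ hk₀ hconj₀


/-- the forward direction for `n ≥ 4` -/
theorem forward (P : Sylow 2 G) (n : ℕ) (hn : 4 ≤ n) (hP : Nat.card P = 2 ^ n) (ζ : ℂ)
    (hζ : IsPrimitiveRoot ζ (2 ^ (n - 1))) (h4 : (commutator ↥P).index = 4) :
    ∃ g : G, g ∈ (P : Subgroup G) ∧ 2 ∣ (Subgroup.centralizer ({g} : Set G)).index ∧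
      (IntermediateField.adjoin ℚ {z : ℂ | ∃ χ : IrrCharacter G, (χ : G → ℂ) g = z} =
          IntermediateField.adjoin ℚ ({ζ + ζ⁻¹} : Set ℂ) ∨
        IntermediateField.adjoin ℚ {z : ℂ | ∃ χ : IrrCharacter G, (χ : G → ℂ) g = z} =
          IntermediateField.adjoin ℚ ({ζ - ζ⁻¹} : Set ℂ)) := by
  classical
  have hP' : Nat.card (↥P) = 2 ^ n := hP
  obtain ⟨g₀, x₀, k₀, hord₀, hx₀, hconj₀, hk₀⟩ := exists_gen_of_index_four n hn hP' h4
  have h4' := four_le_two_pow n hn
  have hpred := two_pow_pred n hn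
  have hself := two_pow_self n hn
  have hcardpos : 0 < Nat.card G := Nat.card_pos
  have hPdvd : 2 ^ n ∣ Nat.card G := by
    have h2 : Nat.card P ∣ Nat.card G := Subgroup.card_subgroup_dvd_card (P : Subgroup G)
    rwa [hP] at h2
  have hpred2 : 2 ^ (n - 2) = 2 * 2 ^ (n - 3) := by
    have : n - 2 = (n - 3) + 1 := by omega
    rw [this, pow_succ, mul_comm]
  have hpos3 : 0 < 2 ^ (n - 3) := by positivity
  set g : G := (g₀ : G) with hg
  set x : G := (x₀ : G) with hx
  have hgP : g ∈ (P : Subgroup G) := g₀.2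
  have hordg : orderOf g = 2 ^ (n - 1) := by
    rw [← hord₀]
    exact Subgroup.orderOf_coe g₀
  have hordn : orderOf g ∣ 2 ^ n := by
    rw [hordg]
    exact pow_dvd_pow 2 (by omega)
  have hk₀lt : k₀ < 2 ^ (n - 1) := by rcases hk₀ with rfl | rfl <;> omega
  have hk₀ne : k₀ ≠ 1 := by rcases hk₀ with rfl | rfl <;> omega
  have hk₀odd : Nat.Coprime k₀ 2 := by
    rw [Nat.coprime_two_right]
    rcases hk₀ with rfl | rfl
    · exact ⟨2 ^ (n - 2) - 1, by omega⟩
    · exact ⟨2 ^ (n - 3) - 1, by omega⟩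
  have hconjG : x * g * x⁻¹ = g ^ k₀ := by
    have := congrArg Subtype.val hconj₀
    simpa using this
  have hpow_inj : ∀ a b : ℕ, a < 2 ^ (n - 1) → b < 2 ^ (n - 1) → g ^ a = g ^ b → a = b := by
    intro a b ha hb h
    rw [pow_eq_pow_iff_modEq, hordg] at h
    exact Nat.ModEq.eq_of_lt_of_lt h ha hb
  have hnab : ¬ ∀ a b : P, a * b = b * a := by
    intro hab
    have h1 : x₀ * g₀ * x₀⁻¹ = g₀ := by rw [hab x₀ g₀]; group
    have h2 : g ^ k₀ = g ^ 1 := by
      rw [← hconjG, pow_one]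
      have := congrArg Subtype.val h1
      simpa using this
    exact hk₀ne (hpow_inj k₀ 1 hk₀lt (by omega) h2)
  have heven : 2 ∣ (Subgroup.centralizer ({g} : Set G)).index :=
    two_dvd_index_centralizer P n hP g hgP hordg hnab
  have hidx : (Subgroup.zpowers g₀).index = 2 := by
    have h1 := Subgroup.card_mul_index (Subgroup.zpowers g₀)
    rw [Nat.card_zpowers, hord₀, hP', hself] at h1
    have hpos : 0 < 2 ^ (n - 1) := by positivity
    nlinarith
  have hnormal : (Subgroup.zpowers g₀).Normal := Subgroup.normal_of_index_eq_two hidx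
  have hnorm : ∀ u ∈ (P : Subgroup G), u * g * u⁻¹ ∈ Subgroup.zpowers g := by
    intro u hu
    have hc := hnormal.conj_mem g₀ (Subgroup.mem_zpowers g₀) ⟨u, hu⟩
    obtain ⟨i, hi⟩ := Subgroup.mem_zpowers_iff.mp hc
    refine Subgroup.mem_zpowers_iff.mpr ⟨i, ?_⟩
    have := congrArg Subtype.val hi
    simpa using this
  have hcoset : ∀ u : P, u ∈ Subgroup.zpowers g₀ ∨ u * x₀⁻¹ ∈ Subgroup.zpowers g₀ := by
    intro u
    by_cases hu : u ∈ Subgroup.zpowers g₀
    · exact Or.inl hu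
    · right
      rw [Subgroup.mul_mem_iff_of_index_two hidx]
      constructor
      · intro h; exact absurd h hu
      · intro h; exact absurd ((Subgroup.inv_mem_iff _).mp h) hx₀
  have hfus : ∀ k, k < 2 ^ (n - 1) → IsConj (g ^ k) g → k = 1 ∨ k = k₀ := by
    intro k hk hc
    obtain ⟨c, hc⟩ := isConj_iff.mp hc
    have hy : c⁻¹ * g * c⁻¹⁻¹ = g ^ k := by
      calc c⁻¹ * g * c⁻¹⁻¹ = c⁻¹ * (c * g ^ k * c⁻¹) * c⁻¹⁻¹ := by rw [hc]
        _ = g ^ k := by group
    obtain ⟨u, hu, huc⟩ := exists_mem_sylow_conj P g hgP hnorm c⁻¹ k hy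
    rcases hcoset ⟨u, hu⟩ with hmem | hmem
    · left
      obtain ⟨i, hi⟩ := Subgroup.mem_zpowers_iff.mp hmem
      have hi' : g ^ i = u := by
        have := congrArg Subtype.val hi
        simpa using this
      have hcomm : u * g * u⁻¹ = g := by
        rw [← hi']
        have := ((Commute.refl g).zpow_left i).eq
        rw [this]; group
      apply hpow_inj k 1 hk (by omega)
      rw [pow_one, ← huc, hcomm]
    · right
      obtain ⟨i, hi⟩ := Subgroup.mem_zpowers_iff.mp hmem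
      have hi' : g ^ i = u * x⁻¹ := by
        have := congrArg Subtype.val hi
        simpa using this
      have hu' : u = g ^ i * x := by rw [hi']; group
      apply hpow_inj k k₀ hk hk₀lt
      rw [← huc, hu']
      calc g ^ i * x * g * (g ^ i * x)⁻¹ = g ^ i * (x * g * x⁻¹) * (g ^ i)⁻¹ := by group
        _ = g ^ i * g ^ k₀ * (g ^ i)⁻¹ := by rw [hconjG]
        _ = g ^ k₀ := by
            have : Commute (g ^ i) (g ^ k₀) := ((Commute.refl g).zpow_left i).pow_right k₀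
            rw [this.eq]; group
  have hs : ∀ k, k ∈ ({1, k₀} : Finset ℕ) ↔ k < orderOf g ∧ IsConj (g ^ k) g := by
    intro k
    rw [hordg]
    simp only [Finset.mem_insert, Finset.mem_singleton]
    constructor
    · rintro (rfl | rfl)
      · refine ⟨by omega, ?_⟩
        rw [pow_one]
      · refine ⟨hk₀lt, ?_⟩
        rw [← hconjG, isConj_iff]
        exact ⟨x⁻¹, by group⟩
    · rintro ⟨hk, hc⟩
      exact hfus k hk hc
  have hζord : ζ ^ orderOf g = 1 := by rw [hordg]; exact hζ.pow_eq_one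
  have hmem := sum_pow_mem_adjoin g ζ hζord {1, k₀} hs
  rw [Finset.sum_pair (Ne.symm hk₀ne), pow_one] at hmem
  -- the automorphism
  have hk₀cop : Nat.Coprime k₀ (2 ^ n) := Nat.Coprime.pow_right n hk₀odd
  obtain ⟨k', hk'c, hk'm⟩ := exists_coprime_lift (d := 2 ^ n) (N := Nat.card G) (k0 := k₀)
    hcardpos hPdvd hk₀cop
  obtain ⟨τ, hτ⟩ := exists_ringEquiv_complex_pow (Nat.card G) k' hk'c
  have hζG : ζ ^ Nat.card G = 1 := by
    have hdvd : 2 ^ (n - 1) ∣ Nat.card G := (pow_dvd_pow 2 (by omega)).trans hPdvd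
    obtain ⟨c, hc⟩ := hdvd
    rw [hc, pow_mul, hζ.pow_eq_one, one_pow]
  have hτζ : τ ζ = ζ ^ k₀ := by
    rw [hτ ζ hζG]
    have h1 : k' ≡ k₀ [MOD 2 ^ (n - 1)] := hk'm.of_dvd (pow_dvd_pow 2 (by omega))
    rw [pow_eq_pow_mod k' hζ.pow_eq_one, pow_eq_pow_mod k₀ hζ.pow_eq_one]
    congr 1
  have hfixχ : ∀ χ : IrrCharacter G, τ ((χ : G → ℂ) g) = (χ : G → ℂ) g := by
    intro χ
    rw [apply_pow_of_ringEquiv k' τ hτ χ g, pow_eq_pow_of_modEq g hordn hk'm, ← hconjG]
    exact irr_conj χ g x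
  have hζ0 : ζ ≠ 0 := hζ.ne_zero (by positivity)
  have hζsq1 : ζ ^ 2 ≠ 1 := by
    intro h
    have h1 := hζ.dvd_of_pow_eq_one 2 h
    have h2 := Nat.le_of_dvd (by norm_num) h1
    omega
  have hζsqm1 : ζ ^ 2 ≠ -1 := by
    intro h
    have h4 : ζ ^ 4 = 1 := by
      have : ζ ^ 4 = (ζ ^ 2) ^ 2 := by ring
      rw [this, h]; norm_num
    have h1 := hζ.dvd_of_pow_eq_one 4 h4
    have h2 := Nat.le_of_dvd (by norm_num) h1
    omega
  have hgN : g ^ 2 ^ (n - 1) = 1 := by rw [← hordg]; exact pow_orderOf_eq_one g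
  refine ⟨g, hgP, heven, ?_⟩
  rcases hk₀ with hk | hk
  · left
    have hzk : ζ ^ k₀ = ζ⁻¹ := by
      apply eq_inv_of_mul_eq_one_left
      rw [← pow_succ, hk]
      have : 2 ^ (n - 1) - 1 + 1 = 2 ^ (n - 1) := by omega
      rw [this]; exact hζ.pow_eq_one
    rw [hzk] at hmem hτζ
    apply le_antisymm
    · rw [IntermediateField.adjoin_le_iff]
      rintro z ⟨χ, rfl⟩
      obtain ⟨ι, _, a, ha⟩ := exists_pow_sum g (2 ^ (n - 1)) (by positivity) hgN ζ hζ χ
      rw [SetLike.mem_coe, ha]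
      apply mem_adjoin_add_of_fixed ζ hζ0 hζsq1 τ hτζ a
      rw [← ha]; exact hfixχ χ
    · rw [IntermediateField.adjoin_le_iff]
      intro z hz
      rw [Set.mem_singleton_iff] at hz
      rw [hz]; exact hmem
  · right
    have hneg : ζ ^ 2 ^ (n - 2) = -1 := by
      have hp : IsPrimitiveRoot (ζ ^ 2 ^ (n - 2)) 2 :=
        hζ.pow (by positivity) (by rw [hpred]; ring)
      exact hp.eq_neg_one_of_two_right
    have hzk : ζ ^ k₀ = -ζ⁻¹ := by
      have h1 : ζ ^ k₀ * ζ = -1 := by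
        rw [← pow_succ, hk]
        have : 2 ^ (n - 2) - 1 + 1 = 2 ^ (n - 2) := by omega
        rw [this]; exact hneg
      have h2 : ζ ^ k₀ = (ζ ^ k₀ * ζ) * ζ⁻¹ := by
        rw [mul_assoc, mul_inv_cancel₀ hζ0, mul_one]
      rw [h2, h1, neg_one_mul]
    rw [hzk] at hmem hτζ
    rw [← sub_eq_add_neg] at hmem
    apply le_antisymm
    · rw [IntermediateField.adjoin_le_iff]
      rintro z ⟨χ, rfl⟩
      obtain ⟨ι, _, a, ha⟩ := exists_pow_sum g (2 ^ (n - 1)) (by positivity) hgN ζ hζ χ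
      rw [SetLike.mem_coe, ha]
      apply mem_adjoin_sub_of_fixed ζ hζ0 hζsqm1 τ hτζ a
      rw [← ha]; exact hfixχ χ
    · rw [IntermediateField.adjoin_le_iff]
      intro z hz
      rw [Set.mem_singleton_iff] at hz
      rw [hz]; exact hmem

end Cfsg.Agent.Lib.Helper17.MCF
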