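import Mathlib
import Cfsg.Prelude.Def_Local
import Cfsg.Agent.Lib.Helper26.MixDefs
import Cfsg.Agent.Lib.Helper8.AbInvA

/-!
# S4017 leaf MIX-QUOT (helper17): `hyp_quotient`

The quotient of the critical configuration by a central normal `p`-subgroup inherits the hypotheses.
-/

set_option autoImplicit false

namespace Cfsg.Agent.Lib.Helper17.MIXQUOT

open Cfsg Cfsg.Agent.Lib.Helper26.Mix

universe u

section ctx

variable {G : Type u} [Group G] [Finite G] {p a : ℕ} {Q : Subgroup G} {g : G}

/-- `g` is not central -/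
theorem g_not_central (c : Ctx G p a Q g) : g ∉ Subgroup.center G := by
  classical
  intro hg
  let _ : Fintype Q := Fintype.ofFinite _
  have h4 : 4 ≤ 2 ^ a := by
    calc 4 = 2 ^ 2 := by norm_num
      _ ≤ 2 ^ a := Nat.pow_le_pow_right (by norm_num) c.ha
  have hcard : 2 < Fintype.card Q := by
    rw [← Nat.card_eq_fintype_card, c.hQcard]
    omega
  obtain ⟨x, y, z, hxy, hxz, hyz⟩ := Fintype.two_lt_card_iff.mp hcard
  -- two distinct non-identity elements
  have key : ∀ u v : Q, u ≠ v → u ≠ 1 → v ≠ 1 → False := by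
    intro u v huv hu hv
    have hu' : (u : G) ≠ 1 := fun h => hu (Subtype.ext h)
    have hv' : (v : G) ≠ 1 := fun h => hv (Subtype.ext h)
    obtain ⟨i, hi⟩ := c.htrans u u.2 hu' v v.2 hv'
    have hgi : g ^ i ∈ Subgroup.center G := Subgroup.pow_mem _ hg i
    have hcomm : g ^ i * (u : G) = (u : G) * g ^ i := (Subgroup.mem_center_iff.mp hgi (u : G)).symm
    rw [hcomm, mul_inv_cancel_right] at hi
    exact huv (Subtype.ext hi)
  by_cases hx : x = 1
  · have hy : y ≠ 1 := fun h => hxy (by rw [hx, h])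
    have hz : z ≠ 1 := fun h => hxz (by rw [hx, h])
    exact key y z hyz hy hz
  · by_cases hy : y = 1
    · have hz : z ≠ 1 := fun h => hyz (by rw [hy, h])
      exact key x z hxz hx hz
    · exact key x y hxy hx hy

/-- QUOT : the quotient by a central normal `p`-subgroup inherits the hypotheses (and a third prime). -/
theorem hyp_quotient (c : Ctx G p a Q g) (hthird : Third G p 2) (N : Subgroup G) [N.Normal]
    (hNp : IsPGroup p ↥N) (hNc : N ≤ Subgroup.center G) :
    Hyp (G ⧸ N) p 2 ∧ Third (G ⧸ N) p 2 := by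
  have hp : p.Prime := c.hp
  have hpf : Fact p.Prime := ⟨hp⟩
  have h2f : Fact (Nat.Prime 2) := ⟨Nat.prime_two⟩
  obtain ⟨n, hn⟩ := IsPGroup.iff_card.mp hNp
  have hcardG : Nat.card G = Nat.card (G ⧸ N) * p ^ n := by
    rw [← hn]; exact Subgroup.card_eq_card_quotient_mul_card_subgroup N
  have hsurj : Function.Surjective (QuotientGroup.mk' N) := QuotientGroup.mk'_surjective N
  have hcop : ∀ r : ℕ, r.Prime → r ≠ p → Nat.Coprime r (p ^ n) := fun r hr hrp =>
    Nat.Coprime.pow_right n ((Nat.coprime_primes hr hp).mpr hrp)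
  have hquot_dvd : ∀ r : ℕ, r.Prime → r ≠ p → r ∣ Nat.card G → r ∣ Nat.card (G ⧸ N) := by
    intro r hr hrp hrG
    rw [hcardG] at hrG
    exact (hcop r hr hrp).dvd_of_dvd_mul_right hrG
  have h2G : 2 ∣ Nat.card G := by
    have h1 : Nat.card Q ∣ Nat.card G := Subgroup.card_subgroup_dvd_card Q
    rw [c.hQcard] at h1
    exact dvd_trans (dvd_pow_self 2 (by have := c.ha; omega)) h1
  have hcardQuot : Nat.card (G ⧸ N) ≠ 0 := Nat.card_pos.ne'
  constructor
  · refine ⟨hp, Nat.prime_two, c.hp2, c.hp2, ?_, hquot_dvd 2 Nat.prime_two (Ne.symm c.hp2) h2G,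
      ?_, ?_⟩
    · -- `p ∣ |G / N|`
      by_contra hnd
      apply g_not_central c
      apply hNc
      obtain ⟨k, hk⟩ := c.hgp
      have h1 : ((g : G) : G ⧸ N) ^ p ^ k = 1 := by
        rw [← QuotientGroup.mk_pow, hk, QuotientGroup.mk_one]
      have h2 : orderOf ((g : G) : G ⧸ N) ∣ p ^ k := orderOf_dvd_of_pow_eq_one h1
      have h3 : orderOf ((g : G) : G ⧸ N) ∣ Nat.card (G ⧸ N) := orderOf_dvd_natCard _
      have h4 : Nat.Coprime (p ^ k) (Nat.card (G ⧸ N)) :=
        Nat.Coprime.pow_left k ((Nat.Prime.coprime_iff_not_dvd hp).mpr hnd)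
      have h5 : orderOf ((g : G) : G ⧸ N) = 1 := Nat.eq_one_of_dvd_coprimes h4 h2 h3
      have h6 : ((g : G) : G ⧸ N) = 1 := orderOf_eq_one_iff.mp h5
      exact (QuotientGroup.eq_one_iff g).mp h6
    · -- hmix
      intro H hH hH2 h2H
      -- an odd prime divisor of `|H|`
      obtain ⟨s, hs, hsH, hs2⟩ : ∃ s : ℕ, s.Prime ∧ s ∣ Nat.card H ∧ s ≠ 2 := by
        by_contra hcon
        push Not at hcon
        apply hH2
        have hcardH : Nat.card H ≠ 0 := Nat.card_pos.ne'
        have := Nat.eq_prime_pow_of_unique_prime_dvd (p := 2) hcardH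
          (fun {d} hd hdH => hcon d hd hdH)
        exact IsPGroup.of_card this
      set H' : Subgroup G := H.comap (QuotientGroup.mk' N) with hH'
      have hmap : H'.map (QuotientGroup.mk' N) = H :=
        Subgroup.map_comap_eq_self_of_surjective hsurj H
      have hdvd : Nat.card H ∣ Nat.card H' := by
        have := Subgroup.card_map_dvd H' (QuotientGroup.mk' N)
        rwa [hmap] at this
      have hne : H' ≠ ⊤ := by
        intro htop
        apply hH
        have : H.comap (QuotientGroup.mk' N) = (⊤ : Subgroup (G ⧸ N)).comap (QuotientGroup.mk' N) := by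
          rw [Subgroup.comap_top]; exact htop
        exact Subgroup.comap_injective hsurj this
      rcases c.hstar H' hne (dvd_trans h2H hdvd) s hs (dvd_trans hsH hdvd) with h | h
      · exact absurd h hs2
      · rw [← h]; exact hsH
    · -- hlarge
      right
      have hfact : (Nat.card (G ⧸ N)).factorization 2 = a := by
        have h1 := c.hQsyl
        rw [hcardG, Nat.factorization_mul hcardQuot (pow_ne_zero _ hp.ne_zero), Finsupp.add_apply,
          Nat.factorization_pow, Finsupp.smul_apply,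
          Nat.factorization_eq_zero_of_not_dvd (fun h => c.hp2
            ((Nat.prime_dvd_prime_iff_eq Nat.prime_two hp).mp h).symm), smul_zero, add_zero] at h1
        exact h1
      refine ⟨by rw [hfact]; have := c.hpa; omega, ?_⟩
      intro P
      have hS : IsPGroup p ↥((P : Subgroup (G ⧸ N)).comap (QuotientGroup.mk' N)) := by
        apply P.isPGroup'.comap_of_ker_isPGroup
        rw [QuotientGroup.ker_mk']
        exact hNp
      have hab := c.hab _ hS
      refine ⟨⟨fun x y => ?_⟩⟩
      obtain ⟨x', hx'⟩ := hsurj (x : G ⧸ N)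
      obtain ⟨y', hy'⟩ := hsurj (y : G ⧸ N)
      have hxm : x' ∈ (P : Subgroup (G ⧸ N)).comap (QuotientGroup.mk' N) := by
        rw [Subgroup.mem_comap, hx']; exact x.2
      have hym : y' ∈ (P : Subgroup (G ⧸ N)).comap (QuotientGroup.mk' N) := by
        rw [Subgroup.mem_comap, hy']; exact y.2
      have h1 := hab x' hxm y' hym
      apply Subtype.ext
      show (x : G ⧸ N) * (y : G ⧸ N) = (y : G ⧸ N) * (x : G ⧸ N)
      rw [← hx', ← hy', ← map_mul, ← map_mul, h1]
  · obtain ⟨r, hr, hrG, hrp, hr2⟩ := hthird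
    exact ⟨r, hr, hquot_dvd r hr hrp hrG, hrp, hr2⟩

end ctx

end Cfsg.Agent.Lib.Helper17.MIXQUOT
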