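/-
helper17: S4017 leaf MIX-LEMA `no_commuting_pair` (planner helper26, notes/S4017_leaves.lean).
`P0Triv G Q` of the notes file is stated unfolded here (definitionally equal).
-/
import Mathlib
import Cfsg.Prelude.Def_Local
import Cfsg.Agent.Lib.Helper26.MixDefs
import Cfsg.Agent.Lib.Helper9.MIXSTRUCTa
import Cfsg.Agent.Lib.Helper12.MIXNC
import Cfsg.Agent.Lib.Helper12.MIXFIXED
import Cfsg.Agent.Lib.Helper23.MIXINV
import Cfsg.Agent.Lib.Helper23.MIXGCENT
import Cfsg.Agent.Lib.Helper2.MIXCORECONJ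
import Cfsg.Agent.Lib.Helper2.MIXCORELE
import Cfsg.Agent.Lib.Helper17.MIXQUOT

set_option autoImplicit false
set_option linter.unusedSectionVars false

namespace Cfsg.Agent.Lib.Helper17.MIXLEMA

open Cfsg Cfsg.Agent.Lib.Helper26.Mix

universe u

variable {G : Type u} [Group G] [Finite G] {p a : ℕ} {Q : Subgroup G} {g : G}

/-- STRUCT, assembled from helper9's `_of` form and helper12's NC. -/
theorem cent_structure' (c : Ctx G p a Q g) (t : G) (ht : t ∈ Q) (ht1 : t ≠ 1) :
    IsPGroup p ↥(centralizerPPrimeCore 2 t) ∧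
    (∀ x ∈ Subgroup.centralizer ({t} : Set G),
      ∃ w ∈ centralizerPPrimeCore 2 t, ∃ u ∈ Q, x = w * u) ∧
    (∀ x ∈ Subgroup.centralizer ({t} : Set G), Odd (orderOf x) → x ∈ centralizerPPrimeCore 2 t) :=
  Cfsg.Agent.Lib.Helper9.MIXSTRUCTa.cent_structure_of c t ht ht1
    (fun x hx hxN => Cfsg.Agent.Lib.Helper12.MIXNC.normalizer_le_centralizer c t ht ht1 x hx hxN)

/-- elements of `θ t` have odd order -/
theorem odd_orderOf_of_mem_core (t w : G) (hw : w ∈ centralizerPPrimeCore 2 t) :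
    Odd (orderOf w) := by
  have h1 : orderOf w ∣ Nat.card ↥(centralizerPPrimeCore 2 t) :=
    Subgroup.orderOf_dvd_natCard _ hw
  exact Odd.of_dvd_nat (Cfsg.Agent.Lib.Helper2.MIXCORELE.core_basic t).2.2 h1

/-- an element of odd order which is its own inverse is trivial -/
theorem eq_one_of_odd_of_inv {w : G} (hodd : Odd (orderOf w)) (hinv : w = w⁻¹) : w = 1 := by
  have h2 : w ^ 2 = 1 := by
    rw [pow_two]
    nth_rewrite 2 [hinv]
    exact mul_inv_cancel w
  have hd : orderOf w ∣ 2 := orderOf_dvd_of_pow_eq_one h2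
  have h1 : orderOf w = 1 := by
    rcases (Nat.dvd_prime Nat.prime_two).mp hd with h | h
    · exact h
    · rw [h] at hodd; exact absurd hodd (by decide)
  exact orderOf_eq_one_iff.mp h1

/-- the four-group: `Q = {1, u, u', u u'}` -/
theorem mem_four (c : Ctx G p a Q g) (ha2 : a = 2) (u : G) (hu : u ∈ Q) (hu1 : u ≠ 1)
    (u' : G) (hu' : u' ∈ Q) (hu'1 : u' ≠ 1) (huu' : u ≠ u') (x : G) (hx : x ∈ Q) :
    x = 1 ∨ x = u ∨ x = u' ∨ x = u * u' := by
  classical
  by_contra hcon
  push Not at hcon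
  obtain ⟨hx1, hxu, hxu', hxuu'⟩ := hcon
  have huu : u * u = 1 := c.hQexp u hu
  have hu'u' : u' * u' = 1 := c.hQexp u' hu'
  have hn1 : u * u' ≠ 1 := by
    intro h
    apply huu'
    have : u * u' = u * u := by rw [h, huu]
    exact (mul_left_cancel this).symm
  have hn2 : u * u' ≠ u := by
    intro h
    apply hu'1
    have : u * u' = u * 1 := by rw [h, mul_one]
    exact mul_left_cancel this
  have hn3 : u * u' ≠ u' := by
    intro h
    apply hu1
    have : u * u' = 1 * u' := by rw [h, one_mul]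
    exact mul_right_cancel this
  let S : Finset G := {x, 1, u, u', u * u'}
  have hScard : S.card = 5 := by
    simp only [S]
    rw [Finset.card_insert_of_notMem, Finset.card_insert_of_notMem, Finset.card_insert_of_notMem,
      Finset.card_insert_of_notMem, Finset.card_singleton]
    · simp only [Finset.mem_singleton]; exact fun h => hn3 h.symm
    · simp only [Finset.mem_insert, Finset.mem_singleton]
      rintro (h | h)
      · exact huu' h
      · exact hn2 h.symm
    · simp only [Finset.mem_insert, Finset.mem_singleton]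
      rintro (h | h | h)
      · exact hu1 h.symm
      · exact hu'1 h.symm
      · exact hn1 h.symm
    · simp only [Finset.mem_insert, Finset.mem_singleton]
      rintro (h | h | h | h)
      · exact hx1 h
      · exact hxu h
      · exact hxu' h
      · exact hxuu' h
  have hsub : (S : Set G) ⊆ (Q : Set G) := by
    intro v hv
    simp only [S, Finset.coe_insert, Finset.coe_singleton, Set.mem_insert_iff,
      Set.mem_singleton_iff] at hv
    rcases hv with rfl | rfl | rfl | rfl | rfl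
    · exact hx
    · exact Q.one_mem
    · exact hu
    · exact hu'
    · exact Q.mul_mem hu hu'
  have h1 : (S : Set G).ncard ≤ (Q : Set G).ncard := Set.ncard_le_ncard hsub (Set.toFinite _)
  rw [Set.ncard_coe_finset, hScard] at h1
  have h2 : (Q : Set G).ncard = Nat.card Q := (Nat.card_coe_set_eq (Q : Set G)).symm
  rw [h2, c.hQcard, ha2] at h1
  norm_num at h1

/-- Lemma A : for `1 ≠ y ∈ θ t` (with `C_{θ t}(Q) = 1`) the elements of odd order of `C_G(y)` lie in a
`p`-subgroup. -/
theorem exists_pgroup_of_comm (c : Ctx G p a Q g) (hsimple : Simple G) (ha2 : a = 2)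
    (h0 : ∀ t ∈ Q, t ≠ 1 → ∀ z ∈ centralizerPPrimeCore 2 t, (∀ u ∈ Q, z * u = u * z) → z = 1)
    (t : G) (ht : t ∈ Q) (ht1 : t ≠ 1) (y : G) (hy : y ∈ centralizerPPrimeCore 2 t) (hy1 : y ≠ 1) :
    ∃ R : Subgroup G, IsPGroup p ↥R ∧ ∀ x : G, x * y = y * x → Odd (orderOf x) → x ∈ R := by
  have hF2 : Fact (Nat.Prime 2) := ⟨Nat.prime_two⟩
  have hFp : Fact p.Prime := ⟨c.hp⟩
  obtain ⟨hθp, hθdec, hθodd⟩ := cent_structure' c t ht ht1
  have hθab := c.hab _ hθp
  have hyodd : Odd (orderOf y) := odd_orderOf_of_mem_core t y hy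
  have hθle := (Cfsg.Agent.Lib.Helper2.MIXCORELE.core_basic t).1
  set X : Subgroup G := Subgroup.centralizer ({y} : Set G) with hX
  -- `X` is proper
  have hXne : X ≠ ⊤ := by
    intro htop
    have hyc : y ∈ Subgroup.center G := by
      have := Subgroup.centralizer_eq_top_iff_subset.mp htop
      exact this (Set.mem_singleton y)
    rcases hsimple (Subgroup.center G) inferInstance with h | h
    · rw [h, Subgroup.mem_bot] at hyc
      exact hy1 hyc
    · apply Cfsg.Agent.Lib.Helper17.MIXQUOT.g_not_central c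
      rw [h]; exact Subgroup.mem_top _
  have hty : t * y = y * t := by
    have := Subgroup.mem_centralizer_singleton_iff.mp (hθle hy)
    exact this.symm
  have htX : t ∈ X := by
    rw [hX, Subgroup.mem_centralizer_singleton_iff]; exact hty
  have hot : orderOf t = 2 := by
    apply orderOf_eq_prime
    · rw [pow_two]; exact c.hQexp t ht
    · exact ht1
  have h2X : 2 ∣ Nat.card X := by
    rw [← hot]; exact Subgroup.orderOf_dvd_natCard _ htX
  have hprimes := c.hstar X hXne h2X
  -- the Sylow `2`-subgroup of `X` containing `t`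
  let tX : ↥X := ⟨t, htX⟩
  have hotX : orderOf tX = 2 := by
    rw [← hot]; exact Subgroup.orderOf_mk t htX
  have hzp : IsPGroup 2 ↥(Subgroup.zpowers tX) := by
    apply IsPGroup.of_card (n := 1)
    rw [Nat.card_zpowers, hotX, pow_one]
  obtain ⟨P, hPle⟩ := hzp.exists_le_sylow
  have htP : tX ∈ (P : Subgroup ↥X) := hPle (Subgroup.mem_zpowers tX)
  -- `P` is abelian
  have hPcomm : ∀ v ∈ (P : Subgroup ↥X), ∀ w ∈ (P : Subgroup ↥X), v * w = w * v := by
    have hcardP : Nat.card ↥(P : Subgroup ↥X) = 2 ^ (Nat.card ↥X).factorization 2 :=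
      P.card_eq_multiplicity
    have hle2 : (Nat.card ↥X).factorization 2 ≤ 2 := by
      have hG2 : (Nat.card G).factorization 2 = 2 := by rw [c.hQsyl, ha2]
      have hdvd : Nat.card X ∣ Nat.card G := Subgroup.card_subgroup_dvd_card X
      have := (Nat.factorization_le_iff_dvd Nat.card_pos.ne' Nat.card_pos.ne').mpr hdvd 2
      omega
    have hcases : (Nat.card ↥X).factorization 2 = 0 ∨ (Nat.card ↥X).factorization 2 = 1 ∨
        (Nat.card ↥X).factorization 2 = 2 := by omega
    rcases hcases with h | h | h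
    · rw [h, pow_zero] at hcardP
      have hsub : Subsingleton ↥(P : Subgroup ↥X) := (Nat.card_eq_one_iff_unique.mp hcardP).1
      intro v hv w hw
      have : (⟨v, hv⟩ : ↥(P : Subgroup ↥X)) = ⟨w, hw⟩ := Subsingleton.elim _ _
      have hvw : v = w := congrArg Subtype.val this
      rw [hvw]
    · rw [h, pow_one] at hcardP
      have hcyc : IsCyclic ↥(P : Subgroup ↥X) := isCyclic_of_prime_card hcardP
      intro v hv w hw
      have hcm : IsMulCommutative ↥(P : Subgroup ↥X) := IsCyclic.isMulCommutative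
      have := isMulCommutative_iff.mp hcm ⟨v, hv⟩ ⟨w, hw⟩
      exact congrArg Subtype.val this
    · rw [h] at hcardP
      intro v hv w hw
      have hcm : IsMulCommutative ↥(P : Subgroup ↥X) :=
        IsPGroup.isMulCommutative_of_card_eq_prime_sq hcardP
      have := isMulCommutative_iff.mp hcm ⟨v, hv⟩ ⟨w, hw⟩
      exact congrArg Subtype.val this
  -- `P = {1, t}`
  have hPelts : ∀ v ∈ (P : Subgroup ↥X), ((v : ↥X) : G) = 1 ∨ ((v : ↥X) : G) = t := by
    intro v hv
    have hvt : v * tX = tX * v := hPcomm v hv tX htP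
    have hvt' : (v : G) * t = t * (v : G) := congrArg Subtype.val hvt
    have hvC : (v : G) ∈ Subgroup.centralizer ({t} : Set G) := by
      rw [Subgroup.mem_centralizer_singleton_iff]; exact hvt'
    obtain ⟨w, hw, u, hu, hvwu⟩ := hθdec (v : G) hvC
    have hvy : (v : G) * y = y * (v : G) := Subgroup.mem_centralizer_singleton_iff.mp v.2
    have hwy : w * y = y * w := hθab w hw y hy
    have huy : u * y = y * u := by
      have hu_eq : u = w⁻¹ * (v : G) := by rw [hvwu]; group
      rw [hu_eq]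
      calc w⁻¹ * (v : G) * y = w⁻¹ * (y * (v : G)) := by rw [mul_assoc, hvy]
        _ = w⁻¹ * (y * w) * (w⁻¹ * (v : G)) := by group
        _ = w⁻¹ * (w * y) * (w⁻¹ * (v : G)) := by rw [hwy]
        _ = y * (w⁻¹ * (v : G)) := by group
    have hu1t : u = 1 ∨ u = t := by
      by_contra hcon
      push Not at hcon
      have hinv := Cfsg.Agent.Lib.Helper23.MIXINV.inverts_of_P0Triv c ha2 h0 t ht ht1 u hu hcon.1
        hcon.2 y hy
      have : y = y⁻¹ := by
        rw [← hinv, huy, mul_assoc, mul_inv_cancel, mul_one]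
      exact hy1 (eq_one_of_odd_of_inv hyodd this)
    -- `w = v u⁻¹` is a `2`-element of odd order
    have huX : u ∈ X := by
      rw [hX, Subgroup.mem_centralizer_singleton_iff]; exact huy
    have huP : (⟨u, huX⟩ : ↥X) ∈ (P : Subgroup ↥X) := by
      rcases hu1t with h | h
      · have : (⟨u, huX⟩ : ↥X) = 1 := Subtype.ext h
        rw [this]; exact Subgroup.one_mem _
      · have : (⟨u, huX⟩ : ↥X) = tX := Subtype.ext h
        rw [this]; exact htP
    have hwX : w ∈ X := by
      rw [hX, Subgroup.mem_centralizer_singleton_iff]; exact hwy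
    have hwP : (⟨w, hwX⟩ : ↥X) ∈ (P : Subgroup ↥X) := by
      have : (⟨w, hwX⟩ : ↥X) = v * (⟨u, huX⟩ : ↥X)⁻¹ := by
        apply Subtype.ext
        simp only [Subgroup.coe_mul, Subgroup.coe_inv]
        rw [hvwu]; group
      rw [this]
      exact Subgroup.mul_mem _ hv (Subgroup.inv_mem _ huP)
    have hw1 : w = 1 := by
      obtain ⟨n, hn⟩ := (IsPGroup.iff_orderOf.mp P.2) ⟨⟨w, hwX⟩, hwP⟩
      have h1 : orderOf (⟨⟨w, hwX⟩, hwP⟩ : ↥(P : Subgroup ↥X)) = orderOf w := by
        rw [Subgroup.orderOf_mk, Subgroup.orderOf_mk]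
      rw [h1] at hn
      have hwodd : Odd (orderOf w) := odd_orderOf_of_mem_core t w hw
      have h3 : n = 0 := by
        by_contra hne
        have : 2 ∣ orderOf w := by rw [hn]; exact dvd_pow_self 2 hne
        exact (Nat.not_even_iff_odd.mpr hwodd) (even_iff_two_dvd.mpr this)
      rw [h3, pow_zero] at hn
      exact orderOf_eq_one_iff.mp hn
    rw [hvwu, hw1, one_mul]
    exact hu1t
  -- Burnside
  have hPN : Subgroup.normalizer ((P : Subgroup ↥X) : Set ↥X) ≤
      Subgroup.centralizer ((P : Subgroup ↥X) : Set ↥X) := by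
    intro x hx
    rw [Subgroup.mem_centralizer_iff]
    intro v hv
    have hv' : v ∈ (P : Subgroup ↥X) := hv
    have hconj : x * v * x⁻¹ ∈ (P : Subgroup ↥X) := (Subgroup.mem_normalizer_iff.mp hx v).mp hv'
    rcases hPelts v hv' with h | h
    · have : v = 1 := Subtype.ext h
      rw [this, one_mul, mul_one]
    · rcases hPelts _ hconj with h' | h'
      · have h1 : x * v * x⁻¹ = 1 := Subtype.ext h'
        have h2 : v = 1 := by
          have := conj_eq_one_iff.mp h1
          exact this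
        exfalso
        apply ht1
        rw [← h, h2]; rfl
      · have h1 : x * v * x⁻¹ = v := Subtype.ext (h'.trans h.symm)
        calc v * x = x * v * x⁻¹ * x := by rw [h1]
          _ = x * v := by group
  set K : Subgroup ↥X := (MonoidHom.transferSylow P hPN).ker with hK
  have hnd : ¬ 2 ∣ Nat.card K := MonoidHom.not_dvd_card_ker_transferSylow P hPN
  have hKp : IsPGroup p ↥K := by
    have hKdvd : Nat.card K ∣ Nat.card X := Subgroup.card_subgroup_dvd_card _
    have huniq : ∀ {d : ℕ}, d.Prime → d ∣ Nat.card K → d = p := by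
      intro d hd hdvd
      rcases hprimes d hd (hdvd.trans hKdvd) with h | h
      · exact absurd (h ▸ hdvd) hnd
      · exact h
    exact IsPGroup.of_card (Nat.eq_prime_pow_of_unique_prime_dvd Nat.card_pos.ne' huniq)
  refine ⟨K.map X.subtype, hKp.map _, ?_⟩
  intro x hxy hodd
  have hxX : x ∈ X := by
    rw [hX, Subgroup.mem_centralizer_singleton_iff]; exact hxy
  have hker : (⟨x, hxX⟩ : ↥X) ∈ K := by
    rw [hK, MonoidHom.mem_ker]
    set y' := MonoidHom.transferSylow P hPN ⟨x, hxX⟩ with hy'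
    have h1 : orderOf y' ∣ orderOf (⟨x, hxX⟩ : ↥X) := orderOf_map_dvd _ _
    have h2 : orderOf (⟨x, hxX⟩ : ↥X) = orderOf x := Subgroup.orderOf_mk x hxX
    obtain ⟨n, hn⟩ := (IsPGroup.iff_orderOf.mp P.2) y'
    rw [h2, hn] at h1
    have h3 : n = 0 := by
      by_contra hne
      have : 2 ∣ orderOf x := (dvd_pow_self 2 hne).trans h1
      exact (Nat.not_even_iff_odd.mpr hodd) (even_iff_two_dvd.mpr this)
    rw [h3, pow_zero] at hn
    exact orderOf_eq_one_iff.mp hn
  exact Subgroup.mem_map.mpr ⟨⟨x, hxX⟩, hker, rfl⟩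

/-- Step 2 : a commuting pair of non-identity elements forces `[θ t, θ s] = 1`. -/
theorem comm_of_pair (c : Ctx G p a Q g) (hsimple : Simple G) (ha2 : a = 2)
    (h0 : ∀ t ∈ Q, t ≠ 1 → ∀ z ∈ centralizerPPrimeCore 2 t, (∀ u ∈ Q, z * u = u * z) → z = 1)
    (t : G) (ht : t ∈ Q) (ht1 : t ≠ 1) (s : G) (hs : s ∈ Q) (hs1 : s ≠ 1)
    (y : G) (hy : y ∈ centralizerPPrimeCore 2 t) (hy1 : y ≠ 1)
    (z : G) (hz : z ∈ centralizerPPrimeCore 2 s) (hz1 : z ≠ 1) (hyz : y * z = z * y) :
    ∀ w ∈ centralizerPPrimeCore 2 t, ∀ w' ∈ centralizerPPrimeCore 2 s, w * w' = w' * w := by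
  have hθt := c.hab _ (cent_structure' c t ht ht1).1
  have hθs := c.hab _ (cent_structure' c s hs hs1).1
  obtain ⟨R, hR, hRmem⟩ := exists_pgroup_of_comm c hsimple ha2 h0 t ht ht1 y hy hy1
  have hzR : z ∈ R := hRmem z hyz.symm (odd_orderOf_of_mem_core s z hz)
  have hwz : ∀ w ∈ centralizerPPrimeCore 2 t, w * z = z * w := by
    intro w hw
    have hwR : w ∈ R := hRmem w (hθt w hw y hy) (odd_orderOf_of_mem_core t w hw)
    exact c.hab R hR w hwR z hzR
  obtain ⟨R', hR', hR'mem⟩ := exists_pgroup_of_comm c hsimple ha2 h0 s hs hs1 z hz hz1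
  intro w hw w' hw'
  have hwR' : w ∈ R' := hR'mem w (hwz w hw) (odd_orderOf_of_mem_core t w hw)
  have hw'R' : w' ∈ R' := hR'mem w' (hθs w' hw' z hz) (odd_orderOf_of_mem_core s w' hw')
  exact c.hab R' hR' w hwR' w' hw'R'

/-- Lemma B : a commuting pair forces all the cores `θ u`, `u ∈ Q \ 1`, to commute pairwise. -/
theorem comm_cores (c : Ctx G p a Q g) (hsimple : Simple G) (ha2 : a = 2)
    (h0 : ∀ t ∈ Q, t ≠ 1 → ∀ z ∈ centralizerPPrimeCore 2 t, (∀ u ∈ Q, z * u = u * z) → z = 1)
    (t : G) (ht : t ∈ Q) (ht1 : t ≠ 1) (s : G) (hs : s ∈ Q) (hs1 : s ≠ 1) (hst : s ≠ t)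
    (y : G) (hy : y ∈ centralizerPPrimeCore 2 t) (hy1 : y ≠ 1)
    (z : G) (hz : z ∈ centralizerPPrimeCore 2 s) (hz1 : z ≠ 1) (hyz : y * z = z * y)
    (u : G) (hu : u ∈ Q) (hu1 : u ≠ 1) (u' : G) (hu' : u' ∈ Q) (hu'1 : u' ≠ 1) (huu' : u ≠ u') :
    ∀ w ∈ centralizerPPrimeCore 2 u, ∀ w' ∈ centralizerPPrimeCore 2 u', w * w' = w' * w := by
  have hts1 : t * s ≠ 1 := by
    intro h
    apply hst
    have : t * s = t * t := by rw [h, c.hQexp t ht]
    exact mul_left_cancel this
  have huu'1 : u * u' ≠ 1 := by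
    intro h
    apply huu'
    have : u * u' = u * u := by rw [h, c.hQexp u hu]
    exact (mul_left_cancel this).symm
  obtain ⟨i, hi⟩ := c.htrans (t * s) (Q.mul_mem ht hs) hts1 (u * u') (Q.mul_mem hu hu') huu'1
  set x : G := g ^ i with hx
  have hxN : x ∈ Subgroup.normalizer (Q : Set G) := Subgroup.pow_mem _ c.hgN i
  have ht₁ : x * t * x⁻¹ ∈ Q := (Subgroup.mem_normalizer_iff.mp hxN t).mp ht
  have hs₁ : x * s * x⁻¹ ∈ Q := (Subgroup.mem_normalizer_iff.mp hxN s).mp hs
  have ht₁1 : x * t * x⁻¹ ≠ 1 := fun h => ht1 (conj_eq_one_iff.mp h)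
  have hs₁1 : x * s * x⁻¹ ≠ 1 := fun h => hs1 (conj_eq_one_iff.mp h)
  have hprod : (x * t * x⁻¹) * (x * s * x⁻¹) = u * u' := by
    rw [← hi]; group
  have hy₁ := Cfsg.Agent.Lib.Helper12.MIXFIXED.conj_mem_core x t y hy
  have hz₁ := Cfsg.Agent.Lib.Helper12.MIXFIXED.conj_mem_core x s z hz
  have hy₁1 : x * y * x⁻¹ ≠ 1 := fun h => hy1 (conj_eq_one_iff.mp h)
  have hz₁1 : x * z * x⁻¹ ≠ 1 := fun h => hz1 (conj_eq_one_iff.mp h)
  have hyz₁ : (x * y * x⁻¹) * (x * z * x⁻¹) = (x * z * x⁻¹) * (x * y * x⁻¹) := by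
    calc (x * y * x⁻¹) * (x * z * x⁻¹) = x * (y * z) * x⁻¹ := by group
      _ = x * (z * y) * x⁻¹ := by rw [hyz]
      _ = (x * z * x⁻¹) * (x * y * x⁻¹) := by group
  have key := comm_of_pair c hsimple ha2 h0 (x * t * x⁻¹) ht₁ ht₁1 (x * s * x⁻¹) hs₁ hs₁1
    (x * y * x⁻¹) hy₁ hy₁1 (x * z * x⁻¹) hz₁ hz₁1 hyz₁
  rcases mem_four c ha2 u hu hu1 u' hu' hu'1 huu' (x * t * x⁻¹) ht₁ with h | h | h | h
  · exact absurd h ht₁1
  · -- `t₁ = u`, `s₁ = u'`
    have hs' : x * s * x⁻¹ = u' := by
      rw [h] at hprod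
      exact mul_left_cancel hprod
    rw [h, hs'] at key
    exact key
  · -- `t₁ = u'`, `s₁ = u`
    have hs' : x * s * x⁻¹ = u := by
      rw [h, c.hQab u hu u' hu'] at hprod
      exact mul_left_cancel hprod
    rw [h, hs'] at key
    intro w hw w' hw'
    exact (key w' hw' w hw).symm
  · -- `t₁ = u u'`, `s₁ = 1`
    exfalso
    apply hs₁1
    rw [h] at hprod
    have : u * u' * (x * s * x⁻¹) = u * u' * 1 := by rw [hprod, mul_one]
    exact mul_left_cancel this

/-- an element commuting with every element of `B` normalizes `B` -/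
theorem le_normalizer_of_comm (A B : Subgroup G) (h : ∀ w ∈ A, ∀ w' ∈ B, w * w' = w' * w) :
    A ≤ Subgroup.normalizer (B : Set G) := by
  intro w hw
  apply Subgroup.centralizer_le_normalizer
  rw [Subgroup.mem_centralizer_iff]
  intro b hb
  exact (h w hw b hb).symm

/-- LEMA : if `C_{θ t}(Q) = 1`, no non-identity element of `θ s` commutes with a non-identity element of `θ t`
(`s ≠ t`). -/
theorem no_commuting_pair (c : Ctx G p a Q g) (hsimple : Simple G) (ha2 : a = 2)
    (h0 : ∀ t ∈ Q, t ≠ 1 → ∀ z ∈ centralizerPPrimeCore 2 t, (∀ u ∈ Q, z * u = u * z) → z = 1)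
    (t : G) (ht : t ∈ Q) (ht1 : t ≠ 1) (s : G) (hs : s ∈ Q) (hs1 : s ≠ 1) (hst : s ≠ t)
    (y : G) (hy : y ∈ centralizerPPrimeCore 2 t) (hy1 : y ≠ 1)
    (z : G) (hz : z ∈ centralizerPPrimeCore 2 s) (hz1 : z ≠ 1) (hyz : y * z = z * y) : False := by
  have hFp : Fact p.Prime := ⟨c.hp⟩
  have hr : t * s ∈ Q := Q.mul_mem ht hs
  have hr1 : t * s ≠ 1 := by
    intro h
    apply hst
    have : t * s = t * t := by rw [h, c.hQexp t ht]
    exact mul_left_cancel this
  have hrt : t ≠ t * s := by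
    intro h
    apply hs1
    have : t * 1 = t * s := by rw [mul_one]; exact h
    exact (mul_left_cancel this).symm
  have hrs : s ≠ t * s := by
    intro h
    apply ht1
    have : 1 * s = t * s := by rw [one_mul]; exact h
    exact (mul_right_cancel this).symm
  have hcc := comm_cores c hsimple ha2 h0 t ht ht1 s hs hs1 hst y hy hy1 z hz hz1 hyz
  have hAB := hcc t ht ht1 s hs hs1 (Ne.symm hst)
  have hAC := hcc t ht ht1 (t * s) hr hr1 hrt
  have hBC := hcc s hs hs1 (t * s) hr hr1 hrs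
  have hAp := (cent_structure' c t ht ht1).1
  have hBp := (cent_structure' c s hs hs1).1
  have hCp := (cent_structure' c (t * s) hr hr1).1
  set A := centralizerPPrimeCore 2 t with hA
  set B := centralizerPPrimeCore 2 s with hB
  set C := centralizerPPrimeCore 2 (t * s) with hC
  have hABp : IsPGroup p ↥(A ⊔ B) :=
    IsPGroup.to_sup_of_normal_right' hAp hBp (le_normalizer_of_comm A B hAB)
  have hWp : IsPGroup p ↥(A ⊔ B ⊔ C) := by
    apply IsPGroup.to_sup_of_normal_right' hABp hCp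
    exact sup_le (le_normalizer_of_comm A C hAC) (le_normalizer_of_comm B C hBC)
  set W : Subgroup G := A ⊔ B ⊔ C with hW
  have hAW : A ≤ W := le_sup_of_le_left le_sup_left
  have hBW : B ≤ W := le_sup_of_le_left le_sup_right
  have hCW : C ≤ W := le_sup_right
  have hWodd : Odd (Nat.card ↥W) := by
    obtain ⟨n, hn⟩ := IsPGroup.iff_card.mp hWp
    rw [hn]
    exact (c.hp.odd_of_ne_two c.hp2).pow
  -- `W` is normalized by `N_G(Q)`
  have hcore_le : ∀ v ∈ Q, v ≠ 1 → centralizerPPrimeCore 2 v ≤ W := by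
    intro v hv hv1
    rcases mem_four c ha2 t ht ht1 s hs hs1 (Ne.symm hst) v hv with h | h | h | h
    · exact absurd h hv1
    · rw [h]; exact hAW
    · rw [h]; exact hBW
    · rw [h]; exact hCW
  have hmap : ∀ x ∈ Subgroup.normalizer (Q : Set G), W.map (MulAut.conj x).toMonoidHom ≤ W := by
    intro x hx
    have hcj : ∀ v ∈ Q, v ≠ 1 →
        (centralizerPPrimeCore 2 v).map (MulAut.conj x).toMonoidHom ≤ W := by
      intro v hv hv1
      rw [← Cfsg.Agent.Lib.Helper2.MIXCORECONJ.core_conj x v]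
      exact hcore_le _ ((Subgroup.mem_normalizer_iff.mp hx v).mp hv)
        (fun h => hv1 (conj_eq_one_iff.mp h))
    rw [hW, Subgroup.map_sup, Subgroup.map_sup]
    exact sup_le (sup_le (hcj t ht ht1) (hcj s hs hs1)) (hcj (t * s) hr hr1)
  have hWnorm : ∀ x ∈ Subgroup.normalizer (Q : Set G), x ∈ Subgroup.normalizer (W : Set G) := by
    intro x hx
    rw [Subgroup.mem_normalizer_iff]
    intro h
    constructor
    · intro hh
      exact hmap x hx (Subgroup.mem_map.mpr ⟨h, hh, rfl⟩)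
    · intro hh
      have := hmap x⁻¹ (Subgroup.inv_mem _ hx) (Subgroup.mem_map.mpr ⟨x * h * x⁻¹, hh, rfl⟩)
      have he : (MulAut.conj x⁻¹).toMonoidHom (x * h * x⁻¹) = h := by
        simp only [MulEquiv.coe_toMonoidHom, MulAut.conj_apply]
        group
      rw [he] at this
      exact this
  have hWQ : Q ≤ Subgroup.normalizer (W : Set G) :=
    fun v hv => hWnorm v (Subgroup.le_normalizer hv)
  have hWg : g ∈ Subgroup.normalizer (W : Set G) := hWnorm g c.hgN
  have hgW := Cfsg.Agent.Lib.Helper23.MIXGCENT.g_centralizes c hsimple W hWodd hWQ hWg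
  have hgy : g * y = y * g := hgW y (hAW hy)
  -- `y ∈ θ (g t g⁻¹)`
  have hy' : y ∈ centralizerPPrimeCore 2 (g * t * g⁻¹) := by
    have h1 := Cfsg.Agent.Lib.Helper12.MIXFIXED.conj_mem_core g t y hy
    have h2 : g * y * g⁻¹ = y := by rw [hgy, mul_assoc, mul_inv_cancel, mul_one]
    rw [h2] at h1
    exact h1
  have ht' : g * t * g⁻¹ ∈ Q := (Subgroup.mem_normalizer_iff.mp c.hgN t).mp ht
  have ht'1 : g * t * g⁻¹ ≠ 1 := fun h => ht1 (conj_eq_one_iff.mp h)
  have ht't : t ≠ g * t * g⁻¹ := by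
    intro h
    have hcomm : Commute g t := by
      have : g * t = t * g := by
        calc g * t = g * t * g⁻¹ * g := by group
          _ = t * g := by rw [← h]
      exact this
    obtain ⟨i, hi⟩ := c.htrans t ht ht1 s hs hs1
    apply hst
    rw [← hi, (hcomm.pow_left i).eq, mul_assoc, mul_inv_cancel, mul_one]
  have hyt : y * t = t * y :=
    Subgroup.mem_centralizer_singleton_iff.mp
      ((Cfsg.Agent.Lib.Helper2.MIXCORELE.core_basic t).1 hy)
  have hyt' : y * (g * t * g⁻¹) = (g * t * g⁻¹) * y :=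
    Subgroup.mem_centralizer_singleton_iff.mp
      ((Cfsg.Agent.Lib.Helper2.MIXCORELE.core_basic (g * t * g⁻¹)).1 hy')
  apply hy1
  apply h0 t ht ht1 y hy
  intro u hu
  rcases mem_four c ha2 t ht ht1 (g * t * g⁻¹) ht' ht'1 ht't u hu with h | h | h | h
  · rw [h, mul_one, one_mul]
  · rw [h]; exact hyt
  · rw [h]; exact hyt'
  · rw [h, ← mul_assoc, hyt, mul_assoc, hyt', ← mul_assoc]

end Cfsg.Agent.Lib.Helper17.MIXLEMA
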