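/-
helper17: S4017 leaf MIX-P0NE `comm_of_P0_ne` (planner helper26, notes/S4017_leaves.lean).
Route: `M := C_G(z)` (proper, contains `Q`, `g` (GCENT on `θ t ⊓ C_G(Q)`) and every `θ u`); `M / core(Sylow 3)` embeds in `S_4`,
so `QT ⊴ M` for a normal `3`-subgroup `T` (MIXP0NEa); `[w, v] ∈ θ u ⊓ QT ≤ T` is fixed by `g`, hence central in `Q`, hence `1`.
-/
import Mathlib
import Cfsg.Prelude.Def_Local
import Cfsg.Agent.Lib.Helper26.MixDefs
import Cfsg.Agent.Lib.Helper17.MIXLEMA
import Cfsg.Agent.Lib.Helper17.MIXP0NEa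

set_option autoImplicit false
set_option linter.unusedSectionVars false

namespace Cfsg.Agent.Lib.Helper17.MIXP0NE

open Cfsg Cfsg.Agent.Lib.Helper26.Mix
open Cfsg.Agent.Lib.Helper17.MIXLEMA

universe u

variable {G : Type u} [Group G] [Finite G] {p a : ℕ} {Q : Subgroup G} {g : G}

/-- `g` moves every `t ∈ Q \ 1` -/
theorem conj_ne (c : Ctx G p a Q g) (t : G) (ht : t ∈ Q) (ht1 : t ≠ 1) : g * t * g⁻¹ ≠ t := by
  intro h
  obtain ⟨s, hs, hs1, hst⟩ := Cfsg.Agent.Lib.Helper23.MIXINV.exists_ne c t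
  have hcomm : Commute g t := by
    have : g * t = t * g := by
      calc g * t = g * t * g⁻¹ * g := by group
        _ = t * g := by rw [h]
    exact this
  obtain ⟨i, hi⟩ := c.htrans t ht ht1 s hs hs1
  apply hst
  rw [← hi, (hcomm.pow_left i).eq, mul_assoc, mul_inv_cancel, mul_one]

/-- the elements of `θ t` centralized by `Q` commute with `g` -/
theorem g_comm_of_central (c : Ctx G p a Q g) (hsimple : Simple G)
    (t : G) (ht : t ∈ Q) (ht1 : t ≠ 1) (z : G) (hz : z ∈ centralizerPPrimeCore 2 t)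
    (hzQ : ∀ u ∈ Q, z * u = u * z) : g * z = z * g := by
  obtain ⟨hθp, hθdec, hθodd⟩ := cent_structure' c t ht ht1
  set P0 : Subgroup G := centralizerPPrimeCore 2 t ⊓ Subgroup.centralizer (Q : Set G) with hP0
  have hzP0 : z ∈ P0 := by
    have hzc : z ∈ Subgroup.centralizer (Q : Set G) := by
      rw [Subgroup.mem_centralizer_iff]
      intro u hu
      exact (hzQ u hu).symm
    exact Subgroup.mem_inf.mpr ⟨hz, hzc⟩
  have hP0odd : Odd (Nat.card ↥P0) := by
    have h1 : Nat.card ↥P0 ∣ Nat.card ↥(centralizerPPrimeCore 2 t) :=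
      Subgroup.card_dvd_of_le inf_le_left
    exact Odd.of_dvd_nat (Cfsg.Agent.Lib.Helper2.MIXCORELE.core_basic t).2.2 h1
  have hcomm : ∀ v ∈ Q, ∀ x ∈ P0, v * x = x * v := by
    intro v hv x hx
    exact Subgroup.mem_centralizer_iff.mp (Subgroup.mem_inf.mp hx).2 v hv
  have hQn : Q ≤ Subgroup.normalizer (P0 : Set G) := le_normalizer_of_comm Q P0 hcomm
  have hconj : ∀ x ∈ Subgroup.normalizer (Q : Set G), ∀ w ∈ P0, x * w * x⁻¹ ∈ P0 := by
    intro x hx w hw
    have hcent : x * w * x⁻¹ ∈ Subgroup.centralizer (Q : Set G) := by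
      rw [Subgroup.mem_centralizer_iff]
      intro v hv
      have hv' : x⁻¹ * v * x⁻¹⁻¹ ∈ Q :=
        (Subgroup.mem_normalizer_iff.mp (Subgroup.inv_mem _ hx) v).mp hv
      have h1 := hcomm _ hv' w hw
      rw [inv_inv] at h1
      calc v * (x * w * x⁻¹) = x * ((x⁻¹ * v * x) * w) * x⁻¹ := by group
        _ = x * (w * (x⁻¹ * v * x)) * x⁻¹ := by rw [h1]
        _ = x * w * x⁻¹ * v := by group
    refine Subgroup.mem_inf.mpr ⟨?_, hcent⟩
    apply hθodd
    · rw [Subgroup.mem_centralizer_singleton_iff]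
      exact (Subgroup.mem_centralizer_iff.mp hcent t ht).symm
    · exact odd_orderOf_of_mem_core _ _
        (Cfsg.Agent.Lib.Helper12.MIXFIXED.conj_mem_core x t w (Subgroup.mem_inf.mp hw).1)
  have hgn : g ∈ Subgroup.normalizer (P0 : Set G) := by
    rw [Subgroup.mem_normalizer_iff]
    intro h
    constructor
    · intro hh
      exact hconj g c.hgN h hh
    · intro hh
      have := hconj g⁻¹ (Subgroup.inv_mem _ c.hgN) _ hh
      have he : g⁻¹ * (g * h * g⁻¹) * g⁻¹⁻¹ = h := by group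
      rw [he] at this
      exact this
  exact Cfsg.Agent.Lib.Helper23.MIXGCENT.g_centralizes c hsimple P0 hP0odd hQn hgn z hzP0

/-- the final computation: `k = [w, v]` commuting with `w` and `v`, `v² = 1`, `k` of odd order  ⇒  `w v = v w`. -/
theorem comm_of_commutator {w v k : G} (hk : k = w * v * w⁻¹ * v⁻¹) (hkv : k * v = v * k)
    (hvv : v * v = 1) (hodd : Odd (orderOf k)) : w * v = v * w := by
  have h1 : w * v = k * v * w := by rw [hk]; group
  have h2 : 1 * (v * w) = k * k * (v * w) := by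
    calc 1 * (v * w) = v * w * (v * v) := by rw [hvv, mul_one, one_mul]
      _ = v * (w * v) * v := by group
      _ = v * (k * v * w) * v := by rw [← h1]
      _ = (v * k) * v * (w * v) := by group
      _ = (k * v) * v * (w * v) := by rw [hkv]
      _ = k * (v * v) * (w * v) := by group
      _ = k * (w * v) := by rw [hvv, mul_one]
      _ = k * (k * v * w) := by rw [← h1]
      _ = k * k * (v * w) := by group
  have h3 : k * k = 1 := (mul_right_cancel h2).symm
  have h4 : k = k⁻¹ := eq_inv_of_mul_eq_one_left h3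
  have h5 : k = 1 := eq_one_of_odd_of_inv hodd h4
  rw [h1, h5, one_mul]

/-- P0NE : rank 2, a non-identity element of some `θ(t)` centralized by `Q`  ⇒  `Comm`. -/
theorem comm_of_P0_ne (c : Ctx G p a Q g) (hthird : Third G p 2) (hsimple : Simple G) (ha2 : a = 2)
    (t : G) (ht : t ∈ Q) (ht1 : t ≠ 1) (z : G) (hz : z ∈ centralizerPPrimeCore 2 t) (hz1 : z ≠ 1)
    (hzQ : ∀ u ∈ Q, z * u = u * z) : Comm G Q := by
  have hp3 : p = 3 := by
    have := c.hpa
    rw [ha2] at this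
    norm_num at this
    omega
  subst hp3
  have hF3 : Fact (Nat.Prime 3) := ⟨Nat.prime_three⟩
  have hgz : g * z = z * g := g_comm_of_central c hsimple t ht ht1 z hz hzQ
  have hzodd : Odd (orderOf z) := odd_orderOf_of_mem_core t z hz
  set M : Subgroup G := Subgroup.centralizer ({z} : Set G) with hM
  have hMne : M ≠ ⊤ := by
    intro htop
    have hzc : z ∈ Subgroup.center G := by
      have := Subgroup.centralizer_eq_top_iff_subset.mp htop
      exact this (Set.mem_singleton z)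
    rcases hsimple (Subgroup.center G) inferInstance with h | h
    · rw [h, Subgroup.mem_bot] at hzc
      exact hz1 hzc
    · apply Cfsg.Agent.Lib.Helper17.MIXQUOT.g_not_central c
      rw [h]; exact Subgroup.mem_top _
  have hQM : Q ≤ M := by
    intro v hv
    rw [hM, Subgroup.mem_centralizer_singleton_iff]
    exact (hzQ v hv).symm
  have hgM : g ∈ M := by
    rw [hM, Subgroup.mem_centralizer_singleton_iff]; exact hgz
  have hzcore : ∀ u ∈ Q, u ≠ 1 → z ∈ centralizerPPrimeCore 2 u := by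
    intro u hu hu1
    apply (cent_structure' c u hu hu1).2.2 z _ hzodd
    rw [Subgroup.mem_centralizer_singleton_iff]; exact hzQ u hu
  have hcoreM : ∀ u ∈ Q, u ≠ 1 → centralizerPPrimeCore 2 u ≤ M := by
    intro u hu hu1 w hw
    rw [hM, Subgroup.mem_centralizer_singleton_iff]
    exact c.hab _ (cent_structure' c u hu hu1).1 w hw z (hzcore u hu hu1)
  have h2M : 2 ∣ Nat.card ↥M :=
    Cfsg.Agent.Lib.Helper23.MIXGCENT.two_dvd_card_of_le c M hQM
  have hprimes : ∀ d : ℕ, d.Prime → d ∣ Nat.card ↥M → d = 2 ∨ d = 3 := c.hstar M hMne h2M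
  have h8 : ¬ 8 ∣ Nat.card ↥M := by
    intro h
    have h1 : 2 ^ 3 ∣ Nat.card G := by
      have : (8 : ℕ) ∣ Nat.card G := h.trans (Subgroup.card_subgroup_dvd_card M)
      simpa using this
    have h2 := (Nat.Prime.pow_dvd_iff_le_factorization Nat.prime_two Nat.card_pos.ne').mp h1
    rw [c.hQsyl, ha2] at h2
    omega
  have hQcard : Nat.card ↥(Q.subgroupOf M) = 4 := by
    have h1 : Nat.card ↥(Q.subgroupOf M) = Nat.card ↥Q :=
      Nat.card_congr (Subgroup.subgroupOfEquivOfLe hQM).toEquiv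
    rw [h1, c.hQcard, ha2]
    norm_num
  let gM : ↥M := ⟨g, hgM⟩
  have hgN : gM ∈ Subgroup.normalizer ((Q.subgroupOf M : Subgroup ↥M) : Set ↥M) := by
    rw [Subgroup.mem_normalizer_iff]
    intro h
    simp only [Subgroup.mem_subgroupOf, Subgroup.coe_mul, Subgroup.coe_inv]
    exact Subgroup.mem_normalizer_iff.mp c.hgN (h : G)
  have hg3 : ∃ m : ℕ, gM ^ 3 ^ m = 1 := by
    obtain ⟨k, hk⟩ := c.hgp
    refine ⟨k, Subtype.ext ?_⟩
    simp only [Subgroup.coe_pow, Subgroup.coe_one]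
    exact hk
  have hgQ : ∃ v ∈ Q.subgroupOf M, gM * v * gM⁻¹ ≠ v := by
    refine ⟨⟨t, hQM ht⟩, Subgroup.mem_subgroupOf.mpr ht, ?_⟩
    intro h
    exact conj_ne c t ht ht1 (congrArg Subtype.val h)
  obtain ⟨T, hTn, hT3, hT⟩ := Cfsg.Agent.Lib.Helper17.MIXP0NEa.exists_normal_three ↥M hprimes h8
    (Q.subgroupOf M) hQcard gM hgN hg3 hgQ
  -- `T <g>` is a `3`-group
  have hgp : IsPGroup 3 ↥(Subgroup.zpowers gM) := by
    obtain ⟨m, hm⟩ := hg3
    have h1 : orderOf gM ∣ 3 ^ m := orderOf_dvd_of_pow_eq_one hm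
    obtain ⟨i, _, hi⟩ := (Nat.dvd_prime_pow Nat.prime_three).mp h1
    apply IsPGroup.of_card (n := i)
    rw [Nat.card_zpowers, hi]
  have hS : IsPGroup 3 ↥(Subgroup.zpowers gM ⊔ T) := IsPGroup.to_sup_of_normal_right hgp hT3
  have hSG := hS.map M.subtype
  have hgS : g ∈ (Subgroup.zpowers gM ⊔ T).map M.subtype :=
    Subgroup.mem_map.mpr ⟨gM, (le_sup_left : Subgroup.zpowers gM ≤ _) (Subgroup.mem_zpowers gM), rfl⟩
  -- the main argument
  intro u hu hu1 w hw v hv
  have hwM : w ∈ M := hcoreM u hu hu1 hw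
  have hvM : v ∈ M := hQM hv
  set k : G := w * v * w⁻¹ * v⁻¹ with hk
  have hvu : v ∈ Subgroup.centralizer ({u} : Set G) := by
    rw [Subgroup.mem_centralizer_singleton_iff]; exact c.hQab v hv u hu
  have hkθ : k ∈ centralizerPPrimeCore 2 u := by
    have h1 := (Cfsg.Agent.Lib.Helper2.MIXCORELE.core_basic u).2.1 v hvu w⁻¹
      (Subgroup.inv_mem _ hw)
    have h2 : k = w * (v * w⁻¹ * v⁻¹) := by rw [hk]; group
    rw [h2]
    exact Subgroup.mul_mem _ hw h1
  have hkodd : Odd (orderOf k) := odd_orderOf_of_mem_core u k hkθ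
  have hkT : (⟨w, hwM⟩ : ↥M) * ⟨v, hvM⟩ * (⟨w, hwM⟩ : ↥M)⁻¹ * (⟨v, hvM⟩ : ↥M)⁻¹ ∈ T := by
    apply hT ⟨w, hwM⟩ ⟨v, hvM⟩ (Subgroup.mem_subgroupOf.mpr hv)
    rw [← Subgroup.orderOf_coe]
    exact hkodd
  have hkS : k ∈ (Subgroup.zpowers gM ⊔ T).map M.subtype :=
    Subgroup.mem_map.mpr ⟨_, (le_sup_right : T ≤ Subgroup.zpowers gM ⊔ T) hkT, rfl⟩
  have hgk : g * k = k * g := c.hab _ hSG g hgS k hkS
  have hconj : ∀ i : ℕ, g ^ i * k * (g ^ i)⁻¹ = k := by
    intro i
    have hc : Commute g k := hgk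
    rw [(hc.pow_left i).eq, mul_assoc, mul_inv_cancel, mul_one]
  have hkall : ∀ u' ∈ Q, u' ≠ 1 → k ∈ centralizerPPrimeCore 2 u' := by
    intro u' hu' hu'1
    obtain ⟨i, hi⟩ := c.htrans u hu hu1 u' hu' hu'1
    have h1 := Cfsg.Agent.Lib.Helper12.MIXFIXED.conj_mem_core (g ^ i) u k hkθ
    rw [hconj i, hi] at h1
    exact h1
  have hkv : k * v = v * k := by
    by_cases hv1 : v = 1
    · rw [hv1, mul_one, one_mul]
    · exact Subgroup.mem_centralizer_singleton_iff.mp
        ((Cfsg.Agent.Lib.Helper2.MIXCORELE.core_basic v).1 (hkall v hv hv1))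
  exact comm_of_commutator hk hkv (c.hQexp v hv) hkodd

end Cfsg.Agent.Lib.Helper17.MIXP0NE
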