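/-
helper17: S4017 leaf MIX-P0NE, the group-theoretic core:
a `{2,3}`-group `M` with a four-group `Q` as Sylow `2`-subgroup and a `3`-element `g` normalizing, not centralizing, `Q`
has a normal `3`-subgroup `T` with `QT ⊴ M` (`M / T` embeds in `S_4`).
-/
import Mathlib

set_option autoImplicit false
set_option linter.unusedSectionVars false

namespace Cfsg.Agent.Lib.Helper17.MIXP0NEa

open Subgroup

/-- a divisor of `24` not divisible by `8` divides `12` -/
theorem dvd_twelve_of_dvd (n : ℕ) (h24 : n ∣ 24) (h8 : ¬ 8 ∣ n) : n ∣ 12 := by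
  have hle : n ≤ 24 := Nat.le_of_dvd (by norm_num) h24
  interval_cases n <;> omega

theorem exists_normal_three (M : Type*) [Group M] [Finite M]
    (hprimes : ∀ d : ℕ, d.Prime → d ∣ Nat.card M → d = 2 ∨ d = 3) (h8 : ¬ 8 ∣ Nat.card M)
    (Q : Subgroup M) (hQ : Nat.card Q = 4) (g : M) (hgN : g ∈ normalizer (Q : Set M))
    (hg3 : ∃ m : ℕ, g ^ 3 ^ m = 1) (hgQ : ∃ v ∈ Q, g * v * g⁻¹ ≠ v) :
    ∃ T : Subgroup M, T.Normal ∧ IsPGroup 3 T ∧
      ∀ w : M, ∀ v ∈ Q, Odd (orderOf (w * v * w⁻¹ * v⁻¹)) → w * v * w⁻¹ * v⁻¹ ∈ T := by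
  have hF3 : Fact (Nat.Prime 3) := ⟨Nat.prime_three⟩
  have hF2 : Fact (Nat.Prime 2) := ⟨Nat.prime_two⟩
  -- a Sylow `3`-subgroup of index `4`
  let S : Sylow 3 M := default
  have hSidx : (S : Subgroup M).index = 4 := by
    have hnd : ¬ 3 ∣ (S : Subgroup M).index := S.not_dvd_index
    have hidx_dvd : (S : Subgroup M).index ∣ Nat.card M := Subgroup.index_dvd_card _
    have huniq : ∀ {d : ℕ}, d.Prime → d ∣ (S : Subgroup M).index → d = 2 := by
      intro d hd hdvd
      rcases hprimes d hd (hdvd.trans hidx_dvd) with h | h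
      · exact h
      · exact absurd (h ▸ hdvd) hnd
    have hpow := Nat.eq_prime_pow_of_unique_prime_dvd (Subgroup.index_ne_zero_of_finite) huniq
    set j := (S : Subgroup M).index.primeFactorsList.length with hj
    have hmul : Nat.card (S : Subgroup M) * (S : Subgroup M).index = Nat.card M :=
      Subgroup.card_mul_index _
    obtain ⟨i, hi⟩ := IsPGroup.iff_card.mp S.2
    have hj2 : j ≤ 2 := by
      by_contra hcon
      push Not at hcon
      apply h8
      have h1 : (2 : ℕ) ^ 3 ∣ 2 ^ j := pow_dvd_pow 2 hcon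
      have h2 : 2 ^ j ∣ Nat.card M := by rw [← hpow]; exact hidx_dvd
      exact h1.trans h2
    have h4 : 4 ∣ Nat.card M := by
      rw [← hQ]; exact Subgroup.card_subgroup_dvd_card Q
    have h4' : 4 ∣ 2 ^ j := by
      rw [← hmul, hi, hpow] at h4
      have hcop : Nat.Coprime 4 (3 ^ i) := by
        apply Nat.Coprime.pow_right
        decide
      exact hcop.dvd_of_dvd_mul_left h4
    have hj2' : 2 ≤ j := by
      by_contra hcon
      push Not at hcon
      interval_cases j <;> omega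
    have : j = 2 := le_antisymm hj2 hj2'
    rw [hpow, this]
    norm_num
  set T : Subgroup M := (S : Subgroup M).normalCore with hT
  have hTn : T.Normal := Subgroup.normalCore_normal _
  have hT3 : IsPGroup 3 T := S.2.to_le (Subgroup.normalCore_le _)
  have hTidx : T.index ∣ 24 := by
    have h : (S : Subgroup M).normalCore.index ∣ Nat.factorial (S : Subgroup M).index := by
      rw [Subgroup.normalCore_eq_ker, Subgroup.index_ker, Subgroup.index_eq_card, ← Nat.card_perm]
      exact Subgroup.card_subgroup_dvd_card (MulAction.toPermHom M (M ⧸ (S : Subgroup M))).range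
    rw [hSidx] at h
    exact h
  have hcardq : Nat.card (M ⧸ T) ∣ 12 := by
    apply dvd_twelve_of_dvd
    · rw [← Subgroup.index_eq_card]; exact hTidx
    · intro h
      exact h8 (h.trans (Subgroup.card_quotient_dvd_card T))
  -- `Q ⊓ T = ⊥`
  have hQT : Q ⊓ T = ⊥ := by
    apply disjoint_iff.mp
    apply Subgroup.disjoint_of_coprime_natCard
    obtain ⟨i, hi⟩ := IsPGroup.iff_card.mp hT3
    rw [hQ, hi]
    apply Nat.Coprime.pow_right
    decide
  set π : M →* M ⧸ T := QuotientGroup.mk' T with hπ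
  have hker : π.ker = T := QuotientGroup.ker_mk' T
  set Qb : Subgroup (M ⧸ T) := Q.map π with hQb
  have hQbcard : Nat.card Qb = 4 := by
    have hinj : Function.Injective (π.comp Q.subtype) := by
      rw [← MonoidHom.ker_eq_bot_iff, eq_bot_iff]
      intro x hx
      rw [MonoidHom.mem_ker, MonoidHom.comp_apply] at hx
      have hxT : (x : M) ∈ T := by rw [← hker]; exact hx
      have : (x : M) ∈ Q ⊓ T := ⟨x.2, hxT⟩
      rw [hQT, Subgroup.mem_bot] at this
      rw [Subgroup.mem_bot]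
      exact Subtype.ext this
    have hrange : (π.comp Q.subtype).range = Qb := by
      rw [MonoidHom.range_comp, Subgroup.range_subtype]
    rw [← hrange, ← hQ]
    exact (Nat.card_congr (MonoidHom.ofInjective hinj).toEquiv).symm
  -- the image of `g`
  have hgbN : π g ∈ normalizer (Qb : Set (M ⧸ T)) :=
    Subgroup.le_normalizer_map π (Subgroup.mem_map_of_mem π hgN)
  have hgb1 : π g ≠ 1 := by
    intro h
    have hgT : g ∈ T := by rw [← hker]; exact h
    obtain ⟨v, hv, hne⟩ := hgQ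
    apply hne
    have h1 : g * v * g⁻¹ * v⁻¹ ∈ Q :=
      Q.mul_mem ((Subgroup.mem_normalizer_iff.mp hgN v).mp hv) (Q.inv_mem hv)
    have h2 : g * v * g⁻¹ * v⁻¹ ∈ T := by
      have : g * v * g⁻¹ * v⁻¹ = g * (v * g⁻¹ * v⁻¹) := by group
      rw [this]
      exact T.mul_mem hgT (hTn.conj_mem _ (T.inv_mem hgT) v)
    have h3 : g * v * g⁻¹ * v⁻¹ ∈ Q ⊓ T := ⟨h1, h2⟩
    rw [hQT, Subgroup.mem_bot] at h3
    exact mul_inv_eq_one.mp h3
  have h3N : 3 ∣ Nat.card (normalizer (Qb : Set (M ⧸ T))) := by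
    obtain ⟨m, hm⟩ := hg3
    have h1 : orderOf (π g) ∣ 3 ^ m := by
      apply orderOf_dvd_of_pow_eq_one
      rw [← map_pow, hm, map_one]
    obtain ⟨i, _, hi⟩ := (Nat.dvd_prime_pow Nat.prime_three).mp h1
    have hi0 : i ≠ 0 := by
      intro h0
      rw [h0, pow_zero] at hi
      exact hgb1 (orderOf_eq_one_iff.mp hi)
    have h2 : 3 ∣ orderOf (π g) := by rw [hi]; exact dvd_pow_self 3 hi0
    exact h2.trans (Subgroup.orderOf_dvd_natCard _ hgbN)
  have h4N : 4 ∣ Nat.card (normalizer (Qb : Set (M ⧸ T))) := by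
    rw [← hQbcard]
    exact Subgroup.card_dvd_of_le Subgroup.le_normalizer
  have h12N : 12 ∣ Nat.card (normalizer (Qb : Set (M ⧸ T))) := by
    have hcop : Nat.Coprime 3 4 := by decide
    exact hcop.mul_dvd_of_dvd_of_dvd h3N h4N
  have hNtop : normalizer (Qb : Set (M ⧸ T)) = ⊤ := by
    apply Subgroup.eq_top_of_card_eq
    apply Nat.dvd_antisymm (Subgroup.card_subgroup_dvd_card _)
    exact hcardq.trans h12N
  have hQbn : Qb.Normal := Subgroup.normalizer_eq_top_iff.mp hNtop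
  refine ⟨T, hTn, hT3, ?_⟩
  intro w v hv hodd
  have hπk : π (w * v * w⁻¹ * v⁻¹) ∈ Qb := by
    have hv' : π v ∈ Qb := Subgroup.mem_map_of_mem π hv
    have : π (w * v * w⁻¹ * v⁻¹) = π w * π v * (π w)⁻¹ * (π v)⁻¹ := by
      simp only [map_mul, map_inv]
    rw [this]
    exact Qb.mul_mem (hQbn.conj_mem _ hv' _) (Qb.inv_mem hv')
  have h1 : orderOf (π (w * v * w⁻¹ * v⁻¹)) ∣ orderOf (w * v * w⁻¹ * v⁻¹) := orderOf_map_dvd _ _
  have h2 : orderOf (π (w * v * w⁻¹ * v⁻¹)) ∣ 4 := by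
    rw [← hQbcard]; exact Subgroup.orderOf_dvd_natCard _ hπk
  have h3 : Odd (orderOf (π (w * v * w⁻¹ * v⁻¹))) := Odd.of_dvd_nat hodd h1
  have h4 : orderOf (π (w * v * w⁻¹ * v⁻¹)) = 1 := by
    have hle : orderOf (π (w * v * w⁻¹ * v⁻¹)) ≤ 4 := Nat.le_of_dvd (by norm_num) h2
    rcases h3 with ⟨k, hk⟩
    interval_cases h : orderOf (π (w * v * w⁻¹ * v⁻¹)) <;> omega
  have h5 : π (w * v * w⁻¹ * v⁻¹) = 1 := orderOf_eq_one_iff.mp h4
  rw [← hker]
  exact h5

end Cfsg.Agent.Lib.Helper17.MIXP0NEa
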