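import Mathlib
import Cfsg.Prelude.Def_Local
import Cfsg.Agent.Lib.Helper26.MixDefs
import Cfsg.Agent.Lib.Helper8.AbInvA

/-!
# S4017 leaf MIX-STAR (helper17): `star_of_ih`

The induction hypothesis applied to a proper subgroup `L` of order divisible by `q` which is not a `q`-group.
-/

set_option autoImplicit false

namespace Cfsg.Agent.Lib.Helper17.MIXSTAR

open Cfsg Cfsg.Agent.Lib.Helper26.Mix

universe u

section mix

variable {G : Type u} [Group G] [Finite G] {p q : ℕ}

/-- the hypotheses pass to a proper subgroup of mixed order -/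
theorem hyp_subgroup (h : Hyp G p q) (L : Subgroup G) (hL : L ≠ ⊤)
    (hqL : q ∣ Nat.card L) (hnq : ¬ IsPGroup q L) : Hyp ↥L p q := by
  have hq := h.hq
  have hcardG : Nat.card G ≠ 0 := Nat.card_pos.ne'
  have hcardL : Nat.card L ≠ 0 := Nat.card_pos.ne'
  have hdvd : Nat.card L ∣ Nat.card G := Subgroup.card_subgroup_dvd_card L
  have hfact : (Nat.card L).factorization q ≤ (Nat.card G).factorization q :=
    (Nat.factorization_le_iff_dvd hcardL hcardG).mpr hdvd q
  refine ⟨h.hp, h.hq, h.hpq, h.hp2, h.hmix L hL hnq hqL, hqL, ?_, ?_⟩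
  · -- hmix
    intro H hH hHq hqH
    have hcard : Nat.card (H.map L.subtype) = Nat.card H :=
      Subgroup.card_map_of_injective L.subtype_injective
    have hne : H.map L.subtype ≠ ⊤ := by
      intro htop
      apply hL
      rw [eq_top_iff, ← htop]
      exact Subgroup.map_subtype_le H
    have hnq' : ¬ IsPGroup q ↥(H.map L.subtype) := by
      intro hp'
      apply hHq
      have hqf : Fact q.Prime := ⟨hq⟩
      exact IsPGroup.iff_card.mpr (by
        obtain ⟨n, hn⟩ := IsPGroup.iff_card.mp hp'
        exact ⟨n, by rw [← hcard, hn]⟩)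
    have := h.hmix (H.map L.subtype) hne hnq' (by rw [hcard]; exact hqH)
    rwa [hcard] at this
  · -- hlarge
    have hpow_le : q ^ (Nat.card L).factorization q ≤ q ^ (Nat.card G).factorization q :=
      Nat.pow_le_pow_right hq.pos hfact
    rcases h.hlarge with h1 | ⟨h1, h2⟩
    · left
      omega
    · rcases Nat.lt_or_ge ((Nat.card L).factorization q) ((Nat.card G).factorization q) with hlt | hge
      · left
        have h3 : q ^ (Nat.card L).factorization q < q ^ (Nat.card G).factorization q :=
          Nat.pow_lt_pow_right hq.one_lt hlt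
        have h4 : 0 < q ^ (Nat.card L).factorization q := Nat.pos_of_ne_zero (pow_ne_zero _ hq.ne_zero)
        omega
      · right
        have heq : (Nat.card L).factorization q = (Nat.card G).factorization q :=
          le_antisymm hfact hge
        refine ⟨by rw [heq]; exact h1, ?_⟩
        intro P
        have hp : Fact p.Prime := ⟨h.hp⟩
        have hPp : IsPGroup p ↥((P : Subgroup L).map L.subtype) := P.isPGroup'.map _
        obtain ⟨S, hS⟩ := hPp.exists_le_sylow
        have hSab := h2 S
        refine ⟨⟨fun x y => ?_⟩⟩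
        have hx : ((x : L) : G) ∈ (S : Subgroup G) := hS ⟨(x : L), x.2, rfl⟩
        have hy : ((y : L) : G) ∈ (S : Subgroup G) := hS ⟨(y : L), y.2, rfl⟩
        have h5 := hSab.is_comm.comm (⟨_, hx⟩ : S) ⟨_, hy⟩
        have h6 : ((x : L) : G) * ((y : L) : G) = ((y : L) : G) * ((x : L) : G) :=
          congrArg Subtype.val h5
        apply Subtype.ext
        apply Subtype.ext
        exact h6

/-- STAR : by the induction hypothesis every proper subgroup of order divisible by `q` which is not a
`q`-group is a `{p,q}`-group.  (`Hyp ↥L p q`: hmix via `Subgroup.map L.subtype`; hlarge: `|L|_q ≤ |G|_q`.) -/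
theorem star_of_ih (h : Hyp G p q) (ih : IH.{u} p q (Nat.card G)) (L : Subgroup G) (hL : L ≠ ⊤)
    (hqL : q ∣ Nat.card L) (hnq : ¬ IsPGroup q L) :
    ∀ s : ℕ, s.Prime → s ∣ Nat.card L → s = p ∨ s = q := by
  have hlt : Nat.card L < Nat.card G :=
    lt_of_le_of_ne (Subgroup.card_le_card_group L) (fun h => hL (Subgroup.eq_top_of_card_eq L h))
  exact ih ↥L hlt (hyp_subgroup h L hL hqL hnq)

end mix

end Cfsg.Agent.Lib.Helper17.MIXSTAR
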