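/-
helper17: leaves for helper27's S2140 (minimal index of `PSL_n(q)`), common part:
the abelian group `E = {T a e_{j1} * T b e_{j2} : a, b supported off {j1, j2}}` and its fixed points
in the regular case `RHyp`.
-/
import Cfsg.Agent.Lib.Helper27.MinDegB

set_option autoImplicit false
set_option linter.unusedSectionVars false

namespace Cfsg.Agent.Lib.Helper17.MinDegLeaf

open Matrix Cfsg.Agent.Lib.Helper27.MinDeg

variable {ι : Type*} [Fintype ι] [DecidableEq ι] {F : Type*} [Field F]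

/-- the indices different from `j1` and `j2` -/
abbrev Off (j1 j2 : ι) : Type _ := {i : ι // i ≠ j1 ∧ i ≠ j2}

theorem card_Off {j1 j2 : ι} (h : j1 ≠ j2) :
    Fintype.card (Off j1 j2) = Fintype.card ι - 2 := by
  rw [Fintype.card_subtype]
  have : (Finset.univ.filter fun i : ι => i ≠ j1 ∧ i ≠ j2) = (Finset.univ.erase j1).erase j2 := by
    ext i
    simp [and_comm]
  rw [this, Finset.card_erase_of_mem, Finset.card_erase_of_mem (Finset.mem_univ _),
    Finset.card_univ]
  · rfl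
  · simp [h.symm]

variable {j1 j2 : ι}

/-- extension by zero -/
def ext0 (g : Off j1 j2 → F) : ι → F :=
  fun i => if h : i ≠ j1 ∧ i ≠ j2 then g ⟨i, h⟩ else 0

theorem ext0_off (g : Off j1 j2 → F) (s : Off j1 j2) : ext0 g s.1 = g s := by
  rw [ext0, dif_pos s.2]

theorem ext0_j1 (g : Off j1 j2 → F) : ext0 g j1 = 0 := by
  simp [ext0]

theorem ext0_j2 (g : Off j1 j2 → F) : ext0 g j2 = 0 := by
  simp [ext0]

theorem ext0_add (g g' : Off j1 j2 → F) : ext0 (g + g') = ext0 g + ext0 g' := by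
  funext i
  by_cases h : i ≠ j1 ∧ i ≠ j2 <;> simp [ext0, h]

theorem ext0_smul (c : F) (g : Off j1 j2 → F) : ext0 (c • g) = c • ext0 g := by
  funext i
  by_cases h : i ≠ j1 ∧ i ≠ j2 <;> simp [ext0, h]

theorem ext0_zero : ext0 (0 : Off j1 j2 → F) = 0 := by
  funext i
  by_cases h : i ≠ j1 ∧ i ≠ j2 <;> simp [ext0, h]

theorem ext0_neg (g : Off j1 j2 → F) : ext0 (-g) = -ext0 g := by
  funext i
  by_cases h : i ≠ j1 ∧ i ≠ j2 <;> simp [ext0, h]

theorem ext0_sub (g g' : Off j1 j2 → F) : ext0 (g - g') = ext0 g - ext0 g' := by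
  rw [sub_eq_add_neg, ext0_add, ext0_neg, sub_eq_add_neg]

theorem ext0_injective : Function.Injective (ext0 : (Off j1 j2 → F) → ι → F) := by
  intro g g' e
  funext s
  rw [← ext0_off g s, e, ext0_off]

theorem ext0_eq_zero {g : Off j1 j2 → F} : ext0 g = 0 ↔ g = 0 := by
  constructor
  · intro h
    apply ext0_injective
    rw [h, ext0_zero]
  · rintro rfl
    exact ext0_zero

theorem eq_ext0 {v : ι → F} (h1 : v j1 = 0) (h2 : v j2 = 0) :
    v = ext0 (fun s : Off j1 j2 => v s.1) := by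
  funext i
  by_cases h : i ≠ j1 ∧ i ≠ j2
  · simp [ext0, h]
  · rw [ext0, dif_neg h]
    rw [not_and_or, not_not, not_not] at h
    rcases h with rfl | rfl
    · exact h1
    · exact h2

theorem single1_dot_ext0 (g : Off j1 j2 → F) : (Pi.single j1 (1 : F)) ⬝ᵥ ext0 g = 0 := by
  rw [single_one_dotProduct, ext0_j1]

theorem single2_dot_ext0 (g : Off j1 j2 → F) : (Pi.single j2 (1 : F)) ⬝ᵥ ext0 g = 0 := by
  rw [single_one_dotProduct, ext0_j2]

/-- the elements of the group `E` -/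
noncomputable def XE (g h : Off j1 j2 → F) : Matrix.SpecialLinearGroup ι F :=
  T (ext0 g) (Pi.single j1 1) * T (ext0 h) (Pi.single j2 1)

theorem XE_coe (g h : Off j1 j2 → F) :
    ((XE g h : Matrix.SpecialLinearGroup ι F) : Matrix ι ι F) =
      1 + vecMulVec (ext0 g) (Pi.single j1 1) + vecMulVec (ext0 h) (Pi.single j2 1) := by
  rw [XE, Matrix.SpecialLinearGroup.coe_mul, T_coe (single1_dot_ext0 g), T_coe (single2_dot_ext0 h),
    add_mul, mul_add, mul_add, one_mul, mul_one, one_mul, vecMulVec_mul_vecMulVec,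
    single1_dot_ext0, zero_smul, vecMulVec_zero, add_zero]
  abel

theorem XE_mulVec (g h : Off j1 j2 → F) (v : ι → F) :
    ((XE g h : Matrix.SpecialLinearGroup ι F) : Matrix ι ι F) *ᵥ v =
      v + v j1 • ext0 g + v j2 • ext0 h := by
  rw [XE_coe, add_mulVec, add_mulVec, one_mulVec, vecMulVec_mulVec, vecMulVec_mulVec,
    op_smul_eq_smul, op_smul_eq_smul, single_one_dotProduct, single_one_dotProduct]

theorem vecMul_XE (g h : Off j1 j2 → F) (φ : ι → F) :
    φ ᵥ* ((XE g h : Matrix.SpecialLinearGroup ι F) : Matrix ι ι F) =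
      φ + (φ ⬝ᵥ ext0 g) • Pi.single j1 1 + (φ ⬝ᵥ ext0 h) • Pi.single j2 1 := by
  rw [XE_coe, vecMul_add, vecMul_add, vecMul_one, vecMul_vecMulVec, vecMul_vecMulVec]

theorem XE_add (g h g' h' : Off j1 j2 → F) : XE (g + g') (h + h') = XE g h * XE g' h' := by
  apply sl_ext
  rw [Matrix.SpecialLinearGroup.coe_mul, XE_coe, XE_coe, XE_coe]
  simp only [add_mul, mul_add, one_mul, mul_one, vecMulVec_mul_vecMulVec, single1_dot_ext0,
    single2_dot_ext0, zero_smul, vecMulVec_zero, add_zero, ext0_add, add_vecMulVec]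
  abel

theorem XE_zero : XE (0 : Off j1 j2 → F) 0 = 1 := by
  rw [XE, ext0_zero, T_zero_left, T_zero_left, one_mul]

theorem XE_comm (g h g' h' : Off j1 j2 → F) : XE g h * XE g' h' = XE g' h' * XE g h := by
  rw [← XE_add, ← XE_add, add_comm g, add_comm h]

theorem XE_sub_smul {Ω : Type*} [MulAction (Matrix.SpecialLinearGroup ι F) Ω]
    (g h g' h' : Off j1 j2 → F) (ω : Ω) :
    XE (g - g') (h - h') • (XE g' h' • ω) = XE g h • ω := by
  rw [← mul_smul, ← XE_add, sub_add_cancel, sub_add_cancel]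

theorem XE_dep (g : Off j1 j2 → F) (t : F) :
    XE g (t • g) = T (ext0 g) (Pi.single j1 1 + t • Pi.single j2 1) := by
  have h0 : (Pi.single j1 (1 : F) + t • Pi.single j2 1) ⬝ᵥ ext0 g = 0 := by
    rw [add_dotProduct, smul_dotProduct, single1_dot_ext0, single2_dot_ext0, smul_zero, add_zero]
  apply sl_ext
  rw [XE_coe, T_coe h0, vecMulVec_add, ext0_smul, smul_vecMulVec, vecMulVec_smul, add_assoc]

theorem XE_zero_left (h : Off j1 j2 → F) : XE 0 h = T (ext0 h) (Pi.single j2 1) := by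
  rw [XE, ext0_zero, T_zero_left, one_mul]

section action

variable {Ω : Type*} [MulAction (Matrix.SpecialLinearGroup ι F) Ω] [Finite F] [Finite Ω]

theorem XE_no_fix_dep (hR : RHyp ι F Ω) (hj : j1 ≠ j2) {g : Off j1 j2 → F} (hg : g ≠ 0) (t : F)
    (ω : Ω) : XE g (t • g) • ω ≠ ω := by
  intro e
  rw [XE_dep] at e
  have h0 : (Pi.single j1 (1 : F) + t • Pi.single j2 1) ⬝ᵥ ext0 g = 0 := by
    rw [add_dotProduct, smul_dotProduct, single1_dot_ext0, single2_dot_ext0, smul_zero, add_zero]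
  have hf : (Pi.single j1 (1 : F) + t • Pi.single j2 1 : ι → F) ≠ 0 := by
    intro h
    have := congrFun h j1
    simp [hj] at this
  exact hg (ext0_eq_zero.1 (hR.free _ _ ω h0 hf e))

theorem XE_no_fix_zero (hR : RHyp ι F Ω) {h : Off j1 j2 → F} (hh : h ≠ 0)
    (ω : Ω) : XE 0 h • ω ≠ ω := by
  intro e
  rw [XE_zero_left] at e
  have hf : (Pi.single j2 (1 : F) : ι → F) ≠ 0 := by
    intro h
    have := congrFun h j2
    simp at this
  exact hh (ext0_eq_zero.1 (hR.free _ _ ω (single2_dot_ext0 h) hf e))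

/-- torsor count: an element of `E` with `g ≠ 0` fixing a point has exactly `q^(n-2)` fixed points. -/
theorem XE_card_fixedBy (hR : RHyp ι F Ω) (hj : j1 ≠ j2) {g h : Off j1 j2 → F} (hg : g ≠ 0)
    {ω : Ω} (hω : XE g h • ω = ω) :
    Nat.card (MulAction.fixedBy Ω (XE g h)) = Nat.card F ^ (Fintype.card ι - 2) := by
  have hf : (Pi.single j2 (1 : F) : ι → F) ≠ 0 := by
    intro h
    have := congrFun h j2
    simp at this
  have hlam : (Pi.single j2 (1 : F) : ι → F) ᵥ*
      ((XE g h : Matrix.SpecialLinearGroup ι F) : Matrix ι ι F) = (1 : F) • Pi.single j2 1 := by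
    rw [vecMul_XE, single2_dot_ext0, single2_dot_ext0, zero_smul, zero_smul, add_zero, add_zero,
      one_smul]
  rw [hR.card_fixedBy hω hf hlam, ← card_Off hj, ← Nat.card_eq_fintype_card (α := Off j1 j2),
    ← Nat.card_fun]
  symm
  have key : ∀ v : ι → F, (Pi.single j2 (1 : F) ⬝ᵥ v = 0 ∧
      ((XE g h : Matrix.SpecialLinearGroup ι F) : Matrix ι ι F) *ᵥ v = (1 : F) • v) ↔
      (v j1 = 0 ∧ v j2 = 0) := by
    intro v
    rw [single_one_dotProduct, XE_mulVec, one_smul]
    constructor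
    · rintro ⟨h2, e⟩
      refine ⟨?_, h2⟩
      rw [h2, zero_smul, add_zero, add_eq_left] at e
      by_contra h1
      apply hg
      apply ext0_eq_zero.1
      have := congrArg (fun x => (v j1)⁻¹ • x) e
      simpa [smul_smul, inv_mul_cancel₀ h1] using this
    · rintro ⟨h1, h2⟩
      refine ⟨h2, ?_⟩
      rw [h1, h2, zero_smul, zero_smul, add_zero, add_zero]
  refine Nat.card_congr (Equiv.ofBijective
    (fun φ : Off j1 j2 → F => (⟨ext0 φ, (key _).2 ⟨ext0_j1 φ, ext0_j2 φ⟩⟩ :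
      {v : ι → F // Pi.single j2 (1 : F) ⬝ᵥ v = 0 ∧
        ((XE g h : Matrix.SpecialLinearGroup ι F) : Matrix ι ι F) *ᵥ v = (1 : F) • v})) ⟨?_, ?_⟩)
  · intro φ ψ e
    exact ext0_injective (congrArg Subtype.val e)
  · rintro ⟨v, hv⟩
    obtain ⟨h1, h2⟩ := (key v).1 hv
    exact ⟨fun s => v s.1, Subtype.ext (eq_ext0 h1 h2).symm⟩

end action

end Cfsg.Agent.Lib.Helper17.MinDegLeaf
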