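/-
helper17: leaf `R5` for helper27's S2140 (minimal index of `PSL_n(q)`): the regular case is
impossible for `n ≥ 5`.
-/
import Cfsg.Agent.Lib.Helper17.MinDegE

set_option autoImplicit false
set_option linter.unusedSectionVars false

namespace Cfsg.Agent.Lib.Helper17.MinDegLeaf

open Matrix Cfsg.Agent.Lib.Helper27.MinDeg

variable {ι : Type*} [Fintype ι] [DecidableEq ι] {F : Type*} [Field F] [Finite F] {Ω : Type*}
  [MulAction (Matrix.SpecialLinearGroup ι F) Ω] [Finite Ω]

/-- pigeonhole: `|E| = q^(2(n-2)) > q^(n-1) = |Ω|`, so some nontrivial element of `E` fixes a point. -/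
theorem exists_XE_fix (hR : RHyp ι F Ω) (h4 : 4 ≤ Fintype.card ι) {j1 j2 : ι} (hj : j1 ≠ j2) :
    ∃ (g h : Off j1 j2 → F) (ω : Ω), (g ≠ 0 ∨ h ≠ 0) ∧ XE g h • ω = ω := by
  have hq : 2 ≤ Nat.card F := by
    have : Nontrivial F := inferInstance
    exact Finite.one_lt_card
  have hΩ : Nonempty Ω := by
    have : 0 < Nat.card Ω := by
      rw [hR.card]; positivity
    exact (Nat.card_pos_iff.1 this).1
  obtain ⟨ω0⟩ := hΩ
  have hni : ¬ Function.Injective
      (fun p : (Off j1 j2 → F) × (Off j1 j2 → F) => XE p.1 p.2 • ω0) := by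
    intro hinj
    have h1 := Nat.card_le_card_of_injective _ hinj
    rw [Nat.card_prod, Nat.card_fun, Nat.card_eq_fintype_card (α := Off j1 j2), card_Off hj,
      hR.card, ← pow_add] at h1
    have h2 : Fintype.card ι - 1 < Fintype.card ι - 2 + (Fintype.card ι - 2) := by omega
    have := Nat.pow_lt_pow_right (a := Nat.card F) (by omega) h2
    omega
  rw [Function.not_injective_iff] at hni
  obtain ⟨⟨g, h⟩, ⟨g', h'⟩, e, hne⟩ := hni
  simp only at e
  refine ⟨g - g', h - h', XE g' h' • ω0, ?_, ?_⟩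
  · by_contra hc
    rw [not_or, not_not, not_not, sub_eq_zero, sub_eq_zero] at hc
    exact hne (by rw [hc.1, hc.2])
  · rw [XE_sub_smul, e]

variable {j1 j2 : ι}

theorem XE_no_fix_indep (hR : RHyp ι F Ω) (h5 : 5 ≤ Fintype.card ι) (hj : j1 ≠ j2)
    {g h : Off j1 j2 → F} (hh : ∀ t : F, h ≠ t • g) (ω : Ω) : XE g h • ω ≠ ω := by
  -- a functional off `{j1, j2}` killing `g` and `h`
  let L : (Off j1 j2 → F) →ₗ[F] (Fin 2 → F) :=
    { toFun := fun φ => ![ext0 φ ⬝ᵥ ext0 g, ext0 φ ⬝ᵥ ext0 h]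
      map_add' := by
        intro φ ψ
        rw [ext0_add, add_dotProduct, add_dotProduct]
        funext k
        fin_cases k <;> simp
      map_smul' := by
        intro c φ
        rw [ext0_smul, smul_dotProduct, smul_dotProduct]
        funext k
        fin_cases k <;> simp }
  have hL : LinearMap.ker L ≠ ⊥ := by
    apply LinearMap.ker_ne_bot_of_finrank_lt
    rw [Module.finrank_fintype_fun_eq_card, Module.finrank_fintype_fun_eq_card, card_Off hj,
      Fintype.card_fin]
    omega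
  obtain ⟨φ, hφ, hφ0⟩ := Submodule.exists_mem_ne_zero_of_ne_bot hL
  rw [LinearMap.mem_ker] at hφ
  have hφg : ext0 φ ⬝ᵥ ext0 g = 0 := by
    have := congrFun hφ 0
    simpa [L] using this
  have hφh : ext0 φ ⬝ᵥ ext0 h = 0 := by
    have := congrFun hφ 1
    simpa [L] using this
  obtain ⟨s, hs⟩ := Function.ne_iff.1 hφ0
  have hf2 : (Pi.single j2 (1 : F) : ι → F) ≠ 0 := by
    intro h
    have := congrFun h j2
    simp at this
  have hf1 : (ext0 φ : ι → F) ≠ 0 := fun h => hφ0 (ext0_eq_zero.1 h)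
  have hlam1 : (ext0 φ : ι → F) ᵥ*
      ((XE g h : Matrix.SpecialLinearGroup ι F) : Matrix ι ι F) = (1 : F) • ext0 φ := by
    rw [vecMul_XE, hφg, hφh, zero_smul, zero_smul, add_zero, add_zero, one_smul]
  have hlam2 : (Pi.single j2 (1 : F) : ι → F) ᵥ*
      ((XE g h : Matrix.SpecialLinearGroup ι F) : Matrix ι ι F) = (1 : F) • Pi.single j2 1 := by
    rw [vecMul_XE, single2_dot_ext0, single2_dot_ext0, zero_smul, zero_smul, add_zero, add_zero,
      one_smul]
  refine hR.no_fixed hf1 hf2 hlam1 hlam2 ?_ (Pi.single s.1 1) ?_ ?_ ?_ ω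
  · intro v _ hv
    refine ⟨?_, hv⟩
    rw [single_one_dotProduct]
    rw [XE_mulVec, one_smul, add_assoc, add_eq_left] at hv
    by_contra h2
    apply hh (-(v j2)⁻¹ * v j1)
    apply ext0_injective
    rw [ext0_smul]
    have e1 : v j2 • ext0 h = -(v j1 • ext0 g) := eq_neg_of_add_eq_zero_right hv
    have := congrArg (fun x => (v j2)⁻¹ • x) e1
    simp only [smul_smul, inv_mul_cancel₀ h2, one_smul, smul_neg] at this
    rw [this, neg_mul, neg_smul]
  · rw [single_one_dotProduct, Pi.single_eq_of_ne s.2.2.symm]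
  · rw [XE_mulVec, one_smul, Pi.single_eq_of_ne s.2.1.symm, Pi.single_eq_of_ne s.2.2.symm,
      zero_smul, zero_smul, add_zero, add_zero]
  · rintro ⟨h1, _⟩
    rw [dotProduct_single_one, ext0_off] at h1
    exact hs h1

/-- **leaf R5**: the regular case is impossible for `n ≥ 5`. -/
theorem R5 (h : RHyp ι F Ω) (hn : 5 ≤ Fintype.card ι) : False := by
  obtain ⟨j1, j2, hj⟩ := Fintype.exists_pair_of_one_lt_card (α := ι) (by omega)
  obtain ⟨g, k, ω, hne, hω⟩ := exists_XE_fix h (by omega) hj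
  by_cases hg : g = 0
  · subst hg
    rcases hne with hne | hne
    · exact hne rfl
    · exact XE_no_fix_zero h hne ω hω
  · by_cases hk : ∃ t : F, k = t • g
    · obtain ⟨t, rfl⟩ := hk
      exact XE_no_fix_dep h hj hg t ω hω
    · rw [not_exists] at hk
      exact XE_no_fix_indep h hn hj hk ω hω

end Cfsg.Agent.Lib.Helper17.MinDegLeaf
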