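/-
helper17: leaf `R43` for helper27's S2140 (minimal index of `PSL_n(q)`): the regular case is
impossible for `n = 4`, `q = 3`.
-/
import Cfsg.Agent.Lib.Helper17.MinDegR5

set_option autoImplicit false
set_option linter.unusedSectionVars false

namespace Cfsg.Agent.Lib.Helper17.MinDegLeaf

open Matrix Cfsg.Agent.Lib.Helper27.MinDeg

section rowred

variable {K : Type*} [Field K]

theorem rowred_aux (P : K → K → K → K → Prop)
    (h1 : ∀ t a1 a2 b1 b2, P a1 a2 b1 b2 → P (a1 + t * a2) a2 (b1 + t * b2) b2)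
    (h2 : ∀ t a1 a2 b1 b2, P a1 a2 b1 b2 → P a1 (a2 + t * a1) b1 (b2 + t * b1))
    {a1 a2 b1 b2 : K} (ha2 : a2 ≠ 0) (hd : a1 * b2 - a2 * b1 ≠ 0) (hP : P a1 a2 b1 b2) (c : K) :
    P 1 c 0 (a1 * b2 - a2 * b1) := by
  have s1 : P 1 a2 (b1 + (1 - a1) / a2 * b2) b2 := by
    have := h1 ((1 - a1) / a2) _ _ _ _ hP
    rwa [show a1 + (1 - a1) / a2 * a2 = 1 by field_simp; ring] at this
  have s2 : P 1 0 (b1 + (1 - a1) / a2 * b2) (a1 * b2 - a2 * b1) := by
    have := h2 (-a2) _ _ _ _ s1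
    rwa [show a2 + -a2 * 1 = 0 by ring,
      show b2 + -a2 * (b1 + (1 - a1) / a2 * b2) = a1 * b2 - a2 * b1 by field_simp; ring] at this
  have s3 : P 1 0 0 (a1 * b2 - a2 * b1) := by
    have := h1 (-(b1 + (1 - a1) / a2 * b2) / (a1 * b2 - a2 * b1)) _ _ _ _ s2
    have aux : ∀ B D : K, D ≠ 0 → B + -B / D * D = 0 := by
      intro B D hD
      rw [div_mul_cancel₀ _ hD, add_neg_cancel]
    rwa [show (1 : K) + -(b1 + (1 - a1) / a2 * b2) / (a1 * b2 - a2 * b1) * 0 = 1 by ring,
      aux _ _ hd] at this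
  have := h2 c _ _ _ _ s3
  rwa [show (0 : K) + c * 1 = c by ring,
    show a1 * b2 - a2 * b1 + c * 0 = a1 * b2 - a2 * b1 by ring] at this

theorem rowred (P : K → K → K → K → Prop)
    (h1 : ∀ t a1 a2 b1 b2, P a1 a2 b1 b2 → P (a1 + t * a2) a2 (b1 + t * b2) b2)
    (h2 : ∀ t a1 a2 b1 b2, P a1 a2 b1 b2 → P a1 (a2 + t * a1) b1 (b2 + t * b1))
    {a1 a2 b1 b2 : K} (hd : a1 * b2 - a2 * b1 ≠ 0) (hP : P a1 a2 b1 b2) (c : K) :
    P 1 c 0 (a1 * b2 - a2 * b1) := by
  by_cases ha2 : a2 = 0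
  · have ha1 : a1 ≠ 0 := by
      rintro rfl
      apply hd
      rw [ha2]
      ring
    have s := h2 1 _ _ _ _ hP
    have e : a1 * (b2 + 1 * b1) - (a2 + 1 * a1) * b1 = a1 * b2 - a2 * b1 := by ring
    have := rowred_aux P h1 h2 (a1 := a1) (a2 := a2 + 1 * a1) (b1 := b1) (b2 := b2 + 1 * b1)
      (by rw [ha2, zero_add, one_mul]; exact ha1) (by rw [e]; exact hd) s c
    rwa [e] at this
  · exact rowred_aux P h1 h2 ha2 hd hP c

end rowred

theorem conj_fix {G Ω : Type*} [Group G] [MulAction G Ω] (c x : G) (ω : Ω) (h : x • ω = ω) :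
    (c * x * c⁻¹) • (c • ω) = c • ω := by
  rw [← mul_smul, inv_mul_cancel_right, mul_smul, h]

variable {ι : Type*} [Fintype ι] [DecidableEq ι] {F : Type*} [Field F]

theorem F3_three [Finite F] (hq : Nat.card F = 3) : (3 : F) = 0 := by
  have := Fintype.ofFinite F
  have h := Nat.cast_card_eq_zero F
  rw [← Nat.card_eq_fintype_card, hq] at h
  exact_mod_cast h

theorem F3_cases [Finite F] (hq : Nat.card F = 3) (x : F) : x = 0 ∨ x = 1 ∨ x = -1 := by
  have := Fintype.ofFinite F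
  have h := FiniteField.pow_card x
  rw [← Nat.card_eq_fintype_card, hq] at h
  have : x * (x - 1) * (x + 1) = 0 := by linear_combination h
  rcases mul_eq_zero.1 this with h | h
  · rcases mul_eq_zero.1 h with h | h
    · exact Or.inl h
    · exact Or.inr (Or.inl (sub_eq_zero.1 h))
  · exact Or.inr (Or.inr (eq_neg_of_add_eq_zero_left h))

variable {j1 j2 : ι}

theorem ext0_single (s : Off j1 j2) (c : F) :
    ext0 (Pi.single s c : Off j1 j2 → F) = Pi.single s.1 c := by
  funext i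
  by_cases h : i ≠ j1 ∧ i ≠ j2
  · rw [ext0, dif_pos h]
    by_cases e : i = s.1
    · subst e
      simp
    · rw [Pi.single_eq_of_ne e, Pi.single_eq_of_ne]
      intro h'
      exact e (congrArg Subtype.val h')
  · rw [ext0, dif_neg h, Pi.single_eq_of_ne]
    rintro rfl
    exact h s.2

/-- conjugating `E` by an elementary transvection of the complement of `{j1, j2}` -/
theorem XE_conj_elem {s s' : Off j1 j2} (hs : s ≠ s') (t : F) (g h : Off j1 j2 → F) :
    T (Pi.single s.1 t) (Pi.single s'.1 (1 : F)) * XE g h *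
        (T (Pi.single s.1 t) (Pi.single s'.1 (1 : F)))⁻¹ =
      XE (g + g s' • Pi.single s t) (h + h s' • Pi.single s t) := by
  have hne : s'.1 ≠ s.1 := fun e => hs (Subtype.ext e.symm)
  have h0 : (Pi.single s'.1 (1 : F) : ι → F) ⬝ᵥ Pi.single s.1 t = 0 := by
    rw [single_one_dotProduct, Pi.single_eq_of_ne hne]
  have h0' : (Pi.single s'.1 (1 : F) : ι → F) ⬝ᵥ (-(Pi.single s.1 t)) = 0 := by
    rw [dotProduct_neg, h0, neg_zero]
  have hinv : ∀ j : ι, j ≠ s.1 → (Pi.single j (1 : F) : ι → F) ᵥ*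
      (((T (Pi.single s.1 t) (Pi.single s'.1 (1 : F)))⁻¹ : Matrix.SpecialLinearGroup ι F) :
        Matrix ι ι F) = Pi.single j 1 := by
    intro j hj
    rw [← T_neg h0, vecMul_T h0', single_one_dotProduct, Pi.neg_apply, Pi.single_eq_of_ne hj,
      neg_zero, zero_smul, add_zero]
  have hmv : ∀ k : Off j1 j2 → F,
      ((T (Pi.single s.1 t) (Pi.single s'.1 (1 : F)) : Matrix.SpecialLinearGroup ι F) :
        Matrix ι ι F) *ᵥ ext0 k = ext0 (k + k s' • Pi.single s t) := by
    intro k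
    rw [T_mulVec h0, single_one_dotProduct, ext0_off, ext0_add, ext0_smul, ext0_single]
  have hgrp : ∀ A B C : Matrix.SpecialLinearGroup ι F,
      C * (A * B) * C⁻¹ = (C * A * C⁻¹) * (C * B * C⁻¹) := by
    intro A B C
    group
  rw [XE, hgrp, conj_T, conj_T, hmv, hmv, hinv j1 s.2.1.symm, hinv j2 s.2.2.symm]
  rfl

section two

variable {i1 i2 : Off j1 j2}

/-- the vector with coordinates `(x, y)` w.r.t. `i1, i2` -/
def vec2 (i1 : Off j1 j2) (x y : F) : Off j1 j2 → F := fun s => if s = i1 then x else y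

theorem vec2_i1 (x y : F) : vec2 i1 x y i1 = x := by
  simp [vec2]

theorem vec2_i2 (h12 : i1 ≠ i2) (x y : F) : vec2 i1 x y i2 = y := by
  simp [vec2, h12.symm]

theorem eq_vec2 (h12 : i1 ≠ i2) (hex : ∀ s : Off j1 j2, s = i1 ∨ s = i2) (g : Off j1 j2 → F) :
    g = vec2 i1 (g i1) (g i2) := by
  funext s
  rcases hex s with rfl | rfl
  · rw [vec2_i1]
  · rw [vec2_i2 h12]

theorem vec2_ext (h12 : i1 ≠ i2) (hex : ∀ s : Off j1 j2, s = i1 ∨ s = i2) {g : Off j1 j2 → F}
    {x y : F} (h1 : g i1 = x) (h2 : g i2 = y) : g = vec2 i1 x y := by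
  rw [eq_vec2 h12 hex g, h1, h2]

section action

variable {Ω : Type*} [MulAction (Matrix.SpecialLinearGroup ι F) Ω] [Finite F] [Finite Ω]

/-- singular nonzero elements of `E` are transvections, so have no fixed point -/
theorem nofix_of_det_zero (hR : RHyp ι F Ω) (hj : j1 ≠ j2) (h12 : i1 ≠ i2)
    (hex : ∀ s : Off j1 j2, s = i1 ∨ s = i2) {g h : Off j1 j2 → F} (hne : g ≠ 0 ∨ h ≠ 0)
    (hd : g i1 * h i2 - g i2 * h i1 = 0) (ω : Ω) : XE g h • ω ≠ ω := by
  by_cases hg : g = 0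
  · subst hg
    exact XE_no_fix_zero hR (hne.resolve_left (fun h => h rfl)) ω
  · have hex' : ∃ t : F, h = t • g := by
      have : g i1 ≠ 0 ∨ g i2 ≠ 0 := by
        by_contra hc
        rw [not_or, not_not, not_not] at hc
        apply hg
        funext s
        rcases hex s with rfl | rfl
        · exact hc.1
        · exact hc.2
      rcases this with h1 | h2
      · refine ⟨h i1 / g i1, ?_⟩
        funext s
        rcases hex s with rfl | rfl
        · simp only [Pi.smul_apply, smul_eq_mul]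
          field_simp
        · simp only [Pi.smul_apply, smul_eq_mul]
          field_simp
          linear_combination hd
      · refine ⟨h i2 / g i2, ?_⟩
        funext s
        rcases hex s with rfl | rfl
        · simp only [Pi.smul_apply, smul_eq_mul]
          field_simp
          linear_combination -hd
        · simp only [Pi.smul_apply, smul_eq_mul]
          field_simp
    obtain ⟨t, rfl⟩ := hex'
    exact XE_no_fix_dep hR hj hg t ω

/-- two independent elements of a point stabilizer in `E` produce elements with fixed points of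
both determinants (parallelogram identity for `det` on `2 × 2` matrices over `F_3`). -/
theorem both_of_pair (hR : RHyp ι F Ω) (hq : Nat.card F = 3) (hj : j1 ≠ j2) (h12 : i1 ≠ i2)
    (hex : ∀ s : Off j1 j2, s = i1 ∨ s = i2) {g h g' h' : Off j1 j2 → F} {y : Ω}
    (n1 : g ≠ 0 ∨ h ≠ 0) (n2 : g' ≠ 0 ∨ h' ≠ 0) (n3 : g + g' ≠ 0 ∨ h + h' ≠ 0)
    (n4 : g - g' ≠ 0 ∨ h - h' ≠ 0) (f1 : XE g h • y = y) (f2 : XE g' h' • y = y) :
    (∃ a b : Off j1 j2 → F, (∃ ω : Ω, XE a b • ω = ω) ∧ a i1 * b i2 - a i2 * b i1 = 1) ∧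
    (∃ a b : Off j1 j2 → F, (∃ ω : Ω, XE a b • ω = ω) ∧ a i1 * b i2 - a i2 * b i1 = -1) := by
  have f3 : XE (g + g') (h + h') • y = y := by rw [XE_add, mul_smul, f2, f1]
  have f4 : XE (g - g') (h - h') • y = y := by
    have := XE_sub_smul g h g' h' y
    rw [f2, f1] at this
    exact this
  have d1 : g i1 * h i2 - g i2 * h i1 ≠ 0 := fun e => nofix_of_det_zero hR hj h12 hex n1 e y f1
  have d2 : g' i1 * h' i2 - g' i2 * h' i1 ≠ 0 :=
    fun e => nofix_of_det_zero hR hj h12 hex n2 e y f2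
  have d3 : (g + g') i1 * (h + h') i2 - (g + g') i2 * (h + h') i1 ≠ 0 :=
    fun e => nofix_of_det_zero hR hj h12 hex n3 e y f3
  have d4 : (g - g') i1 * (h - h') i2 - (g - g') i2 * (h - h') i1 ≠ 0 :=
    fun e => nofix_of_det_zero hR hj h12 hex n4 e y f4
  have h3 := F3_three hq
  have hsum : (g i1 * h i2 - g i2 * h i1) + (g' i1 * h' i2 - g' i2 * h' i1) +
      ((g + g') i1 * (h + h') i2 - (g + g') i2 * (h + h') i1) +
      ((g - g') i1 * (h - h') i2 - (g - g') i2 * (h - h') i1) = 0 := by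
    simp only [Pi.add_apply, Pi.sub_apply]
    linear_combination ((g i1 * h i2 - g i2 * h i1) + (g' i1 * h' i2 - g' i2 * h' i1)) * h3
  constructor
  · by_contra hc
    rw [not_exists] at hc
    have hc' : ∀ a b : Off j1 j2 → F, (∃ ω : Ω, XE a b • ω = ω) →
        a i1 * b i2 - a i2 * b i1 ≠ 1 := by
      intro a b hab e
      exact hc a ⟨b, hab, e⟩
    have e1 := ((F3_cases hq _).resolve_left d1).resolve_left (hc' _ _ ⟨y, f1⟩)
    have e2 := ((F3_cases hq _).resolve_left d2).resolve_left (hc' _ _ ⟨y, f2⟩)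
    have e3 := ((F3_cases hq _).resolve_left d3).resolve_left (hc' _ _ ⟨y, f3⟩)
    have e4 := ((F3_cases hq _).resolve_left d4).resolve_left (hc' _ _ ⟨y, f4⟩)
    rw [e1, e2, e3, e4] at hsum
    have : (1 : F) = 0 := by linear_combination -hsum - h3
    exact one_ne_zero this
  · by_contra hc
    rw [not_exists] at hc
    have hc' : ∀ a b : Off j1 j2 → F, (∃ ω : Ω, XE a b • ω = ω) →
        a i1 * b i2 - a i2 * b i1 ≠ -1 := by
      intro a b hab e
      exact hc a ⟨b, hab, e⟩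
    have e1 := ((F3_cases hq _).resolve_left d1).resolve_right (hc' _ _ ⟨y, f1⟩)
    have e2 := ((F3_cases hq _).resolve_left d2).resolve_right (hc' _ _ ⟨y, f2⟩)
    have e3 := ((F3_cases hq _).resolve_left d3).resolve_right (hc' _ _ ⟨y, f3⟩)
    have e4 := ((F3_cases hq _).resolve_left d4).resolve_right (hc' _ _ ⟨y, f4⟩)
    rw [e1, e2, e3, e4] at hsum
    have : (1 : F) = 0 := by linear_combination hsum - h3
    exact one_ne_zero this

/-- some point stabilizer in `E` has more than three elements, so both determinants occur among the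
elements of `E` with fixed points. -/
theorem exists_both (hR : RHyp ι F Ω) (hn : Fintype.card ι = 4) (hq : Nat.card F = 3)
    (hj : j1 ≠ j2) (h12 : i1 ≠ i2) (hex : ∀ s : Off j1 j2, s = i1 ∨ s = i2) :
    (∃ a b : Off j1 j2 → F, (∃ ω : Ω, XE a b • ω = ω) ∧ a i1 * b i2 - a i2 * b i1 = 1) ∧
    (∃ a b : Off j1 j2 → F, (∃ ω : Ω, XE a b • ω = ω) ∧ a i1 * b i2 - a i2 * b i1 = -1) := by
  classical
  obtain ⟨g0, h0, ω0, hne0, hω0⟩ := exists_XE_fix hR (by omega) hj
  have hg0 : g0 ≠ 0 := by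
    rintro rfl
    exact XE_no_fix_zero hR (hne0.resolve_left (fun h => h rfl)) ω0 hω0
  have hcard := XE_card_fixedBy hR hj hg0 hω0
  rw [hq, hn] at hcard
  have := Fintype.ofFinite F
  have : Fintype (MulAction.fixedBy Ω (XE g0 h0)) := Fintype.ofFinite _
  have hF : Fintype.card F = 3 := by rw [← Nat.card_eq_fintype_card, hq]
  have hO : Fintype.card (MulAction.fixedBy Ω (XE g0 h0)) = 9 := by
    rw [← Nat.card_eq_fintype_card, hcard]
    norm_num
  let Φ : (Off j1 j2 → F) × (Off j1 j2 → F) → MulAction.fixedBy Ω (XE g0 h0) := fun p =>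
    ⟨XE p.1 p.2 • ω0, by
      rw [MulAction.mem_fixedBy, ← mul_smul, XE_comm, mul_smul, hω0]⟩
  have hlt : Fintype.card (MulAction.fixedBy Ω (XE g0 h0)) * 3 <
      Fintype.card ((Off j1 j2 → F) × (Off j1 j2 → F)) := by
    rw [hO, Fintype.card_prod, Fintype.card_fun, card_Off hj, hn, hF]
    norm_num
  obtain ⟨y, hy⟩ := Fintype.exists_lt_card_fiber_of_mul_lt_card Φ hlt
  rw [Finset.three_lt_card_iff] at hy
  obtain ⟨t0, t1, t2, t3, m0, m1, m2, m3, n01, n02, n03, n12, n13, n23⟩ := hy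
  simp only [Finset.mem_filter, Finset.mem_univ, true_and] at m0 m1 m2 m3
  have fk : ∀ t, Φ t = y → XE t.1 t.2 • ω0 = y.1 := fun t ht => congrArg Subtype.val ht
  have fix : ∀ t, Φ t = y → XE (t.1 - t0.1) (t.2 - t0.2) • y.1 = y.1 := by
    intro t ht
    have := XE_sub_smul t.1 t.2 t0.1 t0.2 ω0
    rw [fk t0 m0, fk t ht] at this
    exact this
  have nz : ∀ t : (Off j1 j2 → F) × (Off j1 j2 → F), t0 ≠ t →
      (t.1 - t0.1 ≠ 0 ∨ t.2 - t0.2 ≠ 0) := by
    intro t ht
    by_contra hc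
    rw [not_or, not_not, not_not, sub_eq_zero, sub_eq_zero] at hc
    exact ht (Prod.ext hc.1.symm hc.2.symm)
  -- a general step: `X = t1 - t0` and `Y = t - t0` with `Y ≠ ± X`
  have step : ∀ t : (Off j1 j2 → F) × (Off j1 j2 → F), Φ t = y → t0 ≠ t → t1 ≠ t →
      ¬ (t.1 - t0.1 = -(t1.1 - t0.1) ∧ t.2 - t0.2 = -(t1.2 - t0.2)) →
      (∃ a b : Off j1 j2 → F, (∃ ω : Ω, XE a b • ω = ω) ∧ a i1 * b i2 - a i2 * b i1 = 1) ∧
      (∃ a b : Off j1 j2 → F, (∃ ω : Ω, XE a b • ω = ω) ∧ a i1 * b i2 - a i2 * b i1 = -1) := by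
    intro t ht h0t h1t hneg
    refine both_of_pair hR hq hj h12 hex (nz t1 n01) (nz t h0t) ?_ ?_ (fix t1 m1) (fix t ht)
    · by_contra hc
      rw [not_or, not_not, not_not] at hc
      apply hneg
      exact ⟨eq_neg_of_add_eq_zero_right hc.1, eq_neg_of_add_eq_zero_right hc.2⟩
    · by_contra hc
      rw [not_or, not_not, not_not, sub_eq_zero, sub_eq_zero] at hc
      apply h1t
      exact Prod.ext (sub_left_injective hc.1) (sub_left_injective hc.2)
  by_cases e : t2.1 - t0.1 = -(t1.1 - t0.1) ∧ t2.2 - t0.2 = -(t1.2 - t0.2)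
  · refine step t3 m3 n03 n13 ?_
    rintro ⟨e1, e2⟩
    apply n23
    exact Prod.ext (sub_left_injective (e.1.trans e1.symm)) (sub_left_injective (e.2.trans e2.symm))
  · exact step t2 m2 n02 n12 e

/-- **leaf R43**: the regular case is impossible for `n = 4`, `q = 3`. -/
theorem R43 (h : RHyp ι F Ω) (hn : Fintype.card ι = 4) (hq : Nat.card F = 3) : False := by
  classical
  obtain ⟨j1, j2, hj⟩ := Fintype.exists_pair_of_one_lt_card (α := ι) (by omega)
  have hc2 : Fintype.card (Off j1 j2) = 2 := by rw [card_Off hj, hn]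
  obtain ⟨i1, i2, h12, hu⟩ := Nat.card_eq_two_iff.1 ((Nat.card_eq_fintype_card).trans hc2)
  have hex : ∀ s : Off j1 j2, s = i1 ∨ s = i2 := by
    intro s
    have := Set.mem_univ s
    rw [← hu] at this
    simpa using this
  obtain ⟨⟨gp, hp, ⟨ωp, hωp⟩, dp⟩, ⟨gm, hm, ⟨ωm, hωm⟩, dm⟩⟩ := exists_both h hn hq hj h12 hex
  let P : F → F → F → F → Prop := fun a1 a2 b1 b2 =>
    ∃ ω : Ω, XE (vec2 i1 a1 a2) (vec2 i1 b1 b2) • ω = ω
  have hP1 : ∀ t a1 a2 b1 b2, P a1 a2 b1 b2 → P (a1 + t * a2) a2 (b1 + t * b2) b2 := by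
    rintro t a1 a2 b1 b2 ⟨ω, hω⟩
    refine ⟨T (Pi.single i1.1 t) (Pi.single i2.1 (1 : F)) • ω, ?_⟩
    have := conj_fix (T (Pi.single i1.1 t) (Pi.single i2.1 (1 : F))) _ ω hω
    rw [XE_conj_elem h12] at this
    convert this using 3
    · symm
      apply vec2_ext h12 hex
      · simp [vec2_i1, vec2_i2 h12, mul_comm]
      · simp [vec2_i2 h12, h12.symm]
    · symm
      apply vec2_ext h12 hex
      · simp [vec2_i1, vec2_i2 h12, mul_comm]
      · simp [vec2_i2 h12, h12.symm]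
  have hP2 : ∀ t a1 a2 b1 b2, P a1 a2 b1 b2 → P a1 (a2 + t * a1) b1 (b2 + t * b1) := by
    rintro t a1 a2 b1 b2 ⟨ω, hω⟩
    refine ⟨T (Pi.single i2.1 t) (Pi.single i1.1 (1 : F)) • ω, ?_⟩
    have := conj_fix (T (Pi.single i2.1 t) (Pi.single i1.1 (1 : F))) _ ω hω
    rw [XE_conj_elem h12.symm] at this
    convert this using 3
    · symm
      apply vec2_ext h12 hex
      · simp [vec2_i1, h12]
      · simp [vec2_i1, vec2_i2 h12, mul_comm]
    · symm
      apply vec2_ext h12 hex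
      · simp [vec2_i1, h12]
      · simp [vec2_i1, vec2_i2 h12, mul_comm]
  have Pp : ∀ c, P 1 c 0 1 := by
    intro c
    have := rowred P hP1 hP2 (a1 := gp i1) (a2 := gp i2) (b1 := hp i1) (b2 := hp i2)
      (by rw [dp]; exact one_ne_zero)
      ⟨ωp, by rw [← eq_vec2 h12 hex, ← eq_vec2 h12 hex]; exact hωp⟩ c
    rwa [dp] at this
  have Pm : ∀ c, P 1 c 0 (-1) := by
    intro c
    have := rowred P hP1 hP2 (a1 := gm i1) (a2 := gm i2) (b1 := hm i1) (b2 := hm i2)
      (by rw [dm]; exact neg_ne_zero.2 one_ne_zero)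
      ⟨ωm, by rw [← eq_vec2 h12 hex, ← eq_vec2 h12 hex]; exact hωm⟩ c
    rwa [dm] at this
  have Pall : ∀ (c : F) (d : Fˣ), P 1 c 0 (d : F) := by
    intro c d
    rcases F3_cases hq (d : F) with h0 | h1 | h1
    · exact absurd h0 d.ne_zero
    · rw [h1]; exact Pp c
    · rw [h1]; exact Pm c
  -- counting: six pairwise disjoint fixed point sets of size 9 inside 27 points
  have := Fintype.ofFinite F
  have := Fintype.ofFinite Ω
  let x : F × Fˣ → Matrix.SpecialLinearGroup ι F :=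
    fun p => XE (vec2 i1 1 p.1) (vec2 i1 0 (p.2 : F))
  let t : F × Fˣ → Finset Ω := fun p => Finset.univ.filter (fun ω => x p • ω = ω)
  have hdisj : ∀ p ∈ (Finset.univ : Finset (F × Fˣ)), ∀ p' ∈ (Finset.univ : Finset (F × Fˣ)),
      p ≠ p' → Disjoint (t p) (t p') := by
    intro p _ p' _ hne
    rw [Finset.disjoint_left]
    intro ω hω hω'
    simp only [t, x, Finset.mem_filter, Finset.mem_univ, true_and] at hω hω'
    have := XE_sub_smul (vec2 i1 1 p.1) (vec2 i1 0 (p.2 : F)) (vec2 i1 1 p'.1)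
      (vec2 i1 0 (p'.2 : F)) ω
    rw [hω', hω] at this
    refine nofix_of_det_zero h hj h12 hex ?_ ?_ ω this
    · by_contra hc
      rw [not_or, not_not, not_not, sub_eq_zero, sub_eq_zero] at hc
      apply hne
      have e1 := congrFun hc.1 i2
      have e2 := congrFun hc.2 i2
      rw [vec2_i2 h12, vec2_i2 h12] at e1 e2
      exact Prod.ext e1 (Units.ext e2)
    · simp only [Pi.sub_apply, vec2_i1]
      ring
  have hcard : ∀ p : F × Fˣ, (t p).card = 9 := by
    intro p
    obtain ⟨ω, hω⟩ := Pall p.1 p.2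
    have hg : vec2 i1 (1 : F) p.1 ≠ 0 := by
      intro e
      have := congrFun e i1
      rw [vec2_i1] at this
      exact one_ne_zero this
    have := XE_card_fixedBy h hj hg hω
    rw [hq, hn, Nat.card_eq_fintype_card] at this
    have e9 : (t p).card = 3 ^ (4 - 2) := by
      rw [← this]
      simp only [t, x]
      rw [Fintype.card_subtype]
      rfl
    rw [e9]
    norm_num
  have hF : Fintype.card F = 3 := by rw [← Nat.card_eq_fintype_card, hq]
  have hΩ : Fintype.card Ω = 27 := by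
    rw [← Nat.card_eq_fintype_card, h.card, hq, hn]
    norm_num
  have h1 := Finset.card_biUnion hdisj
  have h2 : ((Finset.univ : Finset (F × Fˣ)).biUnion t).card ≤ Fintype.card Ω :=
    Finset.card_le_univ _
  rw [h1, Finset.sum_congr rfl (fun p _ => hcard p), Finset.sum_const, Finset.card_univ,
    Fintype.card_prod, Fintype.card_units, hF, hΩ] at h2
  norm_num at h2

end action

end two

end Cfsg.Agent.Lib.Helper17.MinDegLeaf
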