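import Mathlib
import Cfsg.Agent.Lib.Helper17.SecAut
import Cfsg.Agent.Lib.Helper17.NarrowA

/-!
helper17: B&G 5.4(c), last part: if `R = R₁ ∘ R₂` (`R₁` extraspecial of order `p³` and exponent `p`,
`R₂` cyclic with `Ω₁(R₂) = R₁'`) and a group `A` of prime order `q ∤ p(p-1)` acts on `R` with
`[R, A] = R`, then `R = R₁`.
-/

set_option autoImplicit false
open scoped commutatorElement

namespace Cfsg.Agent.Lib.Helper17.Narrow

variable {G : Type*} [Group G] [Finite G]

theorem card_eq_cube_of_central_product (p q : ℕ) [Fact p.Prime] (R A R₁ R₂ : Subgroup G)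
    (hR : IsPGroup p R) (hA : A ≤ Subgroup.normalizer (R : Set G)) (hq : Nat.card A = q)
    (hqp : q.Prime) (hndvd : ¬ q ∣ p * (p - 1))
    (hsup : R₁ ⊔ R₂ = R) (hcomm : ∀ a ∈ R₁, ∀ b ∈ R₂, a * b = b * a)
    (hcard : Nat.card R₁ = p ^ 3) (hexp : Monoid.exponent R₁ = p) (hcyc : IsCyclic R₂)
    (hΩ : Subgroup.closure {x : G | x ∈ R₂ ∧ x ^ p = 1} = ⁅R₁, R₁⁆) (hRA : ⁅R, A⁆ = R) :
    Nat.card R = p ^ 3 := by
  classical
  have hpp : p.Prime := Fact.out
  have hR₁R : R₁ ≤ R := hsup ▸ le_sup_left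
  have hR₂R : R₂ ≤ R := hsup ▸ le_sup_right
  have hR₁p : ∀ x ∈ R₁, x ^ p = 1 := by
    intro x hx
    have := Monoid.pow_exponent_eq_one (⟨x, hx⟩ : R₁)
    rw [hexp] at this
    exact congrArg Subtype.val this
  have hcomle : ⁅R₁, R₁⁆ ≤ R₁ := by
    rw [Subgroup.commutator_le]
    intro a ha b hb
    rw [commutatorElement_def]
    exact R₁.mul_mem (R₁.mul_mem (R₁.mul_mem ha hb) (R₁.inv_mem ha)) (R₁.inv_mem hb)
  have hchar : ∀ x ∈ R, x ^ p = 1 → x ∈ R₁ := by
    intro x hx hxp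
    rw [← hsup] at hx
    obtain ⟨a, ha, b, hb, rfl⟩ := mem_sup_of_commute' hcomm hx
    have hc : Commute a b := hcomm a ha b hb
    rw [hc.mul_pow, hR₁p a ha, one_mul] at hxp
    have hb' : b ∈ Subgroup.closure {x : G | x ∈ R₂ ∧ x ^ p = 1} :=
      Subgroup.subset_closure ⟨hb, hxp⟩
    rw [hΩ] at hb'
    exact R₁.mul_mem ha (hcomle hb')
  -- conjugation by elements normalizing R preserves R and R₁
  have hpres : ∀ a : G, a ∈ Subgroup.normalizer (R : Set G) → MulAut.conj a ∈ presSub R R₁ := by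
    have hone : ∀ a : G, a ∈ Subgroup.normalizer (R : Set G) → ∀ x, x ∈ R₁ → MulAut.conj a x ∈ R₁ := by
      intro a ha x hx
      rw [MulAut.conj_apply]
      apply hchar
      · exact (Subgroup.mem_normalizer_iff.mp ha x).mp (hR₁R hx)
      · rw [conj_pow, hR₁p x hx, mul_one, mul_inv_cancel]
    intro a ha
    refine ⟨fun x => ?_, fun x => ⟨hone a ha x, fun hx => ?_⟩⟩
    · rw [MulAut.conj_apply]
      exact Subgroup.mem_normalizer_iff.mp ha x
    · have := hone a⁻¹ (Subgroup.inv_mem _ ha) _ hx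
      rwa [MulAut.conj_apply, MulAut.conj_apply, inv_inv, ← mul_assoc, ← mul_assoc, inv_mul_cancel,
        one_mul, mul_assoc, inv_mul_cancel, mul_one] at this
  have hn : (R₁.subgroupOf R).Normal := by
    refine ⟨fun x hx r => ?_⟩
    rw [Subgroup.mem_subgroupOf] at hx ⊢
    have h1 := (hpres (r : G) (Subgroup.le_normalizer r.2)).2 (x : G)
    rw [MulAut.conj_apply] at h1
    push_cast
    exact h1.mp hx
  -- the quotient is cyclic
  obtain ⟨g, hg⟩ := hcyc.exists_generator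
  have hQgen : ∀ t : R ⧸ R₁.subgroupOf R,
      t ∈ Subgroup.zpowers (QuotientGroup.mk ⟨(g : G), hR₂R g.2⟩ : R ⧸ R₁.subgroupOf R) := by
    intro t
    induction t using QuotientGroup.induction_on with
    | H r =>
      have hr : (r : G) ∈ R₁ ⊔ R₂ := hsup ▸ r.2
      obtain ⟨a, ha, b, hb, hab⟩ := mem_sup_of_commute' hcomm hr
      obtain ⟨k, hk⟩ := hg ⟨b, hb⟩
      refine ⟨k, ?_⟩
      show (QuotientGroup.mk ⟨(g : G), hR₂R g.2⟩ : R ⧸ R₁.subgroupOf R) ^ k = QuotientGroup.mk r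
      rw [← QuotientGroup.mk_zpow, QuotientGroup.eq, Subgroup.mem_subgroupOf]
      have hk' : (g : G) ^ k = b := by
        have := congrArg Subtype.val hk
        simpa using this
      push_cast
      rw [hk', hab]
      have hc : a * b = b * a := hcomm a ha b hb
      have : b⁻¹ * (a * b) = a := by rw [hc]; group
      rw [this]
      exact ha
  have hQcyc : IsCyclic (R ⧸ R₁.subgroupOf R) := ⟨⟨_, hQgen⟩⟩
  have hQcard : ∃ m, Nat.card (R ⧸ R₁.subgroupOf R) = p ^ m := by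
    have h1 : Nat.card (R ⧸ R₁.subgroupOf R) ∣ Nat.card R := by
      rw [← Subgroup.index_eq_card]
      exact Subgroup.index_dvd_card _
    obtain ⟨n, hn'⟩ := hR.exists_card_eq
    rw [hn'] at h1
    obtain ⟨m, -, hm⟩ := (Nat.dvd_prime_pow hpp).mp h1
    exact ⟨m, hm⟩
  obtain ⟨m, hm⟩ := hQcard
  have hAutcard : Nat.card (MulAut (R ⧸ R₁.subgroupOf R)) ∣ p ^ m * (p - 1) := by
    rw [IsCyclic.card_mulAut, hm]
    rcases Nat.eq_zero_or_pos m with h0 | h0
    · rw [h0, pow_zero, Nat.totient_one]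
      exact one_dvd _
    · rw [Nat.totient_prime_pow hpp h0]
      exact Nat.mul_dvd_mul_right (pow_dvd_pow p (Nat.sub_le m 1)) _
  -- each a ∈ A acts trivially on the quotient
  have htriv : ∀ a ∈ A, ∀ r ∈ R, r⁻¹ * MulAut.conj a r ∈ R₁ := by
    intro a ha
    have hu := hpres a (hA ha)
    have haq : a ^ q = 1 := by
      have := pow_card_eq_one' (G := A) (x := ⟨a, ha⟩)
      rw [hq] at this
      exact congrArg Subtype.val this
    have h1 : (secHom R R₁ ⟨MulAut.conj a, hu⟩) ^ q = 1 := by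
      rw [← map_pow]
      have : (⟨MulAut.conj a, hu⟩ : presSub R R₁) ^ q = 1 := by
        apply Subtype.ext
        show (MulAut.conj a) ^ q = 1
        rw [← map_pow, haq, map_one]
      rw [this, map_one]
    have h2 : orderOf (secHom R R₁ ⟨MulAut.conj a, hu⟩) ∣ q := orderOf_dvd_of_pow_eq_one h1
    have h3 : orderOf (secHom R R₁ ⟨MulAut.conj a, hu⟩) ∣ p ^ m * (p - 1) :=
      (orderOf_dvd_natCard _).trans hAutcard
    have h4 : secHom R R₁ ⟨MulAut.conj a, hu⟩ = 1 := by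
      rcases (Nat.dvd_prime hqp).mp h2 with h | h
      · exact orderOf_eq_one_iff.mp h
      · exfalso
        rw [h] at h3
        apply hndvd
        rcases (Nat.Prime.dvd_mul hqp).mp h3 with h5 | h5
        · exact (hqp.dvd_of_dvd_pow h5).mul_right _
        · exact h5.mul_left _
    exact (secHom_eq_one_iff R R₁ ⟨MulAut.conj a, hu⟩).mp h4
  have hle : ⁅R, A⁆ ≤ R₁ := by
    rw [Subgroup.commutator_le]
    intro r hr a ha
    have := htriv a ha r⁻¹ (R.inv_mem hr)
    rw [MulAut.conj_apply, inv_inv] at this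
    rw [commutatorElement_def]
    have e : r * a * r⁻¹ * a⁻¹ = r * (a * r⁻¹ * a⁻¹) := by group
    rw [e]
    exact this
  rw [hRA] at hle
  have : R = R₁ := le_antisymm hle hR₁R
  rw [this, hcard]

end Cfsg.Agent.Lib.Helper17.Narrow
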