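import Mathlib

/-!
# S3894, leaf (A-tri)

A nilpotent subgroup of `GL_2(F)` cannot contain both `d = diag(a, a⁻¹)` with `a^2 ≠ 1` and a
transvection `t = !![1, b; 0, 1]`, `b ≠ 0`: the iterated commutators `⁅…⁅⁅t, d⁆, d⁆…, d⁆` are
`!![1, (1 - a^2)^k b; 0, 1] ≠ 1` and lie in the `k`-th term of the lower central series.
-/

namespace Cfsg.Agent.Lib.Helper17.NilCovATri

open Matrix
open scoped commutatorElement

variable {F : Type*} [Field F]

/-- commutator of an upper unitriangular matrix with `diag(a, a⁻¹)`. -/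
theorem comm_tri_diag (a : Fˣ) (d : GL (Fin 2) F)
    (hd : (d : Matrix (Fin 2) (Fin 2) F) = Matrix.diagonal ![(a : F), ((a⁻¹ : Fˣ) : F)])
    (c : F) (g : GL (Fin 2) F) (hg : (g : Matrix (Fin 2) (Fin 2) F) = !![1, c; 0, 1]) :
    ((⁅g, d⁆ : GL (Fin 2) F) : Matrix (Fin 2) (Fin 2) F) = !![1, (1 - (a : F) ^ 2) * c; 0, 1] := by
  have hgrp : ⁅g, d⁆ * (d * g) = g * d := by
    rw [commutatorElement_def]; group
  have h1 : ((⁅g, d⁆ : GL (Fin 2) F) : Matrix (Fin 2) (Fin 2) F) * ((d * g : GL (Fin 2) F) :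
      Matrix (Fin 2) (Fin 2) F) = ((g * d : GL (Fin 2) F) : Matrix (Fin 2) (Fin 2) F) := by
    rw [← Units.val_mul, hgrp]
  have hai : (a : F) * ((a⁻¹ : Fˣ) : F) = 1 := by
    rw [← Units.val_mul, mul_inv_cancel, Units.val_one]
  have h2 : (!![1, (1 - (a : F) ^ 2) * c; 0, 1] : Matrix (Fin 2) (Fin 2) F) *
      ((d * g : GL (Fin 2) F) : Matrix (Fin 2) (Fin 2) F)
      = ((g * d : GL (Fin 2) F) : Matrix (Fin 2) (Fin 2) F) := by
    rw [Units.val_mul, Units.val_mul, hd, hg]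
    have hne : (a : F) ≠ 0 := a.ne_zero
    ext i j
    fin_cases i <;> fin_cases j <;>
      simp [Matrix.mul_apply, Fin.sum_univ_two, Matrix.diagonal_apply]
    field_simp
    ring
  exact (Units.mul_left_inj (d * g)).mp (h1.trans h2.symm)

/-- **(A-tri).** -/
theorem false_of_diag_tri (A : Subgroup (GL (Fin 2) F)) (hA : Group.IsNilpotent ↥A) (a : Fˣ)
    (ha : (a : F) ^ 2 ≠ 1) (d : GL (Fin 2) F)
    (hd : (d : Matrix (Fin 2) (Fin 2) F) = Matrix.diagonal ![(a : F), ((a⁻¹ : Fˣ) : F)])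
    (hdA : d ∈ A) (b : F) (hb : b ≠ 0) (t : GL (Fin 2) F)
    (ht : (t : Matrix (Fin 2) (Fin 2) F) = !![1, b; 0, 1]) (htA : t ∈ A) : False := by
  obtain ⟨k, hk⟩ := (Subgroup.isNilpotent_iff_lowerCentralSeries A).mp hA
  have key : ∀ k : ℕ, ∃ g : GL (Fin 2) F, g ∈ A.lowerCentralSeries k ∧
      (g : Matrix (Fin 2) (Fin 2) F) = !![1, (1 - (a : F) ^ 2) ^ k * b; 0, 1] := by
    intro k
    induction k with
    | zero => exact ⟨t, by simpa using htA, by simpa using ht⟩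
    | succ k ih =>
      obtain ⟨g, hgA, hg⟩ := ih
      refine ⟨⁅g, d⁆, ?_, ?_⟩
      · rw [Subgroup.lowerCentralSeries_succ]
        exact Subgroup.commutator_mem_commutator hgA hdA
      · rw [comm_tri_diag a d hd _ g hg, pow_succ]
        congr 1
        ring_nf
  obtain ⟨g, hgA, hg⟩ := key k
  rw [hk, Subgroup.mem_bot] at hgA
  rw [hgA] at hg
  have h01 := congrFun (congrFun hg 0) 1
  simp only [Units.val_one, Matrix.one_apply, Matrix.of_apply, Matrix.cons_val', Matrix.cons_val_zero,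
    Matrix.cons_val_one] at h01
  have hne : (1 - (a : F) ^ 2) ^ k * b ≠ 0 :=
    mul_ne_zero (pow_ne_zero _ (sub_ne_zero.mpr (Ne.symm ha))) hb
  exact hne (by simpa using h01.symm)

end Cfsg.Agent.Lib.Helper17.NilCovATri
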