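import Mathlib

/-!
# Lemma (N) for S3894: a nilpotent subgroup of `GL_n(F)` containing the full Jordan block
`u = 1 + ∑ e_{i,i+1}` is upper triangular.

Pure entry computation: induction on the upper central series; for `z ∈ Z_{i+1}` the matrix
`t = z u z⁻¹ = [z,u] u` is upper triangular, it has the characteristic polynomial of `u`, so
its diagonal is `1`; then `z (u - 1) = (t - 1) z` with `t - 1` strictly upper triangular gives
`z_{ij} = 0` for `j < i` by downward induction on the column.
-/

namespace Cfsg.Agent.Lib.Helper17.NilJordan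

open Matrix

variable {F : Type*} [Field F] {n : ℕ}

/-- The full Jordan block `1 + ∑ e_{i,i+1}`. -/
def jordanU (n : ℕ) (F : Type*) [Field F] : Matrix (Fin n) (Fin n) F :=
  fun i j => if i = j ∨ (i : ℕ) + 1 = (j : ℕ) then 1 else 0

theorem jordanU_apply (i j : Fin n) :
    jordanU n F i j = if i = j ∨ (i : ℕ) + 1 = (j : ℕ) then 1 else 0 := rfl

/-- Entry characterisation used as hypothesis everywhere. -/
def IsJordanU (U : Matrix (Fin n) (Fin n) F) : Prop :=
  ∀ i j : Fin n, U i j = if i = j ∨ (i : ℕ) + 1 = (j : ℕ) then 1 else 0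

theorem isJordanU_jordanU : IsJordanU (jordanU n F) := fun _ _ => rfl

theorem IsJordanU.upper {U : Matrix (Fin n) (Fin n) F} (hU : IsJordanU U) :
    U.BlockTriangular id := by
  intro i j hji
  simp only [id] at hji
  rw [hU i j, if_neg]
  rintro (h | h)
  · exact absurd (h ▸ hji) (lt_irrefl _)
  · have : (j : ℕ) < i := hji
    omega

theorem IsJordanU.diag {U : Matrix (Fin n) (Fin n) F} (hU : IsJordanU U) (i : Fin n) :
    U i i = 1 := by
  rw [hU i i, if_pos (Or.inl rfl)]

/-- the diagonal of an upper triangular conjugate of `U` is `1`. -/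
theorem diag_eq_one_of_conj {U T : Matrix (Fin n) (Fin n) F} (hU : IsJordanU U)
    (Z : (Matrix (Fin n) (Fin n) F)ˣ) (hT : T = (Z : Matrix _ _ F) * U * (Z : Matrix _ _ F)⁻¹)
    (hTu : T.BlockTriangular id) (j : Fin n) : T j j = 1 := by
  have h1 : T.charpoly = U.charpoly := by rw [hT]; exact Matrix.charpoly_units_conj Z U
  rw [Matrix.charpoly_of_isUpperTriangular T hTu, Matrix.charpoly_of_isUpperTriangular U hU.upper]
    at h1
  have h2 := congrArg (Polynomial.eval (T j j)) h1
  rw [Polynomial.eval_prod, Polynomial.eval_prod] at h2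
  simp only [Polynomial.eval_sub, Polynomial.eval_X, Polynomial.eval_C, hU.diag] at h2
  rw [Finset.prod_eq_zero (Finset.mem_univ j) (sub_self _), Finset.prod_const] at h2
  have h3 := (pow_eq_zero_iff (Finset.card_ne_zero.mpr ⟨j, Finset.mem_univ j⟩)).mp h2.symm
  exact sub_eq_zero.mp h3

/-- the key step: if `z u = t z` with `t` upper triangular with diagonal `1`, then `z` is upper
triangular. -/
theorem upper_of_intertwine {U T Z : Matrix (Fin n) (Fin n) F} (hU : IsJordanU U)
    (hTu : T.BlockTriangular id) (hTd : ∀ i, T i i = 1) (hZ : Z * U = T * Z) :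
    Z.BlockTriangular id := by
  -- relation on entries: `Z i j = ∑_{k > i} T i k * Z k (j+1)`  for `j + 1 < n`
  have key : ∀ (i j j' : Fin n), (j : ℕ) + 1 = (j' : ℕ) →
      Z i j = ∑ k ∈ Finset.univ.filter (fun k => i < k), T i k * Z k j' := by
    intro i j j' hjj'
    have h1 : (Z * U) i j' = Z i j + Z i j' := by
      rw [Matrix.mul_apply]
      have hne : j ≠ j' := by
        intro h; rw [h] at hjj'; omega
      rw [Finset.sum_eq_add_of_mem j j' (Finset.mem_univ _) (Finset.mem_univ _) hne]
      · rw [hU j j', hU j' j', if_pos (Or.inr hjj'), if_pos (Or.inl rfl), mul_one, mul_one]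
      · intro c _ hc
        rw [hU c j', if_neg, mul_zero]
        rintro (h | h)
        · exact hc.2 h
        · exact hc.1 (Fin.ext (by omega))
    have h2 : (T * Z) i j' = Z i j' + ∑ k ∈ Finset.univ.filter (fun k => i < k), T i k * Z k j' := by
      rw [Matrix.mul_apply]
      have hsplit : ∀ k, T i k * Z k j'
          = (if k = i then Z i j' else 0) + (if i < k then T i k * Z k j' else 0) := by
        intro k
        rcases lt_trichotomy k i with h | h | h
        · rw [hTu h, zero_mul, if_neg (ne_of_lt h), if_neg (not_lt.mpr h.le), add_zero]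
        · subst h
          rw [hTd, one_mul, if_pos rfl, if_neg (lt_irrefl _), add_zero]
        · rw [if_neg (ne_of_gt h), if_pos h, zero_add]
      rw [Finset.sum_congr rfl (fun k _ => hsplit k), Finset.sum_add_distrib, Finset.sum_filter]
      congr 1
      rw [Finset.sum_eq_single i]
      · rw [if_pos rfl]
      · intro k _ hki
        rw [if_neg hki]
      · intro h
        exact absurd (Finset.mem_univ _) h
    have h3 : (Z * U) i j' = (T * Z) i j' := by rw [hZ]
    rw [h1, h2] at h3
    linear_combination h3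
  -- downward induction on the column
  have main : ∀ (m : ℕ) (j : Fin n), (j : ℕ) + m + 1 = n → ∀ i : Fin n, j < i → Z i j = 0 := by
    intro m
    induction m with
    | zero =>
      intro j hj i hji
      have : (j : ℕ) < i := hji
      have := i.isLt
      omega
    | succ m ih =>
      intro j hj i hji
      have hj' : (j : ℕ) + 1 < n := by omega
      rw [key i j ⟨(j : ℕ) + 1, hj'⟩ rfl]
      apply Finset.sum_eq_zero
      intro k hk
      rw [Finset.mem_filter] at hk
      have hik : i < k := hk.2
      have : Z k ⟨(j : ℕ) + 1, hj'⟩ = 0 := by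
        apply ih ⟨(j : ℕ) + 1, hj'⟩ (by simp only; omega) k
        have h1 : (j : ℕ) < i := hji
        have h2 : (i : ℕ) < k := hik
        exact Fin.lt_def.mpr (by simp only; omega)
      rw [this, mul_zero]
  intro i j hji
  simp only [id] at hji
  have hjn := j.isLt
  exact main (n - 1 - j) j (by omega) i hji

/-- **Lemma (N).**  A nilpotent subgroup of `GL_n(F)` containing the full Jordan block is upper
triangular. -/
theorem upper_of_nilpotent (A : Subgroup (GL (Fin n) F)) (hA : Group.IsNilpotent ↥A)
    (u : GL (Fin n) F) (hu : IsJordanU (u : Matrix (Fin n) (Fin n) F)) (huA : u ∈ A) :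
    ∀ g ∈ A, (g : Matrix (Fin n) (Fin n) F).BlockTriangular id := by
  obtain ⟨c, hc⟩ := (Group.isNilpotent_iff ↥A).mp hA
  have step : ∀ i : ℕ, ∀ z : ↥A, z ∈ Subgroup.upperCentralSeries ↥A i →
      ((z : GL (Fin n) F) : Matrix (Fin n) (Fin n) F).BlockTriangular id := by
    intro i
    induction i with
    | zero =>
      intro z hz
      rw [Subgroup.upperCentralSeries_zero, Subgroup.mem_bot] at hz
      rw [hz]
      simp only [Subgroup.coe_one, Units.val_one]
      exact Matrix.blockTriangular_one
    | succ i ih =>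
      intro z hz
      rw [Subgroup.mem_upperCentralSeries_succ_iff] at hz
      have h1 := ih _ (hz ⟨u, huA⟩)
      -- `[z,u] * u = z u z⁻¹`
      set zz : GL (Fin n) F := (z : GL (Fin n) F) with hzz
      rw [commutatorElement_def] at h1
      simp only [Subgroup.coe_mul, Subgroup.coe_inv] at h1
      rw [← hzz] at h1
      have h2 : ((zz * u * zz⁻¹ * u⁻¹ * u : GL (Fin n) F) : Matrix (Fin n) (Fin n) F).BlockTriangular
          id := by
        rw [Units.val_mul]
        exact h1.mul hu.upper
      have h3 : zz * u * zz⁻¹ * u⁻¹ * u = zz * u * zz⁻¹ := by group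
      rw [h3] at h2
      have hT : ((zz * u * zz⁻¹ : GL (Fin n) F) : Matrix (Fin n) (Fin n) F)
          = (zz : Matrix _ _ F) * (u : Matrix _ _ F) * (zz : Matrix _ _ F)⁻¹ := by
        rw [Units.val_mul, Units.val_mul, Matrix.coe_units_inv]
      have hd := diag_eq_one_of_conj hu zz hT h2
      apply upper_of_intertwine hu h2 hd
      rw [← Units.val_mul, ← Units.val_mul]
      congr 1
      group
  intro g hg
  have := step c ⟨g, hg⟩ (by rw [hc]; exact Subgroup.mem_top _)
  exact this

/-- entry form. -/
theorem upper_of_nilpotent' (A : Subgroup (GL (Fin n) F)) (hA : Group.IsNilpotent ↥A)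
    (u : GL (Fin n) F)
    (hu : ∀ i j : Fin n, (u : Matrix (Fin n) (Fin n) F) i j
      = if i = j ∨ (i : ℕ) + 1 = (j : ℕ) then 1 else 0) (huA : u ∈ A) :
    ∀ g ∈ A, ∀ i j : Fin n, j < i → (g : Matrix (Fin n) (Fin n) F) i j = 0 :=
  fun g hg _ _ hji => upper_of_nilpotent A hA u hu huA g hg hji

/-- corollary: every element of `A` maps `e_0` to a multiple of `e_0` (first column is
`g 0 0 • e_0`). -/
theorem first_col_of_nilpotent (A : Subgroup (GL (Fin n) F)) (hA : Group.IsNilpotent ↥A)
    (u : GL (Fin n) F) (hu : IsJordanU (u : Matrix (Fin n) (Fin n) F)) (huA : u ∈ A)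
    (g : GL (Fin n) F) (hg : g ∈ A) (i j : Fin n) (hj : (j : ℕ) = 0) (hi : i ≠ j) :
    (g : Matrix (Fin n) (Fin n) F) i j = 0 := by
  apply upper_of_nilpotent A hA u hu huA g hg
  simp only [id]
  apply Fin.lt_def.mpr
  have : (i : ℕ) ≠ j := fun h => hi (Fin.ext h)
  omega

/-- `jordanU` has determinant `1`. -/
theorem det_jordanU : (jordanU n F).det = 1 := by
  rw [Matrix.det_of_isUpperTriangular (isJordanU_jordanU (F := F) (n := n)).upper]
  exact Finset.prod_eq_one (fun i _ => (isJordanU_jordanU (F := F) (n := n)).diag i)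

/-- `jordanU` as an element of `GL`. -/
noncomputable def jordanGL (n : ℕ) (F : Type*) [Field F] : GL (Fin n) F :=
  Matrix.GeneralLinearGroup.mk'' (jordanU n F) (by rw [det_jordanU]; exact isUnit_one)

theorem coe_jordanGL : ((jordanGL n F : GL (Fin n) F) : Matrix (Fin n) (Fin n) F) = jordanU n F :=
  rfl

theorem isJordanU_jordanGL : IsJordanU ((jordanGL n F : GL (Fin n) F) : Matrix (Fin n) (Fin n) F) :=
  isJordanU_jordanU

/-- `jordanU` as an element of `SL`. -/
def jordanSL (n : ℕ) (F : Type*) [Field F] : Matrix.SpecialLinearGroup (Fin n) F :=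
  ⟨jordanU n F, det_jordanU⟩

theorem coe_jordanSL :
    ((jordanSL n F : Matrix.SpecialLinearGroup (Fin n) F) : Matrix (Fin n) (Fin n) F)
      = jordanU n F := rfl

end Cfsg.Agent.Lib.Helper17.NilJordan
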