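import Mathlib
import Cfsg.Prelude.Def_GeometricClasses
import Cfsg.Agent.Lib.Helper20.AschDefs
import Cfsg.Agent.Lib.Helper29.SpAschDefs
import Cfsg.Agent.Lib.Helper29.SpAschTools
import Cfsg.Agent.Lib.Helper18.OAschDefs
import Cfsg.Agent.Lib.Helper18.OAschG
import Cfsg.Agent.Lib.Helper4.AschA4

/-!
S5673 (Aschbacher for `Ω_{2m+1}(q)`, planner helper18), packet O-DQ (helper17): `quad_of_form_rational` and
`exists_prime_index_subfield` with the exact signatures of `notes/S5673_leaves.lean`.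
-/

set_option autoImplicit false
set_option linter.unusedSectionVars false
set_option linter.unusedVariables false

namespace Cfsg.Agent.Lib.Helper17.OAschLeaf
open Matrix Cfsg Cfsg.Geo Cfsg.Agent.Lib.Helper20.Asch Cfsg.Agent.Lib.Helper29.SpAsch Cfsg.Agent.Lib.Helper18.OAsch
open scoped Kronecker

variable {F : Type*} [Field F] [Fintype F] {n : ℕ} {G : Matrix (Fin n) (Fin n) F} {H N : Subgroup (GL (Fin n) F)}

/-- `2 ≠ 0` in a finite field of odd order -/
lemma dq_two_ne_zero (h : Odd (Fintype.card F)) : (2 : F) ≠ 0 := by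
  apply Ring.two_ne_zero
  intro hc
  have h1 := FiniteField.even_card_of_char_two hc
  have h2 := Nat.odd_iff.mp h
  omega

/-- the determinant of a matrix with entries in a subfield lies in the subfield -/
lemma dq_det_mem (F₀ : Subfield F) (Y : Matrix (Fin n) (Fin n) F) (hY : ∀ i j, Y i j ∈ F₀) : Y.det ∈ F₀ := by
  obtain ⟨Y₀, hY₀⟩ : ∃ Y₀ : Matrix (Fin n) (Fin n) F₀, Y₀ = fun i j => ⟨Y i j, hY i j⟩ := ⟨_, rfl⟩
  have hmap : Y = Y₀.map (F₀.subtype : F₀ →+* F) := by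
    ext i j
    rw [Matrix.map_apply, hY₀]
    rfl
  have : Y.det = (F₀.subtype : F₀ →+* F) Y₀.det := by
    rw [hmap, RingHom.map_det]
    rfl
  rw [this]
  exact (Y₀.det).2

/-- conjugation by `P` times a scalar is conjugation by `P` -/
lemma dq_subfieldSubgroup_scalar (F₀ : Subfield F) (P z : GL (Fin n) F) (hz : ∀ x : GL (Fin n) F, z * x = x * z) :
    subfieldSubgroup F₀ (P * z) = subfieldSubgroup F₀ P := by
  unfold subfieldSubgroup
  have : (MulAut.conj (P * z)) = MulAut.conj P := by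
    ext x
    rw [MulAut.conj_apply, MulAut.conj_apply, _root_.mul_inv_rev]
    have h1 : P * z * x * (z⁻¹ * P⁻¹) = P * (z * x * z⁻¹) * P⁻¹ := by group
    rw [h1, hz x, mul_assoc x, mul_inv_cancel, mul_one]
  rw [this]

/-- MS: a finite field which is not a prime field has a subfield of prime index (`Helper4.AschLeaf.exists_max_subfield ⊥`) -/
theorem exists_prime_index_subfield (hnp : ¬ (Fintype.card F).Prime) :
    ∃ (F₀ : Subfield F) (r : ℕ), r.Prime ∧ Fintype.card F = Nat.card F₀ ^ r := by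
  have hne : (⊥ : Subfield F) ≠ ⊤ := by
    intro h
    apply hnp
    have : Fact (ringChar F).Prime := ⟨CharP.char_is_prime F (ringChar F)⟩
    have h1 := Subfield.card_bot F (ringChar F)
    rw [h] at h1
    have h2 : Nat.card (⊤ : Subfield F) = Fintype.card F := by
      rw [Nat.card_congr (Subfield.topEquiv (K := F)).toEquiv, Nat.card_eq_fintype_card]
    rw [← h2, h1]
    exact Fact.out
  obtain ⟨F₁, r, -, hr, hcard⟩ := Cfsg.Agent.Lib.Helper4.AschLeaf.exists_max_subfield (⊥ : Subfield F) hne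
  exact ⟨F₁, r, hr, hcard⟩

/-- (DQ) from a rational multiple of the form to the rational quadratic form -/
theorem quad_of_form_rational (hg : OG G) (F₀ : Subfield F) (ζ : F) (hζ : ζ ≠ 0) (P : GL (Fin n) F)
    (hrat : IsFormRationalStructure (bfm G) F₀ ζ P) :
    ∃ P' : GL (Fin n) F, subfieldSubgroup F₀ P' = subfieldSubgroup F₀ P ∧ IsQuadFormRationalStructure (qf G) F₀ P' := by
  have h2 := dq_two_ne_zero hg.oddq
  obtain ⟨Y, hYdef⟩ : ∃ Y : Matrix (Fin n) (Fin n) F,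
      Y = ζ • ((P : Matrix (Fin n) (Fin n) F)ᵀ * G * (P : Matrix (Fin n) (Fin n) F)) := ⟨_, rfl⟩
  have hsingle : ∀ i : Fin n, ∀ k, (Pi.single i (1 : F) : Fin n → F) k ∈ F₀ := by
    intro i k
    rw [Pi.single_apply]
    split_ifs
    · exact F₀.one_mem
    · exact F₀.zero_mem
  have hY : ∀ i j, Y i j ∈ F₀ := by
    intro i j
    have h1 := hrat (Pi.single i 1) (Pi.single j 1) (hsingle i) (hsingle j)
    rw [bfm_mulVec, bfm_entry] at h1
    rw [hYdef, Matrix.smul_apply, smul_eq_mul]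
    exact h1
  have hdetY : Y.det ∈ F₀ := dq_det_mem F₀ Y hY
  have hdetP : (P : Matrix (Fin n) (Fin n) F).det ≠ 0 := by
    apply Matrix.det_ne_zero_of_right_inverse (B := ((P⁻¹ : GL (Fin n) F) : Matrix (Fin n) (Fin n) F))
    rw [← Units.val_mul, mul_inv_cancel, Units.val_one]
  have hdetYeq : Y.det = ζ ^ n * ((P : Matrix (Fin n) (Fin n) F).det * (P : Matrix (Fin n) (Fin n) F).det) * G.det := by
    rw [hYdef, Matrix.det_smul, Matrix.det_mul, Matrix.det_mul, Matrix.det_transpose, Fintype.card_fin]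
    ring
  obtain ⟨c₀, hc₀bot, hc₀ne, s, hs⟩ := hg.disc
  obtain ⟨k, hk⟩ := hg.oddn
  have hc₀ : c₀ ∈ F₀ := (bot_le : (⊥ : Subfield F) ≤ F₀) hc₀bot
  have hs0 : s ≠ 0 := by
    intro h0
    rw [h0, mul_zero] at hs
    exact (mul_ne_zero hc₀ne hg.det) hs
  obtain ⟨μ, hμdef⟩ : ∃ μ : F, μ = ζ ^ k * s * (P : Matrix (Fin n) (Fin n) F).det := ⟨_, rfl⟩
  have hμ : μ ≠ 0 := by
    rw [hμdef]
    exact mul_ne_zero (mul_ne_zero (pow_ne_zero _ hζ) hs0) hdetP
  obtain ⟨y, hydef⟩ : ∃ y : F, y = c₀ * Y.det := ⟨_, rfl⟩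
  have hyF : y ∈ F₀ := by rw [hydef]; exact F₀.mul_mem hc₀ hdetY
  have hpow : ζ ^ n = ζ * (ζ ^ k * ζ ^ k) := by
    rw [hk]
    ring
  have hyeq : y = ζ * (μ * μ) := by
    rw [hydef, hdetYeq, hμdef, hpow]
    linear_combination (ζ * ζ ^ k * ζ ^ k * (P : Matrix (Fin n) (Fin n) F).det * (P : Matrix (Fin n) (Fin n) F).det) * hs
  have hy0 : y ≠ 0 := by
    rw [hyeq]
    exact mul_ne_zero hζ (mul_ne_zero hμ hμ)
  obtain ⟨z, hz⟩ : ∃ z : GL (Fin n) F, (z : Matrix (Fin n) (Fin n) F) = μ⁻¹ • 1 := by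
    refine ⟨⟨μ⁻¹ • 1, μ • 1, ?_, ?_⟩, rfl⟩
    · rw [Matrix.smul_mul, Matrix.mul_smul, Matrix.mul_one, smul_smul, inv_mul_cancel₀ hμ, one_smul]
    · rw [Matrix.smul_mul, Matrix.mul_smul, Matrix.mul_one, smul_smul, mul_inv_cancel₀ hμ, one_smul]
  have hzc : ∀ x : GL (Fin n) F, z * x = x * z := by
    intro x
    apply Units.ext
    rw [Units.val_mul, Units.val_mul, hz, Matrix.smul_mul, Matrix.mul_smul, Matrix.one_mul, Matrix.mul_one]
  refine ⟨P * z, dq_subfieldSubgroup_scalar F₀ P z hzc, ?_⟩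
  intro u hu
  have h1 := hrat u u hu hu
  have h2F : (2 : F)⁻¹ ∈ F₀ := by
    apply F₀.inv_mem
    have : (2 : F) = 1 + 1 := by norm_num
    rw [this]
    exact F₀.add_mem F₀.one_mem F₀.one_mem
  have h3 : qf G (((P * z : GL (Fin n) F) : Matrix (Fin n) (Fin n) F) *ᵥ u) =
      2⁻¹ * (y⁻¹ * (ζ * bfm G ((P : Matrix (Fin n) (Fin n) F) *ᵥ u) ((P : Matrix (Fin n) (Fin n) F) *ᵥ u))) := by
    unfold qf
    rw [Units.val_mul, hz, Matrix.mul_smul, Matrix.mul_one, Matrix.smul_mulVec,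
      Cfsg.Agent.Lib.Helper29.SpAsch.bfm_smul_left, Cfsg.Agent.Lib.Helper29.SpAsch.bfm_smul_right, hyeq]
    field_simp
  rw [h3]
  exact F₀.mul_mem h2F (F₀.mul_mem (F₀.inv_mem hyF) h1)

end Cfsg.Agent.Lib.Helper17.OAschLeaf
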