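import Mathlib
import Cfsg.Prelude.Def_GeometricClasses
import Cfsg.Agent.Lib.Helper20.AschDefs
import Cfsg.Agent.Lib.Helper29.SpAschDefs
import Cfsg.Agent.Lib.Helper29.SpAschTools
import Cfsg.Agent.Lib.Helper18.OAschDefs
import Cfsg.Agent.Lib.Helper18.OAschG
import Cfsg.Agent.Lib.Helper4.AschA4

/-!
S5673 (Aschbacher for `Ω_{2m+1}(q)`, planner helper18), packet O-K1 (helper17): `frame_vectors`, `frame_action`, `frame_matrix`,
`frame_form_rational`, `frame_le_subfield` with the exact signatures of `notes/S5673_leaves.lean`.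
-/

set_option autoImplicit false
set_option linter.unusedSectionVars false
set_option linter.unusedVariables false

namespace Cfsg.Agent.Lib.Helper17.OAschLeaf
open Matrix Cfsg Cfsg.Geo Cfsg.Agent.Lib.Helper20.Asch Cfsg.Agent.Lib.Helper29.SpAsch Cfsg.Agent.Lib.Helper18.OAsch
open scoped Kronecker

variable {F : Type*} [Field F] [Fintype F] {n : ℕ} {G : Matrix (Fin n) (Fin n) F} {H N : Subgroup (GL (Fin n) F)}

/-- `2 ≠ 0` in a finite field of odd order -/
lemma k1_two_ne_zero (h : Odd (Fintype.card F)) : (2 : F) ≠ 0 := by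
  apply Ring.two_ne_zero
  intro hc
  have h1 := FiniteField.even_card_of_char_two hc
  have h2 := Nat.odd_iff.mp h
  omega

/-- symmetry of `bfm G` for a symmetric Gram matrix -/
lemma k1_bfm_symm {G : Matrix (Fin n) (Fin n) F} (hs : Gᵀ = G) (u v : Fin n → F) : bfm G u v = bfm G v u := by
  unfold bfm
  rw [Matrix.dotProduct_mulVec, ← hs, Matrix.vecMul_transpose, hs, dotProduct_comm]

/-- `polar (qf G) u v = bfm G u v` for symmetric `G`, `2 ≠ 0` -/
lemma k1_polar_qf {G : Matrix (Fin n) (Fin n) F} (h2 : (2 : F) ≠ 0) (hs : Gᵀ = G) (u v : Fin n → F) :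
    QuadraticMap.polar (qf G) u v = bfm G u v := by
  unfold QuadraticMap.polar qf
  rw [Cfsg.Agent.Lib.Helper29.SpAsch.bfm_add_left, Cfsg.Agent.Lib.Helper29.SpAsch.bfm_add_right,
    Cfsg.Agent.Lib.Helper29.SpAsch.bfm_add_right, k1_bfm_symm hs v u]
  field_simp
  ring

/-- K1a: an orthogonal frame of pairwise isometric non-degenerate lines has spanning vectors of one and the same norm `a ≠ 0`
(`v i :=` the image of a spanning vector `v₀` of `D i₀` under the isometry `D i₀ ≃ D i`; `a = bfm G v₀ v₀ ≠ 0` as `D i₀` is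
non-degenerate). -/
theorem frame_vectors (hg : OG G) {t : ℕ} (D : Fin t → Submodule F (Fin n → F))
    (hD : IsOrthogonalMDecomposition (qf G) 1 D) :
    ∃ (v : Fin t → (Fin n → F)) (a : F), a ≠ 0 ∧ (∀ i, D i = Submodule.span F {v i}) ∧
      (∀ i, bfm G (v i) (v i) = a) ∧ (∀ i j, i ≠ j → bfm G (v i) (v j) = 0) := by
  have h2 := k1_two_ne_zero hg.oddq
  have ht : 2 ≤ t := hD.decomp.decomp.two_le
  obtain ⟨i₀, hi₀⟩ : ∃ i₀ : Fin t, i₀ = ⟨0, by omega⟩ := ⟨_, rfl⟩
  have hfr := hD.decomp.decomp.finrank_eq i₀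
  obtain ⟨w₀, hw₀, hspan⟩ := finrank_eq_one_iff'.mp hfr
  choose e he using fun i => hD.isometric i₀ i
  have hw₀' : (w₀ : Fin n → F) ≠ 0 := fun h => hw₀ (Subtype.ext h)
  refine ⟨fun i => ((e i w₀ : D i) : Fin n → F), bfm G (w₀ : Fin n → F) (w₀ : Fin n → F), ?_, ?_, ?_, ?_⟩
  · intro h0
    obtain ⟨⟨x, hx, hxw⟩, -⟩ := hD.decomp.nondegenerate i₀ (w₀ : Fin n → F) w₀.2 hw₀'
    apply hxw
    obtain ⟨c, hc⟩ := hspan ⟨x, hx⟩
    have hx' : x = c • (w₀ : Fin n → F) := by
      have := congrArg (fun z : D i₀ => (z : Fin n → F)) hc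
      simpa using this.symm
    rw [k1_polar_qf h2 hg.symm, hx', Cfsg.Agent.Lib.Helper29.SpAsch.bfm_smul_left, h0, mul_zero]
  · intro i
    apply le_antisymm
    · intro w hw
      obtain ⟨c, hc⟩ := hspan ((e i).symm ⟨w, hw⟩)
      have h1 : (⟨w, hw⟩ : D i) = c • e i w₀ := by
        rw [← map_smul, hc, LinearEquiv.apply_symm_apply]
      have h3 : w = c • ((e i w₀ : D i) : Fin n → F) := by
        have := congrArg (fun z : D i => (z : Fin n → F)) h1
        simpa using this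
      rw [h3]
      exact Submodule.smul_mem _ _ (Submodule.mem_span_singleton_self _)
    · rw [Submodule.span_singleton_le_iff_mem]
      exact (e i w₀).2
  · intro i
    have h1 := he i w₀
    unfold qf at h1
    exact mul_left_cancel₀ (inv_ne_zero h2) h1
  · intro i j hij
    have h1 := hD.decomp.orthogonal i j hij _ (e i w₀).2 _ (e j w₀).2
    rw [k1_polar_qf h2 hg.symm] at h1
    exact h1

/-- K1b: an isometry permuting the lines `F v i` (all `v i` of the same non-zero norm) maps each `v i` to `± v (σ i)` -/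
theorem frame_action (hI : H ≤ isoG G) {t : ℕ} (D : Fin t → Submodule F (Fin n → F)) (v : Fin t → (Fin n → F)) (a : F)
    (ha : a ≠ 0) (hv : ∀ i, D i = Submodule.span F {v i}) (hva : ∀ i, bfm G (v i) (v i) = a)
    (hH : H ≤ decompositionStabilizer D) :
    ∀ h ∈ H, ∃ (σ : Equiv.Perm (Fin t)) (ε : Fin t → F), (∀ i, ε i = 1 ∨ ε i = -1) ∧
      ∀ i, (h : Matrix (Fin n) (Fin n) F) *ᵥ v i = ε i • v (σ i) := by
  intro h hh
  obtain ⟨σ, hσ⟩ := hH hh
  have key : ∀ i, ∃ c : F, (c = 1 ∨ c = -1) ∧ (h : Matrix (Fin n) (Fin n) F) *ᵥ v i = c • v (σ i) := by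
    intro i
    have h1 : (h : Matrix (Fin n) (Fin n) F) *ᵥ v i ∈ D (σ i) := by
      rw [← hσ i]
      refine ⟨v i, ?_, by rw [Matrix.toLin'_apply]⟩
      rw [hv i]
      exact Submodule.mem_span_singleton_self _
    rw [hv (σ i), Submodule.mem_span_singleton] at h1
    obtain ⟨c, hc⟩ := h1
    refine ⟨c, ?_, hc.symm⟩
    have h3 := isoG_apply (hI hh) (v i) (v i)
    rw [← hc, Cfsg.Agent.Lib.Helper29.SpAsch.bfm_smul_left, Cfsg.Agent.Lib.Helper29.SpAsch.bfm_smul_right,
      hva, hva] at h3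
    have h4 : (c - 1) * (c + 1) = 0 := by
      have : (c * c - 1) * a = 0 := by linear_combination h3
      rcases mul_eq_zero.mp this with h5 | h5
      · linear_combination h5
      · exact absurd h5 ha
    rcases mul_eq_zero.mp h4 with h5 | h5
    · left; linear_combination h5
    · right; linear_combination h5
  choose ε hε1 hε2 using key
  exact ⟨σ, ε, hε1, hε2⟩

/-- K1c: the spanning vectors of a decomposition into lines are the columns of an invertible matrix -/
theorem frame_matrix {t : ℕ} (D : Fin t → Submodule F (Fin n → F)) (hD : IsMDecomposition 1 D)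
    (v : Fin t → (Fin n → F)) (hv : ∀ i, D i = Submodule.span F {v i}) :
    ∃ (e : Fin t ≃ Fin n) (P : GL (Fin n) F), ∀ i, (P : Matrix (Fin n) (Fin n) F) *ᵥ Pi.single (e i) 1 = v i := by
  have hne : ∀ i, v i ≠ 0 := by
    intro i h0
    have h1 := hD.finrank_eq i
    rw [hv i, h0, Submodule.span_zero_singleton, finrank_bot] at h1
    exact absurd h1 (by norm_num)
  have hmem : ∀ i, v i ∈ D i := by
    intro i
    rw [hv i]
    exact Submodule.mem_span_singleton_self _
  have hli : LinearIndependent F v := hD.indep.linearIndependent D hmem hne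
  have hsp : ⊤ ≤ Submodule.span F (Set.range v) := by
    rw [Submodule.span_range_eq_iSup, ← hD.iSup_eq_top]
    apply le_of_eq
    congr 1
    funext i
    exact hv i
  obtain ⟨b, hb⟩ : ∃ b : Module.Basis (Fin t) F (Fin n → F), ⇑b = v := ⟨Module.Basis.mk hli hsp, Module.Basis.coe_mk hli hsp⟩
  have htn : t = n := by
    have h1 := Module.finrank_eq_card_basis b
    rw [Module.finrank_fin_fun, Fintype.card_fin] at h1
    exact h1.symm
  obtain ⟨e, he⟩ : ∃ e : Fin t ≃ Fin n, e = finCongr htn := ⟨_, rfl⟩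
  obtain ⟨b', hb'⟩ : ∃ b' : Module.Basis (Fin n) F (Fin n → F), b' = b.reindex e := ⟨_, rfl⟩
  refine ⟨e, ⟨(Pi.basisFun F (Fin n)).toMatrix b', b'.toMatrix (Pi.basisFun F (Fin n)),
    Module.Basis.toMatrix_mul_toMatrix_flip _ _, Module.Basis.toMatrix_mul_toMatrix_flip _ _⟩, ?_⟩
  intro i
  funext k
  show (((Pi.basisFun F (Fin n)).toMatrix b') *ᵥ Pi.single (e i) 1) k = v i k
  rw [Matrix.mulVec_single_one]
  show ((Pi.basisFun F (Fin n)).toMatrix b') k (e i) = v i k
  rw [Module.Basis.toMatrix_apply, Pi.basisFun_repr, hb', Module.Basis.reindex_apply, Equiv.symm_apply_apply, hb]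

/-- the Gram matrix in the basis of an orthogonal frame of vectors of norm `a` is `a • 1` -/
lemma k1_gram {t : ℕ} (v : Fin t → (Fin n → F)) (a : F)
    (hva : ∀ i, bfm G (v i) (v i) = a) (hvo : ∀ i j, i ≠ j → bfm G (v i) (v j) = 0)
    (e : Fin t ≃ Fin n) (P : GL (Fin n) F) (hP : ∀ i, (P : Matrix (Fin n) (Fin n) F) *ᵥ Pi.single (e i) 1 = v i) :
    (P : Matrix (Fin n) (Fin n) F)ᵀ * G * (P : Matrix (Fin n) (Fin n) F) = a • (1 : Matrix (Fin n) (Fin n) F) := by
  ext i j
  rw [← bfm_entry (J := (P : Matrix (Fin n) (Fin n) F)ᵀ * G * (P : Matrix (Fin n) (Fin n) F)) i j, ← bfm_mulVec]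
  have hi : (P : Matrix (Fin n) (Fin n) F) *ᵥ Pi.single i 1 = v (e.symm i) := by
    rw [← hP (e.symm i), Equiv.apply_symm_apply]
  have hj : (P : Matrix (Fin n) (Fin n) F) *ᵥ Pi.single j 1 = v (e.symm j) := by
    rw [← hP (e.symm j), Equiv.apply_symm_apply]
  rw [hi, hj, Matrix.smul_apply, Matrix.one_apply, smul_eq_mul]
  by_cases hij : i = j
  · subst hij
    rw [if_pos rfl, mul_one, hva]
  · rw [if_neg hij, mul_zero]
    exact hvo _ _ (fun h => hij (e.symm.injective h))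

/-- K1d: in an orthogonal basis of vectors of norm `a` the form is `a` times the standard dot product -/
theorem frame_form_rational {t : ℕ} (v : Fin t → (Fin n → F)) (a : F) (ha : a ≠ 0)
    (hva : ∀ i, bfm G (v i) (v i) = a) (hvo : ∀ i j, i ≠ j → bfm G (v i) (v j) = 0)
    (e : Fin t ≃ Fin n) (P : GL (Fin n) F) (hP : ∀ i, (P : Matrix (Fin n) (Fin n) F) *ᵥ Pi.single (e i) 1 = v i)
    (F₀ : Subfield F) : IsFormRationalStructure (bfm G) F₀ a⁻¹ P := by
  intro u w hu hw
  rw [bfm_mulVec, k1_gram v a hva hvo e P hP]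
  have h1 : a⁻¹ * bfm (a • (1 : Matrix (Fin n) (Fin n) F)) u w = u ⬝ᵥ w := by
    unfold bfm
    rw [Matrix.smul_mulVec, Matrix.one_mulVec, dotProduct_smul, smul_eq_mul, ← mul_assoc, inv_mul_cancel₀ ha, one_mul]
  rw [h1]
  unfold dotProduct
  exact Subfield.sum_mem _ fun i _ => Subfield.mul_mem _ (hu i) (hw i)

/-- K1e: a matrix acting as a signed permutation on the columns of `P` is `P S P⁻¹` with `S` a signed permutation matrix, which has
its entries in every subfield -/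
theorem frame_le_subfield {t : ℕ} (v : Fin t → (Fin n → F))
    (e : Fin t ≃ Fin n) (P : GL (Fin n) F) (hP : ∀ i, (P : Matrix (Fin n) (Fin n) F) *ᵥ Pi.single (e i) 1 = v i)
    (hact : ∀ h ∈ H, ∃ (σ : Equiv.Perm (Fin t)) (ε : Fin t → F), (∀ i, ε i = 1 ∨ ε i = -1) ∧
      ∀ i, (h : Matrix (Fin n) (Fin n) F) *ᵥ v i = ε i • v (σ i))
    (F₀ : Subfield F) : H ≤ subfieldSubgroup F₀ P := by
  intro h hh
  obtain ⟨σ, ε, hε, hact'⟩ := hact h hh
  have hPinv : ∀ w : Fin n → F, ((P⁻¹ : GL (Fin n) F) : Matrix (Fin n) (Fin n) F) *ᵥ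
      ((P : Matrix (Fin n) (Fin n) F) *ᵥ w) = w := by
    intro w
    rw [Matrix.mulVec_mulVec, ← Units.val_mul, inv_mul_cancel, Units.val_one, Matrix.one_mulVec]
  have hcol : ∀ i' : Fin t, ((P⁻¹ * h * P : GL (Fin n) F) : Matrix (Fin n) (Fin n) F) *ᵥ Pi.single (e i') 1 =
      ε i' • Pi.single (e (σ i')) 1 := by
    intro i'
    rw [Units.val_mul, Units.val_mul, ← Matrix.mulVec_mulVec, ← Matrix.mulVec_mulVec, hP i', hact' i',
      Matrix.mulVec_smul, ← hP (σ i'), hPinv]
  have hS : (P⁻¹ * h * P : GL (Fin n) F) ∈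
      (Matrix.GeneralLinearGroup.map (F₀.subtype : F₀ →+* F)).range ⊔ scalars (Fin n) F := by
    apply Cfsg.Agent.Lib.Helper4.AschLeaf.mem_range_sup_scalars F₀ _ 1 one_ne_zero
    intro i j
    have h1 : ((P⁻¹ * h * P : GL (Fin n) F) : Matrix (Fin n) (Fin n) F) i j =
        (((P⁻¹ * h * P : GL (Fin n) F) : Matrix (Fin n) (Fin n) F) *ᵥ Pi.single j 1) i := by
      rw [Matrix.mulVec_single_one]
      rfl
    have h2 := hcol (e.symm j)
    rw [Equiv.apply_symm_apply] at h2
    rw [h1, h2]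
    refine ⟨(ε (e.symm j) • (Pi.single (e (σ (e.symm j))) 1 : Fin n → F)) i, ?_, (one_mul _).symm⟩
    rw [Pi.smul_apply, smul_eq_mul, Pi.single_apply]
    have hεm : ε (e.symm j) ∈ F₀ := by
      rcases hε (e.symm j) with h3 | h3
      · rw [h3]; exact F₀.one_mem
      · rw [h3]; exact F₀.neg_mem F₀.one_mem
    split_ifs
    · exact F₀.mul_mem hεm F₀.one_mem
    · exact F₀.mul_mem hεm F₀.zero_mem
  refine ⟨P⁻¹ * h * P, hS, ?_⟩
  show P * (P⁻¹ * h * P) * P⁻¹ = h
  group

end Cfsg.Agent.Lib.Helper17.OAschLeaf
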