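import Mathlib
import Cfsg.Prelude.Def_GeometricClasses
import Cfsg.Agent.Lib.Helper20.AschDefs
import Cfsg.Agent.Lib.Helper29.SpAschDefs
import Cfsg.Agent.Lib.Helper29.SpAschTools
import Cfsg.Agent.Lib.Helper18.OAschDefs
import Cfsg.Agent.Lib.Helper18.OAschG

/-!
S5673 (Aschbacher for `Ω_{2m+1}(q)`, planner helper18), packet O-RED (helper17): `radG_inv`, `isNondegenerateOn_of_radG`,
`le_subspaceStabilizer_of_inv'` with the exact signatures of `notes/S5673_leaves.lean`.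
-/

set_option autoImplicit false
set_option linter.unusedSectionVars false
set_option linter.unusedVariables false

namespace Cfsg.Agent.Lib.Helper17.OAschLeaf
open Matrix Cfsg Cfsg.Geo Cfsg.Agent.Lib.Helper20.Asch Cfsg.Agent.Lib.Helper29.SpAsch Cfsg.Agent.Lib.Helper18.OAsch
open scoped Kronecker

variable {F : Type*} [Field F] [Fintype F] {n : ℕ} {G : Matrix (Fin n) (Fin n) F} {H N : Subgroup (GL (Fin n) F)}

/-- RED1: the radical of an invariant subspace is invariant (`bfm G u (g v) = bfm G (g⁻¹ u) v`) -/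
theorem radG_inv (hI : H ≤ isoG G) {W : Submodule F (Fin n → F)}
    (hW : ∀ g ∈ H, ∀ v ∈ W, (g : Matrix (Fin n) (Fin n) F) *ᵥ v ∈ W) :
    ∀ g ∈ H, ∀ v ∈ radG G W, (g : Matrix (Fin n) (Fin n) F) *ᵥ v ∈ radG G W := by
  intro g hg v hv
  rw [mem_radG] at hv ⊢
  refine ⟨hW g hg v hv.1, ?_⟩
  intro u hu
  have h1 : ((g⁻¹ : GL (Fin n) F) : Matrix (Fin n) (Fin n) F) *ᵥ u ∈ W := hW g⁻¹ (H.inv_mem hg) u hu
  have h2 := isoG_apply (hI hg) (((g⁻¹ : GL (Fin n) F) : Matrix (Fin n) (Fin n) F) *ᵥ u) v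
  have h3 : (g : Matrix (Fin n) (Fin n) F) *ᵥ (((g⁻¹ : GL (Fin n) F) : Matrix (Fin n) (Fin n) F) *ᵥ u) = u := by
    rw [Matrix.mulVec_mulVec, ← Units.val_mul, mul_inv_cancel, Units.val_one, Matrix.one_mulVec]
  rw [h3] at h2
  rw [h2]
  exact hv.2 _ h1

/-- RED2 -/
theorem isNondegenerateOn_of_radG (hs : Gᵀ = G) {W : Submodule F (Fin n → F)} (h : radG G W = ⊥) :
    IsNondegenerateOn (bfm G) W := by
  have hsym : ∀ u v : Fin n → F, bfm G u v = bfm G v u := by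
    intro u v
    unfold bfm
    rw [Matrix.dotProduct_mulVec, ← hs, Matrix.vecMul_transpose, hs, dotProduct_comm]
  intro w hw hw0
  have key : ∃ x ∈ W, bfm G x w ≠ 0 := by
    by_contra hcon
    push Not at hcon
    have : w ∈ radG G W := mem_radG.mpr ⟨hw, hcon⟩
    rw [h] at this
    exact hw0 ((Submodule.mem_bot F).mp this)
  obtain ⟨x, hx, hxw⟩ := key
  exact ⟨⟨x, hx, hxw⟩, ⟨x, hx, by rw [hsym]; exact hxw⟩⟩

/-- RED3: `H ≤ subspaceStabilizer W` from invariance (as `Helper4.AschLeaf.le_subspaceStabilizer_of_inv`, vector form) -/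
theorem le_subspaceStabilizer_of_inv' {W : Submodule F (Fin n → F)}
    (hW : ∀ g ∈ H, ∀ v ∈ W, (g : Matrix (Fin n) (Fin n) F) *ᵥ v ∈ W) : H ≤ subspaceStabilizer W := by
  intro g hg v
  constructor
  · intro hv
    exact hW g hg v hv
  · intro hv
    have h2 := hW g⁻¹ (H.inv_mem hg) _ hv
    have h3 : ((g⁻¹ : GL (Fin n) F) : Matrix (Fin n) (Fin n) F) *ᵥ
        ((glToMat (Fin n) F) g *ᵥ v) = v := by
      show ((g⁻¹ : GL (Fin n) F) : Matrix (Fin n) (Fin n) F) *ᵥ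
        ((g : Matrix (Fin n) (Fin n) F) *ᵥ v) = v
      rw [Matrix.mulVec_mulVec, ← Units.val_mul, inv_mul_cancel, Units.val_one, Matrix.one_mulVec]
    rw [h3] at h2
    exact h2

end Cfsg.Agent.Lib.Helper17.OAschLeaf
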