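import Cfsg.Agent.Lib.Helper17.OC2Defs
import Cfsg.Agent.Lib.Helper25.SpinForms
import Cfsg.Agent.Lib.Helper14.OrthOdd

set_option autoImplicit false
open Cfsg Module QuadraticMap Cfsg.Agent.Lib.Helper17.OC2

/-!
# S5677: the hypotheses of the frozen statement give the geometric data `Geo` (helper17)
-/

namespace Cfsg.Agent.Lib.Helper17.OC2Glue

/-- an `m`-decomposition into `t` subspaces of dimension `k` has `|ι| = t * k` -/
theorem card_eq_mul {ι : Type} [Fintype ι] [DecidableEq ι] {F : Type*} [Field F] {t k : ℕ}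
    {D : Fin t → Submodule F (ι → F)} (hD : Cfsg.Geo.IsMDecomposition k D) :
    Fintype.card ι = t * k := by
  classical
  have hint := DirectSum.isInternal_submodule_of_iSupIndep_of_iSup_eq_top hD.indep hD.iSup_eq_top
  have e := LinearEquiv.ofBijective (DirectSum.coeLinearMap D) hint
  have h1 := e.finrank_eq
  rw [Module.finrank_directSum, Module.finrank_fintype_fun_eq_card] at h1
  simp only [hD.finrank_eq] at h1
  rw [Finset.sum_const, Finset.card_univ, Fintype.card_fin, smul_eq_mul] at h1
  exact h1.symm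

/-- the hypotheses of S5677 give the geometric data -/
theorem geo {F : Type*} [Field F] [Fintype F] (hodd : Odd (Fintype.card F)) (m : ℕ) (hm : 6 ≤ m) {t : ℕ}
    (k : ℕ) (hk : 1 < k) (D : Fin t → Submodule F (Unit ⊕ (Fin m ⊕ Fin m) → F))
    (Qf : QuadraticForm F (Unit ⊕ (Fin m ⊕ Fin m) → F)) (hnd : (polarBilin Qf).Nondegenerate)
    (hD : Cfsg.Geo.IsOrthogonalMDecomposition (⇑Qf) k D)
    (hex : ¬ (Fintype.card F = 3 ∧ k = 3)) : Geo Qf D k := by
  have h2 : (2 : F) ≠ 0 := Cfsg.Agent.Lib.Helper25.Spin.two_ne_zero_of_odd_card hodd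
  have hι : Fintype.card (Unit ⊕ (Fin m ⊕ Fin m)) = 2 * m + 1 := by
    simp only [Fintype.card_sum, Fintype.card_fin, Fintype.card_unit]
    omega
  have hmul := card_eq_mul hD.decomp.decomp
  rw [hι] at hmul
  have hkodd : Odd k := by
    by_contra h
    rw [Nat.not_odd_iff_even] at h
    obtain ⟨r, hr⟩ := h
    rw [hr] at hmul
    have : 2 * m + 1 = 2 * (t * r) := by rw [hmul]; ring
    omega
  have htodd : Odd t := by
    by_contra h
    rw [Nat.not_odd_iff_even] at h
    obtain ⟨r, hr⟩ := h
    rw [hr] at hmul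
    have : 2 * m + 1 = 2 * (r * k) := by rw [hmul]; ring
    omega
  have ht2 := hD.decomp.decomp.two_le
  have hk3 : 3 ≤ k := by
    obtain ⟨r, hr⟩ := hkodd
    omega
  have ht3 : 3 ≤ t := by
    obtain ⟨r, hr⟩ := htodd
    omega
  refine
    { nd := hnd
      card := by rw [hι]; omega
      oddn := by rw [hι]; exact ⟨m, rfl⟩
      h2 := h2
      k3 := hk3
      t3 := ht3
      fr := hD.decomp.decomp.finrank_eq
      orth := fun i j hij x hx y hy => hD.decomp.orthogonal i j hij x hx y hy
      indep := hD.decomp.decomp.indep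
      sup := hD.decomp.decomp.iSup_eq_top
      iso := fun i j => hD.isometric i j
      hex := ?_ }
  by_cases hq : Fintype.card F = 3
  · right
    have hk3' : k ≠ 3 := fun h => hex ⟨hq, h⟩
    obtain ⟨r, hr⟩ := hkodd
    omega
  · left
    have h1 := Fintype.one_lt_card (α := F)
    obtain ⟨s, hs⟩ := hodd
    omega

end Cfsg.Agent.Lib.Helper17.OC2Glue
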