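import Cfsg.Agent.Lib.Helper17.OC2Tool

/-!
# S5677 leaves B3 (`exists_move`) and B4 (`change_class`)
-/

set_option autoImplicit false
set_option linter.unusedSectionVars false
set_option linter.unusedVariables false
set_option linter.unusedSimpArgs false

namespace Cfsg.Agent.Lib.Helper17.OC2Leaf

open Module QuadraticMap Matrix Cfsg.Agent.Lib.Helper25.CD Cfsg.Agent.Lib.Helper25.Spin
  Cfsg.Agent.Lib.Helper15 Cfsg.Agent.Lib.Helper5.NSMax Cfsg.Agent.Lib.Helper5.PairMax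
  Cfsg.Agent.Lib.Helper17.OC2

variable {ι : Type} [Fintype ι] [DecidableEq ι] {F : Type*} [Field F] [Fintype F]
  {Q : QuadraticForm F (ι → F)} {t : ℕ} {D : Fin t → Submodule F (ι → F)} {k : ℕ}
  {M : Subgroup ↥(Cfsg.isometryGroup F ⇑Q)}

/-- the part of `W` orthogonal to `v` -/
def perpVec (Q : QuadraticForm F (ι → F)) (W : Submodule F (ι → F)) (v : ι → F) :
    Submodule F (ι → F) :=
  W ⊓ Cfsg.Agent.Lib.Helper25.MaxTS.perp Q (Submodule.span F {v})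

theorem mem_perpVec {W : Submodule F (ι → F)} {v x : ι → F} :
    x ∈ perpVec Q W v ↔ x ∈ W ∧ polar Q v x = 0 := by
  unfold perpVec
  rw [Submodule.mem_inf, Cfsg.Agent.Lib.Helper25.MaxTS.mem_perp_span]

theorem perpVec_nd (h2 : (2 : F) ≠ 0) {W : Submodule F (ι → F)} (hW : NdOn Q W) {v : ι → F}
    (hv : v ∈ W) (hQv : Q v ≠ 0) : NdOn Q (perpVec Q W v) := by
  intro w hw hall
  rw [mem_perpVec] at hw
  apply hW w hw.1
  intro u hu
  have hvv : polar Q v v ≠ 0 := by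
    rw [Cfsg.Agent.Lib.Helper25.MaxTS.polar_self]
    exact mul_ne_zero h2 hQv
  have hu' : u - (polar Q v u / polar Q v v) • v ∈ perpVec Q W v := by
    rw [mem_perpVec]
    refine ⟨W.sub_mem hu (W.smul_mem _ hv), ?_⟩
    rw [polar_sub_right, polar_smul_right, smul_eq_mul, div_mul_cancel₀ _ hvv, sub_self]
  have h1 := hall _ hu'
  rw [polar_sub_right, polar_smul_right, polar_comm Q w v, hw.2, smul_zero, sub_zero] at h1
  exact h1

theorem perpVec_finrank (hnd : (polarBilin Q).Nondegenerate) (W : Submodule F (ι → F)) (v : ι → F) :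
    finrank F W ≤ finrank F (perpVec Q W v) + 1 :=
  Cfsg.Agent.Lib.Helper25.Fam.finrank_inf_perp_ge Q hnd W v

/-- two vectors with the same projections are equal -/
theorem ext_pr (hG : Geo Q D k) {x y : ι → F} (h : ∀ j, pr hG j x = pr hG j y) : x = y := by
  rw [← sum_pr hG x, ← sum_pr hG y]
  exact Finset.sum_congr rfl (fun j _ => h j)

/-- moving one vector of a block to another of the same norm by reflections of the block -/
theorem move_one (hG : Geo Q D k) {j : Fin t} {u v : ι → F} (hu : u ∈ D j) (hv : v ∈ D j)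
    (huv : Q u = Q v) (hQu : Q u ≠ 0) :
    ∃ φ : ↥(Cfsg.isometryGroup F ⇑Q), Fixes Q D φ ∧ toOG Q φ u = v ∧
      ∀ x, (∀ w ∈ D j, polar Q w x = 0) → toOG Q φ x = x := by
  by_cases h : Q (u - v) ≠ 0
  · refine ⟨reflM Q (u - v), reflM_fixes hG ((D j).sub_mem hu hv), ?_, ?_⟩
    · rw [toOG_reflM]
      exact reflE_swap Q huv h
    · intro x hx
      exact toOG_reflM_of_perp (hx _ ((D j).sub_mem hu hv))
  · push Not at h
    have h4 : Q (u - -v) ≠ 0 := by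
      have e1 : Q (u - v) = Q u + Q v - polar Q u v := Cfsg.Agent.Lib.Helper5.TSMax.Q_sub' Q u v
      have e2 : Q (u - -v) = Q u + Q v + polar Q u v := by
        rw [sub_neg_eq_add, Cfsg.Agent.Lib.Helper25.MaxTS.Q_add]
      rw [e2]
      have : polar Q u v = Q u + Q v := by
        rw [h] at e1
        linear_combination e1
      rw [this, ← huv]
      intro h0
      apply hQu
      have h2 := hG.h2
      have : (2 : F) * 2 * Q u = 0 := by linear_combination h0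
      rcases mul_eq_zero.1 this with h5 | h5
      · exact absurd h5 (mul_ne_zero h2 h2)
      · exact h5
    have hmem : u - -v ∈ D j := (D j).sub_mem hu ((D j).neg_mem hv)
    refine ⟨reflM Q v * reflM Q (u - -v),
      (reflM_fixes hG hv).mul (reflM_fixes hG hmem), ?_, ?_⟩
    · rw [map_mul, LinearEquiv.mul_apply, toOG_reflM, toOG_reflM,
        reflE_swap Q (u := u) (u' := -v) (by rw [QuadraticMap.map_neg]; exact huv) h4,
        map_neg, reflE_apply, Cfsg.Agent.Lib.Helper25.MaxTS.polar_self]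
      have hQv : Q v ≠ 0 := by rw [← huv]; exact hQu
      have : (Q v)⁻¹ * (2 * Q v) = 2 := by field_simp
      rw [this]
      module
    · intro x hx
      rw [map_mul, LinearEquiv.mul_apply, toOG_reflM_of_perp (hx _ hmem),
        toOG_reflM_of_perp (hx _ hv)]

/-- B3 : Witt-type transitivity of the block stabiliser inside `Ω` -/
theorem exists_move (hS : MS Q M D k) {a b : ι → F} {i₁ i₂ : Fin t} (h12 : i₁ ≠ i₂)
    (hrest : ∀ j, j ≠ i₁ → j ≠ i₂ → pr hS.toGeo j b = pr hS.toGeo j a)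
    (h1 : Q (pr hS.toGeo i₁ b) = Q (pr hS.toGeo i₁ a)) (h2 : Q (pr hS.toGeo i₂ b) = Q (pr hS.toGeo i₂ a))
    (h1' : Q (pr hS.toGeo i₁ a) ≠ 0) (h2' : Q (pr hS.toGeo i₂ a) ≠ 0) :
    ∃ h ∈ M, toOG Q h a = b := by
  have hG := hS.toGeo
  obtain ⟨φ₁, hφ₁F, hφ₁, hφ₁x⟩ := move_one hG (pr_mem hG i₁ a) (pr_mem hG i₁ b) h1.symm h1'
  obtain ⟨φ₂, hφ₂F, hφ₂, hφ₂x⟩ := move_one hG (pr_mem hG i₂ a) (pr_mem hG i₂ b) h2.symm h2'
  -- the rest
  obtain ⟨r, hr⟩ : ∃ r, r = a - pr hG i₁ a - pr hG i₂ a := ⟨_, rfl⟩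
  have hra : a = pr hG i₁ a + pr hG i₂ a + r := by rw [hr]; abel
  have hpr_r : ∀ j, pr hG j r = if j = i₁ ∨ j = i₂ then 0 else pr hG j a := by
    intro j
    rw [hr, map_sub, map_sub]
    by_cases hj1 : j = i₁
    · subst hj1
      rw [pr_same hG (pr_mem hG j a), pr_ne hG h12.symm (pr_mem hG i₂ a), if_pos (Or.inl rfl)]
      abel
    · by_cases hj2 : j = i₂
      · subst hj2
        rw [pr_same hG (pr_mem hG j a), pr_ne hG h12 (pr_mem hG i₁ a), if_pos (Or.inr rfl)]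
        abel
      · rw [pr_ne hG (Ne.symm hj1) (pr_mem hG i₁ a), pr_ne hG (Ne.symm hj2) (pr_mem hG i₂ a),
          if_neg (by tauto)]
        abel
  have hrb : b = pr hG i₁ b + pr hG i₂ b + r := by
    apply ext_pr hG
    intro j
    rw [map_add, map_add, hpr_r j]
    by_cases hj1 : j = i₁
    · subst hj1
      rw [pr_same hG (pr_mem hG j b), pr_ne hG h12.symm (pr_mem hG i₂ b), if_pos (Or.inl rfl)]
      abel
    · by_cases hj2 : j = i₂
      · subst hj2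
        rw [pr_same hG (pr_mem hG j b), pr_ne hG h12 (pr_mem hG i₁ b), if_pos (Or.inr rfl)]
        abel
      · rw [pr_ne hG (Ne.symm hj1) (pr_mem hG i₁ b), pr_ne hG (Ne.symm hj2) (pr_mem hG i₂ b),
          if_neg (by tauto), hrest j hj1 hj2]
        abel
  have hr_perp : ∀ j, (j = i₁ ∨ j = i₂) → ∀ w ∈ D j, polar Q w r = 0 := by
    intro j hj w hw
    rw [polar_pr' hG hw r, hpr_r j, if_pos hj, polar_zero_right]
  have hperp12 : ∀ w ∈ D i₁, ∀ x ∈ D i₂, polar Q w x = 0 := fun w hw x hx =>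
    hG.orth i₁ i₂ h12 w hw x hx
  have hperp21 : ∀ w ∈ D i₂, ∀ x ∈ D i₁, polar Q w x = 0 := fun w hw x hx =>
    hG.orth i₂ i₁ h12.symm w hw x hx
  have hg₀ : toOG Q (φ₁ * φ₂) a = b := by
    rw [map_mul, LinearEquiv.mul_apply]
    have e2 : toOG Q φ₂ a = pr hG i₁ a + pr hG i₂ b + r := by
      conv_lhs => rw [hra]
      rw [map_add, map_add, hφ₂, hφ₂x _ (fun w hw => hperp21 w hw _ (pr_mem hG i₁ a)),
        hφ₂x r (hr_perp i₂ (Or.inr rfl))]
    rw [e2, map_add, map_add, hφ₁,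
      hφ₁x _ (fun w hw => hperp12 w hw _ (pr_mem hG i₂ b)), hφ₁x r (hr_perp i₁ (Or.inl rfl))]
    exact hrb.symm
  -- adjust into Ω
  have hQb1 : Q (pr hG i₁ b) ≠ 0 := by rw [h1]; exact h1'
  have hUnd := perpVec_nd hG.h2 (ndOn hG i₁) (pr_mem hG i₁ b) hQb1
  have hUfr : 2 ≤ finrank F (perpVec Q (D i₁) (pr hG i₁ b)) := by
    have := perpVec_finrank hG.nd (D i₁) (pr hG i₁ b)
    rw [hG.fr i₁] at this
    have := hG.k3
    omega
  obtain ⟨h', hh', hΩ⟩ := exists_adjust_in hG hUnd hUfr (φ₁ * φ₂)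
  have hU_le : perpVec Q (D i₁) (pr hG i₁ b) ≤ D i₁ := inf_le_left
  refine ⟨h' * (φ₁ * φ₂), hS.stab _ hΩ ((rgen_fixes hG hU_le hh').mul (hφ₁F.mul hφ₂F)).isPerm, ?_⟩
  rw [map_mul, LinearEquiv.mul_apply, hg₀]
  apply rgen_fix hh'
  intro u hu
  rw [mem_perpVec] at hu
  rw [polar_pr' hG hu.1 b, polar_comm]
  exact hu.2

/-- a field with at least five elements has an element different from `0, 1, -1` -/
theorem exists_ne3 (h5 : 5 ≤ Fintype.card F) : ∃ β : F, β ≠ 0 ∧ β ≠ 1 ∧ β ≠ -1 := by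
  classical
  have hlt : ({0, 1, -1} : Finset F).card < (Finset.univ : Finset F).card := by
    rw [Finset.card_univ]
    calc ({0, 1, -1} : Finset F).card ≤ 3 := Finset.card_le_three
      _ < Fintype.card F := by omega
  obtain ⟨β, -, hβ⟩ := Finset.exists_mem_notMem_of_card_lt_card hlt
  simp only [Finset.mem_insert, Finset.mem_singleton, not_or] at hβ
  exact ⟨β, hβ.1, hβ.2.1, hβ.2.2⟩

/-- B4 : changing the square class of a component -/
theorem change_class (hS : MS Q M D k) (h5 : 5 ≤ Fintype.card F) {a : ι → F} (ha : InS Q M a)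
    {i₁ i₂ : Fin t} (h12 : i₁ ≠ i₂) (h1 : Q (pr hS.toGeo i₁ a) ≠ 0) (h2 : Q (pr hS.toGeo i₂ a) ≠ 0)
    {n₀ : F} (hn₀ : ¬ IsSquare n₀) :
    ∃ a', InS Q M a' ∧ Q (pr hS.toGeo i₁ a') = n₀ * Q (pr hS.toGeo i₁ a) ∧ pr hS.toGeo i₂ a' ≠ 0 := by
  have hG := hS.toGeo
  have h2F := hG.h2
  obtain ⟨a₁, ha₁⟩ : ∃ a₁, a₁ = pr hG i₁ a := ⟨_, rfl⟩
  obtain ⟨a₂, ha₂⟩ : ∃ a₂, a₂ = pr hG i₂ a := ⟨_, rfl⟩
  have ha₁D : a₁ ∈ D i₁ := by rw [ha₁]; exact pr_mem hG i₁ a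
  have ha₂D : a₂ ∈ D i₂ := by rw [ha₂]; exact pr_mem hG i₂ a
  obtain ⟨ν₁, hν₁⟩ : ∃ ν₁, ν₁ = Q a₁ := ⟨_, rfl⟩
  obtain ⟨ν₂, hν₂⟩ : ∃ ν₂, ν₂ = Q a₂ := ⟨_, rfl⟩
  obtain ⟨N, hN⟩ : ∃ N, N = Q a := ⟨_, rfl⟩
  have hν₁0 : ν₁ ≠ 0 := by rw [hν₁, ha₁]; exact h1
  have hν₂0 : ν₂ ≠ 0 := by rw [hν₂, ha₂]; exact h2
  have hN0 : N ≠ 0 := by rw [hN]; exact ha.1
  obtain ⟨β, hβ0, hβ1, hβm1⟩ := exists_ne3 h5
  obtain ⟨α₁, hα₁⟩ : ∃ α₁, α₁ = (1 + β ^ 2 - n₀) / (2 * β) := ⟨_, rfl⟩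
  obtain ⟨α₂, hα₂⟩ : ∃ α₂, α₂ = (β * N - 2 * α₁ * ν₁ - 2 * (N - ν₁ - ν₂)) / (2 * ν₂) := ⟨_, rfl⟩
  have hα₁' : 2 * β * α₁ = 1 + β ^ 2 - n₀ := by rw [hα₁]; field_simp
  have hα₂' : 2 * α₁ * ν₁ + 2 * α₂ * ν₂ + 2 * (N - ν₁ - ν₂) = β * N := by
    rw [hα₂]; field_simp; ring
  -- the vectors `p₁, p₂`
  have hfr : ∀ i (v : ι → F), 2 ≤ finrank F (perpVec Q (D i) v) := by
    intro i v
    have := perpVec_finrank hG.nd (D i) v
    rw [hG.fr i] at this
    have := hG.k3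
    omega
  obtain ⟨p₁, hp₁, hQp₁⟩ := Cfsg.Agent.Lib.Helper25.OGeom.universal Q
    (perpVec_nd h2F (ndOn hG i₁) ha₁D (by rw [← hν₁]; exact hν₁0)) (hfr i₁ a₁) (ν₁ * (1 - α₁ ^ 2))
  obtain ⟨p₂, hp₂, hQp₂⟩ := Cfsg.Agent.Lib.Helper25.OGeom.universal Q
    (perpVec_nd h2F (ndOn hG i₂) ha₂D (by rw [← hν₂]; exact hν₂0)) (hfr i₂ a₂) (ν₂ * (1 - α₂ ^ 2))
  rw [mem_perpVec] at hp₁ hp₂
  obtain ⟨b₁, hb₁⟩ : ∃ b₁, b₁ = α₁ • a₁ + p₁ := ⟨_, rfl⟩
  obtain ⟨b₂, hb₂⟩ : ∃ b₂, b₂ = α₂ • a₂ + p₂ := ⟨_, rfl⟩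
  have hb₁D : b₁ ∈ D i₁ := by rw [hb₁]; exact (D i₁).add_mem ((D i₁).smul_mem _ ha₁D) hp₁.1
  have hb₂D : b₂ ∈ D i₂ := by rw [hb₂]; exact (D i₂).add_mem ((D i₂).smul_mem _ ha₂D) hp₂.1
  have hQlin : ∀ (c d : F) (u p : ι → F), polar Q u p = 0 →
      Q (c • u + d • p) = c ^ 2 * Q u + d ^ 2 * Q p := by
    intro c d u p hup
    rw [Cfsg.Agent.Lib.Helper25.MaxTS.Q_add, QuadraticMap.map_smul, QuadraticMap.map_smul,
      polar_smul_left, polar_smul_right, hup]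
    simp only [smul_eq_mul, mul_zero, add_zero]
    ring
  have hQb₁ : Q b₁ = ν₁ := by
    have := hQlin α₁ 1 a₁ p₁ hp₁.2
    rw [one_smul] at this
    rw [hb₁, this, ← hν₁, hQp₁]; ring
  have hQb₂ : Q b₂ = ν₂ := by
    have := hQlin α₂ 1 a₂ p₂ hp₂.2
    rw [one_smul] at this
    rw [hb₂, this, ← hν₂, hQp₂]; ring
  obtain ⟨b, hb⟩ : ∃ b, b = a - a₁ - a₂ + b₁ + b₂ := ⟨_, rfl⟩
  have hprb : ∀ j, pr hG j b = if j = i₁ then b₁ else if j = i₂ then b₂ else pr hG j a := by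
    intro j
    rw [hb, map_add, map_add, map_sub, map_sub]
    by_cases hj1 : j = i₁
    · subst hj1
      rw [if_pos rfl, pr_same hG ha₁D, pr_ne hG h12.symm ha₂D, pr_same hG hb₁D,
        pr_ne hG h12.symm hb₂D, ← ha₁]
      abel
    · by_cases hj2 : j = i₂
      · subst hj2
        rw [if_neg hj1, if_pos rfl, pr_same hG ha₂D, pr_ne hG h12 ha₁D, pr_same hG hb₂D,
          pr_ne hG h12 hb₁D, ← ha₂]
        abel
      · rw [if_neg hj1, if_neg hj2, pr_ne hG (Ne.symm hj1) ha₁D, pr_ne hG (Ne.symm hj2) ha₂D,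
          pr_ne hG (Ne.symm hj1) hb₁D, pr_ne hG (Ne.symm hj2) hb₂D]
        abel
  have hprb1 : pr hG i₁ b = b₁ := by rw [hprb, if_pos rfl]
  have hprb2 : pr hG i₂ b = b₂ := by rw [hprb, if_neg h12.symm, if_pos rfl]
  obtain ⟨h, hhM, hhab⟩ := exists_move hS (a := a) (b := b) h12
    (fun j hj1 hj2 => by rw [hprb, if_neg hj1, if_neg hj2])
    (by rw [hprb1, hQb₁, hν₁, ha₁]) (by rw [hprb2, hQb₂, hν₂, ha₂]) h1 h2
  have hQb : Q b = N := by
    rw [← hhab, Cfsg.Agent.Lib.Helper25.PS.Q_toOG, hN]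
  have hnb : negRefl Q b ∈ M := by
    have := M.mul_mem (M.mul_mem hhM ha.2) (M.inv_mem hhM)
    rwa [conj_negRefl, hhab] at this
  obtain ⟨a', ha'⟩ : ∃ a', a' = toOG Q (negRefl Q b) a := ⟨_, rfl⟩
  have hInS : InS Q M a' := by
    refine ⟨by rw [ha', Cfsg.Agent.Lib.Helper25.PS.Q_toOG]; exact ha.1, ?_⟩
    have := M.mul_mem (M.mul_mem hnb ha.2) (M.inv_mem hnb)
    rwa [conj_negRefl, ← ha'] at this
  -- the polar form of `a` and `b`
  have hpa1 : polar Q a a₁ = 2 * ν₁ := by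
    rw [polar_pr hG a ha₁D, ← ha₁, Cfsg.Agent.Lib.Helper25.MaxTS.polar_self, hν₁]
  have hpa2 : polar Q a a₂ = 2 * ν₂ := by
    rw [polar_pr hG a ha₂D, ← ha₂, Cfsg.Agent.Lib.Helper25.MaxTS.polar_self, hν₂]
  have hpab1 : polar Q a b₁ = 2 * α₁ * ν₁ := by
    rw [polar_pr hG a hb₁D, ← ha₁, hb₁, polar_add_right, polar_smul_right, hp₁.2,
      Cfsg.Agent.Lib.Helper25.MaxTS.polar_self, ← hν₁, smul_eq_mul]
    ring
  have hpab2 : polar Q a b₂ = 2 * α₂ * ν₂ := by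
    rw [polar_pr hG a hb₂D, ← ha₂, hb₂, polar_add_right, polar_smul_right, hp₂.2,
      Cfsg.Agent.Lib.Helper25.MaxTS.polar_self, ← hν₂, smul_eq_mul]
    ring
  have hpab : polar Q b a = β * N := by
    rw [polar_comm, hb, polar_add_right, polar_add_right, polar_sub_right, polar_sub_right,
      Cfsg.Agent.Lib.Helper25.MaxTS.polar_self, ← hN, hpa1, hpa2, hpab1, hpab2, ← hα₂']
    ring
  have ha'eq : a' = β • b - a := by
    rw [ha', toOG_negRefl, reflE_apply, hQb, hpab]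
    have : N⁻¹ * (β * N) = β := by field_simp
    rw [this]
    abel
  have hpr1 : pr hG i₁ a' = (β * α₁ - 1) • a₁ + β • p₁ := by
    rw [ha'eq, map_sub, map_smul, hprb1, ← ha₁, hb₁]
    module
  have hpr2 : pr hG i₂ a' = (β * α₂ - 1) • a₂ + β • p₂ := by
    rw [ha'eq, map_sub, map_smul, hprb2, ← ha₂, hb₂]
    module
  refine ⟨a', hInS, ?_, ?_⟩
  · rw [hpr1, hQlin _ _ a₁ p₁ hp₁.2, ← ha₁, ← hν₁, hQp₁]
    linear_combination (-ν₁) * hα₁'
  · intro h0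
    rw [hpr2] at h0
    have h3 : polar Q a₂ ((β * α₂ - 1) • a₂ + β • p₂) = 0 := by rw [h0, polar_zero_right]
    rw [polar_add_right, polar_smul_right, polar_smul_right, hp₂.2,
      Cfsg.Agent.Lib.Helper25.MaxTS.polar_self, ← hν₂, smul_eq_mul, smul_eq_mul, mul_zero,
      add_zero] at h3
    have h4 : β * α₂ - 1 = 0 := by
      rcases mul_eq_zero.1 h3 with h | h
      · exact h
      · exact absurd h (mul_ne_zero h2F hν₂0)
    rw [h4, zero_smul, zero_add] at h0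
    have hp₂0 : p₂ = 0 := (smul_eq_zero.1 h0).resolve_left hβ0
    rw [hp₂0, QuadraticMap.map_zero] at hQp₂
    have h5 : 1 - α₂ ^ 2 = 0 := by
      rcases mul_eq_zero.1 hQp₂.symm with h | h
      · exact absurd h hν₂0
      · exact h
    have h6 : β ^ 2 = 1 := by
      have e1 : β * α₂ = 1 := by linear_combination h4
      have e2 : α₂ ^ 2 = 1 := by linear_combination -h5
      calc β ^ 2 = β ^ 2 * α₂ ^ 2 := by rw [e2, mul_one]
        _ = (β * α₂) ^ 2 := by ring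
        _ = 1 := by rw [e1, one_pow]
    have h7 : (β - 1) * (β + 1) = 0 := by linear_combination h6
    rcases mul_eq_zero.1 h7 with h | h
    · exact hβ1 (by linear_combination h)
    · exact hβm1 (by linear_combination h)

end Cfsg.Agent.Lib.Helper17.OC2Leaf
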