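import Cfsg.Agent.Lib.Helper17.OC2Defs
import Cfsg.Agent.Lib.Helper12.OC2L3
import Cfsg.Agent.Lib.Helper12.OC2L4
import Cfsg.Agent.Lib.Helper12.OC2L5
import Cfsg.Agent.Lib.Helper17.OC2Move
import Cfsg.Agent.Lib.Helper17.OC2Tool
import Cfsg.Agent.Lib.Helper20.OC2A1
import Cfsg.Agent.Lib.Helper20.OC2C
import Cfsg.Agent.Lib.Helper20.OC2F
import Cfsg.Agent.Lib.Helper23.OC2C4
import Cfsg.Agent.Lib.Helper23.OC2L12
import Cfsg.Agent.Lib.Helper27.OC2B
import Cfsg.Agent.Lib.Helper6.OC2C3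
import Cfsg.Agent.Lib.Helper6.OC2C5
import Cfsg.Agent.Lib.Helper6.OC2E1

/-!
# S5677: assembly of the leaves (helper17).  Paper proof: notes/S5677_plan.md
-/

set_option autoImplicit false
set_option linter.unusedSectionVars false
set_option linter.unusedVariables false

namespace Cfsg.Agent.Lib.Helper17.OC2Main

open Module QuadraticMap Matrix Cfsg.Agent.Lib.Helper25.CD Cfsg.Agent.Lib.Helper25.Spin
  Cfsg.Agent.Lib.Helper15 Cfsg.Agent.Lib.Helper5.NSMax Cfsg.Agent.Lib.Helper5.PairMax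
  Cfsg.Agent.Lib.Helper17.OC2

open Cfsg.Agent.Lib.Helper12.OC2Leaf Cfsg.Agent.Lib.Helper17.OC2Leaf Cfsg.Agent.Lib.Helper20.OC2Leaf Cfsg.Agent.Lib.Helper23.OC2Leaf Cfsg.Agent.Lib.Helper27.OC2Leaf Cfsg.Agent.Lib.Helper6.OC2Leaf

variable {ι : Type} [Fintype ι] [DecidableEq ι] {F : Type*} [Field F] [Fintype F]
  {Q : QuadraticForm F (ι → F)} {t : ℕ} {D : Fin t → Submodule F (ι → F)} {k : ℕ}
  {M : Subgroup ↥(Cfsg.isometryGroup F ⇑Q)}

/-! leaves landed in core form, wired here -/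

/-- A1 -/
theorem perm_of_noMixed (hS : MS Q M D k) (hno : ∀ a, InS Q M a → ∃ i, a ∈ D i)
    {g : ↥(Cfsg.isometryGroup F ⇑Q)} (hg : g ∈ M) : IsPerm Q D g :=
  perm_of_noMixed_of (fun h2 _ hU h3 hex _ hτ _ hR h => no_split h2 hU h3 hex hτ hR h) hS hno hg

/-! ## Assembly -/

open Cfsg.Agent.Lib.Helper25.PS Cfsg.Agent.Lib.Helper5.TSMax Cfsg.Agent.Lib.Helper5.NDMax

/-- B5 -/
theorem TB_of_mixed (hS : MS Q M D k) {a : ι → F} (ha : InS Q M a) (hmix : Mixed D a) :
    ∃ i z, TB Q M D i z := by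
  have hG := hS.toGeo
  -- a singular nonzero component
  by_cases hsing : ∃ i, pr hG i a ≠ 0 ∧ Q (pr hG i a) = 0
  · obtain ⟨i, hp0, hQi⟩ := hsing
    rcases hG.hex with h5 | h5
    · exact ⟨i, _, TB_of_sing_q5 hS h5 ha (hmix i) hp0 hQi⟩
    · obtain ⟨z, hz⟩ := TB_of_sing5 hS h5 ha (hmix i) hp0 hQi
      exact ⟨i, z, hz⟩
  · push Not at hsing
    -- two nonzero components
    have hex1 : ∃ i₁, pr hG i₁ a ≠ 0 := by
      by_contra hcon
      push Not at hcon
      apply ha.1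
      rw [← sum_pr hG a]
      simp [hcon]
    obtain ⟨i₁, h1⟩ := hex1
    have hex2 : ∃ i₂, i₂ ≠ i₁ ∧ pr hG i₂ a ≠ 0 := by
      by_contra hcon
      push Not at hcon
      exact hmix i₁ (mem_of_pr_eq_zero hG hcon)
    obtain ⟨i₂, h21, h2⟩ := hex2
    have hQ1 : Q (pr hG i₁ a) ≠ 0 := hsing i₁ h1
    have hQ2 : Q (pr hG i₂ a) ≠ 0 := hsing i₂ h2
    have hfr1 : finrank F (D i₁) = k := hG.fr i₁
    by_cases h5 : 5 ≤ k
    · obtain ⟨z, hz, hz0, hQz, hzp⟩ :=
        exists_sing_perp5 (Q := Q) (U := D i₁) (by rw [hfr1]; exact h5) (pr hG i₁ a)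
      exact ⟨i₁, z, TB_of_nonsing hS ha (hmix i₁) hQ1 hz hz0 hQz hzp⟩
    · have hq5 : 5 ≤ Fintype.card F := by
        rcases hG.hex with h | h
        · exact h
        · exact absurd h h5
      obtain ⟨z₀, hz₀, w₀, hw₀, hz₀0, hQz₀, hzw, hQw⟩ :=
        exists_triple hG.h2 (ndOn hG i₁) (by rw [hfr1]; exact hG.k3)
      by_cases hsq : IsSquare (Q w₀ * Q (pr hG i₁ a))
      · obtain ⟨r, hr⟩ := hsq
        have hr0 : r ≠ 0 := by
          rintro rfl
          rw [mul_zero] at hr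
          exact (mul_ne_zero hQw hQ1) hr
        obtain ⟨z, hz, hz0, hQz, hzp⟩ := exists_sing_perp hG.h2 hz₀ hz₀0 hQz₀ hw₀ hzw
          (pr_mem hG i₁ a) (γ := r / Q w₀) (div_ne_zero hr0 hQw)
          (by field_simp; rw [mul_comm, hr]; ring) hQw
        exact ⟨i₁, z, TB_of_nonsing hS ha (hmix i₁) hQ1 hz hz0 hQz hzp⟩
      · have hn₀ : ¬ IsSquare (Q w₀ / Q (pr hG i₁ a)) := by
          rintro ⟨r, hr⟩
          apply hsq
          refine ⟨r * Q (pr hG i₁ a), ?_⟩
          have : Q w₀ = r * r * Q (pr hG i₁ a) := by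
            rw [← hr]; field_simp
          rw [this]; ring
        obtain ⟨a', ha', hQ1', h2'⟩ := change_class hS hq5 ha (Ne.symm h21) hQ1 hQ2 hn₀
        have hQ1'' : Q (pr hG i₁ a') = Q w₀ := by
          rw [hQ1']; field_simp
        have hai' : a' ∉ D i₁ := by
          intro hmem
          exact h2' (pr_ne hG (Ne.symm h21) hmem)
        obtain ⟨z, hz, hz0, hQz, hzp⟩ := exists_sing_perp hG.h2 hz₀ hz₀0 hQz₀ hw₀ hzw
          (pr_mem hG i₁ a') (γ := 1) one_ne_zero (by rw [hQ1'']; ring) hQw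
        exact ⟨i₁, z, TB_of_nonsing hS ha' hai' (by rw [hQ1'']; exact hQw) hz hz0 hQz hzp⟩

/-- polar against a vector of block `i` vanishes on vectors with zero `i`-component -/
theorem polar_eq_zero_of_pr (hG : Geo Q D k) {i : Fin t} {z y : ι → F} (hz : z ∈ D i)
    (hy : pr hG i y = 0) : polar Q z y = 0 := by
  rw [polar_pr' hG hz y, hy, polar_zero_right]

/-- C2 -/
theorem TB_split (hS : MS Q M D k) {i : Fin t} {z : ι → F} (h : TB Q M D i z) :
    ∃ y, y ≠ 0 ∧ pr hS.toGeo i y = 0 ∧ InE Q M z y := by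
  have hG := hS.toGeo
  obtain ⟨hz, hz0, hQz, y, hzy, hyi, hE⟩ := h
  refine ⟨y + -(pr hG i y), ?_, ?_, ?_⟩
  · intro h0
    apply hyi
    have : y = pr hG i y := by
      have := add_neg_eq_zero.1 h0
      exact this
    rw [this]
    exact pr_mem hG i y
  · rw [map_add, map_neg, pr_same hG (pr_mem hG i y), add_neg_cancel]
  · have hzp : polar Q z (pr hG i y) = 0 := by
      rw [← polar_pr' hG hz y]; exact hzy
    exact inE_add hQz hzy (by rw [polar_neg_right, hzp, neg_zero]) hE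
      (inE_neg hQz hzp (inE_block hS hz hz0 hQz (pr_mem hG i y) hzp))

/-- C6 -/
theorem inA_all (hS : MS Q M D k) {i : Fin t} {z : ι → F} (h : TB Q M D i z) :
    ∀ v, polar Q z v = 0 → InA Q M z v := by
  have hG := hS.toGeo
  have hz := h.1
  have hz0 := h.2.1
  have hQz := h.2.2.1
  obtain ⟨y, hy0, hyi, hE⟩ := TB_split hS h
  have hA := inA_of_inE hS hz hz0 hQz hyi hE
  obtain ⟨l, hli, v₀, hv₀, hv₀0, hAv⟩ := exists_block_vec hS hz hz0 hQz hy0 hyi hA
  have hl := block_le hS hli hz hz0 hQz hv₀ hv₀0 hAv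
  -- all blocks other than `i`
  have hall : ∀ j, j ≠ i → ∀ w ∈ D j, InA Q M z w := by
    intro j hji w hw
    by_cases hlj : l = j
    · subst hlj
      exact hl w hw
    · obtain ⟨s, hsM, hsi, hsj⟩ := exists_swap hS hli hji hlj
      obtain ⟨x, hx, hxw⟩ := hsj w hw
      have := InA.conj hsM (hl x hx)
      rwa [hsi z hz, hxw] at this
  -- the block `i`
  have hblock : ∀ w ∈ D i, polar Q z w = 0 → InA Q M z w := by
    intro w hw hzw c
    exact inE_block hS hz hz0 hQz ((D i).smul_mem c hw) (by rw [polar_smul_right, hzw, smul_zero])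
  intro v hzv
  have hcomp : ∀ j, InA Q M z (pr hG j v) := by
    intro j
    by_cases hji : j = i
    · subst hji
      apply hblock _ (pr_mem hG j v)
      rw [← polar_pr' hG hz v]; exact hzv
    · exact hall j hji _ (pr_mem hG j v)
  have hpol : ∀ j, polar Q z (pr hG j v) = 0 := by
    intro j
    by_cases hji : j = i
    · subst hji
      rw [← polar_pr' hG hz v]; exact hzv
    · exact hG.orth i j (Ne.symm hji) z hz _ (pr_mem hG j v)
  have hsum : ∀ s : Finset (Fin t), polar Q z (∑ j ∈ s, pr hG j v) = 0 ∧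
      InA Q M z (∑ j ∈ s, pr hG j v) := by
    intro s
    induction s using Finset.induction_on with
    | empty => exact ⟨by simp, by simpa using inA_zero M z⟩
    | insert j s hjs ih =>
      rw [Finset.sum_insert hjs]
      exact ⟨by rw [polar_add_right, hpol j, ih.1, add_zero],
        InA.add hQz (hpol j) ih.1 (hcomp j) ih.2⟩
  have := (hsum Finset.univ).2
  rwa [sum_pr hG v] at this

/-- D1 -/
theorem eq_omega_of_TB (hS : MS Q M D k) {i : Fin t} {z : ι → F} (h : TB Q M D i z) :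
    M = Cfsg.Omega F ⇑Q := by
  have hG := hS.toGeo
  have hz := h.1
  have hz0 := h.2.1
  have hQz := h.2.2.1
  have hAz := inA_all hS h
  -- another block
  obtain ⟨l, hli⟩ : ∃ l : Fin t, l ≠ i := by
    have h3 := hG.t3
    by_contra hcon
    push Not at hcon
    have : Fintype.card (Fin t) ≤ 1 := Fintype.card_le_one_iff.2 (fun a b => (hcon a).trans (hcon b).symm)
    rw [Fintype.card_fin] at this
    omega
  have hfrl : 3 ≤ finrank F (D l) := by rw [hG.fr l]; exact hG.k3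
  obtain ⟨y, hy, hy0, hQy⟩ := exists_singular_in Q (D l) hfrl
  obtain ⟨y₂, hy₂, hQy₂, hyy₂⟩ := exists_hyp_partner Q (D l) (ndOn hG l) hy hy0 hQy
  have hy₂0 : y₂ ≠ 0 := by
    rintro rfl
    rw [polar_zero_right] at hyy₂
    exact zero_ne_one hyy₂
  have key : ∀ u ∈ D l, u ≠ 0 → Q u = 0 → ∀ v, polar Q u v = 0 → InA Q M u v := by
    intro u hu hu0 hQu
    apply inA_all hS (i := l)
    have huz : polar Q u z = 0 := hG.orth l i hli u hu z hz
    have hzu : polar Q z u = 0 := by rw [polar_comm]; exact huz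
    refine ⟨hu, hu0, hQu, z, huz, ?_, ?_⟩
    · intro hzl
      exact hz0 (disjoint_blocks hG (Ne.symm hli) hz hzl)
    · obtain ⟨g, hgM, hg⟩ := hAz u hzu (-1)
      refine ⟨g, hgM, fun x => ?_⟩
      rw [hg]
      unfold egen
      rw [QuadraticMap.map_smul, hQu, hQz, polar_smul_left, polar_comm Q u x, polar_comm Q z x]
      simp only [smul_eq_mul, mul_zero, zero_mul, zero_smul, sub_zero]
      module
  have hg1 := good_of_all hy0 hQy (key y hy hy0 hQy)
  have hg2 := good_of_all hy₂0 hQy₂ (key y₂ hy₂ hy₂0 hQy₂)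
  apply eq_omega_of_all_good Q hG.nd hG.card M hS.le
  exact all_good_of_opposite Q hG.nd (by have := hG.card; omega) M hg1 hg2 (by
    rw [ort_mk', hyy₂]
    exact one_ne_zero)

/-- E2 : the maximality theorem for a general nondegenerate form -/
theorem isMaximalIn_dec (hG : Geo Q D k) :
    Cfsg.Geo.IsMaximalIn (Cfsg.Geo.omegaGL ⇑Q)
      (Cfsg.Geo.decompositionStabilizer D ⊓ Cfsg.Geo.omegaGL ⇑Q) := by
  obtain ⟨S, hSdef⟩ : ∃ S : Subgroup ↥(Cfsg.isometryGroup F ⇑Q),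
      S = (Cfsg.Geo.decompositionStabilizer D).comap (Cfsg.isometryGroup F ⇑Q).subtype :=
    ⟨_, rfl⟩
  have hlin : ∀ g : ↥(Cfsg.isometryGroup F ⇑Q),
      Matrix.toLin' ((g : GL ι F) : Matrix ι ι F) = ((toOG Q g : (ι → F) ≃ₗ[F] (ι → F)) : (ι → F) →ₗ[F] (ι → F)) :=
    fun g => LinearMap.ext fun v => by
      rw [Matrix.toLin'_apply]
      rfl
  have hmemS : ∀ g : ↥(Cfsg.isometryGroup F ⇑Q), g ∈ S ↔ IsPerm Q D g := by
    intro g
    rw [hSdef, Subgroup.mem_comap]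
    constructor
    · rintro ⟨σ, hσ⟩
      refine ⟨σ, fun i x hx => ?_⟩
      rw [← hσ i]
      refine ⟨x, hx, ?_⟩
      rw [show ((Cfsg.isometryGroup F ⇑Q).subtype g : GL ι F) = (g : GL ι F) from rfl,
        Matrix.toLin'_apply]
      rfl
    · rintro ⟨σ, hσ⟩
      refine ⟨σ, fun i => ?_⟩
      rw [show ((Cfsg.isometryGroup F ⇑Q).subtype g : GL ι F) = (g : GL ι F) from rfl, hlin]
      exact map_eq_of_mem _ ((hG.fr i).trans (hG.fr (σ i)).symm) (hσ i)
  have e1 : Cfsg.Geo.decompositionStabilizer D ⊓ Cfsg.Geo.omegaGL ⇑Q =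
      (S ⊓ Cfsg.Omega F ⇑Q).map (Cfsg.isometryGroup F ⇑Q).subtype := by
    rw [hSdef]
    ext x
    constructor
    · rintro ⟨hx1, g, hg, rfl⟩
      exact ⟨g, ⟨hx1, hg⟩, rfl⟩
    · rintro ⟨g, ⟨hg1, hg2⟩, rfl⟩
      exact ⟨hg1, g, hg2, rfl⟩
  rw [e1]
  have hlt : S ⊓ Cfsg.Omega F ⇑Q < Cfsg.Omega F ⇑Q := by
    refine lt_of_le_of_ne inf_le_right (fun heq => ?_)
    obtain ⟨g, hgΩ, hg⟩ := exists_not_perm hG
    rw [← heq] at hgΩ
    exact hg ((hmemS g).1 hgΩ.1)
  apply isMaximalIn_map _ (Subgroup.subtype_injective _) hlt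
  intro M h1 h2
  have hS : MS Q M D k := { hG with
    stab := fun g hgΩ hgP => h1 ⟨(hmemS g).2 hgP, hgΩ⟩
    le := h2 }
  by_cases hno : ∀ a, InS Q M a → ∃ i, a ∈ D i
  · left
    apply le_antisymm _ h1
    intro g hg
    exact ⟨(hmemS g).2 (perm_of_noMixed hS hno hg), h2 hg⟩
  · right
    push Not at hno
    obtain ⟨a, ha, hmix⟩ := hno
    obtain ⟨i, z, hTB⟩ := TB_of_mixed hS ha hmix
    exact eq_omega_of_TB hS hTB

end Cfsg.Agent.Lib.Helper17.OC2Main

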