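import Mathlib
import Cfsg.Prelude.Def_GeometricClasses
import Cfsg.Agent.Lib.Lead.OEQF
import Cfsg.Agent.Lib.Helper9.PlusPlane
import Cfsg.Agent.Lib.Helper5.DecompNM2

/-!
OMEGA-EVEN, OE-ROWS4 (planner lead): leaf R21a `nsv_of_planes_two` (helper17) + tools on hyperbolic coordinates
(`exists_hypCoords`, `q_sum_orth`, `stab_maps`), reused by R21c.
-/

set_option autoImplicit false
set_option linter.unusedSectionVars false
set_option linter.unusedVariables false

namespace Cfsg.Agent.Lib.Helper17.OELeaf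

open Cfsg Cfsg.Geo Matrix Module QuadraticMap Cfsg.Agent.Lib.Lead.OE
open Cfsg.Agent.Lib.Helper5.DecompNM Cfsg.Agent.Lib.Helper9.PlusPlane

section generic
variable {ι : Type} [Fintype ι] [DecidableEq ι] {F : Type*} [Field F] [Fintype F]
  (Q : QuadraticForm F (ι → F))

/-- hyperbolic coordinates on an orthogonal decomposition into planes of plus type -/
theorem exists_hypCoords {t : ℕ} {D : Fin t → Submodule F (ι → F)}
    (hD : IsOrthogonalMDecomposition ⇑Q 2 D) (hpl : ∀ i, IsPlusTypeOn ⇑Q (D i)) :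
    ∃ e f : Fin t → ι → F, HypCoords Q D e f := by
  have hfr := hD.decomp.decomp.finrank_eq
  have hex : ∀ i, ∃ e f : ι → F, e ∈ D i ∧ f ∈ D i ∧ HP Q e f ∧
      ∀ v ∈ D i, ∃ x y : F, v = x • e + y • f := by
    intro i
    obtain ⟨U, hUW, hU, hUd⟩ := hpl i
    rw [hfr i] at hUd
    exact exists_hp (Q := Q) (D i) (hfr i)
      (fun w hw hw0 => (hD.decomp.nondegenerate i w hw hw0).1) U hUW hU (by omega)
  choose e f he hf hp hspan using hex
  exact ⟨e, f, ⟨he, hf, hp, hspan, hD.decomp.orthogonal⟩⟩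

/-- `Q` is additive on pairwise orthogonal vectors -/
theorem q_sum_orth {κ : Type*} [DecidableEq κ] (s : Finset κ) (x : κ → (ι → F))
    (h : ∀ i ∈ s, ∀ j ∈ s, i ≠ j → polar ⇑Q (x i) (x j) = 0) :
    Q (∑ i ∈ s, x i) = ∑ i ∈ s, Q (x i) := by
  induction s using Finset.induction_on with
  | empty => simp
  | insert a s ha ih =>
    rw [Finset.sum_insert ha, Finset.sum_insert ha, QuadraticMap.map_add (⇑Q), ih (fun i hi j hj hij =>
      h i (Finset.mem_insert_of_mem hi) j (Finset.mem_insert_of_mem hj) hij)]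
    have h0 : polar ⇑Q (x a) (∑ i ∈ s, x i) = 0 := by
      have h1 : polar ⇑Q (x a) (∑ i ∈ s, x i) = ∑ i ∈ s, polar ⇑Q (x a) (x i) := by
        have h2 : (Q.polarBilin (x a)) (∑ i ∈ s, x i) = ∑ i ∈ s, (Q.polarBilin (x a)) (x i) :=
          map_sum (Q.polarBilin (x a)) x s
        simp only [polarBilin_apply_apply] at h2
        exact h2
      rw [h1]
      refine Finset.sum_eq_zero (fun i hi => ?_)
      refine h a (Finset.mem_insert_self a s) i (Finset.mem_insert_of_mem hi) ?_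
      rintro rfl
      exact ha hi
    rw [h0, add_zero]

/-- an isometry permuting the members maps `D i` into `D (σ i)` and preserves `Q` -/
theorem stab_maps {t : ℕ} {D : Fin t → Submodule F (ι → F)} {g : GL ι F}
    (hgD : g ∈ decompositionStabilizer D) (hgI : g ∈ isometryGroup F ⇑Q) :
    ∃ σ : Equiv.Perm (Fin t), ∀ i, ∀ x ∈ D i,
      (g : Matrix ι ι F) *ᵥ x ∈ D (σ i) ∧ Q ((g : Matrix ι ι F) *ᵥ x) = Q x := by
  obtain ⟨σ, hσ⟩ := hgD
  refine ⟨σ, fun i x hx => ⟨?_, hgI x x⟩⟩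
  rw [← hσ i]
  exact ⟨x, hx, by rw [Matrix.toLin'_apply]⟩

/-- R21a.  `q = 2`: `v := Σ_i (e i + f i)`, `Q v = t = 1`; an isometry permuting the planes permutes the `e i + f i`. -/
theorem nsv_of_planes_two (hq : Fintype.card F = 2) {t : ℕ} {D : Fin t → Submodule F (ι → F)}
    (hD : IsOrthogonalMDecomposition ⇑Q 2 D) (hpl : ∀ i, IsPlusTypeOn ⇑Q (D i)) (ht : Odd t) :
    ∃ v : ι → F, Q v ≠ 0 ∧
      decompositionStabilizer D ⊓ isometryGroup F ⇑Q ≤ subspaceStabilizer (Submodule.span F {v}) := by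
  classical
  obtain ⟨e, f, hc⟩ := exists_hypCoords Q hD hpl
  have h2 : (2 : F) = 0 := two_eq_zero_of_card hq
  have h01 := eq_zero_or_one_of_card hq
  have hQv : Q (∑ i, sv e f i) = 1 := by
    rw [q_sum_orth Q Finset.univ (sv e f) (fun i _ j _ hij => hc.polar_sv_other hij (hc.sv_mem j))]
    simp only [hc.q_sv, Finset.sum_const, Finset.card_univ, Fintype.card_fin, nsmul_eq_mul, mul_one]
    obtain ⟨k, rfl⟩ := ht
    push_cast
    linear_combination (k : F) * h2
  refine ⟨∑ i, sv e f i, by rw [hQv]; exact one_ne_zero, ?_⟩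
  intro g hg
  obtain ⟨hgD, hgI⟩ := Subgroup.mem_inf.1 hg
  obtain ⟨σ, hσ⟩ := stab_maps Q hgD hgI
  have hsv : ∀ i, (g : Matrix ι ι F) *ᵥ sv e f i = sv e f (σ i) := by
    intro i
    obtain ⟨hm, hqv⟩ := hσ i (sv e f i) (hc.sv_mem i)
    obtain ⟨x, y, hxy⟩ := hc.span (σ i) _ hm
    rw [hxy, (hc.hp (σ i)).q_comb, hc.q_sv] at hqv
    rw [hxy]
    rcases h01 x with hx | hx
    · rw [hx, zero_mul] at hqv
      exact absurd hqv zero_ne_one
    rcases h01 y with hy | hy
    · rw [hy, mul_zero] at hqv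
      exact absurd hqv zero_ne_one
    rw [hx, hy, one_smul, one_smul]
    rfl
  have hgv : (g : Matrix ι ι F) *ᵥ (∑ i, sv e f i) = (1 : F) • ∑ i, sv e f i := by
    rw [one_smul, Matrix.mulVec_sum]
    simp only [hsv]
    exact Equiv.sum_comp σ (sv e f)
  exact mem_stab_span one_ne_zero hgv

end generic

end Cfsg.Agent.Lib.Helper17.OELeaf
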