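import Mathlib
import Cfsg.Prelude.Def_GeometricClasses
import Cfsg.Agent.Lib.Lead.OEQF
import Cfsg.Agent.Lib.Helper9.PlusPlane
import Cfsg.Agent.Lib.Helper5.DecompNM2
import Cfsg.Agent.Lib.Helper1.OER10
import Cfsg.Agent.Lib.Helper17.OER21a

/-!
OMEGA-EVEN, OE-ROWS4 (planner lead): leaf R21c `sub_of_planes_four` (helper17).
`q = 4`, `F₀ = {a | a² = a}`, `ω² = ω + 1`: `u i := e i + f i`, `w i := ω e i + ω² f i`, `Q (a u + b w) = a² + a b + b²`;
a vector of norm `1` in the plane `D k` is `u k`, `w k` or `u k + w k`.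
-/

set_option autoImplicit false
set_option linter.unusedSectionVars false
set_option linter.unusedVariables false

namespace Cfsg.Agent.Lib.Helper17.OELeaf

open Cfsg Cfsg.Geo Matrix Module QuadraticMap Cfsg.Agent.Lib.Lead.OE
open Cfsg.Agent.Lib.Helper5.DecompNM Cfsg.Agent.Lib.Helper9.PlusPlane

section field4
variable {F : Type*} [Field F] [Fintype F]

/-- a primitive cube root of unity in the field with four elements -/
theorem exists_omega4 (hq : Fintype.card F = 4) : ∃ ω : F, ω ^ 2 = ω + 1 := by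
  classical
  have h2 := two_eq_zero_of_card4 hq
  obtain ⟨ω, h0, h1⟩ : ∃ ω : F, ω ≠ 0 ∧ ω ≠ 1 := by
    by_contra hne
    push Not at hne
    have hsub : (Finset.univ : Finset F) ⊆ {0, 1} := by
      intro x _
      by_cases hx : x = 0
      · simp [hx]
      · simp [hne x hx]
    have := (Finset.card_le_card hsub).trans Finset.card_le_two
    rw [Finset.card_univ, hq] at this
    omega
  refine ⟨ω, ?_⟩
  have h4 : ω ^ 4 = ω := by
    have := FiniteField.pow_card ω
    rwa [hq] at this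
  have hprod : ω * ((ω - 1) * (ω ^ 2 + ω + 1)) = 0 := by
    linear_combination h4
  rcases mul_eq_zero.mp hprod with h | h
  · exact absurd h h0
  rcases mul_eq_zero.mp h with h | h
  · exact absurd (sub_eq_zero.mp h) h1
  · linear_combination h - (ω + 1) * h2

/-- the elements of the field with four elements -/
theorem cases_four (hq : Fintype.card F = 4) {ω : F} (hω : ω ^ 2 = ω + 1) (x : F) :
    x = 0 ∨ x = 1 ∨ x = ω ∨ x = ω + 1 := by
  have h2 := two_eq_zero_of_card4 hq
  have h4 : x ^ 4 = x := by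
    have := FiniteField.pow_card x
    rwa [hq] at this
  have hy : (x ^ 2 + x) * (x ^ 2 + x + 1) = 0 := by
    linear_combination h4 + (x ^ 3 + x ^ 2 + x) * h2
  rcases mul_eq_zero.mp hy with h | h
  · have h' : x * (x + 1) = 0 := by linear_combination h
    rcases mul_eq_zero.mp h' with h'' | h''
    · exact Or.inl h''
    · right; left
      linear_combination h'' - h2
  · have h' : (x - ω) * (x + ω + 1) = 0 := by
      linear_combination h - hω - (ω + 1) * h2
    rcases mul_eq_zero.mp h' with h'' | h''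
    · right; right; left
      exact sub_eq_zero.mp h''
    · right; right; right
      linear_combination h'' - (ω + 1) * h2

/-- the prime subfield of the field with four elements -/
theorem exists_prime_subfield4 (hq : Fintype.card F = 4) :
    ∃ F₀ : Subfield F, (∀ a : F, a ∈ F₀ ↔ a ^ 2 = a) ∧ Nat.card F₀ = 2 := by
  have h2 := two_eq_zero_of_card4 hq
  have hadd : ∀ a b : F, (a + b) ^ 2 = a ^ 2 + b ^ 2 := by
    intro a b; linear_combination (a * b) * h2
  let F₀ : Subfield F :=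
    { carrier := {a | a ^ 2 = a}
      mul_mem' := by
        intro a b ha hb
        show (a * b) ^ 2 = a * b
        rw [mul_pow, ha, hb]
      one_mem' := one_pow 2
      add_mem' := by
        intro a b ha hb
        show (a + b) ^ 2 = a + b
        rw [hadd, ha, hb]
      zero_mem' := zero_pow (by norm_num)
      neg_mem' := by
        intro a ha
        show (-a) ^ 2 = -a
        rw [neg_sq, ha]
        linear_combination a * h2
      inv_mem' := by
        intro a ha
        show (a⁻¹) ^ 2 = a⁻¹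
        rw [inv_pow, ha] }
  have hmem : ∀ a : F, a ∈ F₀ ↔ a ^ 2 = a := fun a => Iff.rfl
  refine ⟨F₀, hmem, ?_⟩
  rw [Nat.card_eq_two_iff]
  refine ⟨⟨0, (hmem 0).mpr (by simp)⟩, ⟨1, (hmem 1).mpr (by simp)⟩, ?_, ?_⟩
  · intro h
    have := congrArg Subtype.val h
    exact zero_ne_one this
  · ext ⟨a, ha⟩
    simp only [Set.mem_insert_iff, Set.mem_singleton_iff, Set.mem_univ, iff_true, Subtype.mk.injEq]
    have ha' : a ^ 2 = a := (hmem a).mp ha
    have : a * (a - 1) = 0 := by linear_combination ha'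
    rcases mul_eq_zero.mp this with h | h
    · exact Or.inl h
    · exact Or.inr (sub_eq_zero.mp h)

end field4

section generic
variable {ι : Type} [Fintype ι] [DecidableEq ι] {F : Type*} [Field F] [Fintype F]
  (Q : QuadraticForm F (ι → F))

/-- a basis indexed by any finite type is the family of columns of an invertible matrix -/
theorem matrix_of_basis {κ : Type*} [Fintype κ] [DecidableEq κ] (b : Module.Basis κ F (ι → F)) :
    ∃ (e : κ ≃ ι) (P : GL ι F), ∀ k, (P : Matrix ι ι F) *ᵥ Pi.single (e k) 1 = b k := by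
  have htn : Fintype.card κ = Fintype.card ι := by
    have h1 := Module.finrank_eq_card_basis b
    rw [Module.finrank_fintype_fun_eq_card] at h1
    exact h1.symm
  obtain ⟨e⟩ : Nonempty (κ ≃ ι) := Fintype.card_eq.mp htn
  obtain ⟨b', hb'⟩ : ∃ b' : Module.Basis ι F (ι → F), b' = b.reindex e := ⟨_, rfl⟩
  refine ⟨e, ⟨(Pi.basisFun F ι).toMatrix b', b'.toMatrix (Pi.basisFun F ι),
    Module.Basis.toMatrix_mul_toMatrix_flip _ _, Module.Basis.toMatrix_mul_toMatrix_flip _ _⟩, ?_⟩
  intro i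
  funext k
  show (((Pi.basisFun F ι).toMatrix b') *ᵥ Pi.single (e i) 1) k = b i k
  rw [Matrix.mulVec_single_one]
  show ((Pi.basisFun F ι).toMatrix b') k (e i) = b i k
  rw [Module.Basis.toMatrix_apply, Pi.basisFun_repr, hb', Module.Basis.reindex_apply, Equiv.symm_apply_apply]

end generic

section planes
variable {ι : Type} [Fintype ι] [DecidableEq ι] {F : Type*} [Field F] [Fintype F]
  (Q : QuadraticForm F (ι → F)) {t : ℕ} {D : Fin t → Submodule F (ι → F)} {e f : Fin t → ι → F}

/-- `a u i + b w i` with `u i = e i + f i`, `w i = ω e i + ω² f i` -/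
def cmb4 (ω : F) (e f : Fin t → ι → F) (i : Fin t) (a b : F) : ι → F :=
  (a + b * ω) • e i + (a + b * ω ^ 2) • f i

/-- the family `u i, w i` -/
def vec4 (ω : F) (e f : Fin t → ι → F) (p : Fin t × Fin 2) : ι → F :=
  cmb4 ω e f p.1 (if p.2 = 0 then 1 else 0) (if p.2 = 0 then 0 else 1)

omit [Fintype ι] [DecidableEq ι] [Fintype F] in
theorem cmb4_add (ω : F) (e f : Fin t → ι → F) (i : Fin t) (a b a' b' : F) :
    cmb4 ω e f i a b + cmb4 ω e f i a' b' = cmb4 ω e f i (a + a') (b + b') := by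
  unfold cmb4
  module

omit [Fintype ι] [DecidableEq ι] [Fintype F] in
theorem cmb4_smul (ω : F) (e f : Fin t → ι → F) (i : Fin t) (c a b : F) :
    c • cmb4 ω e f i a b = cmb4 ω e f i (c * a) (c * b) := by
  unfold cmb4
  module

omit [Fintype ι] [DecidableEq ι] [Fintype F] in
theorem cmb4_eq (ω : F) (e f : Fin t → ι → F) (i : Fin t) (a b : F) :
    cmb4 ω e f i a b = a • vec4 ω e f (i, 0) + b • vec4 ω e f (i, 1) := by
  unfold vec4
  simp only [if_pos, if_neg, one_ne_zero, not_false_eq_true, Fin.isValue]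
  rw [cmb4_smul, cmb4_smul, cmb4_add]
  congr 1 <;> ring

theorem cmb4_mem (hc : HypCoords Q D e f) (ω : F) (i : Fin t) (a b : F) :
    cmb4 ω e f i a b ∈ D i :=
  (D i).add_mem ((D i).smul_mem _ (hc.e_mem i)) ((D i).smul_mem _ (hc.f_mem i))

theorem q_cmb4 (hc : HypCoords Q D e f) (h2 : (2 : F) = 0) {ω : F} (hω : ω ^ 2 = ω + 1)
    (i : Fin t) (a b : F) : Q (cmb4 ω e f i a b) = a ^ 2 + a * b + b ^ 2 := by
  unfold cmb4
  rw [(hc.hp i).q_comb]
  linear_combination (a * b + b ^ 2 * ω + b ^ 2) * hω + (a * b * ω + b ^ 2 * ω) * h2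

theorem hyp_polar_f (hc : HypCoords Q D e f) (i k : Fin t) (x y : F) :
    polar ⇑Q (f k) (x • e i + y • f i) = if i = k then x else 0 := by
  by_cases hik : i = k
  · subst hik
    rw [if_pos rfl, polar_comm, (hc.hp i).polar_comb_f]
  · rw [if_neg hik]
    exact hc.orth k i (Ne.symm hik) _ (hc.f_mem k) _
      ((D i).add_mem ((D i).smul_mem _ (hc.e_mem i)) ((D i).smul_mem _ (hc.f_mem i)))

theorem hyp_polar_e (hc : HypCoords Q D e f) (i k : Fin t) (x y : F) :
    polar ⇑Q (e k) (x • e i + y • f i) = if i = k then y else 0 := by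
  by_cases hik : i = k
  · subst hik
    rw [if_pos rfl, polar_comm, (hc.hp i).polar_comb_e]
  · rw [if_neg hik]
    exact hc.orth k i (Ne.symm hik) _ (hc.e_mem k) _
      ((D i).add_mem ((D i).smul_mem _ (hc.e_mem i)) ((D i).smul_mem _ (hc.f_mem i)))

/-- the `u i, w i` are linearly independent -/
theorem vec4_li (hc : HypCoords Q D e f) {ω : F} (hω : ω ^ 2 = ω + 1) :
    LinearIndependent F (vec4 ω e f) := by
  classical
  rw [Fintype.linearIndependent_iff]
  intro g hg
  have key : ∀ k : Fin t, g (k, 0) + g (k, 1) * ω = 0 ∧ g (k, 0) + g (k, 1) * ω ^ 2 = 0 := by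
    intro k
    have hsum : ∑ p : Fin t × Fin 2, g p • vec4 ω e f p =
        ∑ i : Fin t, cmb4 ω e f i (g (i, 0)) (g (i, 1)) := by
      rw [Fintype.sum_prod_type]
      refine Finset.sum_congr rfl (fun i _ => ?_)
      rw [Fin.sum_univ_two, cmb4_eq]
    rw [hsum] at hg
    constructor
    · have h1 := congrArg (Q.polarBilin (f k)) hg
      rw [map_sum, map_zero] at h1
      simp only [polarBilin_apply_apply, cmb4, hyp_polar_f Q hc, Finset.sum_ite_eq', Finset.mem_univ,
        if_true] at h1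
      exact h1
    · have h1 := congrArg (Q.polarBilin (e k)) hg
      rw [map_sum, map_zero] at h1
      simp only [polarBilin_apply_apply, cmb4, hyp_polar_e Q hc, Finset.sum_ite_eq', Finset.mem_univ,
        if_true] at h1
      exact h1
  rintro ⟨k, j⟩
  obtain ⟨h1, h2'⟩ := key k
  have hb : g (k, 1) = 0 := by linear_combination h2' - h1 - g (k, 1) * hω
  have ha : g (k, 0) = 0 := by rw [hb] at h1; linear_combination h1
  fin_cases j
  · exact ha
  · exact hb

/-- the `u i, w i` span the space -/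
theorem vec4_span (hc : HypCoords Q D e f) (hD : IsMDecomposition 2 D) (h2 : (2 : F) = 0) {ω : F}
    (hω : ω ^ 2 = ω + 1) : ⊤ ≤ Submodule.span F (Set.range (vec4 ω e f)) := by
  rw [← hD.iSup_eq_top]
  refine iSup_le (fun i => ?_)
  intro x hx
  obtain ⟨a, b, rfl⟩ := hc.span i x hx
  have hu : vec4 ω e f (i, 0) ∈ Submodule.span F (Set.range (vec4 ω e f)) :=
    Submodule.subset_span ⟨_, rfl⟩
  have hw : vec4 ω e f (i, 1) ∈ Submodule.span F (Set.range (vec4 ω e f)) :=
    Submodule.subset_span ⟨_, rfl⟩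
  have he : e i = cmb4 ω e f i (ω ^ 2) 1 := by
    unfold cmb4
    have h1 : ω ^ 2 + 1 * ω = 1 := by linear_combination hω + ω * h2
    have h3 : ω ^ 2 + 1 * ω ^ 2 = 0 := by linear_combination ω ^ 2 * h2
    rw [h1, h3, one_smul, zero_smul, add_zero]
  have hf : f i = cmb4 ω e f i ω 1 := by
    unfold cmb4
    have h1 : ω + 1 * ω = 0 := by linear_combination ω * h2
    have h3 : ω + 1 * ω ^ 2 = 1 := by linear_combination hω + ω * h2
    rw [h1, h3, one_smul, zero_smul, zero_add]
  have hcm : ∀ a b : F, cmb4 ω e f i a b ∈ Submodule.span F (Set.range (vec4 ω e f)) := by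
    intro a b
    rw [cmb4_eq]
    exact Submodule.add_mem _ (Submodule.smul_mem _ _ hu) (Submodule.smul_mem _ _ hw)
  refine Submodule.add_mem _ (Submodule.smul_mem _ _ ?_) (Submodule.smul_mem _ _ ?_)
  · rw [he]; exact hcm _ _
  · rw [hf]; exact hcm _ _

/-- a vector of norm `1` in the plane `D k` is `u k`, `w k` or `u k + w k` -/
theorem norm_one_cmb4 (hc : HypCoords Q D e f) (hq : Fintype.card F = 4) {ω : F} (hω : ω ^ 2 = ω + 1)
    (k : Fin t) {x : ι → F} (hx : x ∈ D k) (hQx : Q x = 1) :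
    ∃ a b : F, a ^ 2 = a ∧ b ^ 2 = b ∧ x = cmb4 ω e f k a b := by
  have h2 := two_eq_zero_of_card4 hq
  obtain ⟨α, β, rfl⟩ := hc.span k x hx
  rw [(hc.hp k).q_comb] at hQx
  unfold cmb4
  rcases cases_four hq hω α with h | h | h | h
  · rw [h, zero_mul] at hQx
    exact absurd hQx zero_ne_one
  · -- α = 1, β = 1: a = 1, b = 0
    have hβ : β = 1 := by rw [h, one_mul] at hQx; exact hQx
    refine ⟨1, 0, by ring, by ring, ?_⟩
    rw [h, hβ]
    congr 1 <;> congr 1 <;> ring
  · -- α = ω, β = ω²: a = 0, b = 1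
    have hβ : β = ω ^ 2 := by
      rw [h] at hQx
      have h3 : ω ^ 3 = 1 := by linear_combination (ω + 1) * hω + ω * h2
      linear_combination (ω ^ 2) * hQx - β * h3
    refine ⟨0, 1, by ring, by ring, ?_⟩
    rw [h, hβ]
    congr 1 <;> congr 1 <;> ring
  · -- α = ω + 1 = ω², β = ω: a = 1, b = 1
    have hβ : β = ω := by
      rw [h] at hQx
      have h3 : ω * (ω + 1) = 1 := by linear_combination hω + ω * h2
      linear_combination ω * hQx - β * h3
    refine ⟨1, 1, by ring, by ring, ?_⟩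
    rw [h, hβ]
    congr 1 <;> congr 1
    · ring
    · linear_combination (-1 : F) * hω - h2

end planes

section main
variable {ι : Type} [Fintype ι] [DecidableEq ι] {F : Type*} [Field F] [Fintype F]
  (Q : QuadraticForm F (ι → F))

/-- R21c.  `q = 4`, planes of plus type: `F₀ = 𝔽₂`, the columns of `P` are the `u i = e i + f i`, `w i = ω e i + ω² f i`. -/
theorem sub_of_planes_four (hq : Fintype.card F = 4) {t : ℕ} {D : Fin t → Submodule F (ι → F)}
    (hD : IsOrthogonalMDecomposition ⇑Q 2 D) (hpl : ∀ i, IsPlusTypeOn ⇑Q (D i)) :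
    ∃ (F₀ : Subfield F) (P : GL ι F) (ζ : F), Fintype.card F = Nat.card F₀ ^ 2 ∧ ζ ≠ 0 ∧
      IsQuadFormRationalStructure (fun v : ι → F => ζ * Q v) F₀ P ∧
      decompositionStabilizer D ⊓ isometryGroup F ⇑Q ≤ subfieldSubgroup F₀ P := by
  classical
  obtain ⟨e, f, hc⟩ := exists_hypCoords Q hD hpl
  have h2 : (2 : F) = 0 := two_eq_zero_of_card4 hq
  obtain ⟨ω, hω⟩ := exists_omega4 hq
  obtain ⟨F₀, hF₀, hcard₀⟩ := exists_prime_subfield4 hq
  obtain ⟨bs, hbs⟩ : ∃ bs : Module.Basis (Fin t × Fin 2) F (ι → F), ⇑bs = vec4 ω e f :=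
    ⟨Module.Basis.mk (vec4_li Q hc hω) (vec4_span Q hc hD.decomp.decomp h2 hω), Module.Basis.coe_mk _ _⟩
  obtain ⟨e', P, hP⟩ := matrix_of_basis bs
  rw [hbs] at hP
  -- the image of a coordinate vector
  have hPr : ∀ r : ι → F, (P : Matrix ι ι F) *ᵥ r =
      ∑ i : Fin t, cmb4 ω e f i (r (e' (i, 0))) (r (e' (i, 1))) := by
    intro r
    have hr : r = ∑ p : Fin t × Fin 2, r (e' p) • Pi.single (e' p) (1 : F) := by
      funext j
      rw [Finset.sum_apply]
      simp only [Pi.smul_apply, Pi.single_apply, smul_eq_mul, mul_ite, mul_one, mul_zero]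
      rw [Finset.sum_eq_single (e'.symm j)]
      · simp
      · intro p _ hp
        rw [if_neg]
        intro hj
        exact hp (by rw [hj, Equiv.symm_apply_apply])
      · intro h; exact absurd (Finset.mem_univ _) h
    conv_lhs => rw [hr]
    rw [Matrix.mulVec_sum]
    simp only [Matrix.mulVec_smul, hP]
    rw [Fintype.sum_prod_type]
    refine Finset.sum_congr rfl (fun i _ => ?_)
    rw [Fin.sum_univ_two, cmb4_eq]
  have horth : ∀ (x : Fin t → ι → F), (∀ i, x i ∈ D i) → ∀ i ∈ (Finset.univ : Finset (Fin t)),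
      ∀ j ∈ (Finset.univ : Finset (Fin t)), i ≠ j → polar ⇑Q (x i) (x j) = 0 :=
    fun x hx i _ j _ hij => hc.orth i j hij _ (hx i) _ (hx j)
  refine ⟨F₀, P, 1, by rw [hcard₀, hq]; norm_num, one_ne_zero, ?_, ?_⟩
  · intro r hr
    show 1 * Q ((P : Matrix ι ι F) *ᵥ r) ∈ F₀
    rw [one_mul, hPr r, q_sum_orth Q Finset.univ _ (horth _ (fun i => cmb4_mem Q hc ω i _ _))]
    refine Subfield.sum_mem _ (fun i _ => ?_)
    rw [q_cmb4 Q hc h2 hω]
    exact F₀.add_mem (F₀.add_mem (Subfield.pow_mem _ (hr _) 2) (F₀.mul_mem (hr _) (hr _)))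
      (Subfield.pow_mem _ (hr _) 2)
  · intro g hg
    obtain ⟨hgD, hgI⟩ := Subgroup.mem_inf.1 hg
    obtain ⟨σ, hσ⟩ := stab_maps Q hgD hgI
    have hPinv : ∀ w : ι → F, ((P⁻¹ : GL ι F) : Matrix ι ι F) *ᵥ ((P : Matrix ι ι F) *ᵥ w) = w := by
      intro w
      rw [Matrix.mulVec_mulVec, ← Units.val_mul, inv_mul_cancel, Units.val_one, Matrix.one_mulVec]
    have hQvec : ∀ p : Fin t × Fin 2, Q (vec4 ω e f p) = 1 := by
      rintro ⟨i, j⟩
      unfold vec4
      rw [q_cmb4 Q hc h2 hω]
      fin_cases j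
      · simp
      · simp
    have hcol : ∀ p : Fin t × Fin 2, ∃ a b : F, a ∈ F₀ ∧ b ∈ F₀ ∧
        ((P⁻¹ * g * P : GL ι F) : Matrix ι ι F) *ᵥ Pi.single (e' p) 1 =
          a • Pi.single (e' (σ p.1, 0)) 1 + b • Pi.single (e' (σ p.1, 1)) 1 := by
      intro p
      obtain ⟨hm, hqv⟩ := hσ p.1 (vec4 ω e f p) (cmb4_mem Q hc ω p.1 _ _)
      rw [hQvec p] at hqv
      obtain ⟨a, b, ha, hb, hab⟩ := norm_one_cmb4 Q hc hq hω (σ p.1) hm hqv
      refine ⟨a, b, (hF₀ a).mpr ha, (hF₀ b).mpr hb, ?_⟩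
      rw [Units.val_mul, Units.val_mul, ← Matrix.mulVec_mulVec, ← Matrix.mulVec_mulVec, hP p, hab,
        cmb4_eq, ← hP (σ p.1, 0), ← hP (σ p.1, 1), Matrix.mulVec_add, Matrix.mulVec_smul,
        Matrix.mulVec_smul, hPinv, hPinv]
    have hS : (P⁻¹ * g * P : GL ι F) ∈ (Matrix.GeneralLinearGroup.map (F₀.subtype : F₀ →+* F)).range := by
      apply Cfsg.Agent.Lib.Helper1.OELeaf.mem_range_of_entries
      intro i j
      have h1 : ((P⁻¹ * g * P : GL ι F) : Matrix ι ι F) i j =
          (((P⁻¹ * g * P : GL ι F) : Matrix ι ι F) *ᵥ Pi.single j 1) i := by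
        rw [Matrix.mulVec_single_one]
        rfl
      obtain ⟨a, b, ha, hb, h2'⟩ := hcol (e'.symm j)
      rw [Equiv.apply_symm_apply] at h2'
      rw [h1, h2', Pi.add_apply, Pi.smul_apply, Pi.smul_apply, smul_eq_mul, smul_eq_mul, Pi.single_apply,
        Pi.single_apply]
      refine F₀.add_mem (F₀.mul_mem ha ?_) (F₀.mul_mem hb ?_)
      · split_ifs
        · exact F₀.one_mem
        · exact F₀.zero_mem
      · split_ifs
        · exact F₀.one_mem
        · exact F₀.zero_mem
    refine ⟨P⁻¹ * g * P, Subgroup.mem_sup_left hS, ?_⟩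
    show P * (P⁻¹ * g * P) * P⁻¹ = g
    group

end main

end Cfsg.Agent.Lib.Helper17.OELeaf
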