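import Mathlib
import Cfsg.Agent.Lib.Lead.OEDefs
import Cfsg.Agent.Lib.Helper4.AschA1
import Cfsg.Agent.Lib.Helper20.AschTS
import Cfsg.Agent.Lib.Helper29.AschKF2
import Cfsg.Agent.Lib.Helper29.AschS1K1

/-!
OMEGA-EVEN (planner lead), block [E-RED] (helper17): `egeo_of_not_irr` with the exact signature of `notes/OmEven_leaves.lean`.
Uniform in the characteristic: `R = W ⊓ W^⊥` (polar form), `R₀ = R ⊓ {Q = 0}` is an invariant subspace (on `R` the form `Q` is
additive); `R = 0` -> `.nd W`; `R₀ ≠ 0` -> `.ts R₀`; `R₀ = 0 ≠ R` -> `2 = 0`, `R = ⟨v⟩` with `Q v ≠ 0` -> `.nsv v`.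
-/

set_option autoImplicit false
set_option linter.unusedSectionVars false
set_option linter.unusedVariables false

namespace Cfsg.Agent.Lib.Helper17.OELeaf
open Matrix Cfsg Cfsg.Geo Cfsg.Agent.Lib.Helper20.Asch Cfsg.Agent.Lib.Lead.OE
open scoped Kronecker

variable {F : Type*} [Field F] [Fintype F] {n : ℕ} {Q : (Fin n → F) → F}
  {H N : Subgroup (GL (Fin n) F)}

/-- a subspace invariant under a group is stabilised (vector form) -/
lemma red_le_stab {W : Submodule F (Fin n → F)}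
    (hW : ∀ g ∈ H, ∀ v ∈ W, (g : Matrix (Fin n) (Fin n) F) *ᵥ v ∈ W) : H ≤ subspaceStabilizer W := by
  intro g hg v
  constructor
  · intro hv
    exact hW g hg v hv
  · intro hv
    have h2 := hW g⁻¹ (H.inv_mem hg) _ hv
    have h3 : ((g⁻¹ : GL (Fin n) F) : Matrix (Fin n) (Fin n) F) *ᵥ
        ((glToMat (Fin n) F) g *ᵥ v) = v := by
      show ((g⁻¹ : GL (Fin n) F) : Matrix (Fin n) (Fin n) F) *ᵥ
        ((g : Matrix (Fin n) (Fin n) F) *ᵥ v) = v
      rw [Matrix.mulVec_mulVec, ← Units.val_mul, inv_mul_cancel, Units.val_one, Matrix.one_mulVec]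
    rw [h3] at h2
    exact h2

/-- `Q 0 = 0` -/
lemma red_Q_zero (hQ : IsNondegenerateQuadraticForm Q) : Q 0 = 0 := by
  have := hQ.smul 0 0
  rw [zero_smul] at this
  rw [this]
  ring

/-- `Q (u + v) = Q u + Q v + polar Q u v` -/
lemma red_Q_add (Q : (Fin n → F) → F) (u v : Fin n → F) : Q (u + v) = Q u + Q v + QuadraticMap.polar Q u v := by
  unfold QuadraticMap.polar
  ring

/-- `polar Q v v = 2 * Q v` -/
lemma red_polar_self (hQ : IsNondegenerateQuadraticForm Q) (v : Fin n → F) :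
    QuadraticMap.polar Q v v = 2 * Q v := by
  unfold QuadraticMap.polar
  have h1 : v + v = (2 : F) • v := by rw [two_smul]
  rw [h1, hQ.smul]
  ring

/-- [E-RED] -/
theorem egeo_of_not_irr (h : ECtx Q H) (hn : 2 ≤ n) (hred : ¬ Irr H) : EGeo Q H := by
  classical
  have hQ := h.nd
  have hbil := hQ.polar_bilinear
  have hiso : ∀ g ∈ H, ∀ v : Fin n → F, Q ((g : Matrix (Fin n) (Fin n) F) *ᵥ v) = Q v := by
    intro g hg v
    exact h.le hg v v
  have hisof : ∀ g ∈ H, ∀ u v : Fin n → F, QuadraticMap.polar Q ((g : Matrix (Fin n) (Fin n) F) *ᵥ u)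
      ((g : Matrix (Fin n) (Fin n) F) *ᵥ v) = QuadraticMap.polar Q u v := by
    intro g hg u v
    unfold QuadraticMap.polar
    rw [← Matrix.mulVec_add, hiso g hg, hiso g hg, hiso g hg]
  have hginv : ∀ g : GL (Fin n) F, ∀ u : Fin n → F, (g : Matrix (Fin n) (Fin n) F) *ᵥ
      (((g⁻¹ : GL (Fin n) F) : Matrix (Fin n) (Fin n) F) *ᵥ u) = u := by
    intro g u
    rw [Matrix.mulVec_mulVec, ← Units.val_mul, mul_inv_cancel, Units.val_one, Matrix.one_mulVec]
  unfold Irr ActsIrreducibly at hred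
  push Not at hred
  obtain ⟨W, hW, h0, h1⟩ := hred
  have hWv : ∀ g ∈ H, ∀ v ∈ W, (g : Matrix (Fin n) (Fin n) F) *ᵥ v ∈ W := by
    intro g hg' v hv
    apply hW _ ⟨g, hg', rfl⟩
    exact ⟨v, hv, by rw [Matrix.toLin'_apply]⟩
  -- the radical
  obtain ⟨R, hR⟩ : ∃ R : Submodule F (Fin n → F), ∀ v, v ∈ R ↔ v ∈ W ∧ ∀ u ∈ W, QuadraticMap.polar Q u v = 0 := by
    refine ⟨{ carrier := {v | v ∈ W ∧ ∀ u ∈ W, QuadraticMap.polar Q u v = 0}
              add_mem' := ?_
              zero_mem' := ?_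
              smul_mem' := ?_ }, fun v => Iff.rfl⟩
    · rintro a b ⟨ha, ha'⟩ ⟨hb, hb'⟩
      refine ⟨W.add_mem ha hb, fun u hu => ?_⟩
      rw [hbil.add_right, ha' u hu, hb' u hu, add_zero]
    · refine ⟨W.zero_mem, fun u hu => ?_⟩
      have := hbil.smul_right 0 u 0
      rw [zero_smul, zero_mul] at this
      exact this
    · rintro c v ⟨hv, hv'⟩
      refine ⟨W.smul_mem c hv, fun u hu => ?_⟩
      rw [hbil.smul_right, hv' u hu, mul_zero]
  have hRinv : ∀ g ∈ H, ∀ v ∈ R, (g : Matrix (Fin n) (Fin n) F) *ᵥ v ∈ R := by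
    intro g hg v hv
    rw [hR] at hv ⊢
    refine ⟨hWv g hg v hv.1, fun u hu => ?_⟩
    have h2 := hisof g hg (((g⁻¹ : GL (Fin n) F) : Matrix (Fin n) (Fin n) F) *ᵥ u) v
    rw [hginv] at h2
    rw [h2]
    exact hv.2 _ (hWv g⁻¹ (H.inv_mem hg) u hu)
  by_cases hR0 : R = ⊥
  · -- `W` is non-degenerate
    refine EGeo.nd W h0 h1 ?_ (red_le_stab hWv)
    intro w hw hw0
    have key : ∃ x ∈ W, QuadraticMap.polar Q x w ≠ 0 := by
      by_contra hcon
      push Not at hcon
      have : w ∈ R := (hR w).mpr ⟨hw, hcon⟩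
      rw [hR0] at this
      exact hw0 ((Submodule.mem_bot F).mp this)
    obtain ⟨x, hx, hxw⟩ := key
    exact ⟨⟨x, hx, hxw⟩, ⟨x, hx, by rw [QuadraticMap.polar_comm]; exact hxw⟩⟩
  -- the singular part of the radical
  have hRR : ∀ a ∈ R, ∀ b ∈ R, QuadraticMap.polar Q a b = 0 := by
    intro a ha b hb
    exact ((hR b).mp hb).2 a ((hR a).mp ha).1
  obtain ⟨R₀, hR₀⟩ : ∃ R₀ : Submodule F (Fin n → F), ∀ v, v ∈ R₀ ↔ v ∈ R ∧ Q v = 0 := by
    refine ⟨{ carrier := {v | v ∈ R ∧ Q v = 0}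
              add_mem' := ?_
              zero_mem' := ?_
              smul_mem' := ?_ }, fun v => Iff.rfl⟩
    · rintro a b ⟨ha, ha'⟩ ⟨hb, hb'⟩
      refine ⟨R.add_mem ha hb, ?_⟩
      rw [red_Q_add Q, ha', hb', hRR a ha b hb]
      ring
    · exact ⟨R.zero_mem, red_Q_zero hQ⟩
    · rintro c v ⟨hv, hv'⟩
      refine ⟨R.smul_mem c hv, ?_⟩
      rw [hQ.smul, hv', mul_zero]
  have hR₀inv : ∀ g ∈ H, ∀ v ∈ R₀, (g : Matrix (Fin n) (Fin n) F) *ᵥ v ∈ R₀ := by
    intro g hg v hv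
    rw [hR₀] at hv ⊢
    exact ⟨hRinv g hg v hv.1, by rw [hiso g hg]; exact hv.2⟩
  by_cases hR₀0 : R₀ = ⊥
  swap
  · refine EGeo.ts R₀ hR₀0 ?_ (red_le_stab hR₀inv)
    intro w hw
    exact ((hR₀ w).mp hw).2
  -- `R₀ = 0 ≠ R`: characteristic 2 and `R` is a non-singular line
  obtain ⟨v, hvR, hv0⟩ := Submodule.exists_mem_ne_zero_of_ne_bot hR0
  have hQv : Q v ≠ 0 := by
    intro hq
    have : v ∈ R₀ := (hR₀ v).mpr ⟨hvR, hq⟩
    rw [hR₀0] at this
    exact hv0 ((Submodule.mem_bot F).mp this)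
  have h2 : (2 : F) = 0 := by
    have h3 := red_polar_self hQ v
    rw [hRR v hvR v hvR] at h3
    rcases mul_eq_zero.mp h3.symm with h4 | h4
    · exact h4
    · exact absurd h4 hQv
  have heven : ¬ Odd (Fintype.card F) := by
    intro hodd
    have : (2 : F) ≠ 0 := by
      apply Ring.two_ne_zero
      intro hc
      have h1' := FiniteField.even_card_of_char_two hc
      have h2' := Nat.odd_iff.mp hodd
      omega
    exact this h2
  have hchar : ringChar F = 2 := CharP.ringChar_of_prime_eq_zero Nat.prime_two (by exact_mod_cast h2)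
  have hspan : R = Submodule.span F {v} := by
    apply le_antisymm
    · intro r hr
      obtain ⟨c, hc⟩ := FiniteField.isSquare_of_char_two hchar (Q r / Q v)
      have hmem : r + c • v ∈ R₀ := by
        rw [hR₀]
        refine ⟨R.add_mem hr (R.smul_mem c hvR), ?_⟩
        rw [red_Q_add Q, hRR r hr _ (R.smul_mem c hvR), hQ.smul, add_zero]
        have h5 : c ^ 2 * Q v = Q r := by
          rw [pow_two, ← hc]
          field_simp
        rw [h5]
        linear_combination Q r * h2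
      rw [hR₀0, Submodule.mem_bot] at hmem
      have h6 : r = (-c) • v := by
        rw [neg_smul]
        exact eq_neg_of_add_eq_zero_left hmem
      rw [h6]
      exact Submodule.smul_mem _ _ (Submodule.mem_span_singleton_self v)
    · rw [Submodule.span_singleton_le_iff_mem]
      exact hvR
  refine EGeo.nsv heven v hQv ?_
  rw [← hspan]
  exact red_le_stab hRinv

end Cfsg.Agent.Lib.Helper17.OELeaf
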