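/-
helper17 (S2344 Part I, planner helper26), leaf (A2) `caseA_O`: Case A for the odd Siegel datum.
Copy of helper8's `OPMin.caseA`: if a weight of rank at least 4 of the centre `Z = rad` of the Siegel
radical occurs, there are `(q^(n-1) - 1) 2 q^(n-2)` occurring weights, each of multiplicity at least `q`
(H1, taken here as the explicit hypothesis `hH1` in `caseA_O_of`), so the dimension is at least
`bO q n` (AR1, proved here as `bO_le_caseA_aux`).
-/
import Mathlib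
import Cfsg.Agent.Lib.Helper26.OOMinDefs
import Cfsg.Agent.Lib.Helper26.OOMinStageDefs
import Cfsg.Agent.Lib.Helper8.OPMinA
import Cfsg.Agent.Lib.Helper14.OOMinH

set_option autoImplicit false
set_option linter.unusedSectionVars false
set_option linter.unusedVariables false

namespace Cfsg.Agent.Lib.Helper17.OOMin

open Matrix Module Cfsg.Agent.Lib.Helper27.OPMin Cfsg.Agent.Lib.Helper16.SLMin
  Cfsg.Agent.Lib.Helper26.OOMin

/-- AR1 (own copy): `bO q n ≤ (q^(n-1) - 1) (2 q^(n-2)) q`, `n ≥ 4`, `q ≥ 2`. -/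
theorem bO_le_caseA_aux (q n : ℕ) (hq : 2 ≤ q) (hn : 4 ≤ n) :
    bO q n ≤ (q ^ (n - 1) - 1) * (2 * q ^ (n - 2)) * q := by
  obtain ⟨k, rfl⟩ : ∃ k, n = k + 4 := ⟨n - 4, by omega⟩
  unfold bO
  apply Nat.div_le_of_le_mul
  have e1 : k + 4 - 1 = k + 3 := by omega
  have e2 : k + 4 - 2 = k + 2 := by omega
  rw [e1, e2]
  have ha : 8 ≤ q ^ (k + 3) := by
    calc 8 = 2 ^ 3 := by norm_num
      _ ≤ q ^ 3 := Nat.pow_le_pow_left hq 3
      _ ≤ q ^ (k + 3) := Nat.pow_le_pow_right (by omega) (by omega)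
  have hs : 4 ≤ q ^ 2 := by
    calc 4 = 2 ^ 2 := by norm_num
      _ ≤ q ^ 2 := Nat.pow_le_pow_left hq 2
  have hpow : q ^ (2 * (k + 4)) = q ^ (k + 3) * q ^ (k + 3) * q ^ 2 := by
    rw [← pow_add, ← pow_add]
    congr 1
    omega
  have hpow2 : q ^ (k + 2) * q = q ^ (k + 3) := by
    rw [← pow_succ]
  rw [hpow]
  have hrhs : (q ^ 2 - 1) * ((q ^ (k + 3) - 1) * (2 * q ^ (k + 2)) * q) =
      (q ^ 2 - 1) * ((q ^ (k + 3) - 1) * (2 * q ^ (k + 3))) := by
    rw [← hpow2]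
    ring
  rw [hrhs]
  generalize q ^ (k + 3) = a at ha
  generalize q ^ 2 = s at hs
  obtain ⟨a', rfl⟩ : ∃ a', a = a' + 8 := ⟨a - 8, by omega⟩
  obtain ⟨s', rfl⟩ : ∃ s', s = s' + 4 := ⟨s - 4, by omega⟩
  have e3 : a' + 8 - 1 = a' + 7 := by omega
  have e4 : s' + 4 - 1 = s' + 3 := by omega
  rw [e3, e4]
  have : (a' + 8) * (a' + 8) * (s' + 4) ≤ (s' + 3) * ((a' + 7) * (2 * (a' + 8))) := by
    nlinarith [Nat.zero_le a', Nat.zero_le s', Nat.zero_le (a' * s'), Nat.zero_le (a' * a' * s'),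
      Nat.zero_le (a' * a')]
  omega

section A

variable {F : Type*} [Field F] [Fintype F] [DecidableEq F] {n : ℕ} {H : Type*} [Group H]
  {M : Type*} [AddCommGroup M] [Module ℂ M] [FiniteDimensional ℂ M]
  (D : SiegelB F n H) (ρ : Representation ℂ H M)

/-- A2 with H1 as an explicit hypothesis. -/
theorem caseA_O_of
    (hH1 : ∀ v : Fin n × Fin n → F, v ≠ 0 →
      Fintype.card F ∣ finrank ℂ ↥(wt ρ D.toSiegel.radv v))
    (hn : 4 ≤ n) (hq : 3 < Fintype.card F)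
    (v : Fin n × Fin n → F) (hv0 : v ≠ 0) (hv : wt ρ D.toSiegel.radv v ≠ ⊥)
    (hnw : ¬ ∃ a b : Fin n → F, toM v = wedge a b) :
    bO (Fintype.card F) n ≤ finrank ℂ M := by
  obtain ⟨k, rfl⟩ : ∃ k, n = k + 3 := ⟨n - 3, by omega⟩
  have hk : 1 ≤ k := by omega
  -- the hypotheses of the combinatorial core
  have halt27 := Cfsg.Agent.Lib.Helper24.OPMin.isAltM_of_wt_ne_bot D.toSiegel ρ v hv
  have halt : Cfsg.Agent.Lib.Helper8.OPMinCaseA.IsAltM (toM v) := by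
    refine ⟨?_, halt27.1⟩
    ext i j
    rw [Matrix.transpose_apply, Matrix.neg_apply]
    exact halt27.2 i j
  have h0 : toM v ≠ 0 := by
    intro h
    apply hv0
    have := congrArg ofM h
    rw [ofM_toM, ofM_zero] at this
    exact this
  have hrk : toM v ∉ Cfsg.Agent.Lib.Helper10.OPMinCnt.rk2 F (Fin (k + 3)) := by
    rintro ⟨a, b, _, h⟩
    apply hnw
    refine ⟨a, b, ?_⟩
    rw [h]
    ext i j
    rw [Cfsg.Agent.Lib.Helper10.OPMinCnt.wedge_apply, wedge_apply]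
  -- the multiplicity of `v` is at least `q`
  have hm0 : Fintype.card F ≤ Cfsg.Agent.Lib.Helper8.OPMin.mult D.toSiegel ρ (toM v) := by
    unfold Cfsg.Agent.Lib.Helper8.OPMin.mult
    rw [ofM_toM]
    apply Nat.le_of_dvd
    · rw [Nat.pos_iff_ne_zero]
      intro h
      exact hv (Submodule.finrank_eq_zero.mp h)
    · exact hH1 v hv0
  have hstep := fun Y₁ a b h1 h2 h3 h4 h5 h6 h7 =>
    Cfsg.Agent.Lib.Helper8.OPMinCaseA.step_Dsq hq (Cfsg.Agent.Lib.Helper8.OPMin.mult D.toSiegel ρ)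
      (fun a s hs Y => by
        have h := Cfsg.Agent.Lib.Helper8.OPMin.mult_tor D.toSiegel ρ a (Units.mk0 s hs) Y
        exact h) Y₁ a b h1 h2 h3 h4 h5 h6 h7
  have hT : ∀ Y : Matrix (Fin (k + 3)) (Fin (k + 3)) F,
      Cfsg.Agent.Lib.Helper8.OPMinCaseA.IsAltM Y →
        Y ∈ (Finset.univ : Finset (Fin (k + 3) × Fin (k + 3) → F)).image toM := by
    intro Y _
    exact Finset.mem_image.mpr ⟨ofM Y, Finset.mem_univ _, toM_ofM Y⟩
  have hcount := Cfsg.Agent.Lib.Helper8.OPMinCaseA.caseA_total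
    (Cfsg.Agent.Lib.Helper8.OPMin.mult D.toSiegel ρ)
    (Cfsg.Agent.Lib.Helper8.OPMin.mult_levi D.toSiegel ρ) hstep
    (toM v) halt h0 hrk _ hT
  have hsum : ∑ Y ∈ (Finset.univ : Finset (Fin (k + 3) × Fin (k + 3) → F)).image toM,
      Cfsg.Agent.Lib.Helper8.OPMin.mult D.toSiegel ρ Y = finrank ℂ M := by
    rw [Cfsg.Agent.Lib.Helper8.OPMin.finrank_eq_sum_mult D.toSiegel ρ, Finset.sum_image]
    intro x _ y _ hxy
    have := congrArg ofM hxy
    rw [ofM_toM, ofM_toM] at this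
    exact this
  rw [hsum] at hcount
  have hb := bO_le_caseA_aux (Fintype.card F) (k + 3) (by omega) hn
  have e1 : k + 3 - 2 = k + 1 := by omega
  have e2 : k + 3 - 1 = k + 2 := by omega
  rw [e1, e2] at hb
  calc bO (Fintype.card F) (k + 3)
      ≤ (Fintype.card F ^ (k + 2) - 1) * (2 * Fintype.card F ^ (k + 1)) * Fintype.card F := hb
    _ ≤ (Fintype.card F ^ (k + 2) - 1) * (2 * Fintype.card F ^ (k + 1)) *
          Cfsg.Agent.Lib.Helper8.OPMin.mult D.toSiegel ρ (toM v) :=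
        Nat.mul_le_mul_left _ hm0
    _ ≤ finrank ℂ M := hcount

/-- A2 (Case A): a weight of rank at least 4 occurs (H1 = helper14's `card_dvd_finrank_wt`). -/
theorem caseA_O (hn : 4 ≤ n) (hq : 3 < Fintype.card F) (hchar : (2 : F) ≠ 0)
    (v : Fin n × Fin n → F) (hv0 : v ≠ 0) (hv : wt ρ D.toSiegel.radv v ≠ ⊥)
    (hnw : ¬ ∃ a b : Fin n → F, toM v = wedge a b) :
    bO (Fintype.card F) n ≤ finrank ℂ M :=
  caseA_O_of D ρ (fun w hw => Cfsg.Agent.Lib.Helper14.OOMin.card_dvd_finrank_wt D ρ hchar w hw)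
    hn hq v hv0 hv hnw

end A

end Cfsg.Agent.Lib.Helper17.OOMin
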