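/-
helper17 (S2344 Part I, planner helper26), leaf (ST6) `levi_transvection_fix_V0_O`:
the root groups `levi (transvection i j ·)` (`i ∉ {a,b}`, `j ∈ {a,b}`, `(i,j) ≠ (i₀,b)`) fix the LINE
`L₀ = wt (V0 i₀ a b 0) ⊓ shoFix i₀` pointwise.  Copy of helper16's S3 (`levi_transvection_fix_V0`): the
root group and the tori `levi (dgSL d)` stabilise `L₀` since they normalise `sho (F e_{i₀})`
(`levi_sho`, `j ≠ i₀`).
-/
import Mathlib
import Cfsg.Agent.Lib.Helper26.OOMinDefs
import Cfsg.Agent.Lib.Helper26.OOMinStageDefs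
import Cfsg.Agent.Lib.Helper16.OPMinS3

set_option autoImplicit false
set_option linter.unusedSectionVars false
set_option linter.unusedVariables false

namespace Cfsg.Agent.Lib.Helper17.OOMin

open Matrix Module Cfsg.Agent.Lib.Helper27.OPMin Cfsg.Agent.Lib.Helper16.SLMin
  Cfsg.Agent.Lib.Helper26.OOMin Cfsg.Agent.Lib.Helper16.OPMin

section ST6

variable {F : Type*} [Field F] [Fintype F] [DecidableEq F] {n : ℕ} {H : Type*} [Group H]
  {M : Type*} [AddCommGroup M] [Module ℂ M] [FiniteDimensional ℂ M]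
  (D : SiegelB F n H) (ρ : Representation ℂ H M)

/-- a Levi element normalising the short root group `sho (F e_{i₀})` stabilises its fixed space -/
theorem levi_mem_shoFix (g : SpecialLinearGroup (Fin n) F) (i₀ : Fin n) (φ : F → F)
    (hφ : Function.Surjective φ)
    (hg : ∀ s : F, (g : Matrix (Fin n) (Fin n) F) *ᵥ Pi.single i₀ s = Pi.single i₀ (φ s))
    (m : M) (hm : m ∈ shoFix D ρ i₀) : ρ (D.levi g) m ∈ shoFix D ρ i₀ := by
  intro s
  obtain ⟨s', rfl⟩ := hφ s
  have h1 : D.sho (Pi.single i₀ (φ s')) * D.levi g = D.levi g * D.sho (Pi.single i₀ s') := by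
    have h := D.levi_sho g (Pi.single i₀ s')
    rw [hg s'] at h
    rw [← h, inv_mul_cancel_right]
  have h2 : ρ (D.sho (Pi.single i₀ (φ s'))) (ρ (D.levi g) m) =
      ρ (D.sho (Pi.single i₀ (φ s')) * D.levi g) m := by
    rw [map_mul, Module.End.mul_apply]
  rw [h2, h1, map_mul, Module.End.mul_apply, hm s']

/-- a transvection `1 + s E_ij`, `j ≠ i₀`, fixes `e_{i₀}` -/
theorem transvection_mulVec_single {i j : Fin n} (hij : i ≠ j) (s : F) (i₀ : Fin n) (hj : j ≠ i₀)
    (t : F) :
    ((SpecialLinearGroup.transvection hij s : SpecialLinearGroup (Fin n) F) :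
        Matrix (Fin n) (Fin n) F) *ᵥ Pi.single i₀ t = Pi.single i₀ t := by
  rw [SpecialLinearGroup.transvection_coe, Matrix.add_mulVec, Matrix.one_mulVec,
    Matrix.single_mulVec, Pi.single_eq_of_ne hj, mul_zero]
  have h0 : Function.update (0 : Fin n → F) i 0 = 0 := by
    funext k
    by_cases hk : k = i
    · rw [hk, Function.update_self]; rfl
    · rw [Function.update_of_ne hk]
  rw [h0, add_zero]

/-- the torus argument on the line `wt v ⊓ shoFix i₀` -/
theorem levi_transvection_fix_of_diag_O (v : Fin n × Fin n → F) (i₀ : Fin n) {i j : Fin n}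
    (hij : i ≠ j) (hji₀ : j ≠ i₀)
    (hst : ∀ s : F,
      ((SpecialLinearGroup.transvection hij s : SpecialLinearGroup (Fin n) F) :
          Matrix (Fin n) (Fin n) F)ᵀ * toM v *
        ((SpecialLinearGroup.transvection hij s : SpecialLinearGroup (Fin n) F) :
          Matrix (Fin n) (Fin n) F) = toM v)
    (d : Fin n → F) (hd : ∏ k, d k = 1)
    (hdv : (Matrix.diagonal d)ᵀ * toM v * Matrix.diagonal d = toM v) (hdij : d i ≠ d j)
    (hL : finrank ℂ ↥(wt ρ D.toSiegel.radv v ⊓ shoFix D ρ i₀) = 1) (t : F) :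
    ∀ m ∈ wt ρ D.toSiegel.radv v ⊓ shoFix D ρ i₀,
      ρ (D.levi (SpecialLinearGroup.transvection hij t)) m = m := by
  have hdne : ∀ k, d k ≠ 0 := by
    intro k
    have h1 : ∏ k, d k ≠ 0 := by rw [hd]; exact one_ne_zero
    exact (Finset.prod_ne_zero_iff.mp h1) k (Finset.mem_univ k)
  have hdj : d j ≠ 0 := hdne j
  have hu : ∀ s s' : F, D.levi (SpecialLinearGroup.transvection hij (s + s')) =
      D.levi (SpecialLinearGroup.transvection hij s) *
        D.levi (SpecialLinearGroup.transvection hij s') := by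
    intro s s'
    rw [SpecialLinearGroup.transvection_add, map_mul]
  have huL : ∀ s : F, ∀ m ∈ wt ρ D.toSiegel.radv v ⊓ shoFix D ρ i₀,
      ρ (D.levi (SpecialLinearGroup.transvection hij s)) m ∈
        wt ρ D.toSiegel.radv v ⊓ shoFix D ρ i₀ := by
    intro s m hm
    rw [Submodule.mem_inf] at hm ⊢
    refine ⟨levi_mem_wt D.toSiegel ρ (SpecialLinearGroup.transvection hij s) v (hst s) m hm.1, ?_⟩
    exact levi_mem_shoFix D ρ (SpecialLinearGroup.transvection hij s) i₀ id Function.surjective_id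
      (fun t' => transvection_mulVec_single hij s i₀ hji₀ t') m hm.2
  have htL : ∀ m ∈ wt ρ D.toSiegel.radv v ⊓ shoFix D ρ i₀,
      ρ (D.levi (dgSL d hd)) m ∈ wt ρ D.toSiegel.radv v ⊓ shoFix D ρ i₀ := by
    intro m hm
    rw [Submodule.mem_inf] at hm ⊢
    have hdv' : ((dgSL d hd : SpecialLinearGroup (Fin n) F) : Matrix (Fin n) (Fin n) F)ᵀ * toM v *
        ((dgSL d hd : SpecialLinearGroup (Fin n) F) : Matrix (Fin n) (Fin n) F) = toM v := by
      rw [dgSL_coe]
      exact hdv
    refine ⟨levi_mem_wt D.toSiegel ρ (dgSL d hd) v hdv' m hm.1, ?_⟩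
    refine levi_mem_shoFix D ρ (dgSL d hd) i₀ (fun x => d i₀ * x) ?_ ?_ m hm.2
    · intro y
      refine ⟨(d i₀)⁻¹ * y, ?_⟩
      show d i₀ * ((d i₀)⁻¹ * y) = y
      rw [← mul_assoc, mul_inv_cancel₀ (hdne i₀), one_mul]
    · intro t'
      rw [dgSL_coe, Matrix.diagonal_mulVec_single]
  have ha : d i * (d j)⁻¹ ≠ 1 := by
    intro h
    apply hdij
    have := congrArg (fun x => x * d j) h
    simpa [mul_assoc, inv_mul_cancel₀ hdj] using this
  have hconj : ∀ s : F, D.levi (dgSL d hd) * D.levi (SpecialLinearGroup.transvection hij s) *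
      (D.levi (dgSL d hd))⁻¹ =
        D.levi (SpecialLinearGroup.transvection hij (d i * (d j)⁻¹ * s)) := by
    intro s
    rw [← map_mul, dgSL_mul_transvection, map_mul, mul_inv_cancel_right]
  exact Cfsg.Agent.Lib.Helper24.OPMinOrb.fixed_of_torus_field (F := F) ρ
    (fun s => D.levi (SpecialLinearGroup.transvection hij s)) hu
    (wt ρ D.toSiegel.radv v ⊓ shoFix D ρ i₀) hL huL
    (D.levi (dgSL d hd)) htL (d i * (d j)⁻¹) ha hconj t

/-- ST6: `U_B` fixes the LINE `L₀ = wt (V0 i₀ a b 0) ⊓ shoFix i₀` pointwise. -/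
theorem levi_transvection_fix_V0_O (hq : 3 < Fintype.card F) (i₀ a b i j : Fin n) (hab : a ≠ b)
    (hi₀a : i₀ ≠ a) (hi₀b : i₀ ≠ b) (hia : i ≠ a) (hib : i ≠ b) (hj : j = a ∨ j = b) (hij : i ≠ j)
    (hne : ¬ (i = i₀ ∧ j = b)) (t : F)
    (h1 : finrank ℂ ↥(wt ρ D.toSiegel.radv (V0 i₀ a b 0) ⊓ shoFix D ρ i₀) ≤ 1) :
    ∀ m ∈ wt ρ D.toSiegel.radv (V0 i₀ a b 0) ⊓ shoFix D ρ i₀,
      ρ (D.levi (SpecialLinearGroup.transvection hij t)) m = m := by
  intro m hm
  rcases Nat.lt_or_ge (finrank ℂ ↥(wt ρ D.toSiegel.radv (V0 i₀ a b 0) ⊓ shoFix D ρ i₀)) 1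
    with h0 | h1'
  · have hbot : wt ρ D.toSiegel.radv (V0 i₀ a b 0) ⊓ shoFix D ρ i₀ = ⊥ :=
      Submodule.finrank_eq_zero.mp (by omega)
    rw [hbot, Submodule.mem_bot] at hm
    rw [hm, map_zero]
  have hL : finrank ℂ ↥(wt ρ D.toSiegel.radv (V0 i₀ a b 0) ⊓ shoFix D ρ i₀) = 1 :=
    le_antisymm h1 h1'
  have hji₀ : j ≠ i₀ := by
    rcases hj with h | h
    · rw [h]; exact Ne.symm hi₀a
    · rw [h]; exact Ne.symm hi₀b
  obtain ⟨s, hs0, hs2⟩ := exists_sq_ne_one (F := F) hq
  have hs1 : s ≠ 1 := fun h => hs2 (by rw [h, one_pow])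
  have hsinv : s ≠ s⁻¹ := by
    intro h
    apply hs2
    have := congrArg (fun x => x * s) h
    simp only [inv_mul_cancel₀ hs0] at this
    rw [pow_two]
    exact this
  -- the root group stabilises the weight
  have hst : ∀ s' : F,
      ((SpecialLinearGroup.transvection hij s' : SpecialLinearGroup (Fin n) F) :
          Matrix (Fin n) (Fin n) F)ᵀ * toM (V0 i₀ a b (0 : F)) *
        ((SpecialLinearGroup.transvection hij s' : SpecialLinearGroup (Fin n) F) :
          Matrix (Fin n) (Fin n) F) = toM (V0 i₀ a b (0 : F)) := by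
    intro s'
    rw [toM_V0_zero, transpose_mul_wedge_mul, single_vecMul_transvection,
      single_vecMul_transvection, if_neg (Ne.symm hia), zero_smul, add_zero]
    by_cases hi : i₀ = i
    · have hja : j = a := by
        rcases hj with h | h
        · exact h
        · exact absurd ⟨hi.symm, h⟩ hne
      rw [if_pos hi, hja, wedge_add_smul_left]
    · rw [if_neg hi, zero_smul, add_zero]
  by_cases hi : i = i₀
  · -- `(i, j) = (i₀, a)`, torus `diag (s at i₀, s⁻¹ at a)`
    have hja : j = a := by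
      rcases hj with h | h
      · exact h
      · exact absurd ⟨hi, h⟩ hne
    have hd : ∏ k, (Function.update (Function.update (fun _ : Fin n => (1 : F)) i₀ s) a s⁻¹) k
        = 1 := by
      rw [Finset.prod_update_of_mem (Finset.mem_univ a),
        Finset.prod_update_of_mem (Finset.mem_sdiff.mpr ⟨Finset.mem_univ i₀, by
          rw [Finset.mem_singleton]; exact hi₀a⟩)]
      rw [Finset.prod_const_one, mul_one, inv_mul_cancel₀ hs0]
    have hdi₀ : (Function.update (Function.update (fun _ : Fin n => (1 : F)) i₀ s) a s⁻¹) i₀ = s := by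
      rw [Function.update_of_ne hi₀a, Function.update_self]
    have hda : (Function.update (Function.update (fun _ : Fin n => (1 : F)) i₀ s) a s⁻¹) a = s⁻¹ := by
      rw [Function.update_self]
    refine levi_transvection_fix_of_diag_O D ρ (V0 i₀ a b 0) i₀ hij hji₀ hst _ hd ?_ ?_ hL t m hm
    · rw [toM_V0_zero, transpose_mul_wedge_mul, single_vecMul_diagonal', single_vecMul_diagonal',
        hdi₀, hda]
      exact wedge_smul_smul _ _ _ _ (mul_inv_cancel₀ hs0)
    · rw [hi, hja, hdi₀, hda]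
      exact hsinv
  · -- `i ∉ {i₀, a, b}`, torus `diag (s at i, s⁻¹ at b)`
    have hd : ∏ k, (Function.update (Function.update (fun _ : Fin n => (1 : F)) i s) b s⁻¹) k
        = 1 := by
      rw [Finset.prod_update_of_mem (Finset.mem_univ b),
        Finset.prod_update_of_mem (Finset.mem_sdiff.mpr ⟨Finset.mem_univ i, by
          rw [Finset.mem_singleton]; exact hib⟩)]
      rw [Finset.prod_const_one, mul_one, inv_mul_cancel₀ hs0]
    have hdi : (Function.update (Function.update (fun _ : Fin n => (1 : F)) i s) b s⁻¹) i = s := by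
      rw [Function.update_of_ne hib, Function.update_self]
    have hdb : (Function.update (Function.update (fun _ : Fin n => (1 : F)) i s) b s⁻¹) b = s⁻¹ := by
      rw [Function.update_self]
    have hdi₀ : (Function.update (Function.update (fun _ : Fin n => (1 : F)) i s) b s⁻¹) i₀ = 1 := by
      rw [Function.update_of_ne hi₀b, Function.update_of_ne (Ne.symm hi)]
    have hda : (Function.update (Function.update (fun _ : Fin n => (1 : F)) i s) b s⁻¹) a = 1 := by
      rw [Function.update_of_ne hab, Function.update_of_ne (Ne.symm hia)]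
    refine levi_transvection_fix_of_diag_O D ρ (V0 i₀ a b 0) i₀ hij hji₀ hst _ hd ?_ ?_ hL t m hm
    · rw [toM_V0_zero, transpose_mul_wedge_mul, single_vecMul_diagonal', single_vecMul_diagonal',
        hdi₀, hda]
      exact wedge_smul_smul _ _ _ _ (mul_one 1)
    · rw [hdi]
      rcases hj with h | h
      · rw [h, hda]
        exact hs1
      · rw [h, hdb]
        exact hsinv

end ST6

end Cfsg.Agent.Lib.Helper17.OOMin
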