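import Mathlib
import Cfsg.Agent.Lib.Helper17.OSubA1

/-!
S5659 leaf A7: the hyperbolic dilation `z ↦ l z, z' ↦ l⁻¹ z'` is in `SU`.
-/

set_option autoImplicit false
set_option linter.unusedSectionVars false
set_option linter.unusedVariables false

namespace Cfsg.Agent.Lib.Helper17.OSubLeaf
open Cfsg Matrix Cfsg.Agent.Lib.Helper5.SpMax
  Cfsg.Agent.Lib.Helper5.UForm Cfsg.Agent.Lib.Helper5.HermBridge
  Cfsg.Agent.Lib.Helper5.SUGen Cfsg.Agent.Lib.Helper5.SUMax Cfsg.Agent.Lib.Helper5.USub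
  Cfsg.Agent.Lib.Helper17.OSub

variable {F : Type*} [Field F] [Fintype F] {q n : ℕ}

/-- the rank-one map `x ↦ x + h(x,b) a` as an element of `GL` with determinant `1 + h(a,b)` -/
theorem exists_rk1' (a b : Fin n → F) (hab : 1 + Cfsg.hermForm n F q a b ≠ 0) :
    ∃ g : GL (Fin n) F, (g : Matrix (Fin n) (Fin n) F).det = 1 + Cfsg.hermForm n F q a b ∧
      ∀ x, (g : Matrix (Fin n) (Fin n) F) *ᵥ x = x + Cfsg.hermForm n F q x b • a := by
  have hdet : (1 + Matrix.vecMulVec a (fun j => b j ^ q) : Matrix (Fin n) (Fin n) F).det =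
      1 + Cfsg.hermForm n F q a b := by
    rw [det_rank_one, pow_dot]
  refine ⟨Matrix.GeneralLinearGroup.mkOfDetNeZero _ (by rw [hdet]; exact hab), hdet, ?_⟩
  intro x
  change (1 + Matrix.vecMulVec a (fun j => b j ^ q) : Matrix (Fin n) (Fin n) F) *ᵥ x = _
  rw [Matrix.add_mulVec, Matrix.one_mulVec, Matrix.vecMulVec_mulVec, pow_dot]
  congr 1
  ext i
  simp only [Pi.smul_apply, smul_eq_mul, MulOpposite.smul_eq_mul_unop, MulOpposite.unop_op]
  ring

/-- LEAF A7: the hyperbolic dilation `z ↦ l z, z' ↦ l⁻¹ z'` is in `SU`. -/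
theorem exists_dil (hF : Fintype.card F = q ^ 2) {z z' : Fin n → F} {l : F}
    (hzz : Cfsg.hermForm n F q z z = 0) (hz'z' : Cfsg.hermForm n F q z' z' = 0)
    (hzz' : Cfsg.hermForm n F q z z' = 1) (hl0 : l ≠ 0) (hl : frobQ hF l = l) :
    ∃ g : GL (Fin n) F, g ∈ Cfsg.GU n F q ⊓ Cfsg.Geo.specialLinear (Fin n) F ∧
      ∀ x, (g : Matrix (Fin n) (Fin n) F) *ᵥ x =
        x + ((l - 1) * Cfsg.hermForm n F q x z') • z +
          ((l⁻¹ - 1) * Cfsg.hermForm n F q x z) • z' := by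
  have hf := herm_unitary (n := n) hF
  have hz'z : Cfsg.hermForm n F q z' z = 1 := by
    rw [hf.herm z' z, hzz', map_one]
  have hli : frobQ hF l⁻¹ = l⁻¹ := by rw [map_inv₀, hl]
  -- A x = x + h(x, (l-1) z') z   (second argument: σ(l-1) = l-1)
  have hA1 : (1 : F) + Cfsg.hermForm n F q z ((l - 1) • z') ≠ 0 := by
    rw [u_smul_right hf, hzz', map_sub, map_one, hl]
    intro h
    apply hl0
    linear_combination h
  obtain ⟨gA, hdetA, hA⟩ := exists_rk1' (q := q) z ((l - 1) • z') hA1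
  have hB1 : (1 : F) + Cfsg.hermForm n F q z' ((l⁻¹ - 1) • z) ≠ 0 := by
    rw [u_smul_right hf, hz'z, map_sub, map_one, hli]
    intro h
    apply inv_ne_zero hl0
    linear_combination h
  obtain ⟨gB, hdetB, hB⟩ := exists_rk1' (q := q) z' ((l⁻¹ - 1) • z) hB1
  have hform : ∀ x, ((gA * gB : GL (Fin n) F) : Matrix (Fin n) (Fin n) F) *ᵥ x =
      x + ((l - 1) * Cfsg.hermForm n F q x z') • z +
        ((l⁻¹ - 1) * Cfsg.hermForm n F q x z) • z' := by
    intro x
    rw [Units.val_mul, ← Matrix.mulVec_mulVec, hB, hA, hf.add_left, hf.smul_left,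
      u_smul_right hf, u_smul_right hf, u_smul_right hf, hz'z', map_sub, map_sub, map_one, hl, hli]
    module
  have hGU : gA * gB ∈ Cfsg.GU n F q := by
    rw [mem_GU]
    intro x y
    rw [hform, hform]
    simp only [hf.add_left, hf.smul_left, u_add_right hf, u_smul_right hf, map_sub, map_mul,
      map_one, hl, hli, hzz, hz'z', hzz', hz'z]
    rw [hf.herm z y, hf.herm z' y]
    have hll : l * l⁻¹ = 1 := mul_inv_cancel₀ hl0
    linear_combination (Cfsg.hermForm n F q x z * frobQ hF (Cfsg.hermForm n F q y z') +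
      Cfsg.hermForm n F q x z' * frobQ hF (Cfsg.hermForm n F q y z)) * hll
  refine ⟨gA * gB, ⟨hGU, ?_⟩, hform⟩
  change Matrix.GeneralLinearGroup.det (gA * gB) = 1
  apply Units.ext
  change ((gA * gB : GL (Fin n) F) : Matrix (Fin n) (Fin n) F).det = 1
  rw [Units.val_mul, Matrix.det_mul, hdetA, hdetB, u_smul_right hf, u_smul_right hf, hzz', hz'z,
    map_sub, map_sub, map_one, hl, hli]
  have hll : l * l⁻¹ = 1 := mul_inv_cancel₀ hl0
  linear_combination hll

end Cfsg.Agent.Lib.Helper17.OSubLeaf
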