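import Mathlib
import Cfsg.Agent.Lib.Helper17.OSubA23
import Cfsg.Agent.Lib.Helper17.OSubA7
import Cfsg.Agent.Lib.Helper17.OSubB4

/-!
S5659 leaf C1: a non-trivial transvection of `M` with rational isotropic centre `z` gives the full
transvection group with centre `z` (conjugation by rational hyperbolic dilations; every element
of `F₀` is a difference of two squares).
-/

set_option autoImplicit false
set_option linter.unusedSectionVars false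
set_option linter.unusedVariables false

namespace Cfsg.Agent.Lib.Helper17.OSubLeaf
open Cfsg Matrix Cfsg.Agent.Lib.Helper5.SpMax
  Cfsg.Agent.Lib.Helper5.UForm Cfsg.Agent.Lib.Helper5.HermBridge
  Cfsg.Agent.Lib.Helper5.SUGen Cfsg.Agent.Lib.Helper5.SUMax Cfsg.Agent.Lib.Helper5.USub
  Cfsg.Agent.Lib.Helper17.OSub

variable {F : Type*} [Field F] [Fintype F] {q n : ℕ}

lemma tv_mul' (hF : Fintype.card F = q ^ 2) {t₁ t₂ : GL (Fin n) F} {z : Fin n → F} {c₁ c₂ : F}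
    (hzz : Cfsg.hermForm n F q z z = 0) (h₁ : IsTv q t₁ z c₁) (h₂ : IsTv q t₂ z c₂) :
    IsTv q (t₁ * t₂) z (c₁ + c₂) := by
  have hf := herm_unitary (n := n) hF
  intro x
  rw [Units.val_mul, ← Matrix.mulVec_mulVec, h₂, h₁, hf.add_left, hf.smul_left, hzz]
  module

lemma tv_inv' (hF : Fintype.card F = q ^ 2) {t : GL (Fin n) F} {z : Fin n → F} {c : F}
    (hzz : Cfsg.hermForm n F q z z = 0) (h : IsTv q t z c) : IsTv q t⁻¹ z (-c) := by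
  have hf := herm_unitary (n := n) hF
  intro x
  apply mulVec_inj t
  rw [mul_inv_mulVec, h, hf.add_left, hf.smul_left, hzz]
  module

omit [Fintype F] in
lemma tv_unique' {t₁ t₂ : GL (Fin n) F} {z : Fin n → F} {c : F}
    (h₁ : IsTv q t₁ z c) (h₂ : IsTv q t₂ z c) : t₁ = t₂ :=
  Units.ext (mat_eq_of_mulVec (fun x => by rw [h₁, h₂]))

section Rat
variable {hF : Fintype.card F = q ^ 2} {F₀ : Subfield F} {P : GL (Fin n) F}
  (S : Setup hF F₀ P)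
include S

lemma partner' {z : Fin n → F} (hz : RS q F₀ P z) :
    ∃ z', RS q F₀ P z' ∧ Cfsg.hermForm n F q z z' = 1 := by
  have hf := herm_unitary (n := n) hF
  obtain ⟨hzr, hz0, hzz⟩ := hz
  obtain ⟨p, hp, hzp⟩ := S.nd hzr hz0
  obtain ⟨κ, hκ⟩ : ∃ κ, κ = Cfsg.hermForm n F q z p := ⟨_, rfl⟩
  have hκm : κ ∈ F₀ := hκ ▸ S.form z p hzr hp
  have hκ0 : κ ≠ 0 := hκ ▸ hzp
  have hκi : frobQ hF κ⁻¹ = κ⁻¹ := (S.fix_iff _).mp (F₀.inv_mem hκm)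
  obtain ⟨p₁, hp₁⟩ : ∃ p₁, p₁ = κ⁻¹ • p := ⟨_, rfl⟩
  have hp₁r : IsRat F₀ P p₁ := hp₁ ▸ isRat_smul (F₀.inv_mem hκm) hp
  have hzp₁ : Cfsg.hermForm n F q z p₁ = 1 := by
    rw [hp₁, u_smul_right hf, hκi, ← hκ, inv_mul_cancel₀ hκ0]
  have hp₁z : Cfsg.hermForm n F q p₁ z = 1 := by rw [S.sym hzr hp₁r, hzp₁]
  obtain ⟨ν, hν⟩ : ∃ ν, ν = Cfsg.hermForm n F q p₁ p₁ := ⟨_, rfl⟩
  have hνm : ν ∈ F₀ := hν ▸ S.form p₁ p₁ hp₁r hp₁r
  have hcm : 2⁻¹ * ν ∈ F₀ := F₀.mul_mem (two_inv_mem F₀) hνm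
  have hcf : frobQ hF (2⁻¹ * ν) = 2⁻¹ * ν := (S.fix_iff _).mp hcm
  have h22 : (2 : F) * 2⁻¹ = 1 := mul_inv_cancel₀ S.two_ne_zero
  refine ⟨p₁ - (2⁻¹ * ν) • z, ⟨isRat_sub hp₁r (isRat_smul hcm hzr), ?_, ?_⟩, ?_⟩
  · intro h0
    have : Cfsg.hermForm n F q z (p₁ - (2⁻¹ * ν) • z) = 1 := by
      rw [u_sub_right hf, u_smul_right hf, hzp₁, hzz, mul_zero, sub_zero]
    rw [h0, u_zero_right hf] at this
    exact zero_ne_one this
  · rw [u_sub_left hf, u_sub_right hf, u_sub_right hf, hf.smul_left, hf.smul_left,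
      u_smul_right hf, u_smul_right hf, hzz, hp₁z, hzp₁, hcf, ← hν]
    linear_combination (-ν) * h22
  · rw [u_sub_right hf, u_smul_right hf, hzp₁, hzz, mul_zero, sub_zero]

variable {M : Subgroup (GL (Fin n) F)}

/-- LEAF C1 (scaling). -/
theorem sset_of_tv (hn : 13 ≤ n)
    (hHM : Cfsg.Geo.subfieldSubgroup F₀ P ⊓
      (Cfsg.GU n F q ⊓ Cfsg.Geo.specialLinear (Fin n) F) ≤ M)
    {z : Fin n → F} (hz : RS q F₀ P z) {c : F} (hc : frobQ hF c = -c) (hc0 : c ≠ 0)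
    {t : GL (Fin n) F} (ht : IsTv q t z c) (htM : t ∈ M) : z ∈ Sset hF M := by
  have hf := herm_unitary (n := n) hF
  obtain ⟨z', hz', hzz'⟩ := partner' S hz
  obtain ⟨hzr, hz0, hzz⟩ := hz
  obtain ⟨hz'r, hz'0, hz'z'⟩ := hz'
  -- for every s in F₀ an element of M acting as t_{z, c s²}
  have key : ∀ s : F, s ∈ F₀ → ∃ t' : GL (Fin n) F, t' ∈ M ∧ IsTv q t' z (c * (s * s)) := by
    intro s hs
    by_cases hs0 : s = 0
    · refine ⟨1, M.one_mem, fun x => ?_⟩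
      rw [hs0, mul_zero, mul_zero, zero_mul, zero_smul, add_zero, Units.val_one,
        Matrix.one_mulVec]
    have hsf : frobQ hF s = s := (S.fix_iff s).mp hs
    obtain ⟨D, hDG, hD⟩ := exists_dil hF hzz hz'z' hzz' hs0 hsf
    have hDH : D ∈ Cfsg.Geo.subfieldSubgroup F₀ P ⊓
        (Cfsg.GU n F q ⊓ Cfsg.Geo.specialLinear (Fin n) F) := by
      apply S.mem_H_of_maps (by omega) hDG
      intro x hx
      rw [hD]
      refine isRat_add (isRat_add hx (isRat_smul ?_ hzr)) (isRat_smul ?_ hz'r)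
      · exact F₀.mul_mem (F₀.sub_mem hs F₀.one_mem) (S.form x z' hx hz'r)
      · exact F₀.mul_mem (F₀.sub_mem (F₀.inv_mem hs) F₀.one_mem) (S.form x z hx hzr)
    have hDM : D ∈ M := hHM hDH
    have hDz : (D : Matrix (Fin n) (Fin n) F) *ᵥ z = s • z := by
      rw [hD, hzz', hzz]
      module
    have h1 := tv_conj hF hDG.1 ht
    rw [hDz] at h1
    have h2 := tv_smul hF h1
    rw [hsf] at h2
    exact ⟨D * t * D⁻¹, M.mul_mem (M.mul_mem hDM htM) (M.inv_mem hDM), h2⟩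
  intro c' hc' g hg
  have hr : c' / c ∈ F₀ := by
    rw [S.fix_iff, map_div₀, hc, hc', neg_div_neg_eq]
  have h2m : (2 : F)⁻¹ ∈ F₀ := two_inv_mem F₀
  obtain ⟨t₁, ht₁M, ht₁⟩ := key ((c' / c + 1) * 2⁻¹)
    (F₀.mul_mem (F₀.add_mem hr F₀.one_mem) h2m)
  obtain ⟨t₂, ht₂M, ht₂⟩ := key ((c' / c - 1) * 2⁻¹)
    (F₀.mul_mem (F₀.sub_mem hr F₀.one_mem) h2m)
  have h3 := tv_mul' hF hzz ht₁ (tv_inv' hF hzz ht₂)
  have hcc : c * ((c' / c + 1) * 2⁻¹ * ((c' / c + 1) * 2⁻¹)) +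
      -(c * ((c' / c - 1) * 2⁻¹ * ((c' / c - 1) * 2⁻¹))) = c' := by
    have h22 : (2 : F) * 2⁻¹ = 1 := mul_inv_cancel₀ S.two_ne_zero
    have hcd : c * (c' / c) = c' := mul_div_cancel₀ _ hc0
    linear_combination (4 * 2⁻¹ * 2⁻¹) * hcd + (c' * (2 * 2⁻¹ + 1)) * h22
  rw [hcc] at h3
  have hg' : IsTv q g z c' := hg
  rw [tv_unique' hg' h3]
  exact M.mul_mem ht₁M (M.inv_mem ht₂M)

end Rat

end Cfsg.Agent.Lib.Helper17.OSubLeaf
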