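import Mathlib
import Cfsg.Agent.Lib.Helper17.OSubDefs
import Cfsg.Agent.Lib.Helper17.OSubC1
import Cfsg.Agent.Lib.Helper17.OSubF
import Cfsg.Agent.Lib.Helper24.OSubB1
import Cfsg.Agent.Lib.Helper9.OSubC2
import Cfsg.Agent.Lib.Helper8.OSubB5
import Cfsg.Agent.Lib.Helper13.OSubD12
import Cfsg.Agent.Lib.Helper27.OSubE12

/-!
S5659: assembly.  The orthogonal-type subfield subgroup of `SU_n(q)` (`q` odd, `n ≥ 13`) is maximal.
Leaves by helper24 (B1), helper6 (B2, B3, B6, B7), helper9 (C2), helper8 (C3, C4), helper13 (D1, D2),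
helper27 (E1, E2), helper29 (A4-A6).
-/

set_option autoImplicit false
set_option linter.unusedSectionVars false
set_option linter.unusedVariables false

namespace Cfsg.Agent.Lib.Helper17.OSubLeaf
open Cfsg Matrix Cfsg.Agent.Lib.Helper5.SpMax
  Cfsg.Agent.Lib.Helper5.UForm Cfsg.Agent.Lib.Helper5.HermBridge
  Cfsg.Agent.Lib.Helper5.SUGen Cfsg.Agent.Lib.Helper5.SUMax Cfsg.Agent.Lib.Helper5.USub
  Cfsg.Agent.Lib.Helper17.OSub

variable {F : Type*} [Field F] [Fintype F] {q n : ℕ}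
variable {hF : Fintype.card F = q ^ 2} {F₀ : Subfield F} {P : GL (Fin n) F}
  (S : Setup hF F₀ P)
include S

theorem maximal (hn : 13 ≤ n) :
    Cfsg.Geo.IsMaximalIn (Cfsg.GU n F q ⊓ Cfsg.Geo.specialLinear (Fin n) F)
      (Cfsg.Geo.subfieldSubgroup F₀ P ⊓
        (Cfsg.GU n F q ⊓ Cfsg.Geo.specialLinear (Fin n) F)) := by
  obtain ⟨ζ, hζ0, hζ⟩ := S.exists_zeta
  obtain ⟨z₀, hz₀, -⟩ := Cfsg.Agent.Lib.Helper24.OSubLeaf.exists_sing_perp S hn (fun _ => 0)
  refine ⟨lt_of_le_of_ne inf_le_right ?_, ?_⟩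
  · intro heq
    obtain ⟨t, htG, ht⟩ := exists_tvg hF hz₀.2.2 hζ
    rw [← heq] at htG
    exact tv_not_mem S hn hz₀ hζ hζ0 ht htG.1
  · intro M hHM hMG
    by_cases hNT : NT hF F₀ P M
    · left
      refine le_antisymm (fun g hg => ⟨?_, hMG hg⟩) hHM
      obtain ⟨l, z', hz', hgz⟩ :=
        Cfsg.Agent.Lib.Helper27.OSubLeaf.maps_sing S hn hHM hMG hNT hg hz₀
      exact Cfsg.Agent.Lib.Helper13.OSubLeaf.mem_of_maps_sing S hn hHM hMG hNT hg hz₀ hz' hgz
    · right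
      apply le_antisymm hMG
      unfold NT at hNT
      push Not at hNT
      obtain ⟨z, c, t, hz, hc, ht, htM, hc0⟩ := hNT
      have hzS := sset_of_tv S hn hHM hz hc hc0 ht htM
      exact le_of_forall_mem_Sset hF (by omega) (by omega) M
        (Cfsg.Agent.Lib.Helper8.OSubLeaf.sset_all S hn
          (fun z₁ hz₁ => Cfsg.Agent.Lib.Helper9.OSubLeaf.sset_trans S hn hHM hz hz₁ hzS))

end Cfsg.Agent.Lib.Helper17.OSubLeaf
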