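import Mathlib
import Cfsg.Agent.Lib.Helper17.OddAutRank2

/-!
helper17: a variant of `odd_aut_rank_two`: a prime `q ≠ p` that is the order of an automorphism of a
`p`-group of rank at most two (`p` odd) divides `|GL₂(p)| = p (p-1)² (p+1)`.
-/

set_option autoImplicit false
open scoped commutatorElement

namespace Cfsg.Agent.Lib.Helper17

variable (p : ℕ) [Fact p.Prime]

variable {R : Type*} [Group R] [Finite R]

theorem prime_dvd_card_GL2_of_aut_rank_two (hp : p ≠ 2) (hR : IsPGroup p R)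
    (hr : Cfsg.PRankLE p 2 R) (b : MulAut R) (q : ℕ) (hq : q.Prime) (hqp : q ≠ p)
    (hβ : orderOf b = q) : q ∣ p * (p - 1) ^ 2 * (p + 1) := by
  classical
  have hpp : p.Prime := Fact.out
  obtain ⟨D, hDinv, hDexp, hDcl, hDfaith⟩ := exists_omega_critical p hp hR
  obtain ⟨Z, hZ⟩ : ∃ Z : Subgroup R, Z = D ⊓ Subgroup.centralizer (D : Set R) := ⟨_, rfl⟩
  have hZD : Z ≤ D := by rw [hZ]; exact inf_le_left
  have hZcent : ∀ z ∈ Z, ∀ d ∈ D, d * z = z * d := by
    intro z hz d hd
    rw [hZ] at hz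
    exact Subgroup.mem_centralizer_iff.mp hz.2 d hd
  have hZinv : ∀ α : MulAut R, ∀ x, x ∈ Z ↔ α x ∈ Z := by
    intro α x
    rw [hZ, Subgroup.mem_inf, Subgroup.mem_inf, ← hDinv α x, Subgroup.mem_centralizer_iff,
      Subgroup.mem_centralizer_iff]
    constructor
    · rintro ⟨h1, h2⟩
      refine ⟨h1, fun d hd => ?_⟩
      have hd' : α⁻¹ d ∈ D := by
        rw [hDinv α, MulAut.apply_inv_self]; exact hd
      have := congrArg α (h2 _ hd')
      rwa [map_mul, map_mul, MulAut.apply_inv_self] at this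
    · rintro ⟨h1, h2⟩
      refine ⟨h1, fun d hd => ?_⟩
      have := h2 (α d) ((hDinv α d).mp hd)
      rw [← map_mul, ← map_mul] at this
      exact α.injective this
  have hbotinv : ∀ α : MulAut R, ∀ x, x ∈ (⊥ : Subgroup R) ↔ α x ∈ (⊥ : Subgroup R) := by
    intro α x
    rw [Subgroup.mem_bot, Subgroup.mem_bot]
    constructor
    · intro h; rw [h, map_one]
    · intro h
      apply α.injective
      rw [h, map_one]
  have hn₁ : (Z.subgroupOf D).Normal := by
    refine ⟨fun n hn g => ?_⟩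
    rw [Subgroup.mem_subgroupOf] at hn ⊢
    have h1 := hZcent _ hn _ g.2
    have : ((g * n * g⁻¹ : D) : R) = n := by
      push_cast
      rw [h1, mul_assoc, mul_inv_cancel, mul_one]
    rw [this]
    exact hn
  have hn₂ : ((⊥ : Subgroup R).subgroupOf Z).Normal := inferInstance
  -- the two sections are elementary abelian of order dividing p²
  have hZmem : ∀ c : R, c ∈ D → (∀ d ∈ D, d * c = c * d) → c ∈ Z := by
    intro c hc h
    rw [hZ]
    exact ⟨hc, Subgroup.mem_centralizer_iff.mpr h⟩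
  have hZcomm : IsMulCommutative Z :=
    ⟨⟨fun a b => Subtype.ext (hZcent b.1 b.2 a.1 (hZD a.2))⟩⟩
  have hcomm₁ : ∀ a b : D ⧸ Z.subgroupOf D, a * b = b * a := by
    intro a b
    induction a using QuotientGroup.induction_on with
    | H a =>
    induction b using QuotientGroup.induction_on with
    | H b =>
    rw [← QuotientGroup.mk_mul, ← QuotientGroup.mk_mul, QuotientGroup.eq, Subgroup.mem_subgroupOf]
    have e : (((a * b)⁻¹ * (b * a) : D) : R) = ⁅(b : R)⁻¹, (a : R)⁻¹⁆ := by
      push_cast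
      rw [commutatorElement_def]
      group
    rw [e]
    apply hZmem
    · rw [commutatorElement_def]
      exact D.mul_mem (D.mul_mem (D.mul_mem (D.inv_mem b.2) (D.inv_mem a.2))
        (D.inv_mem (D.inv_mem b.2))) (D.inv_mem (D.inv_mem a.2))
    · intro d hd
      exact (hDcl _ (D.inv_mem b.2) _ (D.inv_mem a.2) d hd).symm
  have hexp₁ : ∀ a : D ⧸ Z.subgroupOf D, a ^ p = 1 := by
    intro a
    induction a using QuotientGroup.induction_on with
    | H a =>
    rw [← QuotientGroup.mk_pow]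
    have : a ^ p = 1 := Subtype.ext (by push_cast; exact hDexp a a.2)
    rw [this, QuotientGroup.mk_one]
  have hcard₁ : Nat.card (D ⧸ Z.subgroupOf D) ∣ p ^ 2 := by
    have h1 : Z.subgroupOf D = Subgroup.center D := by
      ext ⟨x, hx⟩
      rw [Subgroup.mem_subgroupOf, Subgroup.mem_center_iff]
      constructor
      · intro hxZ g
        apply Subtype.ext
        push_cast
        exact hZcent x hxZ g g.2
      · intro h
        apply hZmem x hx
        intro d hd
        exact congrArg Subtype.val (h ⟨d, hd⟩)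
    rw [← Subgroup.index_eq_card, h1]
    apply index_center_dvd_of_rank_two p (hR.to_subgroup D)
    · intro x
      exact Subtype.ext (by push_cast; exact hDexp x x.2)
    · intro x y z
      apply Subtype.ext
      push_cast
      exact hDcl x x.2 y y.2 z z.2
    · exact pRankLE_subgroup p hr D
  have hcomm₂ : ∀ a b : Z ⧸ (⊥ : Subgroup R).subgroupOf Z, a * b = b * a := by
    intro a b
    induction a using QuotientGroup.induction_on with
    | H a =>
    induction b using QuotientGroup.induction_on with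
    | H b =>
    rw [← QuotientGroup.mk_mul, ← QuotientGroup.mk_mul, hZcomm.is_comm.comm a b]
  have hexp₂ : ∀ a : Z ⧸ (⊥ : Subgroup R).subgroupOf Z, a ^ p = 1 := by
    intro a
    induction a using QuotientGroup.induction_on with
    | H a =>
    rw [← QuotientGroup.mk_pow]
    have : a ^ p = 1 := Subtype.ext (by push_cast; exact hDexp a (hZD a.2))
    rw [this, QuotientGroup.mk_one]
  have hcard₂ : Nat.card (Z ⧸ (⊥ : Subgroup R).subgroupOf Z) ∣ p ^ 2 := by
    rw [← Subgroup.index_eq_card, Subgroup.bot_subgroupOf, Subgroup.index_bot]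
    obtain ⟨a, ha⟩ := (hR.to_subgroup Z).exists_card_eq
    have hle : Nat.card Z ≤ p ^ 2 := hr Z hZcomm (fun z hz => hDexp z (hZD hz))
    rw [ha] at hle ⊢
    exact pow_dvd_pow p ((Nat.pow_le_pow_iff_right hpp.one_lt).mp hle)
  -- the two actions
  obtain ⟨ψ₁, hψ₁⟩ : ∃ ψ₁ : MulAut R →* MulAut (D ⧸ Z.subgroupOf D),
      ψ₁ = (secHom D Z).comp (toPres D Z hDinv hZinv) := ⟨_, rfl⟩
  obtain ⟨ψ₂, hψ₂⟩ : ∃ ψ₂ : MulAut R →* MulAut (Z ⧸ (⊥ : Subgroup R).subgroupOf Z),
      ψ₂ = (secHom Z ⊥).comp (toPres Z ⊥ hZinv hbotinv) := ⟨_, rfl⟩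
  have hK : ∀ γ : MulAut R, (orderOf γ).Coprime p → ψ₁ γ = 1 → ψ₂ γ = 1 → γ = 1 := by
    intro γ hγ h1 h2
    rw [hψ₁, MonoidHom.comp_apply, secHom_eq_one_iff] at h1
    rw [hψ₂, MonoidHom.comp_apply, secHom_eq_one_iff] at h2
    apply hDfaith γ hγ
    intro x hx
    have hu : x⁻¹ * γ x ∈ Z := h1 x hx
    have hu2 := h2 _ hu
    rw [Subgroup.mem_bot] at hu2
    have hu3 : γ (x⁻¹ * γ x) = x⁻¹ * γ x := (inv_mul_eq_one.mp hu2).symm
    have h4 := Cfsg.Agent.Lib.Helper1.CritExtra.eq_one_of_fixed_of_coprime hR γ hγ x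
      (x⁻¹ * γ x) (by group) hu3
    exact (inv_mul_eq_one.mp h4).symm
  have hfinAut : Finite (MulAut R) :=
    Finite.of_injective (fun α : MulAut R => (α : R → R)) DFunLike.coe_injective
  have hcop : (orderOf b).Coprime p := by
    rw [hβ]; exact (Nat.coprime_primes hq hpp).mpr hqp
  have hkey : ∀ {W : Type _} [Group W] [Finite W] (ψ : MulAut R →* W), ψ b ≠ 1 →
      Nat.card W ∣ p * (p - 1) ^ 2 * (p + 1) → q ∣ p * (p - 1) ^ 2 * (p + 1) := by
    intro W _ _ ψ hne hW
    have h1 : orderOf (ψ b) ∣ q := by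
      rw [← hβ]; exact orderOf_map_dvd ψ _
    have h2 : orderOf (ψ b) = q := by
      rcases (Nat.dvd_prime hq).mp h1 with h | h
      · exact absurd (orderOf_eq_one_iff.mp h) hne
      · exact h
    have h3 : q ∣ Nat.card W := by rw [← h2]; exact orderOf_dvd_natCard _
    exact h3.trans hW
  by_cases h1 : ψ₁ b = 1
  · by_cases h2 : ψ₂ b = 1
    · exfalso
      have := hK _ hcop h1 h2
      rw [this, orderOf_one] at hβ
      exact hq.one_lt.ne hβ
    · exact hkey ψ₂ h2 (card_mulAut_dvd_of_elemAb p hcomm₂ hexp₂ hcard₂)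
  · exact hkey ψ₁ h1 (card_mulAut_dvd_of_elemAb p hcomm₁ hexp₁ hcard₁)

end Cfsg.Agent.Lib.Helper17
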