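import Mathlib
import Cfsg.Agent.Lib.Helper9.OqTools

/-! S2143 market "OQ" (helper17): leaf AR1 `two_mul_NN_le`. -/

set_option autoImplicit false

open Cfsg.Agent.Lib.Helper9.Oq

namespace Cfsg.Agent.Lib.Helper17.OqLeaf

theorem ar1_key (p q : ℕ) (hq : 5 ≤ q) (h : 5 ≤ p ∨ (3 ≤ p ∧ 9 ≤ q)) :
    2 * q ^ 4 ≤ p * ((q - 1) * (q - 1) * (q ^ 2 - 1)) := by
  obtain ⟨a, rfl⟩ : ∃ a, q = a + 1 := ⟨q - 1, by omega⟩
  have ha : 4 ≤ a := by omega
  have e1 : a + 1 - 1 = a := by omega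
  have e2 : (a + 1) ^ 2 - 1 = a * (a + 2) := by
    have : (a + 1) ^ 2 = a * (a + 2) + 1 := by ring
    omega
  rw [e1, e2]
  rcases h with h5 | ⟨h3, h9⟩
  · have h1 : 2 * (a + 1) ^ 4 ≤ 5 * (a * a * (a * (a + 2))) := by
      obtain ⟨b, rfl⟩ : ∃ b, a = b + 4 := ⟨a - 4, by omega⟩
      ring_nf
      nlinarith [Nat.zero_le b, Nat.zero_le (b ^ 2), Nat.zero_le (b ^ 3), Nat.zero_le (b ^ 4)]
    exact h1.trans (Nat.mul_le_mul_right _ h5)
  · have ha8 : 8 ≤ a := by omega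
    have h1 : 2 * (a + 1) ^ 4 ≤ 3 * (a * a * (a * (a + 2))) := by
      obtain ⟨b, rfl⟩ : ∃ b, a = b + 8 := ⟨a - 8, by omega⟩
      ring_nf
      nlinarith [Nat.zero_le b, Nat.zero_le (b ^ 2), Nat.zero_le (b ^ 3), Nat.zero_le (b ^ 4)]
    exact h1.trans (Nat.mul_le_mul_right _ h3)

/-- AR1 -/
theorem two_mul_NN_le (p f q m : ℕ) (hp : p.Prime) (hqp : q = p ^ f) (hodd : Odd q) (hq : 5 ≤ q)
    (hm : 3 ≤ m) : 2 * NN q m ≤ p * ((q - 1) * (q ^ (2 * m - 2) - q ^ (m - 1))) := by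
  have hcase : 5 ≤ p ∨ (3 ≤ p ∧ 9 ≤ q) := by
    have hp2 : p ≠ 2 := by
      rintro rfl
      rcases Nat.eq_zero_or_pos f with h0 | h0
      · rw [h0, pow_zero] at hqp; omega
      · have : Even (2 ^ f) := (Nat.even_pow.mpr ⟨even_two, h0.ne'⟩)
        rw [← hqp] at this
        exact (Nat.not_even_iff_odd.mpr hodd) this
    have hp3 : 3 ≤ p := by
      have := hp.two_le
      omega
    by_cases h3 : p = 3
    · right
      refine ⟨hp3, ?_⟩
      subst h3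
      have hf : 2 ≤ f := by
        by_contra hcon
        push Not at hcon
        interval_cases f <;> omega
      calc 9 = 3 ^ 2 := by norm_num
        _ ≤ 3 ^ f := Nat.pow_le_pow_right (by norm_num) hf
        _ = q := hqp.symm
    · left
      have h4 : p ≠ 4 := by
        rintro rfl
        exact absurd hp (by norm_num)
      omega
  have hkey := ar1_key p q hq hcase
  obtain ⟨k, rfl⟩ : ∃ k, m = k + 3 := ⟨m - 3, by omega⟩
  have hq0 : 0 < q := by omega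
  have e1 : q ^ (2 * (k + 3) - 2) = q ^ 2 * q ^ (2 * k + 2) := by
    rw [← pow_add]; congr 1; omega
  have e2 : q ^ (2 * (k + 3)) = q ^ 4 * q ^ (2 * k + 2) := by
    rw [← pow_add]; congr 1; omega
  have e3 : q ^ (k + 3 - 1) ≤ q ^ (2 * k + 2) := Nat.pow_le_pow_right hq0 (by omega)
  have hNN := NN_mul q (k + 3)
  have hq1 : 0 < q - 1 := by omega
  apply Nat.le_of_mul_le_mul_right _ hq1
  rw [e1]
  generalize q ^ (2 * k + 2) = X at e1 e2 e3 ⊢
  generalize q ^ (k + 3 - 1) = Y at e3 ⊢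
  have h5 : (q ^ 2 - 1) * X ≤ q ^ 2 * X - Y := by
    rw [Nat.sub_mul, one_mul]; exact Nat.sub_le_sub_left e3 _
  calc 2 * NN q (k + 3) * (q - 1) = 2 * (q ^ 4 * X - 1) := by rw [mul_assoc, hNN, e2]
    _ ≤ 2 * q ^ 4 * X := by
        have := Nat.sub_le (q ^ 4 * X) 1
        calc 2 * (q ^ 4 * X - 1) ≤ 2 * (q ^ 4 * X) := Nat.mul_le_mul_left 2 this
          _ = 2 * q ^ 4 * X := by ring
    _ ≤ p * ((q - 1) * (q - 1) * (q ^ 2 - 1)) * X := Nat.mul_le_mul_right X hkey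
    _ = p * ((q - 1) * (q - 1)) * ((q ^ 2 - 1) * X) := by ring
    _ ≤ p * ((q - 1) * (q - 1)) * (q ^ 2 * X - Y) := Nat.mul_le_mul_left _ h5
    _ = p * ((q - 1) * (q ^ 2 * X - Y)) * (q - 1) := by ring

end Cfsg.Agent.Lib.Helper17.OqLeaf
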