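import Mathlib
import Cfsg.Agent.Lib.Helper9.OqTools

/-! S2143 market "OQ" (helper17): leaf TS `card_le_of_totally_singular`. -/

set_option autoImplicit false

open Cfsg.Agent.Lib.Helper9.Oq

namespace Cfsg.Agent.Lib.Helper17.OqLeaf

variable {F V G : Type*} [Field F] [AddCommGroup V] [Module F V] [Group G] [DistribMulAction G V]
  (S : Setting F V G)

theorem ker_B_eq_bot : LinearMap.ker S.B = ⊥ := by
  rw [LinearMap.ker_eq_bot']
  intro x hx
  apply S.nondeg
  intro y
  rw [hx]; rfl

/-- a subspace contained in its own perp has dimension at most `m` -/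
theorem finrank_le_of_le_orthogonal {q m : ℕ} (hS : S.Std q m) (W : Submodule F V)
    (hW : W ≤ S.B.orthogonal W) : Module.finrank F W ≤ m := by
  have hfd : Module.Finite F V := hS.moduleFinite
  have hdim := LinearMap.BilinForm.finrank_add_finrank_orthogonal' (B := S.B) W
  rw [ker_B_eq_bot, inf_bot_eq, finrank_bot, add_zero, hS.rank] at hdim
  have hle : Module.finrank F W ≤ Module.finrank F (S.B.orthogonal W) := Submodule.finrank_mono hW
  omega

/-- TS: an additive subgroup of singular vectors has at most `q^m` elements (its `F`-span is totally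
singular, of dimension `≤ m`). -/
theorem card_le_of_totally_singular [Finite F] [Finite V] {q m : ℕ} (hS : S.Std q m)
    (A : AddSubgroup V) (hA : ∀ a ∈ A, S.Q a = 0) : Nat.card A ≤ q ^ m := by
  have hfd : Module.Finite F V := hS.moduleFinite
  have hB : ∀ a ∈ A, ∀ b ∈ A, S.B a b = 0 := by
    intro a ha b hb
    have h1 := S.Q_add a b
    rw [hA _ (A.add_mem ha hb), hA a ha, hA b hb] at h1
    simpa using h1.symm
  have h1 : ∀ a ∈ A, Submodule.span F (A : Set V) ≤ LinearMap.ker (S.B.flip a) := by
    intro a ha
    rw [Submodule.span_le]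
    intro b hb
    rw [SetLike.mem_coe, LinearMap.mem_ker, LinearMap.BilinForm.flip_apply]
    exact hB b hb a ha
  have hW : Submodule.span F (A : Set V) ≤ S.B.orthogonal (Submodule.span F (A : Set V)) := by
    rw [Submodule.span_le]
    intro a ha
    rw [SetLike.mem_coe, LinearMap.BilinForm.mem_orthogonal_iff]
    intro v hv
    have := h1 a ha hv
    rwa [LinearMap.mem_ker, LinearMap.BilinForm.flip_apply] at this
  have hm := finrank_le_of_le_orthogonal S hS _ hW
  have hq0 : 0 < q := by rw [← hS.cardF]; exact Nat.card_pos
  calc Nat.card A ≤ Nat.card (Submodule.span F (A : Set V)) :=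
        Nat.card_le_card_of_injective (fun a : A => (⟨a.1, Submodule.subset_span a.2⟩ :
          Submodule.span F (A : Set V))) (fun a b h => Subtype.ext
            (congrArg (fun w : Submodule.span F (A : Set V) => (w : V)) h))
    _ = q ^ Module.finrank F (Submodule.span F (A : Set V)) := by
        rw [Module.natCard_eq_pow_finrank (K := F) (V := Submodule.span F (A : Set V)), hS.cardF]
    _ ≤ q ^ m := Nat.pow_le_pow_right hq0 hm

end Cfsg.Agent.Lib.Helper17.OqLeaf
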