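import Mathlib
import Cfsg.Agent.Lib.Helper9.OqTools
import Cfsg.Agent.Lib.Helper17.OqTS

/-! S2143 market "OQ" (helper17): leaf PERP `card_perp_of_linearIndependent`, `card_perp`. -/

set_option autoImplicit false

open Cfsg.Agent.Lib.Helper9.Oq

namespace Cfsg.Agent.Lib.Helper17.OqLeaf

variable {F V G : Type*} [Field F] [AddCommGroup V] [Module F V] [Group G] [DistribMulAction G V]
  (S : Setting F V G)

/-- `dim W + dim W^⊥ = 2m + 1` -/
theorem finrank_add_finrank_orthogonal_eq {q m : ℕ} (hS : S.Std q m) (W : Submodule F V) :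
    Module.finrank F W + Module.finrank F (S.B.orthogonal W) = 2 * m + 1 := by
  have hfd : Module.Finite F V := hS.moduleFinite
  have hdim := LinearMap.BilinForm.finrank_add_finrank_orthogonal' (B := S.B) W
  rw [ker_B_eq_bot, inf_bot_eq, finrank_bot, add_zero, hS.rank] at hdim
  exact hdim

theorem mem_orthogonal_span_range_iff {ι : Type*} (v : ι → V) (b : V) :
    b ∈ S.B.orthogonal (Submodule.span F (Set.range v)) ↔ ∀ i, S.B (v i) b = 0 := by
  rw [LinearMap.BilinForm.mem_orthogonal_iff]
  constructor
  · intro h i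
    exact h _ (Submodule.subset_span ⟨i, rfl⟩)
  · intro h w hw
    have h1 : Submodule.span F (Set.range v) ≤ LinearMap.ker (S.B.flip b) := by
      rw [Submodule.span_le]
      rintro _ ⟨i, rfl⟩
      rw [SetLike.mem_coe, LinearMap.mem_ker, LinearMap.BilinForm.flip_apply]
      exact h i
    have := h1 hw
    rwa [LinearMap.mem_ker, LinearMap.BilinForm.flip_apply] at this

/-- PERPk: the perp of `k` linearly independent vectors has `q^(2m+1-k)` elements. -/
theorem card_perp_of_linearIndependent [Finite F] [Finite V] {q m : ℕ} (hS : S.Std q m) {k : ℕ}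
    (v : Fin k → V) (hv : LinearIndependent F v) :
    Nat.card {b : V // ∀ i, S.B (v i) b = 0} * q ^ k = q ^ (2 * m + 1) := by
  have hfd : Module.Finite F V := hS.moduleFinite
  have h1 : Nat.card {b : V // ∀ i, S.B (v i) b = 0} =
      Nat.card ↥(S.B.orthogonal (Submodule.span F (Set.range v))) :=
    Nat.card_congr (Equiv.subtypeEquivRight
      (fun b => (mem_orthogonal_span_range_iff S v b).symm))
  have h2 : Module.finrank F (Submodule.span F (Set.range v)) = k := by
    rw [finrank_span_eq_card hv, Fintype.card_fin]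
  have h3 := finrank_add_finrank_orthogonal_eq S hS (Submodule.span F (Set.range v))
  rw [h2] at h3
  rw [h1, Module.natCard_eq_pow_finrank (K := F)
    (V := ↥(S.B.orthogonal (Submodule.span F (Set.range v)))), hS.cardF, ← pow_add]
  congr 1
  omega

/-- PERP1 -/
theorem card_perp [Finite F] [Finite V] {q m : ℕ} (hS : S.Std q m) {x : V} (hx0 : x ≠ 0) :
    Nat.card {w : V // S.B x w = 0} = q ^ (2 * m) := by
  have hq0 : 0 < q := by rw [← hS.cardF]; exact Nat.card_pos
  have hli : LinearIndependent F (fun _ : Fin 1 => x) :=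
    LinearIndependent.of_subsingleton (0 : Fin 1) hx0
  have h1 := card_perp_of_linearIndependent S hS (fun _ : Fin 1 => x) hli
  have h2 : Nat.card {b : V // ∀ _ : Fin 1, S.B x b = 0} = Nat.card {w : V // S.B x w = 0} :=
    Nat.card_congr (Equiv.subtypeEquivRight (fun b => ⟨fun h => h 0, fun h _ => h⟩))
  rw [h2, pow_one, pow_succ] at h1
  exact Nat.eq_of_mul_eq_mul_right hq0 h1

end Cfsg.Agent.Lib.Helper17.OqLeaf
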