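/-
helper17: S4640 leaf CT (`card_res_eq`, conjunct 4) in `_of` form, planner helper24
(`notes/S4640_leaves.lean`): conjunct 3 (IR, for all members of `B`) and UC1 (every irreducible character
of `G` over `θ` lies in `B`) enter as explicit hypotheses.  The members of `B` restricting to `θ` are the
constituents of `θ^G`, each with multiplicity one; compare degrees.
-/
import Mathlib
import Cfsg.Agent.Lib.Helper6.AbelianQuot

set_option autoImplicit false

namespace Cfsg.Agent.Lib.Helper17.PICTof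

open Cfsg Cfsg.Agent.CharLib Cfsg.Agent.Lib.Helper6
open scoped ComplexConjugate

universe u

variable {G : Type u} [Group G] [Fintype G] (N : Subgroup G) [Fintype N]

/-- (CT), `_of` form. -/
theorem card_res_eq_of (b : Set (IrrCharacter N)) (B : Set (IrrCharacter G))
    (θ : IrrCharacter N)
    (hIR : ∀ χ ∈ B, ∃ θ' ∈ b, ∀ n : N, (χ : G → ℂ) n = (θ' : N → ℂ) n)
    (hUC1 : ∀ χ' : IrrCharacter G,
      classInner (fun n : N => (χ' : G → ℂ) n) (θ : N → ℂ) ≠ 0 → χ' ∈ B) :
    Nat.card {χ : IrrCharacter G // χ ∈ B ∧ ∀ n : N, (χ : G → ℂ) n = (θ : N → ℂ) n} =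
      N.index := by
  classical
  let _ := fintypeIrr G
  have hθ : IsIrrCharacter N (θ : N → ℂ) := θ.2
  -- the multiplicities
  have hmult : ∀ χ : IrrCharacter G, classInner (indFun N (θ : N → ℂ)) (χ : G → ℂ) =
      if (χ ∈ B ∧ ∀ n : N, (χ : G → ℂ) n = (θ : N → ℂ) n) then 1 else 0 := by
    intro χ
    have hχcf : IsClassFunction G (χ : G → ℂ) :=
      IsCharacter.isClassFunction (IsIrrCharacter.isCharacter χ.2)
    rw [frobenius_reciprocity N _ hχcf]
    split_ifs with h
    · have : (fun n : N => (χ : G → ℂ) n) = (θ : N → ℂ) := funext h.2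
      rw [this, classInner_irr hθ hθ, if_pos rfl]
    · by_contra hne
      apply h
      have hne' : classInner (fun n : N => (χ : G → ℂ) n) (θ : N → ℂ) ≠ 0 := by
        intro h0
        apply hne
        rw [← classInner_conj_symm, h0, map_zero]
      have hχB := hUC1 χ hne'
      obtain ⟨θ', -, hθ'⟩ := hIR χ hχB
      have heq : (fun n : N => (χ : G → ℂ) n) = (θ' : N → ℂ) := funext hθ'
      rw [heq, classInner_irr hθ θ'.2] at hne
      have h2 : (θ : N → ℂ) = (θ' : N → ℂ) := by
        by_contra h3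
        rw [if_neg h3] at hne
        exact hne rfl
      refine ⟨hχB, fun n => ?_⟩
      rw [hθ' n, h2]
  -- evaluate the induced function at 1
  have hexp := congrFun (classFunction_eq_sum (indFun_isClassFunction N (θ : N → ℂ))) 1
  rw [Finset.sum_apply] at hexp
  have hterm : ∀ χ : IrrCharacter G,
      (classInner (indFun N (θ : N → ℂ)) (χ : G → ℂ) • (χ : G → ℂ)) 1 =
      if (χ ∈ B ∧ ∀ n : N, (χ : G → ℂ) n = (θ : N → ℂ) n) then (θ : N → ℂ) 1 else 0 := by
    intro χ
    rw [Pi.smul_apply, smul_eq_mul, hmult χ]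
    split_ifs with h
    · rw [one_mul]
      exact h.2 1
    · rw [zero_mul]
  rw [Finset.sum_congr rfl (fun χ _ => hterm χ), ← Finset.sum_filter, Finset.sum_const,
    indFun_apply_one, nsmul_eq_mul] at hexp
  obtain ⟨d, hdpos, hd⟩ := IsIrrCharacter.apply_one_pos hθ
  have hd0 : (θ : N → ℂ) 1 ≠ 0 := by rw [hd]; exact_mod_cast hdpos.ne'
  have hN0 : (Nat.card N : ℂ) ≠ 0 := by exact_mod_cast (Nat.card_pos (α := N)).ne'
  have hcount : ((Finset.univ.filter (fun χ : IrrCharacter G =>
      χ ∈ B ∧ ∀ n : N, (χ : G → ℂ) n = (θ : N → ℂ) n)).card : ℂ) =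
      (Nat.card N : ℂ)⁻¹ * (Nat.card G : ℂ) := by
    exact (mul_right_cancel₀ hd0 hexp).symm
  have hidx : (N.index : ℂ) = (Nat.card N : ℂ)⁻¹ * (Nat.card G : ℂ) := by
    rw [← Subgroup.index_mul_card N, Nat.cast_mul]
    field_simp
  rw [Nat.card_eq_fintype_card, Fintype.card_subtype]
  have : ((Finset.univ.filter (fun χ : IrrCharacter G =>
      χ ∈ B ∧ ∀ n : N, (χ : G → ℂ) n = (θ : N → ℂ) n)).card : ℂ) = (N.index : ℂ) := by
    rw [hcount, hidx]
  exact_mod_cast this

end Cfsg.Agent.Lib.Helper17.PICTof
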