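/-
helper17: S4640 leaf IR (`exists_res_eq`, conjunct 3) in `_of` form, planner helper24
(`notes/S4640_leaves.lean`): the leaves F12 (`N ⊔ P = ⊤`), NE (a linear character of `G/N` fixing `χ` is
trivial) and UC2 (constituents of `χ_N` lie in `b`) enter as explicit hypotheses for the given `χ`.
`<χ_N, χ_N> = <(Ind_N^G 1) χ, χ> = Σ_λ <Ind 1, λ> <λ χ, χ>`, only `λ = 1` contributes.
-/
import Mathlib
import Cfsg.Agent.Lib.Helper6.AbelianQuot

set_option autoImplicit false

namespace Cfsg.Agent.Lib.Helper17.PIIRof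

open Cfsg Cfsg.Agent.CharLib Cfsg.Agent.Lib.Helper6
open scoped ComplexConjugate commutatorElement

universe u

variable {G : Type u} [Group G] [Fintype G] (N : Subgroup G) [hN : N.Normal] [Fintype N]

/-- `G/N` is abelian when `G = N P` with `P` abelian. -/
theorem commutator_mem_of_sup_eq_top (P : Subgroup G)
    (hPab : ∀ x ∈ P, ∀ y ∈ P, x * y = y * x) (hsup : N ⊔ P = ⊤) (x y : G) : ⁅x, y⁆ ∈ N := by
  have hdec : ∀ g : G, ∃ n ∈ N, ∃ z ∈ P, g = n * z := by
    intro g
    have hg : g ∈ N ⊔ P := by rw [hsup]; exact Subgroup.mem_top g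
    have h2 : g ∈ ((N ⊔ P : Subgroup G) : Set G) := hg
    rw [Subgroup.normal_mul] at h2
    obtain ⟨n, hn, z, hz, rfl⟩ := Set.mem_mul.mp h2
    exact ⟨n, hn, z, hz, rfl⟩
  obtain ⟨n1, hn1, z1, hz1, rfl⟩ := hdec x
  obtain ⟨n2, hn2, z2, hz2, rfl⟩ := hdec y
  rw [← QuotientGroup.eq_one_iff, commutatorElement_def]
  simp only [QuotientGroup.mk_mul, QuotientGroup.mk_inv]
  rw [(QuotientGroup.eq_one_iff n1).mpr hn1, (QuotientGroup.eq_one_iff n2).mpr hn2]
  simp only [one_mul]
  rw [← QuotientGroup.mk_mul, hPab z1 hz1 z2 hz2, QuotientGroup.mk_mul]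
  group

/-- (IR), `_of` form. -/
theorem exists_res_eq_of (b : Set (IrrCharacter N)) (P : Subgroup G)
    (hPab : ∀ x ∈ P, ∀ y ∈ P, x * y = y * x) (hsup : N ⊔ P = ⊤) (χ : IrrCharacter G)
    (hNE : ∀ lam : G → ℂ, IsCharacter G lam → lam 1 = 1 → (∀ n : N, lam n = 1) →
      lam * (χ : G → ℂ) = (χ : G → ℂ) → ∀ g : G, lam g = 1)
    (hUC2 : ∀ θ' : IrrCharacter N,
      classInner (fun n : N => (χ : G → ℂ) n) (θ' : N → ℂ) ≠ 0 → θ' ∈ b) :
    ∃ θ ∈ b, ∀ n : N, (χ : G → ℂ) n = (θ : N → ℂ) n := by
  classical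
  let _ := fintypeIrr G
  have hab := commutator_mem_of_sup_eq_top N P hPab hsup
  have hψ : IsIrrCharacter G (χ : G → ℂ) := χ.2
  have hψch : IsCharacter G (χ : G → ℂ) := IsIrrCharacter.isCharacter hψ
  have hψcf : IsClassFunction G (χ : G → ℂ) := IsCharacter.isClassFunction hψch
  have h1 : indFun N (resFun N (χ : G → ℂ)) = indFun N (1 : N → ℂ) * (χ : G → ℂ) := by
    rw [← indFun_mul_resFun N (1 : N → ℂ) hψcf, one_mul]
  have hnorm : classInner (resFun N (χ : G → ℂ)) (resFun N (χ : G → ℂ)) = 1 := by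
    have hfr : classInner (indFun N (resFun N (χ : G → ℂ))) (χ : G → ℂ) =
        classInner (resFun N (χ : G → ℂ)) (resFun N (χ : G → ℂ)) :=
      frobenius_reciprocity N _ hψcf
    rw [← hfr, h1, classFunction_eq_sum (indFun_isClassFunction N (1 : N → ℂ)), Finset.sum_mul,
      classInner_sum_left]
    let triv : IrrCharacter G := ⟨1, isIrrCharacter_one G⟩
    rw [Finset.sum_eq_single triv]
    · rw [smul_mul_assoc, classInner_smul_left]
      have ha : classInner (indFun N (1 : N → ℂ)) (triv : G → ℂ) = 1 := by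
        rw [frobenius_reciprocity N _ (IsCharacter.isClassFunction
          (IsIrrCharacter.isCharacter triv.2))]
        have : (fun h : N => (triv : G → ℂ) h) = (1 : N → ℂ) := by
          funext h; rfl
        rw [this, classInner_irr (isIrrCharacter_one N) (isIrrCharacter_one N), if_pos rfl]
      have hc : classInner ((triv : G → ℂ) * (χ : G → ℂ)) (χ : G → ℂ) = 1 := by
        have : (triv : G → ℂ) * (χ : G → ℂ) = (χ : G → ℂ) := one_mul _
        rw [this, classInner_irr hψ hψ, if_pos rfl]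
      rw [ha, hc, mul_one]
    · intro lam _ hne
      rw [smul_mul_assoc, classInner_smul_left]
      by_cases ha : classInner (indFun N (1 : N → ℂ)) (lam : G → ℂ) = 0
      · rw [ha, zero_mul]
      · have hlam1 : (lam : G → ℂ) 1 = 1 := apply_one_eq_one_of_indFun_one_ne_zero N hab lam.2 ha
        have hlamN := (apply_mul_of_indFun_one_ne_zero N lam.2 ha).2
        have hirr := isIrrCharacter_linear_mul (IsIrrCharacter.isCharacter lam.2) hlam1 hψ
        rw [classInner_irr hirr hψ]
        by_cases heq : (lam : G → ℂ) * (χ : G → ℂ) = (χ : G → ℂ)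
        · exfalso
          apply hne
          have hall := hNE (lam : G → ℂ) (IsIrrCharacter.isCharacter lam.2) hlam1
            (fun n => by
              have := hlamN n 1
              rw [mul_one, hlam1] at this
              exact this) heq
          apply Subtype.ext
          funext g
          exact hall g
        · rw [if_neg heq, mul_zero]
    · intro h
      exact absurd (Finset.mem_univ _) h
  have hirrN : IsIrrCharacter N (resFun N (χ : G → ℂ)) :=
    isIrrCharacter_of_classInner_self_eq_one (isCharacter_resFun N hψch) hnorm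
  refine ⟨⟨resFun N (χ : G → ℂ), hirrN⟩, ?_, fun n => rfl⟩
  apply hUC2
  show classInner (resFun N (χ : G → ℂ)) (resFun N (χ : G → ℂ)) ≠ 0
  rw [hnorm]
  exact one_ne_zero

end Cfsg.Agent.Lib.Helper17.PIIRof
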