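/-
helper17: S4640 leaf IR (`exists_res_eq`, conjunct 3), exact name and binders of
`notes/S4640_leaves.lean` (planner helper24): `PIIRof.exists_res_eq_of` wired to F12 (helper29), NE (helper16)
and UC2 (helper5).
-/
import Mathlib
import Cfsg.Agent.Lib.Helper6.Fong
import Cfsg.Agent.Lib.Helper6.FongGen
import Cfsg.Agent.Lib.Helper6.SubsectionCount
import Cfsg.Agent.Lib.Helper17.PIIRof
import Cfsg.Agent.Lib.Helper29.PIF12
import Cfsg.Agent.Lib.Helper16.PINE
import Cfsg.Agent.Lib.Helper5.PIUC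

set_option autoImplicit false

namespace Cfsg.Agent.Lib.Helper17.PIIR

open Cfsg

universe u

variable {G : Type u} [Group G] [Fintype G] {p : ℕ} [hpp : Fact p.Prime] {M : Ideal AlgInt}
  (N : Subgroup G) [hN : N.Normal] [Fintype N]

/-- (IR) conjunct 3. -/
theorem exists_res_eq (hM : IsPModular p M) (hNi : ∃ k : ℕ, N.index = p ^ k)
    (b : Set (IrrCharacter N)) (hb : IsPBlock M b) (hstab : ∀ g : G, StabilizesBlock N b g)
    (B : Set (IrrCharacter G)) (hB : IsPBlock M B)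
    (hcov : ∃ χ ∈ B, ∃ θ ∈ b, classInner (fun n : N => (χ : G → ℂ) n) (θ : N → ℂ) ≠ 0)
    (P : Subgroup G) (hPD : IsDefectGroup p M B P) (hPab : ∀ x ∈ P, ∀ y ∈ P, x * y = y * x)
    (χ : IrrCharacter G) (hχ : χ ∈ B) :
    ∃ θ ∈ b, ∀ n : N, (χ : G → ℂ) n = (θ : N → ℂ) n := by
  have hsup : N ⊔ P = ⊤ :=
    (Cfsg.Agent.Lib.Helper29.PIF12.sup_eq_top_and_isDefectGroup N hM hNi b hb hstab B hB hcov P
      hPD).1
  exact Cfsg.Agent.Lib.Helper17.PIIRof.exists_res_eq_of N b P hPab hsup χ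
    (fun lam hlam h1 hlamN heq =>
      Cfsg.Agent.Lib.Helper16.PINE.linear_eq_one_of_mul_eq N hM hNi B hB P hPD hPab hsup lam hlam
        h1 hlamN χ hχ heq)
    (fun θ' h =>
      Cfsg.Agent.Lib.Helper5.PIUC.mem_of_under_block N hM b hb hstab B hB hcov χ hχ θ' h)

end Cfsg.Agent.Lib.Helper17.PIIR
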