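/-
helper17: S4640 leaf CT (`card_res_eq`, conjunct 4), exact name and binders of
`notes/S4640_leaves.lean` (planner helper24): `PICTof.card_res_eq_of` wired to IR (`PIIR.exists_res_eq`)
and UC1 (helper5).
-/
import Mathlib
import Cfsg.Agent.Lib.Helper6.Fong
import Cfsg.Agent.Lib.Helper6.FongGen
import Cfsg.Agent.Lib.Helper6.SubsectionCount
import Cfsg.Agent.Lib.Helper17.PICTof
import Cfsg.Agent.Lib.Helper17.PIIR

set_option autoImplicit false

namespace Cfsg.Agent.Lib.Helper17.PICT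

open Cfsg

universe u

variable {G : Type u} [Group G] [Fintype G] {p : ℕ} [hpp : Fact p.Prime] {M : Ideal AlgInt}
  (N : Subgroup G) [hN : N.Normal] [Fintype N]

/-- (CT) conjunct 4. -/
theorem card_res_eq (hM : IsPModular p M) (hNi : ∃ k : ℕ, N.index = p ^ k)
    (b : Set (IrrCharacter N)) (hb : IsPBlock M b) (hstab : ∀ g : G, StabilizesBlock N b g)
    (B : Set (IrrCharacter G)) (hB : IsPBlock M B)
    (hcov : ∃ χ ∈ B, ∃ θ ∈ b, classInner (fun n : N => (χ : G → ℂ) n) (θ : N → ℂ) ≠ 0)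
    (P : Subgroup G) (hPD : IsDefectGroup p M B P) (hPab : ∀ x ∈ P, ∀ y ∈ P, x * y = y * x)
    (θ : IrrCharacter N) (hθ : θ ∈ b) :
    Nat.card {χ : IrrCharacter G // χ ∈ B ∧ ∀ n : N, (χ : G → ℂ) n = (θ : N → ℂ) n} =
      N.index :=
  Cfsg.Agent.Lib.Helper17.PICTof.card_res_eq_of N b B θ
    (fun χ hχ =>
      Cfsg.Agent.Lib.Helper17.PIIR.exists_res_eq N hM hNi b hb hstab B hB hcov P hPD hPab χ hχ)
    (fun χ' h =>
      Cfsg.Agent.Lib.Helper5.PIUC.mem_block_of_over N hM hNi b hb hstab B hB hcov χ' θ hθ h)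

end Cfsg.Agent.Lib.Helper17.PICT
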