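import Mathlib
import Cfsg.Prelude.Def_Blocks
import Cfsg.Agent.Lib.Helper25.Gagola
import Cfsg.Agent.Lib.Helper6.QuotBlock
import Cfsg.Agent.Lib.Lead.SmallFaithA

/-!
# S4711, leaf L5

`χ` in the principal `p`-block, `P` a Sylow `p`-subgroup in the kernel of `χ`.  Then `C_G(P)` is
in the kernel of `χ`.

Route: `K = ker χ`, `β` the deflation of `χ` to the `p'`-group `G/K`; the image `N̄` of `C_G(P)` is
normal in `G/K` (Frattini), `β ≡ β(1)` on `N̄` modulo the local ideal, and the sum of `β` over the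
normal subgroup `N̄` is `0` unless `N̄ ≤ ker β`; the sum `0` would give `p ∣ |N̄| β(1)`.
-/

set_option autoImplicit false

namespace Cfsg.Agent.Lib.Helper17.PLenBlkL5

open Cfsg Cfsg.Agent.Lib.Helper24 Cfsg.Agent.Lib.Helper25

universe u
variable {G : Type u} [Group G]

/-- the normalizer of a subgroup normalizes its centralizer. -/
theorem conj_mem_centralizer_of_mem_normalizer (H : Subgroup G) {n c : G}
    (hn : n ∈ Subgroup.normalizer (H : Set G)) (hc : c ∈ Subgroup.centralizer (H : Set G)) :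
    n * c * n⁻¹ ∈ Subgroup.centralizer (H : Set G) := by
  rw [Subgroup.mem_centralizer_iff] at hc ⊢
  intro x hx
  have hx' : n⁻¹ * x * n ∈ H := by
    have h1 := (Subgroup.mem_normalizer_iff.mp hn (n⁻¹ * x * n))
    apply h1.mpr
    have : n * (n⁻¹ * x * n) * n⁻¹ = x := by group
    rw [this]; exact hx
  have h2 := hc _ hx'
  calc x * (n * c * n⁻¹) = n * ((n⁻¹ * x * n) * c) * n⁻¹ := by group
    _ = n * (c * (n⁻¹ * x * n)) * n⁻¹ := by rw [h2]
    _ = n * c * n⁻¹ * x := by group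

/-- the image of `C_G(P)` in `G/K` is normal when the Sylow subgroup `P` lies in the normal
subgroup `K` (Frattini). -/
theorem map_centralizer_normal [Finite G] (p : ℕ) [Fact p.Prime] (P : Sylow p G) (K : Subgroup G)
    [K.Normal] (hPK : (P : Subgroup G) ≤ K) :
    ((Subgroup.centralizer ((P : Subgroup G) : Set G)).map (QuotientGroup.mk' K)).Normal := by
  refine ⟨fun x hx g => ?_⟩
  obtain ⟨c, hc, rfl⟩ := hx
  obtain ⟨g, rfl⟩ := QuotientGroup.mk'_surjective K g
  have htop' : Subgroup.normalizer ((P : Subgroup G) : Set G) ⊔ K = ⊤ :=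
    Sylow.normalizer_sup_eq_top' P hPK
  have htop : g ∈ ((Subgroup.normalizer ((P : Subgroup G) : Set G) ⊔ K : Subgroup G) : Set G) := by
    rw [htop']; exact Set.mem_univ g
  rw [Subgroup.mul_normal, Set.mem_mul] at htop
  obtain ⟨n, hn, k, hk, rfl⟩ := htop
  have hk1 : QuotientGroup.mk' K k = 1 := by
    rw [QuotientGroup.mk'_apply, QuotientGroup.eq_one_iff]; exact hk
  refine ⟨n * c * n⁻¹, conj_mem_centralizer_of_mem_normalizer _ hn hc, ?_⟩
  simp only [map_mul, map_inv, hk1, mul_one]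

/-- **L5.** -/
theorem centralizer_le_ker [Finite G] (p : ℕ) [Fact p.Prime] (M : Ideal AlgInt)
    (hM : IsPModular p M) (P : Sylow p G) (χ : IrrCharacter G) (hχ : χ ∈ principalBlock M G)
    (hP : ∀ x ∈ (P : Subgroup G), (χ : G → ℂ) x = (χ : G → ℂ) 1) :
    ∀ y ∈ Subgroup.centralizer ((P : Subgroup G) : Set G), (χ : G → ℂ) y = (χ : G → ℂ) 1 := by
  classical
  have hMp : M.IsPrime := isPrime_of_isPModular hM
  have hPK : (P : Subgroup G) ≤ irrKer χ := fun x hx => (mem_irrKer χ x).mpr (hP x hx)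
  obtain ⟨β, hβ⟩ := Cfsg.Agent.Lib.Helper6.exists_deflation (N := irrKer χ) χ
    (fun n hn => (mem_irrKer χ n).mp hn)
  have hNb := map_centralizer_normal p P (irrKer χ) hPK
  set Nb : Subgroup (G ⧸ irrKer χ) :=
    (Subgroup.centralizer ((P : Subgroup G) : Set G)).map (QuotientGroup.mk' (irrKer χ)) with hNbdef
  -- `G/K` is a `p'`-group
  have hcard : ¬ p ∣ Nat.card (G ⧸ irrKer χ) := by
    rw [← Subgroup.index_eq_card]
    intro h
    exact P.not_dvd_index (dvd_trans h (Subgroup.index_dvd_of_le hPK))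
  set n := charDegree (β : G ⧸ irrKer χ → ℂ) with hn
  have hn1 : (β : G ⧸ irrKer χ → ℂ) 1 = n := irr_apply_one β
  have hχ1 : (χ : G → ℂ) 1 = n := by
    rw [← hβ 1]; exact hn1
  have hn0 : n ≠ 0 := (irr_charDegree_pos β).ne'
  have hnp : ¬ p ∣ n := fun h => hcard (dvd_trans h (irr_charDegree_dvd_card β))
  have hcong : ∀ x : Nb, MemLocalIdeal M ((n : ℂ) - (β : G ⧸ irrKer χ → ℂ) x) := by
    rintro ⟨x, y, hy, rfl⟩
    have h := Cfsg.Agent.Lib.Lead.SmallFaith.memLocalIdeal_degree_sub_apply hM P χ hχ n hχ1 hn0 y hy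
    rw [← hβ y] at h
    exact h
  let _ : Fintype Nb := Fintype.ofFinite _
  by_cases hs : ∑ k : Nb, (β : G ⧸ irrKer χ → ℂ) k = 0
  · exfalso
    have h1 : MemLocalIdeal M (∑ k : Nb, ((n : ℂ) - (β : G ⧸ irrKer χ → ℂ) k)) :=
      sum_memLocalIdeal Finset.univ _ (fun k _ => hcong k)
    rw [Finset.sum_sub_distrib, hs, sub_zero, Finset.sum_const, Finset.card_univ, nsmul_eq_mul]
      at h1
    have h2 : MemLocalIdeal M (((Fintype.card Nb * n : ℕ)) : ℂ) := by
      push_cast; exact h1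
    have h3 := Cfsg.Agent.Lib.Lead.SmallFaith.dvd_of_memLocalIdeal_natCast hM h2
    rcases (Nat.Prime.dvd_mul (Fact.out : p.Prime)).mp h3 with h | h
    · apply hcard
      refine dvd_trans h ?_
      rw [← Nat.card_eq_fintype_card]
      exact Subgroup.card_subgroup_dvd_card Nb
    · exact hnp h
  · intro y hy
    have h := apply_mul_sum_normal β Nb ⟨QuotientGroup.mk' (irrKer χ) y, y, hy, rfl⟩
    have h2 : (β : G ⧸ irrKer χ → ℂ) (QuotientGroup.mk' (irrKer χ) y)
        = (β : G ⧸ irrKer χ → ℂ) 1 := by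
      apply mul_right_cancel₀ hs
      rw [h, mul_comm]
    rw [hχ1, ← hn1, ← h2]
    exact (hβ y).symm

/-- `irrKer` form. -/
theorem centralizer_le_irrKer [Finite G] (p : ℕ) [Fact p.Prime] (M : Ideal AlgInt)
    (hM : IsPModular p M) (P : Sylow p G) (χ : IrrCharacter G) (hχ : χ ∈ principalBlock M G)
    (hP : (P : Subgroup G) ≤ irrKer χ) :
    Subgroup.centralizer ((P : Subgroup G) : Set G) ≤ irrKer χ := fun y hy =>
  (mem_irrKer χ y).mpr (centralizer_le_ker p M hM P χ hχ
    (fun x hx => (mem_irrKer χ x).mp (hP hx)) y hy)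

end Cfsg.Agent.Lib.Helper17.PLenBlkL5
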