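import Mathlib
import Cfsg.Agent.Lib.Helper7.PSGA
import Cfsg.Agent.Lib.Helper7.PSGE2
import Cfsg.Agent.Lib.Helper17.CSDSPEC
import Cfsg.Agent.Lib.Helper26.CSDNorm

/-!
S4321 market, leaf **D** `sylow_normal`: a Sylow `p`-subgroup `P ≤ C(z)` is normal in `G`, where `z` has order `p`,
commutes with all its conjugates, the `p`-elements of `C(z)` commute with the `p'`-elements of `C(z)`, and the elements of
`P` whose class size is divisible by `p` have `p`-power class size.
-/

set_option autoImplicit false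

namespace Cfsg.Agent.Lib.Helper17.PSGD

open Cfsg.Agent.Lib.Helper17.ClassGraph Cfsg.Agent.Lib.Helper26.CSD
open scoped Pointwise

/-- membership in a conjugate Sylow subgroup -/
theorem mem_inv_smul_sylow {G : Type*} [Group G] {p : ℕ} (P : Sylow p G) (g n : G) :
    n ∈ ((g⁻¹ • P : Sylow p G) : Subgroup G) ↔ g * n * g⁻¹ ∈ P := by
  rw [Sylow.smul_def, Sylow.pointwise_smul_def, Subgroup.mem_pointwise_smul_iff_inv_smul_mem]
  have h3 : (MulAut.conj g⁻¹)⁻¹ • n = g * n * g⁻¹ := by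
    rw [MulAut.smul_def, MulAut.conj_inv_apply]
    simp
  rw [h3]
  rfl

/-- **D** -/
theorem sylow_normal {G : Type*} [Group G] [Finite G] (p : ℕ) [Fact p.Prime] {z : G} (hz : orderOf z = p)
    (hspec : ∀ g : G, Commute z (g * z * g⁻¹))
    (hcam : ∀ r h : G, r ∈ Subgroup.centralizer ({z} : Set G) → h ∈ Subgroup.centralizer ({z} : Set G) →
      (∃ j : ℕ, orderOf r = p ^ j) → (orderOf h).Coprime p → Commute r h)
    (P : Sylow p G) (hP : (P : Subgroup G) ≤ Subgroup.centralizer ({z} : Set G))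
    (hpow : ∀ u ∈ P, p ∣ ind u → ∀ b : ℕ, b.Prime → b ∣ ind u → b = p) :
    (P : Subgroup G).Normal := by
  classical
  have hpp : p.Prime := Fact.out
  have hSpec : Spec p z := ⟨hpp, ⟨1, by rw [hz, pow_one]⟩, hspec⟩
  have hPel : ∀ u ∈ P, ∃ j : ℕ, orderOf u = p ^ j := by
    intro u hu
    obtain ⟨k, hk⟩ := (IsPGroup.iff_orderOf.mp P.isPGroup') ⟨u, hu⟩
    rw [Subgroup.orderOf_mk] at hk
    exact ⟨k, hk⟩
  -- (1) `p ∣ ind u`: `u` lies in every Sylow
  have h1 : ∀ u ∈ P, p ∣ ind u → ∀ Q : Sylow p G, u ∈ Q := fun u hu hpu Q =>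
    Cfsg.Agent.Lib.Helper7.PSGA.mem_sylow_of_ind_pow p u (hPel u hu) (hpow u hu hpu) Q
  -- (2) `p ∤ ind u`: `u` commutes with all conjugates of `z`
  have h2 : ∀ u ∈ P, ¬ p ∣ ind u → ∀ g : G, Commute u (g * z * g⁻¹) := by
    intro u hu hpu g
    by_contra hc
    exact hpu (Cfsg.Agent.Lib.Helper17.CSD.Spec.dvd_ind (Cfsg.Agent.Lib.Helper17.CSD.Spec.conj hSpec g) hc)
  set M : Subgroup G := ⨅ Q : Sylow p G, (Q : Subgroup G) with hM
  set L : Subgroup G := ⨅ g : G, Subgroup.centralizer ({g * z * g⁻¹} : Set G) with hL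
  have hmemM : ∀ u : G, u ∈ M ↔ ∀ Q : Sylow p G, u ∈ Q := by
    intro u
    rw [hM, Subgroup.mem_iInf]
    rfl
  have hmemL : ∀ u : G, u ∈ L ↔ ∀ g : G, Commute u (g * z * g⁻¹) := by
    intro u
    rw [hL, Subgroup.mem_iInf]
    constructor
    · intro h g
      have := h g
      rw [mem_centralizer_singleton] at this
      exact this
    · intro h g
      rw [mem_centralizer_singleton]
      exact (h g).eq
  have hunion : ∀ k : ↥(P : Subgroup G), k ∈ M.subgroupOf (P : Subgroup G) ∨ k ∈ L.subgroupOf (P : Subgroup G) := by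
    intro k
    rw [Subgroup.mem_subgroupOf, Subgroup.mem_subgroupOf]
    by_cases hpk : p ∣ ind (k : G)
    · left
      rw [hmemM]
      exact h1 k.1 k.2 hpk
    · right
      rw [hmemL]
      exact h2 k.1 k.2 hpk
  rcases Cfsg.Agent.Lib.Helper7.PSGE2.forall_mem_or_forall_mem _ _ hunion with hA | hB
  · -- `P ≤` every Sylow
    constructor
    intro n hn g
    have h3 := hA ⟨n, hn⟩
    rw [Subgroup.mem_subgroupOf, hmemM] at h3
    exact (mem_inv_smul_sylow P g n).mp (h3 (g⁻¹ • P))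
  · -- `P ≤ L`
    constructor
    intro n hn g
    have h3 := hB ⟨n, hn⟩
    rw [Subgroup.mem_subgroupOf, hmemL] at h3
    have h4 : Commute n (g⁻¹ * z * g⁻¹⁻¹) := h3 g⁻¹
    have hvC : g * n * g⁻¹ ∈ Subgroup.centralizer ({z} : Set G) := by
      rw [mem_centralizer_singleton]
      have e := h4.eq
      rw [inv_inv] at e
      calc g * n * g⁻¹ * z = g * (n * (g⁻¹ * z * g)) * g⁻¹ := by group
        _ = g * ((g⁻¹ * z * g) * n) * g⁻¹ := by rw [e]
        _ = z * (g * n * g⁻¹) := by group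
    obtain ⟨j, hj⟩ := hPel n hn
    have hvo : orderOf (g * n * g⁻¹) = p ^ j := by
      rw [← hj]
      exact (MulAut.conj g).orderOf_eq n
    set v' : ↥(Subgroup.centralizer ({z} : Set G)) := ⟨g * n * g⁻¹, hvC⟩ with hv'
    have hv'o : ∃ j : ℕ, orderOf v' = p ^ j := ⟨j, by rw [hv', Subgroup.orderOf_mk]; exact hvo⟩
    have hind' : ∀ b : ℕ, b.Prime → b ∣ ind v' → b = p := by
      intro b hb hbv
      by_contra hne
      have : Fact b.Prime := ⟨hb⟩
      obtain B : Sylow b ↥(Subgroup.centralizer ({z} : Set G)) := default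
      refine not_dvd_ind_of_sylow_le b v' B ?_ hbv
      intro h hh
      rw [mem_centralizer_singleton]
      have hord : (orderOf (h : G)).Coprime p := by
        obtain ⟨k, hk⟩ := (IsPGroup.iff_orderOf.mp B.isPGroup') ⟨h, hh⟩
        rw [Subgroup.orderOf_mk] at hk
        rw [Subgroup.orderOf_coe, hk]
        exact Nat.Coprime.pow_left k ((Nat.coprime_primes hb hpp).mpr hne)
      have hc := hcam (g * n * g⁻¹) (h : G) hvC h.2 ⟨j, hvo⟩ hord
      apply Subtype.ext
      simp only [Subgroup.coe_mul]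
      exact hc.eq.symm
    have hmem := Cfsg.Agent.Lib.Helper7.PSGA.mem_sylow_of_ind_pow p v' hv'o hind' (P.subtype hP)
    have hmem' : v' ∈ ((P.subtype hP : Sylow p _) : Subgroup _) := hmem
    rw [Sylow.coe_subtype, Subgroup.mem_subgroupOf] at hmem'
    exact hmem'

end Cfsg.Agent.Lib.Helper17.PSGD
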