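/-
Helper lemmas (helper17): if `A / K` has exponent `p` then a Sylow `p`-subgroup of `A` supplements `K`;
nilpotent action: `X ≤ [X, A]` forces `X = 1` when `A` acts on the `p`-group `X` as a `p`-group.
-/
import Cfsg.Agent.Lib.Helper17.Timmesfeld

set_option autoImplicit false

namespace Cfsg.Agent.Lib.Helper17

open scoped Pointwise commutatorElement

/-- If `K ⊴ A` and `A / K` has exponent dividing `p`, some `p`-subgroup `P` of `A` satisfies `A = P K`. -/
theorem exists_pgroup_supplement {G : Type*} [Group G] [Finite G] {p : ℕ} [Fact p.Prime]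
    (A K : Subgroup G) (hKn : A ≤ Subgroup.normalizer (K : Set G))
    (hpow : ∀ a ∈ A, a ^ p ∈ K) :
    ∃ P : Subgroup G, P ≤ A ∧ IsPGroup p P ∧ ∀ a ∈ A, ∃ s ∈ P, ∃ c ∈ K, c ∈ A ∧ a = s * c := by
  have hp : p.Prime := Fact.out
  haveI hN : (K.subgroupOf A).Normal := Subgroup.normal_subgroupOf_of_le_normalizer hKn
  obtain ⟨P⟩ : Nonempty (Sylow p ↥A) := inferInstance
  have hQ : IsPGroup p (↥A ⧸ K.subgroupOf A) := by
    intro q
    obtain ⟨a, rfl⟩ := QuotientGroup.mk_surjective q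
    refine ⟨1, ?_⟩
    rw [pow_one, ← QuotientGroup.mk_pow, QuotientGroup.eq_one_iff, Subgroup.mem_subgroupOf]
    simpa using hpow a a.2
  obtain ⟨k, hk⟩ := IsPGroup.iff_card.mp hQ
  have hidx : (K.subgroupOf A).index = p ^ k := by rw [Subgroup.index_eq_card]; exact hk
  have h1 : ((P : Subgroup ↥A) ⊔ K.subgroupOf A).index ∣ p ^ k := by
    rw [← hidx]; exact Subgroup.index_dvd_of_le le_sup_right
  have h2 : ((P : Subgroup ↥A) ⊔ K.subgroupOf A).index ∣ (P : Subgroup ↥A).index :=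
    Subgroup.index_dvd_of_le le_sup_left
  have h3 : ¬ p ∣ (P : Subgroup ↥A).index := P.not_dvd_index
  have h4 : ((P : Subgroup ↥A) ⊔ K.subgroupOf A).index = 1 := by
    obtain ⟨j, -, hj⟩ := (Nat.dvd_prime_pow hp).1 h1
    rcases Nat.eq_zero_or_pos j with rfl | hjpos
    · simpa using hj
    · exfalso
      apply h3
      refine dvd_trans ?_ h2
      rw [hj]
      exact dvd_pow_self p hjpos.ne'
  have htop : (P : Subgroup ↥A) ⊔ K.subgroupOf A = ⊤ := Subgroup.index_eq_one.mp h4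
  refine ⟨(P : Subgroup ↥A).map A.subtype, Subgroup.map_subtype_le _, P.isPGroup'.map _, ?_⟩
  intro a ha
  have hmem : (⟨a, ha⟩ : ↥A) ∈ (P : Subgroup ↥A) ⊔ K.subgroupOf A := by rw [htop]; exact Subgroup.mem_top _
  have hmem' : (⟨a, ha⟩ : ↥A) ∈ (((P : Subgroup ↥A) : Set ↥A) * ((K.subgroupOf A : Subgroup ↥A) : Set ↥A)) := by
    rw [← Subgroup.mul_normal]; exact hmem
  obtain ⟨s, hs, c, hc, hsc⟩ := hmem'
  refine ⟨s, ⟨s, hs, rfl⟩, c, ?_, c.2, ?_⟩
  · simpa [Subgroup.mem_subgroupOf] using hc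
  · have := congrArg Subtype.val hsc
    simpa using this.symm

/-- Nilpotent action: if `A` normalizes the `p`-group `X`, `A / C_A(X)`-like quotient has exponent `p` and
is abelian (`K ≤ C(X)`, `a ^ p ∈ K`), then `X ≤ [X, A]` forces `X = 1`. -/
theorem eq_bot_of_le_commutator' {G : Type*} [Group G] [Finite G] {p : ℕ} [Fact p.Prime]
    (X A K : Subgroup G) (hX : IsPGroup p X) (hAX : A ≤ Subgroup.normalizer (X : Set G))
    (hKX : K ≤ Subgroup.centralizer (X : Set G)) (hKn : A ≤ Subgroup.normalizer (K : Set G))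
    (hpow : ∀ a ∈ A, a ^ p ∈ K) (h : X ≤ ⁅X, A⁆) : X = ⊥ := by
  obtain ⟨P, hPA, hPp, hdec⟩ := exists_pgroup_supplement A K hKn hpow
  apply eq_bot_of_le_commutator X P hX hPp (hPA.trans hAX)
  refine h.trans ?_
  rw [Subgroup.commutator_le]
  intro x hx a ha
  obtain ⟨s, hs, c, hcK, -, rfl⟩ := hdec a ha
  have hcx : x⁻¹ * c = c * x⁻¹ := Subgroup.mem_centralizer_iff.mp (hKX hcK) x⁻¹ (X.inv_mem hx)
  have h1 : ⁅x, s * c⁆ = ⁅x, s⁆ := by
    simp only [commutatorElement_def]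
    calc x * (s * c) * x⁻¹ * (s * c)⁻¹ = x * s * (c * x⁻¹) * c⁻¹ * s⁻¹ := by group
      _ = x * s * (x⁻¹ * c) * c⁻¹ * s⁻¹ := by rw [hcx]
      _ = x * s * x⁻¹ * s⁻¹ := by group
  rw [h1]
  exact Subgroup.commutator_mem_commutator hx hs

end Cfsg.Agent.Lib.Helper17
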