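import Mathlib
import Cfsg.Prelude.Def_Local
import Cfsg.Prelude.Def_LocalEven
import Cfsg.Agent.Lib.Helper1.Fitting
import Cfsg.Agent.Lib.Helper8.Conj
import Cfsg.Agent.Lib.Helper17.Basic

/-!
Maximal `p`-locals of a group of local characteristic `p`: existence of a primitive pair of
characteristic `p` or strong `p`-embedding (helper17, for S3751).
-/

set_option autoImplicit false

namespace Cfsg.Agent.Lib.Helper17

open Cfsg.Agent.Lib.Helper1 Cfsg.Agent.Lib.Helper8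

section
variable {G : Type*} [Group G]

/-- `O_p(M)` as a subgroup of `G`. -/
def opG (p : ℕ) (M : Subgroup G) : Subgroup G := (Cfsg.pCore p ↥M).map M.subtype

theorem opG_le (p : ℕ) (M : Subgroup G) : opG p M ≤ M := Subgroup.map_subtype_le _

theorem le_normalizer_opG (p : ℕ) (M : Subgroup G) :
    M ≤ Subgroup.normalizer (opG p M : Set G) := by
  have hn := pCore_normal p ↥M
  have := Subgroup.le_normalizer_map (H := Cfsg.pCore p ↥M) M.subtype
  rw [Subgroup.normalizer_eq_top_iff.mpr hn, ← MonoidHom.range_eq_map, Subgroup.range_subtype]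
    at this
  exact this

theorem le_opG {p : ℕ} {M R : Subgroup G} (hRM : R ≤ M) (hR : IsPGroup p R)
    (hn : M ≤ Subgroup.normalizer (R : Set G)) : R ≤ opG p M := by
  have h1 : (R.subgroupOf M).Normal := (Subgroup.normal_subgroupOf_iff_le_normalizer hRM).mpr hn
  have h2 : IsPGroup p ↥(R.subgroupOf M) := hR.comap_subtype
  have h3 := le_pCore h1 h2
  intro x hx
  exact ⟨⟨x, hRM hx⟩, h3 (by rw [Subgroup.mem_subgroupOf]; exact hx), rfl⟩

theorem opG_map_conj_ge (p : ℕ) (M : Subgroup G) (g : G) [Finite G] [Fact p.Prime] :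
    (opG p M).map (MulAut.conj g).toMonoidHom ≤ opG p (M.map (MulAut.conj g).toMonoidHom) := by
  apply le_opG (Subgroup.map_mono (opG_le p M))
  · exact ((pCore_isPGroup p ↥M).map _).map _
  · have := Subgroup.map_equiv_normalizer_eq (opG p M) (MulAut.conj g)
    rw [← this]
    exact Subgroup.map_mono (le_normalizer_opG p M)

theorem opG_map_conj (p : ℕ) (M : Subgroup G) (g : G) [Finite G] [Fact p.Prime] :
    opG p (M.map (MulAut.conj g).toMonoidHom) = (opG p M).map (MulAut.conj g).toMonoidHom := by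
  apply le_antisymm _ (opG_map_conj_ge p M g)
  have h1 := opG_map_conj_ge p (M.map (MulAut.conj g).toMonoidHom) g⁻¹
  rw [map_conj_map_conj, inv_mul_cancel, map_conj_one] at h1
  rw [map_conj_le_iff, inv_inv] at h1
  exact h1

end

section
variable {G : Type*} [Group G] [Finite G] {p : ℕ} [hp : Fact p.Prime]

/-- `M` is a `p`-local subgroup. -/
def IsPLocal (p : ℕ) (M : Subgroup G) : Prop :=
  ∃ T : Subgroup G, IsPGroup p T ∧ T ≠ ⊥ ∧ M = Subgroup.normalizer (T : Set G)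

/-- `M` is a maximal `p`-local subgroup. -/
def IsMaxPLocal (p : ℕ) (M : Subgroup G) : Prop :=
  IsPLocal p M ∧ ∀ L : Subgroup G, IsPLocal p L → M ≤ L → L = M

omit [Finite G] hp in
theorem IsPLocal.map_conj {M : Subgroup G} (h : IsPLocal p M) (g : G) :
    IsPLocal p (M.map (MulAut.conj g).toMonoidHom) := by
  obtain ⟨T, hT, hne, rfl⟩ := h
  refine ⟨T.map (MulAut.conj g).toMonoidHom, hT.map _, ?_, ?_⟩
  · intro hb
    exact hne ((Subgroup.map_eq_bot_iff_of_injective _ (MulAut.conj g).injective).mp hb)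
  · exact Subgroup.map_equiv_normalizer_eq T (MulAut.conj g)

omit [Finite G] hp in
theorem IsMaxPLocal.map_conj {M : Subgroup G} (h : IsMaxPLocal p M) (g : G) :
    IsMaxPLocal p (M.map (MulAut.conj g).toMonoidHom) := by
  refine ⟨h.1.map_conj g, ?_⟩
  intro L hL hML
  rw [map_conj_le_iff] at hML
  have := h.2 _ (hL.map_conj g⁻¹) hML
  rw [map_conj_eq_iff, inv_inv] at this
  exact this

omit hp in
theorem exists_isMaxPLocal_ge {L : Subgroup G} (hL : IsPLocal p L) :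
    ∃ M : Subgroup G, IsMaxPLocal p M ∧ L ≤ M := by
  have hfin : ({M : Subgroup G | IsPLocal p M ∧ L ≤ M}).Finite := Set.toFinite _
  obtain ⟨M, hM, hmax⟩ := Set.exists_max_image _ (fun M : Subgroup G => Nat.card M) hfin
    ⟨L, hL, le_rfl⟩
  refine ⟨M, ⟨hM.1, ?_⟩, hM.2⟩
  intro L' hL' hML'
  have h1 := hmax L' ⟨hL', hM.2.trans hML'⟩
  exact (Subgroup.eq_of_le_of_card_ge hML' h1).symm

/-- for a maximal `p`-local `M`: `O_p(M) ≠ 1` and `N_G(O_p(M)) = M`. -/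
theorem IsMaxPLocal.opG_ne_bot {M : Subgroup G} (h : IsMaxPLocal p M) : opG p M ≠ ⊥ := by
  obtain ⟨⟨T, hT, hne, rfl⟩, -⟩ := h
  have h1 : T ≤ opG p (Subgroup.normalizer (T : Set G)) :=
    le_opG Subgroup.le_normalizer hT le_rfl
  intro hb
  apply hne
  rw [eq_bot_iff, ← hb]
  exact h1

theorem IsMaxPLocal.normalizer_opG {M : Subgroup G} (h : IsMaxPLocal p M) :
    Subgroup.normalizer (opG p M : Set G) = M := by
  apply h.2 _ ⟨opG p M, (pCore_isPGroup p ↥M).map _, h.opG_ne_bot, rfl⟩ (le_normalizer_opG p M)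

theorem IsMaxPLocal.normalizer_eq {M : Subgroup G} (h : IsMaxPLocal p M) :
    Subgroup.normalizer (M : Set G) = M := by
  apply le_antisymm _ Subgroup.le_normalizer
  intro g hg
  rw [mem_normalizer_iff_map_conj] at hg
  rw [← h.normalizer_opG, mem_normalizer_iff_map_conj, ← opG_map_conj, hg]

omit [Finite G] hp in
theorem centralizer_pCore_le_of_isPLocal (hloc : Cfsg.IsOfLocalCharacteristic p G) {M : Subgroup G}
    (h : IsPLocal p M) :
    Subgroup.centralizer (Cfsg.pCore p ↥M : Set ↥M) ≤ Cfsg.pCore p ↥M := by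
  obtain ⟨T, hT, hne, rfl⟩ := h
  exact hloc.2 T hT hne

/-- `N_G(A) ≤ N_G(O_p(A))`. -/
theorem normalizer_le_normalizer_opG (A : Subgroup G) :
    Subgroup.normalizer (A : Set G) ≤ Subgroup.normalizer (opG p A : Set G) := by
  intro g hg
  rw [mem_normalizer_iff_map_conj] at hg ⊢
  rw [← opG_map_conj, hg]

/-- a nontrivial normal subgroup of a maximal `p`-local of characteristic `p` has normalizer `M`. -/
theorem IsMaxPLocal.normalizer_eq_of_normal {M : Subgroup G} (h : IsMaxPLocal p M)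
    (hchar : Subgroup.centralizer (Cfsg.pCore p ↥M : Set ↥M) ≤ Cfsg.pCore p ↥M)
    {A : Subgroup G} (hA : A ≠ ⊥) (hAM : A ≤ M) (hMA : M ≤ Subgroup.normalizer (A : Set G)) :
    Subgroup.normalizer (A : Set G) = M := by
  apply le_antisymm _ hMA
  have hQ : IsPGroup p ↥(opG p M) := (pCore_isPGroup p ↥M).map _
  -- `O_p(A) ≠ 1`
  have hne : opG p A ≠ ⊥ := by
    intro hb
    have hAQ : A ⊓ opG p M ≤ opG p A := by
      apply le_opG inf_le_left (hQ.to_le inf_le_right)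
      intro a ha
      have h1 := hMA (hAM ha)
      have h2 := le_normalizer_opG p M (hAM ha)
      rw [Subgroup.mem_normalizer_iff] at h1 h2 ⊢
      intro x
      rw [Subgroup.mem_inf, Subgroup.mem_inf, h1 x, h2 x]
    rw [hb, le_bot_iff] at hAQ
    -- `A` centralizes `O_p(M)`
    have hcent : ∀ a ∈ A, ∀ q ∈ opG p M, q * a = a * q := by
      intro a ha q hq
      have h1 : a * q * a⁻¹ * q⁻¹ ∈ A ⊓ opG p M := by
        refine Subgroup.mem_inf.2 ⟨?_, ?_⟩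
        · have h2 := hMA (opG_le p M hq)
          have h3 : q * a⁻¹ * q⁻¹ ∈ A :=
            (Subgroup.mem_normalizer_iff.mp h2 a⁻¹).mp (A.inv_mem ha)
          have : a * q * a⁻¹ * q⁻¹ = a * (q * a⁻¹ * q⁻¹) := by group
          rw [this]; exact A.mul_mem ha h3
        · have h2 := le_normalizer_opG p M (hAM ha)
          have h3 : a * q * a⁻¹ ∈ opG p M := (Subgroup.mem_normalizer_iff.mp h2 q).mp hq
          exact Subgroup.mul_mem _ h3 (Subgroup.inv_mem _ hq)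
      rw [hAQ, Subgroup.mem_bot] at h1
      calc q * a = (a * q * a⁻¹ * q⁻¹)⁻¹ * (a * q) := by group
        _ = a * q := by rw [h1, inv_one, one_mul]
    have hAle : A ≤ opG p M := by
      intro a ha
      have h1 : (⟨a, hAM ha⟩ : ↥M) ∈ Subgroup.centralizer (Cfsg.pCore p ↥M : Set ↥M) := by
        rw [Subgroup.mem_centralizer_iff]
        intro q hq
        exact Subtype.ext (hcent a ha (q : G) ⟨q, hq, rfl⟩)
      exact ⟨⟨a, hAM ha⟩, hchar h1, rfl⟩
    apply hA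
    rw [eq_bot_iff, ← hAQ]
    exact le_inf le_rfl hAle
  have hloc : IsPLocal p (Subgroup.normalizer (opG p A : Set G)) :=
    ⟨opG p A, (pCore_isPGroup p ↥A).map _, hne, rfl⟩
  have h1 := h.2 _ hloc (hMA.trans (normalizer_le_normalizer_opG A))
  rw [← h1]
  exact normalizer_le_normalizer_opG A

/-- Data: a pair of distinct maximal `p`-locals and a `p`-subgroup `S` of the intersection
which is a Sylow `p`-subgroup of it and of maximal order among all such pairs. -/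
structure MaxPair (p : ℕ) (M₁ M₂ S : Subgroup G) : Prop where
  max₁ : IsMaxPLocal p M₁
  max₂ : IsMaxPLocal p M₂
  le₁ : S ≤ M₁
  le₂ : S ≤ M₂
  pgroup : IsPGroup p S
  ne_bot : S ≠ ⊥
  syl : ∀ R : Subgroup G, IsPGroup p R → S ≤ R → R ≤ M₁ → R ≤ M₂ → R = S
  best : ∀ L₁ L₂ : Subgroup G, IsMaxPLocal p L₁ → IsMaxPLocal p L₂ → L₁ ≠ L₂ →
    ∀ R : Subgroup G, IsPGroup p R → R ≤ L₁ → R ≤ L₂ → Nat.card R ≤ Nat.card S

omit hp in
theorem MaxPair.symm {M₁ M₂ S : Subgroup G} (h : MaxPair p M₁ M₂ S) : MaxPair p M₂ M₁ S :=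
  ⟨h.max₂, h.max₁, h.le₂, h.le₁, h.pgroup, h.ne_bot,
    fun R hR hSR h2 h1 => h.syl R hR hSR h1 h2, h.best⟩

omit hp in
/-- Fact A. -/
theorem MaxPair.unique_of_lt {M₁ M₂ S : Subgroup G} (h : MaxPair p M₁ M₂ S) {R M₃ : Subgroup G}
    (hR : IsPGroup p R) (hSR : S ≤ R) (hne : R ≠ S) (hRM : R ≤ M₁) (hM₃ : IsMaxPLocal p M₃)
    (hRM₃ : R ≤ M₃) : M₃ = M₁ := by
  by_contra hcon
  have h1 := h.best M₃ M₁ hM₃ h.max₁ hcon R hR hRM₃ hRM
  exact hne (Subgroup.eq_of_le_of_card_ge hSR h1).symm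

/-- Claim X. -/
theorem MaxPair.normalizer_le {M₁ M₂ S : Subgroup G} (h : MaxPair p M₁ M₂ S)
    (hQ : ¬ opG p M₁ ≤ S) : Subgroup.normalizer (S : Set G) ≤ M₁ := by
  have hQp : IsPGroup p ↥(opG p M₁) := (pCore_isPGroup p ↥M₁).map _
  have hR₀ : IsPGroup p ↥(opG p M₁ ⊔ S) :=
    IsPGroup.to_sup_of_normal_left' hQp h.pgroup (h.le₁.trans (le_normalizer_opG p M₁))
  have hR₀M : opG p M₁ ⊔ S ≤ M₁ := sup_le (opG_le p M₁) h.le₁
  have hnot : ¬ (Subgroup.normalizer (S : Set G) ⊓ (opG p M₁ ⊔ S) ≤ S) := by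
    intro hle
    have := eq_of_normalizer_inf_le S (opG p M₁ ⊔ S) hR₀ le_sup_right hle
    apply hQ
    rw [this]
    exact le_sup_left
  obtain ⟨M₃, hM₃, hle₃⟩ := exists_isMaxPLocal_ge (p := p)
    (L := Subgroup.normalizer (S : Set G)) ⟨S, h.pgroup, h.ne_bot, rfl⟩
  have h3 : M₃ = M₁ := by
    apply h.unique_of_lt (R := Subgroup.normalizer (S : Set G) ⊓ (opG p M₁ ⊔ S))
      (hR₀.to_le inf_le_right) (le_inf Subgroup.le_normalizer le_sup_right) ?_
      (inf_le_right.trans hR₀M) hM₃ (inf_le_left.trans hle₃)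
    intro heq
    exact hnot heq.le
  rw [← h3]; exact hle₃

/-- Claim Y. -/
theorem MaxPair.opG_le_of_normalizer_le {M₁ M₂ S : Subgroup G} (h : MaxPair p M₁ M₂ S)
    (hN₁ : Subgroup.normalizer (S : Set G) ≤ M₁) (hN₂ : Subgroup.normalizer (S : Set G) ≤ M₂) :
    opG p M₁ ≤ S := by
  have hQp : IsPGroup p ↥(opG p M₁) := (pCore_isPGroup p ↥M₁).map _
  have hR₀ : IsPGroup p ↥(opG p M₁ ⊔ S) :=
    IsPGroup.to_sup_of_normal_left' hQp h.pgroup (h.le₁.trans (le_normalizer_opG p M₁))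
  have hle : Subgroup.normalizer (S : Set G) ⊓ (opG p M₁ ⊔ S) ≤ S := by
    have := h.syl (Subgroup.normalizer (S : Set G) ⊓ (opG p M₁ ⊔ S)) (hR₀.to_le inf_le_right)
      (le_inf Subgroup.le_normalizer le_sup_right) (inf_le_left.trans hN₁) (inf_le_left.trans hN₂)
    exact this.le
  have := eq_of_normalizer_inf_le S (opG p M₁ ⊔ S) hR₀ le_sup_right hle
  rw [this]
  exact le_sup_left

/-- Case 2: if `O_p(M₂) ≰ S`, the pair `(M₁, M₁^g)` is good for a suitable `g`. -/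
theorem MaxPair.exists_good_of_not_le {M₁ M₂ S : Subgroup G} (h : MaxPair p M₁ M₂ S)
    (hQ₂ : ¬ opG p M₂ ≤ S) :
    ∃ L₁ L₂ : Subgroup G, IsMaxPLocal p L₁ ∧ IsMaxPLocal p L₂ ∧ L₁ ≠ L₂ ∧
      opG p L₁ ⊔ opG p L₂ ≤ L₁ ⊓ L₂ := by
  have hN₂ : Subgroup.normalizer (S : Set G) ≤ M₂ := h.symm.normalizer_le hQ₂
  have hQ₁ : opG p M₁ ≤ S := by
    by_contra hcon
    have hN₁ := h.normalizer_le hcon
    exact hQ₂ (h.symm.opG_le_of_normalizer_le hN₂ hN₁)
  have hQp : IsPGroup p ↥(opG p M₂) := (pCore_isPGroup p ↥M₂).map _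
  have hR₀ : IsPGroup p ↥(opG p M₂ ⊔ S) :=
    IsPGroup.to_sup_of_normal_left' hQp h.pgroup (h.le₂.trans (le_normalizer_opG p M₂))
  have hR₀M : opG p M₂ ⊔ S ≤ M₂ := sup_le (opG_le p M₂) h.le₂
  have hnot : ¬ (Subgroup.normalizer (S : Set G) ⊓ (opG p M₂ ⊔ S) ≤ S) := by
    intro hle
    have := eq_of_normalizer_inf_le S (opG p M₂ ⊔ S) hR₀ le_sup_right hle
    apply hQ₂
    rw [this]
    exact le_sup_left
  obtain ⟨g, hg, hgS⟩ := SetLike.not_le_iff_exists.mp hnot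
  have hgN : g ∈ Subgroup.normalizer (S : Set G) := (Subgroup.mem_inf.1 hg).1
  have hgM₁ : g ∉ M₁ := by
    intro hgM
    have := h.syl ((Subgroup.normalizer (S : Set G) ⊓ (opG p M₂ ⊔ S)) ⊓ M₁)
      (hR₀.to_le (inf_le_left.trans inf_le_right))
      (le_inf (le_inf Subgroup.le_normalizer le_sup_right) h.le₁) inf_le_right
      (inf_le_left.trans (inf_le_right.trans hR₀M))
    apply hgS
    rw [← this]
    exact Subgroup.mem_inf.2 ⟨hg, hgM⟩
  have hSg : S.map (MulAut.conj g).toMonoidHom = S := mem_normalizer_iff_map_conj.mp hgN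
  refine ⟨M₁, M₁.map (MulAut.conj g).toMonoidHom, h.max₁, h.max₁.map_conj g, ?_, ?_⟩
  · intro heq
    apply hgM₁
    rw [← h.max₁.normalizer_eq, mem_normalizer_iff_map_conj]
    exact heq.symm
  · have hS2 : S ≤ M₁.map (MulAut.conj g).toMonoidHom := by
      rw [← hSg]; exact Subgroup.map_mono h.le₁
    apply sup_le
    · exact hQ₁.trans (le_inf h.le₁ hS2)
    · rw [opG_map_conj]
      have : (opG p M₁).map (MulAut.conj g).toMonoidHom ≤ S := by
        rw [← hSg]; exact Subgroup.map_mono hQ₁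
      exact this.trans (le_inf h.le₁ hS2)

theorem MaxPair.exists_good {M₁ M₂ S : Subgroup G} (h : MaxPair p M₁ M₂ S)
    (hne : M₁ ≠ M₂) :
    ∃ L₁ L₂ : Subgroup G, IsMaxPLocal p L₁ ∧ IsMaxPLocal p L₂ ∧ L₁ ≠ L₂ ∧
      opG p L₁ ⊔ opG p L₂ ≤ L₁ ⊓ L₂ := by
  by_cases hQ₂ : opG p M₂ ≤ S
  · by_cases hQ₁ : opG p M₁ ≤ S
    · exact ⟨M₁, M₂, h.max₁, h.max₂, hne,
        sup_le (hQ₁.trans (le_inf h.le₁ h.le₂)) (hQ₂.trans (le_inf h.le₁ h.le₂))⟩
    · exact h.symm.exists_good_of_not_le hQ₁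
  · exact h.exists_good_of_not_le hQ₂

/-- existence of a maximizing pair. -/
theorem exists_maxPair {M₁ M₂ : Subgroup G} (hM₁ : IsMaxPLocal p M₁) (hM₂ : IsMaxPLocal p M₂)
    (hne : M₁ ≠ M₂) (hdvd : p ∣ Nat.card ↥(M₁ ⊓ M₂)) :
    ∃ L₁ L₂ S : Subgroup G, L₁ ≠ L₂ ∧ MaxPair p L₁ L₂ S := by
  have hfin : ({q : Subgroup G × Subgroup G | IsMaxPLocal p q.1 ∧ IsMaxPLocal p q.2 ∧
      q.1 ≠ q.2 ∧ p ∣ Nat.card ↥(q.1 ⊓ q.2)}).Finite := Set.toFinite _
  obtain ⟨⟨L₁, L₂⟩, ⟨hL₁, hL₂, hLne, hLdvd⟩, hmax⟩ := Set.exists_max_image _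
    (fun q : Subgroup G × Subgroup G => (Nat.card ↥(q.1 ⊓ q.2)).factorization p) hfin
    ⟨(M₁, M₂), hM₁, hM₂, hne, hdvd⟩
  simp only at hL₁ hL₂ hLne hLdvd hmax
  obtain ⟨P⟩ : Nonempty (Sylow p ↥(L₁ ⊓ L₂)) := inferInstance
  set S : Subgroup G := (P : Subgroup ↥(L₁ ⊓ L₂)).map (L₁ ⊓ L₂).subtype with hS
  have hcardS : Nat.card S = p ^ (Nat.card ↥(L₁ ⊓ L₂)).factorization p := by
    rw [← Sylow.card_eq_multiplicity P]
    exact (Nat.card_congr ((P : Subgroup ↥(L₁ ⊓ L₂)).equivMapOfInjective _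
      (L₁ ⊓ L₂).subtype_injective).toEquiv).symm
  have hfac : 1 ≤ (Nat.card ↥(L₁ ⊓ L₂)).factorization p :=
    (hp.out.dvd_iff_one_le_factorization Nat.card_pos.ne').mp hLdvd
  have hSD : S ≤ L₁ ⊓ L₂ := Subgroup.map_subtype_le _
  refine ⟨L₁, L₂, S, hLne, ⟨hL₁, hL₂, hSD.trans inf_le_left, hSD.trans inf_le_right,
    P.isPGroup'.map _, ?_, ?_, ?_⟩⟩
  · intro hb
    rw [hb, Subgroup.card_bot] at hcardS
    have : 1 < p ^ (Nat.card ↥(L₁ ⊓ L₂)).factorization p :=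
      Nat.one_lt_pow (by omega) hp.out.one_lt
    omega
  · intro R hR hSR hR1 hR2
    have hRD : R ≤ L₁ ⊓ L₂ := le_inf hR1 hR2
    have h1 : (P : Subgroup ↥(L₁ ⊓ L₂)) ≤ R.subgroupOf (L₁ ⊓ L₂) := by
      intro x hx
      rw [Subgroup.mem_subgroupOf]
      exact hSR ⟨x, hx, rfl⟩
    have h2 : R.subgroupOf (L₁ ⊓ L₂) = (P : Subgroup ↥(L₁ ⊓ L₂)) :=
      P.is_maximal' hR.comap_subtype h1
    rw [hS, ← h2, Subgroup.map_subgroupOf_eq_of_le hRD]
  · intro K₁ K₂ hK₁ hK₂ hKne R hR hRK₁ hRK₂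
    obtain ⟨k, hk⟩ := IsPGroup.iff_card.mp hR
    rcases Nat.eq_zero_or_pos k with h0 | hpos
    · rw [hk, h0, pow_zero, hcardS]
      exact Nat.one_le_pow _ _ hp.out.pos
    · have hd : Nat.card R ∣ Nat.card ↥(K₁ ⊓ K₂) := Subgroup.card_dvd_of_le (le_inf hRK₁ hRK₂)
      rw [hk] at hd
      have hpd : p ∣ Nat.card ↥(K₁ ⊓ K₂) := (dvd_pow_self p hpos.ne').trans hd
      have h1 := hmax (K₁, K₂) ⟨hK₁, hK₂, hKne, hpd⟩
      simp only at h1
      have h2 : k ≤ (Nat.card ↥(K₁ ⊓ K₂)).factorization p :=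
        (hp.out.pow_dvd_iff_le_factorization Nat.card_pos.ne').mp hd
      rw [hk, hcardS]
      exact Nat.pow_le_pow_right hp.out.pos (h2.trans h1)

end

end Cfsg.Agent.Lib.Helper17
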