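import Mathlib
import Cfsg.Prelude.Def_Transfer
import Cfsg.Prelude.Def_Solvable
import Cfsg.Prelude.Def_Local
import Cfsg.Prelude.Def_OddOrderLocal
import Cfsg.Prelude.Def_CaseTheorems
import Cfsg.Agent.Lib.Helper13.R3Defs2
import Cfsg.Agent.Lib.Helper12.R3TYPE2B
import Cfsg.Agent.Lib.Helper17.R3TYPE2A

/-!
# S4404 wave 2 leaf TYPE2 (exact): `type_two_fixed`
= helper12's half (b) `R3TYPE2B.type_two_fixed_of'` over helper17's half (a) `R3TYPE2A` (S1, S2, S3).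
-/

set_option autoImplicit false

namespace Cfsg.Agent.Lib.Helper17.R3TYPE2

open Pointwise Cfsg.Agent.Lib.Helper13.R3
open scoped commutatorElement

section pure

variable {G : Type*} [Group G] [Finite G]

/-- TYPE2 `type_two_fixed`. -/
theorem type_two_fixed (n : ℕ) (x y z : G) (hcard : Nat.card G = 3 ^ n) (hn : 4 ≤ n)
    (hgen : Subgroup.closure ({x, y, z} : Set G) = ⊤)
    (hx : x ^ 3 = 1) (hy : y ^ 3 = 1) (hz : z ^ 3 ^ (n - 2) = 1) (hxz : x * z = z * x)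
    (hyz : y * z = z * y) (hxy : x⁻¹ * y * x = y * z ^ 3 ^ (n - 3))
    (N : Subgroup G) [N.Normal] (h3 : ∀ g : G, g ^ 3 ∈ N) (hc : ∀ g h : G, ⁅g, h⁆ ∈ N)
    (hidx : N.index = 27) (φ : G ≃* G) (hφ3 : ∀ g : G, φ (φ (φ g)) = g)
    (hφN : ∀ g : G, g ∈ N ↔ φ g ∈ N) :
    ∃ g₁ g₂ : G, g₁⁻¹ * φ g₁ ∈ N ∧ g₂⁻¹ * φ g₂ ∈ N ∧ g₁ ∉ N ∧ ∀ k : ℕ, g₂ * g₁ ^ k ∉ N :=
  Cfsg.Agent.Lib.Helper12.R3TYPE2B.type_two_fixed_of' n x y z hgen hx hz hxz hyz N h3 hc φ hφ3 hφN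
    (Cfsg.Agent.Lib.Helper17.R3TYPE2A.center_eq_zpow n x y z hcard hn hgen hx hy hz hxz hyz hxy)
    (Cfsg.Agent.Lib.Helper17.R3TYPE2A.dvd_of_mem n x y z hgen hxz hyz hxy N h3 hidx)
    (Cfsg.Agent.Lib.Helper17.R3TYPE2A.exists_mod_of_cube n x y z hcard hn hgen hx hy hz hxz hyz hxy
      N h3)

end pure

end Cfsg.Agent.Lib.Helper17.R3TYPE2
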