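/-
helper17: S4581 (planner helper5) - core of the kernel lemmas (KERA), (KERB):
a real irreducible character of odd degree has a real irreducible constituent of odd degree on every
normal subgroup (Clifford + parity of the orbit under complex conjugation).
-/
import Mathlib
import Cfsg.Prelude.Def_Blocks
import Cfsg.Agent.Lib.Helper6.Clifford
import Cfsg.Agent.Lib.Helper6.CliffordCorr
import Cfsg.Agent.Lib.Lead.CharFS
import Cfsg.Agent.Lib.Lead.CharEquiv
import Cfsg.Agent.Lib.Helper24.IrrFacts

set_option autoImplicit false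

namespace Cfsg.Agent.Lib.Helper17.RO

open Cfsg Cfsg.Agent.CharLib Cfsg.Agent.Lib.Helper6
open scoped ComplexConjugate

universe u

/-- an involution of a finite set of odd cardinality has a fixed point -/
theorem exists_fixed_of_odd_card {α : Type*} [DecidableEq α] (s : Finset α) (π : α → α)
    (hs : ∀ a ∈ s, π a ∈ s) (hinv : ∀ a ∈ s, π (π a) = a) (hodd : Odd s.card) :
    ∃ a ∈ s, π a = a := by
  by_contra hcon
  push Not at hcon
  have h0 : ∑ a ∈ s, (1 : ZMod 2) = 0 := by
    apply Finset.sum_involution (fun a _ => π a)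
    · intro a _
      exact CharTwo.add_self_eq_zero (1 : ZMod 2)
    · intro a ha _
      exact hcon a ha
    · intro a ha
      exact hs a ha
    · intro a ha
      exact hinv a ha
  rw [Finset.sum_const, nsmul_eq_mul, mul_one] at h0
  have h1 : (2 : ℕ) ∣ s.card := (ZMod.natCast_eq_zero_iff _ _).mp h0
  rcases hodd with ⟨k, hk⟩
  omega

section core
variable {G : Type u} [Group G] [Fintype G] (N : Subgroup G) [hN : N.Normal] [Fintype N]

omit [Fintype G] [Fintype N] in
theorem conjFun_conj (g : G) (θ : N → ℂ) :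
    conjFun N g (fun n => conj (θ n)) = fun n => conj (conjFun N g θ n) := rfl

omit [Fintype G] hN in
/-- the multiplicity of the complex conjugate in a real function -/
theorem classInner_conj_of_real {F θ : N → ℂ} (hF : ∀ n, conj (F n) = F n) :
    classInner F (fun n => conj (θ n)) = conj (classInner F θ) := by
  unfold classInner
  rw [map_mul, map_sum, map_inv₀, Complex.conj_natCast]
  congr 1
  apply Finset.sum_congr rfl
  intro n _
  rw [map_mul, hF n, Complex.conj_conj]

/-- **core**: a real irreducible character of odd degree has a real irreducible constituent of odd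
degree on every normal subgroup -/
theorem exists_real_odd_constituent (χ : IrrCharacter G)
    (hre : ∀ g : G, ((χ : G → ℂ) g).im = 0) (hodd : Odd (charDegree (χ : G → ℂ))) :
    ∃ θ : N → ℂ, IsIrrCharacter N θ ∧ classInner (resFun N (χ : G → ℂ)) θ ≠ 0 ∧
      (∀ n : N, (θ n).im = 0) ∧ Odd (charDegree θ) := by
  classical
  have hχc : IsCharacter G (χ : G → ℂ) := IsIrrCharacter.isCharacter χ.2
  have hcls : IsClassFunction G (χ : G → ℂ) := IsCharacter.isClassFunction hχc
  have hresc : IsCharacter N (resFun N (χ : G → ℂ)) := isCharacter_resFun N hχc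
  have hdeg : (χ : G → ℂ) 1 = (charDegree (χ : G → ℂ) : ℂ) :=
    Cfsg.Agent.Lib.Helper24.irr_apply_one χ
  have hdpos : 0 < charDegree (χ : G → ℂ) := Cfsg.Agent.Lib.Helper24.irr_charDegree_pos χ
  have hne : resFun N (χ : G → ℂ) ≠ 0 := by
    intro h0
    have h1 := congrFun h0 1
    rw [resFun_apply] at h1
    have h2 : (χ : G → ℂ) 1 = 0 := h1
    rw [hdeg] at h2
    have : charDegree (χ : G → ℂ) = 0 := by exact_mod_cast h2
    omega
  obtain ⟨θ₀, hθ₀, hc₀⟩ := Cfsg.Agent.Lib.Helper6.IsCharacter.exists_constituent hresc hne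
  obtain ⟨e, he⟩ := IsCharacter.classInner_nat hresc (IsIrrCharacter.isCharacter hθ₀)
  have hdeg₀ : θ₀ 1 = (charDegree θ₀ : ℂ) :=
    Cfsg.Agent.Lib.Helper24.irr_apply_one (⟨θ₀, hθ₀⟩ : IrrCharacter N)
  -- the degree formula
  have hcd := clifford_degree N χ.2 hθ₀ hc₀
  rw [hdeg, he, hdeg₀] at hcd
  have hcdN : charDegree (χ : G → ℂ) = e * (conjOrbit N θ₀).card * charDegree θ₀ := by
    exact_mod_cast hcd
  rw [hcdN] at hodd
  have hodd2 : Odd (e * (conjOrbit N θ₀).card) := (Nat.odd_mul.mp hodd).1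
  have hoddd : Odd (charDegree θ₀) := (Nat.odd_mul.mp hodd).2
  have hoddc : Odd (conjOrbit N θ₀).card := (Nat.odd_mul.mp hodd2).2
  -- the restriction is real
  have hFre : ∀ n : N, conj (resFun N (χ : G → ℂ) n) = resFun N (χ : G → ℂ) n := by
    intro n
    rw [resFun_apply]
    exact Complex.conj_eq_iff_im.mpr (hre n)
  -- the conjugate of `θ₀` lies in the orbit
  have hθ₀c : IsIrrCharacter N (fun n => conj (θ₀ n)) := IsIrrCharacter.conj' hθ₀
  have hcc : classInner (resFun N (χ : G → ℂ)) (fun n => conj (θ₀ n)) ≠ 0 := by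
    rw [classInner_conj_of_real N hFre]
    intro h
    apply hc₀
    have := congrArg conj h
    rwa [Complex.conj_conj, map_zero] at this
  obtain ⟨g₀, hg₀⟩ := exists_conjFun_eq_of_constituent N χ.2 hθ₀ hθ₀c hc₀ hcc
  -- complex conjugation on the orbit
  have hs : ∀ ψ ∈ conjOrbit N θ₀, (fun n => conj (ψ n)) ∈ conjOrbit N θ₀ := by
    intro ψ hψ
    obtain ⟨g, rfl⟩ := (mem_conjOrbit N).mp hψ
    rw [mem_conjOrbit]
    refine ⟨g₀ * g, ?_⟩
    rw [conjFun_mul, hg₀]
    rfl
  have hinv : ∀ ψ ∈ conjOrbit N θ₀,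
      (fun n => conj ((fun n => conj (ψ n)) n)) = ψ := by
    intro ψ _
    funext n
    exact Complex.conj_conj (ψ n)
  obtain ⟨ψ, hψ, hfix⟩ := exists_fixed_of_odd_card (conjOrbit N θ₀)
    (fun ψ : N → ℂ => fun n => conj (ψ n)) hs hinv hoddc
  obtain ⟨g, rfl⟩ := (mem_conjOrbit N).mp hψ
  refine ⟨conjFun N g θ₀, isIrrCharacter_conjFun N hθ₀ g, ?_, ?_, ?_⟩
  · rw [classInner_resFun_conjFun N hcls]
    exact hc₀
  · intro n
    have := congrFun hfix n
    exact Complex.conj_eq_iff_im.mp this
  · unfold charDegree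
    rw [conjFun_apply_one]
    exact hoddd

end core

end Cfsg.Agent.Lib.Helper17.RO
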