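/-
helper17: S4581 (planner helper5) leaf (KERA): a real irreducible character of odd degree has every
normal subgroup of odd order in its kernel (exact names + binders of notes/S4581_leaves.lean).
-/
import Mathlib
import Cfsg.Prelude.Def_Blocks
import Cfsg.Agent.Lib.Helper6.Clifford
import Cfsg.Agent.Lib.Helper5.RODefs
import Cfsg.Agent.Lib.Lead.FrobSchur
import Cfsg.Agent.Lib.Helper17.ROKerCore

set_option autoImplicit false

namespace Cfsg.Agent.Lib.Helper17.RO

open Cfsg Cfsg.Agent.CharLib Cfsg.Agent.Lib.Helper6 Cfsg.Agent.Lib.Helper5.RO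

universe u

/-- (KERA) the whole-group form. -/
theorem ker_of_odd_normal {G : Type u} [Group G] [Finite G] (M : Subgroup G) [M.Normal]
    (hM : Odd (Nat.card M)) (χ : IrrCharacter G)
    (hre : ∀ g : G, ((χ : G → ℂ) g).im = 0) (hodd : Odd (charDegree (χ : G → ℂ))) :
    ∀ m ∈ M, (χ : G → ℂ) m = (χ : G → ℂ) 1 := by
  classical
  let _ := Fintype.ofFinite G
  let _ := Fintype.ofFinite M
  obtain ⟨θ, hθ, hc, hθre, -⟩ := exists_real_odd_constituent M χ hre hodd
  have h1 : θ = fun _ => 1 := eq_one_of_real_of_odd hM ⟨θ, hθ⟩ hθre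
  subst h1
  have hinv : ∀ g : G, conjFun M g (fun _ : M => (1 : ℂ)) = fun _ => 1 := fun g => rfl
  have h2 := clifford_of_invariant M χ.2 hθ hc hinv
  intro m hm
  have h3 := congrFun h2 ⟨m, hm⟩
  have h4 := congrFun h2 1
  rw [resFun_apply] at h3 h4
  simp only [Pi.smul_apply, smul_eq_mul, mul_one] at h3 h4
  have h3' : (χ : G → ℂ) m = classInner (resFun M (χ : G → ℂ)) (fun _ => 1) := h3
  have h4' : (χ : G → ℂ) 1 = classInner (resFun M (χ : G → ℂ)) (fun _ => 1) := h4
  rw [h3', h4']

/-- (KERA) a real odd-degree irreducible character of a subgroup `H` has `M ∩ H` in its kernel,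
`M ⊴ G` of odd order. -/
theorem ker_of_odd_normal_sub {G : Type u} [Group G] [Finite G] (H M : Subgroup G) [M.Normal]
    (hM : Odd (Nat.card M)) (ξ : IrrCharacter H)
    (hre : ∀ g : H, ((ξ : H → ℂ) g).im = 0) (hodd : Odd (charDegree (ξ : H → ℂ))) :
    ∀ n : H, (n : G) ∈ M → (ξ : H → ℂ) n = (ξ : H → ℂ) 1 := by
  have hdvd : Nat.card (M.subgroupOf H) ∣ Nat.card M := by
    let f : (M.subgroupOf H) →* M :=
      { toFun := fun x => ⟨((x : H) : G), Subgroup.mem_subgroupOf.mp x.2⟩
        map_one' := rfl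
        map_mul' := fun _ _ => rfl }
    have hf : Function.Injective f := by
      intro x y hxy
      have h1 : ((x : H) : G) = ((y : H) : G) := congrArg (fun z : M => (z : G)) hxy
      exact Subtype.ext (Subtype.ext h1)
    exact Subgroup.card_dvd_of_injective f hf
  have hM' : Odd (Nat.card (M.subgroupOf H)) := Odd.of_dvd_nat hM hdvd
  intro n hn
  exact ker_of_odd_normal (M.subgroupOf H) hM' ξ hre hodd n (Subgroup.mem_subgroupOf.mpr hn)

end Cfsg.Agent.Lib.Helper17.RO
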