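/-
helper17: S4581 (planner helper5) leaf (KERB): a real irreducible character of odd degree has the
squares of a normal 2-subgroup in its kernel (exact names + binders of notes/S4581_leaves.lean).
-/
import Mathlib
import Cfsg.Prelude.Def_Blocks
import Cfsg.Agent.Lib.Helper6.Clifford
import Cfsg.Agent.Lib.Helper6.LinChar
import Cfsg.Agent.Lib.Helper5.RODefs
import Cfsg.Agent.Lib.Lead.CharOrtho
import Cfsg.Agent.Lib.Helper17.ROKerCore

set_option autoImplicit false

namespace Cfsg.Agent.Lib.Helper17.RO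

open Cfsg Cfsg.Agent.CharLib Cfsg.Agent.Lib.Helper6 Cfsg.Agent.Lib.Helper5.RO
open scoped ComplexConjugate

universe u

/-- a real-valued character of degree one takes the value `1` at squares -/
theorem linear_real_sq {Q : Type u} [Group Q] [Finite Q] {ψ : Q → ℂ} (hψ : IsCharacter Q ψ)
    (h1 : ψ 1 = 1) (hre : ∀ q : Q, (ψ q).im = 0) (q : Q) :
    linCharUnitsHom hψ h1 (q ^ 2) = 1 := by
  have hinv : ψ q⁻¹ = ψ q := by
    rw [IsCharacter.apply_inv hψ q]
    exact Complex.conj_eq_iff_im.mpr (hre q)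
  have h2 : linCharUnitsHom hψ h1 q⁻¹ = linCharUnitsHom hψ h1 q := by
    apply Units.ext
    rw [linCharUnitsHom_apply, linCharUnitsHom_apply]
    exact hinv
  rw [map_inv] at h2
  rw [map_pow, pow_two]
  calc linCharUnitsHom hψ h1 q * linCharUnitsHom hψ h1 q
      = (linCharUnitsHom hψ h1 q)⁻¹ * linCharUnitsHom hψ h1 q := by rw [h2]
    _ = 1 := inv_mul_cancel _

/-- (KERB) the whole-group form. -/
theorem ker_of_sq_normal_two {G : Type u} [Group G] [Finite G] (Q : Subgroup G) [Q.Normal]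
    (hQ : IsPGroup 2 Q) (χ : IrrCharacter G)
    (hre : ∀ g : G, ((χ : G → ℂ) g).im = 0) (hodd : Odd (charDegree (χ : G → ℂ))) :
    ∀ k ∈ sqSub Q, (χ : G → ℂ) k = (χ : G → ℂ) 1 := by
  classical
  let _ := Fintype.ofFinite G
  let _ := Fintype.ofFinite Q
  obtain ⟨θ, hθ, hc, hθre, hθodd⟩ := exists_real_odd_constituent Q χ hre hodd
  -- `θ` is linear
  have hd1 : charDegree θ = 1 := by
    have hdvd := Cfsg.Agent.Lib.Helper24.irr_charDegree_dvd_card (⟨θ, hθ⟩ : IrrCharacter Q)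
    obtain ⟨a, ha⟩ := IsPGroup.iff_card.mp hQ
    rw [ha] at hdvd
    obtain ⟨b, _, hb⟩ := (Nat.dvd_prime_pow Nat.prime_two).mp hdvd
    have hb' : charDegree θ = 2 ^ b := hb
    rcases Nat.eq_zero_or_pos b with h0 | hpos
    · rw [hb', h0, pow_zero]
    · exfalso
      rw [hb'] at hθodd
      have heven : Even (2 ^ b) := (Nat.even_pow' hpos.ne').mpr even_two
      exact (Nat.not_even_iff_odd.mpr hθodd) heven
  have hθ1 : θ 1 = 1 := by
    have := Cfsg.Agent.Lib.Helper24.irr_apply_one (⟨θ, hθ⟩ : IrrCharacter Q)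
    rw [hd1, Nat.cast_one] at this
    exact this
  -- every conjugate of `θ` is `1` on the squares
  have key : ∀ ψ ∈ conjOrbit Q θ, ∀ k : G, k ∈ sqSub Q → ∀ hk : k ∈ Q, ψ ⟨k, hk⟩ = 1 := by
    intro ψ hψ
    obtain ⟨g, rfl⟩ := (mem_conjOrbit Q).mp hψ
    have hψc : IsCharacter Q (conjFun Q g θ) :=
      IsIrrCharacter.isCharacter (isIrrCharacter_conjFun Q hθ g)
    have hψ1 : conjFun Q g θ 1 = 1 := by rw [conjFun_apply_one]; exact hθ1
    have hψre : ∀ q : Q, (conjFun Q g θ q).im = 0 := fun q => hθre _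
    have hval : ∀ q : Q, ((linCharUnitsHom hψc hψ1 q : ℂˣ) : ℂ) = conjFun Q g θ q := fun q => rfl
    have hmain : ∀ k : G, k ∈ sqSub Q → ∀ hk : k ∈ Q, linCharUnitsHom hψc hψ1 ⟨k, hk⟩ = 1 := by
      intro k hk
      unfold sqSub at hk
      induction hk using Subgroup.closure_induction with
      | mem y hy =>
        obtain ⟨x, hx, rfl⟩ := hy
        intro hk'
        have h := linear_real_sq hψc hψ1 hψre ⟨x, hx⟩
        have he : (⟨x ^ 2, hk'⟩ : Q) = (⟨x, hx⟩ : Q) ^ 2 := Subtype.ext rfl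
        rw [he]
        exact h
      | one =>
        intro hk'
        have he : (⟨1, hk'⟩ : Q) = 1 := rfl
        rw [he, map_one]
      | mul a b ha hb iha ihb =>
        intro hk'
        have haQ : a ∈ Q := sqSub_le Q ha
        have hbQ : b ∈ Q := sqSub_le Q hb
        have he : (⟨a * b, hk'⟩ : Q) = (⟨a, haQ⟩ : Q) * ⟨b, hbQ⟩ := rfl
        rw [he, map_mul, iha haQ, ihb hbQ, one_mul]
      | inv a ha iha =>
        intro hk'
        have haQ : a ∈ Q := sqSub_le Q ha
        have he : (⟨a⁻¹, hk'⟩ : Q) = (⟨a, haQ⟩ : Q)⁻¹ := rfl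
        rw [he, map_inv, iha haQ, inv_one]
    intro k hk hkQ
    rw [← hval, hmain k hk hkQ]
    rfl
  -- Clifford
  have hcl := clifford Q χ.2 hθ hc
  have hsum : ∀ k : G, k ∈ sqSub Q → (χ : G → ℂ) k =
      classInner (resFun Q (χ : G → ℂ)) θ * ((conjOrbit Q θ).card : ℂ) := by
    intro k hk
    have hkQ : k ∈ Q := sqSub_le Q hk
    have h := congrFun hcl ⟨k, hkQ⟩
    rw [resFun_apply] at h
    have h' : (χ : G → ℂ) k = (classInner (resFun Q (χ : G → ℂ)) θ •
        ∑ ψ ∈ conjOrbit Q θ, ψ) ⟨k, hkQ⟩ := h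
    rw [h', Pi.smul_apply, Finset.sum_apply, smul_eq_mul]
    congr 1
    rw [Finset.sum_congr rfl (g := fun _ => (1 : ℂ)) (fun ψ hψ => key ψ hψ k hk hkQ),
      Finset.sum_const, nsmul_eq_mul, mul_one]
  intro k hk
  rw [hsum k hk, hsum 1 (Subgroup.one_mem _)]

/-- (KERB) a real odd-degree irreducible character of `H ≥ Q`, `Q ⊴ G` a 2-group, has the
squares of `Q` in its kernel. -/
theorem ker_of_sq_normal_two_sub {G : Type u} [Group G] [Finite G] (H Q : Subgroup G) [Q.Normal]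
    (hQ : IsPGroup 2 Q) (hQH : Q ≤ H) (ξ : IrrCharacter H)
    (hre : ∀ g : H, ((ξ : H → ℂ) g).im = 0) (hodd : Odd (charDegree (ξ : H → ℂ))) :
    ∀ n : H, (n : G) ∈ sqSub Q → (ξ : H → ℂ) n = (ξ : H → ℂ) 1 := by
  have hQ' : IsPGroup 2 (Q.subgroupOf H) := by
    let f : (Q.subgroupOf H) →* Q :=
      { toFun := fun x => ⟨((x : H) : G), Subgroup.mem_subgroupOf.mp x.2⟩
        map_one' := rfl
        map_mul' := fun _ _ => rfl }
    have hf : Function.Injective f := by
      intro x y hxy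
      have h1 : ((x : H) : G) = ((y : H) : G) := congrArg (fun z : Q => (z : G)) hxy
      exact Subtype.ext (Subtype.ext h1)
    exact hQ.of_injective f hf
  -- squares of `Q` inside `H`
  have hmem : ∀ k : G, k ∈ sqSub Q → ∀ hk : k ∈ H, (⟨k, hk⟩ : H) ∈ sqSub (Q.subgroupOf H) := by
    intro k hk
    unfold sqSub at hk
    induction hk using Subgroup.closure_induction with
    | mem y hy =>
      obtain ⟨x, hx, rfl⟩ := hy
      intro hk'
      have hxH : x ∈ H := hQH hx
      have he : (⟨x ^ 2, hk'⟩ : H) = (⟨x, hxH⟩ : H) ^ 2 := Subtype.ext rfl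
      rw [he]
      exact sq_mem_sqSub _ (Subgroup.mem_subgroupOf.mpr hx)
    | one =>
      intro hk'
      exact Subgroup.one_mem _
    | mul a b ha hb iha ihb =>
      intro hk'
      have haH : a ∈ H := hQH (sqSub_le Q ha)
      have hbH : b ∈ H := hQH (sqSub_le Q hb)
      have he : (⟨a * b, hk'⟩ : H) = (⟨a, haH⟩ : H) * ⟨b, hbH⟩ := rfl
      rw [he]
      exact Subgroup.mul_mem _ (iha haH) (ihb hbH)
    | inv a ha iha =>
      intro hk'
      have haH : a ∈ H := hQH (sqSub_le Q ha)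
      have he : (⟨a⁻¹, hk'⟩ : H) = (⟨a, haH⟩ : H)⁻¹ := rfl
      rw [he]
      exact Subgroup.inv_mem _ (iha haH)
  intro n hn
  exact ker_of_sq_normal_two (Q.subgroupOf H) hQ' ξ hre hodd n (hmem (n : G) hn n.2)

end Cfsg.Agent.Lib.Helper17.RO
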