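import Mathlib
import Cfsg.Prelude.Def_Blocks
import Cfsg.Agent.Lib.Helper1.SLBlkCount

/-!
# S4580 leaf (D) (planner helper4): a block containing a character of degree prime to `p` has
every Sylow `p`-subgroup as a defect group.
-/

set_option autoImplicit false

namespace Cfsg.Agent.Lib.Helper17.RealExt

open Cfsg

universe u
variable {G : Type u} [Group G] [Finite G]

omit [Finite G] in
/-- the block of a character of degree prime to `p` has full defect -/
theorem blockDefect_blockOf_of_not_dvd (p : ℕ) [Fact p.Prime] (M : Ideal AlgInt)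
    (hM : IsPModular p M) (χ : IrrCharacter G) (hdeg : ¬ p ∣ charDegree (χ : G → ℂ)) :
    blockDefect p (blockOf M (χ : G → ℂ)) = (Nat.card G).factorization p := by
  have hprime : M.IsPrime := Cfsg.Agent.Lib.Helper24.isPrime_of_isPModular hM
  unfold blockDefect
  have h0 : sInf ((fun ψ : IrrCharacter G => (charDegree (ψ : G → ℂ)).factorization p) ''
      blockOf M (χ : G → ℂ)) = 0 := by
    apply Nat.eq_zero_of_le_zero
    apply Nat.sInf_le
    exact ⟨χ, Cfsg.Agent.Lib.Helper6.mem_blockOf_self χ, Nat.factorization_eq_zero_of_not_dvd hdeg⟩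
  rw [h0, Nat.sub_zero]

/-- **(D)** -/
theorem exists_sylow_induced (p : ℕ) [Fact p.Prime] (M : Ideal AlgInt) (hM : IsPModular p M)
    (χ : IrrCharacter G) (hdeg : ¬ p ∣ charDegree (χ : G → ℂ)) (P : Sylow p G) :
    IsDefectGroup p M (blockOf M (χ : G → ℂ)) (P : Subgroup G) :=
  Cfsg.Agent.Lib.Helper1.SLBlkCount.isDefectGroup_sylow_of_full p M hM _ ⟨χ, rfl⟩
    (blockDefect_blockOf_of_not_dvd p M hM χ hdeg) P

end Cfsg.Agent.Lib.Helper17.RealExt
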