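import Mathlib

/-!
helper17: the arithmetic behind the degrees `5², 7², 11², 23²` (and `3²`) of the soluble
exceptional sharply 2-transitive groups.
-/

set_option autoImplicit false
set_option linter.unnecessarySeqFocus false

namespace Cfsg.Agent.Lib.Helper17.RegLinArith

theorem lt_three_pow {d : ℕ} (hd : 5 ≤ d) : 24 * d < 3 ^ d := by
  induction d, hd using Nat.le_induction with
  | base => norm_num
  | succ n hn ih => rw [pow_succ]; omega

/-- the case analysis once `p`, `d` are known: `n` is bounded and finitely many cases remain -/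
theorem case_aux {p n M : ℕ} (hp : 2 ≤ p) (n₀ : ℕ) (hM : M + 1 < p ^ n₀)
    (hdvd : p ^ n - 1 ∣ M) (hM0 : 0 < M) : n < n₀ := by
  by_contra hcon
  push Not at hcon
  have h1 : p ^ n₀ ≤ p ^ n := Nat.pow_le_pow_right (by omega) hcon
  have h2 : p ^ n - 1 ≤ M := Nat.le_of_dvd hM0 hdvd
  omega

theorem arith_odd {p d n i g a : ℕ} (hp : p.Prime) (hp2 : p ≠ 2) (hd : 1 ≤ d)
    (hi : i ∣ 24) (hg1 : 1 ≤ g) (hg : g ≤ d) (ha : a ∣ p ^ d - 1) (hsq : p ^ d * p ^ d ≤ p ^ n)
    (h : p ^ n - 1 = i * (g * a)) :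
    p ^ n = 9 ∨ p ^ n = 25 ∨ p ^ n = 49 ∨ p ^ n = 121 ∨ p ^ n = 529 := by
  have hp3 : 3 ≤ p := by
    have := hp.two_le
    omega
  have hQ3 : 3 ^ d ≤ p ^ d := Nat.pow_le_pow_left hp3 d
  have hQ : 3 ≤ p ^ d := by
    calc 3 = 3 ^ 1 := by norm_num
      _ ≤ 3 ^ d := Nat.pow_le_pow_right (by norm_num) hd
      _ ≤ p ^ d := hQ3
  -- divisibility
  have hgd : g ∣ d.factorial := Nat.dvd_factorial hg1 hg
  have hdvd : p ^ n - 1 ∣ 24 * (d.factorial * (p ^ d - 1)) := by
    rw [h]
    exact Nat.mul_dvd_mul hi (Nat.mul_dvd_mul hgd ha)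
  -- `2 * d ≤ n`
  have hn : 2 * d ≤ n := by
    rw [← pow_add, ← two_mul] at hsq
    exact (Nat.pow_le_pow_iff_right hp.one_lt).mp hsq
  -- bound on `Q`
  have hi24 : i ≤ 24 := Nat.le_of_dvd (by norm_num) hi
  have ha' : a ≤ p ^ d - 1 := Nat.le_of_dvd (by omega) ha
  have hbound : p ^ d + 1 ≤ 24 * d := by
    by_contra hcon
    push Not at hcon
    have h1 : i * (g * a) ≤ 24 * (d * (p ^ d - 1)) :=
      Nat.mul_le_mul hi24 (Nat.mul_le_mul hg ha')
    have h2 : (p ^ d - 1) * (p ^ d + 1) ≤ p ^ n - 1 := by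
      have h3 : (p ^ d - 1) * (p ^ d + 1) = p ^ d * p ^ d - 1 := by
        obtain ⟨k, hk⟩ : ∃ k, p ^ d = k + 1 := ⟨p ^ d - 1, by omega⟩
        rw [hk]
        simp only [Nat.add_sub_cancel]
        ring_nf
        omega
      rw [h3]
      omega
    have h4 : (p ^ d - 1) * (p ^ d + 1) ≤ (p ^ d - 1) * (24 * d) := by
      calc (p ^ d - 1) * (p ^ d + 1) ≤ p ^ n - 1 := h2
        _ = i * (g * a) := h
        _ ≤ 24 * (d * (p ^ d - 1)) := h1
        _ = (p ^ d - 1) * (24 * d) := by ring
    have h5 := Nat.le_of_mul_le_mul_left h4 (by omega)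
    omega
  have hd4 : d ≤ 4 := by
    by_contra hcon
    push Not at hcon
    have := lt_three_pow (d := d) (by omega)
    omega
  have hM0 : 0 < 24 * (d.factorial * (p ^ d - 1)) := by
    have := Nat.factorial_pos d
    have h1 : 0 < p ^ d - 1 := by omega
    positivity
  interval_cases d
  · -- d = 1
    have hp23 : p ≤ 23 := by
      rw [pow_one] at hbound
      omega
    simp only [Nat.factorial, pow_one] at hdvd hM0
    interval_cases p <;> norm_num at hp <;> try omega
    · have hn3 := case_aux (p := 3) (n₀ := 4) (by norm_num) (by norm_num) hdvd hM0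
      interval_cases n <;> omega
    · have hn3 := case_aux (p := 5) (n₀ := 3) (by norm_num) (by norm_num) hdvd hM0
      interval_cases n <;> omega
    · have hn3 := case_aux (p := 7) (n₀ := 3) (by norm_num) (by norm_num) hdvd hM0
      interval_cases n <;> omega
    · have hn3 := case_aux (p := 11) (n₀ := 3) (by norm_num) (by norm_num) hdvd hM0
      interval_cases n <;> omega
    · have hn3 := case_aux (p := 13) (n₀ := 3) (by norm_num) (by norm_num) hdvd hM0
      interval_cases n <;> omega
    · have hn3 := case_aux (p := 17) (n₀ := 3) (by norm_num) (by norm_num) hdvd hM0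
      interval_cases n <;> omega
    · have hn3 := case_aux (p := 19) (n₀ := 3) (by norm_num) (by norm_num) hdvd hM0
      interval_cases n <;> omega
    · have hn3 := case_aux (p := 23) (n₀ := 3) (by norm_num) (by norm_num) hdvd hM0
      interval_cases n <;> omega
  · -- d = 2
    have hp6 : p ≤ 6 := by
      by_contra hcon
      push Not at hcon
      have : 7 ^ 2 ≤ p ^ 2 := Nat.pow_le_pow_left hcon 2
      omega
    simp only [Nat.factorial] at hdvd hM0
    interval_cases p <;> norm_num at hp <;> try omega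
    · have hn3 := case_aux (p := 3) (n₀ := 6) (by norm_num) (by norm_num) hdvd hM0
      interval_cases n <;> omega
    · have hn3 := case_aux (p := 5) (n₀ := 5) (by norm_num) (by norm_num) hdvd hM0
      interval_cases n <;> omega
  · -- d = 3
    have hp4 : p ≤ 4 := by
      by_contra hcon
      push Not at hcon
      have : 5 ^ 3 ≤ p ^ 3 := Nat.pow_le_pow_left hcon 3
      omega
    simp only [Nat.factorial] at hdvd hM0
    interval_cases p <;> norm_num at hp <;> try omega
    · have hn3 := case_aux (p := 3) (n₀ := 8) (by norm_num) (by norm_num) hdvd hM0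
      interval_cases n <;> omega
  · -- d = 4
    have hp3' : p ≤ 3 := by
      by_contra hcon
      push Not at hcon
      have : 4 ^ 4 ≤ p ^ 4 := Nat.pow_le_pow_left hcon 4
      omega
    simp only [Nat.factorial] at hdvd hM0
    interval_cases p <;> norm_num at hp <;> try omega
    · have hn3 := case_aux (p := 3) (n₀ := 10) (by norm_num) (by norm_num) hdvd hM0
      interval_cases n <;> omega

/-- when the whole group is a Z-group the count is impossible -/
theorem arith_zgroup {p d P g a : ℕ} (hp : 2 ≤ p) (hd : 1 ≤ d) (hg : g ≤ d) (ha : a ∣ p ^ d - 1)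
    (hsq : p ^ d * p ^ d ≤ P) (h : P - 1 = g * a) : False := by
  have hQ : d < p ^ d := by
    calc d < 2 ^ d := Nat.lt_two_pow_self
      _ ≤ p ^ d := Nat.pow_le_pow_left hp d
  have ha' : a ≤ p ^ d - 1 := Nat.le_of_dvd (by omega) ha
  have h1 : g * a ≤ d * (p ^ d - 1) := Nat.mul_le_mul hg ha'
  obtain ⟨k, hk⟩ : ∃ k, p ^ d = k + 1 := ⟨p ^ d - 1, by omega⟩
  rw [hk] at hsq h1 hQ
  simp only [Nat.add_sub_cancel] at h1
  have h2 : k * (k + 2) ≤ P - 1 := by
    have : (k + 1) * (k + 1) = k * (k + 2) + 1 := by ring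
    omega
  have h3 : k * (k + 2) ≤ k * d := by
    calc k * (k + 2) ≤ P - 1 := h2
      _ = g * a := h
      _ ≤ d * k := h1
      _ = k * d := by ring
  have hk0 : 0 < k := by omega
  have := Nat.le_of_mul_le_mul_left h3 hk0
  omega

end Cfsg.Agent.Lib.Helper17.RegLinArith
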