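import Mathlib

/-!
helper17: a normal Z-subgroup `N` of a finite group contains an abelian subgroup `A = C_N(N')`,
normal in the whole group, with `C_N(A) ≤ A`.
-/

set_option autoImplicit false
set_option linter.style.haveILetI false

namespace Cfsg.Agent.Lib.Helper17.ZGroupSelfCent

theorem exists_self_centralizing {G : Type*} [Group G] [Finite G] (N : Subgroup G) [hN : N.Normal]
    [IsZGroup N] :
    ∃ A : Subgroup G, A.Normal ∧ (∀ a ∈ A, ∀ b ∈ A, a * b = b * a) ∧ A ≤ N ∧
      N ⊓ Subgroup.centralizer (A : Set G) ≤ A := by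
  obtain ⟨D, hD⟩ : ∃ D : Subgroup G, D = ⁅N, N⁆ := ⟨_, rfl⟩
  haveI hDn : D.Normal := by rw [hD]; infer_instance
  have hDN : D ≤ N := by rw [hD]; exact Subgroup.commutator_le_self N
  have hDmap : D = (commutator N).map N.subtype := by
    rw [hD]; exact (Subgroup.map_subtype_commutator N).symm
  haveI hcyc : IsCyclic (commutator N) := IsZGroup.isCyclic_commutator N
  have hDcomm : ∀ x ∈ D, ∀ y ∈ D, x * y = y * x := by
    intro x hx y hy
    rw [hDmap] at hx hy
    obtain ⟨x', hx', rfl⟩ := hx
    obtain ⟨y', hy', rfl⟩ := hy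
    obtain ⟨g, hg⟩ := IsCyclic.exists_generator (α := commutator N)
    obtain ⟨i, hi⟩ := Subgroup.mem_zpowers_iff.mp (hg ⟨x', hx'⟩)
    obtain ⟨j, hj⟩ := Subgroup.mem_zpowers_iff.mp (hg ⟨y', hy'⟩)
    have hx'' : x' = ((g : N)) ^ i := by
      have := congrArg Subtype.val hi
      simpa using this.symm
    have hy'' : y' = ((g : N)) ^ j := by
      have := congrArg Subtype.val hj
      simpa using this.symm
    rw [hx'', hy'', ← map_mul, ← map_mul, ← zpow_add, ← zpow_add, add_comm]
  refine ⟨N ⊓ Subgroup.centralizer (D : Set G), inferInstance, ?_, inf_le_left, ?_⟩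
  · -- abelian
    obtain ⟨A, hA⟩ : ∃ A : Subgroup G, A = N ⊓ Subgroup.centralizer (D : Set G) := ⟨_, rfl⟩
    rw [← hA]
    have hAN : A ≤ N := by rw [hA]; exact inf_le_left
    let f : A →* Abelianization N := (Abelianization.of).comp (Subgroup.inclusion hAN)
    haveI : IsCyclic (Abelianization N) := IsZGroup.isCyclic_abelianization
    have hker : f.ker ≤ Subgroup.center A := by
      intro x hx
      rw [MonoidHom.mem_ker] at hx
      have h1 : Subgroup.inclusion hAN x ∈ commutator N := by
        rw [← Abelianization.ker_of]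
        exact hx
      have h2 : (x : G) ∈ D := by
        rw [hDmap]
        exact ⟨_, h1, rfl⟩
      rw [Subgroup.mem_center_iff]
      intro y
      apply Subtype.ext
      have hy : (y : G) ∈ Subgroup.centralizer (D : Set G) := by
        have h3 : (y : G) ∈ N ⊓ Subgroup.centralizer (D : Set G) := hA ▸ y.2
        exact h3.2
      rw [Subgroup.mem_centralizer_iff] at hy
      exact (hy _ h2).symm
    intro a ha b hb
    have hc : IsMulCommutative A := f.isMulCommutative_of_isCyclic_of_ker_le_center hker
    have := hc.is_comm.comm ⟨a, ha⟩ ⟨b, hb⟩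
    exact congrArg Subtype.val this
  · -- self-centralizing in `N`
    intro x hx
    have hxN : x ∈ N := hx.1
    have hxC : x ∈ Subgroup.centralizer ((N ⊓ Subgroup.centralizer (D : Set G) : Subgroup G) : Set G) :=
      hx.2
    refine Subgroup.mem_inf.mpr ⟨hxN, ?_⟩
    rw [Subgroup.mem_centralizer_iff] at hxC ⊢
    intro d hd
    apply hxC
    have hdC : d ∈ Subgroup.centralizer (D : Set G) := by
      rw [Subgroup.mem_centralizer_iff]
      intro e he
      exact hDcomm e he d hd
    exact Subgroup.mem_inf.mpr ⟨hDN hd, hdC⟩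

end Cfsg.Agent.Lib.Helper17.ZGroupSelfCent
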