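import Mathlib
import Cfsg.Agent.Lib.Helper29.RegLin
import Cfsg.Agent.Lib.Helper5.OrbitCount
import Cfsg.Agent.Lib.Helper17.ZGroupSelfCent

/-!
helper17: for a linear group `H` over the prime field that is regular on the nonzero vectors and
a normal abelian subgroup `A`, the algebra `F_p[A]` is a commutative domain acting faithfully on
every `A`-orbit span; consequences: `|A| ∣ p^d - 1` and `|H : C_H(A)| ≤ d`, where `p^d` is the
size of an `A`-orbit span.
-/

set_option autoImplicit false
set_option linter.style.haveILetI false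

namespace Cfsg.Agent.Lib.Helper17.RegLinField

open Cfsg.Agent.Lib.Helper29.RegLin
open scoped IsMulCommutative

variable {p : ℕ} [Fact p.Prime] {V : Type*} [AddCommGroup V] [Module (ZMod p) V]
variable {H : Subgroup (V ≃ₗ[ZMod p] V)}

/-- the inclusion of `H` into the endomorphism algebra -/
def toEnd (H : Subgroup (V ≃ₗ[ZMod p] V)) : H →* Module.End (ZMod p) V where
  toFun h := ((h : V ≃ₗ[ZMod p] V) : V →ₗ[ZMod p] V)
  map_one' := rfl
  map_mul' _ _ := rfl

theorem toEnd_apply (h : H) (u : V) : toEnd H h u = h • u := rfl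

theorem toEnd_injective : Function.Injective (toEnd H) := by
  intro a b hab
  apply Subtype.ext
  apply LinearEquiv.ext
  intro u
  exact congrArg (fun f : Module.End (ZMod p) V => f u) hab

/-- the algebra generated by `A` -/
def algA (A : Subgroup H) : Subalgebra (ZMod p) (Module.End (ZMod p) V) :=
  Algebra.adjoin (ZMod p) (Set.range fun a : A => toEnd H a)

theorem toEnd_mem_algA (A : Subgroup H) (a : A) : toEnd H a ∈ algA A :=
  Algebra.subset_adjoin ⟨a, rfl⟩

theorem apply_mem_Wv (A : Subgroup H) {x : Module.End (ZMod p) V} (hx : x ∈ algA A) :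
    ∀ u : V, x u ∈ Wv A u := by
  unfold algA at hx
  induction hx using Algebra.adjoin_induction with
  | mem x hx =>
    obtain ⟨a, rfl⟩ := hx
    intro u
    exact Wv_invariant A u a (mem_Wv_self A u)
  | algebraMap r =>
    intro u
    rw [Module.algebraMap_end_apply]
    exact Submodule.smul_mem _ _ (mem_Wv_self A u)
  | add y z _ _ hy hz =>
    intro u
    rw [LinearMap.add_apply]
    exact add_mem (hy u) (hz u)
  | mul y z _ _ hy hz =>
    intro u
    rw [Module.End.mul_apply]
    exact Wv_le A (fun a _ h => Wv_invariant A u a h) (hz u) (hy (z u))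

theorem isMulCommutative_algA (A : Subgroup H) (hAc : ∀ a b : A, a * b = b * a) :
    IsMulCommutative (algA A) := by
  apply Algebra.isMulCommutative_adjoin
  rintro _ ⟨a, rfl⟩ _ ⟨b, rfl⟩
  show toEnd H a * toEnd H b = toEnd H b * toEnd H a
  rw [← map_mul, ← map_mul]
  congr 1
  exact congrArg Subtype.val (hAc a b)

theorem commute_algA (A : Subgroup H) (hAc : ∀ a b : A, a * b = b * a)
    {x y : Module.End (ZMod p) V} (hx : x ∈ algA A) (hy : y ∈ algA A) : x * y = y * x := by
  haveI := isMulCommutative_algA A hAc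
  have h1 : (⟨x, hx⟩ : algA A) * ⟨y, hy⟩ = ⟨y, hy⟩ * ⟨x, hx⟩ := mul_comm _ _
  exact congrArg Subtype.val h1

theorem apply_smul (A : Subgroup H) (hAc : ∀ a b : A, a * b = b * a)
    {x : Module.End (ZMod p) V} (hx : x ∈ algA A) (a : A) (u : V) : x (a • u) = a • x u := by
  have h1 := commute_algA A hAc hx (toEnd_mem_algA A a)
  have h2 := congrArg (fun f : Module.End (ZMod p) V => f u) h1
  have h3 : x ((a : H) • u) = (a : H) • x u := by simpa [toEnd_apply] using h2
  exact h3

section reg

variable [Finite V] (hreg : ∀ v w : V, v ≠ 0 → w ≠ 0 → ∃! h : H, h • v = w)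
include hreg

/-- faithfulness of `F_p[A]` on every nonzero vector -/
theorem eq_zero_of_apply_eq_zero (A : Subgroup H) [A.Normal] (hAc : ∀ a b : A, a * b = b * a)
    {x : Module.End (ZMod p) V} (hx : x ∈ algA A) {v : V} (hv : v ≠ 0) (hxv : x v = 0) :
    x = 0 := by
  have hW : ∀ u ∈ Wv A v, x u = 0 := by
    intro u hu
    unfold Wv at hu
    induction hu using Submodule.span_induction with
    | mem u hu =>
      obtain ⟨a, rfl⟩ := hu
      show x (a • v) = 0
      rw [apply_smul A hAc hx, hxv, smul_zero]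
    | zero => exact map_zero x
    | add y z _ _ hy hz => rw [map_add, hy, hz, add_zero]
    | smul c y _ hy => rw [map_smul, hy, smul_zero]
  apply LinearMap.ext
  intro w
  rw [LinearMap.zero_apply]
  by_cases hw : w ∈ Wv A v
  · exact hW w hw
  by_contra hxw
  have hw0 : w ≠ 0 := by
    rintro rfl
    exact hw (zero_mem _)
  have ht0 : v + w ≠ 0 := by
    intro h
    apply hw
    have : w = -v := by
      rw [eq_neg_iff_add_eq_zero, add_comm]; exact h
    rw [this]
    exact neg_mem (mem_Wv_self A v)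
  have hxt : x (v + w) = x w := by rw [map_add, hxv, zero_add]
  have h1 : Wv A (x w) = Wv A w := Wv_eq_of_mem hreg A hw0 hxw (apply_mem_Wv A hx w)
  have h2 : Wv A (x w) = Wv A (v + w) :=
    Wv_eq_of_mem hreg A ht0 hxw (hxt ▸ apply_mem_Wv A hx (v + w))
  have h3 : v + w ∈ Wv A w := by
    rw [← h1, h2]
    exact mem_Wv_self A _
  have h4 : v ∈ Wv A w := by
    have := sub_mem h3 (mem_Wv_self A w)
    rwa [add_sub_cancel_right] at this
  have h5 : Wv A v = Wv A w := Wv_eq_of_mem hreg A hw0 hv h4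
  apply hw
  rw [h5]
  exact mem_Wv_self A w

theorem noZeroDivisors_algA (A : Subgroup H) [A.Normal] (hAc : ∀ a b : A, a * b = b * a)
    {v : V} (hv : v ≠ 0) : NoZeroDivisors (algA A) := by
  refine ⟨fun {x y} hxy => ?_⟩
  by_cases hy : y = 0
  · exact Or.inr hy
  left
  have hyv : (y : Module.End (ZMod p) V) v ≠ 0 := by
    intro h
    apply hy
    apply Subtype.ext
    exact eq_zero_of_apply_eq_zero hreg A hAc y.2 hv h
  have h1 : ((x * y : algA A) : Module.End (ZMod p) V) = 0 := by rw [hxy]; rfl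
  have h2 : (x : Module.End (ZMod p) V) ((y : Module.End (ZMod p) V) v) = 0 := by
    have := congrArg (fun f : Module.End (ZMod p) V => f v) h1
    simpa using this
  apply Subtype.ext
  exact eq_zero_of_apply_eq_zero hreg A hAc x.2 hyv h2

omit [Finite V] hreg in
theorem nontrivial_algA (A : Subgroup H) {v : V} (hv : v ≠ 0) : Nontrivial (algA A) := by
  refine ⟨⟨0, 1, ?_⟩⟩
  intro h
  have h1 : ((0 : algA A) : Module.End (ZMod p) V) = ((1 : algA A) : Module.End (ZMod p) V) :=
    congrArg Subtype.val h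
  have := congrArg (fun f : Module.End (ZMod p) V => f v) h1
  simp at this
  exact hv this.symm

/-- evaluation at `v`, as a linear map `F_p[A] → W_v` -/
def evalAt (A : Subgroup H) (v : V) : algA A →ₗ[ZMod p] Wv A v where
  toFun x := ⟨(x : Module.End (ZMod p) V) v, apply_mem_Wv A x.2 v⟩
  map_add' x y := by
    apply Subtype.ext
    simp
  map_smul' c x := by
    apply Subtype.ext
    simp

theorem evalAt_injective (A : Subgroup H) [A.Normal] (hAc : ∀ a b : A, a * b = b * a)
    {v : V} (hv : v ≠ 0) : Function.Injective (evalAt A v) := by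
  rw [← LinearMap.ker_eq_bot, LinearMap.ker_eq_bot']
  intro x hx
  apply Subtype.ext
  exact eq_zero_of_apply_eq_zero hreg A hAc x.2 hv (congrArg Subtype.val hx)

omit [Finite V] hreg in
/-- conjugation by `h` as an algebra automorphism of `End V`, applied to `toEnd` -/
theorem toEnd_conj (h a : H) :
    toEnd H (h * a * h⁻¹) =
      LinearEquiv.conjAlgEquiv (ZMod p) (h : V ≃ₗ[ZMod p] V) (toEnd H a) := by
  apply LinearMap.ext
  intro u
  rw [LinearEquiv.conjAlgEquiv_apply]
  rfl

/-- the number of `H`-conjugates of a normal abelian subgroup's generator is at most the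
dimension of an orbit span -/
theorem index_centralizer_le (A : Subgroup H) [hAn : A.Normal] (hAc : ∀ a b : A, a * b = b * a)
    {v : V} (hv : v ≠ 0) :
    (Subgroup.centralizer (A : Set H)).index ≤ Module.finrank (ZMod p) (Wv A v) := by
  classical
  haveI : Finite (V ≃ₗ[ZMod p] V) := Finite.of_injective (fun f => (f : V → V)) DFunLike.coe_injective
  haveI : Finite (Module.End (ZMod p) V) :=
    Finite.of_injective (fun f => (f : V → V)) DFunLike.coe_injective
  haveI hcyc : IsCyclic A := isCyclic_of_regular hreg A hAc hv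
  obtain ⟨a₀, ha₀⟩ := IsCyclic.exists_generator (α := A)
  haveI := isMulCommutative_algA A hAc
  haveI := noZeroDivisors_algA hreg A hAc hv
  haveI := nontrivial_algA A hv
  haveI : IsDomain (algA A) := NoZeroDivisors.to_isDomain _
  haveI : Module.Finite (ZMod p) (algA A) := Module.Finite.of_finite
  -- the generator and its minimal polynomial
  obtain ⟨r₀, hr₀⟩ : ∃ r₀ : algA A, r₀ = ⟨toEnd H a₀, toEnd_mem_algA A a₀⟩ := ⟨_, rfl⟩
  obtain ⟨q, hq⟩ : ∃ q : Polynomial (ZMod p), q = minpoly (ZMod p) r₀ := ⟨_, rfl⟩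
  have hq0 : q ≠ 0 := by
    rw [hq]
    exact minpoly.ne_zero (Algebra.IsIntegral.isIntegral r₀)
  have hdeg : q.natDegree ≤ Module.finrank (ZMod p) (algA A) := by
    rw [hq]
    exact minpoly.natDegree_le r₀
  have hrank : Module.finrank (ZMod p) (algA A) ≤ Module.finrank (ZMod p) (Wv A v) :=
    LinearMap.finrank_le_finrank_of_injective (evalAt_injective hreg A hAc hv)
  -- the conjugation homomorphism
  let φ : H →* MulAut A := MulAut.conjNormal
  have hker : φ.ker = Subgroup.centralizer (A : Set H) := by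
    ext g
    rw [MonoidHom.mem_ker, Subgroup.mem_centralizer_iff]
    constructor
    · intro hg a ha
      have h1 := congrArg (fun ψ : MulAut A => ((ψ ⟨a, ha⟩ : A) : H)) hg
      simp only [φ, MulAut.conjNormal_apply, MulAut.one_apply] at h1
      exact (mul_inv_eq_iff_eq_mul.mp h1).symm
    · intro hg
      apply MulEquiv.ext
      intro a
      apply Subtype.ext
      rw [MulAut.conjNormal_apply, MulAut.one_apply, ← hg a a.2]
      group
  rw [← hker, Subgroup.index_ker]
  -- every conjugate of the generator is a root of `q`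
  have hroot : ∀ θ : φ.range, ∃ x : algA A, (x : Module.End (ZMod p) V) = toEnd H (((θ : MulAut A) a₀ : A) : H)
      ∧ x ∈ q.rootSet (algA A) := by
    rintro ⟨θ, h, rfl⟩
    refine ⟨⟨toEnd H ((φ h a₀ : A) : H), toEnd_mem_algA A _⟩, rfl, ?_⟩
    rw [Polynomial.mem_rootSet]
    refine ⟨hq0, ?_⟩
    apply Subtype.ext
    rw [Polynomial.aeval_subalgebra_coe]
    show Polynomial.aeval (toEnd H ((φ h a₀ : A) : H)) q = 0
    have h1 : ((φ h a₀ : A) : H) = h * a₀ * h⁻¹ := MulAut.conjNormal_apply h a₀
    rw [h1, toEnd_conj, Polynomial.aeval_algHom_apply]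
    have h2 : Polynomial.aeval (toEnd H a₀) q = 0 := by
      have h3 : Polynomial.aeval r₀ q = 0 := by rw [hq]; exact minpoly.aeval _ _
      have h4 := congrArg (Subtype.val) h3
      rw [Polynomial.aeval_subalgebra_coe, hr₀] at h4
      exact h4
    rw [h2, map_zero]
  choose g hg1 hg2 using hroot
  have hginj : Function.Injective g := by
    intro θ θ' hθ
    have h1 : toEnd H (((θ : MulAut A) a₀ : A) : H) = toEnd H (((θ' : MulAut A) a₀ : A) : H) := by
      rw [← hg1, ← hg1, hθ]
    have h2 : (θ : MulAut A) a₀ = (θ' : MulAut A) a₀ := Subtype.ext (toEnd_injective h1)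
    apply Subtype.ext
    apply MulEquiv.ext
    intro a
    obtain ⟨k, rfl⟩ := Subgroup.mem_zpowers_iff.mp (ha₀ a)
    rw [map_zpow, map_zpow, h2]
  calc Nat.card φ.range ≤ Nat.card (q.rootSet (algA A)) :=
        Nat.card_le_card_of_injective (fun θ => ⟨g θ, hg2 θ⟩) (fun θ θ' h => hginj (congrArg Subtype.val h))
    _ ≤ q.natDegree := by
        rw [Nat.card_coe_set_eq]
        exact Polynomial.ncard_rootSet_le _ _
    _ ≤ _ := hdeg.trans hrank

omit [Finite V] in
theorem eq_one_of_smul_eq {h : H} {u : V} (hu : u ≠ 0) (hfix : h • u = u) : h = 1 :=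
  smul_left_inj' hreg hu (hfix.trans (one_smul H u).symm)

/-- `A` acts freely on the nonzero vectors of an orbit span -/
theorem card_dvd_card_Wv_sub_one (A : Subgroup H) {v : V} :
    Nat.card A ∣ Nat.card (Wv A v) - 1 := by
  classical
  let T : Set V := (Wv A v : Set V) \ {0}
  have hT : ∀ a : ↥A, ∀ s ∈ T, a • s ∈ T := by
    intro a s hs
    refine ⟨Wv_invariant A v a hs.1, ?_⟩
    intro h0
    exact smul_ne_zero' (fun h => hs.2 h) (a : H) h0
  have horb : ∀ s ∈ T, (MulAction.orbit ↥A s).ncard = Nat.card ↥A := by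
    intro s hs
    rw [← MulAction.index_stabilizer]
    have : MulAction.stabilizer ↥A s = ⊥ := by
      rw [eq_bot_iff]
      intro a ha
      rw [MulAction.mem_stabilizer_iff] at ha
      have h2 : s ≠ 0 := fun h => hs.2 h
      have := eq_one_of_smul_eq hreg (h := (a : H)) h2 ha
      rw [Subgroup.mem_bot]
      exact Subtype.ext this
    rw [this, Subgroup.index_bot]
  have hdvd := Cfsg.Agent.Lib.Helper5.dvd_ncard_of_orbit_ncard_eq (H := ↥A) T hT _ horb
  have hTcard : T.ncard = Nat.card (Wv A v) - 1 := by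
    rw [Set.ncard_sdiff (by simp), Set.ncard_singleton]
    rfl
  rw [← hTcard]
  exact hdvd

/-- the order of a normal Z-subgroup `N` of `H`, when no cyclic normal subgroup of `H` is
irreducible: `|N| = g * a` with `g ≤ d`, `a ∣ p^d - 1`, `p^d * p^d ≤ |V|` -/
theorem card_zgroup_bound
    (hI : ∀ A : Subgroup H, A.Normal → IsCyclic A → ∃ W : Submodule (ZMod p) V, W ≠ ⊥ ∧ W ≠ ⊤ ∧
      ∀ a ∈ A, ∀ v ∈ W, ((a : H) : V ≃ₗ[ZMod p] V) v ∈ W)
    (N : Subgroup H) [N.Normal] [IsZGroup N] :
    ∃ d g a : ℕ, 1 ≤ d ∧ 1 ≤ g ∧ g ≤ d ∧ a ∣ p ^ d - 1 ∧ Nat.card N = g * a ∧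
      p ^ d * p ^ d ≤ Nat.card V := by
  haveI : Finite (V ≃ₗ[ZMod p] V) := Finite.of_injective (fun f => (f : V → V)) DFunLike.coe_injective
  obtain ⟨A, hAn, hAc, hAN, hAself⟩ := ZGroupSelfCent.exists_self_centralizing N
  haveI := hAn
  have hAc' : ∀ a b : A, a * b = b * a := fun a b => Subtype.ext (hAc a a.2 b b.2)
  obtain ⟨W₁, hW₁, -, -⟩ := hI ⊥ inferInstance inferInstance
  obtain ⟨v₀, -, hv₀⟩ := Submodule.exists_mem_ne_zero_of_ne_bot hW₁
  haveI hcyc : IsCyclic A := isCyclic_of_regular hreg A hAc' hv₀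
  obtain ⟨W₀, hW₀b, hW₀t, hW₀i⟩ := hI A hAn hcyc
  obtain ⟨v, hvW, hv⟩ := Submodule.exists_mem_ne_zero_of_ne_bot hW₀b
  obtain ⟨w, hw⟩ : ∃ w : V, w ∉ W₀ := by
    by_contra hcon
    push Not at hcon
    exact hW₀t (eq_top_iff.mpr fun x _ => hcon x)
  have hle : Wv A v ≤ W₀ := Wv_le A (fun a x hx => hW₀i a a.2 x hx) hvW
  have hw' : w ∉ Wv A v := fun h => hw (hle h)
  have hQ : Nat.card (Wv A v) = p ^ Module.finrank (ZMod p) (Wv A v) := by
    rw [Module.natCard_eq_pow_finrank (K := ZMod p), Nat.card_zmod]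
  have hsq := card_sq_le hreg A hv hw'
  have hdvd := card_dvd_card_Wv_sub_one hreg A (v := v)
  have hidx := index_centralizer_le hreg A hAc' hv
  obtain ⟨C, hC⟩ : ∃ C : Subgroup H, C = Subgroup.centralizer (A : Set H) := ⟨_, rfl⟩
  haveI : C.Normal := by rw [hC]; infer_instance
  have hAC : A ≤ C := by
    intro a ha
    rw [hC, Subgroup.mem_centralizer_iff]
    intro b hb
    exact hAc b hb a ha
  have hinf : C ⊓ N = A := by
    apply le_antisymm
    · rw [inf_comm, hC]; exact hAself
    · exact le_inf hAC hAN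
  have hrel : A.relIndex N = C.relIndex N := by rw [← hinf, Subgroup.inf_relIndex_right]
  have hcard : Nat.card A * A.relIndex N = Nat.card N := by
    have := Subgroup.relIndex_mul_relIndex (⊥ : Subgroup H) A N bot_le hAN
    rwa [Subgroup.relIndex_bot_left, Subgroup.relIndex_bot_left] at this
  have hg0 : A.relIndex N ≠ 0 := by
    intro h0
    rw [h0, mul_zero] at hcard
    exact Nat.card_pos.ne' hcard.symm
  have hgle : A.relIndex N ≤ Module.finrank (ZMod p) (Wv A v) := by
    rw [hrel]
    refine le_trans (Nat.le_of_dvd ?_ (Subgroup.relIndex_dvd_index_of_normal C N)) (hC ▸ hidx)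
    exact Nat.pos_of_ne_zero Subgroup.index_ne_zero_of_finite
  refine ⟨Module.finrank (ZMod p) (Wv A v), A.relIndex N, Nat.card A, ?_, Nat.pos_of_ne_zero hg0, hgle,
    hQ ▸ hdvd, by rw [← hcard, mul_comm], hQ ▸ hsq⟩
  exact le_trans (Nat.pos_of_ne_zero hg0) hgle

end reg

end Cfsg.Agent.Lib.Helper17.RegLinField
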