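import Mathlib
import Cfsg.Agent.Lib.Helper29.RegLin
import Cfsg.Agent.Lib.Helper17.RegLinField

/-!
helper17: in a linear group over the prime field that is regular on the nonzero vectors, a
reducible normal subgroup is abelian (its enveloping algebra is a finite domain, hence a field by
Wedderburn); and the centralizer of an irreducible subgroup is abelian (Schur + Wedderburn).
-/

set_option autoImplicit false
set_option linter.style.haveILetI false

namespace Cfsg.Agent.Lib.Helper17.RegLinIrr

open Cfsg.Agent.Lib.Helper29.RegLin Cfsg.Agent.Lib.Helper17.RegLinField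

variable {p : ℕ} [Fact p.Prime] {V : Type*} [AddCommGroup V] [Module (ZMod p) V]
variable {H : Subgroup (V ≃ₗ[ZMod p] V)}

section reg

variable [Finite V] (hreg : ∀ v w : V, v ≠ 0 → w ≠ 0 → ∃! h : H, h • v = w)
include hreg

/-- if `x ∈ F_p[N]` kills `u ≠ 0`, it kills everything outside the orbit span of `u` -/
theorem apply_eq_zero_of_notMem (N : Subgroup H) [N.Normal] {x : Module.End (ZMod p) V}
    (hx : x ∈ algA N) {u : V} (hu : u ≠ 0) (hxu : x u = 0) {w : V} (hw : w ∉ Wv N u) : x w = 0 := by
  by_contra hxw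
  have hw0 : w ≠ 0 := by
    rintro rfl
    exact hw (zero_mem _)
  have ht0 : u + w ≠ 0 := by
    intro h
    apply hw
    have : w = -u := by
      rw [eq_neg_iff_add_eq_zero, add_comm]; exact h
    rw [this]
    exact neg_mem (mem_Wv_self N u)
  have hxt : x (u + w) = x w := by rw [map_add, hxu, zero_add]
  have h1 : Wv N (x w) = Wv N w := Wv_eq_of_mem hreg N hw0 hxw (apply_mem_Wv N hx w)
  have h2 : Wv N (x w) = Wv N (u + w) :=
    Wv_eq_of_mem hreg N ht0 hxw (hxt ▸ apply_mem_Wv N hx (u + w))
  have h3 : u + w ∈ Wv N w := by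
    rw [← h1, h2]
    exact mem_Wv_self N _
  have h4 : u ∈ Wv N w := by
    have := sub_mem h3 (mem_Wv_self N w)
    rwa [add_sub_cancel_right] at this
  have h5 : Wv N u = Wv N w := Wv_eq_of_mem hreg N hw0 hu h4
  apply hw
  rw [h5]
  exact mem_Wv_self N w

/-- for a reducible normal subgroup, `F_p[N]` acts freely -/
theorem eq_zero_of_apply_eq_zero_of_reducible (N : Subgroup H) [N.Normal] {v w : V} (hv : v ≠ 0)
    (hw : w ∉ Wv N v) {x : Module.End (ZMod p) V} (hx : x ∈ algA N) {u : V} (hu : u ≠ 0)
    (hxu : x u = 0) : x = 0 := by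
  -- a vector outside the orbit span of `u`
  obtain ⟨w', hw'⟩ : ∃ w' : V, w' ∉ Wv N u := by
    by_contra hcon
    push Not at hcon
    have htop : Wv N u = ⊤ := eq_top_iff.mpr fun y _ => hcon y
    have hc := card_Wv_eq hreg N hu hv
    have hvtop : Wv N v = ⊤ := by
      apply submodule_eq_of_le_of_card_ge le_top
      rw [hc, htop]
    apply hw
    rw [hvtop]
    trivial
  have hw'0 : w' ≠ 0 := by
    rintro rfl
    exact hw' (zero_mem _)
  have hxw' : x w' = 0 := apply_eq_zero_of_notMem hreg N hx hu hxu hw'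
  apply LinearMap.ext
  intro y
  rw [LinearMap.zero_apply]
  by_cases hy : y ∈ Wv N u
  · by_cases hy0 : y = 0
    · rw [hy0, map_zero]
    · apply apply_eq_zero_of_notMem hreg N hx hw'0 hxw'
      intro hy'
      exact hy0 (Wv_disjoint hreg N hu hw' hy hy')
  · exact apply_eq_zero_of_notMem hreg N hx hu hxu hy

/-- a reducible normal subgroup is abelian -/
theorem comm_of_reducible (N : Subgroup H) [N.Normal] {v w : V} (hv : v ≠ 0)
    (hw : w ∉ Wv N v) : ∀ a ∈ N, ∀ b ∈ N, a * b = b * a := by
  haveI : Finite (Module.End (ZMod p) V) :=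
    Finite.of_injective (fun f => (f : V → V)) DFunLike.coe_injective
  haveI : NoZeroDivisors (algA N) := by
    refine ⟨fun {x y} hxy => ?_⟩
    by_cases hy : y = 0
    · exact Or.inr hy
    left
    have hyv : (y : Module.End (ZMod p) V) v ≠ 0 := by
      intro h
      apply hy
      apply Subtype.ext
      exact eq_zero_of_apply_eq_zero_of_reducible hreg N hv hw y.2 hv h
    have h1 : ((x * y : algA N) : Module.End (ZMod p) V) = 0 := by rw [hxy]; rfl
    have h2 : (x : Module.End (ZMod p) V) ((y : Module.End (ZMod p) V) v) = 0 := by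
      have := congrArg (fun f : Module.End (ZMod p) V => f v) h1
      simpa using this
    apply Subtype.ext
    exact eq_zero_of_apply_eq_zero_of_reducible hreg N hv hw x.2 hyv h2
  haveI := nontrivial_algA N hv
  haveI : IsDomain (algA N) := NoZeroDivisors.to_isDomain _
  have hfield : IsField (algA N) := Finite.isDomain_to_isField _
  intro a ha b hb
  have h1 := hfield.mul_comm ⟨toEnd H a, toEnd_mem_algA N ⟨a, ha⟩⟩ ⟨toEnd H b, toEnd_mem_algA N ⟨b, hb⟩⟩
  have h2 : toEnd H a * toEnd H b = toEnd H b * toEnd H a := congrArg Subtype.val h1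
  rw [← map_mul, ← map_mul] at h2
  exact toEnd_injective h2

end reg

/-- the centralizer of an irreducible subgroup is abelian -/
theorem comm_centralizer_of_irreducible [Finite V] (N : Subgroup H) {v₀ : V} (hv₀ : v₀ ≠ 0)
    (hirr : ∀ W : Submodule (ZMod p) V,
      (∀ n ∈ N, ∀ v ∈ W, ((n : H) : V ≃ₗ[ZMod p] V) v ∈ W) → W = ⊥ ∨ W = ⊤) :
    ∀ a ∈ Subgroup.centralizer (N : Set H), ∀ b ∈ Subgroup.centralizer (N : Set H), a * b = b * a := by
  haveI : Finite (Module.End (ZMod p) V) :=
    Finite.of_injective (fun f => (f : V → V)) DFunLike.coe_injective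
  obtain ⟨Δ, hΔ⟩ : ∃ Δ : Subalgebra (ZMod p) (Module.End (ZMod p) V),
      Δ = Subalgebra.centralizer (ZMod p) (Set.range fun n : N => toEnd H n) := ⟨_, rfl⟩
  have hmem : ∀ x : Module.End (ZMod p) V, x ∈ Δ ↔ ∀ n : N, toEnd H n * x = x * toEnd H n := by
    intro x
    rw [hΔ, Subalgebra.mem_centralizer_iff]
    constructor
    · intro h n
      exact h _ ⟨n, rfl⟩
    · rintro h _ ⟨n, rfl⟩
      exact h n
  haveI : Nontrivial Δ := by
    refine ⟨⟨0, 1, ?_⟩⟩
    intro h
    have h1 : ((0 : Δ) : Module.End (ZMod p) V) = ((1 : Δ) : Module.End (ZMod p) V) :=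
      congrArg Subtype.val h
    have := congrArg (fun f : Module.End (ZMod p) V => f v₀) h1
    simp at this
    exact hv₀ this.symm
  haveI : NoZeroDivisors Δ := by
    refine ⟨fun {x y} hxy => ?_⟩
    by_cases hy : y = 0
    · exact Or.inr hy
    left
    have hU : ∀ n ∈ N, ∀ u ∈ LinearMap.range (y : Module.End (ZMod p) V),
        ((n : H) : V ≃ₗ[ZMod p] V) u ∈ LinearMap.range (y : Module.End (ZMod p) V) := by
      rintro n hn _ ⟨u, rfl⟩
      refine ⟨((n : H) : V ≃ₗ[ZMod p] V) u, ?_⟩
      have h1 := (hmem _).mp y.2 ⟨n, hn⟩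
      have h2 := congrArg (fun f : Module.End (ZMod p) V => f u) h1
      exact h2.symm
    rcases hirr _ hU with h | h
    · exfalso
      apply hy
      apply Subtype.ext
      rw [LinearMap.range_eq_bot] at h
      simpa using h
    · apply Subtype.ext
      apply LinearMap.ext
      intro u
      have hu : u ∈ LinearMap.range (y : Module.End (ZMod p) V) := by rw [h]; trivial
      obtain ⟨u', rfl⟩ := hu
      have h1 : ((x * y : Δ) : Module.End (ZMod p) V) = 0 := by rw [hxy]; rfl
      have := congrArg (fun f : Module.End (ZMod p) V => f u') h1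
      simpa using this
  haveI : IsDomain Δ := NoZeroDivisors.to_isDomain _
  have hfield : IsField Δ := Finite.isDomain_to_isField _
  have hin : ∀ a ∈ Subgroup.centralizer (N : Set H), toEnd H a ∈ Δ := by
    intro a ha
    rw [hmem]
    intro n
    rw [← map_mul, ← map_mul]
    congr 1
    rw [Subgroup.mem_centralizer_iff] at ha
    exact ha n n.2
  intro a ha b hb
  have h1 := hfield.mul_comm ⟨toEnd H a, hin a ha⟩ ⟨toEnd H b, hin b hb⟩
  have h2 : toEnd H a * toEnd H b = toEnd H b * toEnd H a := congrArg Subtype.val h1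
  rw [← map_mul, ← map_mul] at h2
  exact toEnd_injective h2

end Cfsg.Agent.Lib.Helper17.RegLinIrr
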