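import Mathlib
import Cfsg.Agent.Lib.Helper29.RegLin
import Cfsg.Agent.Lib.Helper9.FpfUnique
import Cfsg.Agent.Lib.Helper18.PowerMap

/-!
helper17: a linear group over the prime field that is regular on the nonzero vectors has cyclic
odd Sylow subgroups and at most one involution.
-/

set_option autoImplicit false
set_option linter.style.haveILetI false

namespace Cfsg.Agent.Lib.Helper17.RegLinSylow

open Cfsg.Agent.Lib.Helper29.RegLin

/-- a distributive action on an additive group, as a multiplicative-distributive action -/
@[reducible] def mulDistribOfDistrib (B M : Type*) [Monoid B] [AddMonoid M] [DistribMulAction B M] :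
    MulDistribMulAction B (Multiplicative M) where
  smul b v := Multiplicative.ofAdd (b • Multiplicative.toAdd v)
  one_smul v := by
    show Multiplicative.ofAdd ((1 : B) • Multiplicative.toAdd v) = v
    rw [one_smul]; rfl
  mul_smul a b v := by
    show Multiplicative.ofAdd ((a * b) • Multiplicative.toAdd v) =
      Multiplicative.ofAdd (a • (b • Multiplicative.toAdd v))
    rw [mul_smul]
  smul_mul a v w := by
    show Multiplicative.ofAdd (a • (Multiplicative.toAdd v + Multiplicative.toAdd w)) =
      Multiplicative.ofAdd (a • Multiplicative.toAdd v) * Multiplicative.ofAdd (a • Multiplicative.toAdd w)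
    rw [smul_add]; rfl
  smul_one a := by
    show Multiplicative.ofAdd (a • (0 : M)) = 1
    rw [smul_zero]; rfl

variable {p : ℕ} [Fact p.Prime] {V : Type*} [AddCommGroup V] [Module (ZMod p) V]
variable {H : Subgroup (V ≃ₗ[ZMod p] V)}

section reg

variable (hreg : ∀ v w : V, v ≠ 0 → w ≠ 0 → ∃! h : H, h • v = w)
include hreg

theorem eq_one_of_smul_eq' {h : H} {u : V} (hu : u ≠ 0) (hfix : h • u = u) : h = 1 :=
  smul_left_inj' hreg hu (hfix.trans (one_smul H u).symm)

/-- odd Sylow subgroups are cyclic -/
theorem isCyclic_sylow_of_regular [Finite V] {v₀ : V} (hv₀ : v₀ ≠ 0) (q : ℕ) [hq : Fact q.Prime]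
    (hq2 : q ≠ 2) (P : Sylow q H) : IsCyclic (P : Subgroup H) := by
  haveI : Finite (V ≃ₗ[ZMod p] V) := Finite.of_injective (fun f => (f : V → V)) DFunLike.coe_injective
  by_contra hnc
  obtain ⟨a, b, hab, ha, hb, hb1, hnot⟩ :=
    Cfsg.Agent.Lib.Helper18.exists_rank_two_of_not_cyclic q hq2 (Nat.card (P : Subgroup H))
      (P : Subgroup H) P.isPGroup' le_rfl hnc
  letI := mulDistribOfDistrib (P : Subgroup H) V
  have hf : Cfsg.Agent.Lib.Helper9.IsFpfAction (P : Subgroup H) (Multiplicative V) := by
    intro c hc v hv
    by_contra hv1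
    apply hc
    have h1 : ((c : H)) • (Multiplicative.toAdd v) = Multiplicative.toAdd v :=
      congrArg Multiplicative.toAdd hv
    have h2 : Multiplicative.toAdd v ≠ 0 := fun h => hv1 (by
      have : Multiplicative.ofAdd (Multiplicative.toAdd v) = Multiplicative.ofAdd 0 := by rw [h]
      simpa using this)
    have := eq_one_of_smul_eq' hreg h2 h1
    exact Subtype.ext this
  haveI : Nontrivial (Multiplicative V) := ⟨⟨Multiplicative.ofAdd v₀, 1, fun h => hv₀ (by
    have := congrArg Multiplicative.toAdd h
    simpa using this)⟩⟩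
  have ha1 : a ≠ 1 := by
    rintro rfl
    exact hnot (one_mem _)
  have hoa : orderOf a = q := orderOf_eq_prime ha ha1
  have hob : orderOf b = q := orderOf_eq_prime hb hb1
  exact hnot (hf.mem_zpowers_of_commute hq.out hoa hob hab)

/-- an involution acts as `-1` -/
theorem involution_smul {s : H} (hs : orderOf s = 2) (v : V) : s • v = -v := by
  have hs2 : s * s = 1 := by
    have := pow_orderOf_eq_one s
    rwa [hs, pow_two] at this
  have hs1 : s ≠ 1 := by
    intro h
    rw [h, orderOf_one] at hs
    omega
  by_contra hne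
  have hu : s • v + v ≠ 0 := by
    intro h
    apply hne
    exact eq_neg_of_add_eq_zero_left h
  have hfix : s • (s • v + v) = s • v + v := by
    rw [smul_add, ← mul_smul, hs2, one_smul, add_comm]
  exact hs1 (eq_one_of_smul_eq' hreg hu hfix)

/-- at most one involution -/
theorem involution_unique {v₀ : V} (hv₀ : v₀ ≠ 0) (s t : H) (hs : orderOf s = 2)
    (ht : orderOf t = 2) : s = t := by
  apply smul_left_inj' hreg hv₀
  rw [involution_smul hreg hs, involution_smul hreg ht]

end reg

end Cfsg.Agent.Lib.Helper17.RegLinSylow
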