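import Mathlib
import Cfsg.Agent.Lib.Helper29.RegLin
import Cfsg.Agent.Lib.Helper17.RegLinSylow

/-!
helper17: a linear group regular on the nonzero vectors of a space with `9` elements has an
irreducible cyclic normal subgroup.
-/

set_option autoImplicit false
set_option linter.style.haveILetI false

namespace Cfsg.Agent.Lib.Helper17.RegLinNine

open Cfsg.Agent.Lib.Helper29.RegLin Cfsg.Agent.Lib.Helper17.RegLinSylow

theorem zmod3_three : (3 : ZMod 3) = 0 := by decide

theorem zmod3_three' : (3 : ZMod 3) = 1 + 1 + 1 := by decide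

theorem zmod3_sq : ∀ c : ZMod 3, c * c = 1 ∨ c = 0 := by decide

variable {p : ℕ} [Fact p.Prime] {V : Type*} [AddCommGroup V] [Module (ZMod p) V]
variable {H : Subgroup (V ≃ₗ[ZMod p] V)}

theorem not_card_nine [Finite V] (hreg : ∀ v w : V, v ≠ 0 → w ≠ 0 → ∃! h : H, h • v = w)
    (hI : ∀ A : Subgroup H, A.Normal → IsCyclic A → ∃ W : Submodule (ZMod p) V, W ≠ ⊥ ∧ W ≠ ⊤ ∧
      ∀ a ∈ A, ∀ v ∈ W, ((a : H) : V ≃ₗ[ZMod p] V) v ∈ W)
    (h9 : Nat.card V = 9) : False := by
  classical
  haveI : Finite (V ≃ₗ[ZMod p] V) := Finite.of_injective (fun f => (f : V → V)) DFunLike.coe_injective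
  have hcardV : Nat.card V = p ^ Module.finrank (ZMod p) V := by
    rw [Module.natCard_eq_pow_finrank (K := ZMod p), Nat.card_zmod]
  have hpp : p.Prime := Fact.out
  -- `p = 3`
  have hp3 : p = 3 := by
    have h1 : p ∣ 3 ^ 2 := by
      have h2 : (3 : ℕ) ^ 2 = p ^ Module.finrank (ZMod p) V := by rw [← hcardV, h9]; norm_num
      rw [h2]
      apply dvd_pow_self
      intro h0
      rw [h0, pow_zero] at h2
      norm_num at h2
    have h3 := hpp.dvd_of_dvd_pow h1
    exact (Nat.prime_dvd_prime_iff_eq hpp Nat.prime_three).mp h3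
  subst hp3
  have hfr : Module.finrank (ZMod 3) V = 2 := by
    have h2 : (3 : ℕ) ^ Module.finrank (ZMod 3) V = 3 ^ 2 := by rw [← hcardV, h9]; norm_num
    exact Nat.pow_right_injective (by norm_num : 2 ≤ 3) h2
  -- a nonzero vector
  obtain ⟨W₁, hW₁, -, -⟩ := hI ⊥ inferInstance inferInstance
  obtain ⟨v₀, -, hv₀⟩ := Submodule.exists_mem_ne_zero_of_ne_bot hW₁
  have hH8 : Nat.card H = 8 := by
    have := card_H_add_one hreg hv₀
    omega
  have hneg : ∀ u : V, u ≠ 0 → -u ≠ u := by
    intro u hu h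
    apply hu
    have h3 : (3 : ZMod 3) • u = 0 := by
      have : (3 : ZMod 3) = 0 := zmod3_three
      rw [this, zero_smul]
    have h4 : (3 : ZMod 3) • u = u + u + u := by
      have : (3 : ZMod 3) = 1 + 1 + 1 := zmod3_three'
      rw [this, add_smul, add_smul, one_smul]
    have h5 : u + u = 0 := by
      nth_rewrite 1 [← h]
      exact neg_add_cancel u
    rw [h4, h5, zero_add] at h3
    exact h3
  -- the involution
  obtain ⟨z, hz, -⟩ := hreg v₀ (-v₀) hv₀ (neg_ne_zero.mpr hv₀)
  have hz1 : z ≠ 1 := by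
    intro h
    rw [h, one_smul] at hz
    exact hneg v₀ hv₀ hz.symm
  have hz2 : z * z = 1 := by
    apply smul_left_inj' hreg hv₀
    rw [mul_smul, hz, smul_neg, hz, neg_neg, one_smul]
  have hzo : orderOf z = 2 := orderOf_eq_prime (by rw [pow_two]; exact hz2) hz1
  -- a third element
  obtain ⟨x, hx1, hxz⟩ : ∃ x : H, x ≠ 1 ∧ x ≠ z := by
    by_contra hcon
    push Not at hcon
    have hsub : (Set.univ : Set H) ⊆ {1, z} := by
      intro y _
      by_cases hy : y = 1
      · exact Or.inl hy
      · exact Or.inr (hcon y hy)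
    have h1 := Set.ncard_le_ncard hsub (Set.toFinite _)
    have h2 : ({1, z} : Set H).ncard ≤ 2 := by
      have := Set.ncard_insert_le (1 : H) {z}
      rw [Set.ncard_singleton] at this
      exact this
    rw [Set.ncard_univ, hH8] at h1
    omega
  have hxo2 : orderOf x ≠ 2 := fun h => hxz (involution_unique hreg hv₀ x z h hzo)
  have hxo1 : orderOf x ≠ 1 := fun h => hx1 (orderOf_eq_one_iff.mp h)
  have hxo8 : orderOf x ∣ 8 := hH8 ▸ orderOf_dvd_natCard x
  have hxsq : x * x ≠ 1 := by
    intro h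
    have h1 : orderOf x ∣ 2 := orderOf_dvd_of_pow_eq_one (by rw [pow_two]; exact h)
    have h2 : orderOf x ≤ 2 := Nat.le_of_dvd (by norm_num) h1
    have h3 : 0 < orderOf x := orderOf_pos x
    omega
  -- the cyclic normal subgroup
  obtain ⟨A, hA⟩ : ∃ A : Subgroup H, A = Subgroup.zpowers x := ⟨_, rfl⟩
  have hAcard : Nat.card A = orderOf x := by rw [hA, Nat.card_zpowers]
  have hAn : A.Normal := by
    have hidx : Nat.card A * A.index = 8 := by rw [Subgroup.card_mul_index, hH8]
    have h48 : orderOf x = 4 ∨ orderOf x = 8 := by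
      have h1 : orderOf x ≤ 8 := Nat.le_of_dvd (by norm_num) hxo8
      have h3 : 0 < orderOf x := orderOf_pos x
      interval_cases (orderOf x) <;> simp_all
    rcases h48 with h4 | h8
    · apply Subgroup.normal_of_index_eq_two
      rw [hAcard, h4] at hidx
      omega
    · have h1 : A.index = 1 := by
        rw [hAcard, h8] at hidx
        omega
      rw [Subgroup.index_eq_one] at h1
      rw [h1]
      infer_instance
  haveI : IsCyclic A := by rw [hA]; infer_instance
  obtain ⟨W, hWb, hWt, hWi⟩ := hI A hAn inferInstance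
  obtain ⟨w, hwW, hw⟩ := Submodule.exists_mem_ne_zero_of_ne_bot hWb
  -- `W` is a line
  have hW1 : Module.finrank (ZMod 3) W = 1 := by
    have h1 : Module.finrank (ZMod 3) W < Module.finrank (ZMod 3) V :=
      Submodule.finrank_lt hWt
    have h2 : 0 < Module.finrank (ZMod 3) W := by
      rw [Module.finrank_pos_iff]
      exact ⟨⟨⟨w, hwW⟩, 0, fun h => hw (congrArg Subtype.val h)⟩⟩
    omega
  have hxA : x ∈ A := by rw [hA]; exact Subgroup.mem_zpowers x
  have hxw : x • w ∈ W := hWi x hxA w hwW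
  have hw' : (⟨w, hwW⟩ : W) ≠ 0 := fun h => hw (congrArg Subtype.val h)
  obtain ⟨c, hc⟩ := (finrank_eq_one_iff_of_nonzero' (⟨w, hwW⟩ : W) hw').mp hW1 ⟨x • w, hxw⟩
  have hc' : c • w = x • w := congrArg Subtype.val hc
  have hxx : x • (x • w) = w := by
    rw [← hc', smul_comm, ← hc', smul_smul]
    have := zmod3_sq c
    rcases this with h | h
    · rw [h, one_smul]
    · exfalso
      rw [h, zero_smul] at hc'
      exact smul_ne_zero' hw x hc'.symm
  apply hxsq
  apply smul_left_inj' hreg hw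
  rw [mul_smul, hxx, one_smul]

end Cfsg.Agent.Lib.Helper17.RegLinNine
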