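import Mathlib
import Cfsg.Agent.Lib.Helper29.RegLin
import Cfsg.Agent.Lib.Helper17.RegLinField

/-!
helper17: a linear group over the prime field, regular on the nonzero vectors, with an irreducible
abelian normal subgroup `A`, is a group of semilinear maps `x ↦ a * σ x` of the field `F_p[A]`
(transported to a field living in `Type`).
-/

set_option autoImplicit false
set_option linter.style.haveILetI false

namespace Cfsg.Agent.Lib.Helper17.RegLinSemi

open Cfsg.Agent.Lib.Helper29.RegLin Cfsg.Agent.Lib.Helper17.RegLinField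
open scoped IsMulCommutative

universe u

/-- a finite commutative domain is isomorphic to a field living in `Type` -/
theorem exists_field_model {R : Type u} [CommRing R] [IsDomain R] [Finite R] :
    ∃ (F : Type) (_ : Field F) (_ : Fintype F), Nonempty (R ≃+* F) := by
  classical
  letI := Fintype.ofFinite R
  letI : Field R := Fintype.fieldOfDomain R
  obtain ⟨p, _, n, hp, hcard⟩ := FiniteField.card' R
  haveI : Fact p.Prime := ⟨hp⟩
  have hn : (n : ℕ) ≠ 0 := n.ne_zero
  haveI : Finite (GaloisField p n) := inferInstance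
  letI : Fintype (GaloisField p n) := Fintype.ofFinite _
  refine ⟨GaloisField p n, inferInstance, inferInstance, ⟨?_⟩⟩
  apply FiniteField.ringEquivOfCardEq
  rw [hcard, ← Nat.card_eq_fintype_card, GaloisField.card p n hn]

variable {p : ℕ} [Fact p.Prime] {V : Type*} [AddCommGroup V] [Module (ZMod p) V]
variable {H : Subgroup (V ≃ₗ[ZMod p] V)}

/-- conjugation by `h` preserves `F_p[A]` for normal `A` -/
theorem conj_mem_algA (A : Subgroup H) [hAn : A.Normal] (h : H) {x : Module.End (ZMod p) V}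
    (hx : x ∈ algA A) : toEnd H h * x * toEnd H h⁻¹ ∈ algA A := by
  have hinv : toEnd H h * toEnd H h⁻¹ = 1 := by rw [← map_mul, mul_inv_cancel, map_one]
  have hinv' : toEnd H h⁻¹ * toEnd H h = 1 := by rw [← map_mul, inv_mul_cancel, map_one]
  unfold algA at hx
  induction hx using Algebra.adjoin_induction with
  | mem x hx =>
    obtain ⟨a, rfl⟩ := hx
    have : toEnd H h * toEnd H (a : H) * toEnd H h⁻¹ = toEnd H (h * a * h⁻¹) := by
      rw [map_mul, map_mul]
    rw [this]
    exact toEnd_mem_algA A ⟨h * a * h⁻¹, hAn.conj_mem a a.2 h⟩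
  | algebraMap r =>
    have : toEnd H h * algebraMap (ZMod p) (Module.End (ZMod p) V) r * toEnd H h⁻¹ =
        algebraMap (ZMod p) (Module.End (ZMod p) V) r := by
      rw [← Algebra.commutes, mul_assoc, hinv, mul_one]
    rw [this]
    exact Subalgebra.algebraMap_mem _ r
  | add y z _ _ hy hz =>
    rw [mul_add, add_mul]
    exact add_mem hy hz
  | mul y z _ _ hy hz =>
    have : toEnd H h * (y * z) * toEnd H h⁻¹ =
        (toEnd H h * y * toEnd H h⁻¹) * (toEnd H h * z * toEnd H h⁻¹) := by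
      calc toEnd H h * (y * z) * toEnd H h⁻¹
          = toEnd H h * y * 1 * z * toEnd H h⁻¹ := by simp only [mul_one, mul_assoc]
        _ = toEnd H h * y * (toEnd H h⁻¹ * toEnd H h) * z * toEnd H h⁻¹ := by rw [hinv']
        _ = _ := by simp only [mul_assoc]
    rw [this]
    exact mul_mem hy hz

/-- conjugation by `h`, as a ring automorphism of `F_p[A]` -/
def conjRingEquiv (A : Subgroup H) [A.Normal] (h : H) : algA A ≃+* algA A where
  toFun x := ⟨toEnd H h * x * toEnd H h⁻¹, conj_mem_algA A h x.2⟩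
  invFun x := ⟨toEnd H h⁻¹ * x * toEnd H h, by
    have := conj_mem_algA A h⁻¹ x.2
    rwa [inv_inv] at this⟩
  left_inv x := by
    have hinv' : toEnd H h⁻¹ * toEnd H h = 1 := by rw [← map_mul, inv_mul_cancel, map_one]
    apply Subtype.ext
    show toEnd H h⁻¹ * (toEnd H h * x * toEnd H h⁻¹) * toEnd H h = x
    calc toEnd H h⁻¹ * (toEnd H h * x * toEnd H h⁻¹) * toEnd H h
        = (toEnd H h⁻¹ * toEnd H h) * x * (toEnd H h⁻¹ * toEnd H h) := by simp only [mul_assoc]
      _ = x := by rw [hinv', one_mul, mul_one]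
  right_inv x := by
    have hinv : toEnd H h * toEnd H h⁻¹ = 1 := by rw [← map_mul, mul_inv_cancel, map_one]
    apply Subtype.ext
    show toEnd H h * (toEnd H h⁻¹ * x * toEnd H h) * toEnd H h⁻¹ = x
    calc toEnd H h * (toEnd H h⁻¹ * x * toEnd H h) * toEnd H h⁻¹
        = (toEnd H h * toEnd H h⁻¹) * x * (toEnd H h * toEnd H h⁻¹) := by simp only [mul_assoc]
      _ = x := by rw [hinv, one_mul, mul_one]
  map_mul' x y := by
    have hinv' : toEnd H h⁻¹ * toEnd H h = 1 := by rw [← map_mul, inv_mul_cancel, map_one]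
    apply Subtype.ext
    show toEnd H h * ((x : Module.End (ZMod p) V) * y) * toEnd H h⁻¹ =
      (toEnd H h * x * toEnd H h⁻¹) * (toEnd H h * y * toEnd H h⁻¹)
    calc toEnd H h * ((x : Module.End (ZMod p) V) * y) * toEnd H h⁻¹
        = toEnd H h * x * 1 * y * toEnd H h⁻¹ := by simp only [mul_one, mul_assoc]
      _ = toEnd H h * x * (toEnd H h⁻¹ * toEnd H h) * y * toEnd H h⁻¹ := by rw [hinv']
      _ = _ := by simp only [mul_assoc]
  map_add' x y := by
    apply Subtype.ext
    show toEnd H h * ((x : Module.End (ZMod p) V) + y) * toEnd H h⁻¹ =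
      (toEnd H h * x * toEnd H h⁻¹) + (toEnd H h * y * toEnd H h⁻¹)
    rw [mul_add, add_mul]

theorem conjRingEquiv_coe (A : Subgroup H) [A.Normal] (h : H) (x : algA A) :
    ((conjRingEquiv A h x : algA A) : Module.End (ZMod p) V) = toEnd H h * x * toEnd H h⁻¹ := rfl

/-- evaluation at `v₀`, as a linear map `F_p[A] → V` -/
def evalV (A : Subgroup H) (v₀ : V) : algA A →ₗ[ZMod p] V where
  toFun x := (x : Module.End (ZMod p) V) v₀
  map_add' x y := by simp
  map_smul' c x := by simp

theorem evalV_apply (A : Subgroup H) (v₀ : V) (x : algA A) :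
    evalV A v₀ x = (x : Module.End (ZMod p) V) v₀ := rfl

/-- **Semilinear structure**: if the abelian normal subgroup `A` is irreducible (the orbit span of
`v₀` is everything), `V` is identified with a field on which `H` acts by `x ↦ a * σ x`. -/
theorem exists_semilinear [Finite V] (hreg : ∀ v w : V, v ≠ 0 → w ≠ 0 → ∃! h : H, h • v = w)
    (A : Subgroup H) [A.Normal] (hAc : ∀ a b : A, a * b = b * a) {v₀ : V} (hv₀ : v₀ ≠ 0)
    (htop : Wv A v₀ = ⊤) :
    ∃ (F : Type) (_ : Field F) (_ : Fintype F) (e : V ≃+ F), e v₀ = 1 ∧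
      ∀ h : H, ∃ (a : F) (σ : F ≃+* F), ∀ v : V, e (h • v) = a * σ (e v) := by
  haveI : Finite (Module.End (ZMod p) V) :=
    Finite.of_injective (fun f => (f : V → V)) DFunLike.coe_injective
  haveI := isMulCommutative_algA A hAc
  haveI := noZeroDivisors_algA hreg A hAc hv₀
  haveI := nontrivial_algA A hv₀
  haveI : IsDomain (algA A) := NoZeroDivisors.to_isDomain _
  obtain ⟨F, iF, iFt, ⟨ψ⟩⟩ := exists_field_model (R := algA A)
  have hinj : Function.Injective (evalV A v₀) := by
    rw [← LinearMap.ker_eq_bot, LinearMap.ker_eq_bot']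
    intro x hx
    apply Subtype.ext
    exact eq_zero_of_apply_eq_zero hreg A hAc x.2 hv₀ hx
  have hsurj : Function.Surjective (evalV A v₀) := by
    intro v
    have hle : Wv A v₀ ≤ LinearMap.range (evalV A v₀) := by
      apply Submodule.span_le.2
      rintro _ ⟨a, rfl⟩
      exact ⟨⟨toEnd H a, toEnd_mem_algA A a⟩, rfl⟩
    have : v ∈ Wv A v₀ := by rw [htop]; trivial
    exact hle this
  obtain ⟨E, hE⟩ : ∃ E : algA A ≃ₗ[ZMod p] V, ∀ x, E x = evalV A v₀ x :=
    ⟨LinearEquiv.ofBijective (evalV A v₀) ⟨hinj, hsurj⟩, fun x => rfl⟩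
  obtain ⟨e, he⟩ : ∃ e : V ≃+ F, ∀ v, e v = ψ (E.symm v) :=
    ⟨E.symm.toAddEquiv.trans ψ.toAddEquiv, fun v => rfl⟩
  refine ⟨F, iF, iFt, e, ?_, ?_⟩
  · rw [he]
    have : E.symm v₀ = 1 := by
      rw [LinearEquiv.symm_apply_eq, hE, evalV_apply]
      rfl
    rw [this, map_one]
  · intro h
    obtain ⟨aR, haR⟩ : ∃ aR : algA A, aR = E.symm (h • v₀) := ⟨_, rfl⟩
    refine ⟨ψ aR, ψ.symm.trans ((conjRingEquiv A h).trans ψ), ?_⟩
    intro v
    rw [he, he]
    show ψ (E.symm (h • v)) = ψ aR * ψ (conjRingEquiv A h (ψ.symm (ψ (E.symm v))))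
    rw [RingEquiv.symm_apply_apply, ← map_mul]
    congr 1
    rw [LinearEquiv.symm_apply_eq, hE, evalV_apply]
    obtain ⟨x, hx⟩ : ∃ x : algA A, x = E.symm v := ⟨_, rfl⟩
    rw [← hx]
    have hv : v = (x : Module.End (ZMod p) V) v₀ := by
      rw [← evalV_apply, ← hE, hx, LinearEquiv.apply_symm_apply]
    have haR' : (aR : Module.End (ZMod p) V) v₀ = h • v₀ := by
      rw [← evalV_apply, ← hE, haR, LinearEquiv.apply_symm_apply]
    have hcomm : aR * conjRingEquiv A h x = conjRingEquiv A h x * aR := mul_comm _ _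
    rw [hcomm]
    show h • v = ((conjRingEquiv A h x : algA A) : Module.End (ZMod p) V)
      ((aR : Module.End (ZMod p) V) v₀)
    rw [haR', conjRingEquiv_coe, hv]
    show toEnd H h ((x : Module.End (ZMod p) V) v₀) =
      toEnd H h ((x : Module.End (ZMod p) V) (toEnd H h⁻¹ (toEnd H h v₀)))
    have : toEnd H h⁻¹ (toEnd H h v₀) = v₀ := by
      rw [← Module.End.mul_apply, ← map_mul, inv_mul_cancel, map_one]
      rfl
    rw [this]

end Cfsg.Agent.Lib.Helper17.RegLinSemi
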