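/-
Helper lemmas (helper17): the core of Thompson's Replacement Theorem in a form that does not need the
abelian subgroup `B` to be normal nor to contain the conjugating element `x`; only the commutators `⁅x, a⁆`,
`a ∈ A`, have to lie in `B`.  Also records that the replacement lies in the normal closure of `A`.
-/
import Cfsg.Agent.Lib.Helper17.Replacement

set_option autoImplicit false

namespace Cfsg.Agent.Lib.Helper17

open scoped Pointwise commutatorElement

/-- Core of Thompson's Replacement Theorem: `A` abelian of largest order in the finite `p`-group `S`,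
`x ∈ N_S(N_S(A))` not normalizing `A`, and `B` an abelian subgroup containing all commutators `⁅x, a⁆`, `a ∈ A`.
Then there is an abelian subgroup `A'` of largest order with `A ∩ B < A' ∩ B`, `A' ≤ N_S(A)` and
`A'` inside the normal closure of `A`. -/
theorem replacement_core {S : Type*} [Group S] [Finite S]
    (A : Subgroup S) (hA : A ∈ Cfsg.maxAbelianSubgroups S)
    (B : Subgroup S) (hBc : IsMulCommutative B) (x : S)
    (hxT : x ∉ Subgroup.normalizer (A : Set S))
    (hxN : x ∈ Subgroup.normalizer ((Subgroup.normalizer (A : Set S) : Subgroup S) : Set S))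
    (hfB : ∀ a ∈ A, ⁅x, a⁆ ∈ B) :
    ∃ A' ∈ Cfsg.maxAbelianSubgroups S, A ⊓ B < A' ⊓ B ∧ A' ≤ Subgroup.normalizer (A : Set S) ∧
      A' ≤ Subgroup.normalClosure (A : Set S) := by
  have hAc : IsMulCommutative A := hA.1
  have hAcomm : ∀ u ∈ A, ∀ v ∈ A, u * v = v * u := fun u hu v hv =>
    congrArg Subtype.val (hAc.is_comm.comm ⟨u, hu⟩ ⟨v, hv⟩)
  have hBcomm : ∀ u ∈ B, ∀ v ∈ B, u * v = v * u := fun u hu v hv =>
    congrArg Subtype.val (hBc.is_comm.comm ⟨u, hu⟩ ⟨v, hv⟩)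
  set T := Subgroup.normalizer (A : Set S) with hT
  have hAT : A ≤ T := Subgroup.le_normalizer
  have hfT : ∀ a ∈ A, ⁅x, a⁆ ∈ T := by
    intro a ha
    have h1 : x * a * x⁻¹ ∈ T := conj_mem_of_mem_normalizer hxN (hAT ha)
    rw [commutatorElement_def]
    exact T.mul_mem h1 (T.inv_mem (hAT ha))
  have hF1 : ∀ a b : S, ⁅x, a * b⁆ = ⁅x, a⁆ * (a * ⁅x, b⁆ * a⁻¹) := by
    intro a b
    simp only [commutatorElement_def]; group
  -- Step 3: M = [x, A]
  set M := Subgroup.closure ((fun a => ⁅x, a⁆) '' (A : Set S)) with hM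
  have hfM : ∀ a ∈ A, ⁅x, a⁆ ∈ M := fun a ha => Subgroup.subset_closure ⟨a, ha, rfl⟩
  have hMB : M ≤ B := by
    rw [hM, Subgroup.closure_le]
    rintro _ ⟨a, ha, rfl⟩
    exact hfB a ha
  have hMT : M ≤ T := by
    rw [hM, Subgroup.closure_le]
    rintro _ ⟨a, ha, rfl⟩
    exact hfT a ha
  have hBcen : B ≤ Subgroup.centralizer (M : Set S) :=
    (Subgroup.le_centralizer_iff_isMulCommutative.2 hBc).trans (Subgroup.centralizer_le hMB)
  have hMc : IsMulCommutative M :=
    Subgroup.le_centralizer_iff_isMulCommutative.1 (hMB.trans hBcen)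
  have hMcomm : ∀ u ∈ M, ∀ v ∈ M, u * v = v * u := fun u hu v hv => hBcomm u (hMB hu) v (hMB hv)
  -- Step 4: the replacement A' = M C_A(M)
  set CA := A ⊓ Subgroup.centralizer (M : Set S) with hCA
  have hCAc : IsMulCommutative CA :=
    Subgroup.le_centralizer_iff_isMulCommutative.1
      (inf_le_left.trans ((Subgroup.le_centralizer_iff_isMulCommutative.2 hAc).trans
        (Subgroup.centralizer_le (fun y hy => hy.1))))
  have hA'c : IsMulCommutative ↥(M ⊔ CA) :=
    isMulCommutative_sup M CA hMc hCAc (Subgroup.le_centralizer_iff.1 inf_le_right)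
  -- Step 5: the homomorphism θ : A → M / (M ∩ A)
  have hnorm : (A.subgroupOf M).Normal := by
    refine ⟨fun n hn g => ?_⟩
    have : g * n * g⁻¹ = n := by
      apply Subtype.ext
      have := hMcomm g.1 g.2 n.1 n.2
      show (g : S) * n * (g : S)⁻¹ = n
      rw [this]; group
    rw [this]; exact hn
  let θ : ↥A →* ↥M ⧸ (A.subgroupOf M) := MonoidHom.mk'
    (fun a => QuotientGroup.mk (⟨⁅x, (a : S)⁆, hfM a.1 a.2⟩ : ↥M))
    (by
      intro a b
      rw [← QuotientGroup.mk_mul]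
      symm
      rw [QuotientGroup.eq, Subgroup.mem_subgroupOf]
      show (⁅x, (a : S)⁆ * ⁅x, (b : S)⁆)⁻¹ * ⁅x, (a : S) * (b : S)⁆ ∈ A
      rw [hF1]
      have h1 : (⁅x, (a : S)⁆ * ⁅x, (b : S)⁆)⁻¹ * (⁅x, (a : S)⁆ * ((a : S) * ⁅x, (b : S)⁆ * (a : S)⁻¹))
          = (⁅x, (b : S)⁆⁻¹ * (a : S) * ⁅x, (b : S)⁆) * (a : S)⁻¹ := by group
      rw [h1]
      exact A.mul_mem (conj_inv_mem_of_mem_normalizer (hfT b.1 b.2) a.2) (A.inv_mem a.2))
  have hθ : ∀ a : ↥A, θ a = QuotientGroup.mk (⟨⁅x, (a : S)⁆, hfM a.1 a.2⟩ : ↥M) := fun _ => rfl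
  -- kernel of θ lies in C_A(M)
  have hker : θ.ker ≤ CA.subgroupOf A := by
    intro a ha
    rw [MonoidHom.mem_ker, hθ, QuotientGroup.eq_one_iff, Subgroup.mem_subgroupOf] at ha
    have hfa : ⁅x, (a : S)⁆ ∈ A := ha
    rw [Subgroup.mem_subgroupOf]
    refine ⟨a.2, ?_⟩
    have hle : M ≤ Subgroup.centralizer ({(a : S)} : Set S) := by
      rw [hM, Subgroup.closure_le]
      rintro _ ⟨u, hu, rfl⟩
      rw [SetLike.mem_coe, Subgroup.mem_centralizer_singleton_iff]
      have e1 := hF1 (a : S) u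
      have e2 := hF1 u (a : S)
      have e3 : u * ⁅x, (a : S)⁆ * u⁻¹ = ⁅x, (a : S)⁆ := by
        rw [hAcomm u hu _ hfa]; group
      rw [hAcomm (a : S) a.2 u hu, e2, e3, hMcomm _ (hfM u hu) _ (hfM a.1 a.2)] at e1
      have e4 : ⁅x, u⁆ = (a : S) * ⁅x, u⁆ * (a : S)⁻¹ := mul_left_cancel e1
      calc ⁅x, u⁆ * (a : S) = ((a : S) * ⁅x, u⁆ * (a : S)⁻¹) * (a : S) := by rw [← e4]
        _ = (a : S) * ⁅x, u⁆ := by group
    show (a : S) ∈ Subgroup.centralizer (M : Set S)
    rw [Subgroup.mem_centralizer_iff]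
    intro m hm
    exact Subgroup.mem_centralizer_singleton_iff.1 (hle hm)
  -- Step 6: counting
  have hcard1 : Nat.card A ≤ Nat.card CA * A.relIndex M := by
    have h1 : Nat.card θ.ker * θ.ker.index = Nat.card ↥A := Subgroup.card_mul_index _
    have h2 : θ.ker.index = Nat.card θ.range := Subgroup.index_ker θ
    have h3 : Nat.card θ.range ≤ Nat.card (↥M ⧸ (A.subgroupOf M)) :=
      Nat.card_le_card_of_injective _ Subtype.val_injective
    have h4 : Nat.card (↥M ⧸ (A.subgroupOf M)) = A.relIndex M := rfl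
    have h5 : Nat.card θ.ker ≤ Nat.card ↥(CA.subgroupOf A) := Subgroup.card_le_of_le hker
    have h6 : Nat.card ↥(CA.subgroupOf A) = Nat.card CA :=
      Nat.card_congr (Subgroup.subgroupOfEquivOfLe (inf_le_left : CA ≤ A)).toEquiv
    rw [← h1, h2]
    exact Nat.mul_le_mul (h5.trans (le_of_eq h6)) (h3.trans (le_of_eq h4))
  have hcard2 : Nat.card M = A.relIndex M * Nat.card ↥(M ⊓ A) := card_eq_relIndex_mul_card_inf M A
  have hinf : M ⊓ CA = M ⊓ A := by
    rw [hCA, ← inf_assoc, inf_comm M A, inf_assoc,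
      inf_eq_left.2 (Subgroup.le_centralizer_iff_isMulCommutative.2 hMc), inf_comm]
  have hcard3 := card_mul_card_le_card_sup_mul_card_inf M CA
  rw [hinf] at hcard3
  have hcard4 : Nat.card A ≤ Nat.card ↥(M ⊔ CA) := by
    have hpos : 0 < Nat.card ↥(M ⊓ A) := Nat.card_pos
    have : Nat.card A * Nat.card ↥(M ⊓ A) ≤ Nat.card ↥(M ⊔ CA) * Nat.card ↥(M ⊓ A) := by
      calc Nat.card A * Nat.card ↥(M ⊓ A)
          ≤ (Nat.card CA * A.relIndex M) * Nat.card ↥(M ⊓ A) := Nat.mul_le_mul_right _ hcard1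
        _ = Nat.card M * Nat.card CA := by rw [hcard2]; ring
        _ ≤ Nat.card ↥(M ⊔ CA) * Nat.card ↥(M ⊓ A) := hcard3
    exact Nat.le_of_mul_le_mul_right this hpos
  -- Step 7: conclusions
  refine ⟨M ⊔ CA, ⟨hA'c, fun B' hB' => (hA.2 B' hB').trans hcard4⟩, ?_, ?_, ?_⟩
  · have hle : A ⊓ B ≤ (M ⊔ CA) ⊓ B := by
      apply le_inf _ inf_le_right
      refine le_trans ?_ (le_sup_right : CA ≤ M ⊔ CA)
      exact le_inf inf_le_left (inf_le_right.trans hBcen)
    apply lt_of_le_of_ne hle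
    intro heq
    apply hxT
    apply mem_normalizer_of_forall_conj_mem
    intro a ha
    have h1 : ⁅x, a⁆ ∈ A := by
      have h2 : ⁅x, a⁆ ∈ (M ⊔ CA) ⊓ B := ⟨(le_sup_left : M ≤ M ⊔ CA) (hfM a ha), hfB a ha⟩
      rw [← heq] at h2
      exact h2.1
    have h3 : x * a * x⁻¹ = ⁅x, a⁆ * a := by rw [commutatorElement_def]; group
    rw [h3]
    exact A.mul_mem h1 ha
  · exact sup_le hMT (inf_le_left.trans hAT)
  · refine sup_le ?_ (inf_le_left.trans Subgroup.le_normalClosure)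
    rw [hM, Subgroup.closure_le]
    rintro _ ⟨a, ha, rfl⟩
    have h1 : a ∈ Subgroup.normalClosure (A : Set S) := Subgroup.le_normalClosure ha
    have h2 : x * a * x⁻¹ ∈ Subgroup.normalClosure (A : Set S) :=
      Subgroup.normalClosure_normal.conj_mem a h1 x
    have h3 : ⁅x, a⁆ = (x * a * x⁻¹) * a⁻¹ := by rw [commutatorElement_def]
    show ⁅x, a⁆ ∈ Subgroup.normalClosure (A : Set S)
    rw [h3]
    exact Subgroup.mul_mem _ h2 (Subgroup.inv_mem _ h1)

end Cfsg.Agent.Lib.Helper17
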