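import Mathlib
import Cfsg.Statements.S2752
import Cfsg.Agent.Lib.Helper16.SFDefs
import Cfsg.Agent.Lib.Helper8.ThTwoA
import Cfsg.Agent.Lib.Helper8.ThTwoE

/-!
# S2752 market "SF": leaf `conjBridge` (helper17)

The frozen (subgroup) setting is an instance of the abstract action `Γ ↷ V`.
-/

set_option autoImplicit false
universe u v
open Cfsg Cfsg.Agent.Lib.Helper16.SF Cfsg.Agent.Lib.Helper8.ThTwo

namespace Cfsg.Agent.Lib.Helper17.SFLeaf

/-- **conjBridge**: the frozen (subgroup) setting is an instance of the abstract one. -/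
theorem conjBridge {L : Type u} [Group L] [Finite L] (M G : Subgroup L)
    (hGM : G ≤ Subgroup.normalizer (M : Set L)) (hf : G ⊓ Subgroup.centralizer (M : Set L) = ⊥) :
    letI := conjMDMA M G hGM
    (∀ g : ↥G, (∀ v : ↥M, g • v = v) → g = 1) ∧
    ∀ A : Subgroup L, A ≤ G →
      Nat.card ↥(fixSub (V := ↥M) (A.subgroupOf G)) = Nat.card ↥(M ⊓ Subgroup.centralizer (A : Set L)) ∧
      Nat.card ↥(commSub (V := ↥M) (A.subgroupOf G)) = Nat.card ↥⁅M, A⁆ := by
  let _ := conjMDMA M G hGM
  have hsm : ∀ (g : ↥G) (v : ↥M), ((g • v : ↥M) : L) = (g : L) * (v : L) * (g : L)⁻¹ :=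
    fun g v => rfl
  refine ⟨?_, ?_⟩
  · intro g hg
    have hmem : (g : L) ∈ G ⊓ Subgroup.centralizer (M : Set L) := by
      refine Subgroup.mem_inf.mpr ⟨g.2, ?_⟩
      rw [Subgroup.mem_centralizer_iff]
      intro m hm
      have h1 := congrArg Subtype.val (hg ⟨m, hm⟩)
      rw [hsm] at h1
      exact (mul_inv_eq_iff_eq_mul.mp h1).symm
    rw [hf, Subgroup.mem_bot] at hmem
    exact Subtype.ext hmem
  · intro A hAG
    constructor
    · have hmap : (fixSub (V := ↥M) (A.subgroupOf G)).map M.subtype =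
          M ⊓ Subgroup.centralizer (A : Set L) := by
        ext v
        constructor
        · rintro ⟨w, hw, rfl⟩
          refine Subgroup.mem_inf.mpr ⟨w.2, ?_⟩
          rw [Subgroup.mem_centralizer_iff]
          intro a ha
          have h1 := congrArg Subtype.val
            (hw ⟨a, hAG ha⟩ (by rw [Subgroup.mem_subgroupOf]; exact ha))
          rw [hsm] at h1
          exact (mul_inv_eq_iff_eq_mul.mp h1)
        · intro hv
          obtain ⟨hvM, hvC⟩ := Subgroup.mem_inf.mp hv
          refine ⟨⟨v, hvM⟩, ?_, rfl⟩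
          intro h hh
          apply Subtype.ext
          rw [hsm]
          rw [Subgroup.mem_subgroupOf] at hh
          have h1 := (Subgroup.mem_centralizer_iff.mp hvC) h hh
          exact mul_inv_eq_iff_eq_mul.mpr h1
      rw [← hmap, Subgroup.card_map_of_injective M.subtype_injective]
    · have hmap : (commSub (V := ↥M) (A.subgroupOf G)).map M.subtype = ⁅M, A⁆ := by
        unfold commSub
        rw [MonoidHom.map_closure, Subgroup.commutator_def]
        congr 1
        ext w
        constructor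
        · rintro ⟨w', ⟨x, hx, u, rfl⟩, rfl⟩
          rw [Subgroup.mem_subgroupOf] at hx
          refine ⟨(u : L)⁻¹, M.inv_mem u.2, (x : L), hx, ?_⟩
          show _ = ((u⁻¹ * x • u : ↥M) : L)
          rw [Subgroup.coe_mul, hsm, Subgroup.coe_inv, commutatorElement_def, inv_inv]
          simp only [mul_assoc]
        · rintro ⟨m, hm, a, ha, rfl⟩
          refine ⟨(⟨m, hm⟩ : ↥M) * (⟨a, hAG ha⟩ : ↥G) • (⟨m, hm⟩ : ↥M)⁻¹,
            ⟨⟨a, hAG ha⟩, by rw [Subgroup.mem_subgroupOf]; exact ha, (⟨m, hm⟩ : ↥M)⁻¹, ?_⟩, ?_⟩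
          · rw [inv_inv]
          · show ((⟨m, hm⟩ * (⟨a, hAG ha⟩ : ↥G) • (⟨m, hm⟩ : ↥M)⁻¹ : ↥M) : L) = _
            rw [Subgroup.coe_mul, hsm, Subgroup.coe_inv, commutatorElement_def]
            simp only [mul_assoc]
      rw [← hmap, Subgroup.card_map_of_injective M.subtype_injective]

end Cfsg.Agent.Lib.Helper17.SFLeaf
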