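import Mathlib
import Cfsg.Agent.Lib.Helper1.LowDimO
import Cfsg.Agent.Lib.Helper17.CWQuad

/-!
S5798 block (O) (sub-planner helper22): leaf O-CW (helper17): Chevalley-Warning for two quadratic forms, and for one
quadratic form and two linear functionals, in at least five variables.
-/

set_option autoImplicit false
set_option linter.unusedSectionVars false
set_option linter.unusedVariables false
set_option linter.unusedSimpArgs false

noncomputable section

namespace Cfsg.Agent.Lib.Helper17.SL6OLeaf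
open Cfsg Matrix QuadraticMap Module Cfsg.Agent.Lib.Helper5 Cfsg.Agent.Lib.Helper5.SpMax
  Cfsg.Agent.Lib.Helper5.TMCalc Cfsg.Agent.Lib.Helper5.OSL Cfsg.Agent.S5644.S5644aux

open MvPolynomial in
/-- the polynomial of a linear functional on `ι → F` -/
def linPoly {ι : Type*} [Fintype ι] [DecidableEq ι] {F : Type*} [Field F] (ℓ : (ι → F) →ₗ[F] F) :
    MvPolynomial ι F :=
  ∑ i, MvPolynomial.C (ℓ (Pi.single i 1)) * MvPolynomial.X i

theorem eval_linPoly {ι : Type*} [Fintype ι] [DecidableEq ι] {F : Type*} [Field F] (ℓ : (ι → F) →ₗ[F] F)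
    (x : ι → F) : MvPolynomial.eval x (linPoly ℓ) = ℓ x := by
  unfold linPoly
  have hx : x = ∑ i, x i • (Pi.single i (1 : F) : ι → F) := by
    funext k
    simp [Finset.sum_apply, Pi.single_apply]
  conv_rhs => rw [hx]
  simp only [map_sum, map_smul, smul_eq_mul, MvPolynomial.eval_mul, MvPolynomial.eval_C, MvPolynomial.eval_X]
  refine Finset.sum_congr rfl (fun i _ => ?_)
  ring

theorem totalDegree_linPoly {ι : Type*} [Fintype ι] [DecidableEq ι] {F : Type*} [Field F]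
    (ℓ : (ι → F) →ₗ[F] F) : (linPoly ℓ).totalDegree ≤ 1 := by
  unfold linPoly
  refine MvPolynomial.totalDegree_finsetSum_le (fun i _ => ?_)
  refine (MvPolynomial.totalDegree_mul _ _).trans ?_
  rw [MvPolynomial.totalDegree_C, zero_add]
  exact (MvPolynomial.totalDegree_X i).le

/-- a finite type whose cardinality is divisible by `p ≥ 2` has a second element -/
theorem exists_ne_of_dvd_card {α : Type*} [Fintype α] (p : ℕ) (hp : 2 ≤ p) (h : p ∣ Fintype.card α) (a : α) :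
    ∃ b : α, b ≠ a := by
  have hpos : 0 < Fintype.card α := Fintype.card_pos_iff.mpr ⟨a⟩
  have hle : 1 < Fintype.card α := lt_of_lt_of_le (by omega) (Nat.le_of_dvd hpos h)
  obtain ⟨x, y, hxy⟩ := Fintype.one_lt_card_iff.mp hle
  by_cases hx : x = a
  · exact ⟨y, fun hy => hxy (hx.trans hy.symm)⟩
  · exact ⟨x, hx⟩

variable {F : Type*} [Field F] {n : ℕ}

/-- LEAF O-CW (1) -/
theorem exists_common_singular [Fintype F] (Q₁ Q₂ : QuadraticForm F (Fin n → F)) (h2 : (2 : F) ≠ 0)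
    (hn : 5 ≤ n) : ∃ x : Fin n → F, x ≠ 0 ∧ Q₁ x = 0 ∧ Q₂ x = 0 :=
  Cfsg.Agent.Lib.Helper17.CWQuad.exists_common_singular Q₁ Q₂ (by rw [Fintype.card_fin]; exact hn)

/-- LEAF O-CW (2) -/
theorem exists_singular_perp [Fintype F] (Q : QuadraticForm F (Fin n → F)) (h2 : (2 : F) ≠ 0)
    (ℓ₁ ℓ₂ : (Fin n → F) →ₗ[F] F) (hn : 5 ≤ n) :
    ∃ x : Fin n → F, x ≠ 0 ∧ Q x = 0 ∧ ℓ₁ x = 0 ∧ ℓ₂ x = 0 := by
  classical
  obtain ⟨B, rfl⟩ := LinearMap.BilinMap.toQuadraticMap_surjective Q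
  obtain ⟨p, hp⟩ := CharP.exists F
  have : Fact p.Prime := ⟨CharP.char_is_prime F p⟩
  set f : Fin 3 → MvPolynomial (Fin n) F :=
    ![Cfsg.Agent.Lib.Helper17.CWQuad.bilPoly B, linPoly ℓ₁, linPoly ℓ₂] with hf
  have hdeg : (∑ i, (f i).totalDegree) < Fintype.card (Fin n) := by
    rw [Fin.sum_univ_three, Fintype.card_fin]
    have h1 := Cfsg.Agent.Lib.Helper17.CWQuad.totalDegree_bilPoly B
    have h3 := totalDegree_linPoly ℓ₁
    have h4 := totalDegree_linPoly ℓ₂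
    have e0 : f 0 = Cfsg.Agent.Lib.Helper17.CWQuad.bilPoly B := rfl
    have e1 : f 1 = linPoly ℓ₁ := rfl
    have e2 : f 2 = linPoly ℓ₂ := rfl
    rw [e0, e1, e2]
    omega
  have hdvd := char_dvd_card_solutions_of_fintype_sum_lt p hdeg
  have hsol : ∀ x : Fin n → F, (∀ i, MvPolynomial.eval x (f i) = 0) ↔
      (B x x = 0 ∧ ℓ₁ x = 0 ∧ ℓ₂ x = 0) := by
    intro x
    rw [Fin.forall_fin_succ, Fin.forall_fin_succ, Fin.forall_fin_succ]
    have e0 : f 0 = Cfsg.Agent.Lib.Helper17.CWQuad.bilPoly B := rfl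
    have e1 : f (Fin.succ 0) = linPoly ℓ₁ := rfl
    have e2 : f (Fin.succ (Fin.succ 0)) = linPoly ℓ₂ := rfl
    rw [e0, e1, e2, Cfsg.Agent.Lib.Helper17.CWQuad.eval_bilPoly, eval_linPoly, eval_linPoly]
    constructor
    · rintro ⟨a, b, c, -⟩
      exact ⟨a, b, c⟩
    · rintro ⟨a, b, c⟩
      exact ⟨a, b, c, fun i => i.elim0⟩
  have hp2 : 2 ≤ p := (Fact.out : p.Prime).two_le
  have key : ∀ (inst : Fintype { x : Fin n → F // ∀ i, MvPolynomial.eval x (f i) = 0 }),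
      p ∣ @Fintype.card _ inst →
      ∃ b : { x : Fin n → F // ∀ i, MvPolynomial.eval x (f i) = 0 },
        b ≠ ⟨0, (hsol 0).mpr ⟨by simp, by simp, by simp⟩⟩ :=
    fun inst h => @exists_ne_of_dvd_card _ inst p hp2 h _
  obtain ⟨⟨x, hx⟩, hx0⟩ := key _ hdvd
  rw [hsol] at hx
  refine ⟨x, ?_, hx.1, hx.2.1, hx.2.2⟩
  rintro rfl
  exact hx0 rfl

end Cfsg.Agent.Lib.Helper17.SL6OLeaf
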