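import Mathlib
import Cfsg.Prelude.Def_Solvable

/-!
# S4538, part (A): a block of `SL n F` in the defining characteristic has defect zero or full defect

General group theory first (`le_of_core`), then the linear algebra of the 2-step flag
`0 < W < V`, `W` the fixed space of a nontrivial `p`-subgroup `D`.
-/

set_option autoImplicit false

namespace Cfsg.Agent.Lib.Helper17.SLBlkA

open Subgroup

section General

variable {G : Type*} [Group G]

theorem map_conj_eq_of_mem_normalizer {H : Subgroup G} {g : G} (hg : g ∈ normalizer (H : Set G)) :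
    H.map (MulAut.conj g).toMonoidHom = H := by
  ext y
  constructor
  · rintro ⟨z, hz, rfl⟩
    exact (mem_normalizer_iff.mp hg z).mp hz
  · intro hy
    refine ⟨g⁻¹ * y * g, ?_, by simp [MulAut.conj_apply, mul_assoc]⟩
    have := (mem_normalizer_iff.mp (inv_mem hg) y).mp hy
    simpa using this

theorem normalizer_le_normalizer_sup {A B C : Subgroup G}
    (hA : C ≤ normalizer (A : Set G)) (hB : C ≤ normalizer (B : Set G)) :
    C ≤ normalizer ((A ⊔ B : Subgroup G) : Set G) := by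
  intro g hg
  have h1 : ∀ g ∈ C, ∀ y ∈ A ⊔ B, g * y * g⁻¹ ∈ A ⊔ B := by
    intro g hg y hy
    have hm : (A ⊔ B).map (MulAut.conj g).toMonoidHom = A ⊔ B := by
      rw [Subgroup.map_sup, map_conj_eq_of_mem_normalizer (hA hg),
        map_conj_eq_of_mem_normalizer (hB hg)]
    have : (MulAut.conj g).toMonoidHom y ∈ (A ⊔ B).map (MulAut.conj g).toMonoidHom :=
      Subgroup.mem_map_of_mem _ hy
    rw [hm] at this
    simpa [MulAut.conj_apply] using this
  rw [mem_normalizer_iff]
  intro y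
  constructor
  · exact h1 g hg y
  · intro hy
    have := h1 g⁻¹ (inv_mem hg) _ hy
    simpa [mul_assoc] using this

/-- If `O_p(N_G(D)) = D` then every `p`-subgroup normalized by `N_G(D)` lies in `D`. -/
theorem le_of_core [Finite G] (p : ℕ) [Fact p.Prime] (D R : Subgroup G)
    (hD : IsPGroup p D) (hR : IsPGroup p R)
    (hcore : (Cfsg.pCore p (normalizer (D : Set G))).map (normalizer (D : Set G)).subtype = D)
    (hN : normalizer (D : Set G) ≤ normalizer (R : Set G)) : R ≤ D := by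
  set N := normalizer (D : Set G) with hNdef
  have hDN : D ≤ N := le_normalizer
  have hQ : IsPGroup p (R ⊔ D : Subgroup G) :=
    IsPGroup.to_sup_of_normal_left' hR hD (hDN.trans hN)
  have hNQ : N ≤ normalizer ((R ⊔ D : Subgroup G) : Set G) :=
    normalizer_le_normalizer_sup hN le_rfl
  -- `Q ⊓ N ≤ D`
  have hQN : (R ⊔ D) ⊓ N ≤ D := by
    have hnorm : ((R ⊔ D).subgroupOf N).Normal := normal_subgroupOf_of_le_normalizer hNQ
    have hp : IsPGroup p ((R ⊔ D).subgroupOf N) := hQ.comap_subtype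
    have hle : (R ⊔ D).subgroupOf N ≤ Cfsg.pCore p N := le_sSup ⟨hnorm, hp⟩
    have := Subgroup.map_mono (f := N.subtype) hle
    rw [subgroupOf_map_subtype, hcore] at this
    exact this
  -- normalizer condition in `Q`
  have hDQ : D ≤ R ⊔ D := le_sup_right
  have hnil : Group.IsNilpotent (R ⊔ D : Subgroup G) := hQ.isNilpotent
  have hnc : NormalizerCondition (R ⊔ D : Subgroup G) := Group.normalizerCondition_of_isNilpotent
  have htop : D.subgroupOf (R ⊔ D) = ⊤ := by
    by_contra hne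
    have hlt : D.subgroupOf (R ⊔ D) < ⊤ := lt_top_iff_ne_top.mpr hne
    have hlt2 := hnc _ hlt
    obtain ⟨q, hq1, hq2⟩ := SetLike.exists_of_lt hlt2
    rw [← subgroupOf_normalizer_eq hDQ] at hq1
    have hqN : (q : G) ∈ N := hq1
    have : (q : G) ∈ D := hQN ⟨q.2, hqN⟩
    exact hq2 this
  exact le_sup_left.trans (subgroupOf_eq_top.mp htop)

end General


section Linear

open Matrix

variable {n : ℕ} {F : Type*} [Field F]

/-- The fixed space of a subgroup of `SL n F` on column vectors. -/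
def fixW (D : Subgroup (Matrix.SpecialLinearGroup (Fin n) F)) : Submodule F (Fin n → F) where
  carrier := {v | ∀ d ∈ D, (d : Matrix (Fin n) (Fin n) F) *ᵥ v = v}
  add_mem' := by
    intro a b ha hb d hd
    rw [Matrix.mulVec_add, ha d hd, hb d hd]
  zero_mem' := by
    intro d _
    simp
  smul_mem' := by
    intro c v hv d hd
    show (d : Matrix (Fin n) (Fin n) F) *ᵥ (c • v) = c • v
    rw [Matrix.mulVec_smul, hv d hd]

theorem mem_fixW {D : Subgroup (Matrix.SpecialLinearGroup (Fin n) F)} {v : Fin n → F} :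
    v ∈ fixW D ↔ ∀ d ∈ D, (d : Matrix (Fin n) (Fin n) F) *ᵥ v = v := Iff.rfl

theorem inv_mulVec_mulVec (g : Matrix.SpecialLinearGroup (Fin n) F) (v : Fin n → F) :
    ((g⁻¹ : Matrix.SpecialLinearGroup (Fin n) F) : Matrix (Fin n) (Fin n) F) *ᵥ
      ((g : Matrix (Fin n) (Fin n) F) *ᵥ v) = v := by
  rw [Matrix.mulVec_mulVec, ← Matrix.SpecialLinearGroup.coe_mul, inv_mul_cancel,
    Matrix.SpecialLinearGroup.coe_one, Matrix.one_mulVec]

theorem mulVec_inv_mulVec (g : Matrix.SpecialLinearGroup (Fin n) F) (v : Fin n → F) :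
    (g : Matrix (Fin n) (Fin n) F) *ᵥ
      (((g⁻¹ : Matrix.SpecialLinearGroup (Fin n) F) : Matrix (Fin n) (Fin n) F) *ᵥ v) = v := by
  rw [Matrix.mulVec_mulVec, ← Matrix.SpecialLinearGroup.coe_mul, mul_inv_cancel,
    Matrix.SpecialLinearGroup.coe_one, Matrix.one_mulVec]

/-- The unipotent radical of the stabilizer of the flag `0 ≤ W ≤ V`. -/
def flagR (W : Submodule F (Fin n → F)) : Subgroup (Matrix.SpecialLinearGroup (Fin n) F) where
  carrier := {g | (∀ v, (g : Matrix (Fin n) (Fin n) F) *ᵥ v - v ∈ W) ∧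
    ∀ w ∈ W, (g : Matrix (Fin n) (Fin n) F) *ᵥ w = w}
  mul_mem' := by
    rintro a b ⟨ha1, ha2⟩ ⟨hb1, hb2⟩
    refine ⟨fun v => ?_, fun w hw => ?_⟩
    · rw [Matrix.SpecialLinearGroup.coe_mul, ← Matrix.mulVec_mulVec]
      have h1 := ha1 ((b : Matrix (Fin n) (Fin n) F) *ᵥ v)
      have h2 := hb1 v
      have := W.add_mem h1 h2
      simpa using this
    · rw [Matrix.SpecialLinearGroup.coe_mul, ← Matrix.mulVec_mulVec, hb2 w hw, ha2 w hw]
  one_mem' := by
    refine ⟨fun v => ?_, fun w _ => ?_⟩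
    · simp
    · simp
  inv_mem' := by
    rintro a ⟨ha1, ha2⟩
    refine ⟨fun v => ?_, fun w hw => ?_⟩
    · have h1 := ha1 (((a⁻¹ : Matrix.SpecialLinearGroup (Fin n) F) :
        Matrix (Fin n) (Fin n) F) *ᵥ v)
      rw [mulVec_inv_mulVec] at h1
      have := W.neg_mem h1
      simpa using this
    · have := inv_mulVec_mulVec a w
      rw [ha2 w hw] at this
      exact this

theorem mem_flagR {W : Submodule F (Fin n → F)} {g : Matrix.SpecialLinearGroup (Fin n) F} :
    g ∈ flagR W ↔ (∀ v, (g : Matrix (Fin n) (Fin n) F) *ᵥ v - v ∈ W) ∧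
      ∀ w ∈ W, (g : Matrix (Fin n) (Fin n) F) *ᵥ w = w := Iff.rfl

theorem sq_zero_of_mem_flagR {W : Submodule F (Fin n → F)}
    {g : Matrix.SpecialLinearGroup (Fin n) F} (hg : g ∈ flagR W) :
    ((g : Matrix (Fin n) (Fin n) F) - 1) * ((g : Matrix (Fin n) (Fin n) F) - 1) = 0 := by
  apply Matrix.mulVec_injective
  funext v
  rw [← Matrix.mulVec_mulVec]
  have h1 : ((g : Matrix (Fin n) (Fin n) F) - 1) *ᵥ v = (g : Matrix (Fin n) (Fin n) F) *ᵥ v - v := by
    rw [Matrix.sub_mulVec, Matrix.one_mulVec]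
  rw [h1, Matrix.sub_mulVec, Matrix.one_mulVec, hg.2 _ (hg.1 v)]
  simp

theorem flagR_isPGroup (p : ℕ) [Fact p.Prime] [CharP F p] (hn : 0 < n)
    (W : Submodule F (Fin n → F)) : IsPGroup p (flagR W) := by
  intro g
  refine ⟨1, ?_⟩
  have hne : Nonempty (Fin n) := ⟨⟨0, hn⟩⟩
  have hcp : CharP (Matrix (Fin n) (Fin n) F) p := Matrix.charP p
  have hsq := sq_zero_of_mem_flagR g.2
  set A : Matrix (Fin n) (Fin n) F := ((g : Matrix.SpecialLinearGroup (Fin n) F) :
    Matrix (Fin n) (Fin n) F) - 1 with hA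
  have hp2 : 2 ≤ p := (Fact.out : p.Prime).two_le
  have hAp : A ^ p = 0 := by
    have : p = 2 + (p - 2) := by omega
    rw [this, pow_add, pow_two, hsq, zero_mul]
  have hg : ((g : Matrix.SpecialLinearGroup (Fin n) F) : Matrix (Fin n) (Fin n) F) = 1 + A := by
    rw [hA]; abel
  apply Subtype.ext
  apply Subtype.ext
  rw [pow_one]
  show (((g : Matrix.SpecialLinearGroup (Fin n) F) ^ p : Matrix.SpecialLinearGroup (Fin n) F) :
    Matrix (Fin n) (Fin n) F) = 1
  rw [Matrix.SpecialLinearGroup.coe_pow, hg, add_pow_char_of_commute p (Commute.one_left A), hAp]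
  simp

theorem fixW_map_of_mem_normalizer {D : Subgroup (Matrix.SpecialLinearGroup (Fin n) F)}
    {h : Matrix.SpecialLinearGroup (Fin n) F}
    (hh : h ∈ normalizer (D : Set (Matrix.SpecialLinearGroup (Fin n) F)))
    {w : Fin n → F} (hw : w ∈ fixW D) : (h : Matrix (Fin n) (Fin n) F) *ᵥ w ∈ fixW D := by
  intro d hd
  -- h⁻¹ d h ∈ D
  have hmem : h⁻¹ * d * h ∈ D := by
    have := (mem_normalizer_iff.mp (inv_mem hh) d).mp hd
    simpa using this
  have h1 := hw _ hmem
  rw [Matrix.SpecialLinearGroup.coe_mul, Matrix.SpecialLinearGroup.coe_mul,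
    ← Matrix.mulVec_mulVec, ← Matrix.mulVec_mulVec] at h1
  have h2 : (h : Matrix (Fin n) (Fin n) F) *ᵥ
      (((h⁻¹ : Matrix.SpecialLinearGroup (Fin n) F) : Matrix (Fin n) (Fin n) F) *ᵥ
        ((d : Matrix (Fin n) (Fin n) F) *ᵥ ((h : Matrix (Fin n) (Fin n) F) *ᵥ w))) =
      (h : Matrix (Fin n) (Fin n) F) *ᵥ w := by rw [h1]
  rw [mulVec_inv_mulVec] at h2
  exact h2

theorem normalizer_le_normalizer_flagR (D : Subgroup (Matrix.SpecialLinearGroup (Fin n) F)) :
    normalizer (D : Set (Matrix.SpecialLinearGroup (Fin n) F)) ≤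
      normalizer ((flagR (fixW D) : Subgroup (Matrix.SpecialLinearGroup (Fin n) F)) :
        Set (Matrix.SpecialLinearGroup (Fin n) F)) := by
  have key : ∀ h ∈ normalizer (D : Set (Matrix.SpecialLinearGroup (Fin n) F)),
      ∀ g ∈ flagR (fixW D), h * g * h⁻¹ ∈ flagR (fixW D) := by
    intro h hh g hg
    refine ⟨fun v => ?_, fun w hw => ?_⟩
    · rw [Matrix.SpecialLinearGroup.coe_mul, Matrix.SpecialLinearGroup.coe_mul,
        ← Matrix.mulVec_mulVec, ← Matrix.mulVec_mulVec]
      have h1 := hg.1 (((h⁻¹ : Matrix.SpecialLinearGroup (Fin n) F) :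
        Matrix (Fin n) (Fin n) F) *ᵥ v)
      have h2 := fixW_map_of_mem_normalizer hh h1
      rw [Matrix.mulVec_sub, mulVec_inv_mulVec] at h2
      exact h2
    · rw [Matrix.SpecialLinearGroup.coe_mul, Matrix.SpecialLinearGroup.coe_mul,
        ← Matrix.mulVec_mulVec, ← Matrix.mulVec_mulVec]
      have h1 := fixW_map_of_mem_normalizer (inv_mem hh) hw
      rw [hg.2 _ h1, mulVec_inv_mulVec]
  intro h hh
  rw [mem_normalizer_iff]
  intro g
  constructor
  · exact key h hh g
  · intro hg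
    have := key h⁻¹ (inv_mem hh) _ hg
    simpa [mul_assoc] using this

/-- The transvection `1 + v fᵀ` for `f ⬝ᵥ v = 0`. -/
def transv (v f : Fin n → F) (hvf : f ⬝ᵥ v = 0) : Matrix.SpecialLinearGroup (Fin n) F :=
  ⟨1 + Matrix.vecMulVec v f, by
    rw [Matrix.vecMulVec_eq Unit, Matrix.det_one_add_replicateCol_mul_replicateRow, hvf, add_zero]⟩

theorem transv_coe (v f : Fin n → F) (hvf : f ⬝ᵥ v = 0) :
    ((transv v f hvf : Matrix.SpecialLinearGroup (Fin n) F) : Matrix (Fin n) (Fin n) F) =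
      1 + Matrix.vecMulVec v f := rfl

theorem transv_mulVec (v f : Fin n → F) (hvf : f ⬝ᵥ v = 0) (u : Fin n → F) :
    ((transv v f hvf : Matrix.SpecialLinearGroup (Fin n) F) : Matrix (Fin n) (Fin n) F) *ᵥ u =
      u + (f ⬝ᵥ u) • v := by
  rw [transv_coe, Matrix.add_mulVec, Matrix.one_mulVec, Matrix.vecMulVec_mulVec]
  congr 1
  funext i
  simp [mul_comm]

theorem transv_mem_flagR {W : Submodule F (Fin n → F)} (v f : Fin n → F)
    (hv : v ∈ W) (hf : ∀ w ∈ W, f ⬝ᵥ w = 0) :
    transv v f (hf v hv) ∈ flagR W := by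
  refine ⟨fun u => ?_, fun w hw => ?_⟩
  · rw [transv_mulVec, add_sub_cancel_left]
    exact W.smul_mem _ hv
  · rw [transv_mulVec, hf w hw, zero_smul, add_zero]

/-- Double annihilator for the dot product pairing on `Fin n → F`. -/
theorem mem_of_forall_dot (W : Submodule F (Fin n → F)) (z : Fin n → F)
    (h : ∀ f : Fin n → F, (∀ w ∈ W, f ⬝ᵥ w = 0) → f ⬝ᵥ z = 0) : z ∈ W := by
  by_contra hz
  obtain ⟨φ, hφz, hφW⟩ := Submodule.exists_dual_map_eq_bot_of_notMem hz inferInstance
  have hφ : ∀ u : Fin n → F, φ u = (fun j => φ (fun k => if j = k then 1 else 0)) ⬝ᵥ u := by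
    intro u
    rw [LinearMap.pi_apply_eq_sum_univ φ u]
    simp [dotProduct, mul_comm]
  apply hφz
  rw [hφ z]
  apply h
  intro w hw
  rw [← hφ w]
  have : φ w ∈ Submodule.map φ W := Submodule.mem_map_of_mem hw
  rw [hφW] at this
  simpa using this

theorem exists_ann_ne_zero {W : Submodule F (Fin n → F)} (hW : W ≠ ⊤) :
    ∃ f : Fin n → F, f ≠ 0 ∧ ∀ w ∈ W, f ⬝ᵥ w = 0 := by
  by_contra hcon
  push Not at hcon
  apply hW
  rw [eq_top_iff]
  intro z _
  apply mem_of_forall_dot W z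
  intro f hf
  by_cases hf0 : f = 0
  · rw [hf0, zero_dotProduct]
  · obtain ⟨w, hw, hne⟩ := hcon f hf0
    exact absurd (hf w hw) hne

theorem fixW_ne_top {D : Subgroup (Matrix.SpecialLinearGroup (Fin n) F)} (hD : D ≠ ⊥) :
    fixW D ≠ ⊤ := by
  intro htop
  apply hD
  rw [eq_bot_iff]
  intro d hd
  rw [Subgroup.mem_bot]
  apply Subtype.ext
  apply Matrix.mulVec_injective
  funext v
  have hv : v ∈ fixW D := by rw [htop]; trivial
  rw [hv d hd]
  simp

theorem exists_fixed_ne_zero [Fintype F] (p : ℕ) [Fact p.Prime] [CharP F p] (hn : 0 < n)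
    {D : Subgroup (Matrix.SpecialLinearGroup (Fin n) F)} (hD : IsPGroup p D) :
    ∃ v ∈ fixW D, v ≠ 0 := by
  classical
  let act : MulAction D (Fin n → F) :=
    { smul := fun d v => ((d : Matrix.SpecialLinearGroup (Fin n) F) :
        Matrix (Fin n) (Fin n) F) *ᵥ v
      one_smul := fun v => by
        show (((1 : D) : Matrix.SpecialLinearGroup (Fin n) F) :
          Matrix (Fin n) (Fin n) F) *ᵥ v = v
        simp
      mul_smul := fun a b v => by
        show (((a * b : D) : Matrix.SpecialLinearGroup (Fin n) F) :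
          Matrix (Fin n) (Fin n) F) *ᵥ v =
          ((a : Matrix.SpecialLinearGroup (Fin n) F) : Matrix (Fin n) (Fin n) F) *ᵥ
            (((b : Matrix.SpecialLinearGroup (Fin n) F) : Matrix (Fin n) (Fin n) F) *ᵥ v)
        rw [Matrix.mulVec_mulVec, Subgroup.coe_mul, Matrix.SpecialLinearGroup.coe_mul] }
  have hsm : ∀ (d : D) (v : Fin n → F), d • v =
      ((d : Matrix.SpecialLinearGroup (Fin n) F) : Matrix (Fin n) (Fin n) F) *ᵥ v :=
    fun _ _ => rfl
  have hmod := hD.card_modEq_card_fixedPoints (Fin n → F)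
  obtain ⟨k, -, hk⟩ := FiniteField.card F p
  have hcardV : Nat.card (Fin n → F) = (p ^ (k : ℕ)) ^ n := by
    rw [Nat.card_eq_fintype_card, Fintype.card_fun, Fintype.card_fin, hk]
  have hpV : p ∣ Nat.card (Fin n → F) := by
    rw [hcardV, ← pow_mul]
    apply dvd_pow_self
    have : 0 < (k : ℕ) := k.pos
    positivity
  have hpfix : p ∣ Nat.card (MulAction.fixedPoints D (Fin n → F)) := by
    have := (Nat.modEq_zero_iff_dvd.mpr hpV)
    exact Nat.modEq_zero_iff_dvd.mp (hmod.symm.trans this)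
  have h0 : (0 : Fin n → F) ∈ MulAction.fixedPoints D (Fin n → F) := by
    intro d
    rw [hsm]
    simp
  by_contra hcon
  push Not at hcon
  have hsub : Subsingleton (MulAction.fixedPoints D (Fin n → F)) := by
    constructor
    rintro ⟨a, ha⟩ ⟨b, hb⟩
    have ha' : a ∈ fixW D := fun d hd => by
      have := ha ⟨d, hd⟩
      rw [hsm] at this
      exact this
    have hb' : b ∈ fixW D := fun d hd => by
      have := hb ⟨d, hd⟩
      rw [hsm] at this
      exact this
    apply Subtype.ext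
    show a = b
    rw [hcon a ha', hcon b hb']
  have hcard1 : Nat.card (MulAction.fixedPoints D (Fin n → F)) = 1 := by
    have : Nonempty (MulAction.fixedPoints D (Fin n → F)) := ⟨⟨0, h0⟩⟩
    exact Nat.card_unique
  rw [hcard1] at hpfix
  exact (Fact.out : p.Prime).one_lt.ne' (Nat.dvd_one.mp hpfix)

/-- A `p`-regular element centralizing a nontrivial `p`-subgroup `D` that contains the flag
radical of its fixed space is a scalar matrix. -/
theorem scalar_of_centralizer [Fintype F] (p : ℕ) [Fact p.Prime] [CharP F p] (hn : 0 < n)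
    {D : Subgroup (Matrix.SpecialLinearGroup (Fin n) F)} (hDp : IsPGroup p D) (hDne : D ≠ ⊥)
    (hR : flagR (fixW D) ≤ D) (x : Matrix.SpecialLinearGroup (Fin n) F)
    (hxD : ∀ d ∈ D, d * x = x * d) (hx : ¬ p ∣ orderOf x) :
    ∃ μ : F, (x : Matrix (Fin n) (Fin n) F) = μ • (1 : Matrix (Fin n) (Fin n) F) := by
  classical
  obtain ⟨v0, hv0W, hv0⟩ := exists_fixed_ne_zero p hn hDp
  obtain ⟨f0, hf0, hf0W⟩ := exists_ann_ne_zero (fixW_ne_top hDne)
  obtain ⟨i0, hi0⟩ : ∃ i, v0 i ≠ 0 := by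
    by_contra hcon
    push Not at hcon
    exact hv0 (funext hcon)
  obtain ⟨j0, hj0⟩ : ∃ j, f0 j ≠ 0 := by
    by_contra hcon
    push Not at hcon
    exact hf0 (funext hcon)
  set X : Matrix (Fin n) (Fin n) F := (x : Matrix (Fin n) (Fin n) F) with hX
  -- the commutation relation on entries
  have hcomm : ∀ v ∈ fixW D, ∀ f : Fin n → F, (∀ w ∈ fixW D, f ⬝ᵥ w = 0) →
      Matrix.vecMulVec (X *ᵥ v) f = Matrix.vecMulVec v (f ᵥ* X) := by
    intro v hv f hf
    have hmem : transv v f (hf v hv) ∈ D := hR (transv_mem_flagR v f hv hf)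
    have h1 := hxD _ hmem
    have h2 := congrArg (fun g : Matrix.SpecialLinearGroup (Fin n) F =>
      (g : Matrix (Fin n) (Fin n) F)) h1
    simp only [Matrix.SpecialLinearGroup.coe_mul, transv_coe] at h2
    rw [add_mul, mul_add, one_mul, mul_one, Matrix.vecMulVec_mul, Matrix.mul_vecMulVec] at h2
    exact (add_left_cancel h2).symm
  have hentry : ∀ v ∈ fixW D, ∀ f : Fin n → F, (∀ w ∈ fixW D, f ⬝ᵥ w = 0) →
      ∀ i j, (X *ᵥ v) i * f j = v i * (f ᵥ* X) j := by
    intro v hv f hf i j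
    have := congrFun (congrFun (hcomm v hv f hf) i) j
    simpa [Matrix.vecMulVec_apply] using this
  set lam : F := (f0 ᵥ* X) j0 / f0 j0 with hlam
  have hXv : ∀ v ∈ fixW D, X *ᵥ v = lam • v := by
    intro v hv
    funext i
    have := hentry v hv f0 hf0W i j0
    rw [Pi.smul_apply, smul_eq_mul, hlam, div_mul_eq_mul_div, eq_div_iff hj0, this, mul_comm]
  have hfX : ∀ f : Fin n → F, (∀ w ∈ fixW D, f ⬝ᵥ w = 0) → f ᵥ* X = lam • f := by
    intro f hf
    funext j
    have := hentry v0 hv0W f hf i0 j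
    rw [hXv v0 hv0W, Pi.smul_apply, smul_eq_mul] at this
    rw [Pi.smul_apply, smul_eq_mul]
    have h3 : v0 i0 * (lam * f j) = v0 i0 * (f ᵥ* X) j := by rw [← this]; ring
    exact (mul_left_cancel₀ hi0 h3).symm
  set Y : Matrix (Fin n) (Fin n) F := X - lam • (1 : Matrix (Fin n) (Fin n) F) with hY
  have hYv : ∀ v ∈ fixW D, Y *ᵥ v = 0 := by
    intro v hv
    rw [hY, Matrix.sub_mulVec, hXv v hv, Matrix.smul_mulVec, Matrix.one_mulVec, sub_self]
  have hfY : ∀ f : Fin n → F, (∀ w ∈ fixW D, f ⬝ᵥ w = 0) → f ᵥ* Y = 0 := by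
    intro f hf
    rw [hY, Matrix.vecMul_sub, hfX f hf, Matrix.vecMul_smul, Matrix.vecMul_one, sub_self]
  have hYW : ∀ u : Fin n → F, Y *ᵥ u ∈ fixW D := by
    intro u
    apply mem_of_forall_dot
    intro f hf
    rw [Matrix.dotProduct_mulVec, hfY f hf, zero_dotProduct]
  have hYY : Y * Y = 0 := by
    apply Matrix.mulVec_injective
    funext u
    rw [← Matrix.mulVec_mulVec, hYv _ (hYW u)]
    simp
  have hne : Nonempty (Fin n) := ⟨⟨0, hn⟩⟩
  have hcp : CharP (Matrix (Fin n) (Fin n) F) p := Matrix.charP p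
  have hp2 : 2 ≤ p := (Fact.out : p.Prime).two_le
  have hYp : Y ^ p = 0 := by
    have : p = 2 + (p - 2) := by omega
    rw [this, pow_add, pow_two, hYY, zero_mul]
  have hXeq : X = lam • (1 : Matrix (Fin n) (Fin n) F) + Y := by rw [hY]; abel
  have hcommY : Commute (lam • (1 : Matrix (Fin n) (Fin n) F)) Y := by
    show lam • (1 : Matrix (Fin n) (Fin n) F) * Y = Y * lam • (1 : Matrix (Fin n) (Fin n) F)
    rw [smul_mul_assoc, one_mul, mul_smul_comm, mul_one]
  have hXp : X ^ p = (lam ^ p) • (1 : Matrix (Fin n) (Fin n) F) := by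
    rw [hXeq, add_pow_char_of_commute p hcommY, hYp, add_zero, smul_pow, one_pow]
  -- `x` is a power of `x ^ p`
  have hcop : Nat.Coprime p (orderOf x) :=
    ((Fact.out : p.Prime).coprime_iff_not_dvd).mpr hx
  obtain ⟨k, hk⟩ : ∃ k : ℕ, x ^ (p * k) = x := by
    by_cases h1 : orderOf x = 1
    · refine ⟨0, ?_⟩
      rw [orderOf_eq_one_iff] at h1
      rw [h1]; simp
    · have hpos : 0 < orderOf x := orderOf_pos x
      have h2 : 1 < orderOf x := by omega
      obtain ⟨k, -, hk⟩ := Nat.exists_mul_mod_eq_one_of_coprime hcop h2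
      refine ⟨k, ?_⟩
      rw [← pow_mod_orderOf, hk, pow_one]
  refine ⟨(lam ^ p) ^ k, ?_⟩
  have h3 : ((x ^ (p * k) : Matrix.SpecialLinearGroup (Fin n) F) :
      Matrix (Fin n) (Fin n) F) = X := by rw [hk]
  rw [← h3, pow_mul, Matrix.SpecialLinearGroup.coe_pow, Matrix.SpecialLinearGroup.coe_pow,
    ← hX, hXp, smul_pow, one_pow]

theorem map_conj_eq_of_scalar (x : Matrix.SpecialLinearGroup (Fin n) F) (μ : F)
    (hx : (x : Matrix (Fin n) (Fin n) F) = μ • (1 : Matrix (Fin n) (Fin n) F))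
    (P : Subgroup (Matrix.SpecialLinearGroup (Fin n) F)) :
    P.map (MulAut.conj x).toMonoidHom = P := by
  have hc : ∀ y : Matrix.SpecialLinearGroup (Fin n) F, x * y * x⁻¹ = y := by
    intro y
    have : x * y = y * x := by
      apply Subtype.ext
      rw [Matrix.SpecialLinearGroup.coe_mul, Matrix.SpecialLinearGroup.coe_mul, hx,
        smul_mul_assoc, one_mul, mul_smul_comm, mul_one]
    rw [this, mul_inv_cancel_right]
  ext y
  constructor
  · rintro ⟨z, hz, rfl⟩
    show x * z * x⁻¹ ∈ P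
    rw [hc]; exact hz
  · intro hy
    exact ⟨y, hy, hc y⟩

end Linear

end Cfsg.Agent.Lib.Helper17.SLBlkA
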