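import Mathlib
import Cfsg.Agent.Lib.Helper17.SLBlkA
import Cfsg.Agent.S0906
import Cfsg.Agent.S0908
import Cfsg.Agent.S0955
import Cfsg.Agent.S0956

/-!
# S4538, part (A): the second conjunct verbatim

Every `p`-block of `SL n F` (`F` finite of characteristic `p`) has defect zero or full defect.
-/

set_option autoImplicit false

namespace Cfsg.Agent.Lib.Helper17.SLBlkA

open Subgroup

/-- The second conjunct of S4538. -/
theorem dichotomy {F : Type*} [Field F] [Fintype F] (n : ℕ) (hn : 2 ≤ n) (p : ℕ) [Fact p.Prime]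
    [CharP F p] (M : Ideal Cfsg.AlgInt) (hM : Cfsg.IsPModular p M) :
    ∀ B : Set (Cfsg.IrrCharacter (Matrix.SpecialLinearGroup (Fin n) F)), Cfsg.IsPBlock M B →
      Cfsg.blockDefect p B = 0 ∨ Cfsg.blockDefect p B =
        (Nat.card (Matrix.SpecialLinearGroup (Fin n) F)).factorization p := by
  classical
  intro B hB
  have hp : p.Prime := Fact.out
  have hn0 : 0 < n := by omega
  -- a defect group
  obtain ⟨g, hg⟩ := Cfsg.Agent.S0906.result p M hM B hB
  obtain ⟨P0⟩ : Nonempty (Sylow p (Subgroup.centralizer ({g} : Set (Matrix.SpecialLinearGroup (Fin n) F)))) :=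
    inferInstance
  set D : Subgroup (Matrix.SpecialLinearGroup (Fin n) F) :=
    (P0 : Subgroup (Subgroup.centralizer ({g} : Set (Matrix.SpecialLinearGroup (Fin n) F)))).map
      (Subgroup.centralizer ({g} : Set (Matrix.SpecialLinearGroup (Fin n) F))).subtype with hDdef
  have hD : Cfsg.IsDefectGroup p M B D := ⟨g, hg, P0, rfl⟩
  have hDp : IsPGroup p D := P0.isPGroup'.map _
  have hcard := Cfsg.Agent.S0908.result p M hM B hB D hD
  have hcore := Cfsg.Agent.S0955.result p M hM B hB D hD
  obtain ⟨P, hDP⟩ := hDp.exists_le_sylow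
  obtain ⟨x, hx, ⟨S, hS⟩, hPx⟩ := Cfsg.Agent.S0956.result p M hM B hB D hD P hDP
  by_cases hDbot : D = ⊥
  · left
    rw [hDbot] at hcard
    have h1 : p ^ Cfsg.blockDefect p B = 1 := by
      rw [← hcard]; simp
    exact (Nat.pow_eq_one.mp h1).resolve_left hp.one_lt.ne'
  · right
    -- `x` centralizes `D`
    have hxD : ∀ d ∈ D, d * x = x * d := by
      intro d hd
      rw [← hS] at hd
      obtain ⟨c, _, rfl⟩ := hd
      have hc := c.2
      rw [Subgroup.mem_centralizer_iff] at hc
      have := hc x (Set.mem_singleton x)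
      exact this.symm
    have hR : flagR (fixW D) ≤ D :=
      le_of_core p D (flagR (fixW D)) hDp (flagR_isPGroup p hn0 _) hcore
        (normalizer_le_normalizer_flagR D)
    obtain ⟨μ, hμ⟩ := scalar_of_centralizer p hn0 hDp hDbot hR x hxD hx
    have hPP := map_conj_eq_of_scalar x μ hμ (P : Subgroup (Matrix.SpecialLinearGroup (Fin n) F))
    rw [hPP, inf_idem] at hPx
    have hcP : Nat.card D = p ^ (Nat.card (Matrix.SpecialLinearGroup (Fin n) F)).factorization p := by
      rw [← hPx]
      exact P.card_eq_multiplicity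
    rw [hcard] at hcP
    exact Nat.pow_right_injective hp.two_le hcP

end Cfsg.Agent.Lib.Helper17.SLBlkA
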