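import Mathlib
import Cfsg.Agent.Lib.Helper28.SLBNR

/-!
# S4538, record field `hHgen` (closure half): the diagonal torus of `SL n F` is generated by the
coroot elements `h_i(λ)` coming from the rank one relations.
-/

set_option autoImplicit false

namespace Cfsg.Agent.Lib.Helper17.SLHgen

open Matrix Equiv Cfsg.Agent.Lib.Helper6.GLBN Cfsg.Agent.Lib.Helper18.PSLnAut
open Cfsg.Agent.Lib.Helper28.SLBN

variable {n : ℕ} {F : Type*} [Field F]

theorem mono_one_eq_diagonal (c : Fin n → F) : mono (1 : Perm (Fin n)) c = Matrix.diagonal c := by
  ext i j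
  rw [mono_apply, Matrix.diagonal_apply, Perm.one_apply]
  by_cases h : i = j
  · rw [if_pos h, if_pos h, h]
  · rw [if_neg h, if_neg h]

theorem det_monoGL_one (c : Fin n → Fˣ) :
    ((monoGL (1 : Perm (Fin n)) c : GL (Fin n) F) : Matrix (Fin n) (Fin n) F).det =
      ∏ j, (c j : F) := by
  rw [coe_monoGL, mono_one_eq_diagonal, Matrix.det_diagonal]

variable (hn : 0 < n) [Finite F]

/-- downward induction: a diagonal element of `SL n F` whose first `m` diagonal entries are `1`
lies in the closure of the coroot generators. -/
theorem mem_closure_of_leading (k : ℕ) :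
    ∀ (m : ℕ), m + k = n - 1 → ∀ (h : Matrix.SpecialLinearGroup (Fin n) F) (d : Fin n → Fˣ),
      Matrix.SpecialLinearGroup.toGL h = monoGL 1 d → (∀ j : Fin n, j.val < m → d j = 1) →
      h ∈ Subgroup.closure (Hgen (F := F) hn) := by
  induction k with
  | zero =>
    intro m hm h d hh hd
    -- all entries but the last are `1`, and the determinant is `1`
    have hdet : ∏ j, (d j : F) = 1 := by
      rw [← det_monoGL_one, ← hh]
      exact h.2
    have hlast : ∀ j : Fin n, d j = 1 := by
      intro j
      by_cases hj : j.val < m
      · exact hd j hj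
      · have hjm : j.val = n - 1 := by have := j.2; omega
        rw [Finset.prod_eq_single j] at hdet
        · exact Units.ext hdet
        · intro b _ hb
          have hbm : b.val < m := by
            have := b.2
            have hne : b.val ≠ j.val := fun e => hb (Fin.ext e)
            omega
          rw [hd b hbm]; rfl
        · intro hj'
          exact absurd (Finset.mem_univ j) hj'
    have h1 : h = 1 := by
      apply Matrix.SpecialLinearGroup.toGL_injective
      rw [hh, map_one, ← monoGL_one]
      congr 1
      funext j
      exact hlast j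
    rw [h1]
    exact Subgroup.one_mem _
  | succ k ih =>
    intro m hm h d hh hd
    have hmn : m < n - 1 := by omega
    set i : Fin (n - 1) := ⟨m, hmn⟩ with hidef
    obtain ⟨g, hgH, hg⟩ := coroot_mem_Hgen (F := F) hn i (d (lo i))
    have hgK : g ∈ Subgroup.closure (Hgen (F := F) hn) := Subgroup.subset_closure hgH
    have hlo : (lo i).val = m := rfl
    have hhi : (hi i).val = m + 1 := rfl
    have key : h * g⁻¹ ∈ Subgroup.closure (Hgen (F := F) hn) := by
      refine ih (m + 1) (by omega) (h * g⁻¹)
        (fun j => d j * (hco (lo i) (hi i) (d (lo i)) j)⁻¹) ?_ ?_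
      · rw [map_mul, map_inv, hh, hg, monoGL_inv, monoGL_mul]
        congr 1
      · intro j hj
        by_cases hjm : j = lo i
        · rw [hjm]
          unfold hco
          rw [if_pos rfl, mul_inv_cancel]
        · have hjlt : j.val < m := by
            have hne : j.val ≠ m := fun e => hjm (Fin.ext (by rw [e, hlo]))
            omega
          have hjh : j ≠ hi i := fun e => by rw [e, hhi] at hjlt; omega
          unfold hco
          rw [if_neg hjm, if_neg hjh, hd j hjlt]
          simp
    have : h = h * g⁻¹ * g := by group
    rw [this]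
    exact Subgroup.mul_mem _ key hgK

/-- **`hHgen`, closure half**: `B ⊓ N ≤ closure (Hgen hn)`. -/
theorem T_le_closure_Hgen :
    (slBN (F := F) hn).B ⊓ (slBN (F := F) hn).N ≤ Subgroup.closure (Hgen (F := F) hn) := by
  intro h hh
  rw [mem_slBN_T hn h] at hh
  obtain ⟨d, hd⟩ := hh
  exact mem_closure_of_leading hn (n - 1) 0 (by omega) h d hd (fun j hj => absurd hj (by omega))

end Cfsg.Agent.Lib.Helper17.SLHgen
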