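import Cfsg.Agent.Lib.Helper17.SLMDefs
import Cfsg.Agent.Lib.Helper1.SLMN4
import Cfsg.Agent.Lib.Helper1.SLMP12
import Cfsg.Agent.Lib.Helper1.SLMP5
import Cfsg.Agent.Lib.Helper1.SLMTools
import Cfsg.Agent.Lib.Helper14.SLMQ1
import Cfsg.Agent.Lib.Helper14.SLMQ2
import Cfsg.Agent.Lib.Helper14.SLMQ3
import Cfsg.Agent.Lib.Helper14.SLMQ4
import Cfsg.Agent.Lib.Helper14.SLMQ5
import Cfsg.Agent.Lib.Helper27.SLMN1
import Cfsg.Agent.Lib.Helper27.SLMN2
import Cfsg.Agent.Lib.Helper28.SLMP4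
import Cfsg.Agent.Lib.Helper28.SLMP7
import Cfsg.Agent.Lib.Helper28.SLMP8
import Cfsg.Agent.Lib.Helper4.SLMP3
import Cfsg.Agent.Lib.Helper4.SLMP6
import Cfsg.Agent.Lib.Helper4.SLMT56
import Cfsg.Agent.Lib.Lead.SLMC6Pow

set_option autoImplicit false
set_option linter.unusedSectionVars false
set_option linter.unusedVariables false

namespace Cfsg.Agent.Lib.Helper17.SLMMain

open Cfsg.Geo Matrix Module Cfsg.Agent.Lib.Helper17.SLM
open Cfsg.Agent.Lib.Helper1.SLMLeaf (c6_eleven c6_five c6_seven c6_three c6_two exists_sl_map_pair exists_sl_map_vec not_sl_le_dec not_sl_le_subfield not_sl_le_subspace scalar_of_commute_transvections transvection_mem_sl)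
open Cfsg.Agent.Lib.Helper14.SLMLeaf (lines_four lines_three lines_two planes_two tensor_two)
open Cfsg.Agent.Lib.Helper27.SLMLeaf (field_dvd mdec_card)
open Cfsg.Agent.Lib.Helper28.SLMLeaf (not_sl_le_quad not_sl_le_symp not_sl_le_tensor not_sl_le_tensorWreath not_sl_le_unitary)
open Cfsg.Agent.Lib.Helper4.SLMLeaf (not_sl_le_field not_sl_le_symplType sl_normal_sub sl_perfect)
open Cfsg.Agent.Lib.Lead.SLMLeaf (c6_pow)

variable {n : ℕ} {F : Type*} [Field F] [Fintype F]

/-- glue: a maximal `H ≤ M` with `SL ⊄ M` is `M ⊓ SL` -/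
theorem eq_inf_of_maximal {H M : Subgroup (GL (Fin n) F)} (hH : IsMaximalIn (specialLinear (Fin n) F) H)
    (hle : H ≤ M) (hM : ¬ specialLinear (Fin n) F ≤ M) : H = M ⊓ specialLinear (Fin n) F := by
  rcases hH.2 (M ⊓ specialLinear (Fin n) F) (le_inf hle hH.1.le) inf_le_right with h | h
  · exact h.symm
  · exfalso
    apply hM
    rw [← h]
    exact inf_le_left

theorem card_cases (F : Type*) [Field F] [Fintype F] :
    Fintype.card F = 2 ∨ Fintype.card F = 3 ∨ Fintype.card F = 4 ∨ 5 ≤ Fintype.card F := by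
  have h1 : 1 < Fintype.card F := Fintype.one_lt_card
  omega

/-- properness of every good member -/
theorem not_sl_le_of_good (hn : 3 ≤ n) {M : Subgroup (GL (Fin n) F)} (hM : Good n F M) :
    ¬ specialLinear (Fin n) F ≤ M := by
  rcases hM with ⟨W, h0, h1, rfl⟩ | ⟨t, m, D, hD, -, -, rfl⟩ | ⟨r, K, hr, hK, -, rfl⟩ |
    ⟨n₁, n₂, e, P, h1, h2, -, rfl⟩ | ⟨F₀, r, P, hr, hc, rfl⟩ | ⟨r, R, hR, rfl⟩ | ⟨m, t, e, P, hm, ht, rfl⟩ |
    ⟨f, hf, -, -, rfl⟩ | ⟨σ, f, hf, -, rfl⟩ | ⟨Q, hQ, -, -, rfl⟩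
  · exact not_sl_le_subspace h0 h1
  · exact not_sl_le_dec hD
  · exact not_sl_le_field hn hr hK
  · exact not_sl_le_tensor e P h1 (by omega)
  · exact not_sl_le_subfield (by omega) F₀ hr hc P
  · exact not_sl_le_symplType hn hR
  · exact not_sl_le_tensorWreath e P (by omega) ht
  · exact not_sl_le_symp hn hf
  · exact not_sl_le_unitary hn hf
  · exact not_sl_le_quad hn hQ

/-- a maximal `H` inside a good `M` -/
theorem concl_of_le_good (hn : 3 ≤ n) {H M : Subgroup (GL (Fin n) F)}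
    (hH : IsMaximalIn (specialLinear (Fin n) F) H) (hM : Good n F M) (hle : H ≤ M) : Concl n F H :=
  Or.inl ⟨M, hM, eq_inf_of_maximal hH hle (not_sl_le_of_good hn hM)⟩

/-- the refined theorem, with the three exceptional cases `(n, q) = (3, 4), (4, 3), (4, 5)` as hypotheses -/
theorem concl_of_asch_gen (hn : 3 ≤ n) {H : Subgroup (GL (Fin n) F)}
    (hH : IsMaximalIn (specialLinear (Fin n) F) H)
    (h34 : n = 3 → Fintype.card F = 4 → ∀ (r : ℕ) (K : Subalgebra F (Matrix (Fin n) (Fin n) F)), r.Prime →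
      IsFieldSubalgebra r K → H ≤ subalgebraNormalizer K → Concl n F H)
    (h43 : n = 4 → Fintype.card F = 3 → ∀ (t : ℕ) (D : Fin t → Submodule F (Fin n → F)), IsMDecomposition 2 D →
      H ≤ decompositionStabilizer D → Concl n F H)
    (h45 : n = 4 → (5 ≤ Fintype.card F ∧ Fintype.card F < 7) → ∀ (t : ℕ) (D : Fin t → Submodule F (Fin n → F)),
      IsMDecomposition 1 D → H ≤ decompositionStabilizer D → Concl n F H)
    (hA : Asch n F H) : Concl n F H := by
  rcases hA with ⟨M, hM, hle⟩ | hres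
  swap
  · exact Or.inr hres
  rcases hM with ⟨W, h0, h1, rfl⟩ | ⟨W, U, h0, hWU, -, rfl⟩ | ⟨W, U, h0, hinf, hsup, hlt, rfl⟩ |
    ⟨t, m, D, hD, rfl⟩ | ⟨r, K, hr, hK, rfl⟩ |
    ⟨n₁, n₂, e, P, h1, h2, rfl⟩ | ⟨F₀, r, P, hr, hc, rfl⟩ | ⟨r, R, hR, rfl⟩ | ⟨m, t, e, P, hm, ht, rfl⟩ |
    ⟨f, hf, he, h4, rfl⟩ | ⟨σ, f, hf, h3, rfl⟩ | ⟨Q, hQ, hodd, h3, rfl⟩
  · exact concl_of_le_good hn hH (Or.inl ⟨W, h0, h1, rfl⟩) hle
  · refine concl_of_le_good hn hH (Or.inl ⟨W, h0, ?_, rfl⟩) (hle.trans inf_le_left)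
    intro hW
    rw [hW] at hWU
    exact absurd hWU (not_lt_of_ge le_top)
  · refine concl_of_le_good hn hH (Or.inl ⟨W, h0, ?_, rfl⟩) (hle.trans inf_le_left)
    intro hW
    rw [hW, top_inf_eq] at hinf
    rw [hW, hinf, finrank_bot] at hlt
    exact absurd hlt (Nat.not_lt_zero _)
  · -- decompositions
    by_cases hm1 : m = 1
    · subst hm1
      rcases card_cases F with h2 | h3 | h4 | h5
      · obtain ⟨W, h0, h1, hW⟩ := lines_two h2 hD
        exact concl_of_le_good hn hH (Or.inl ⟨W, h0, h1, rfl⟩) (hle.trans hW)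
      · obtain ⟨Q, hQ, hle'⟩ := lines_three h3 hD
        refine concl_of_le_good hn hH (Or.inr (Or.inr (Or.inr (Or.inr (Or.inr (Or.inr (Or.inr (Or.inr (Or.inr
          ⟨Q, hQ, ?_, hn, rfl⟩))))))))) (hle.trans hle')
        rw [h3]; decide
      · obtain ⟨σ, f, hf, hle'⟩ := lines_four h4 hD
        exact concl_of_le_good hn hH (Or.inr (Or.inr (Or.inr (Or.inr (Or.inr (Or.inr (Or.inr (Or.inr (Or.inl
          ⟨σ, f, hf, hn, rfl⟩))))))))) (hle.trans hle')
      · by_cases h47 : n = 4 ∧ Fintype.card F < 7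
        · exact h45 h47.1 ⟨h5, h47.2⟩ t D hD hle
        · refine concl_of_le_good hn hH (Or.inr (Or.inl ⟨t, 1, D, hD, ?_, ?_, rfl⟩)) hle
          · intro _
            refine ⟨h5, fun h => ?_⟩
            by_contra hcon
            exact h47 ⟨h, by omega⟩
          · intro h
            omega
    · by_cases hm2 : m = 2
      · subst hm2
        by_cases h2 : Fintype.card F = 2
        · obtain ⟨f, hf, hle'⟩ := planes_two h2 hD
          have htm := mdec_card hD
          have ht2 := hD.two_le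
          refine concl_of_le_good hn hH (Or.inr (Or.inr (Or.inr (Or.inr (Or.inr (Or.inr (Or.inr (Or.inl
            ⟨f, hf, ?_, ?_, rfl⟩)))))))) (hle.trans hle')
          · exact ⟨t, by omega⟩
          · omega
        · by_cases h43' : n = 4 ∧ Fintype.card F = 3
          · exact h43 h43'.1 h43'.2 t D hD hle
          · refine concl_of_le_good hn hH (Or.inr (Or.inl ⟨t, 2, D, hD, ?_, ?_, rfl⟩)) hle
            · intro h
              omega
            · intro _
              have h1 : 1 < Fintype.card F := Fintype.one_lt_card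
              refine ⟨by omega, fun h => ?_⟩
              by_contra hcon
              exact h43' ⟨h, by omega⟩
      · refine concl_of_le_good hn hH (Or.inr (Or.inl ⟨t, m, D, hD, ?_, ?_, rfl⟩)) hle
        · intro h; exact absurd h hm1
        · intro h; exact absurd h hm2
  · -- field normalisers
    by_cases h34' : n = 3 ∧ Fintype.card F = 4
    · exact h34 h34'.1 h34'.2 r K hr hK hle
    · exact concl_of_le_good hn hH (Or.inr (Or.inr (Or.inl ⟨r, K, hr, hK, h34', rfl⟩))) hle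
  · -- tensor products
    by_cases h22 : n₁ = 2 ∧ Fintype.card F = 2
    · obtain ⟨hn1, hq⟩ := h22
      subst hn1
      obtain ⟨K, hK, hle'⟩ := tensor_two hq (by omega) e P
      refine concl_of_le_good hn hH (Or.inr (Or.inr (Or.inl ⟨2, K, Nat.prime_two, hK, ?_, rfl⟩))) (hle.trans hle')
      rintro ⟨-, h4⟩
      omega
    · refine concl_of_le_good hn hH (Or.inr (Or.inr (Or.inr (Or.inl ⟨n₁, n₂, e, P, h1, h2, ?_, rfl⟩)))) hle
      intro h
      have h1 : 1 < Fintype.card F := Fintype.one_lt_card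
      by_contra hcon
      exact h22 ⟨h, by omega⟩
  · exact concl_of_le_good hn hH (Or.inr (Or.inr (Or.inr (Or.inr (Or.inl ⟨F₀, r, P, hr, hc, rfl⟩))))) hle
  · exact concl_of_le_good hn hH (Or.inr (Or.inr (Or.inr (Or.inr (Or.inr (Or.inl ⟨r, R, hR, rfl⟩)))))) hle
  · exact concl_of_le_good hn hH (Or.inr (Or.inr (Or.inr (Or.inr (Or.inr (Or.inr (Or.inl
      ⟨m, t, e, P, hm, ht, rfl⟩))))))) hle
  · exact concl_of_le_good hn hH (Or.inr (Or.inr (Or.inr (Or.inr (Or.inr (Or.inr (Or.inr (Or.inl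
      ⟨f, hf, he, h4, rfl⟩)))))))) hle
  · exact concl_of_le_good hn hH (Or.inr (Or.inr (Or.inr (Or.inr (Or.inr (Or.inr (Or.inr (Or.inr (Or.inl
      ⟨σ, f, hf, h3, rfl⟩))))))))) hle
  · exact concl_of_le_good hn hH (Or.inr (Or.inr (Or.inr (Or.inr (Or.inr (Or.inr (Or.inr (Or.inr (Or.inr
      ⟨Q, hQ, hodd, h3, rfl⟩))))))))) hle

/-- the refined theorem for `n ≥ 5` -/
theorem concl_of_asch (hn : 5 ≤ n) {H : Subgroup (GL (Fin n) F)}
    (hH : IsMaximalIn (specialLinear (Fin n) F) H) (hA : Asch n F H) : Concl n F H :=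
  concl_of_asch_gen (by omega) hH (fun h => by omega) (fun h => by omega) (fun h => by omega) hA

end Cfsg.Agent.Lib.Helper17.SLMMain
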