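import Cfsg.Agent.Lib.Helper17.SLMRows
import Cfsg.Agent.Lib.Lead.SLMQ6

set_option autoImplicit false
set_option linter.unusedSectionVars false
set_option linter.unusedVariables false

namespace Cfsg.Agent.Lib.Helper17.SLMMain3

open Cfsg.Geo Matrix Module Cfsg.Agent.Lib.Helper17.SLM Cfsg.Agent.Lib.Helper17.SLMMain Cfsg.Agent.Lib.Helper17.SLMRows
open Cfsg.Agent.Lib.Helper1.SLMLeaf (c6_eleven c6_five c6_seven c6_three c6_two exists_sl_map_pair exists_sl_map_vec not_sl_le_dec not_sl_le_subfield not_sl_le_subspace scalar_of_commute_transvections transvection_mem_sl)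
open Cfsg.Agent.Lib.Helper14.SLMLeaf (lines_four lines_three lines_two planes_two tensor_two)
open Cfsg.Agent.Lib.Helper27.SLMLeaf (field_dvd mdec_card)
open Cfsg.Agent.Lib.Helper28.SLMLeaf (not_sl_le_quad not_sl_le_symp not_sl_le_tensor not_sl_le_tensorWreath not_sl_le_unitary)
open Cfsg.Agent.Lib.Helper4.SLMLeaf (not_sl_le_field not_sl_le_symplType sl_normal_sub sl_perfect)
open Cfsg.Agent.Lib.Lead.SLMLeaf (c6_pow)
open Cfsg.Agent.Lib.Lead.SLMLeaf (field_three_four)

variable {F : Type*} [Field F] [Fintype F]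

/-- `n = 3` -/
theorem concl3 (h5630 : S5630At 3 F) {H : Subgroup (GL (Fin 3) F)}
    (hH : IsMaximalIn (specialLinear (Fin 3) F) H) : Concl 3 F H := by
  refine concl_of_asch_gen (le_refl 3) hH ?_ (fun h => by omega) (fun h => by omega)
    (asch_of_maximal (le_refl 3) h5630 hH)
  intro _ hq r K hr hK hle
  have hdvd := field_dvd (by norm_num) hK
  have hr3 : r = 3 := (Nat.prime_dvd_prime_iff_eq hr (by norm_num)).1 hdvd
  subst hr3
  obtain ⟨F₀, P, hc, hle'⟩ := field_three_four hq hK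
  exact concl_of_le_good (le_refl 3) hH
    (Or.inr (Or.inr (Or.inr (Or.inr (Or.inl ⟨F₀, 2, P, Nat.prime_two, hc, rfl⟩)))))
    ((le_inf hle hH.1.le).trans hle')

end Cfsg.Agent.Lib.Helper17.SLMMain3
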