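import Cfsg.Agent.Lib.Helper17.SLMRows
import Cfsg.Agent.Lib.Helper12.SLMQ7
import Cfsg.Agent.Lib.Helper24.SLMQ8

set_option autoImplicit false
set_option linter.unusedSectionVars false
set_option linter.unusedVariables false

namespace Cfsg.Agent.Lib.Helper17.SLMMain4

open Cfsg.Geo Matrix Module Cfsg.Agent.Lib.Helper17.SLM Cfsg.Agent.Lib.Helper17.SLMMain Cfsg.Agent.Lib.Helper17.SLMRows
open Cfsg.Agent.Lib.Helper1.SLMLeaf (c6_eleven c6_five c6_seven c6_three c6_two exists_sl_map_pair exists_sl_map_vec not_sl_le_dec not_sl_le_subfield not_sl_le_subspace scalar_of_commute_transvections transvection_mem_sl)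
open Cfsg.Agent.Lib.Helper14.SLMLeaf (lines_four lines_three lines_two planes_two tensor_two)
open Cfsg.Agent.Lib.Helper27.SLMLeaf (field_dvd mdec_card)
open Cfsg.Agent.Lib.Helper28.SLMLeaf (not_sl_le_quad not_sl_le_symp not_sl_le_tensor not_sl_le_tensorWreath not_sl_le_unitary)
open Cfsg.Agent.Lib.Helper4.SLMLeaf (not_sl_le_field not_sl_le_symplType sl_normal_sub sl_perfect)
open Cfsg.Agent.Lib.Lead.SLMLeaf (c6_pow)
open Cfsg.Agent.Lib.Helper12.SLMLeaf (planes4_three)
open Cfsg.Agent.Lib.Helper24.SLMLeaf (lines4_five)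

variable {F : Type*} [Field F] [Fintype F]

theorem card_ne_six : Fintype.card F ≠ 6 := by
  intro h
  obtain ⟨p, _, k, hp, hk⟩ := FiniteField.card' F
  rw [h] at hk
  exact pow_ne_6 hp hk.symm

/-- `n = 4` -/
theorem concl4 (h5630 : S5630At 4 F) {H : Subgroup (GL (Fin 4) F)}
    (hH : IsMaximalIn (specialLinear (Fin 4) F) H) : Concl 4 F H := by
  refine concl_of_asch_gen (by norm_num) hH (fun h => by omega) ?_ ?_
    (asch_of_maximal (by norm_num) h5630 hH)
  · intro _ hq t D hD hle
    obtain ⟨f, hf, hle'⟩ := planes4_three hq hD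
    exact concl_of_le_good (by norm_num) hH
      (Or.inr (Or.inr (Or.inr (Or.inr (Or.inr (Or.inr (Or.inr (Or.inl
        ⟨f, hf, by decide, le_refl 4, rfl⟩))))))))
      ((le_inf hle hH.1.le).trans hle')
  · intro _ hq t D hD hle
    have hq5 : Fintype.card F = 5 := by
      have := card_ne_six (F := F)
      omega
    obtain ⟨R, hR, hle'⟩ := lines4_five hq5 hD
    exact concl_of_le_good (by norm_num) hH
      (Or.inr (Or.inr (Or.inr (Or.inr (Or.inr (Or.inl ⟨2, R, hR, rfl⟩))))))
      ((le_inf hle hH.1.le).trans hle')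

end Cfsg.Agent.Lib.Helper17.SLMMain4
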