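import Cfsg.Agent.Lib.Helper17.SLMMain

set_option autoImplicit false
set_option linter.unusedSectionVars false
set_option linter.unusedVariables false
set_option linter.style.haveILetI false

open scoped commutatorElement

namespace Cfsg.Agent.Lib.Helper17.SLMRows

open Cfsg.Geo Matrix Module Cfsg.Agent.Lib.Helper17.SLM Cfsg.Agent.Lib.Helper17.SLMMain
open Cfsg.Agent.Lib.Helper1.SLMLeaf (c6_eleven c6_five c6_seven c6_three c6_two exists_sl_map_pair exists_sl_map_vec not_sl_le_dec not_sl_le_subfield not_sl_le_subspace scalar_of_commute_transvections transvection_mem_sl)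
open Cfsg.Agent.Lib.Helper14.SLMLeaf (lines_four lines_three lines_two planes_two tensor_two)
open Cfsg.Agent.Lib.Helper27.SLMLeaf (field_dvd mdec_card)
open Cfsg.Agent.Lib.Helper28.SLMLeaf (not_sl_le_quad not_sl_le_symp not_sl_le_tensor not_sl_le_tensorWreath not_sl_le_unitary)
open Cfsg.Agent.Lib.Helper4.SLMLeaf (not_sl_le_field not_sl_le_symplType sl_normal_sub sl_perfect)
open Cfsg.Agent.Lib.Lead.SLMLeaf (c6_pow)

variable {n : ℕ} {F : Type*} [Field F] [Fintype F]

/-- the statement of S5630 at `n`, `F` -/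
def S5630At (n : ℕ) (F : Type*) [Field F] [Fintype F] : Prop :=
  ∀ H : Subgroup (GL (Fin n) F), H ≤ specialLinear (Fin n) F →
    H ⊔ (scalars (Fin n) F ⊓ specialLinear (Fin n) F) ≠ specialLinear (Fin n) F →
    (∃ M : Subgroup (GL (Fin n) F), InLinearClass n F M ∧ H ≤ M) ∨ InLinearResidualClass H

theorem asch_of_maximal (hn : 3 ≤ n) (h5630 : S5630At n F) {H : Subgroup (GL (Fin n) F)}
    (hH : IsMaximalIn (specialLinear (Fin n) F) H) : Asch n F H := by
  apply h5630 H hH.1.le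
  intro hcon
  haveI hSLn : (specialLinear (Fin n) F).Normal := by unfold specialLinear; infer_instance
  haveI hZn : (scalars (Fin n) F ⊓ specialLinear (Fin n) F).Normal := inferInstance
  have hmem : ∀ g ∈ specialLinear (Fin n) F, ∃ h ∈ H, ∃ z ∈ scalars (Fin n) F ⊓ specialLinear (Fin n) F,
      h * z = g := by
    intro g hg
    rw [← hcon] at hg
    have : g ∈ ((H ⊔ (scalars (Fin n) F ⊓ specialLinear (Fin n) F) : Subgroup (GL (Fin n) F)) :
        Set (GL (Fin n) F)) := hg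
    rw [Subgroup.mul_normal] at this
    obtain ⟨h, hh, z, hz, rfl⟩ := this
    exact ⟨h, hh, z, hz, rfl⟩
  have hzc : ∀ z ∈ scalars (Fin n) F, ∀ y : GL (Fin n) F, z * y = y * z := by
    intro z hz y
    obtain ⟨c, hc⟩ := (mem_scalars_iff z).1 hz
    apply Units.ext
    rw [Units.val_mul, Units.val_mul, hc, Matrix.smul_mul, Matrix.mul_smul, Matrix.one_mul, Matrix.mul_one]
  have hcomm : ⁅specialLinear (Fin n) F, specialLinear (Fin n) F⁆ ≤ H := by
    rw [Subgroup.commutator_le]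
    intro a ha b hb
    obtain ⟨h1, hh1, z1, hz1, rfl⟩ := hmem a ha
    obtain ⟨h2, hh2, z2, hz2, rfl⟩ := hmem b hb
    have : ⁅h1 * z1, h2 * z2⁆ = ⁅h1, h2⁆ := by
      rw [commutatorElement_def, commutatorElement_def, _root_.mul_inv_rev, _root_.mul_inv_rev]
      have e1 := hzc z1 hz1.1
      have e2 := hzc z2 hz2.1
      have e1' : ∀ y : GL (Fin n) F, z1⁻¹ * y = y * z1⁻¹ := fun y => by
        calc z1⁻¹ * y = z1⁻¹ * y * z1⁻¹ * z1 := by group
          _ = z1 * (z1⁻¹ * y * z1⁻¹) := (e1 _).symm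
          _ = y * z1⁻¹ := by group
      calc h1 * z1 * (h2 * z2) * (z1⁻¹ * h1⁻¹) * (z2⁻¹ * h2⁻¹)
          = h1 * (z1 * h2) * (z2 * z1⁻¹) * h1⁻¹ * (z2⁻¹ * h2⁻¹) := by group
        _ = h1 * (h2 * z1) * (z1⁻¹ * z2) * h1⁻¹ * (z2⁻¹ * h2⁻¹) := by rw [e1 h2, e1' z2]
        _ = h1 * h2 * (z2 * h1⁻¹) * (z2⁻¹ * h2⁻¹) := by group
        _ = h1 * h2 * (h1⁻¹ * z2) * (z2⁻¹ * h2⁻¹) := by rw [e2 h1⁻¹]
        _ = h1 * h2 * h1⁻¹ * h2⁻¹ := by group
    rw [this]
    exact H.mul_mem (H.mul_mem (H.mul_mem hh1 hh2) (H.inv_mem hh1)) (H.inv_mem hh2)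
  rw [sl_perfect hn] at hcomm
  exact absurd hH.1 (not_lt_of_ge hcomm)

/-- `Concl` for a maximal subgroup, `n ≥ 5` -/
theorem concl (hn : 5 ≤ n) (h5630 : S5630At n F) {H : Subgroup (GL (Fin n) F)}
    (hH : IsMaximalIn (specialLinear (Fin n) F) H) : Concl n F H :=
  concl_of_asch hn hH (asch_of_maximal (by omega) h5630 hH)

theorem prime_of_pow_eq {r k p a : ℕ} (hr : r.Prime) (hp : p.Prime) (ha : a ≠ 0) (h : p ^ a = r ^ k) : r = p := by
  have hk : k ≠ 0 := by
    rintro rfl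
    rw [pow_zero] at h
    have := Nat.one_lt_pow ha hp.one_lt
    omega
  have : r ∣ p ^ a := by rw [h]; exact dvd_pow_self r hk
  exact (Nat.prime_dvd_prime_iff_eq hr hp).1 (hr.dvd_of_dvd_pow this)

theorem card_tensor {n n₁ n₂ : ℕ} (e : Fin n ≃ Fin n₁ × Fin n₂) : n = n₁ * n₂ := by
  have := Fintype.card_congr e
  simpa only [Fintype.card_fin, Fintype.card_prod] using this

theorem card_wreath {n m t : ℕ} (e : Fin n ≃ (Fin t → Fin m)) : n = m ^ t := by
  have := Fintype.card_congr e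
  simpa only [Fintype.card_fin, Fintype.card_pi, Finset.prod_const, Finset.card_univ] using this

/-- `m ^ t` with `m ≥ 3`, `t ≥ 2` below 16 is `9 = 3 ^ 2` -/
theorem wreath_small {m t n : ℕ} (hm : 3 ≤ m) (ht : 2 ≤ t) (h : n = m ^ t) (hn : n < 16) : m = 3 ∧ t = 2 ∧ n = 9 := by
  have hm4 : m < 4 := by
    by_contra hcon
    have h1 : 4 ^ 2 ≤ m ^ 2 := Nat.pow_le_pow_left (by omega) 2
    have h2 : m ^ 2 ≤ m ^ t := Nat.pow_le_pow_right (by omega) ht
    omega
  have hm3 : m = 3 := by omega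
  subst hm3
  have ht3 : t < 3 := by
    by_contra hcon
    have h2 : 3 ^ 3 ≤ 3 ^ t := Nat.pow_le_pow_right (by omega) (by omega)
    omega
  have ht2 : t = 2 := by omega
  subst ht2
  exact ⟨rfl, rfl, by omega⟩

/-- a prime power `r ^ k` is not `6`, `10`, `12` -/
theorem pow_ne_6 {r k : ℕ} (hr : r.Prime) : r ^ k ≠ 6 := by
  intro h
  have hk : k ≠ 0 := by rintro rfl; simp at h
  have hd : r ∣ 6 := by rw [← h]; exact dvd_pow_self r hk
  have hle : r ≤ 6 := Nat.le_of_dvd (by norm_num) hd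
  have h2 : 2 ≤ r := hr.two_le
  have hk3 : k < 3 := by
    by_contra hcon
    have : 2 ^ 3 ≤ r ^ k := le_trans (Nat.pow_le_pow_left h2 3) (Nat.pow_le_pow_right (by omega) (by omega))
    omega
  interval_cases r <;> interval_cases k <;> first | (exfalso; revert h; norm_num; done) | (exfalso; revert hr; norm_num; done)

theorem pow_ne_10 {r k : ℕ} (hr : r.Prime) : r ^ k ≠ 10 := by
  intro h
  have hk : k ≠ 0 := by rintro rfl; simp at h
  have hd : r ∣ 10 := by rw [← h]; exact dvd_pow_self r hk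
  have hle : r ≤ 10 := Nat.le_of_dvd (by norm_num) hd
  have h2 : 2 ≤ r := hr.two_le
  have hk4 : k < 4 := by
    by_contra hcon
    have : 2 ^ 4 ≤ r ^ k := le_trans (Nat.pow_le_pow_left h2 4) (Nat.pow_le_pow_right (by omega) (by omega))
    omega
  interval_cases r <;> interval_cases k <;> first | (exfalso; revert h; norm_num; done) | (exfalso; revert hr; norm_num; done)

theorem pow_ne_12 {r k : ℕ} (hr : r.Prime) : r ^ k ≠ 12 := by
  intro h
  have hk : k ≠ 0 := by rintro rfl; simp at h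
  have hd : r ∣ 12 := by rw [← h]; exact dvd_pow_self r hk
  have hle : r ≤ 12 := Nat.le_of_dvd (by norm_num) hd
  have h2 : 2 ≤ r := hr.two_le
  have hk4 : k < 4 := by
    by_contra hcon
    have : 2 ^ 4 ≤ r ^ k := le_trans (Nat.pow_le_pow_left h2 4) (Nat.pow_le_pow_right (by omega) (by omega))
    omega
  interval_cases r <;> interval_cases k <;> first | (exfalso; revert h; norm_num; done) | (exfalso; revert hr; norm_num; done)

end Cfsg.Agent.Lib.Helper17.SLMRows
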