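import Cfsg.Agent.Lib.Helper20.SPT2Calc
import Cfsg.Agent.Lib.Helper20.SPT2Rel
import Cfsg.Agent.Lib.Helper12.SPT2G
import Cfsg.Agent.Lib.Helper5.SPT2NUCONJ
import Cfsg.Agent.Lib.Helper17.SPT2NX

/-!
# S3713, super-leaf T2 (sub-planner helper20), leaf NEQ: `Ht c * Nt = Xt c * Yt (-c⁻¹) * Xt c`
-/

set_option autoImplicit false

namespace Cfsg.Agent.Lib.Helper17.SPT2NEQ

open Matrix Cfsg.Agent.Lib.Helper5 Cfsg.Agent.Lib.Helper14.SpPerfect Cfsg.Agent.Lib.Helper18.SP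
open Cfsg.Agent.Lib.Helper20.SPT2
open Cfsg.Agent.Lib.Helper17.SPT2NX (SS_o_le_P2 SS_p_le_P1 MM_le_P1 MM_le_P2)

variable {F : Type*} [Field F] {n : ℕ} {H : Type*} [Group H] {o p : Fin n}

theorem hT_mem_SS (k : Fin n) (c : F) : hT n F k c ∈ SS n F k :=
  Cfsg.Agent.Lib.Helper12.SPT2.hT_mem_SS k c

theorem hT_mem_TT (k : Fin n) {c : F} (hc : c ≠ 0) : hT n F k c ∈ TT n F k :=
  Cfsg.Agent.Lib.Helper12.SPT2.hT_mem_TT k hc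

/-- `σo (hT o c)` conjugates `Xt t` to `Xt (c t)` (local in `Ph1`) -/
theorem hTo_conj_Xt (A : T2Hyp n F H o p) {φ₁ : Sp n F → H} (P1 : Phi1 A φ₁) {c : F} (hc : c ≠ 0) (t : F) :
    A.σo (hT n F o c) * A.Xt t * (A.σo (hT n F o c))⁻¹ = A.Xt (c * t) := by
  have hop := A.hop
  have hoo : o ∈ ({o} : Set (Fin n)) := rfl
  have hoK : o ∈ ({o, p} : Set (Fin n)) := Set.mem_insert o {p}
  have hB : hT n F o c ∈ PhJ n F {o} o := TT_le_PhJ hoo (hT_mem_TT o hc)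
  have hPh : hT n F o c ∈ PhJ n F {o, p} o := TT_le_PhJ hoK (hT_mem_TT o hc)
  have hX : ∀ s : F, Xg n F o p s ∈ PJ n F {o, p} o := fun s => Cfsg.Agent.Lib.Helper12.SPT2G.Xg_mem_P1 hop s
  unfold T2Hyp.Xt
  rw [← P1.onB _ hB, ← P1.onP _ (hX t), ← P1.onP _ (hX (c * t)),
    ← P1.hom.map_conj hPh (PJ_le_PhJ _ o (hX t)), Cfsg.Agent.Lib.Helper12.SPT2G.hT_o_conj_Xg hop hc t]

/-- `σo (hT o c)` conjugates `Yt t` to `Yt (c⁻¹ t)` (local in `P2`) -/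
theorem hTo_conj_Yt (A : T2Hyp n F H o p) {c : F} (hc : c ≠ 0) (t : F) :
    A.σo (hT n F o c) * A.Yt t * (A.σo (hT n F o c))⁻¹ = A.Yt (c⁻¹ * t) := by
  have hop := A.hop
  have hS : hT n F o c ∈ SS n F o := hT_mem_SS o c
  have hY : ∀ s : F, Yg n F o p s ∈ PJ n F {o, p} p := fun s => Cfsg.Agent.Lib.Helper12.SPT2G.Yg_mem_P2 hop s
  unfold T2Hyp.Yt
  rw [← A.h2o _ hS, ← A.hψ₂.map_conj (SS_o_le_P2 hop hS) (hY t),
    Cfsg.Agent.Lib.Helper12.SPT2G.hT_o_conj_Yg hop hc t]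

/-- **NEQ** -/
theorem Nt_eq (A : T2Hyp n F H o p) {φ₁ : Sp n F → H} (P1 : Phi1 A φ₁) (C : ConjRel A) {c : F} (hc : c ≠ 0) :
    A.Ht c * A.Nt = A.Xt c * A.Yt (-c⁻¹) * A.Xt c := by
  have hop := A.hop
  -- `d Nt d⁻¹`
  have h1 : A.σo (hT n F o c) * A.Nt * (A.σo (hT n F o c))⁻¹ = A.Xt c * A.Yt (-c⁻¹) * A.Xt c := by
    have hx := hTo_conj_Xt A P1 hc 1
    have hy := hTo_conj_Yt A hc (-1)
    rw [mul_one] at hx
    rw [mul_neg, mul_one] at hy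
    rw [← hx, ← hy]
    unfold T2Hyp.Nt
    group
  -- `σp (hT p c⁻¹) = Nt d⁻¹ Nt⁻¹`
  have h2 : A.σp (hT n F p c⁻¹) = A.Nt * (A.σo (hT n F o c))⁻¹ * A.Nt⁻¹ := by
    have hc1 := C.C1 _ (hT_mem_SS o c)
    rw [Cfsg.Agent.Lib.Helper5.SPT2NUCONJ.νg_conj_hTo hop c] at hc1
    rw [← Cfsg.Agent.Lib.Helper12.SPT2G.hT_inv p hc, A.hσp.map_inv (hT_mem_SS p c), ← hc1]
    group
  unfold T2Hyp.Ht
  rw [h2, ← h1]
  group

end Cfsg.Agent.Lib.Helper17.SPT2NEQ
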