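import Cfsg.Agent.Lib.Helper20.SPT2Calc
import Cfsg.Agent.Lib.Helper20.SPT2Rel

/-!
# S3713, super-leaf T2 (sub-planner helper20), leaf NSQ: `Nt * Nt = Ht (-1)`
-/

set_option autoImplicit false

namespace Cfsg.Agent.Lib.Helper17.SPT2NSQ

open Matrix Cfsg.Agent.Lib.Helper5 Cfsg.Agent.Lib.Helper14.SpPerfect Cfsg.Agent.Lib.Helper18.SP
open Cfsg.Agent.Lib.Helper20.SPT2

variable {F : Type*} [Field F] {n : ℕ} {H : Type*} [Group H] {o p : Fin n}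

/-- **NSQ** -/
theorem Nt_sq (A : T2Hyp n F H o p) (L : AddRel A)
    (hmul : ∀ s s' : F, s ≠ 0 → s' ≠ 0 → A.Ht (s * s') = A.Ht s * A.Ht s')
    (hneq : ∀ c : F, c ≠ 0 → A.Ht c * A.Nt = A.Xt c * A.Yt (-c⁻¹) * A.Xt c) :
    A.Nt * A.Nt = A.Ht (-1) := by
  have h1ne : (1 : F) ≠ 0 := one_ne_zero
  have hm1ne : (-1 : F) ≠ 0 := neg_ne_zero.mpr one_ne_zero
  -- `Ht 1 = 1`
  have hH1 : A.Ht 1 = 1 := by
    have h := hneq 1 h1ne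
    rw [inv_one] at h
    have h' : A.Ht 1 * A.Nt = A.Nt := h
    exact mul_eq_right.mp h'
  -- `Ht (-1) ^ 2 = 1`
  have hsq : A.Ht (-1) * A.Ht (-1) = 1 := by
    rw [← hmul (-1) (-1) hm1ne hm1ne, neg_mul_neg, one_mul, hH1]
  -- `Ht (-1) * Nt = Nt⁻¹`
  have hinv : A.Ht (-1) * A.Nt = A.Nt⁻¹ := by
    have h := hneq (-1) hm1ne
    rw [inv_neg, inv_one, neg_neg] at h
    rw [h, L.Nt_inv]
  have h2 : A.Ht (-1) = A.Nt⁻¹ * A.Nt⁻¹ := by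
    calc A.Ht (-1) = (A.Ht (-1) * A.Nt) * A.Nt⁻¹ := by rw [mul_inv_cancel_right]
      _ = A.Nt⁻¹ * A.Nt⁻¹ := by rw [hinv]
  have h3 : (A.Ht (-1))⁻¹ = A.Ht (-1) := inv_eq_of_mul_eq_one_right hsq
  calc A.Nt * A.Nt = (A.Nt⁻¹ * A.Nt⁻¹)⁻¹ := by rw [_root_.mul_inv_rev, inv_inv]
    _ = (A.Ht (-1))⁻¹ := by rw [← h2]
    _ = A.Ht (-1) := h3

end Cfsg.Agent.Lib.Helper17.SPT2NSQ
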