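import Cfsg.Agent.Lib.Helper20.SPT2Calc
import Cfsg.Agent.Lib.Helper20.SPT2Rel

/-!
# S3713, super-leaf T2 (sub-planner helper20), leaf REDT: reduction of the steps from `Ph1 = TT o · P1` to `P1`
-/

set_option autoImplicit false

namespace Cfsg.Agent.Lib.Helper17.SPT2REDT

open Matrix Cfsg.Agent.Lib.Helper5 Cfsg.Agent.Lib.Helper14.SpPerfect Cfsg.Agent.Lib.Helper18.SP
open Cfsg.Agent.Lib.Helper20.SPT2

variable {F : Type*} [Field F] {n : ℕ} {H : Type*} [Group H] {o p : Fin n}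

/-- **REDT** -/
theorem step_of_P1 (A : T2Hyp n F H o p) {φ₁ : Sp n F → H} (P1 : Phi1 A φ₁) (s : Sp n F) (st : H)
    (h : ∀ q ∈ PJ n F {o, p} o, SOK A φ₁ (nW n F o * q * s) (A.nto * A.ψ₁ q * st)) :
    ∀ g ∈ PhJ n F {o, p} o, SOK A φ₁ (nW n F o * g * s) (A.nto * φ₁ g * st) := by
  intro g hg
  have hoo : o ∈ ({o} : Set (Fin n)) := rfl
  have hoK : o ∈ ({o, p} : Set (Fin n)) := Set.mem_insert o {p}
  have hno : nW n F o ∈ SS n F o := nW_mem_SS o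
  obtain ⟨t, ht, q, hq, rfl⟩ := PhJ_decomp hoK hg
  have htS : t ∈ SS n F o := TT_le_SS o ht
  have ht' : nW n F o * t * (nW n F o)⁻¹ ∈ TT n F o := nW_conj_TT ht
  have hstep := StepOK.mul_left P1.hom (h q hq) (TT_le_PhJ hoK ht')
  refine StepOK.congr hstep (by group) ?_
  rw [P1.hom.map_mul (TT_le_PhJ hoK ht) (PJ_le_PhJ _ o hq), P1.onB _ (TT_le_PhJ hoo ht), P1.onP _ hq,
    P1.onB _ (TT_le_PhJ hoo ht'), A.hσo.map_conj hno htS]
  unfold T2Hyp.nto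
  group

end Cfsg.Agent.Lib.Helper17.SPT2REDT
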