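import Cfsg.Agent.Lib.Helper26.FSChain
import Cfsg.Agent.Lib.Helper17.SecAut

/-!
Supersoluble fusion systems: refinement of a chain of strongly closed subgroups with cyclic steps
to one with steps of order dividing `p`; consequences.
-/

set_option autoImplicit false

namespace Cfsg.Agent.Lib.Helper17

open Cfsg Cfsg.FusionSystem Cfsg.Agent.Lib.Helper26
open scoped commutatorElement

section GroupPart

variable {Ω : Type*} [Group Ω]

/-- `{y ∈ B | y ^ n ∈ A}` as a subgroup (when it is closed under products). -/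
def powSub (A B : Subgroup Ω) (n : ℕ)
    (h : ∀ y ∈ B, ∀ z ∈ B, y ^ n ∈ A → z ^ n ∈ A → (y * z) ^ n ∈ A) : Subgroup Ω where
  carrier := {y | y ∈ B ∧ y ^ n ∈ A}
  one_mem' := ⟨B.one_mem, by rw [one_pow]; exact A.one_mem⟩
  mul_mem' := fun ha hb => ⟨B.mul_mem ha.1 hb.1, h _ ha.1 _ hb.1 ha.2 hb.2⟩
  inv_mem' := fun ha => ⟨B.inv_mem ha.1, by rw [inv_pow]; exact A.inv_mem ha.2⟩

theorem mem_powSub {A B : Subgroup Ω} {n : ℕ}
    {h : ∀ y ∈ B, ∀ z ∈ B, y ^ n ∈ A → z ^ n ∈ A → (y * z) ^ n ∈ A} {y : Ω} :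
    y ∈ powSub A B n h ↔ y ∈ B ∧ y ^ n ∈ A := Iff.rfl

/-- Generation of `B` modulo `A` by `x`. -/
def GenMod (A B : Subgroup Ω) (x : Ω) : Prop := ∀ y ∈ B, ∃ k : ℤ, (x ^ k)⁻¹ * y ∈ A

theorem pow_mem_iff_quot {A B : Subgroup Ω} [hn : (A.subgroupOf B).Normal] (y : B) (n : ℕ) :
    (y : Ω) ^ n ∈ A ↔ (QuotientGroup.mk y : B ⧸ A.subgroupOf B) ^ n = 1 := by
  rw [← QuotientGroup.mk_pow, QuotientGroup.eq_one_iff, Subgroup.mem_subgroupOf]
  rfl

theorem genMod_quot {A B : Subgroup Ω} [hn : (A.subgroupOf B).Normal] {x : Ω} (hx : x ∈ B)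
    (hgen : GenMod A B x) (y : B) :
    ∃ k : ℤ, (QuotientGroup.mk y : B ⧸ A.subgroupOf B) = (QuotientGroup.mk ⟨x, hx⟩) ^ k := by
  obtain ⟨k, hk⟩ := hgen y y.2
  refine ⟨k, ?_⟩
  symm
  rw [← QuotientGroup.mk_zpow, QuotientGroup.eq, Subgroup.mem_subgroupOf]
  exact hk

theorem mul_pow_mem_of_genMod {A B : Subgroup Ω} (hn : (A.subgroupOf B).Normal) {x : Ω} (hx : x ∈ B)
    (hgen : GenMod A B x) (n : ℕ) :
    ∀ y ∈ B, ∀ z ∈ B, y ^ n ∈ A → z ^ n ∈ A → (y * z) ^ n ∈ A := by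
  intro y hy z hz hyn hzn
  have h1 := (pow_mem_iff_quot (A := A) ⟨y, hy⟩ n).mp hyn
  have h2 := (pow_mem_iff_quot (A := A) ⟨z, hz⟩ n).mp hzn
  have h3 : ((⟨y * z, B.mul_mem hy hz⟩ : B) : Ω) ^ n ∈ A := by
    rw [pow_mem_iff_quot]
    have e : (⟨y * z, B.mul_mem hy hz⟩ : B) = ⟨y, hy⟩ * ⟨z, hz⟩ := rfl
    rw [e, QuotientGroup.mk_mul]
    obtain ⟨a, ha⟩ := genMod_quot hx hgen ⟨y, hy⟩
    obtain ⟨b, hb⟩ := genMod_quot hx hgen ⟨z, hz⟩
    have hc : Commute (QuotientGroup.mk ⟨y, hy⟩ : B ⧸ A.subgroupOf B) (QuotientGroup.mk ⟨z, hz⟩) := by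
      rw [ha, hb]
      exact (Commute.refl _).zpow_zpow a b
    rw [hc.mul_pow, h1, h2, one_mul]
  exact h3

/-- The key characterization: elements of `B` whose `p^e`-th power lies in `A` are generated modulo `A`
by `x ^ p`, when `x` has order exactly `p ^ (e+1)` modulo `A`. -/
theorem genMod_pow {A B : Subgroup Ω} (hn : (A.subgroupOf B).Normal) {x : Ω} (hx : x ∈ B)
    (hgen : GenMod A B x) {p : ℕ} (hp : p.Prime) (e : ℕ) (h1 : x ^ p ^ (e + 1) ∈ A)
    (h2 : x ^ p ^ e ∉ A) (y : Ω) (hy : y ∈ B) (hye : y ^ p ^ e ∈ A) :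
    ∃ k : ℤ, ((x ^ p) ^ k)⁻¹ * y ∈ A := by
  have : Fact p.Prime := ⟨hp⟩
  set g : B ⧸ A.subgroupOf B := QuotientGroup.mk ⟨x, hx⟩ with hg
  have hg1 : g ^ p ^ (e + 1) = 1 := (pow_mem_iff_quot (A := A) ⟨x, hx⟩ _).mp h1
  have hg2 : ¬ g ^ p ^ e = 1 := fun h => h2 ((pow_mem_iff_quot (A := A) ⟨x, hx⟩ _).mpr h)
  have hord : orderOf g = p ^ (e + 1) := orderOf_eq_prime_pow hg2 hg1
  obtain ⟨k, hk⟩ := genMod_quot hx hgen ⟨y, hy⟩
  have h3 := (pow_mem_iff_quot (A := A) ⟨y, hy⟩ _).mp hye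
  rw [hk, ← hg, ← zpow_natCast, ← zpow_mul] at h3
  have h4 := (orderOf_dvd_iff_zpow_eq_one).mpr h3
  rw [hord] at h4
  have h5 : (p : ℤ) ∣ k := by
    have hpe : ((p ^ e : ℕ) : ℤ) ≠ 0 := by
      exact_mod_cast (pow_pos hp.pos e).ne'
    have h6 : (p : ℤ) * ((p ^ e : ℕ) : ℤ) ∣ k * ((p ^ e : ℕ) : ℤ) := by
      have : ((p ^ (e + 1) : ℕ) : ℤ) = (p : ℤ) * ((p ^ e : ℕ) : ℤ) := by
        push_cast
        ring
      rw [← this]
      exact h4
    exact Int.dvd_of_mul_dvd_mul_right hpe h6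
  obtain ⟨k', rfl⟩ := h5
  refine ⟨k', ?_⟩
  have h7 : (QuotientGroup.mk ⟨y, hy⟩ : B ⧸ A.subgroupOf B) = (QuotientGroup.mk ⟨x, hx⟩) ^ ((p : ℤ) * k') := hk
  rw [← QuotientGroup.mk_zpow] at h7
  have h8 := QuotientGroup.eq.mp h7.symm
  rw [Subgroup.mem_subgroupOf] at h8
  have h9 : (x ^ p) ^ k' = x ^ ((p : ℤ) * k') := by
    rw [zpow_mul, zpow_natCast]
  rw [h9]
  exact h8

end GroupPart

section FusionPart

variable {Ω : Type*} [Group Ω] {S : Subgroup Ω}

theorem powSub_stronglyClosed (F : FusionSystem S) {A B : Subgroup Ω} (hA : F.StronglyClosed A)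
    (hB : F.StronglyClosed B) (n : ℕ)
    (h : ∀ y ∈ B, ∀ z ∈ B, y ^ n ∈ A → z ^ n ∈ A → (y * z) ^ n ∈ A) :
    F.StronglyClosed (powSub A B n h) := by
  refine ⟨fun y hy => hB.1 hy.1, fun R hR φ hφ x => ?_⟩
  have hRB : R ≤ B := fun y hy => (hR hy).1
  refine ⟨hB.2 R hRB φ hφ x, ?_⟩
  rw [← map_pow]
  have hxn : ((x ^ n : R) : Ω) ∈ A := by
    rw [Subgroup.coe_pow]
    exact (hR x.2).2
  have hφ' := inclusion_comp_mem F (inf_le_left : R ⊓ A ≤ R) hφ
  exact hA.2 (R ⊓ A) inf_le_right _ hφ' ⟨(x ^ n : R), ⟨(x ^ n).2, hxn⟩⟩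

/-- Chains of strongly closed subgroups with cyclic steps of order dividing `p`. -/
inductive PChain (F : FusionSystem S) (p : ℕ) : Subgroup Ω → Subgroup Ω → Prop
  | refl (A : Subgroup Ω) : PChain F p A A
  | step {A B C : Subgroup Ω} : PChain F p A B → F.StronglyClosed C → CycStep p B C → PChain F p A C

theorem PChain.trans {F : FusionSystem S} {p : ℕ} {A B C : Subgroup Ω} (h1 : PChain F p A B)
    (h2 : PChain F p B C) : PChain F p A C := by
  induction h2 with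
  | refl => exact h1
  | step _ hC hstep ih => exact PChain.step ih hC hstep

theorem pchain_of_genMod {p : ℕ} [Fact p.Prime] (F : FusionSystem S) {A : Subgroup Ω}
    (hA : F.StronglyClosed A) :
    ∀ (e : ℕ) (B : Subgroup Ω) (x : Ω), F.StronglyClosed B → A ≤ B → x ∈ B → GenMod A B x →
      x ^ p ^ e ∈ A → PChain F p A B := by
  intro e
  induction e with
  | zero =>
    intro B x hB hAB hx hgen hxe
    rw [pow_zero, pow_one] at hxe
    have : B = A := le_antisymm (fun y hy => by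
      obtain ⟨k, hk⟩ := hgen y hy
      have : y = x ^ k * ((x ^ k)⁻¹ * y) := by group
      rw [this]
      exact A.mul_mem (A.zpow_mem hxe k) hk) hAB
    rw [this]
    exact PChain.refl A
  | succ e ih =>
    intro B x hB hAB hx hgen hxe
    by_cases hxe' : x ^ p ^ e ∈ A
    · exact ih B x hB hAB hx hgen hxe'
    · have hn : (A.subgroupOf B).Normal :=
        Subgroup.normal_subgroupOf_of_le_normalizer (hB.1.trans (le_normalizer_of_stronglyClosed F hA))
      obtain ⟨B', hB'⟩ : ∃ B', B' = powSub A B (p ^ e) (mul_pow_mem_of_genMod hn hx hgen _) := ⟨_, rfl⟩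
      have hB'sc : F.StronglyClosed B' := hB' ▸ powSub_stronglyClosed F hA hB _ _
      have hmem : ∀ y, y ∈ B' ↔ y ∈ B ∧ y ^ p ^ e ∈ A := fun y => by rw [hB']; exact mem_powSub
      have hAB' : A ≤ B' := fun a ha => (hmem a).mpr ⟨hAB ha, A.pow_mem ha _⟩
      have hB'B : B' ≤ B := fun y hy => ((hmem y).mp hy).1
      have hxpe : (x ^ p) ^ p ^ e ∈ A := by rw [← pow_mul, ← pow_succ']; exact hxe
      have hxp : x ^ p ∈ B' := (hmem _).mpr ⟨B.pow_mem hx p, hxpe⟩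
      have hgen' : GenMod A B' (x ^ p) := fun y hy =>
        genMod_pow hn hx hgen (Fact.out) e hxe hxe' y ((hmem y).mp hy).1 ((hmem y).mp hy).2
      have h1 := ih B' (x ^ p) hB'sc hAB' hxp hgen' hxpe
      refine PChain.step h1 hB ⟨hB'B, x, hx, hxp, fun y hy => ?_⟩
      obtain ⟨k, hk⟩ := hgen y hy
      exact ⟨k, hAB' hk⟩

theorem genMod_of_sup_zpowers {A B : Subgroup Ω} {x : Ω} (hx : x ∈ Subgroup.normalizer (A : Set Ω))
    (hB : B = A ⊔ Subgroup.zpowers x) : GenMod A B x := by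
  intro y hy
  have h1 : y ∈ ((Subgroup.zpowers x ⊔ A : Subgroup Ω) : Set Ω) := by
    rw [sup_comm, ← hB]
    exact hy
  rw [Subgroup.coe_mul_of_left_le_normalizer_right (Subgroup.zpowers x) A
    (Subgroup.zpowers_le.mpr hx)] at h1
  obtain ⟨z, hz, a, ha, rfl⟩ := h1
  obtain ⟨k, rfl⟩ := hz
  refine ⟨k, ?_⟩
  have : (x ^ k)⁻¹ * (x ^ k * a) = a := by group
  rw [this]
  exact ha

/-- From a supersoluble chain to a `PChain`. -/
theorem pchain_of_supersoluble [Finite S] {p : ℕ} [Fact p.Prime] (hS : IsPGroup p S) (F : FusionSystem S)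
    (m : ℕ) (c : Fin (m + 1) → Subgroup Ω) (hsc : ∀ i : Fin (m + 1), F.StronglyClosed (c i))
    (hstep : ∀ i : Fin m, c i.castSucc ≤ c i.succ ∧
      ∃ x ∈ S, c i.succ = c i.castSucc ⊔ Subgroup.zpowers x) :
    ∀ i : Fin (m + 1), PChain F p (c 0) (c i) := by
  intro i
  induction i using Fin.induction with
  | zero => exact PChain.refl _
  | succ i ih =>
    obtain ⟨hle, x, hxS, hx⟩ := hstep i
    apply ih.trans
    obtain ⟨e, he⟩ := hS ⟨x, hxS⟩
    have he' : x ^ p ^ e = 1 := congrArg Subtype.val he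
    have hxB : x ∈ c i.succ := by
      rw [hx]
      exact le_sup_right (a := c i.castSucc) (Subgroup.mem_zpowers x)
    exact pchain_of_genMod F (hsc _) e (c i.succ) x (hsc _) hle hxB
      (genMod_of_sup_zpowers (le_normalizer_of_stronglyClosed F (hsc _) hxS) hx)
      (by rw [he']; exact Subgroup.one_mem _)

/-- Conversion to an `ℕ`-indexed chain. -/
theorem PChain.exists_nat_chain {F : FusionSystem S} {p : ℕ} {A B : Subgroup Ω} (hA : F.StronglyClosed A)
    (h : PChain F p A B) :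
    ∃ (Qn : ℕ → Subgroup Ω) (N : ℕ), Qn 0 = A ∧ (∀ i, N ≤ i → Qn i = B) ∧
      (∀ i, F.StronglyClosed (Qn i)) ∧ ∀ i, CycStep p (Qn i) (Qn (i + 1)) := by
  induction h with
  | refl => exact ⟨fun _ => A, 0, rfl, fun _ _ => rfl, fun _ => hA, fun _ => CycStep.refl p A⟩
  | @step B C _ hC hBC ih =>
    obtain ⟨Qn, N, h0, hN, hsc, hst⟩ := ih
    refine ⟨fun i => if i ≤ N then Qn i else C, N + 1, ?_, ?_, ?_, ?_⟩
    · show (if 0 ≤ N then Qn 0 else C) = A
      rw [if_pos (Nat.zero_le N), h0]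
    · intro i hi
      show (if i ≤ N then Qn i else C) = C
      rw [if_neg (by omega)]
    · intro i
      show F.StronglyClosed (if i ≤ N then Qn i else C)
      split_ifs
      · exact hsc i
      · exact hC
    · intro i
      show CycStep p (if i ≤ N then Qn i else C) (if i + 1 ≤ N then Qn (i + 1) else C)
      by_cases h1 : i + 1 ≤ N
      · rw [if_pos h1, if_pos (by omega)]
        exact hst i
      · rw [if_neg h1]
        by_cases h2 : i ≤ N
        · rw [if_pos h2]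
          have : i = N := by omega
          rw [this, hN N le_rfl]
          exact hBC
        · rw [if_neg h2]
          exact CycStep.refl p C

/-- The refined `ℕ`-indexed chain of a supersoluble system. -/
theorem exists_nat_chain_of_supersoluble [Finite S] {p : ℕ} [Fact p.Prime] (hS : IsPGroup p S)
    (F : FusionSystem S)
    (m : ℕ) (c : Fin (m + 1) → Subgroup Ω) (h0 : c 0 = ⊥) (hlast : c (Fin.last m) = S)
    (hsc : ∀ i : Fin (m + 1), F.StronglyClosed (c i))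
    (hstep : ∀ i : Fin m, c i.castSucc ≤ c i.succ ∧
      ∃ x ∈ S, c i.succ = c i.castSucc ⊔ Subgroup.zpowers x) :
    ∃ (Qn : ℕ → Subgroup Ω) (N : ℕ), Qn 0 = ⊥ ∧ (∀ i, N ≤ i → Qn i = S) ∧
      (∀ i, F.StronglyClosed (Qn i)) ∧ ∀ i, CycStep p (Qn i) (Qn (i + 1)) := by
  have h1 := pchain_of_supersoluble hS F m c hsc hstep (Fin.last m)
  rw [h0, hlast] at h1
  exact h1.exists_nat_chain (stronglyClosed_bot F)

/-- **A supersoluble saturated fusion system has `S` normal.** -/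
theorem isNormal_top_of_supersoluble [Finite S] {p : ℕ} [Fact p.Prime] (hS : IsPGroup p S)
    (F : FusionSystem S) (hF : F.IsSaturated p)
    (m : ℕ) (c : Fin (m + 1) → Subgroup Ω) (h0 : c 0 = ⊥) (hlast : c (Fin.last m) = S)
    (hsc : ∀ i : Fin (m + 1), F.StronglyClosed (c i))
    (hstep : ∀ i : Fin m, c i.castSucc ≤ c i.succ ∧
      ∃ x ∈ S, c i.succ = c i.castSucc ⊔ Subgroup.zpowers x) :
    F.IsNormal S := by
  have hpp : p.Prime := Fact.out
  obtain ⟨Qn, N, hQ0, hQN, hQsc, hQst⟩ := exists_nat_chain_of_supersoluble hS F m c h0 hlast hsc hstep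
  have hmono : Monotone Qn := monotone_nat_of_le_succ (fun i => (hQst i).1)
  apply isNormal_of_nat_chain hS F hF S Qn hmono hQsc ?_ N (hQN N le_rfl) (stronglyClosed_top F) ?_
  · intro i
    rw [Subgroup.commutator_le]
    intro s hs y hy
    have hMS : Qn (i + 1) ≤ S := (hQsc (i + 1)).1
    have hfin : Finite (Qn (i + 1)) := finite_of_le hMS
    have hn : ((Qn i).subgroupOf (Qn (i + 1))).Normal :=
      Subgroup.normal_subgroupOf_of_le_normalizer (hMS.trans (le_normalizer_of_stronglyClosed F (hQsc i)))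
    have hu : MulAut.conj s ∈ presSub (Qn (i + 1)) (Qn i) := by
      refine ⟨fun x => ?_, fun x => ?_⟩
      · exact Subgroup.mem_normalizer_iff.mp (le_normalizer_of_stronglyClosed F (hQsc (i + 1)) hs) x
      · exact Subgroup.mem_normalizer_iff.mp (le_normalizer_of_stronglyClosed F (hQsc i) hs) x
    obtain ⟨j, hj⟩ := hS ⟨s, hs⟩
    have hj' : s ^ p ^ j = 1 := congrArg Subtype.val hj
    have huj : (MulAut.conj s) ^ (p ^ j) = 1 := by
      rw [← map_pow, hj', map_one]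
    have h2 := triv_of_cycStep_of_pow hpp (hQst i) hu huj y⁻¹ ((Qn (i + 1)).inv_mem hy)
    have h3 : ⁅s, y⁆ = ((y⁻¹)⁻¹ * (MulAut.conj s) y⁻¹)⁻¹ := by
      rw [MulAut.conj_apply, commutatorElement_def]
      group
    rw [h3]
    exact (Qn i).inv_mem h2
  · intro P _ _ α _
    refine ⟨0, fun x hx => ?_⟩
    rw [hQ0] at hx
    have : x = 1 := Subtype.ext (Subgroup.mem_bot.mp hx)
    rw [this, map_one]

end FusionPart

end Cfsg.Agent.Lib.Helper17
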