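import Cfsg.Agent.Lib.Helper26.FSCyclicExt
import Cfsg.Agent.Lib.Helper17.SSChain

/-!
Supersoluble fusion systems: `p'`-subgroups of `Aut(S)` are abelian of exponent dividing `p - 1`
when every saturated fusion system over `S` is supersoluble.
-/

set_option autoImplicit false

namespace Cfsg.Agent.Lib.Helper17

open Cfsg Cfsg.FusionSystem Cfsg.Agent.Lib.Helper26

variable {Ω : Type*} [Group Ω] {S : Subgroup Ω}

/-- The group `S ⋊ H` for a group `H` of automorphisms of `S`. -/
abbrev AutExt (H : Subgroup (MulAut S)) : Type _ := SemidirectProduct S H H.subtype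

/-- The fusion system of `S ⋊ H` over `S`. -/
def autSystem (H : Subgroup (MulAut S)) : FusionSystem S :=
  realizedSystem (SemidirectProduct.inl : S →* AutExt H) SemidirectProduct.inl_injective

theorem autSystem_saturated [Finite S] {p : ℕ} [Fact p.Prime] (hS : IsPGroup p S)
    (H : Subgroup (MulAut S)) (hcop : (Nat.card H).Coprime p) : (autSystem H).IsSaturated p := by
  have hpp : p.Prime := Fact.out
  have hinj : Function.Injective (SemidirectProduct.inl : S →* AutExt H) :=
    SemidirectProduct.inl_injective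
  have hfinG : Finite (AutExt H) := Finite.of_equiv _ SemidirectProduct.equivProd.symm
  have hpr : IsPGroup p (SemidirectProduct.inl : S →* AutExt H).range :=
    hS.of_equiv (MonoidHom.ofInjective hinj)
  have hcard : Nat.card (SemidirectProduct.inl : S →* AutExt H).range = Nat.card S :=
    (Nat.card_congr (MonoidHom.ofInjective hinj).toEquiv).symm
  have hidx : (SemidirectProduct.inl : S →* AutExt H).range.index = Nat.card H := by
    have h1 := Subgroup.card_mul_index (SemidirectProduct.inl : S →* AutExt H).range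
    rw [SemidirectProduct.card, hcard] at h1
    exact Nat.eq_of_mul_eq_mul_left Nat.card_pos h1
  have hnd : ¬ p ∣ (SemidirectProduct.inl : S →* AutExt H).range.index := by
    rw [hidx]
    intro hdvd
    have := Nat.eq_one_of_dvd_coprimes hcop hdvd (dvd_refl p)
    exact hpp.one_lt.ne' this
  exact realizedSystem_saturated p _ hinj (hpr.toSylow hnd) rfl

theorem subtype_comp_mem_autSystem (H : Subgroup (MulAut S)) {h : MulAut S} (hh : h ∈ H) :
    S.subtype.comp h.toMonoidHom ∈ (autSystem H).Hom S := by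
  refine ⟨le_rfl, fun x => (h x).2, SemidirectProduct.inr ⟨h, hh⟩, fun x => ?_⟩
  have h1 := SemidirectProduct.inl_aut (φ := H.subtype) ⟨h, hh⟩ x
  simp only [Subgroup.coe_subtype] at h1
  have h2 : (SemidirectProduct.inr ⟨h, hh⟩ : AutExt H)⁻¹ = SemidirectProduct.inr (⟨h, hh⟩ : H)⁻¹ :=
    (map_inv _ _).symm
  rw [h2]
  exact h1

/-- Elements of `H` preserve the strongly closed subgroups of `autSystem H`. -/
theorem mem_iff_of_stronglyClosed (H : Subgroup (MulAut S)) {Q : Subgroup Ω}
    (hQ : (autSystem H).StronglyClosed Q) {h : MulAut S} (hh : h ∈ H) (x : S) :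
    x ∈ Q.subgroupOf S ↔ h x ∈ Q.subgroupOf S := by
  have key : ∀ k ∈ H, ∀ y : S, y ∈ Q.subgroupOf S → k y ∈ Q.subgroupOf S := by
    intro k hk y hy
    rw [Subgroup.mem_subgroupOf] at hy ⊢
    have h1 := subtype_comp_mem_autSystem H hk
    have h2 := inclusion_comp_mem (autSystem H) hQ.1 h1
    exact hQ.2 Q le_rfl _ h2 ⟨y, hy⟩
  constructor
  · exact key h hh x
  · intro hx
    have := key h⁻¹ (H.inv_mem hh) _ hx
    rwa [MulAut.inv_apply_self] at this

theorem cycStep_subgroupOf {p : ℕ} {N M : Subgroup Ω} (hM : M ≤ S) (h : CycStep p N M) :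
    CycStep p (N.subgroupOf S) (M.subgroupOf S) := by
  obtain ⟨hle, x, hx, hxp, hgen⟩ := h
  refine ⟨fun y hy => hle hy, ⟨x, hM hx⟩, hx, ?_, fun y hy => ?_⟩
  · rw [Subgroup.mem_subgroupOf, Subgroup.coe_pow]
    exact hxp
  · obtain ⟨k, hk⟩ := hgen y hy
    refine ⟨k, ?_⟩
    rw [Subgroup.mem_subgroupOf, Subgroup.coe_mul, Subgroup.coe_inv, Subgroup.coe_zpow]
    exact hk

/-- An element of a `p'`-group of automorphisms of `S` that acts trivially on all factors of a chain
from `⊥` to `⊤` is trivial. -/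
theorem eq_one_of_stab [Finite S] {p : ℕ} [Fact p.Prime] (hS : IsPGroup p S)
    (H : Subgroup (MulAut S)) (hcop : (Nat.card H).Coprime p) (T : ℕ → Subgroup S) (hmono : Monotone T)
    (h0 : T 0 = ⊥) (N : ℕ) (hN : T N = ⊤) {w : MulAut S} (hw : w ∈ H)
    (hstep : ∀ i, ∀ x ∈ T (i + 1), x⁻¹ * w x ∈ T i) : w = 1 := by
  obtain ⟨k, hk⟩ := stab_chain (p := p) (α := w) T hmono (fun i => inferInstance)
    (fun i => (hS.to_subgroup (T i)).exists_card_eq)
    ⟨0, fun x hx => by
      rw [h0, Subgroup.mem_bot] at hx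
      rw [hx, map_one]⟩ hstep N
  have h1 : w ^ (p ^ k) = 1 := by
    ext x
    have := hk x (hN ▸ Subgroup.mem_top x)
    rw [this]
    rfl
  have hfin : Finite (MulAut S) := inferInstance
  have h2 : w ^ Nat.card H = 1 := by
    have := pow_card_eq_one' (G := H) (x := ⟨w, hw⟩)
    exact congrArg Subtype.val this
  have h3 : orderOf w ∣ Nat.gcd (p ^ k) (Nat.card H) :=
    Nat.dvd_gcd (orderOf_dvd_of_pow_eq_one h1) (orderOf_dvd_of_pow_eq_one h2)
  have h4 : Nat.gcd (p ^ k) (Nat.card H) = 1 := (Nat.Coprime.pow_left k hcop.symm)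
  rw [h4, Nat.dvd_one, orderOf_eq_one_iff] at h3
  exact h3

/-- **`p'`-subgroups of `Aut(S)` are abelian of exponent dividing `p - 1`** when `autSystem H` is
supersoluble. -/
theorem comm_and_exponent_of_supersoluble [Finite S] {p : ℕ} [Fact p.Prime] (hS : IsPGroup p S)
    (H : Subgroup (MulAut S)) (hcop : (Nat.card H).Coprime p)
    (m : ℕ) (c : Fin (m + 1) → Subgroup Ω) (h0 : c 0 = ⊥) (hlast : c (Fin.last m) = S)
    (hsc : ∀ i : Fin (m + 1), (autSystem H).StronglyClosed (c i))
    (hstep : ∀ i : Fin m, c i.castSucc ≤ c i.succ ∧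
      ∃ x ∈ S, c i.succ = c i.castSucc ⊔ Subgroup.zpowers x) :
    (∀ a ∈ H, ∀ b ∈ H, a * b = b * a) ∧ ∀ h ∈ H, h ^ (p - 1) = 1 := by
  have hpp : p.Prime := Fact.out
  obtain ⟨Qn, N, hQ0, hQN, hQsc, hQst⟩ :=
    exists_nat_chain_of_supersoluble hS (autSystem H) m c h0 hlast hsc hstep
  obtain ⟨T, hT⟩ : ∃ T : ℕ → Subgroup S, T = fun i => (Qn i).subgroupOf S := ⟨_, rfl⟩
  have hTi : ∀ i, T i = (Qn i).subgroupOf S := fun i => by rw [hT]
  have hmono : Monotone T := by
    apply monotone_nat_of_le_succ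
    intro i
    rw [hTi, hTi]
    exact fun y hy => (hQst i).1 hy
  have hT0 : T 0 = ⊥ := by
    rw [hTi, hQ0]
    exact Subgroup.bot_subgroupOf S
  have hTN : T N = ⊤ := by
    rw [hTi, hQN N le_rfl]
    exact Subgroup.subgroupOf_self S
  have hnorm : ∀ i, (T i).Normal := by
    intro i
    rw [hTi]
    exact Subgroup.normal_subgroupOf_of_le_normalizer (le_normalizer_of_stronglyClosed _ (hQsc i))
  have hcyc : ∀ i, CycStep p (T i) (T (i + 1)) := by
    intro i
    rw [hTi, hTi]
    exact cycStep_subgroupOf (hQsc (i + 1)).1 (hQst i)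
  have hpres : ∀ h ∈ H, ∀ i, h ∈ presSub (T (i + 1)) (T i) := by
    intro h hh i
    refine ⟨fun x => ?_, fun x => ?_⟩
    · rw [hTi]
      exact mem_iff_of_stronglyClosed H (hQsc (i + 1)) hh x
    · rw [hTi]
      exact mem_iff_of_stronglyClosed H (hQsc i) hh x
  constructor
  · intro a ha b hb
    have hw : a * b * a⁻¹ * b⁻¹ ∈ H := H.mul_mem (H.mul_mem (H.mul_mem ha hb) (H.inv_mem ha)) (H.inv_mem hb)
    have h1 : a * b * a⁻¹ * b⁻¹ = 1 := by
      apply eq_one_of_stab hS H hcop T hmono hT0 N hTN hw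
      intro i x hx
      have := hnorm i
      exact commutator_triv_of_cycStep (hcyc i) (hpres a ha i) (hpres b hb i) x hx
    calc a * b = (a * b * a⁻¹ * b⁻¹) * (b * a) := by group
      _ = b * a := by rw [h1, one_mul]
  · intro h hh
    apply eq_one_of_stab hS H hcop T hmono hT0 N hTN (H.pow_mem hh _)
    intro i x hx
    have := hnorm i
    exact pow_pred_triv_of_cycStep hpp (hcyc i) (hpres h hh i) x hx

end Cfsg.Agent.Lib.Helper17
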