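import Cfsg.Agent.Lib.Helper17.AbInv
import Cfsg.Agent.Lib.Helper17.SSAut

/-!
Abelian `p`-groups with pairwise distinct invariants: a chain of characteristic subgroups with cyclic
steps; consequences for `p'`-groups of automorphisms.
-/

set_option autoImplicit false

namespace Cfsg.Agent.Lib.Helper17

open Cfsg.Agent.Lib.Helper26

section Generic

variable {P : Type*} [Group P]

/-- Chains of "good" subgroups with cyclic steps of order dividing `p`. -/
inductive CChain (Good : Subgroup P → Prop) (p : ℕ) : Subgroup P → Subgroup P → Prop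
  | refl (A : Subgroup P) : CChain Good p A A
  | step {A B C : Subgroup P} : CChain Good p A B → Good C → CycStep p B C → CChain Good p A C

theorem CChain.trans {Good : Subgroup P → Prop} {p : ℕ} {A B C : Subgroup P} (h1 : CChain Good p A B)
    (h2 : CChain Good p B C) : CChain Good p A C := by
  induction h2 with
  | refl => exact h1
  | step _ hC hstep ih => exact CChain.step ih hC hstep

theorem CChain.exists_nat_chain {Good : Subgroup P → Prop} {p : ℕ} {A B : Subgroup P} (hA : Good A)
    (h : CChain Good p A B) :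
    ∃ (Qn : ℕ → Subgroup P) (N : ℕ), Qn 0 = A ∧ (∀ i, N ≤ i → Qn i = B) ∧
      (∀ i, Good (Qn i)) ∧ ∀ i, CycStep p (Qn i) (Qn (i + 1)) := by
  induction h with
  | refl => exact ⟨fun _ => A, 0, rfl, fun _ _ => rfl, fun _ => hA, fun _ => CycStep.refl p A⟩
  | @step B C _ hC hBC ih =>
    obtain ⟨Qn, N, h0, hN, hsc, hst⟩ := ih
    refine ⟨fun i => if i ≤ N then Qn i else C, N + 1, ?_, ?_, ?_, ?_⟩
    · show (if 0 ≤ N then Qn 0 else C) = A
      rw [if_pos (Nat.zero_le N), h0]
    · intro i hi
      show (if i ≤ N then Qn i else C) = C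
      rw [if_neg (by omega)]
    · intro i
      show Good (if i ≤ N then Qn i else C)
      split_ifs
      · exact hsc i
      · exact hC
    · intro i
      show CycStep p (if i ≤ N then Qn i else C) (if i + 1 ≤ N then Qn (i + 1) else C)
      by_cases h1 : i + 1 ≤ N
      · rw [if_pos h1, if_pos (by omega)]
        exact hst i
      · rw [if_neg h1]
        by_cases h2 : i ≤ N
        · rw [if_pos h2]
          have : i = N := by omega
          rw [this, hN N le_rfl]
          exact hBC
        · rw [if_neg h2]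
          exact CycStep.refl p C

/-- A `p'`-group of automorphisms preserving a chain with cyclic steps of order dividing `p` is abelian of
exponent dividing `p - 1`. -/
theorem comm_and_exponent_of_chain [Finite P] {p : ℕ} [Fact p.Prime] (hP : IsPGroup p P)
    (H : Subgroup (MulAut P)) (hcop : (Nat.card H).Coprime p) (T : ℕ → Subgroup P)
    (hT0 : T 0 = ⊥) (N : ℕ) (hTN : T N = ⊤) (hnorm : ∀ i, (T i).Normal)
    (hcyc : ∀ i, CycStep p (T i) (T (i + 1)))
    (hpres : ∀ h ∈ H, ∀ i, h ∈ presSub (T (i + 1)) (T i)) :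
    (∀ a ∈ H, ∀ b ∈ H, a * b = b * a) ∧ ∀ h ∈ H, h ^ (p - 1) = 1 := by
  have hpp : p.Prime := Fact.out
  have hmono : Monotone T := monotone_nat_of_le_succ (fun i => (hcyc i).1)
  -- the statement `eq_one_of_stab` is about subgroups of a subgroup; redo it here
  have key : ∀ w ∈ H, (∀ i, ∀ x ∈ T (i + 1), x⁻¹ * w x ∈ T i) → w = 1 := by
    intro w hw hstep
    obtain ⟨k, hk⟩ := stab_chain (p := p) (α := w) T hmono (fun i => inferInstance)
      (fun i => (hP.to_subgroup (T i)).exists_card_eq)
      ⟨0, fun x hx => by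
        rw [hT0, Subgroup.mem_bot] at hx
        rw [hx, map_one]⟩ hstep N
    have h1 : w ^ (p ^ k) = 1 := by
      ext x
      have := hk x (hTN ▸ Subgroup.mem_top x)
      rw [this]
      rfl
    have hfin : Finite (MulAut P) := inferInstance
    have h2 : w ^ Nat.card H = 1 := by
      have := pow_card_eq_one' (G := H) (x := ⟨w, hw⟩)
      exact congrArg Subtype.val this
    have h3 : orderOf w ∣ Nat.gcd (p ^ k) (Nat.card H) :=
      Nat.dvd_gcd (orderOf_dvd_of_pow_eq_one h1) (orderOf_dvd_of_pow_eq_one h2)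
    have h4 : Nat.gcd (p ^ k) (Nat.card H) = 1 := (Nat.Coprime.pow_left k hcop.symm)
    rw [h4, Nat.dvd_one, orderOf_eq_one_iff] at h3
    exact h3
  constructor
  · intro a ha b hb
    have hw : a * b * a⁻¹ * b⁻¹ ∈ H := H.mul_mem (H.mul_mem (H.mul_mem ha hb) (H.inv_mem ha)) (H.inv_mem hb)
    have h1 : a * b * a⁻¹ * b⁻¹ = 1 := by
      apply key _ hw
      intro i x hx
      have := hnorm i
      exact commutator_triv_of_cycStep (hcyc i) (hpres a ha i) (hpres b hb i) x hx
    calc a * b = (a * b * a⁻¹ * b⁻¹) * (b * a) := by group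
      _ = b * a := by rw [h1, one_mul]
  · intro h hh
    apply key _ (H.pow_mem hh _)
    intro i x hx
    have := hnorm i
    exact pow_pred_triv_of_cycStep hpp (hcyc i) (hpres h hh i) x hx

end Generic

section Pull

variable {P : Type*} [Group P] {ι : Type} [Fintype ι] [DecidableEq ι] {p : ℕ} {e : ι → ℕ}

/-- Pull back a subgroup of the coordinate group along `f`. -/
def pullSub (f : P ≃* Multiplicative ((l : ι) → ZMod (p ^ e l)))
    (W : AddSubgroup ((l : ι) → ZMod (p ^ e l))) : Subgroup P :=
  (AddSubgroup.toSubgroup W).comap f.toMonoidHom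

theorem mem_pullSub (f : P ≃* Multiplicative ((l : ι) → ZMod (p ^ e l)))
    (W : AddSubgroup ((l : ι) → ZMod (p ^ e l))) (s : P) :
    s ∈ pullSub f W ↔ Multiplicative.toAdd (f s) ∈ W := Iff.rfl

/-- Characteristic subgroups. -/
def IsCharSub (T : Subgroup P) : Prop := ∀ α : MulAut P, ∀ x, x ∈ T ↔ α x ∈ T

theorem isCharSub_pullSub (f : P ≃* Multiplicative ((l : ι) → ZMod (p ^ e l))) (k j : ℕ) :
    IsCharSub (pullSub f (Wc p e k j)) := by
  intro α x
  rw [mem_pullSub, mem_pullSub]
  have h1 := Wc_invariant p e k j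
    (AddEquiv.toMultiplicative.symm ((f.symm.trans α).trans f)) (Multiplicative.toAdd (f x))
  rw [h1]
  have h2 : (AddEquiv.toMultiplicative.symm ((f.symm.trans α).trans f)) (Multiplicative.toAdd (f x)) =
      Multiplicative.toAdd (f (α x)) := by
    show Multiplicative.toAdd (((f.symm.trans α).trans f) (Multiplicative.ofAdd (Multiplicative.toAdd (f x)))) = _
    rw [ofAdd_toAdd]
    simp
  rw [h2]

theorem cycStep_pullSub [Fact p.Prime] (hinj : Function.Injective e)
    (f : P ≃* Multiplicative ((l : ι) → ZMod (p ^ e l))) (k j : ℕ) :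
    CycStep p (pullSub f (Wc p e k j)) (pullSub f (Wc p e k (j + 1))) := by
  obtain ⟨g, hg, hpg, hgen⟩ := Wc_step p e hinj k j
  refine ⟨fun s hs => Wc_le_succ p e k j hs, f.symm (Multiplicative.ofAdd g), ?_, ?_, ?_⟩
  · rw [mem_pullSub, MulEquiv.apply_symm_apply]
    exact hg
  · rw [mem_pullSub, map_pow, MulEquiv.apply_symm_apply, toAdd_pow]
    exact hpg
  · intro y hy
    obtain ⟨c, hc⟩ := hgen _ hy
    refine ⟨c, ?_⟩
    rw [mem_pullSub, map_mul, map_inv, map_zpow, MulEquiv.apply_symm_apply, toAdd_mul, toAdd_inv,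
      toAdd_zpow, toAdd_ofAdd, neg_add_eq_sub]
    exact hc

/-- **The characteristic chain.** -/
theorem exists_char_chain [Fact p.Prime] (hinj : Function.Injective e)
    (f : P ≃* Multiplicative ((l : ι) → ZMod (p ^ e l))) :
    ∃ (T : ℕ → Subgroup P) (N : ℕ), T 0 = ⊥ ∧ T N = ⊤ ∧ (∀ i, IsCharSub (T i)) ∧
      ∀ i, CycStep p (T i) (T (i + 1)) := by
  obtain ⟨J, hJ⟩ : ∃ J, ∀ l, e l ≤ J := ⟨Finset.univ.sup e, fun l => Finset.le_sup (Finset.mem_univ l)⟩
  have h1 : ∀ k j, CChain IsCharSub p (pullSub f (Wc p e k 0)) (pullSub f (Wc p e k j)) := by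
    intro k j
    induction j with
    | zero => exact CChain.refl _
    | succ j ih => exact CChain.step ih (isCharSub_pullSub f k (j + 1)) (cycStep_pullSub hinj f k j)
  have htop : pullSub f (Wc p e 0 J) = ⊤ := by
    rw [Wc_eq_top p e J hJ]
    rfl
  have h2 : ∀ k, CChain IsCharSub p (pullSub f (Wc p e k 0)) ⊤ := by
    intro k
    induction k with
    | zero =>
      rw [← htop]
      exact h1 0 J
    | succ k ih =>
      have := h1 (k + 1) J
      rw [← Wc_zero_right_eq p e k J hJ] at this
      exact this.trans ih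
  have hbot : pullSub f (Wc p e J 0) = ⊥ := by
    rw [Wc_eq_bot p e J (fun l => (hJ l).trans (Nat.le_succ J))]
    ext s
    rw [mem_pullSub, AddSubgroup.mem_bot, Subgroup.mem_bot]
    constructor
    · intro h
      have : f s = 1 := h
      exact (map_eq_one_iff f f.injective).mp this
    · intro h
      rw [h, map_one]
      rfl
  have h3 := h2 J
  rw [hbot] at h3
  have hgood : IsCharSub (⊥ : Subgroup P) := by
    intro α x
    rw [Subgroup.mem_bot, Subgroup.mem_bot]
    exact (map_eq_one_iff α α.injective).symm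
  obtain ⟨Qn, N, hQ0, hQN, hQg, hQc⟩ := h3.exists_nat_chain hgood
  exact ⟨Qn, N, hQ0, hQN N le_rfl, hQg, hQc⟩

end Pull

end Cfsg.Agent.Lib.Helper17
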