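import Mathlib
import Cfsg.Agent.Lib.Helper3.Dihedral

/-!
Groups with two equal cyclic direct factors `C × C`: explicit `p'`-groups of automorphisms that are
non-abelian (order dividing 8) or of order 3.
-/

set_option autoImplicit false

namespace Cfsg.Agent.Lib.Helper17

open Cfsg.Agent.Lib.Helper3

section Auts

variable {C : Type*} [CommGroup C]

/-- `(a, b) ↦ (b, a⁻¹)`. -/
def rotAut : MulAut (C × C) where
  toFun x := (x.2, x.1⁻¹)
  invFun x := (x.2⁻¹, x.1)
  left_inv x := by simp
  right_inv x := by simp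
  map_mul' x y := by
    simp only [Prod.snd_mul, Prod.fst_mul, mul_inv, Prod.mk_mul_mk]

/-- `(a, b) ↦ (b, a)`. -/
def swpAut : MulAut (C × C) where
  toFun x := (x.2, x.1)
  invFun x := (x.2, x.1)
  left_inv x := by simp
  right_inv x := by simp
  map_mul' x y := by simp

/-- `(a, b) ↦ (b⁻¹, a * b⁻¹)`. -/
def triAut : MulAut (C × C) where
  toFun x := (x.2⁻¹, x.1 * x.2⁻¹)
  invFun x := (x.1⁻¹ * x.2, x.1⁻¹)
  left_inv x := by simp
  right_inv x := by simp
  map_mul' x y := by
    simp only [Prod.snd_mul, Prod.fst_mul, mul_inv, Prod.mk_mul_mk, Prod.mk.injEq, true_and]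
    exact mul_mul_mul_comm _ _ _ _

@[simp] theorem rotAut_apply (x : C × C) : (rotAut : MulAut (C × C)) x = (x.2, x.1⁻¹) := rfl
@[simp] theorem swpAut_apply (x : C × C) : (swpAut : MulAut (C × C)) x = (x.2, x.1) := rfl
@[simp] theorem triAut_apply (x : C × C) : (triAut : MulAut (C × C)) x = (x.2⁻¹, x.1 * x.2⁻¹) := rfl

theorem rotAut_pow_four : (rotAut : MulAut (C × C)) ^ 4 = 1 := by
  ext x <;> simp [pow_succ, MulAut.mul_apply]

theorem swpAut_mul_self : (swpAut : MulAut (C × C)) * swpAut = 1 := by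
  ext x <;> simp [MulAut.mul_apply]

theorem swp_rot_swp : (swpAut : MulAut (C × C)) * rotAut * swpAut = rotAut⁻¹ := by
  rw [eq_inv_iff_mul_eq_one]
  ext x <;> simp [MulAut.mul_apply]

theorem triAut_pow_three : (triAut : MulAut (C × C)) ^ 3 = 1 := by
  ext x <;> simp [pow_succ, MulAut.mul_apply]

variable (H : Type*) [Group H]

/-- Extension of an automorphism of `C × C` to `(C × C) × H`. -/
def liftAut : MulAut (C × C) →* MulAut ((C × C) × H) where
  toFun α := MulEquiv.prodCongr α (MulEquiv.refl H)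
  map_one' := by ext x <;> rfl
  map_mul' α β := by ext x <;> rfl

theorem liftAut_injective : Function.Injective (liftAut (C := C) H) := by
  intro α β h
  ext x
  · have := congrArg (fun γ : MulAut ((C × C) × H) => (γ (x, 1)).1.1) h
    exact this
  · have := congrArg (fun γ : MulAut ((C × C) × H) => (γ (x, 1)).1.2) h
    exact this

end Auts

/-- **Bad automorphism groups.** -/
theorem exists_bad_aut_group {P : Type*} [Group P] (p : ℕ) [Fact p.Prime] (n : ℕ) (hn : 0 < n)
    (H : Type) [CommGroup H]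
    (f : P ≃* (Multiplicative (ZMod (p ^ n)) × Multiplicative (ZMod (p ^ n))) × H) :
    ∃ K : Subgroup (MulAut P), (Nat.card K).Coprime p ∧
      ¬ ((∀ a ∈ K, ∀ b ∈ K, a * b = b * a) ∧ ∀ h ∈ K, h ^ (p - 1) = 1) := by
  have hpp : p.Prime := Fact.out
  obtain ⟨Ψ, hΨ⟩ : ∃ Ψ : MulAut (Multiplicative (ZMod (p ^ n)) × Multiplicative (ZMod (p ^ n))) →* MulAut P,
      Function.Injective Ψ :=
    ⟨(MulAut.congr f.symm).toMonoidHom.comp (liftAut H),
      (MulAut.congr f.symm).injective.comp (liftAut_injective H)⟩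
  obtain ⟨g, hg⟩ : ∃ g : Multiplicative (ZMod (p ^ n)), g = Multiplicative.ofAdd 1 := ⟨_, rfl⟩
  have hm1 : 1 < p ^ n := Nat.one_lt_pow hn.ne' hpp.one_lt
  by_cases hp2 : p = 2
  · -- order 3
    have h3 : (Ψ triAut) ^ 3 = 1 := by rw [← map_pow, triAut_pow_three, map_one]
    have hne : Ψ triAut ≠ 1 := by
      intro h
      have h1 : (triAut : MulAut (Multiplicative (ZMod (p ^ n)) × Multiplicative (ZMod (p ^ n)))) = 1 :=
        hΨ (h.trans (map_one Ψ).symm)
      have h2 := congrArg (fun γ : MulAut (Multiplicative (ZMod (p ^ n)) × Multiplicative (ZMod (p ^ n))) =>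
        (γ (g, 1)).1) h1
      simp only [triAut_apply, inv_one, MulAut.one_apply] at h2
      have h4 : (1 : ZMod (p ^ n)) = 0 := by
        have : Multiplicative.toAdd g = 0 := by rw [← h2]; rfl
        rw [hg] at this
        exact this
      have : Fact (1 < p ^ n) := ⟨hm1⟩
      exact one_ne_zero h4
    have : Fact (Nat.Prime 3) := ⟨Nat.prime_three⟩
    have hord : orderOf (Ψ triAut) = 3 := orderOf_eq_prime h3 hne
    refine ⟨Subgroup.zpowers (Ψ triAut), ?_, ?_⟩
    · rw [Nat.card_zpowers, hord, hp2]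
      decide
    · rintro ⟨-, hexp⟩
      have := hexp _ (Subgroup.mem_zpowers _)
      have hp1 : p - 1 = 1 := by omega
      rw [hp1, pow_one] at this
      exact hne this
  · -- dihedral of order 8
    obtain ⟨D, hD⟩ : ∃ D : DihedralGroup 4 →*
        MulAut (Multiplicative (ZMod (p ^ n)) × Multiplicative (ZMod (p ^ n))),
        D = dihLift rotAut swpAut rotAut_pow_four swpAut_mul_self swp_rot_swp := ⟨_, rfl⟩
    have hDr : D (.r 1) = rotAut := by rw [hD]; exact dihLift_r_one _ _ _ _ _
    have hDs : D (.sr 0) = swpAut := by rw [hD]; exact dihLift_sr_zero _ _ _ _ _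
    refine ⟨(Ψ.comp D).range, ?_, ?_⟩
    · have h1 : Nat.card (Ψ.comp D).range ∣ 8 := by
        have := Subgroup.card_range_dvd (Ψ.comp D)
        have h8 : Nat.card (DihedralGroup 4) = 8 := by
          rw [Nat.card_eq_fintype_card, DihedralGroup.card]
        rwa [h8] at this
      have h2 : Nat.Coprime 8 p := by
        have : Nat.Coprime 2 p := (Nat.coprime_primes Nat.prime_two hpp).mpr (Ne.symm hp2)
        exact Nat.Coprime.pow_left 3 this
      exact Nat.Coprime.coprime_dvd_left h1 h2
    · rintro ⟨hcomm, -⟩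
      have h1 := hcomm (Ψ swpAut) ⟨.sr 0, by rw [MonoidHom.comp_apply, hDs]⟩
        (Ψ rotAut) ⟨.r 1, by rw [MonoidHom.comp_apply, hDr]⟩
      rw [← map_mul, ← map_mul] at h1
      have h2 := hΨ h1
      have h3 := congrArg (fun γ : MulAut (Multiplicative (ZMod (p ^ n)) × Multiplicative (ZMod (p ^ n))) =>
        (γ (g, 1)).1) h2
      simp only [MulAut.mul_apply, rotAut_apply, swpAut_apply] at h3
      -- `g⁻¹ = g`
      have h4 : (1 : ZMod (p ^ n)) + 1 = 0 := by
        have h5 : g * g = 1 := by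
          nth_rewrite 1 [← h3]
          exact inv_mul_cancel g
        have : Multiplicative.toAdd (g * g) = 0 := by rw [h5]; rfl
        rw [hg] at this
        exact this
      have h6 : ((2 : ℕ) : ZMod (p ^ n)) = 0 := by
        rw [← h4]
        norm_num
      rw [ZMod.natCast_eq_zero_iff] at h6
      have h7 : p ∣ 2 := (dvd_pow_self p hn.ne').trans h6
      exact hp2 ((Nat.prime_dvd_prime_iff_eq hpp Nat.prime_two).mp h7)

end Cfsg.Agent.Lib.Helper17
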