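import Cfsg.Agent.Lib.Helper4.Eigen

/-!
Common eigenvectors of commuting automorphisms of exponent dividing `p - 1` on elementary abelian `p`-groups,
and chains of invariant normal subgroups with cyclic steps in finite `p`-groups.
-/

set_option autoImplicit false

namespace Cfsg.Agent.Lib.Helper17

universe u

open Cfsg.Agent.Lib.Helper4

section CE

variable {Q : Type u} [Group Q] [Finite Q]

omit [Finite Q] in
theorem aut_pow_apply_res (α : MulAut Q) (W : Subgroup Q)
    (φ : W →* W) (hφ : ∀ w : W, ((φ w : W) : Q) = α w) (m : ℕ) (w : W) :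
    (((φ^[m]) w : W) : Q) = (α ^ m) w := by
  induction m with
  | zero => simp
  | succ m ih =>
    rw [Function.iterate_succ_apply', hφ, ih, pow_succ', MulAut.mul_apply]

/-- **Common eigenvector.** -/
theorem exists_common_eigen {p : ℕ} [Fact p.Prime] (V : Subgroup Q)
    (hVc : ∀ a ∈ V, ∀ b ∈ V, a * b = b * a) (hVp : ∀ a ∈ V, a ^ p = 1) (hV1 : V ≠ ⊥)
    (A : Set (MulAut Q)) (hinv : ∀ α ∈ A, ∀ x ∈ V, α x ∈ V)
    (hcomm : ∀ α ∈ A, ∀ β ∈ A, ∀ x ∈ V, α (β x) = β (α x))
    (hexp : ∀ α ∈ A, ∀ x ∈ V, (α ^ (p - 1)) x = x) :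
    ∃ v ∈ V, v ≠ 1 ∧ ∀ α ∈ A, ∃ l : ℕ, α v = v ^ l := by
  obtain ⟨W, ⟨hWV, hW1, hWinv⟩, hWmin⟩ := exists_minimal_of_wellFoundedLT
    (fun W : Subgroup Q => W ≤ V ∧ W ≠ ⊥ ∧ ∀ α ∈ A, ∀ x ∈ W, α x ∈ W) ⟨V, le_rfl, hV1, hinv⟩
  have hkey : ∀ α ∈ A, ∃ l : ℕ, ∀ w ∈ W, α w = w ^ l := by
    intro α hα
    let iC : CommGroup W :=
      { (inferInstance : Group W) with mul_comm := fun a b => Subtype.ext (hVc a (hWV a.2) b (hWV b.2)) }
    have hnt : Nontrivial W := (Subgroup.nontrivial_iff_ne_bot W).mpr hW1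
    let φ : W →* W :=
      { toFun := fun w => ⟨α w.1, hWinv α hα w.1 w.2⟩
        map_one' := by apply Subtype.ext; simp
        map_mul' := by
          intro a b
          apply Subtype.ext
          show α (a.1 * b.1) = α a.1 * α b.1
          rw [map_mul] }
    have hφ : ∀ w : W, ((φ w : W) : Q) = α w := fun w => rfl
    have hA : ∀ a : W, a ^ p = 1 := fun a => Subtype.ext (by simpa using hVp a.1 (hWV a.2))
    have hφp : ∀ a : W, (φ^[p - 1]) a = a := by
      intro a
      apply Subtype.ext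
      rw [aut_pow_apply_res α W φ hφ, hexp α hα a.1 (hWV a.2)]
    obtain ⟨a, ha1, l, hal⟩ := exists_eigen_hom (p := p) hA φ hφp
    refine ⟨l, ?_⟩
    -- eigenspace
    let E : Subgroup Q :=
      { carrier := {w | w ∈ W ∧ α w = w ^ l}
        one_mem' := ⟨W.one_mem, by simp⟩
        mul_mem' := by
          rintro x y ⟨hx, hx'⟩ ⟨hy, hy'⟩
          refine ⟨W.mul_mem hx hy, ?_⟩
          rw [map_mul, hx', hy', (show Commute x y from hVc x (hWV hx) y (hWV hy)).mul_pow]
        inv_mem' := by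
          rintro x ⟨hx, hx'⟩
          refine ⟨W.inv_mem hx, ?_⟩
          rw [map_inv, hx', inv_pow] }
    have hEW : E ≤ W := fun w hw => hw.1
    have hE : E ≤ V ∧ E ≠ ⊥ ∧ ∀ β ∈ A, ∀ x ∈ E, β x ∈ E := by
      refine ⟨hEW.trans hWV, ?_, ?_⟩
      · intro hbot
        have haE : (a : Q) ∈ E := by
          refine ⟨a.2, ?_⟩
          have := congrArg Subtype.val hal
          rw [hφ] at this
          rw [this]
          rfl
        rw [hbot, Subgroup.mem_bot] at haE
        exact ha1 (Subtype.ext haE)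
      · rintro β hβ x ⟨hx, hx'⟩
        refine ⟨hWinv β hβ x hx, ?_⟩
        rw [hcomm α hα β hβ x (hWV hx), hx', map_pow]
    intro w hw
    exact (hWmin hE hEW hw).2
  obtain ⟨⟨v, hvW⟩, hv1⟩ := Subgroup.ne_bot_iff_exists_ne_one.mp hW1
  refine ⟨v, hWV hvW, fun h' => hv1 (Subtype.ext h'), fun α hα => ?_⟩
  obtain ⟨l, hl⟩ := hkey α hα
  exact ⟨l, hl v hvW⟩

end CE

section Chain

variable {P : Type u} [Group P]

/-- The automorphism induced on a quotient by an invariant normal subgroup. -/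
noncomputable def quotAut (N : Subgroup P) [N.Normal] (u : MulAut P) (hu : ∀ x, x ∈ N ↔ u x ∈ N) :
    MulAut (P ⧸ N) :=
  QuotientGroup.congr N N u (by
    ext x
    rw [Subgroup.mem_map]
    constructor
    · rintro ⟨y, hy, rfl⟩
      exact (hu y).mp hy
    · intro hx
      refine ⟨u⁻¹ x, ?_, by simp⟩
      rw [hu, MulAut.apply_inv_self]
      exact hx)

theorem quotAut_mk (N : Subgroup P) [N.Normal] (u : MulAut P) (hu : ∀ x, x ∈ N ↔ u x ∈ N) (x : P) :
    quotAut N u hu (QuotientGroup.mk x) = QuotientGroup.mk (u x) := rfl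

theorem quotAut_pow_mk (N : Subgroup P) [N.Normal] (u : MulAut P) (hu : ∀ x, x ∈ N ↔ u x ∈ N) (m : ℕ)
    (x : P) : (quotAut N u hu ^ m) (QuotientGroup.mk x) = QuotientGroup.mk ((u ^ m) x) := by
  induction m generalizing x with
  | zero => simp
  | succ m ih =>
    rw [pow_succ, pow_succ, MulAut.mul_apply, MulAut.mul_apply, quotAut_mk, ih]

/-- **Next invariant normal subgroup.** -/
theorem exists_next_invariant [Finite P] {p : ℕ} [Fact p.Prime] (hP : IsPGroup p P)
    (H : Subgroup (MulAut P)) (hHc : ∀ a ∈ H, ∀ b ∈ H, a * b = b * a) (hHe : ∀ h ∈ H, h ^ (p - 1) = 1)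
    (N : Subgroup P) [hNn : N.Normal] (hNinv : ∀ h ∈ H, ∀ x, x ∈ N ↔ h x ∈ N) (hN : N ≠ ⊤) :
    ∃ (N' : Subgroup P) (x : P), N'.Normal ∧ (∀ h ∈ H, ∀ y, y ∈ N' ↔ h y ∈ N') ∧ N < N' ∧
      N' = N ⊔ Subgroup.zpowers x := by
  have hpp : p.Prime := Fact.out
  have hQp : IsPGroup p (P ⧸ N) := hP.to_quotient N
  have hQnt : Nontrivial (P ⧸ N) := by
    rw [← not_subsingleton_iff_nontrivial]
    intro hsub
    apply hN
    rw [eq_top_iff]
    intro x _
    have : (QuotientGroup.mk x : P ⧸ N) = 1 := Subsingleton.elim _ _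
    exact (QuotientGroup.eq_one_iff x).mp this
  -- `V = Ω₁(Z(P/N))`
  let V : Subgroup (P ⧸ N) :=
    { carrier := {z | z ∈ Subgroup.center (P ⧸ N) ∧ z ^ p = 1}
      one_mem' := ⟨Subgroup.one_mem _, one_pow p⟩
      mul_mem' := by
        rintro a b ⟨ha, ha'⟩ ⟨hb, hb'⟩
        refine ⟨Subgroup.mul_mem _ ha hb, ?_⟩
        have hc : Commute a b := (Subgroup.mem_center_iff.mp ha b).symm
        rw [hc.mul_pow, ha', hb', one_mul]
      inv_mem' := by
        rintro a ⟨ha, ha'⟩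
        exact ⟨Subgroup.inv_mem _ ha, by rw [inv_pow, ha', inv_one]⟩ }
  have hVmem : ∀ z, z ∈ V ↔ z ∈ Subgroup.center (P ⧸ N) ∧ z ^ p = 1 := fun z => Iff.rfl
  have hVc : ∀ a ∈ V, ∀ b ∈ V, a * b = b * a := fun a ha b _ =>
    (Subgroup.mem_center_iff.mp ((hVmem a).mp ha).1 b).symm
  have hVp : ∀ a ∈ V, a ^ p = 1 := fun a ha => ((hVmem a).mp ha).2
  have hV1 : V ≠ ⊥ := by
    have hZnt : Nontrivial (Subgroup.center (P ⧸ N)) := hQp.center_nontrivial
    have hZp : IsPGroup p (Subgroup.center (P ⧸ N)) := hQp.to_subgroup _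
    obtain ⟨k, hk⟩ := hZp.exists_card_eq
    have hk0 : k ≠ 0 := by
      rintro rfl
      rw [pow_zero] at hk
      have := (Nat.card_eq_one_iff_unique.mp hk).1
      exact not_subsingleton _ this
    have hdvd : p ∣ Nat.card (Subgroup.center (P ⧸ N)) := by
      rw [hk]
      exact dvd_pow_self p hk0
    obtain ⟨z, hz⟩ := exists_prime_orderOf_dvd_card' p hdvd
    intro hbot
    have hzV : (z : P ⧸ N) ∈ V := by
      refine ⟨z.2, ?_⟩
      have := pow_orderOf_eq_one z
      rw [hz] at this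
      exact congrArg Subtype.val this
    rw [hbot, Subgroup.mem_bot] at hzV
    have : z = 1 := Subtype.ext hzV
    rw [this, orderOf_one] at hz
    exact hpp.one_lt.ne hz
  -- the induced automorphisms
  let A : Set (MulAut (P ⧸ N)) := {σ | ∃ (h : MulAut P) (hh : h ∈ H), σ = quotAut N h (hNinv h hh)}
  have hinv : ∀ σ ∈ A, ∀ z ∈ V, σ z ∈ V := by
    rintro σ ⟨h, hh, rfl⟩ z ⟨hz, hz'⟩
    refine ⟨?_, by rw [← map_pow, hz', map_one]⟩
    rw [Subgroup.mem_center_iff]
    intro g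
    obtain ⟨g', rfl⟩ := (quotAut N h (hNinv h hh)).surjective g
    rw [← map_mul, ← map_mul, Subgroup.mem_center_iff.mp hz g']
  have hcomm : ∀ σ ∈ A, ∀ τ ∈ A, ∀ z ∈ V, σ (τ z) = τ (σ z) := by
    rintro σ ⟨h, hh, rfl⟩ τ ⟨k, hk, rfl⟩ z _
    induction z using QuotientGroup.induction_on with
    | H x =>
      rw [quotAut_mk, quotAut_mk, quotAut_mk, quotAut_mk]
      have := hHc h hh k hk
      have h2 : h (k x) = k (h x) := by
        rw [← MulAut.mul_apply, ← MulAut.mul_apply, this]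
      rw [h2]
  have hexp : ∀ σ ∈ A, ∀ z ∈ V, (σ ^ (p - 1)) z = z := by
    rintro σ ⟨h, hh, rfl⟩ z _
    induction z using QuotientGroup.induction_on with
    | H x =>
      rw [quotAut_pow_mk, hHe h hh]
      rfl
  obtain ⟨v, hvV, hv1, hv⟩ := exists_common_eigen (p := p) V hVc hVp hV1 A hinv hcomm hexp
  obtain ⟨x, rfl⟩ := QuotientGroup.mk_surjective v
  have hN'eq : N ⊔ Subgroup.zpowers x =
      (Subgroup.zpowers (QuotientGroup.mk x : P ⧸ N)).comap (QuotientGroup.mk' N) := by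
    apply le_antisymm
    · apply sup_le
      · intro n hn
        rw [Subgroup.mem_comap]
        have : (QuotientGroup.mk' N) n = 1 := (QuotientGroup.eq_one_iff n).mpr hn
        rw [this]
        exact Subgroup.one_mem _
      · rw [Subgroup.zpowers_le, Subgroup.mem_comap]
        exact Subgroup.mem_zpowers _
    · intro y hy
      rw [Subgroup.mem_comap] at hy
      obtain ⟨k, hk⟩ := hy
      have hk' : (QuotientGroup.mk (x ^ k) : P ⧸ N) = QuotientGroup.mk y := by
        rw [QuotientGroup.mk_zpow]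
        exact hk
      have h1 : (x ^ k)⁻¹ * y ∈ N := QuotientGroup.eq.mp hk'
      have : y = x ^ k * ((x ^ k)⁻¹ * y) := by group
      rw [this]
      exact Subgroup.mul_mem _ (le_sup_right (a := N) (Subgroup.zpow_mem _ (Subgroup.mem_zpowers x) k))
        (le_sup_left (a := N) h1)
  have hmemN' : ∀ y, y ∈ N ⊔ Subgroup.zpowers x ↔
      (QuotientGroup.mk y : P ⧸ N) ∈ Subgroup.zpowers (QuotientGroup.mk x : P ⧸ N) := by
    intro y
    rw [hN'eq, Subgroup.mem_comap]
    rfl
  have hvc : (QuotientGroup.mk x : P ⧸ N) ∈ Subgroup.center (P ⧸ N) := ((hVmem _).mp hvV).1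
  refine ⟨N ⊔ Subgroup.zpowers x, x, ?_, ?_, ?_, rfl⟩
  · constructor
    intro y hy g
    rw [hmemN'] at hy ⊢
    obtain ⟨k, hk⟩ := hy
    refine ⟨k, ?_⟩
    show (QuotientGroup.mk x : P ⧸ N) ^ k = (QuotientGroup.mk (g * y * g⁻¹) : P ⧸ N)
    have hk' : (QuotientGroup.mk x : P ⧸ N) ^ k = QuotientGroup.mk y := hk
    rw [QuotientGroup.mk_mul, QuotientGroup.mk_mul, ← hk']
    have hc := Subgroup.mem_center_iff.mp (Subgroup.zpow_mem _ hvc k) (QuotientGroup.mk g)
    rw [hc, QuotientGroup.mk_inv, mul_inv_cancel_right]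
  · have key : ∀ h ∈ H, ∀ y, y ∈ N ⊔ Subgroup.zpowers x → h y ∈ N ⊔ Subgroup.zpowers x := by
      intro h hh y hy
      rw [hmemN'] at hy ⊢
      obtain ⟨k, hk⟩ := hy
      have hk' : (QuotientGroup.mk x : P ⧸ N) ^ k = QuotientGroup.mk y := hk
      obtain ⟨l, hl⟩ := hv _ ⟨h, hh, rfl⟩
      have h1 : (QuotientGroup.mk (h y) : P ⧸ N) = quotAut N h (hNinv h hh) (QuotientGroup.mk y) := rfl
      rw [h1, ← hk', map_zpow, hl]
      exact Subgroup.zpow_mem _ (Subgroup.pow_mem _ (Subgroup.mem_zpowers _) l) k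
    intro h hh y
    constructor
    · exact key h hh y
    · intro hy
      have := key h⁻¹ (H.inv_mem hh) _ hy
      rwa [MulAut.inv_apply_self] at this
  · refine lt_of_le_of_ne le_sup_left ?_
    intro heq
    have hx : x ∈ N := by
      rw [heq]
      exact le_sup_right (a := N) (Subgroup.mem_zpowers x)
    exact hv1 ((QuotientGroup.eq_one_iff x).mpr hx)

/-- **Chain of invariant normal subgroups with cyclic steps.** -/
theorem exists_invariant_chain [Finite P] {p : ℕ} [Fact p.Prime] (hP : IsPGroup p P)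
    (H : Subgroup (MulAut P)) (hHc : ∀ a ∈ H, ∀ b ∈ H, a * b = b * a) (hHe : ∀ h ∈ H, h ^ (p - 1) = 1) :
    ∀ (n : ℕ) (N : Subgroup P), N.index = n → N.Normal → (∀ h ∈ H, ∀ x, x ∈ N ↔ h x ∈ N) →
      ∃ (m : ℕ) (c : Fin (m + 1) → Subgroup P), c 0 = N ∧ c (Fin.last m) = ⊤ ∧
        (∀ i, (c i).Normal ∧ ∀ h ∈ H, ∀ x, x ∈ c i ↔ h x ∈ c i) ∧
        ∀ i : Fin m, c i.castSucc ≤ c i.succ ∧ ∃ x, c i.succ = c i.castSucc ⊔ Subgroup.zpowers x := by
  intro n
  induction n using Nat.strong_induction_on with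
  | _ n ih =>
    intro N hNn hNnorm hNinv
    by_cases hN : N = ⊤
    · refine ⟨0, fun _ => ⊤, hN.symm, rfl, fun _ => ⟨hN ▸ hNnorm, fun h hh x => ?_⟩, fun i => i.elim0⟩
      simp
    · obtain ⟨N', x, hN'n, hN'inv, hlt, hN'eq⟩ := exists_next_invariant hP H hHc hHe N hNinv hN
      have hidx : N'.index < n := by
        rw [← hNn]
        exact Subgroup.index_strictAnti hlt
      obtain ⟨m, c, hc0, hclast, hcprop, hcstep⟩ := ih _ hidx N' rfl hN'n hN'inv
      refine ⟨m + 1, Fin.cons N c, ?_, ?_, ?_, ?_⟩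
      · rfl
      · rw [← Fin.succ_last, Fin.cons_succ]
        exact hclast
      · intro i
        cases i using Fin.cases with
        | zero => exact ⟨hNnorm, hNinv⟩
        | succ j =>
          rw [Fin.cons_succ]
          exact hcprop j
      · intro i
        cases i using Fin.cases with
        | zero =>
          have e1 : (Fin.cons N c : Fin (m + 1 + 1) → Subgroup P) (Fin.castSucc 0) = N := rfl
          have e2 : (Fin.cons N c : Fin (m + 1 + 1) → Subgroup P) (Fin.succ 0) = N' := by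
            rw [Fin.cons_succ, hc0]
          rw [e1, e2]
          exact ⟨hlt.le, x, hN'eq⟩
        | succ j =>
          have e1 : (Fin.cons N c : Fin (m + 1 + 1) → Subgroup P) (Fin.castSucc j.succ) =
              c j.castSucc := by
            rw [← Fin.succ_castSucc, Fin.cons_succ]
          rw [e1, Fin.cons_succ]
          exact hcstep j

end Chain

end Cfsg.Agent.Lib.Helper17
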