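import Cfsg.Agent.Lib.Helper26.FSNormalRestrict
import Cfsg.Agent.Lib.Helper26.FSSatEquiv
import Cfsg.Agent.Lib.Helper17.SSEigen

/-!
Supersoluble fusion systems: the converse direction. If `S ⊴ F` and the `p'`-subgroups of `Aut(S)` are abelian
of exponent dividing `p - 1` then `F` is supersoluble.
-/

set_option autoImplicit false

namespace Cfsg.Agent.Lib.Helper17

open Cfsg Cfsg.FusionSystem Cfsg.Agent.Lib.Helper26

variable {Ω : Type*} [Group Ω] {S : Subgroup Ω}

theorem autInducedBy_self_normal : (autInducedBy S S).Normal := by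
  constructor
  intro τ hτ γ
  rw [mem_autInducedBy_iff] at hτ ⊢
  obtain ⟨g, hg, hτg⟩ := hτ
  refine ⟨((γ ⟨g, hg⟩ : S) : Ω), (γ ⟨g, hg⟩).2, fun x => ?_⟩
  have h1 : τ (γ⁻¹ x) = ⟨g, hg⟩ * γ⁻¹ x * ⟨g, hg⟩⁻¹ := Subtype.ext (hτg _)
  have h2 : (γ * τ * γ⁻¹) x = γ (τ (γ⁻¹ x)) := rfl
  rw [h2, h1, map_mul, map_mul, map_inv, MulAut.apply_inv_self]
  rfl

theorem supersoluble_of_resistant [Finite S] {p : ℕ} [Fact p.Prime] (hS : IsPGroup p S)
    (F : FusionSystem S) (hF : F.IsSaturated p) (hnorm : F.IsNormal S)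
    (hAut : ∀ H : Subgroup (MulAut S), (Nat.card H).Coprime p →
      (∀ a ∈ H, ∀ b ∈ H, a * b = b * a) ∧ ∀ h ∈ H, h ^ (p - 1) = 1) :
    ∃ (m : ℕ) (c : Fin (m + 1) → Subgroup Ω), c 0 = ⊥ ∧ c (Fin.last m) = S ∧
      (∀ i : Fin (m + 1), F.StronglyClosed (c i)) ∧
      ∀ i : Fin m, c i.castSucc ≤ c i.succ ∧ ∃ x ∈ S, c i.succ = c i.castSucc ⊔ Subgroup.zpowers x := by
  have hpp : p.Prime := Fact.out
  have hfinA : Finite (MulAut S) := inferInstance
  -- the Sylow `p`-subgroup `Aut_S(S)` of `Aut_F(S)` and a complement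
  obtain ⟨-, R, hR⟩ := (saturated_fn hS F hF (top_fullyNormalized F)).2
  have hRn : (R : Subgroup (F.autGroup S)).Normal := by
    rw [hR]
    have := autInducedBy_self_normal (S := S)
    infer_instance
  have hcop : Nat.Coprime (Nat.card (R : Subgroup (F.autGroup S))) (R : Subgroup (F.autGroup S)).index :=
    R.card_coprime_index
  obtain ⟨K, hK⟩ := Subgroup.exists_right_complement'_of_coprime hcop
  -- `H`: the image of `K` in `Aut(S)`
  obtain ⟨H, hH⟩ : ∃ H : Subgroup (MulAut S), H = K.map (F.autGroup S).subtype := ⟨_, rfl⟩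
  have hHcard : Nat.card H = (R : Subgroup (F.autGroup S)).index := by
    rw [hH, Subgroup.card_map_of_injective (Subgroup.subtype_injective _)]
    exact (hK.symm.index_eq_card).symm
  have hHcop : (Nat.card H).Coprime p := by
    rw [hHcard]
    have h1 : ¬ p ∣ (R : Subgroup (F.autGroup S)).index := R.not_dvd_index
    exact (Nat.Coprime.symm ((Nat.Prime.coprime_iff_not_dvd hpp).mpr h1))
  obtain ⟨hHc, hHe⟩ := hAut H hHcop
  -- the chain in `S`
  obtain ⟨m, c', hc0, hclast, hcprop, hcstep⟩ :=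
    exists_invariant_chain hS H hHc hHe _ ⊥ rfl inferInstance (fun h _ x => by
      rw [Subgroup.mem_bot, Subgroup.mem_bot]
      exact (map_eq_one_iff h h.injective).symm)
  -- invariance under all of `Aut_F(S)`
  have hinvA : ∀ i, ∀ α ∈ F.autGroup S, ∀ x, x ∈ c' i → α x ∈ c' i := by
    intro i α hα x hx
    obtain ⟨⟨⟨τ, hτ⟩, ⟨k, hk⟩⟩, hprod, -⟩ := (Subgroup.isComplement'_def.mp hK).existsUnique ⟨α, hα⟩
    have hprod' : (τ : MulAut S) * (k : MulAut S) = α := by
      have := congrArg Subtype.val hprod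
      exact this
    have hkH : (k : MulAut S) ∈ H := by
      rw [hH]
      exact ⟨k, hk, rfl⟩
    have h1 : (k : MulAut S) x ∈ c' i := ((hcprop i).2 _ hkH x).mp hx
    have hτ' : (τ : MulAut S) ∈ autInducedBy S S := by
      have : τ ∈ (autInducedBy S S).subgroupOf (F.autGroup S) := hR ▸ hτ
      exact this
    obtain ⟨g, hg, hτg⟩ := (mem_autInducedBy_iff S S _).mp hτ'
    have h2 : (τ : MulAut S) ((k : MulAut S) x) = ⟨g, hg⟩ * (k : MulAut S) x * ⟨g, hg⟩⁻¹ :=
      Subtype.ext (hτg _)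
    rw [← hprod', MulAut.mul_apply, h2]
    exact (hcprop i).1.conj_mem _ h1 _
  refine ⟨m, fun i => (c' i).map S.subtype, ?_, ?_, ?_, ?_⟩
  · show (c' 0).map S.subtype = ⊥
    rw [hc0, Subgroup.map_bot]
  · show (c' (Fin.last m)).map S.subtype = S
    rw [hclast, ← MonoidHom.range_eq_map, Subgroup.range_subtype]
  · intro i
    have hle : (c' i).map S.subtype ≤ S := Subgroup.map_subtype_le _
    refine ⟨hle, fun Rr hRr φ hφ x => ?_⟩
    obtain ⟨α, hα, hαφ⟩ := exists_aut_of_isNormal F hnorm Rr (hRr.trans hle) φ hφ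
    rw [← hαφ x]
    have hx : Subgroup.inclusion (hRr.trans hle) x ∈ c' i := by
      obtain ⟨y, hy, hyx⟩ := hRr x.2
      have : Subgroup.inclusion (hRr.trans hle) x = y := Subtype.ext hyx.symm
      rw [this]
      exact hy
    exact ⟨_, hinvA i α hα _ hx, rfl⟩
  · intro i
    obtain ⟨hle, x, hx⟩ := hcstep i
    refine ⟨Subgroup.map_mono hle, (x : Ω), x.2, ?_⟩
    show (c' i.succ).map S.subtype = (c' i.castSucc).map S.subtype ⊔ Subgroup.zpowers (x : Ω)
    rw [hx, Subgroup.map_sup, MonoidHom.map_zpowers]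
    rfl

end Cfsg.Agent.Lib.Helper17
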