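import Mathlib
import Cfsg.Prelude.Def_LieClassical
import Cfsg.Agent.Lib.Helper4.SU6FDefs
import Cfsg.Agent.Lib.Helper1.SU6FHyp

/-!
# SU6F market (helper4, S5802 leaf E3d): leaf F5 `exists_rational_basis` (helper17)

`E₀ = {x | x ^ 8 = x}` is spanned over `F_2` by three elements `b i` (dimension count); the columns of `P` are
`ρ (b i) u`, `ρ (b i) w`.  `P` is onto (`E = E₀ + ω E₀`, explicitly `a = (a + ω (a + a^8)) + ω (a + a^8)`), hence invertible.
-/

set_option autoImplicit false
set_option linter.unusedSectionVars false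
set_option linter.unusedVariables false

namespace Cfsg.Agent.Lib.Helper17.SU6FLeaf
open Matrix Cfsg.Agent.Lib.Helper4.SU6F

/-- in characteristic 2, `x ↦ x ^ 8` is additive -/
theorem add_pow_eight {E : Type*} [CommRing E] (h2 : (2 : E) = 0) (x y : E) :
    (x + y) ^ 8 = x ^ 8 + y ^ 8 := by
  have sq : ∀ a b : E, (a + b) ^ 2 = a ^ 2 + b ^ 2 := fun a b => by
    linear_combination (a * b) * h2
  calc (x + y) ^ 8 = (((x + y) ^ 2) ^ 2) ^ 2 := by ring
    _ = x ^ 8 + y ^ 8 := by rw [sq, sq, sq]; ring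

/-- the ring endomorphism `x ↦ x ^ 8` in characteristic 2 -/
def frob8 {E : Type*} [CommRing E] (h2 : (2 : E) = 0) : E →+* E where
  toFun x := x ^ 8
  map_one' := one_pow 8
  map_mul' x y := mul_pow x y 8
  map_zero' := zero_pow (by norm_num)
  map_add' := add_pow_eight h2

/-- the fixed points of `x ↦ x ^ 8` in a finite field of characteristic 2 are the `F_2`-combinations of three of them -/
theorem exists_span3 {E : Type*} [Field E] [Finite E] (h2 : (2 : E) = 0) :
    ∃ b : Fin 3 → E, (∀ i, b i ^ 8 = b i) ∧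
      ∀ x : E, x ^ 8 = x → ∃ s : Finset (Fin 3), x = ∑ i ∈ s, b i := by
  classical
  have : Fintype E := Fintype.ofFinite E
  have : CharP E 2 := CharTwo.of_one_ne_zero_of_two_eq_zero one_ne_zero h2
  let _ : Algebra (ZMod 2) E := ZMod.algebra E 2
  let E₀ : Submodule (ZMod 2) E :=
    { carrier := {x | x ^ 8 = x}
      add_mem' := fun {a b} ha hb => by
        show (a + b) ^ 8 = a + b
        rw [add_pow_eight h2, ha, hb]
      zero_mem' := zero_pow (by norm_num)
      smul_mem' := fun c x hx => by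
        show (c • x) ^ 8 = c • x
        have hc01 : c = 0 ∨ c = 1 := by
          revert c
          decide
        rcases hc01 with rfl | rfl
        · rw [zero_smul]
          exact zero_pow (by norm_num)
        · rw [one_smul]
          exact hx }
  have hmem : ∀ x : E, x ∈ E₀ ↔ x ^ 8 = x := fun x => Iff.rfl
  -- `|E₀| ≤ 8`
  have hcard : Fintype.card E₀ ≤ 8 := by
    have hne : (Polynomial.X ^ 8 - Polynomial.X : Polynomial E) ≠ 0 :=
      FiniteField.X_pow_card_sub_X_ne_zero E (by norm_num)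
    have hdeg : (Polynomial.X ^ 8 - Polynomial.X : Polynomial E).natDegree = 8 :=
      FiniteField.X_pow_card_sub_X_natDegree_eq E (by norm_num)
    have h1 : Fintype.card E₀ ≤ (Polynomial.X ^ 8 - Polynomial.X : Polynomial E).roots.toFinset.card := by
      rw [← Finset.card_univ]
      refine Finset.card_le_card_of_injOn (fun x => (x : E)) ?_ ?_
      · intro x _
        simp only [Finset.mem_coe, Multiset.mem_toFinset, Polynomial.mem_roots hne, Polynomial.IsRoot,
          Polynomial.eval_sub, Polynomial.eval_pow, Polynomial.eval_X]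
        rw [(hmem _).mp x.2, sub_self]
      · intro x _ y _ hxy
        exact Subtype.ext hxy
    calc Fintype.card E₀ ≤ _ := h1
      _ ≤ Multiset.card (Polynomial.X ^ 8 - Polynomial.X : Polynomial E).roots := Multiset.toFinset_card_le _
      _ ≤ 8 := (Polynomial.card_roots' _).trans hdeg.le
  -- the dimension is at most 3
  have hn : Module.finrank (ZMod 2) E₀ ≤ 3 := by
    have h1 := Module.card_eq_pow_finrank (K := ZMod 2) (V := E₀)
    rw [ZMod.card] at h1
    by_contra hlt
    rw [not_le] at hlt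
    have : 2 ^ 4 ≤ 2 ^ Module.finrank (ZMod 2) E₀ := Nat.pow_le_pow_right (by norm_num) hlt
    omega
  set n := Module.finrank (ZMod 2) E₀ with hn_def
  let bs : Module.Basis (Fin n) (ZMod 2) E₀ := Module.finBasis (ZMod 2) E₀
  let b : Fin 3 → E := fun i => if hi : i.val < n then ((bs ⟨i.val, hi⟩ : E₀) : E) else 0
  have hb : ∀ i, b i ^ 8 = b i := by
    intro i
    by_cases hi : i.val < n
    · simp only [b, dif_pos hi]
      exact (hmem _).mp (bs ⟨i.val, hi⟩).2
    · simp only [b, dif_neg hi]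
      exact zero_pow (by norm_num)
  have hspan : E₀ ≤ Submodule.span (ZMod 2) (Set.range b) := by
    have h1 : E₀ = Submodule.map E₀.subtype (Submodule.span (ZMod 2) (Set.range bs)) := by
      rw [bs.span_eq, Submodule.map_subtype_top]
    rw [h1, Submodule.map_span]
    refine Submodule.span_mono ?_
    rintro _ ⟨_, ⟨j, rfl⟩, rfl⟩
    refine ⟨⟨j.val, lt_of_lt_of_le j.2 hn⟩, ?_⟩
    simp only [b, dif_pos j.2]
    rfl
  refine ⟨b, hb, ?_⟩
  intro x hx
  have hx' : x ∈ Submodule.span (ZMod 2) (Set.range b) := hspan ((hmem x).mpr hx)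
  obtain ⟨c, hc⟩ := (Submodule.mem_span_range_iff_exists_fun (ZMod 2)).mp hx'
  refine ⟨Finset.univ.filter (fun i => c i = 1), ?_⟩
  rw [← hc, Finset.sum_filter]
  refine Finset.sum_congr rfl ?_
  intro i _
  have : c i = 0 ∨ c i = 1 := by
    generalize c i = z
    fin_cases z
    · left; rfl
    · right; rfl
  rcases this with h0 | h1
  · rw [h0, if_neg (by decide), zero_smul]
  · rw [h1, if_pos rfl, one_smul]

universe u
variable {F : Type u} [Field F] [Fintype F]
variable {E : Type*} [Field E] [Algebra F E] {ρ : E →ₐ[F] Matrix (Fin 6) (Fin 6) F}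
  {h : (Fin 6 → F) → (Fin 6 → F) → E} {u w : Fin 6 → F}

/-- `2 = 0` in a field with four elements -/
theorem two_eq_zero_of_card_four (hcF : Fintype.card F = 4) : (2 : F) = 0 := by
  have h4 : ((4 : ℕ) : F) = 0 := by rw [← hcF]; exact Nat.cast_card_eq_zero F
  have h4' : (2 : F) * 2 = 0 := by
    have : ((4 : ℕ) : F) = 2 * 2 := by norm_num
    rw [← this]; exact h4
  exact (mul_self_eq_zero).mp h4'

/-- a primitive cube root of unity in `F_4` -/
theorem exists_omega (hcF : Fintype.card F = 4) : ∃ ω : F, ω ^ 2 = ω + 1 := by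
  classical
  have h2 := two_eq_zero_of_card_four hcF
  obtain ⟨ω, h0, h1⟩ : ∃ ω : F, ω ≠ 0 ∧ ω ≠ 1 := by
    by_contra hne
    push Not at hne
    have hsub : (Finset.univ : Finset F) ⊆ {0, 1} := by
      intro x _
      by_cases hx : x = 0
      · simp [hx]
      · simp [hne x hx]
    have := (Finset.card_le_card hsub).trans Finset.card_le_two
    rw [Finset.card_univ, hcF] at this
    omega
  refine ⟨ω, ?_⟩
  have h4 : ω ^ 4 = ω := by
    have := FiniteField.pow_card ω
    rwa [hcF] at this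
  have hprod : ω * ((ω - 1) * (ω ^ 2 + ω + 1)) = 0 := by
    linear_combination h4
  rcases mul_eq_zero.mp hprod with h | h
  · exact absurd h h0
  rcases mul_eq_zero.mp h with h | h
  · exact absurd (sub_eq_zero.mp h) h1
  · linear_combination h - (ω + 1) * h2

/-- the values of `h` on `E u + E w` -/
theorem h_comb_right (hh : HForm ρ h) (hy : Hyp h u w) (a c : E) :
    h (ρ a *ᵥ u + ρ c *ᵥ w) w = a := by
  rw [hh.add_left, hh.smul_left, hh.smul_left, hy.uw, hy.ww, mul_one, mul_zero, add_zero]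

theorem h_comb_left (hh : HForm ρ h) (hy : Hyp h u w) (a c : E) :
    h (ρ a *ᵥ u + ρ c *ᵥ w) u = c := by
  have hwu : h w u = 1 := by rw [hh.herm u w, hy.uw, one_pow]
  rw [hh.add_left, hh.smul_left, hh.smul_left, hy.uu, hwu, mul_one, mul_zero, zero_add]

/-- (F5), with the coordinates (F4) as a hypothesis -/
theorem exists_rational_basis_core (hc : FCtx ρ) (hh : HForm ρ h) (hy : Hyp h u w)
    (hcoords : ∀ v : Fin 6 → F, v = ρ (h v w) *ᵥ u + ρ (h v u) *ᵥ w) :
    ∃ P : GL (Fin 6) F, ∀ v : Fin 6 → F,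
      V0 h u w v ↔ ∃ r : Fin 6 → F, Rat r ∧ v = (P : Matrix (Fin 6) (Fin 6) F) *ᵥ r := by
  classical
  have hcF := hc.cardF
  have h2F : (2 : F) = 0 := two_eq_zero_of_card_four hcF
  have h2E : (2 : E) = 0 := by
    have := congrArg (algebraMap F E) h2F
    rwa [map_ofNat, map_zero] at this
  have hfinE : Finite E := Nat.finite_of_card_ne_zero (by rw [hc.cardE]; norm_num)
  have : Fintype E := Fintype.ofFinite E
  have hcE : Fintype.card E = 64 := by rw [← Nat.card_eq_fintype_card]; exact hc.cardE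
  have h64 : ∀ a : E, a ^ 64 = a := fun a => by
    have := FiniteField.pow_card a
    rwa [hcE] at this
  obtain ⟨ω, hω⟩ := exists_omega hcF
  have hω4 : ω ^ 4 = ω := by
    have := FiniteField.pow_card ω
    rwa [hcF] at this
  set φ : E →+* E := frob8 h2E with hφ_def
  have hφ : ∀ x : E, φ x = x ^ 8 := fun x => rfl
  obtain ⟨b, hb, hspan⟩ := exists_span3 h2E
  -- `F`-linear combinations of the `b i`
  set lin : (Fin 3 → F) → E := fun ε => ∑ i, algebraMap F E (ε i) * b i with hlin
  have hlin_fix : ∀ ε : Fin 3 → F, (∀ i, ε i ^ 2 = ε i) → lin ε ^ 8 = lin ε := by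
    intro ε hε
    show φ (∑ i, algebraMap F E (ε i) * b i) = ∑ i, algebraMap F E (ε i) * b i
    rw [map_sum]
    refine Finset.sum_congr rfl (fun i _ => ?_)
    have : ε i ^ 8 = ε i := by
      calc ε i ^ 8 = ((ε i ^ 2) ^ 2) ^ 2 := by ring
        _ = ε i := by rw [hε, hε, hε]
    rw [map_mul, hφ, hφ, hb, ← map_pow, this]
  have hlin_span : ∀ x : E, x ^ 8 = x → ∃ ε : Fin 3 → F, (∀ i, ε i ^ 2 = ε i) ∧ x = lin ε := by
    intro x hx
    obtain ⟨s, hs⟩ := hspan x hx
    refine ⟨fun i => if i ∈ s then 1 else 0, fun i => ?_, ?_⟩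
    · by_cases hi : i ∈ s
      · simp [hi]
      · simp [hi]
    · rw [hs]
      show ∑ i ∈ s, b i = ∑ i, algebraMap F E (if i ∈ s then 1 else 0) * b i
      have : ∀ i, algebraMap F E (if i ∈ s then 1 else 0) * b i = if i ∈ s then b i else 0 := by
        intro i; split_ifs <;> simp
      simp only [this]
      rw [Finset.sum_ite_mem, Finset.univ_inter]
  -- linearity of `lin`
  have hlin_add : ∀ (ε δ : Fin 3 → F) (c : F),
      lin (fun i => ε i + c * δ i) = lin ε + algebraMap F E c * lin δ := by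
    intro ε δ c
    show ∑ i, algebraMap F E (ε i + c * δ i) * b i =
      ∑ i, algebraMap F E (ε i) * b i + algebraMap F E c * ∑ i, algebraMap F E (δ i) * b i
    rw [Finset.mul_sum, ← Finset.sum_add_distrib]
    refine Finset.sum_congr rfl (fun i _ => ?_)
    rw [map_add, map_mul]
    ring
  -- `ρ (lin ε) *ᵥ z = Σ ε i • (ρ (b i) *ᵥ z)`
  have hρlin : ∀ (ε : Fin 3 → F) (z : Fin 6 → F), ρ (lin ε) *ᵥ z = ∑ i, ε i • (ρ (b i) *ᵥ z) := by
    intro ε z
    show ρ (∑ i, algebraMap F E (ε i) * b i) *ᵥ z = _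
    rw [map_sum, Matrix.sum_mulVec]
    refine Finset.sum_congr rfl (fun i _ => ?_)
    rw [map_mul, AlgHom.commutes, Algebra.algebraMap_eq_smul_one, smul_mul_assoc, one_mul,
      Matrix.smul_mulVec]
  -- the matrix
  let col : Fin 6 → (Fin 6 → F) :=
    Fin.append (fun i : Fin 3 => ρ (b i) *ᵥ u) (fun i : Fin 3 => ρ (b i) *ᵥ w)
  let M : Matrix (Fin 6) (Fin 6) F := Matrix.of (fun i j => col j i)
  have hM : ∀ r : Fin 6 → F, M *ᵥ r =
      ρ (lin (fun i => r (Fin.castAdd 3 i))) *ᵥ u + ρ (lin (fun i => r (Fin.natAdd 3 i))) *ᵥ w := by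
    intro r
    rw [hρlin, hρlin]
    ext k
    simp only [Matrix.mulVec, dotProduct, M, Matrix.of_apply, Pi.add_apply, Finset.sum_apply,
      Pi.smul_apply, smul_eq_mul]
    rw [show (∑ j : Fin 6, col j k * r j) = ∑ j : Fin (3 + 3), col j k * r j from rfl,
      Fin.sum_univ_add]
    simp only [col, Fin.append_left, Fin.append_right]
    congr 1 <;> exact Finset.sum_congr rfl (fun i _ => mul_comm _ _)
  have hsurj : Function.Surjective M.mulVec := by
    intro v
    have hdec : ∀ a : E, ∃ ε : Fin 3 → F, a = lin ε := by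
      intro a
      have hy8 : (a + a ^ 8) ^ 8 = a + a ^ 8 := by
        rw [add_pow_eight h2E, ← pow_mul, h64]
        ring
      have hω8 : (algebraMap F E ω) ^ 8 = algebraMap F E ω + 1 := by
        rw [← map_pow]
        have : ω ^ 8 = ω + 1 := by
          calc ω ^ 8 = (ω ^ 4) ^ 2 := by ring
            _ = ω + 1 := by rw [hω4, hω]
        rw [this, map_add, map_one]
      have hx8 : (a + algebraMap F E ω * (a + a ^ 8)) ^ 8 = a + algebraMap F E ω * (a + a ^ 8) := by
        rw [add_pow_eight h2E, mul_pow, hω8, hy8]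
        linear_combination (a ^ 8) * h2E
      obtain ⟨ε, -, hε⟩ := hlin_span _ hx8
      obtain ⟨δ, -, hδ⟩ := hlin_span _ hy8
      refine ⟨fun i => ε i + ω * δ i, ?_⟩
      rw [hlin_add, ← hε, ← hδ]
      linear_combination (-(algebraMap F E ω) * (a + a ^ 8)) * h2E
    obtain ⟨ε₁, h₁⟩ := hdec (h v w)
    obtain ⟨ε₂, h₂⟩ := hdec (h v u)
    refine ⟨Fin.append ε₁ ε₂, ?_⟩
    show M *ᵥ _ = v
    rw [hM]
    simp only [Fin.append_left, Fin.append_right]
    rw [← h₁, ← h₂]
    exact (hcoords v).symm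
  have hunit : IsUnit M := Matrix.mulVec_surjective_iff_isUnit.mp hsurj
  refine ⟨hunit.unit, fun v => ⟨?_, ?_⟩⟩
  · rintro ⟨hv1, hv2⟩
    obtain ⟨ε₁, hε₁, h₁⟩ := hlin_span _ hv1
    obtain ⟨ε₂, hε₂, h₂⟩ := hlin_span _ hv2
    refine ⟨Fin.append ε₁ ε₂, ?_, ?_⟩
    · intro i
      refine Fin.addCases (m := 3) (n := 3) (fun j => ?_) (fun j => ?_) i
      · rw [Fin.append_left]
        exact hε₁ j
      · rw [Fin.append_right]
        exact hε₂ j
    · rw [IsUnit.unit_spec, hM]
      simp only [Fin.append_left, Fin.append_right]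
      rw [← h₁, ← h₂]
      exact hcoords v
  · rintro ⟨r, hr, rfl⟩
    rw [IsUnit.unit_spec, hM]
    refine ⟨?_, ?_⟩
    · rw [h_comb_right hh hy]
      exact hlin_fix _ (fun i => hr _)
    · rw [h_comb_left hh hy]
      exact hlin_fix _ (fun i => hr _)

/-- (F5) AN `F_2`-BASIS OF `V₀` IS AN `F`-BASIS OF `V` -/
theorem exists_rational_basis (hc : FCtx ρ) (hh : HForm ρ h) (hy : Hyp h u w) :
    ∃ P : GL (Fin 6) F, ∀ v : Fin 6 → F,
      V0 h u w v ↔ ∃ r : Fin 6 → F, Rat r ∧ v = (P : Matrix (Fin 6) (Fin 6) F) *ᵥ r :=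
  exists_rational_basis_core hc hh hy (Cfsg.Agent.Lib.Helper1.SU6FLeaf.coords hc hh hy)

end Cfsg.Agent.Lib.Helper17.SU6FLeaf
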