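import Mathlib
import Cfsg.Agent.Lib.Helper4.SUMDefs
import Cfsg.Agent.Lib.Helper4.SUMT

/-!
SUnMax market (helper4): leaf P3 `not_su_le_field` (helper17).  Copy of helper4's `not_sl_le_field` with unitary transvections.
-/

set_option autoImplicit false
set_option linter.unusedSectionVars false
set_option linter.unusedVariables false

namespace Cfsg.Agent.Lib.Helper17.SUMLeaf

open Cfsg.Geo Matrix Module Cfsg.Agent.Lib.Helper4.SUM

variable {n : ℕ} {F : Type*} [Field F] [Fintype F] {q : ℕ}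

/-- the invertible matrices commuting with a fixed matrix -/
def commGL (k : Matrix (Fin n) (Fin n) F) : Subgroup (GL (Fin n) F) where
  carrier := {g | (g : Matrix (Fin n) (Fin n) F) * k = k * (g : Matrix (Fin n) (Fin n) F)}
  mul_mem' {a b} ha hb := by
    simp only [Set.mem_setOf_eq] at ha hb ⊢
    rw [Units.val_mul, mul_assoc, hb, ← mul_assoc, ha, mul_assoc]
  one_mem' := by simp
  inv_mem' {a} ha := by
    simp only [Set.mem_setOf_eq] at ha ⊢
    have h1 : ((a⁻¹ : GL (Fin n) F) : Matrix (Fin n) (Fin n) F) * (a : Matrix (Fin n) (Fin n) F) = 1 := by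
      rw [← Units.val_mul, inv_mul_cancel, Units.val_one]
    have h2 : (a : Matrix (Fin n) (Fin n) F) * ((a⁻¹ : GL (Fin n) F) : Matrix (Fin n) (Fin n) F) = 1 := by
      rw [← Units.val_mul, mul_inv_cancel, Units.val_one]
    calc ((a⁻¹ : GL (Fin n) F) : Matrix (Fin n) (Fin n) F) * k
        = ((a⁻¹ : GL (Fin n) F) : Matrix (Fin n) (Fin n) F) * k * ((a : Matrix (Fin n) (Fin n) F) *
            ((a⁻¹ : GL (Fin n) F) : Matrix (Fin n) (Fin n) F)) := by rw [h2, mul_one]
      _ = ((a⁻¹ : GL (Fin n) F) : Matrix (Fin n) (Fin n) F) * (k * (a : Matrix (Fin n) (Fin n) F)) *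
            ((a⁻¹ : GL (Fin n) F) : Matrix (Fin n) (Fin n) F) := by simp only [mul_assoc]
      _ = ((a⁻¹ : GL (Fin n) F) : Matrix (Fin n) (Fin n) F) * ((a : Matrix (Fin n) (Fin n) F) * k) *
            ((a⁻¹ : GL (Fin n) F) : Matrix (Fin n) (Fin n) F) := by rw [ha]
      _ = (((a⁻¹ : GL (Fin n) F) : Matrix (Fin n) (Fin n) F) * (a : Matrix (Fin n) (Fin n) F)) * k *
            ((a⁻¹ : GL (Fin n) F) : Matrix (Fin n) (Fin n) F) := by simp only [mul_assoc]
      _ = k * ((a⁻¹ : GL (Fin n) F) : Matrix (Fin n) (Fin n) F) := by rw [h1, one_mul]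

theorem mem_commGL (k : Matrix (Fin n) (Fin n) F) (g : GL (Fin n) F) :
    g ∈ commGL k ↔ (g : Matrix (Fin n) (Fin n) F) * k = k * (g : Matrix (Fin n) (Fin n) F) := Iff.rfl

/-- `x ↦ hermForm x v` as a linear map -/
def hermL (n : ℕ) (F : Type*) [Field F] (q : ℕ) (v : Fin n → F) : (Fin n → F) →ₗ[F] F where
  toFun x := Cfsg.hermForm n F q x v
  map_add' x y := by
    unfold Cfsg.hermForm
    simp only [Pi.add_apply, add_mul, Finset.sum_add_distrib]
  map_smul' a x := by
    unfold Cfsg.hermForm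
    simp only [Pi.smul_apply, smul_eq_mul, RingHom.id_apply, Finset.mul_sum, mul_assoc]

theorem hermL_apply (v x : Fin n → F) : hermL n F q v x = Cfsg.hermForm n F q x v := rfl

/-- P3. -/
theorem not_su_le_field (hF : Fintype.card F = q ^ 2) (hn : 3 ≤ n) (h32 : ¬ (n = 3 ∧ q = 2)) {r : ℕ} (hr : r.Prime)
    {K : Subalgebra F (Matrix (Fin n) (Fin n) F)} (hK : IsFieldSubalgebra r K) :
    ¬ SUg n F q ≤ subalgebraNormalizer K := by
  intro hle
  -- every element of `K` commutes with `SU`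
  have hcomm : ∀ k ∈ K, SUg n F q ≤ commGL k := by
    intro k hk
    refine Cfsg.Agent.Lib.Helper4.SUMLeaf.su_le_of_tv hF hn h32 (commGL k) ?_
    intro t ht v c hv hc htM
    rw [mem_commGL]
    have hnorm : ∀ k : Matrix (Fin n) (Fin n) F, k ∈ K ↔
        (t : Matrix (Fin n) (Fin n) F) * k * ((t⁻¹ : GL (Fin n) F) : Matrix (Fin n) (Fin n) F) ∈ K := hle ht
    have htt : ((t⁻¹ : GL (Fin n) F) : Matrix (Fin n) (Fin n) F) * (t : Matrix (Fin n) (Fin n) F) = 1 := by
      rw [← Units.val_mul, inv_mul_cancel, Units.val_one]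
    obtain ⟨k', hk'def⟩ : ∃ k' : Matrix (Fin n) (Fin n) F,
        k' = (t : Matrix (Fin n) (Fin n) F) * k * ((t⁻¹ : GL (Fin n) F) : Matrix (Fin n) (Fin n) F) := ⟨_, rfl⟩
    have hk' : k' ∈ K := by rw [hk'def]; exact (hnorm k).1 hk
    have hd : k' - k ∈ K := K.sub_mem hk' hk
    -- a non-zero vector `w` with `f(w, v) = 0` and `f(k w, v) = 0`
    obtain ⟨f, hf⟩ : ∃ f : (Fin n → F) →ₗ[F] F × F,
        f = LinearMap.prod (hermL n F q v) ((hermL n F q v).comp (Matrix.toLin' k)) := ⟨_, rfl⟩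
    have hker : LinearMap.ker f ≠ ⊥ := by
      apply LinearMap.ker_ne_bot_of_finrank_lt
      rw [Module.finrank_prod, Module.finrank_self, Module.finrank_fin_fun]
      omega
    obtain ⟨w, hwk, hw0⟩ := Submodule.exists_mem_ne_zero_of_ne_bot hker
    rw [LinearMap.mem_ker, hf, LinearMap.prod_apply] at hwk
    have hwk' : ((hermL n F q v) w, ((hermL n F q v).comp (Matrix.toLin' k)) w) = ((0, 0) : F × F) := hwk
    rw [Prod.mk.injEq] at hwk'
    obtain ⟨hw1, hw2⟩ := hwk'
    have hw1' : Cfsg.hermForm n F q w v = 0 := hw1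
    have hw2' : Cfsg.hermForm n F q (k *ᵥ w) v = 0 := by
      have : (hermL n F q v) (Matrix.toLin' k w) = 0 := hw2
      rwa [Matrix.toLin'_apply, hermL_apply] at this
    -- `t` fixes `w` and `k w`
    have htw : (t : Matrix (Fin n) (Fin n) F) *ᵥ w = w := by
      rw [htM, Cfsg.Agent.Lib.Helper4.SUMLeaf.ut_mulVec, hw1', mul_zero, zero_smul, add_zero]
    have htkw : (t : Matrix (Fin n) (Fin n) F) *ᵥ (k *ᵥ w) = k *ᵥ w := by
      rw [htM, Cfsg.Agent.Lib.Helper4.SUMLeaf.ut_mulVec, hw2', mul_zero, zero_smul, add_zero]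
    have htiw : ((t⁻¹ : GL (Fin n) F) : Matrix (Fin n) (Fin n) F) *ᵥ w = w := by
      have h1 : ((t⁻¹ : GL (Fin n) F) : Matrix (Fin n) (Fin n) F) *ᵥ ((t : Matrix (Fin n) (Fin n) F) *ᵥ w) = w := by
        rw [Matrix.mulVec_mulVec, htt, Matrix.one_mulVec]
      rw [htw] at h1
      exact h1
    have hdw : (k' - k) *ᵥ w = 0 := by
      rw [Matrix.sub_mulVec, hk'def, ← Matrix.mulVec_mulVec, ← Matrix.mulVec_mulVec, htiw, htkw, sub_self]
    -- so `k' = k`
    have hd0 : k' - k = 0 := by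
      by_contra hne
      obtain ⟨y, hy, hdy⟩ := hK.inv _ hd hne
      have hyd : y * (k' - k) = 1 := by rw [hK.comm y hy _ hd]; exact hdy
      apply hw0
      have : (y * (k' - k)) *ᵥ w = w := by rw [hyd, Matrix.one_mulVec]
      rw [← Matrix.mulVec_mulVec, hdw, Matrix.mulVec_zero] at this
      exact this.symm
    have hkk : k' = k := sub_eq_zero.1 hd0
    calc (t : Matrix (Fin n) (Fin n) F) * k
        = (t : Matrix (Fin n) (Fin n) F) * k * (((t⁻¹ : GL (Fin n) F) : Matrix (Fin n) (Fin n) F) *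
            (t : Matrix (Fin n) (Fin n) F)) := by rw [htt, mul_one]
      _ = k' * (t : Matrix (Fin n) (Fin n) F) := by rw [hk'def]; simp only [mul_assoc]
      _ = k * (t : Matrix (Fin n) (Fin n) F) := by rw [hkk]
  -- so `K` consists of scalars
  have habs := Cfsg.Agent.Lib.Helper4.SUMLeaf.su_absIrr (n := n) (F := F) (q := q) hF hn
  have hKbot : K = ⊥ := by
    rw [eq_bot_iff]
    intro k hk
    obtain ⟨c, hc⟩ := habs.2 k (by
      rintro s ⟨g, hg, rfl⟩
      exact ((mem_commGL k g).1 (hcomm k hk hg)).symm)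
    rw [Algebra.mem_bot]
    exact ⟨c, by rw [hc, Algebra.algebraMap_eq_smul_one]⟩
  haveI : Nonempty (Fin n) := ⟨⟨0, by omega⟩⟩
  have h1 := hK.finrank_eq
  rw [hKbot, Subalgebra.finrank_bot] at h1
  exact Nat.not_prime_one (h1 ▸ hr)

end Cfsg.Agent.Lib.Helper17.SUMLeaf
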