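import Mathlib
import Cfsg.Agent.Lib.Helper4.SUMDefs
import Cfsg.Agent.Lib.Helper4.SUMT
import Cfsg.Agent.Lib.Helper4.SLMP6

/-!
SUnMax market (helper4): leaf P6 `not_su_le_symplType` (helper17).  Copy of helper4's `not_sl_le_symplType`.
-/

set_option autoImplicit false
set_option linter.unusedSectionVars false
set_option linter.unusedVariables false

namespace Cfsg.Agent.Lib.Helper17.SUMLeaf

open Cfsg.Geo Matrix Module Cfsg.Agent.Lib.Helper4.SUM
open scoped commutatorElement

variable {n : ℕ} {F : Type*} [Field F] [Fintype F] {q : ℕ}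

/-- powers of a unitary transvection with isotropic centre, on vectors -/
theorem ut_pow_mulVec (t : GL (Fin n) F) (v : Fin n → F) (c : F) (hv : Cfsg.hermForm n F q v v = 0)
    (htM : (t : Matrix (Fin n) (Fin n) F) = Cfsg.unitaryTransvection n q v c) (m : ℕ) (x : Fin n → F) :
    ((t ^ m : GL (Fin n) F) : Matrix (Fin n) (Fin n) F) *ᵥ x = x + ((m : F) * (c * Cfsg.hermForm n F q x v)) • v := by
  induction m with
  | zero => simp
  | succ m ih =>
    rw [pow_succ', Units.val_mul, ← Matrix.mulVec_mulVec, ih, htM, Cfsg.Agent.Lib.Helper4.SUMLeaf.ut_mulVec]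
    have hadd : Cfsg.hermForm n F q (x + ((m : F) * (c * Cfsg.hermForm n F q x v)) • v) v
        = Cfsg.hermForm n F q x v := by
      unfold Cfsg.hermForm at hv ⊢
      simp only [Pi.add_apply, Pi.smul_apply, smul_eq_mul, add_mul, Finset.sum_add_distrib, mul_assoc,
        ← Finset.mul_sum, hv, mul_zero, add_zero]
    rw [hadd, add_assoc, ← add_smul]
    congr 2
    push_cast
    ring

/-- P6. -/
theorem not_su_le_symplType (hF : Fintype.card F = q ^ 2) (hn : 3 ≤ n) (h32 : ¬ (n = 3 ∧ q = 2)) {r p : ℕ}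
    {R : Subgroup (GL (Fin n) F)} (hR : IsSymplecticTypeGroup r R) (habs : ActsAbsolutelyIrreducibly (matrixSet R))
    (hsim : R ≤ similarityGroup (Cfsg.hermForm n F q)) (hrp : r ≠ p) (hchar : CharP F p) :
    ¬ SUg n F q ≤ subgroupNormalizer R := by
  intro hle
  have hnormR : ∀ g ∈ SUg n F q, ∀ x ∈ R, g * x * g⁻¹ ∈ R := by
    intro g hg x hx
    have := hle hg
    unfold subgroupNormalizer at this
    rw [Subgroup.mem_normalizer_iff] at this
    exact (this x).1 hx
  have hSUn : ∀ g ∈ SUg n F q, ∀ x ∈ SUg n F q, g * x * g⁻¹ ∈ SUg n F q := by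
    intro g hg x hx
    exact Subgroup.mul_mem _ (Subgroup.mul_mem _ hg hx) (Subgroup.inv_mem _ hg)
  have hR1norm : ∀ g ∈ SUg n F q, ∀ x ∈ R ⊓ SUg n F q, g * x * g⁻¹ ∈ R ⊓ SUg n F q := by
    intro g hg x hx
    exact ⟨hnormR g hg x hx.1, hSUn g hg x hx.2⟩
  rcases Cfsg.Agent.Lib.Helper4.SUMLeaf.su_normal_sub hF hn h32 (R ⊓ SUg n F q) inf_le_right hR1norm with h1 | h1
  · -- `SU ≤ R`: a transvection has order `p`
    have hSUR : SUg n F q ≤ R := by rw [← h1]; exact inf_le_left
    obtain ⟨v, hv0, hv⟩ := Cfsg.Agent.Lib.Helper4.SUMLeaf.exists_isotropic (n := n) (F := F) (q := q) hF (by omega)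
    obtain ⟨c, hc0, hc⟩ := Cfsg.Agent.Lib.Helper4.SUMLeaf.exists_skew (F := F) (q := q) hF
    obtain ⟨t, ht, htM⟩ := Cfsg.Agent.Lib.Helper4.SUMLeaf.tv_mem (n := n) hF hv hc
    obtain ⟨k, hk⟩ := hR.pGroup ⟨t, hSUR ht⟩
    have hk' : (t : GL (Fin n) F) ^ (r ^ k) = 1 := by
      have := congrArg (fun y : R => (y : GL (Fin n) F)) hk
      simpa using this
    have hf := Cfsg.Agent.Lib.Helper5.HermBridge.herm_unitary (n := n) (F := F) (q := q) hF
    obtain ⟨x, hx⟩ := (hf.nondegenerate v hv0).1
    have h2 := ut_pow_mulVec t v c hv htM (r ^ k) x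
    rw [hk', Units.val_one, Matrix.one_mulVec] at h2
    have h3 : (((r ^ k : ℕ) : F) * (c * Cfsg.hermForm n F q x v)) • v = 0 := by
      have : x + (((r ^ k : ℕ) : F) * (c * Cfsg.hermForm n F q x v)) • v = x + 0 := by rw [add_zero]; exact h2.symm
      exact add_left_cancel this
    have h4 : ((r ^ k : ℕ) : F) * (c * Cfsg.hermForm n F q x v) = 0 := by
      rcases smul_eq_zero.mp h3 with h | h
      · exact h
      · exact absurd h hv0
    have h02 : ((r ^ k : ℕ) : F) = 0 := by
      rcases mul_eq_zero.mp h4 with h | h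
      · exact h
      · rcases mul_eq_zero.mp h with h' | h'
        · exact absurd h' hc0
        · exact absurd h' hx
    haveI := hchar
    have hp : p.Prime := by
      rcases CharP.char_is_prime_or_zero F p with h | h
      · exact h
      · exact absurd h (CharP.char_ne_zero_of_finite F p)
    rw [CharP.cast_eq_zero_iff F p] at h02
    have h03 := hp.dvd_of_dvd_pow h02
    exact hrp ((Nat.prime_dvd_prime_iff_eq hp hR.prime).1 h03).symm
  · -- `R ⊓ SU` is scalar: then `R` is scalar
    have hRs : R ≤ scalars (Fin n) F := by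
      intro x hx
      have hcen : SUg n F q ≤ Subgroup.centralizer {x} := by
        apply Cfsg.Agent.Lib.Helper4.SLMLeaf.le_centralizer_of_comm_scalars
          (Cfsg.Agent.Lib.Helper4.SUMLeaf.su_perfect hF hn h32)
        intro g hg
        apply h1
        constructor
        · have h2 := hnormR g hg x⁻¹ (R.inv_mem hx)
          have e : x * g * x⁻¹ * g⁻¹ = x * (g * x⁻¹ * g⁻¹) := by group
          rw [e]
          exact R.mul_mem hx h2
        · -- `x g x⁻¹ ∈ SU`
          have hxg : x * g * x⁻¹ ∈ SUg n F q := by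
            obtain ⟨lam, hlam⟩ := hsim hx
            rw [Cfsg.Agent.Lib.Helper4.SUMLeaf.mem_SUg_iff] at hg ⊢
            obtain ⟨hgf, hgd⟩ := hg
            have hxx : ∀ u : Fin n → F, (x : Matrix (Fin n) (Fin n) F) *ᵥ
                (((x⁻¹ : GL (Fin n) F) : Matrix (Fin n) (Fin n) F) *ᵥ u) = u := by
              intro u
              rw [Matrix.mulVec_mulVec, ← Units.val_mul, mul_inv_cancel, Units.val_one, Matrix.one_mulVec]
            constructor
            · intro u w
              have e1 : ∀ u : Fin n → F, ((x * g * x⁻¹ : GL (Fin n) F) : Matrix (Fin n) (Fin n) F) *ᵥ u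
                  = (x : Matrix (Fin n) (Fin n) F) *ᵥ ((g : Matrix (Fin n) (Fin n) F) *ᵥ
                    (((x⁻¹ : GL (Fin n) F) : Matrix (Fin n) (Fin n) F) *ᵥ u)) := by
                intro u
                rw [Units.val_mul, Units.val_mul, ← Matrix.mulVec_mulVec, ← Matrix.mulVec_mulVec]
              rw [e1, e1, hlam, hgf, ← hlam, hxx, hxx]
            · rw [Units.val_mul, Units.val_mul, Matrix.det_mul, Matrix.det_mul, hgd, mul_one, ← Matrix.det_mul,
                ← Units.val_mul, mul_inv_cancel, Units.val_one, Matrix.det_one]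
          exact Subgroup.mul_mem _ hxg (Subgroup.inv_mem _ hg)
      -- `x` commutes with `SU`, which is absolutely irreducible
      have habsSU := Cfsg.Agent.Lib.Helper4.SUMLeaf.su_absIrr (n := n) (F := F) (q := q) hF hn
      obtain ⟨c, hc⟩ := habsSU.2 (x : Matrix (Fin n) (Fin n) F) (by
        rintro s ⟨g, hg, rfl⟩
        have h2 := hcen hg
        rw [Subgroup.mem_centralizer_iff] at h2
        have h3 := h2 x rfl
        have h4 := congrArg (fun g : GL (Fin n) F => (g : Matrix (Fin n) (Fin n) F)) h3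
        simpa only [Units.val_mul] using h4)
      exact Cfsg.Agent.Lib.Helper4.SLMLeaf.mem_scalars_of_smul_one x c hc
    exact Cfsg.Agent.Lib.Helper4.SLMLeaf.not_irr_of_le_scalars (by omega) hRs habs.1

end Cfsg.Agent.Lib.Helper17.SUMLeaf
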