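import Cfsg.Agent.Lib.Helper17.SUgDec6
import Cfsg.Agent.Lib.Helper2.UDense6Main

/-!
# S5801 conjunct (3): the stabiliser of an orthogonal frame (six non-degenerate lines) is maximal in `SU_6(q)`, `q ≥ 3` (helper17)

`frames_max_six` = conjunct (3) of S5801 verbatim: `Helper17.SUgDec6.frames_max_of` (non-dense world, re-run of the S5655 `k = 1`
tower at `4 ≤ n`) instantiated with helper2's exclusion of the dense world in dimension six (`Helper2.UDense6.not_worldW6`).
-/

set_option autoImplicit false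

namespace Cfsg.Agent.Lib.Helper17.SUgDec6

/-- the dense world is impossible in dimension six (helper2) -/
theorem notWorldW_six {F : Type*} [Field F] [Fintype F] : NotWorldW 6 F := by
  intro Θ hΘ L hT ζ hζΘ r hr hζ g hg hnm
  exact Cfsg.Agent.Lib.Helper2.UDense6.not_worldW6 (ι := Fin 6) (by simp) Θ hΘ L hT ζ hζΘ r hr hζ g hg hnm

/-- **Conjunct (3) of S5801**: for `q ≥ 3` the stabiliser of a decomposition of the unitary space `F^6` into six mutually orthogonal
non-degenerate lines is maximal in `SU_6(q)`. -/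
theorem frames_max_six {F : Type*} [Field F] [Fintype F] (q : ℕ) (hF : Fintype.card F = q ^ 2) :
    3 ≤ q → ∀ D : Fin 6 → Submodule F (Fin 6 → F),
      Cfsg.Geo.IsNondegenerateMDecomposition (Cfsg.hermForm 6 F q) 1 D →
      Cfsg.Geo.IsMaximalIn (Cfsg.GU 6 F q ⊓ Cfsg.Geo.specialLinear (Fin 6) F)
        (Cfsg.Geo.decompositionStabilizer D ⊓ (Cfsg.GU 6 F q ⊓ Cfsg.Geo.specialLinear (Fin 6) F)) :=
  fun hq D hD => frames_max_of 6 q hF (by norm_num) hq notWorldW_six D hD

end Cfsg.Agent.Lib.Helper17.SUgDec6
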