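/-
helper17: S4395 leaf (CARD) `card_eq_of_frame`: `|X| = |P| q^r` for a generating frame with `P` a `p`-group and
`y` of order `q^r`.
-/
import Mathlib
import Cfsg.Prelude.Def_Transfer
import Cfsg.Agent.Lib.Helper21.SchDefs
import Cfsg.Agent.Lib.Helper22.SchNORM

set_option autoImplicit false
universe u v
open Cfsg
open Cfsg.Agent.Lib.Helper21.Sch

namespace Cfsg.Agent.Lib.Helper17.SchCARD

variable {p : ℕ} [Fact p.Prime] {K : Type*} [Field K] {ω : K} {X : Type*} [Group X]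

omit [Fact p.Prime] in
/-- `X = P ⊔ ⟨y⟩` for a generating frame -/
theorem sup_zpowers_eq_top (𝔣 : Frame p ω X) (hgen : 𝔣.IsGen) :
    𝔣.P ⊔ Subgroup.zpowers 𝔣.y = ⊤ := by
  have h : Subgroup.closure ((𝔣.P : Set X) ∪ {𝔣.y}) = ⊤ := hgen
  rw [Subgroup.closure_union, Subgroup.closure_eq, ← Subgroup.zpowers_eq_closure] at h
  exact h

/-- `P` and `⟨y⟩` are complements -/
theorem isComplement'_zpowers [Finite X] (𝔣 : Frame p ω X) (q r : ℕ) [Fact q.Prime] (hpq : p ≠ q)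
    (hgen : 𝔣.IsGen) (hP : IsPGroup p 𝔣.P) (hy : orderOf 𝔣.y = q ^ r) :
    Subgroup.IsComplement' 𝔣.P (Subgroup.zpowers 𝔣.y) := by
  have hN : 𝔣.P.Normal := Cfsg.Agent.Lib.Helper22.SchNORM.normal_of_frame 𝔣 hgen
  have hQ : IsPGroup q (Subgroup.zpowers 𝔣.y) := by
    apply IsPGroup.of_card (n := r)
    rw [Nat.card_zpowers, hy]
  have hdisj : Disjoint 𝔣.P (Subgroup.zpowers 𝔣.y) := IsPGroup.disjoint_of_ne p q hpq _ _ hP hQ
  apply Subgroup.isComplement'_of_disjoint_and_mul_eq_univ hdisj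
  rw [← Subgroup.normal_mul, sup_zpowers_eq_top 𝔣 hgen]
  rfl

/-- **TAG CARD** -/
theorem card_eq_of_frame [Finite X] (𝔣 : Frame p ω X) (q r : ℕ) [Fact q.Prime] (hpq : p ≠ q)
    (hgen : 𝔣.IsGen) (hP : IsPGroup p 𝔣.P) (hy : orderOf 𝔣.y = q ^ r) :
    Nat.card X = Nat.card 𝔣.P * q ^ r := by
  have h := (isComplement'_zpowers 𝔣 q r hpq hgen hP hy).card_mul_card
  rw [Nat.card_zpowers, hy] at h
  exact h.symm

end Cfsg.Agent.Lib.Helper17.SchCARD
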