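/-
helper17: S4395 leaf (MIN1) `not_hasNormalPComplement_of_frame`: a generating frame with `ω ≠ 1` has no normal
`p`-complement.
-/
import Mathlib
import Cfsg.Prelude.Def_Transfer
import Cfsg.Agent.Lib.Helper21.SchDefs
import Cfsg.Agent.Lib.Helper23.SchCalc

set_option autoImplicit false
set_option linter.unusedVariables false
set_option linter.unusedSectionVars false
universe u v
open Cfsg
open Cfsg.Agent.Lib.Helper21.Sch

namespace Cfsg.Agent.Lib.Helper17.SchMIN1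

open Cfsg.Agent.Lib.Helper23.SchCalc

variable {p : ℕ} [Fact p.Prime] {K : Type*} [Field K] {ω : K} {X : Type*} [Group X]

/-- **TAG MIN1** -/
theorem not_hasNormalPComplement_of_frame [Finite X] (𝔣 : Frame p ω X) (q r : ℕ) [Fact q.Prime]
    (hpq : p ≠ q) (hω1 : ω ≠ 1) (hgen : 𝔣.IsGen) (hP : IsPGroup p 𝔣.P) (hy : orderOf 𝔣.y = q ^ r) :
    ¬ Cfsg.HasNormalPComplement p X := by
  have hp : p.Prime := Fact.out
  have hq : q.Prime := Fact.out
  rintro ⟨S, N, hN, hNS⟩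
  -- `|N| = |X : S|` is coprime to `p`
  have hNcard : Nat.card N = (S : Subgroup X).index := hNS.index_eq_card.symm
  have hNcop : (Nat.card N).Coprime p := by
    rw [hNcard]
    exact (Nat.Prime.coprime_iff_not_dvd hp).2 S.not_dvd_index |>.symm
  -- `P ⊓ N = ⊥`
  have hPN : 𝔣.P ⊓ N = ⊥ := by
    apply disjoint_iff.mp
    apply Subgroup.disjoint_of_coprime_natCard
    obtain ⟨k, hk⟩ := IsPGroup.iff_card.mp hP
    rw [hk]
    exact (Nat.Coprime.pow_right k hNcop).symm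
  -- `|X / N| = |S|` is a power of `p`
  have hidx : N.index = Nat.card S := hNS.symm.index_eq_card
  obtain ⟨k, hk⟩ := IsPGroup.iff_card.mp S.2
  -- `y ∈ N`
  have hyN : 𝔣.y ∈ N := by
    rw [← QuotientGroup.eq_one_iff]
    have h1 : orderOf ((𝔣.y : X) : X ⧸ N) ∣ q ^ r := by
      rw [← hy]
      exact orderOf_map_dvd (QuotientGroup.mk' N) 𝔣.y
    have h2 : orderOf ((𝔣.y : X) : X ⧸ N) ∣ p ^ k := by
      rw [← hk, ← hidx, Subgroup.index_eq_card]
      exact orderOf_dvd_natCard _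
    have h3 : orderOf ((𝔣.y : X) : X ⧸ N) ∣ 1 := by
      have hc : (q ^ r).Coprime (p ^ k) :=
        Nat.Coprime.pow r k ((Nat.coprime_primes hq hp).2 (Ne.symm hpq))
      have := Nat.dvd_gcd h1 h2
      rwa [Nat.Coprime.gcd_eq_one hc] at this
    exact orderOf_eq_one_iff.mp (Nat.dvd_one.mp h3)
  -- an element with `π x = 1`
  obtain ⟨x, hx, hx1⟩ := pv_surj 𝔣 (1 : K)
  have hmem : x⁻¹ * (𝔣.y * x * 𝔣.y⁻¹) ∈ 𝔣.P ⊓ N := by
    refine ⟨𝔣.P.mul_mem (𝔣.P.inv_mem hx) (𝔣.y_norm x hx), ?_⟩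
    have h1 : x⁻¹ * (𝔣.y * x * 𝔣.y⁻¹) = (x⁻¹ * 𝔣.y * x⁻¹⁻¹) * 𝔣.y⁻¹ := by group
    rw [h1]
    exact N.mul_mem (hN.conj_mem _ hyN _) (N.inv_mem hyN)
  rw [hPN, Subgroup.mem_bot] at hmem
  have hfix : 𝔣.y * x * 𝔣.y⁻¹ = x := by
    have := congrArg (fun t => x * t) hmem
    simpa using this
  have h1 := pv_conj 𝔣 hx
  rw [pv_congr 𝔣 hfix _ hx, hx1, mul_one] at h1
  exact hω1 h1.symm

end Cfsg.Agent.Lib.Helper17.SchMIN1
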