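/-
helper17: S4395 leaf (MIN2B) `le_of_sup_ne_top`: a subgroup `H` with `H P ≠ X` lies in `P ⟨y^q⟩`.
-/
import Mathlib
import Cfsg.Prelude.Def_Transfer
import Cfsg.Agent.Lib.Helper21.SchDefs
import Cfsg.Agent.Lib.Helper22.SchNORM
import Cfsg.Agent.Lib.Helper17.SchCARD

set_option autoImplicit false
set_option linter.unusedVariables false
set_option linter.unusedSectionVars false
universe u v
open Cfsg
open Cfsg.Agent.Lib.Helper21.Sch

namespace Cfsg.Agent.Lib.Helper17.SchMIN2B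

variable {p : ℕ} [Fact p.Prime] {K : Type*} [Field K] {ω : K} {X : Type*} [Group X]

/-- every element of `X = ⟨P, y⟩` is `x y^m` with `x ∈ P` -/
theorem exists_decomp [Finite X] (𝔣 : Frame p ω X) (hgen : 𝔣.IsGen) (g : X) :
    ∃ x ∈ 𝔣.P, ∃ m : ℕ, g = x * 𝔣.y ^ m := by
  have hN : 𝔣.P.Normal := Cfsg.Agent.Lib.Helper22.SchNORM.normal_of_frame (p := p) 𝔣 hgen
  have hg : g ∈ ((𝔣.P ⊔ Subgroup.zpowers 𝔣.y : Subgroup X) : Set X) := by
    rw [Cfsg.Agent.Lib.Helper17.SchCARD.sup_zpowers_eq_top 𝔣 hgen]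
    exact Set.mem_univ g
  rw [Subgroup.normal_mul, Set.mem_mul] at hg
  obtain ⟨x, hx, z, hz, hxz⟩ := hg
  have hz' : z ∈ Submonoid.powers 𝔣.y :=
    (isOfFinOrder_of_finite 𝔣.y).mem_powers_iff_mem_zpowers.mpr hz
  obtain ⟨m, hm⟩ := Submonoid.mem_powers_iff _ _ |>.mp hz'
  exact ⟨x, hx, m, by rw [hm, hxz]⟩

/-- **TAG MIN2B** -/
theorem le_of_sup_ne_top [Finite X] (𝔣 : Frame p ω X) (q r : ℕ) [Fact q.Prime] (hpq : p ≠ q)
    (hgen : 𝔣.IsGen) (hP : IsPGroup p 𝔣.P) (hy : orderOf 𝔣.y = q ^ r)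
    (H : Subgroup X) (hHP : H ⊔ 𝔣.P ≠ ⊤) :
    H ≤ 𝔣.P ⊔ Subgroup.zpowers (𝔣.y ^ q) := by
  have hq : q.Prime := Fact.out
  intro h hh
  obtain ⟨x, hx, m, hm⟩ := exists_decomp 𝔣 hgen h
  by_cases hqm : q ∣ m
  · obtain ⟨k, rfl⟩ := hqm
    rw [hm, pow_mul]
    exact Subgroup.mul_mem _ (Subgroup.mem_sup_left hx)
      (Subgroup.mem_sup_right (Subgroup.pow_mem _ (Subgroup.mem_zpowers _) k))
  · exfalso
    apply hHP
    have hcop : m.Coprime (orderOf 𝔣.y) := by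
      rw [hy]
      exact Nat.Coprime.pow_right r ((Nat.Prime.coprime_iff_not_dvd hq).2 hqm).symm
    obtain ⟨k, hk⟩ := exists_pow_eq_self_of_coprime hcop
    have hym : 𝔣.y ^ m ∈ H ⊔ 𝔣.P := by
      have : 𝔣.y ^ m = x⁻¹ * h := by rw [hm]; group
      rw [this]
      exact Subgroup.mul_mem _ (Subgroup.mem_sup_right (𝔣.P.inv_mem hx)) (Subgroup.mem_sup_left hh)
    have hyy : 𝔣.y ∈ H ⊔ 𝔣.P := by
      rw [← hk]
      exact Subgroup.pow_mem _ hym k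
    rw [eq_top_iff, ← Cfsg.Agent.Lib.Helper17.SchCARD.sup_zpowers_eq_top 𝔣 hgen, sup_le_iff]
    exact ⟨le_sup_right, by rw [Subgroup.zpowers_le]; exact hyy⟩

end Cfsg.Agent.Lib.Helper17.SchMIN2B
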