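/-
helper17: S4395 leaf (MIN2D) `hasNormalPComplement_of_commute`: an abelian subgroup has a normal `p`-complement.
-/
import Mathlib
import Cfsg.Prelude.Def_Transfer
import Cfsg.Agent.Lib.Helper21.SchDefs
import Cfsg.Agent.Lib.Helper16.GagL

set_option autoImplicit false
universe u v
open Cfsg
open Cfsg.Agent.Lib.Helper21.Sch

namespace Cfsg.Agent.Lib.Helper17.SchMIN2D

/-- **TAG MIN2D** -/
theorem hasNormalPComplement_of_commute {X : Type u} [Group X] [Finite X] (p : ℕ) [Fact p.Prime]
    (H : Subgroup X) (hH : ∀ h ∈ H, ∀ h' ∈ H, h * h' = h' * h) : Cfsg.HasNormalPComplement p ↥H := by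
  let inst : CommGroup ↥H :=
    { (inferInstance : Group ↥H) with
      mul_comm := fun a b => Subtype.ext (hH a.1 a.2 b.1 b.2) }
  exact @Cfsg.Agent.Lib.Helper16.Gag.hasNormalPComplement_of_comm ↥H inst _ p _

end Cfsg.Agent.Lib.Helper17.SchMIN2D
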