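/-
helper17: S4395 leaf (YQ) `pow_q_centralizes`: `y^q` centralizes `P`.
-/
import Mathlib
import Cfsg.Prelude.Def_Transfer
import Cfsg.Agent.Lib.Helper21.SchDefs
import Cfsg.Agent.Lib.Helper23.SchCalc

set_option autoImplicit false
universe u v
open Cfsg
open Cfsg.Agent.Lib.Helper21.Sch

namespace Cfsg.Agent.Lib.Helper17.SchYQ

open Cfsg.Agent.Lib.Helper23.SchCalc

variable {p : ℕ} [Fact p.Prime] {K : Type*} [Field K] {ω : K} {X : Type*} [Group X]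

omit [Fact p.Prime] in
/-- conjugation by `y^k` preserves `P` and multiplies `π` by `ω^k` -/
theorem conj_pow_mem (𝔣 : Frame p ω X) (k : ℕ) {x : X} (hx : x ∈ 𝔣.P) :
    ∃ h : 𝔣.y ^ k * x * (𝔣.y ^ k)⁻¹ ∈ 𝔣.P, pv 𝔣 _ h = ω ^ k * pv 𝔣 x hx := by
  induction k with
  | zero =>
    have h0 : 𝔣.y ^ 0 * x * (𝔣.y ^ 0)⁻¹ = x := by simp
    refine ⟨by rw [h0]; exact hx, ?_⟩
    rw [pv_congr 𝔣 h0 _ hx, pow_zero, one_mul]
  | succ k ih =>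
    obtain ⟨h, hpv⟩ := ih
    have h1 : 𝔣.y ^ (k + 1) * x * (𝔣.y ^ (k + 1))⁻¹ = 𝔣.y * (𝔣.y ^ k * x * (𝔣.y ^ k)⁻¹) * 𝔣.y⁻¹ := by
      rw [pow_succ']
      group
    have h2 : 𝔣.y * (𝔣.y ^ k * x * (𝔣.y ^ k)⁻¹) * 𝔣.y⁻¹ ∈ 𝔣.P := 𝔣.y_norm _ h
    refine ⟨by rw [h1]; exact h2, ?_⟩
    rw [pv_congr 𝔣 h1 _ h2, pv_conj 𝔣 h, hpv, pow_succ']
    ring

/-- **TAG YQ** -/
theorem pow_q_centralizes (𝔣 : Frame p ω X) (q n : ℕ) (hωq : ω ^ q = 1) (hn : 𝔣.y ^ n = 1) (hnp : n.Coprime p) :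
    ∀ x ∈ 𝔣.P, 𝔣.y ^ q * x * (𝔣.y ^ q)⁻¹ = x := by
  intro x hx
  set g : X := 𝔣.y ^ q with hg
  obtain ⟨hgx, hpv⟩ := conj_pow_mem 𝔣 q hx
  rw [hωq, one_mul] at hpv
  -- `z = x⁻¹ (g x g⁻¹)` lies in the kernel
  set z : X := x⁻¹ * (g * x * g⁻¹) with hz
  have hzP : z ∈ 𝔣.P := 𝔣.P.mul_mem (𝔣.P.inv_mem hx) hgx
  have hz0 : pv 𝔣 z hzP = 0 := by
    rw [pv_mul 𝔣 (𝔣.P.inv_mem hx) hgx, pv_inv 𝔣 hx, hpv]
    ring
  have hzy : Commute 𝔣.y z := by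
    have h := ker_conj 𝔣 hzP hz0
    show 𝔣.y * z = z * 𝔣.y
    calc 𝔣.y * z = (𝔣.y * z * 𝔣.y⁻¹) * 𝔣.y := by group
      _ = z * 𝔣.y := by rw [h]
  have hzg : Commute g z := hzy.pow_left q
  have hgx' : g * x * g⁻¹ = x * z := by rw [hz]; group
  -- iterate
  have hiter : ∀ j : ℕ, g ^ j * x * (g ^ j)⁻¹ = x * z ^ j := by
    intro j
    induction j with
    | zero => simp
    | succ j ih =>
      have h1 : g ^ (j + 1) * x * (g ^ (j + 1))⁻¹ = g * (g ^ j * x * (g ^ j)⁻¹) * g⁻¹ := by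
        rw [pow_succ']
        group
      rw [h1, ih]
      have h2 : g * (x * z ^ j) * g⁻¹ = (g * x * g⁻¹) * (g * z ^ j * g⁻¹) := by group
      have h3 : g * z ^ j * g⁻¹ = z ^ j := by
        have := (hzg.pow_right j).eq
        rw [this]
        group
      rw [h2, h3, hgx', mul_assoc, ← pow_succ']
  have hgn : g ^ n = 1 := by
    rw [hg, ← pow_mul, mul_comm, pow_mul, hn, one_pow]
  have hzn : z ^ n = 1 := by
    have h := hiter n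
    rw [hgn] at h
    simp only [one_mul, inv_one, mul_one] at h
    exact (mul_eq_left.mp h.symm)
  have hzp : z ^ p = 1 := ker_pow 𝔣 hzP hz0
  have hz1 : z = 1 := by
    have h1 : orderOf z ∣ n := orderOf_dvd_of_pow_eq_one hzn
    have h2 : orderOf z ∣ p := orderOf_dvd_of_pow_eq_one hzp
    have h3 : orderOf z ∣ 1 := by
      have := Nat.dvd_gcd h1 h2
      rwa [Nat.Coprime.gcd_eq_one hnp] at this
    exact orderOf_eq_one_iff.mp (Nat.dvd_one.mp h3)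
  rw [hgx', hz1, mul_one]

end Cfsg.Agent.Lib.Helper17.SchYQ
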