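import Mathlib

/-!
helper17: a group of semilinear maps `x ↦ a * σ x` of a finite field of odd characteristic that is
transitive on the nonzero elements has a normal subgroup of index `2` (kernel of
`g ↦ quadratic character of g • 1`).
-/

set_option autoImplicit false
set_option linter.style.haveILetI false

namespace Cfsg.Agent.Lib.Helper17.SemiIndexTwo

theorem quadraticChar_ringEquiv {F : Type*} [Field F] [Fintype F] [DecidableEq F] (σ : F ≃+* F)
    (x : F) : quadraticChar F (σ x) = quadraticChar F x := by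
  by_cases hx : x = 0
  · rw [hx, map_zero]
  have hσx : σ x ≠ 0 := fun h => hx ((map_eq_zero_iff σ σ.injective).mp h)
  rcases quadraticChar_dichotomy hx with h | h
  · rw [h, quadraticChar_one_iff_isSquare hσx]
    obtain ⟨y, hy⟩ := (quadraticChar_one_iff_isSquare hx).mp h
    exact ⟨σ y, by rw [hy, map_mul]⟩
  · rw [h, quadraticChar_neg_one_iff_not_isSquare]
    rintro ⟨y, hy⟩
    apply quadraticChar_neg_one_iff_not_isSquare.mp h
    refine ⟨σ.symm y, ?_⟩
    rw [← map_mul, ← hy, RingEquiv.symm_apply_apply]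

theorem exists_index_two {G : Type*} [Group G] {V : Type*} [AddCommGroup V]
    {F : Type*} [Field F] [Fintype F] (hF : ringChar F ≠ 2)
    (act : G → V → V) (h1 : ∀ v, act 1 v = v) (hmul : ∀ g h v, act (g * h) v = act g (act h v))
    (e : V ≃+ F) (v₀ : V) (he : e v₀ = 1)
    (hsemi : ∀ g : G, ∃ (a : F) (σ : F ≃+* F), ∀ v : V, e (act g v) = a * σ (e v))
    (htrans : ∀ w : V, w ≠ 0 → ∃ g : G, act g v₀ = w) :
    ∃ N : Subgroup G, N.Normal ∧ N.index = 2 := by
  classical
  have hv₀ : v₀ ≠ 0 := by
    intro h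
    rw [h, map_zero] at he
    exact zero_ne_one he
  -- `act g` fixes `0`
  have hact0 : ∀ g : G, act g 0 = 0 := by
    intro g
    obtain ⟨a, σ, h⟩ := hsemi g
    have := h 0
    rw [map_zero, map_zero, mul_zero] at this
    exact (AddEquiv.map_eq_zero_iff e).mp this
  have hne : ∀ g : G, e (act g v₀) ≠ 0 := by
    intro g h
    have h2 : act g v₀ = 0 := (AddEquiv.map_eq_zero_iff e).mp h
    have h3 : act g⁻¹ (act g v₀) = v₀ := by rw [← hmul, inv_mul_cancel, h1]
    rw [h2, hact0] at h3
    exact hv₀ h3.symm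
  have hkey : ∀ g h : G, ∃ σ : F ≃+* F, e (act (g * h) v₀) = e (act g v₀) * σ (e (act h v₀)) := by
    intro g h
    obtain ⟨a, σ, hσ⟩ := hsemi g
    refine ⟨σ, ?_⟩
    have ha : e (act g v₀) = a := by rw [hσ, he, map_one, mul_one]
    rw [hmul, hσ, ha]
  let f : G →* ℤˣ :=
    { toFun := fun g => (quadraticChar F).toUnitHom (Units.mk0 (e (act g v₀)) (hne g))
      map_one' := by
        have : Units.mk0 (e (act 1 v₀)) (hne 1) = 1 := by
          apply Units.ext
          show e (act 1 v₀) = 1
          rw [h1, he]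
        rw [this, map_one]
      map_mul' := by
        intro g h
        obtain ⟨σ, hσ⟩ := hkey g h
        have hσne : σ (e (act h v₀)) ≠ 0 :=
          fun h0 => hne h ((map_eq_zero_iff σ σ.injective).mp h0)
        have h2 : Units.mk0 (e (act (g * h) v₀)) (hne (g * h)) =
            Units.mk0 (e (act g v₀)) (hne g) * Units.mk0 (σ (e (act h v₀))) hσne := by
          apply Units.ext
          exact hσ
        rw [h2, map_mul]
        congr 1
        apply Units.ext
        rw [MulChar.coe_toUnitHom, MulChar.coe_toUnitHom]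
        exact quadraticChar_ringEquiv σ _ }
  have hf : ∀ g : G, ((f g : ℤˣ) : ℤ) = quadraticChar F (e (act g v₀)) := fun g => rfl
  -- surjectivity
  obtain ⟨a, ha⟩ := quadraticChar_exists_neg_one hF
  have ha0 : a ≠ 0 := by
    rintro rfl
    rw [MulChar.map_zero] at ha
    omega
  obtain ⟨g₀, hg₀⟩ := htrans (e.symm a) (by
    intro h
    apply ha0
    have := congrArg e h
    rwa [AddEquiv.apply_symm_apply, map_zero] at this)
  have hfg₀ : f g₀ = -1 := by
    apply Units.ext
    rw [hf, hg₀, AddEquiv.apply_symm_apply, ha]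
    rfl
  refine ⟨f.ker, inferInstance, ?_⟩
  rw [Subgroup.index_ker]
  have htop : f.range = ⊤ := by
    rw [eq_top_iff]
    intro u _
    rcases Int.units_eq_one_or u with rfl | rfl
    · exact one_mem _
    · exact ⟨g₀, hfg₀⟩
  rw [htop, Subgroup.card_top, Nat.card_eq_fintype_card, Fintype.card_units_int]

end Cfsg.Agent.Lib.Helper17.SemiIndexTwo
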