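/-
helper17: sharply 3-transitive groups (Zassenhaus, odd case).  Subgroups of index two:
existence from Burnside transfer, invariance under an involutory automorphism.
-/
import Mathlib

set_option autoImplicit false

namespace Cfsg.Agent.Lib.Helper17.Sh3

open Subgroup

section idx
variable {X : Type*} [Group X]

/-- pulling back a subgroup of index two along a surjection -/
theorem exists_index_two_of_surjective {Q : Type*} [Group Q] (f : X →* Q)
    (hf : Function.Surjective f) (h : ∃ M : Subgroup Q, M.index = 2) :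
    ∃ M : Subgroup X, M.index = 2 := by
  obtain ⟨M, hM⟩ := h
  exact ⟨M.comap f, by rw [Subgroup.index_comap_of_surjective M hf, hM]⟩

/-- a nontrivial finite `2`-group has a subgroup of index two -/
theorem exists_index_two_of_two_group [Finite X] {k : ℕ} (hk : Nat.card X = 2 ^ (k + 1)) :
    ∃ M : Subgroup X, M.index = 2 := by
  have : Fact (Nat.Prime 2) := ⟨Nat.prime_two⟩
  obtain ⟨M, hM⟩ := Sylow.exists_subgroup_card_pow_prime (G := X) 2 (n := k)
    (by rw [hk]; exact pow_dvd_pow 2 (Nat.le_succ k))
  refine ⟨M, ?_⟩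
  have h1 := M.card_mul_index
  rw [hM, hk, pow_succ] at h1
  exact Nat.eq_of_mul_eq_mul_left (by positivity) h1

/-- Burnside transfer: a nontrivial Sylow `2`-subgroup central in its normalizer gives a
subgroup of index two -/
theorem exists_index_two_of_transfer [Finite X] (P : Sylow 2 X)
    (hP : normalizer (P : Set X) ≤ centralizer (P : Set X)) (h2 : 2 ∣ Nat.card X) :
    ∃ M : Subgroup X, M.index = 2 := by
  have : Fact (Nat.Prime 2) := ⟨Nat.prime_two⟩
  have hc := MonoidHom.ker_transferSylow_isComplement' P hP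
  have hidx := hc.symm.index_eq_card
  obtain ⟨k, hk⟩ := IsPGroup.iff_card.mp P.isPGroup'
  have hk0 : k ≠ 0 := by
    intro h0
    rw [h0, pow_zero] at hk
    have h3 := P.card_eq_multiplicity
    rw [hk] at h3
    have h4 : 2 ∣ 2 ^ (Nat.card X).factorization 2 := by
      apply dvd_pow_self
      intro h5
      have := (Nat.Prime.factorization_pos_of_dvd Nat.prime_two Nat.card_pos.ne' h2)
      omega
    rw [← h3] at h4
    omega
  obtain ⟨k', rfl⟩ : ∃ k', k = k' + 1 := ⟨k - 1, by omega⟩
  have hq : Nat.card (X ⧸ (MonoidHom.transferSylow P hP).ker) = 2 ^ (k' + 1) := by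
    rw [← Subgroup.index_eq_card, hidx, hk]
  exact exists_index_two_of_surjective (QuotientGroup.mk' _) (QuotientGroup.mk'_surjective _)
    (exists_index_two_of_two_group hq)

/-- a finite group of even order with cyclic Sylow `2`-subgroups has a subgroup of index two -/
theorem exists_index_two_of_cyclic_sylow [Finite X] (P : Sylow 2 X)
    (hP : IsCyclic (P : Subgroup X)) (h2 : 2 ∣ Nat.card X) : ∃ M : Subgroup X, M.index = 2 := by
  have hmin : (Nat.card X).minFac = 2 := (Nat.minFac_eq_two_iff _).mpr h2
  exact exists_index_two_of_transfer P (hP.normalizer_le_centralizer hmin) h2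

/-- a finite commutative group of even order has a subgroup of index two -/
theorem exists_index_two_of_comm [Finite X] (hcomm : ∀ x y : X, x * y = y * x)
    (h2 : 2 ∣ Nat.card X) : ∃ M : Subgroup X, M.index = 2 := by
  have : Fact (Nat.Prime 2) := ⟨Nat.prime_two⟩
  obtain ⟨P⟩ : Nonempty (Sylow 2 X) := inferInstance
  apply exists_index_two_of_transfer P _ h2
  intro x _
  rw [Subgroup.mem_centralizer_iff]
  intro y _
  exact hcomm y x

/-- a finite group of even order with a cyclic normal subgroup and commutative quotient has a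
subgroup of index two -/
theorem exists_index_two_of_metacyclic [Finite X] (C : Subgroup X) [C.Normal] (hC : IsCyclic C)
    (hq : ∀ x y : X, x * y * x⁻¹ * y⁻¹ ∈ C) (h2 : 2 ∣ Nat.card X) :
    ∃ M : Subgroup X, M.index = 2 := by
  have : Fact (Nat.Prime 2) := ⟨Nat.prime_two⟩
  by_cases hQ : 2 ∣ Nat.card (X ⧸ C)
  · apply exists_index_two_of_surjective (QuotientGroup.mk' C) (QuotientGroup.mk'_surjective C)
    apply exists_index_two_of_comm _ hQ
    intro x y
    induction x using QuotientGroup.induction_on with
    | H x =>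
      induction y using QuotientGroup.induction_on with
      | H y =>
        rw [← QuotientGroup.mk_mul, ← QuotientGroup.mk_mul, QuotientGroup.eq]
        have := hq y⁻¹ x⁻¹
        have e : (x * y)⁻¹ * (y * x) = y⁻¹ * x⁻¹ * y⁻¹⁻¹ * x⁻¹⁻¹ := by group
        rw [e]; exact this
  · obtain ⟨P⟩ : Nonempty (Sylow 2 X) := inferInstance
    apply exists_index_two_of_cyclic_sylow P _ h2
    have hle : (P : Subgroup X) ≤ C := by
      intro x hx
      rw [← QuotientGroup.eq_one_iff]
      obtain ⟨k, hk⟩ := P.isPGroup' ⟨x, hx⟩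
      have hk' : x ^ 2 ^ k = 1 := by
        have := congrArg Subtype.val hk
        simpa using this
      have h1 : ((x : X) : X ⧸ C) ^ 2 ^ k = 1 := by
        rw [← QuotientGroup.mk_pow, hk']; rfl
      have h2' : orderOf ((x : X) : X ⧸ C) ∣ 2 ^ k := orderOf_dvd_of_pow_eq_one h1
      have h3 : orderOf ((x : X) : X ⧸ C) ∣ Nat.card (X ⧸ C) := orderOf_dvd_natCard _
      obtain ⟨j, -, hj⟩ := (Nat.dvd_prime_pow Nat.prime_two).mp h2'
      rcases Nat.eq_zero_or_pos j with h0 | hpos
      · rw [h0, pow_zero] at hj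
        exact orderOf_eq_one_iff.mp hj
      · exfalso
        apply hQ
        exact dvd_trans (by rw [hj]; exact dvd_pow_self 2 hpos.ne') h3
    let φ : (P : Subgroup X) →* C := Subgroup.inclusion hle
    exact isCyclic_of_injective φ (Subgroup.inclusion_injective hle)

/-- an index two subgroup invariant under an involutory automorphism -/
theorem exists_invariant_index_two (σ : X ≃* X) (hσ : ∀ x, σ (σ x) = x)
    (h : ∃ M : Subgroup X, M.index = 2) :
    ∃ N : Subgroup X, N.index = 2 ∧ ∀ n ∈ N, σ n ∈ N := by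
  obtain ⟨M, hM⟩ := h
  obtain ⟨M', hM'def⟩ : ∃ M' : Subgroup X, M' = M.comap σ.toMonoidHom := ⟨_, rfl⟩
  have hM' : M'.index = 2 := by
    rw [hM'def, Subgroup.index_comap_of_surjective M σ.surjective, hM]
  have hmem : ∀ x, x ∈ M' ↔ σ x ∈ M := by
    intro x; rw [hM'def]; rfl
  by_cases heq : M' = M
  · refine ⟨M, hM, ?_⟩
    intro n hn
    rw [← hmem, heq]; exact hn
  · -- an element of `M` outside `M'`
    have hex : ∃ a, a ∈ M ∧ a ∉ M' := by
      by_contra hcon
      push Not at hcon
      have hle : M ≤ M' := hcon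
      apply heq
      have h1 := Subgroup.relIndex_mul_index hle
      rw [hM, hM'] at h1
      have h2 : M.relIndex M' = 1 := by omega
      exact le_antisymm (Subgroup.relIndex_eq_one.mp h2) hle
    obtain ⟨a, haM, haM'⟩ := hex
    let N : Subgroup X :=
      { carrier := {x | x ∈ M ↔ x ∈ M'}
        one_mem' := by
          show (1 : X) ∈ M ↔ (1 : X) ∈ M'
          exact ⟨fun _ => one_mem _, fun _ => one_mem _⟩
        mul_mem' := by
          intro x y hx hy
          show x * y ∈ M ↔ x * y ∈ M'
          have hx' : x ∈ M ↔ x ∈ M' := hx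
          have hy' : y ∈ M ↔ y ∈ M' := hy
          rw [Subgroup.mul_mem_iff_of_index_two hM, Subgroup.mul_mem_iff_of_index_two hM', hx', hy']
        inv_mem' := by
          intro x hx
          show x⁻¹ ∈ M ↔ x⁻¹ ∈ M'
          have hx' : x ∈ M ↔ x ∈ M' := hx
          rw [inv_mem_iff, inv_mem_iff, hx'] }
    have hN : ∀ x, x ∈ N ↔ (x ∈ M ↔ x ∈ M') := fun x => Iff.rfl
    refine ⟨N, ?_, ?_⟩
    · rw [Subgroup.index_eq_two_iff]
      refine ⟨a, fun b => ?_⟩
      rw [hN, hN, Subgroup.mul_mem_iff_of_index_two hM, Subgroup.mul_mem_iff_of_index_two hM']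
      unfold Xor
      tauto
    · intro n hn
      rw [hN] at hn ⊢
      rw [hmem (σ n), hσ n, ← hmem n]
      exact hn.symm

end idx

end Cfsg.Agent.Lib.Helper17.Sh3
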