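/-
helper17: sharply 3-transitive groups (Zassenhaus, odd case).  Linear algebra: the centralizer
of an irreducible commutative group of linear maps is commutative.
-/
import Mathlib

set_option autoImplicit false

namespace Cfsg.Agent.Lib.Helper17.Sh3

section lin
variable {R : Type*} [CommRing R] {V : Type*} [AddCommGroup V] [Module R V]

/-- the centralizer of an irreducible commutative group of linear automorphisms is commutative -/
theorem comm_of_centralizes_irreducible [Nontrivial V] (A : Subgroup (V ≃ₗ[R] V))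
    (hcomm : ∀ a ∈ A, ∀ b ∈ A, a * b = b * a)
    (hirr : ∀ W : Submodule R V, (∀ a ∈ A, ∀ v ∈ W, a v ∈ W) → W = ⊥ ∨ W = ⊤)
    (c c' : V ≃ₗ[R] V) (hc : ∀ a ∈ A, c * a = a * c) (hc' : ∀ a ∈ A, c' * a = a * c') :
    c * c' = c' * c := by
  obtain ⟨v₀, hv₀⟩ := exists_ne (0 : V)
  obtain ⟨S, hS⟩ : ∃ S : Submodule R (V →ₗ[R] V),
      S = Submodule.span R {f | ∃ a ∈ A, f = (a : V ≃ₗ[R] V).toLinearMap} := ⟨_, rfl⟩
  -- left multiplication by `A` preserves `S`
  have f1 : ∀ e ∈ S, ∀ a ∈ A, (a : V ≃ₗ[R] V).toLinearMap ∘ₗ e ∈ S := by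
    intro e he a ha
    rw [hS] at he ⊢
    induction he using Submodule.span_induction with
    | mem f hf =>
      obtain ⟨a', ha', rfl⟩ := hf
      apply Submodule.subset_span
      exact ⟨a * a', A.mul_mem ha ha', rfl⟩
    | zero => rw [LinearMap.comp_zero]; exact Submodule.zero_mem _
    | add x y _ _ hx hy => rw [LinearMap.comp_add]; exact Submodule.add_mem _ hx hy
    | smul r x _ hx => rw [LinearMap.comp_smul]; exact Submodule.smul_mem _ r hx
  -- elements commuting with `A` commute with `S`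
  have f3 : ∀ e ∈ S, ∀ x : V ≃ₗ[R] V, (∀ a ∈ A, x * a = a * x) → ∀ v, x (e v) = e (x v) := by
    intro e he x hx
    rw [hS] at he
    induction he using Submodule.span_induction with
    | mem f hf =>
      obtain ⟨a', ha', rfl⟩ := hf
      intro v
      have := congrArg (fun g : V ≃ₗ[R] V => g v) (hx a' ha')
      exact this
    | zero => intro v; simp
    | add y z _ _ hy hz => intro v; simp [hy v, hz v]
    | smul r y _ hy => intro v; simp [hy v]
  -- the orbit span of `v₀` is everything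
  obtain ⟨W₁, hW₁⟩ : ∃ W₁ : Submodule R V, W₁ = S.map (LinearMap.applyₗ v₀) := ⟨_, rfl⟩
  have hW₁mem : ∀ w, w ∈ W₁ ↔ ∃ e ∈ S, e v₀ = w := by
    intro w
    rw [hW₁, Submodule.mem_map]
    rfl
  have hW₁top : W₁ = ⊤ := by
    have hinv : ∀ a ∈ A, ∀ v ∈ W₁, a v ∈ W₁ := by
      intro a ha v hv
      rw [hW₁mem] at hv ⊢
      obtain ⟨e, he, rfl⟩ := hv
      exact ⟨_, f1 e he a ha, rfl⟩
    rcases hirr W₁ hinv with h | h
    · exfalso
      have : v₀ ∈ W₁ := by
        rw [hW₁mem]
        refine ⟨((1 : V ≃ₗ[R] V) : V ≃ₗ[R] V).toLinearMap, ?_, rfl⟩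
        rw [hS]
        apply Submodule.subset_span
        exact ⟨1, A.one_mem, rfl⟩
      rw [h, Submodule.mem_bot] at this
      exact hv₀ this
    · exact h
  -- every element commuting with `A` acts as an element of `S`
  have f4 : ∀ x : V ≃ₗ[R] V, (∀ a ∈ A, x * a = a * x) → ∃ e ∈ S, ∀ v, x v = e v := by
    intro x hx
    have h1 : x v₀ ∈ W₁ := by rw [hW₁top]; exact Submodule.mem_top
    rw [hW₁mem] at h1
    obtain ⟨e, he, hev⟩ := h1
    refine ⟨e, he, ?_⟩
    obtain ⟨W₂, hW₂⟩ : ∃ W₂ : Submodule R V, W₂ = LinearMap.eqLocus x.toLinearMap e := ⟨_, rfl⟩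
    have hW₂mem : ∀ w, w ∈ W₂ ↔ x w = e w := by
      intro w
      rw [hW₂, LinearMap.mem_eqLocus]
      rfl
    have hinv : ∀ a ∈ A, ∀ v ∈ W₂, a v ∈ W₂ := by
      intro a ha v hv
      rw [hW₂mem] at hv ⊢
      have h2 := congrArg (fun g : V ≃ₗ[R] V => g v) (hx a ha)
      have h3 : x (a v) = a (x v) := h2
      rw [h3, hv]
      exact f3 e he a (fun b hb => hcomm a ha b hb) v
    rcases hirr W₂ hinv with h | h
    · exfalso
      have : v₀ ∈ W₂ := by rw [hW₂mem]; exact hev.symm
      rw [h, Submodule.mem_bot] at this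
      exact hv₀ this
    · intro v
      rw [← hW₂mem, h]
      exact Submodule.mem_top
  obtain ⟨e, he, hce⟩ := f4 c hc
  apply LinearEquiv.ext
  intro v
  show c (c' v) = c' (c v)
  rw [hce (c' v), hce v]
  exact (f3 e he c' hc' v).symm

end lin

end Cfsg.Agent.Lib.Helper17.Sh3
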