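/-
helper17: Zassenhaus cluster.  More detailed data in the nonsolvable case: a quaternion subgroup
of `T3 X`, and the internal direct product `T3 X × M`.
-/
import Mathlib
import Cfsg.Agent.Lib.Helper17.ZsMainD

set_option autoImplicit false

namespace Cfsg.Agent.Lib.Helper17.Zs

open Subgroup Equiv

universe u v

/-- two commuting involutions of `A₅` -/
def q₁ : Perm (Fin 5) := c[0, 1] * c[2, 3]
/-- two commuting involutions of `A₅` -/
def q₂ : Perm (Fin 5) := c[0, 2] * c[1, 3]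

theorem q₁_mem : q₁ ∈ alternatingGroup (Fin 5) := by
  rw [Equiv.Perm.mem_alternatingGroup]; decide
theorem q₂_mem : q₂ ∈ alternatingGroup (Fin 5) := by
  rw [Equiv.Perm.mem_alternatingGroup]; decide
theorem q₁_sq : q₁ * q₁ = 1 := by decide
theorem q₂_sq : q₂ * q₂ = 1 := by decide
theorem q₁₂_sq : (q₁ * q₂) * (q₁ * q₂) = 1 := by decide
theorem q₁_ne : q₁ ≠ 1 := by decide
theorem q₂_ne : q₂ ≠ 1 := by decide
theorem q₁₂_ne : q₁ * q₂ ≠ 1 := by decide

section quat
variable {X : Type u} [Group X] {z : X} (A : ZsAx X z)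
  (f : T3 X →* alternatingGroup (Fin 5)) (hf : Function.Surjective f)
  (hfk : ∀ x : T3 X, f x = 1 ↔ (x : X) = 1 ∨ (x : X) = z)

include A hfk in
/-- a lift of an involution squares to `z` -/
theorem sq_eq_z_of_lift (x : T3 X) (h1 : f x * f x = 1) (h2 : f x ≠ 1) : (x : X) * (x : X) = z := by
  have h3 : f (x * x) = 1 := by rw [map_mul, h1]
  rcases (hfk _).mp h3 with h | h
  · exfalso
    apply h2
    rw [hfk]
    exact A.inv_unique _ (by simpa using h)
  · simpa using h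

include A hf hfk in
/-- a quaternion subgroup of `T3 X` -/
theorem exists_quat : ∃ i j : X, i ∈ T3 X ∧ j ∈ T3 X ∧ i * i = z ∧ j * j = z ∧
    (i * j) * (i * j) = z := by
  obtain ⟨i, hi⟩ := hf ⟨q₁, q₁_mem⟩
  obtain ⟨j, hj⟩ := hf ⟨q₂, q₂_mem⟩
  refine ⟨i, j, i.2, j.2, ?_, ?_, ?_⟩
  · apply sq_eq_z_of_lift A f hfk i
    · rw [hi]; exact Subtype.ext q₁_sq
    · rw [hi]; intro h; exact q₁_ne (congrArg Subtype.val h)
  · apply sq_eq_z_of_lift A f hfk j
    · rw [hj]; exact Subtype.ext q₂_sq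
    · rw [hj]; intro h; exact q₂_ne (congrArg Subtype.val h)
  · have := sq_eq_z_of_lift A f hfk (i * j) (by
      rw [map_mul, hi, hj]; exact Subtype.ext q₁₂_sq) (by
      rw [map_mul, hi, hj]; intro h; exact q₁₂_ne (congrArg Subtype.val h))
    simpa using this

end quat

section data
variable {X : Type u} [Group X] [Finite X]

/-- all the data in the nonsolvable case -/
theorem nonsolvable_data (h : HasFree.{u, v} X) (hns : ¬ Group.IsSolvable X) :
    ∃ z : X, ZsAx X z ∧ Nat.card (T3 X) = 120 ∧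
      Nonempty (T3 X ≃* Matrix.SpecialLinearGroup (Fin 2) (ZMod 5)) ∧
      (∃ i j : X, i ∈ T3 X ∧ j ∈ T3 X ∧ i * i = z ∧ j * j = z ∧ (i * j) * (i * j) = z) ∧
      ∃ M : Subgroup X, M.Normal ∧ Odd (Nat.card M) ∧ (Nat.card M).Coprime 30 ∧
        (∀ s ∈ T3 X, ∀ x ∈ M, s * x = x * s) ∧ T3 X ⊓ M = ⊥ ∧
        ((T3 X ⊔ M).index = 1 ∨ (T3 X ⊔ M).index = 2) := by
  rcases solvable_or_chart h with hs | ⟨z, A, hc⟩
  · exact (hns hs).elim
  obtain ⟨f, Φ, hf, hfk, hker, hΦ, -⟩ := exists_indAut A hc (by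
    rw [Nat.card_eq_fintype_card, Fintype.card_perm, Fintype.card_fin]; rfl)
  obtain ⟨hS, hM⟩ := chart_five_structure h A hc
  exact ⟨z, A, hc.2.1, hS, exists_quat A f hf hfk, hM⟩

omit [Finite X] in
/-- internal direct product of two commuting subgroups with trivial intersection -/
theorem card_sup_of_commute (S M : Subgroup X) (hcomm : ∀ s ∈ S, ∀ x ∈ M, s * x = x * s)
    (hinf : S ⊓ M = ⊥) :
    ∃ φ : S × M →* X, Function.Injective φ ∧ φ.range = S ⊔ M ∧
      ∀ s : S, ∀ m : M, φ (s, m) = (s : X) * (m : X) := by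
  have hc : ∀ (s : S) (m : M), Commute (S.subtype s) (M.subtype m) :=
    fun s m => hcomm s s.2 m m.2
  refine ⟨MonoidHom.noncommCoprod S.subtype M.subtype hc, ?_, ?_, ?_⟩
  · rw [injective_iff_map_eq_one]
    rintro ⟨s, m⟩ hsm
    rw [MonoidHom.noncommCoprod_apply] at hsm
    have h1 : (s : X) = (m : X)⁻¹ := eq_inv_of_mul_eq_one_left hsm
    have h2 : (s : X) ∈ S ⊓ M := Subgroup.mem_inf.mpr ⟨s.2, h1 ▸ inv_mem m.2⟩
    rw [hinf, Subgroup.mem_bot] at h2
    have h3 : (m : X) = 1 := by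
      rw [h2] at h1
      exact inv_eq_one.mp h1.symm
    exact Prod.ext (Subtype.ext h2) (Subtype.ext h3)
  · rw [MonoidHom.noncommCoprod_range, Subgroup.range_subtype, Subgroup.range_subtype]
  · intro s m
    rw [MonoidHom.noncommCoprod_apply]; rfl

end data

end Cfsg.Agent.Lib.Helper17.Zs
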