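/-
helper17: Zassenhaus cluster.  Linear groups over the prime field that are regular on the nonzero
vectors: free representation, the half-dimensional kernel of a nilpotent element of the quaternion
algebra, and the arithmetic of the insoluble case.
-/
import Mathlib
import Cfsg.Agent.Lib.Helper17.ZsMainE
import Cfsg.Agent.Lib.Helper17.RegLinField

set_option autoImplicit false

namespace Cfsg.Agent.Lib.Helper17.ZsReg

open Cfsg.Agent.Lib.Helper29.RegLin Cfsg.Agent.Lib.Helper17.RegLinField Cfsg.Agent.Lib.Helper17.Zs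

universe u

section ring
variable {k : Type*} [Field k] {R : Type*} [Ring R] [Algebra k R]

/-- a nilpotent element in a quaternion algebra `⟨I, J⟩` when `-1 = α² + β²` -/
theorem quat_nilpotent {I J : R} (hI : I * I = -1) (hJ : J * J = -1)
    (hK : I * J * (I * J) = -1) {α β : k} (hαβ : α ^ 2 + β ^ 2 = -1) (h2 : (2 : k) ≠ 0) :
    (α • I + β • J + I * J) * (α • I + β • J + I * J) = 0 ∧
    (α • I + β • J + I * J) * (-(2⁻¹ : k) • (I * J)) +
      (-(2⁻¹ : k) • (I * J)) * (α • I + β • J + I * J) = 1 := by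
  have hJI : J * I = -(I * J) := by
    have h1 : I * (I * J * (I * J)) * J = I * (-1) * J := by rw [hK]
    have h2 : I * (I * J * (I * J)) * J = (I * I) * (J * I) * (J * J) := by noncomm_ring
    rw [h2, hI, hJ] at h1
    have h3 : (-1 : R) * (J * I) * (-1) = J * I := by noncomm_ring
    have h4 : I * (-1) * J = -(I * J) := by noncomm_ring
    rw [h3, h4] at h1
    exact h1
  have hIK : I * (I * J) = -J := by
    rw [← mul_assoc, hI]; noncomm_ring
  have hKI : I * J * I = J := by
    rw [mul_assoc, hJI]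
    calc I * -(I * J) = -((I * I) * J) := by noncomm_ring
      _ = J := by rw [hI]; noncomm_ring
  have hJK : J * (I * J) = I := by
    rw [← mul_assoc, hJI]
    calc -(I * J) * J = -(I * (J * J)) := by noncomm_ring
      _ = I := by rw [hJ]; noncomm_ring
  have hKJ : I * J * J = -I := by
    rw [mul_assoc, hJ]; noncomm_ring
  have hinv : (2⁻¹ : k) * 2 = 1 := inv_mul_cancel₀ h2
  constructor
  · simp only [add_mul, mul_add, smul_mul_assoc, mul_smul_comm, smul_add, smul_smul, hI, hJ, hK,
      hJI, hIK, hKI, hJK, hKJ]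
    linear_combination (norm := module) (-hαβ) • (1 : R)
  · simp only [add_mul, mul_add, smul_mul_assoc, mul_smul_comm, smul_add, smul_smul, hK,
      hIK, hKI, hJK, hKJ]
    linear_combination (norm := module) hinv • (1 : R)

end ring

section lin
variable {k : Type*} [Field k] {V : Type*} [AddCommGroup V] [Module k V]

/-- the kernel of a square-zero endomorphism `x` with `x y + y x = 1` has `|ker x|² = |V|` -/
theorem card_ker_sq [Finite V] {x y : Module.End k V} (hx : x * x = 0) (hxy : x * y + y * x = 1) :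
    Nat.card (LinearMap.ker x) * Nat.card (LinearMap.ker x) = Nat.card V := by
  have hle : LinearMap.ker x = LinearMap.range x := by
    apply le_antisymm
    · intro v hv
      rw [LinearMap.mem_ker] at hv
      have h1 : v = x (y v) + y (x v) := by
        have := congrArg (fun f : Module.End k V => f v) hxy
        simp only [LinearMap.add_apply, Module.End.mul_apply, Module.End.one_apply] at this
        exact this.symm
      rw [hv, map_zero, add_zero] at h1
      exact ⟨y v, h1.symm⟩
    · rintro _ ⟨w, rfl⟩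
      rw [LinearMap.mem_ker]
      have := congrArg (fun f : Module.End k V => f w) hx
      simpa using this
  have h1 := Submodule.card_eq_card_quotient_mul_card (LinearMap.ker x)
  have h2 : Nat.card (V ⧸ LinearMap.ker x) = Nat.card (LinearMap.range x) :=
    Nat.card_congr (LinearMap.quotKerEquivRange x).toEquiv
  rw [h1, h2, ← hle]

end lin

section reg
variable {p : ℕ} [Fact p.Prime] {V : Type u} [AddCommGroup V] [Module (ZMod p) V]
variable {H : Subgroup (V ≃ₗ[ZMod p] V)}

/-- the tautological representation of a group regular on nonzero vectors is free -/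
theorem isFree_toEnd (hreg : ∀ v w : V, v ≠ 0 → w ≠ 0 → ∃! h : H, h • v = w) :
    IsFree (toEnd H) := by
  intro g hg v hv
  by_contra hv0
  exact hg (eq_one_of_smul_eq hreg hv0 hv)

/-- a group regular on nonzero vectors has a free representation -/
theorem hasFree_of_regular [Finite V] [Nontrivial V]
    (hreg : ∀ v w : V, v ≠ 0 → w ≠ 0 → ∃! h : H, h • v = w) : HasFree.{u, u} H :=
  ⟨p, inferInstance, V, inferInstance, inferInstance, Module.Finite.of_finite,
    inferInstance, toEnd H, isFree_toEnd hreg⟩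

/-- a subgroup acting on an invariant subspace: its order divides `|U| - 1` -/
theorem card_dvd_card_sub_one [Finite V] (hreg : ∀ v w : V, v ≠ 0 → w ≠ 0 → ∃! h : H, h • v = w)
    (A : Subgroup H) (U : Submodule (ZMod p) V) (hU : ∀ a : A, ∀ u ∈ U, (a : H) • u ∈ U) :
    Nat.card A ∣ Nat.card U - 1 := by
  classical
  let T : Set V := (U : Set V) \ {0}
  have hT : ∀ a : ↥A, ∀ s ∈ T, a • s ∈ T := by
    intro a s hs
    refine ⟨hU a s hs.1, ?_⟩
    intro h0
    exact smul_ne_zero' (fun h => hs.2 h) (a : H) h0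
  have horb : ∀ s ∈ T, (MulAction.orbit ↥A s).ncard = Nat.card ↥A := by
    intro s hs
    rw [← MulAction.index_stabilizer]
    have : MulAction.stabilizer ↥A s = ⊥ := by
      rw [eq_bot_iff]
      intro a ha
      rw [MulAction.mem_stabilizer_iff] at ha
      have h2 : s ≠ 0 := fun h => hs.2 h
      have := eq_one_of_smul_eq hreg (h := (a : H)) h2 ha
      rw [Subgroup.mem_bot]
      exact Subtype.ext this
    rw [this, Subgroup.index_bot]
  have hdvd := Cfsg.Agent.Lib.Helper5.dvd_ncard_of_orbit_ncard_eq (H := ↥A) T hT _ horb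
  have hTcard : T.ncard = Nat.card U - 1 := by
    rw [Set.ncard_sdiff (by simp), Set.ncard_singleton]
    rfl
  rw [← hTcard]
  exact hdvd

end reg

/-- Boolean test for the arithmetic of the insoluble case -/
def arithOK (Q m i : ℕ) : Bool :=
  !(decide (Q * Q = 120 * i * m + 1) && decide ((Q - 1) % m = 0) && decide (m % 2 = 1) &&
    decide (Nat.gcd m 30 = 1)) ||
  (decide (Q = 119) || (decide (i = 1) && ((decide (Q = 11) && decide (m = 1)) ||
    (decide (Q = 29) && decide (m = 7)) || (decide (Q = 59) && decide (m = 29)))))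

theorem arith_all : (List.range 120).all (fun Q => (List.range 120).all (fun m =>
    arithOK Q m 1 && arithOK Q m 2)) = true := by
  decide +kernel

/-- the arithmetic of the insoluble case -/
theorem arith_check (Q : ℕ) (hQ : Q < 120) (m : ℕ) (hm : m < 120) (i : ℕ) (hi : i = 1 ∨ i = 2)
    (h1 : Q * Q = 120 * i * m + 1) (h2 : m ∣ Q - 1) (h3 : m % 2 = 1) (h4 : Nat.Coprime m 30) :
    Q = 119 ∨ (i = 1 ∧ (((Q = 11 ∧ m = 1) ∨ (Q = 29 ∧ m = 7)) ∨ (Q = 59 ∧ m = 29))) := by
  have h := arith_all
  rw [List.all_eq_true] at h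
  have hQ' := h Q (List.mem_range.mpr hQ)
  rw [List.all_eq_true] at hQ'
  have hm' := hQ' m (List.mem_range.mpr hm)
  rw [Bool.and_eq_true] at hm'
  have key : arithOK Q m i = true := by
    rcases hi with rfl | rfl
    · exact hm'.1
    · exact hm'.2
  unfold arithOK at key
  have h2' : (Q - 1) % m = 0 := Nat.mod_eq_zero_of_dvd h2
  have h4' : Nat.gcd m 30 = 1 := h4
  simp only [h1, h2', h3, h4', decide_true, Bool.and_self, Bool.not_true, Bool.false_or,
    Bool.and_eq_true, Bool.or_eq_true, decide_eq_true_eq] at key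
  exact key

theorem arith_main {Q m i : ℕ} (hi : i = 1 ∨ i = 2) (hQ : Q * Q = 120 * i * m + 1)
    (hm : m ∣ Q - 1) (hodd : Odd m) (hcop : Nat.Coprime m 30)
    (hpp : ∃ p k : ℕ, p.Prime ∧ Q = p ^ k) :
    i = 1 ∧ ((Q = 11 ∧ m = 1) ∨ (Q = 29 ∧ m = 7) ∨ (Q = 59 ∧ m = 29)) := by
  have hm0 : 0 < m := hodd.pos
  have hi0 : 1 ≤ i := by rcases hi with h | h <;> omega
  have hi3 : i < 3 := by rcases hi with h | h <;> omega
  have hQ2 : 2 ≤ Q := by
    by_contra hlt
    have : Q ≤ 1 := by omega
    have : Q * Q ≤ 1 := by nlinarith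
    nlinarith
  have hQodd : Odd Q := by
    by_contra he
    rw [Nat.not_odd_iff_even] at he
    have : Even (Q * Q) := he.mul_right Q
    rw [hQ] at this
    have h2 : Even (120 * i * m) := by
      rw [mul_assoc]; exact (by decide : Even 120).mul_right _
    exact (Nat.not_even_iff_odd.mpr (h2.add_one)) this
  -- `2 m ∣ Q - 1`
  have h2m : 2 * m ∣ Q - 1 := by
    apply Nat.Coprime.mul_dvd_of_dvd_of_dvd (Nat.coprime_two_left.mpr hodd) _ hm
    obtain ⟨t, ht⟩ := hQodd
    exact ⟨t, by omega⟩
  have hle : 2 * m ≤ Q - 1 := Nat.le_of_dvd (by omega) h2m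
  -- `(Q-1)(Q+1) = 120 i m`
  have hprod : (Q - 1) * (Q + 1) = 120 * i * m := by
    have : (Q - 1) * (Q + 1) + 1 = Q * Q := by
      obtain ⟨t, rfl⟩ : ∃ t, Q = t + 1 := ⟨Q - 1, by omega⟩
      simp only [Nat.add_sub_cancel]; ring
    omega
  have hQ1 : Q + 1 ≤ 60 * i := by
    have h1 : (Q - 1) * (Q + 1) ≤ (Q - 1) * (60 * i) := by
      rw [hprod]
      calc 120 * i * m = (2 * m) * (60 * i) := by ring
        _ ≤ (Q - 1) * (60 * i) := Nat.mul_le_mul_right _ hle
    exact Nat.le_of_mul_le_mul_left h1 (by omega)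
  have hQ120 : Q < 120 := by omega
  have hm120 : m < 120 := by omega
  rcases arith_check Q hQ120 m hm120 i hi hQ hm (Nat.odd_iff.mp hodd) hcop with h | ⟨h1, h2⟩
  · exfalso
    obtain ⟨q, k, hq, hqk⟩ := hpp
    rw [h] at hqk
    have h7 : 7 ∣ q ^ k := by rw [← hqk]; norm_num
    have h17 : 17 ∣ q ^ k := by rw [← hqk]; norm_num
    have e7 : 7 = q := (Nat.prime_dvd_prime_iff_eq (by norm_num) hq).mp
      ((Nat.Prime.dvd_of_dvd_pow (by norm_num) h7))
    have e17 : 17 = q := (Nat.prime_dvd_prime_iff_eq (by norm_num) hq).mp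
      ((Nat.Prime.dvd_of_dvd_pow (by norm_num) h17))
    omega
  · refine ⟨h1, ?_⟩
    rcases h2 with (h | h) | h
    · exact Or.inl h
    · exact Or.inr (Or.inl h)
    · exact Or.inr (Or.inr h)

end Cfsg.Agent.Lib.Helper17.ZsReg
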