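/-
helper17: Zassenhaus cluster.  The six quotient types of a Frobenius complement: definitions,
the quaternion case.
-/
import Mathlib
import Cfsg.Agent.Lib.Helper17.ZsMainE

set_option autoImplicit false

namespace Cfsg.Agent.Lib.Helper17.Zs

open Subgroup

/-- `X / N` is trivial, `V₄`, `A₄`, `S₄`, `A₅` or `S₅` -/
def SixType (X : Type*) [Group X] (N : Subgroup X) : Prop :=
  N = ⊤ ∨
  (∃ f : X →* DihedralGroup 2, Function.Surjective f ∧ f.ker = N) ∨
  (∃ f : X →* alternatingGroup (Fin 4), Function.Surjective f ∧ f.ker = N) ∨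
  (∃ f : X →* Equiv.Perm (Fin 4), Function.Surjective f ∧ f.ker = N) ∨
  (∃ f : X →* alternatingGroup (Fin 5), Function.Surjective f ∧ f.ker = N) ∨
  (∃ f : X →* Equiv.Perm (Fin 5), Function.Surjective f ∧ f.ker = N)

theorem SixType.comap {X Y : Type*} [Group X] [Group Y] {N : Subgroup Y} (h : SixType Y N)
    (π : X →* Y) (hπ : Function.Surjective π) : SixType X (N.comap π) := by
  rcases h with h | ⟨f, hf, hk⟩ | ⟨f, hf, hk⟩ | ⟨f, hf, hk⟩ | ⟨f, hf, hk⟩ | ⟨f, hf, hk⟩
  · left; rw [h, Subgroup.comap_top]
  · right; left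
    exact ⟨f.comp π, hf.comp hπ, by rw [← hk, MonoidHom.comap_ker]⟩
  · right; right; left
    exact ⟨f.comp π, hf.comp hπ, by rw [← hk, MonoidHom.comap_ker]⟩
  · right; right; right; left
    exact ⟨f.comp π, hf.comp hπ, by rw [← hk, MonoidHom.comap_ker]⟩
  · right; right; right; right; left
    exact ⟨f.comp π, hf.comp hπ, by rw [← hk, MonoidHom.comap_ker]⟩
  · right; right; right; right; right
    exact ⟨f.comp π, hf.comp hπ, by rw [← hk, MonoidHom.comap_ker]⟩

section quat
open QuaternionGroup DihedralGroup

variable (m : ℕ)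

/-- reduction mod 2 of the exponent -/
def redTwo : ZMod (2 * m) →+* ZMod 2 := ZMod.castHom (Dvd.intro m rfl) (ZMod 2)

/-- the map from a generalized quaternion group onto the Klein four-group -/
def quatToDihFun : QuaternionGroup m → DihedralGroup 2
  | QuaternionGroup.a i => r (redTwo m i)
  | QuaternionGroup.xa i => sr (redTwo m i)

theorem redTwo_self (hm : Even m) : redTwo m (m : ZMod (2 * m)) = 0 := by
  rw [map_natCast]
  exact (ZMod.natCast_eq_zero_iff m 2).mpr (even_iff_two_dvd.mp hm)

/-- the homomorphism from a generalized quaternion group onto the Klein four-group -/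
def quatToDih (hm : Even m) : QuaternionGroup m →* DihedralGroup 2 where
  toFun := quatToDihFun m
  map_one' := by
    show quatToDihFun m (QuaternionGroup.a 0) = r 0
    simp [quatToDihFun]
  map_mul' := by
    rintro (i | i) (j | j)
    · show quatToDihFun m (QuaternionGroup.a i * QuaternionGroup.a j) = _
      rw [QuaternionGroup.a_mul_a]
      simp only [quatToDihFun, r_mul_r, map_add]
    · show quatToDihFun m (QuaternionGroup.a i * QuaternionGroup.xa j) = _
      rw [QuaternionGroup.a_mul_xa]
      simp only [quatToDihFun, r_mul_sr, map_sub]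
    · show quatToDihFun m (QuaternionGroup.xa i * QuaternionGroup.a j) = _
      rw [QuaternionGroup.xa_mul_a]
      simp only [quatToDihFun, sr_mul_r, map_add]
    · show quatToDihFun m (QuaternionGroup.xa i * QuaternionGroup.xa j) = _
      rw [QuaternionGroup.xa_mul_xa]
      simp only [quatToDihFun, sr_mul_sr, map_add, map_sub, redTwo_self m hm, zero_add]

theorem quatToDih_surjective (hm : Even m) : Function.Surjective (quatToDih m hm) := by
  have hred : ∀ k : ZMod 2, ∃ i : ZMod (2 * m), redTwo m i = k :=
    ZMod.castHom_surjective (Dvd.intro m rfl)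
  rintro (k | k)
  · obtain ⟨i, hi⟩ := hred k
    exact ⟨QuaternionGroup.a i, by
      change quatToDihFun m (QuaternionGroup.a i) = r k
      simp only [quatToDihFun, hi]⟩
  · obtain ⟨i, hi⟩ := hred k
    exact ⟨QuaternionGroup.xa i, by
      change quatToDihFun m (QuaternionGroup.xa i) = sr k
      simp only [quatToDihFun, hi]⟩

theorem isCyclic_ker_quatToDih [NeZero m] (hm : Even m) : IsCyclic (quatToDih m hm).ker := by
  apply Subgroup.isCyclic_of_le (H' := zpowers (QuaternionGroup.a 1 : QuaternionGroup m))
  rintro (i | i) hx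
  · rw [mem_zpowers_iff]
    refine ⟨(i.val : ℤ), ?_⟩
    rw [zpow_natCast, QuaternionGroup.a_one_pow, ZMod.natCast_zmod_val]
  · exfalso
    rw [MonoidHom.mem_ker] at hx
    have : quatToDihFun m (QuaternionGroup.xa i) = r 0 := hx
    simp only [quatToDihFun] at this
    cases this

end quat

section twogroup
variable {Y : Type*} [Group Y] [Finite Y]

/-- a `2`-group with at most one involution: trivial quotient or Klein four quotient with cyclic
kernel -/
theorem sixType_of_two_group (hY : IsPGroup 2 Y)
    (huniq : ∀ s t : Y, orderOf s = 2 → orderOf t = 2 → s = t) :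
    ∃ K : Subgroup Y, K.Normal ∧ IsCyclic K ∧ SixType Y K := by
  rcases Cfsg.Agent.Lib.Helper18.isCyclic_or_quaternion_of_unique_involution hY huniq with
    hc | ⟨n, hn, ⟨e⟩⟩
  · refine ⟨⊤, inferInstance, ?_, Or.inl rfl⟩
    exact isCyclic_of_surjective (Subgroup.topEquiv.symm : Y ≃* (⊤ : Subgroup Y))
      (Subgroup.topEquiv.symm : Y ≃* (⊤ : Subgroup Y)).surjective
  · have hm : Even (2 ^ n) := (Nat.even_pow.mpr ⟨even_two, by omega⟩)
    let f : Y →* DihedralGroup 2 := (quatToDih (2 ^ n) hm).comp e.toMonoidHom
    have hf : Function.Surjective f := (quatToDih_surjective (2 ^ n) hm).comp e.surjective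
    refine ⟨f.ker, inferInstance, ?_, Or.inr (Or.inl ⟨f, hf, rfl⟩)⟩
    have hc := isCyclic_ker_quatToDih (2 ^ n) hm
    -- transport along `e`
    let φ : f.ker →* (quatToDih (2 ^ n) hm).ker :=
      (e.toMonoidHom.comp f.ker.subtype).codRestrict _ (fun x => by
        rw [MonoidHom.mem_ker]
        exact MonoidHom.mem_ker.mp x.2)
    apply isCyclic_of_injective φ
    intro x y hxy
    have := congrArg Subtype.val hxy
    exact Subtype.ext (e.injective this)

end twogroup

end Cfsg.Agent.Lib.Helper17.Zs
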