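/-
helper17: Zassenhaus cluster.  The six quotient types: existence in the solvable case.
-/
import Mathlib
import Cfsg.Agent.Lib.Helper17.ZsSixA
import Cfsg.Agent.Lib.Helper19.FrobSolvA

set_option autoImplicit false

namespace Cfsg.Agent.Lib.Helper17.Zs

open Subgroup

universe u v

open Cfsg.Agent.Lib.Helper23.Q8Aut Cfsg.Agent.Lib.Helper23.RankOne in
/-- the case of trivial odd core -/
theorem sixType_of_core_trivial {Y : Type*} [Group Y] [Finite Y] [Group.IsSolvable Y]
    (hO : Cfsg.pPrimeCore 2 Y = ⊥)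
    (huniq : ∀ s t : Y, orderOf s = 2 → orderOf t = 2 → s = t) :
    ∃ K : Subgroup Y, K.Normal ∧ IsCyclic K ∧ IsPGroup 2 K ∧ SixType Y K := by
  classical
  have : Fact (Nat.Prime 2) := ⟨Nat.prime_two⟩
  have h2grp : IsPGroup 2 Y → ∃ K : Subgroup Y, K.Normal ∧ IsCyclic K ∧ IsPGroup 2 K ∧
      SixType Y K := by
    intro hY
    obtain ⟨K, hKn, hKc, hK⟩ := sixType_of_two_group hY huniq
    exact ⟨K, hKn, hKc, hY.to_subgroup K, hK⟩
  obtain ⟨R, hR⟩ : ∃ R : Subgroup Y, R = Cfsg.pCore 2 Y := ⟨_, rfl⟩
  have hRn : R.Normal := by rw [hR]; exact Cfsg.Agent.Lib.Helper1.pCore_normal 2 Y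
  have hRp : IsPGroup 2 R := by rw [hR]; exact Cfsg.Agent.Lib.Helper1.pCore_isPGroup 2 Y
  have hF : Cfsg.fittingSubgroup Y = R := by
    rw [hR]
    exact Cfsg.Agent.Lib.Helper9.fittingSubgroup_eq_pCore_of_pPrimeCore_eq_bot 2 hO
  have hCQ : Subgroup.centralizer (R : Set Y) ≤ R := by
    have := Cfsg.Agent.S0044.result (G := Y)
    rwa [hF] at this
  have huniqR : ∀ s t : R, orderOf s = 2 → orderOf t = 2 → s = t := by
    intro s t hs ht
    apply Subtype.ext
    apply huniq
    · rw [Subgroup.orderOf_coe, hs]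
    · rw [Subgroup.orderOf_coe, ht]
  rcases Cfsg.Agent.Lib.Helper18.isCyclic_or_quaternion_of_unique_involution hRp huniqR with
    hcyc | ⟨n, hn1, ⟨ε⟩⟩
  · exact h2grp (isPGroup_of_odd_aut_trivial R hRp hCQ (cyclic_odd_aut hRp))
  · rcases n with _ | _ | n
    · omega
    · -- Q8
      have e : R ≃* Q := ε
      have hdvd : Nat.card Y ∣ 48 := Cfsg.Agent.Lib.Helper23.Q8Normal.card_dvd R e hCQ
      have hR8 : Nat.card R = 8 := by
        rw [Nat.card_congr e.toEquiv, Nat.card_eq_fintype_card, QuaternionGroup.card]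
      have h8 : 8 ∣ Nat.card Y := by
        rw [← hR8]; exact Subgroup.card_subgroup_dvd_card R
      have hcases : Nat.card Y = 8 ∨ Nat.card Y = 16 ∨ Nat.card Y = 24 ∨ Nat.card Y = 48 := by
        obtain ⟨c, hc⟩ := h8
        have hc6 : c ∣ 6 := by
          have : 8 * c ∣ 8 * 6 := by rw [← hc]; exact hdvd
          exact (Nat.mul_dvd_mul_iff_left (by norm_num)).mp this
        have hcle : c ≤ 6 := Nat.le_of_dvd (by norm_num) hc6
        have hcpos : 0 < c := by
          rcases Nat.eq_zero_or_pos c with h | h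
          · rw [h, mul_zero] at hc
            have := Nat.card_pos (α := Y)
            omega
          · exact h
        interval_cases c <;> omega
      obtain ⟨ψ⟩ := mulAut_equiv_perm
      obtain ⟨f, hf⟩ : ∃ f : Y →* Equiv.Perm (Fin 4),
          f = ψ.toMonoidHom.comp (Cfsg.Agent.Lib.Helper23.Q8Normal.Θ R e) := ⟨_, rfl⟩
      have hker : f.ker = (Cfsg.Agent.Lib.Helper23.Q8Normal.Θ R e).ker := by
        ext g
        rw [MonoidHom.mem_ker, MonoidHom.mem_ker, hf, MonoidHom.comp_apply]
        constructor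
        · intro h
          apply ψ.injective
          rw [map_one]; exact h
        · intro h
          rw [h]; exact map_one _
      have hk2 : Nat.card f.ker = 2 := by
        rw [hker]; exact Cfsg.Agent.Lib.Helper23.Q8Normal.card_ker R e hCQ
      have hKc : IsCyclic f.ker := isCyclic_of_prime_card hk2
      have hKp : IsPGroup 2 f.ker := IsPGroup.of_card (n := 1) (by rw [hk2, pow_one])
      have hrange : 2 * Nat.card f.range = Nat.card Y := by
        rw [← hk2, ← Subgroup.index_ker, Subgroup.card_mul_index]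
      rcases hcases with h | h | h | h
      · exact h2grp (IsPGroup.of_card (n := 3) (by rw [h]; norm_num))
      · exact h2grp (IsPGroup.of_card (n := 4) (by rw [h]; norm_num))
      · -- `A₄`
        have h12 : Nat.card f.range = 12 := by omega
        have hidx : f.range.index = 2 := by
          have h1 := Subgroup.index_mul_card f.range
          rw [h12, Nat.card_eq_fintype_card, Fintype.card_perm, Fintype.card_fin] at h1
          have : f.range.index * 12 = 2 * 12 := by rw [h1]; rfl
          exact Nat.eq_of_mul_eq_mul_right (by norm_num) this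
        have hr : f.range = alternatingGroup (Fin 4) :=
          Equiv.Perm.eq_alternatingGroup_of_index_eq_two hidx
        refine ⟨f.ker, inferInstance, hKc, hKp, Or.inr (Or.inr (Or.inl
          ⟨f.codRestrict (alternatingGroup (Fin 4)) (fun x => by rw [← hr]; exact ⟨x, rfl⟩),
            ?_, ?_⟩))⟩
        · rintro ⟨σ, hσ⟩
          rw [← hr] at hσ
          obtain ⟨x, hx⟩ := hσ
          exact ⟨x, Subtype.ext hx⟩
        · ext g
          rw [MonoidHom.mem_ker, MonoidHom.mem_ker]
          constructor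
          · intro h; exact congrArg Subtype.val h
          · intro h; exact Subtype.ext h
      · -- `S₄`
        have hsurj := Cfsg.Agent.Lib.Helper23.Q8Normal.Θ_surjective R e hCQ h
        refine ⟨f.ker, inferInstance, hKc, hKp, Or.inr (Or.inr (Or.inr (Or.inl ⟨f, ?_, rfl⟩)))⟩
        rw [hf]
        exact ψ.surjective.comp hsurj
    · -- larger quaternion
      apply h2grp
      apply isPGroup_of_odd_aut_trivial R hRp hCQ
      apply odd_aut_congr ε
      intro θ k hk hθ
      exact Cfsg.Agent.Lib.Helper23.QuatOdd.mulAut_eq_one_of_odd (n := n + 1 + 1) (by omega) θ k hk hθ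

open Cfsg.Agent.Lib.Helper18.AmbivalentSolv in
/-- **Existence in the solvable case** -/
theorem exists_sixType_of_solvable {X : Type u} [Group X] [Finite X] [Group.IsSolvable X]
    (h : HasFree.{u, v} X) : ∃ N : Subgroup X, N.Normal ∧ IsZGroup N ∧ SixType X N := by
  classical
  have : Fact (Nat.Prime 2) := ⟨Nat.prime_two⟩
  obtain ⟨D, hD⟩ : ∃ D : Subgroup X, D = Cfsg.pPrimeCore 2 X := ⟨_, rfl⟩
  have hDn : D.Normal := by rw [hD]; exact Cfsg.Agent.Lib.Helper1.pPrimeCore_normal 2 X
  have hDc : (Nat.card D).Coprime 2 := by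
    rw [hD]; exact Cfsg.Agent.Lib.Helper12.pPrimeCore_coprime 2
  have hDodd : Odd (Nat.card D) := Nat.Coprime.odd_of_right hDc
  have huniq' : ∀ s t : X ⧸ D, orderOf s = 2 → orderOf t = 2 → s = t := by
    intro s t hs ht
    obtain ⟨s0, hs0, rfl⟩ := exists_lift_involution D hDodd s hs
    obtain ⟨t0, ht0, rfl⟩ := exists_lift_involution D hDodd t ht
    rw [h.involution_unique s0 t0 hs0 ht0]
  have hO : Cfsg.pPrimeCore 2 (X ⧸ D) = ⊥ := by
    subst hD
    exact Cfsg.Agent.Lib.Helper9.pPrimeCore_quotient_eq_bot 2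
  obtain ⟨K, hKn, hKc, hKp, hK⟩ := sixType_of_core_trivial hO huniq'
  refine ⟨K.comap (QuotientGroup.mk' D), inferInstance, ?_,
    hK.comap (QuotientGroup.mk' D) (QuotientGroup.mk'_surjective D)⟩
  refine ⟨fun q hq P => ?_⟩
  have : Fact q.Prime := ⟨hq⟩
  by_cases hq2 : q = 2
  · subst hq2
    -- `P` embeds into `K`
    let φ : (P : Subgroup (K.comap (QuotientGroup.mk' D))) →* K :=
      ((QuotientGroup.mk' D).comp ((K.comap (QuotientGroup.mk' D)).subtype.comp
        (P : Subgroup (K.comap (QuotientGroup.mk' D))).subtype)).codRestrict K (fun x => by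
          have := (x : K.comap (QuotientGroup.mk' D)).2
          exact this)
    apply isCyclic_of_injective φ
    rw [injective_iff_map_eq_one]
    intro x hx
    have h1 : (QuotientGroup.mk' D) ((x : K.comap (QuotientGroup.mk' D)) : X) = 1 :=
      congrArg Subtype.val hx
    have h2 : ((x : K.comap (QuotientGroup.mk' D)) : X) ∈ D := by
      rwa [QuotientGroup.mk'_apply, QuotientGroup.eq_one_iff] at h1
    obtain ⟨k, hk⟩ := P.isPGroup' x
    have h3 : orderOf (((x : K.comap (QuotientGroup.mk' D)) : X)) ∣ 2 ^ k := by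
      apply orderOf_dvd_of_pow_eq_one
      have := congrArg (fun t : (P : Subgroup (K.comap (QuotientGroup.mk' D))) =>
        (((t : K.comap (QuotientGroup.mk' D))) : X)) hk
      simpa using this
    have h4 : orderOf (((x : K.comap (QuotientGroup.mk' D)) : X)) ∣ Nat.card D := by
      have := orderOf_dvd_natCard (⟨_, h2⟩ : D)
      rwa [← Subgroup.orderOf_coe] at this
    have h5 : orderOf (((x : K.comap (QuotientGroup.mk' D)) : X)) = 1 :=
      Nat.eq_one_of_dvd_coprimes (Nat.Coprime.pow_right k hDc).symm h3 h4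
    apply Subtype.ext; apply Subtype.ext
    exact orderOf_eq_one_iff.mp h5
  · exact (h.subgroup _).isCyclic_sylow q hq2 P

end Cfsg.Agent.Lib.Helper17.Zs
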