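/-
helper17: Zassenhaus cluster.  The six quotient types: facts about the five target groups
(no normal Z-subgroups, not Z-groups, not commutative).
-/
import Mathlib
import Cfsg.Agent.Lib.Helper17.ZsSixA

set_option autoImplicit false

namespace Cfsg.Agent.Lib.Helper17.Zs

open Subgroup Equiv

/-- a Z-group has no two distinct commuting involutions -/
theorem twoInv_false {T : Type*} [Group T] [Finite T] [IsZGroup T] {a b : T} (ha : a * a = 1)
    (hb : b * b = 1) (hab : a * b = b * a) (ha1 : a ≠ 1) (hb1 : b ≠ 1) (hne : a ≠ b) : False := by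
  classical
  have : Fact (Nat.Prime 2) := ⟨Nat.prime_two⟩
  obtain ⟨K, hK⟩ : ∃ K : Subgroup T, K = closure {a, b} := ⟨_, rfl⟩
  have hcomm : IsMulCommutative K := by
    rw [hK]
    apply Subgroup.isMulCommutative_closure
    intro x hx y hy
    rcases hx with rfl | rfl <;> rcases hy with rfl | rfl
    · rfl
    · exact hab
    · exact hab.symm
    · rfl
  have hsq : ∀ x ∈ K, x * x = 1 := by
    intro x hx
    rw [hK] at hx
    induction hx using closure_induction with
    | mem y hy =>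
      rcases hy with rfl | rfl
      · exact ha
      · exact hb
    | one => simp
    | mul x y hx hy hx2 hy2 =>
      have hc : x * y = y * x := by
        have := mul_comm' (⟨x, hK ▸ hx⟩ : K) ⟨y, hK ▸ hy⟩
        exact congrArg Subtype.val this
      calc x * y * (x * y) = x * (y * x) * y := by group
        _ = x * (x * y) * y := by rw [hc]
        _ = (x * x) * (y * y) := by group
        _ = 1 := by rw [hx2, hy2, one_mul]
    | inv x hx hx2 =>
      calc x⁻¹ * x⁻¹ = (x * x)⁻¹ := by group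
        _ = 1 := by rw [hx2, inv_one]
  have hKp : IsPGroup 2 K := by
    intro x
    refine ⟨1, ?_⟩
    apply Subtype.ext
    rw [pow_one, pow_two]
    exact hsq x x.2
  have hKc : IsCyclic K := IsPGroup.isCyclic_of_isZGroup hKp
  let _ : Fintype K := Fintype.ofFinite K
  have haK : a ∈ K := by rw [hK]; exact subset_closure (by simp)
  have hbK : b ∈ K := by rw [hK]; exact subset_closure (by simp)
  have h := IsCyclic.card_pow_eq_one_le (α := K) (n := 2) (by norm_num)
  have hsub : ({1, ⟨a, haK⟩, ⟨b, hbK⟩} : Finset K) ⊆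
      Finset.univ.filter (fun x : K => x ^ 2 = 1) := by
    intro x hx
    rw [Finset.mem_filter]
    refine ⟨Finset.mem_univ _, ?_⟩
    apply Subtype.ext
    rw [pow_two]
    exact hsq x x.2
  have h3 : ({1, ⟨a, haK⟩, ⟨b, hbK⟩} : Finset K).card = 3 := by
    rw [Finset.card_eq_three]
    refine ⟨1, ⟨a, haK⟩, ⟨b, hbK⟩, ?_, ?_, ?_, rfl⟩
    · intro h1; exact ha1 (congrArg Subtype.val h1).symm
    · intro h1; exact hb1 (congrArg Subtype.val h1).symm
    · intro h1; exact hne (congrArg Subtype.val h1)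
  have := Finset.card_le_card hsub
  omega

/-! ### degree four -/

/-- the Klein four-group inside `S₄` -/
def kv₁ : Perm (Fin 4) := c[0, 1] * c[2, 3]
/-- the Klein four-group inside `S₄` -/
def kv₂ : Perm (Fin 4) := c[0, 2] * c[1, 3]
/-- the Klein four-group inside `S₄` -/
def kv₃ : Perm (Fin 4) := c[0, 3] * c[1, 2]
/-- a three-cycle permuting the `kvᵢ` -/
def kc : Perm (Fin 4) := c[0, 1, 2]

/-- membership in the Klein four-group -/
def InKV (σ : Perm (Fin 4)) : Prop := σ = 1 ∨ σ = kv₁ ∨ σ = kv₂ ∨ σ = kv₃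

instance : DecidablePred InKV := fun σ => by unfold InKV; infer_instance

theorem kv_facts : kv₁ * kv₁ = 1 ∧ kv₂ * kv₂ = 1 ∧ kv₁ * kv₂ = kv₂ * kv₁ ∧ kv₁ ≠ 1 ∧ kv₂ ≠ 1 ∧
    kv₁ ≠ kv₂ ∧ Perm.sign kv₁ = 1 ∧ Perm.sign kv₂ = 1 ∧ Perm.sign kv₃ = 1 ∧ Perm.sign kc = 1 := by
  decide

theorem kc_conj : kc * kv₁ * kc⁻¹ = kv₃ ∧ kc * kv₃ * kc⁻¹ = kv₂ ∧ kc * kv₂ * kc⁻¹ = kv₁ := by
  decide

theorem kv_normal : ∀ t σ : Perm (Fin 4), InKV σ → InKV (t * σ * t⁻¹) := by decide

theorem kv_self_centralizing : ∀ t : Perm (Fin 4), t * kv₁ = kv₁ * t → t * kv₂ = kv₂ * t →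
    InKV t := by decide

theorem kv_sign : ∀ σ : Perm (Fin 4), InKV σ → Perm.sign σ = 1 := by decide

/-- a subgroup of `S₄` normalized by `A₄` without two distinct commuting involutions is trivial -/
theorem eq_bot_of_normalized_four (T : Subgroup (Perm (Fin 4)))
    (hT : ∀ g : Perm (Fin 4), Perm.sign g = 1 → ∀ t ∈ T, g * t * g⁻¹ ∈ T)
    (hno : ∀ a ∈ T, ∀ b ∈ T, a * a = 1 → b * b = 1 → a * b = b * a → a ≠ 1 → b ≠ 1 → a = b) :
    T = ⊥ := by
  obtain ⟨h11, h22, h12, hn1, hn2, hne, hs1, hs2, hs3, hsc⟩ := kv_facts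
  obtain ⟨hc1, hc3, hc2⟩ := kc_conj
  -- no nonidentity element of the Klein four-group lies in `T`
  have hV : ∀ σ ∈ T, InKV σ → σ = 1 := by
    intro σ hσ hV
    by_contra hσ1
    have hall : kv₁ ∈ T ∧ kv₂ ∈ T := by
      rcases hV with h | h | h | h
      · exact (hσ1 h).elim
      · rw [h] at hσ
        have h3 : kv₃ ∈ T := hc1 ▸ hT kc hsc _ hσ
        have h2 : kv₂ ∈ T := hc3 ▸ hT kc hsc _ h3
        exact ⟨hσ, h2⟩
      · rw [h] at hσ
        have h1 : kv₁ ∈ T := hc2 ▸ hT kc hsc _ hσ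
        exact ⟨h1, hσ⟩
      · rw [h] at hσ
        have h2 : kv₂ ∈ T := hc3 ▸ hT kc hsc _ hσ
        have h1 : kv₁ ∈ T := hc2 ▸ hT kc hsc _ h2
        exact ⟨h1, h2⟩
    exact hne (hno _ hall.1 _ hall.2 h11 h22 h12 hn1 hn2)
  rw [eq_bot_iff]
  intro t ht
  rw [mem_bot]
  -- `t` centralizes the Klein four-group
  have hcen : ∀ v : Perm (Fin 4), InKV v → t * v = v * t := by
    intro v hv
    have hw : t * (v * t⁻¹ * v⁻¹) ∈ T := T.mul_mem ht (hT v (kv_sign v hv) _ (T.inv_mem ht))
    have hwV : InKV (t * (v * t⁻¹ * v⁻¹)) := by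
      have h1 : InKV (t * v * t⁻¹) := kv_normal t v hv
      have h2 : InKV v⁻¹ := by
        rcases hv with h | h | h | h <;> rw [h] <;> decide
      have h3 : ∀ x y : Perm (Fin 4), InKV x → InKV y → InKV (x * y) := by decide
      have := h3 _ _ h1 h2
      have e : t * (v * t⁻¹ * v⁻¹) = t * v * t⁻¹ * v⁻¹ := by group
      rw [e]; exact this
    have := hV _ hw hwV
    calc t * v = (t * (v * t⁻¹ * v⁻¹)) * (v * t) := by group
      _ = v * t := by rw [this, one_mul]
  have htV : InKV t := kv_self_centralizing t (hcen kv₁ (Or.inr (Or.inl rfl)))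
    (hcen kv₂ (Or.inr (Or.inr (Or.inl rfl))))
  exact hV t ht htV

/-- normal Z-subgroups of `S₄` are trivial -/
theorem eq_bot_of_normal_perm_four (T : Subgroup (Perm (Fin 4))) [T.Normal] [IsZGroup T] :
    T = ⊥ := by
  apply eq_bot_of_normalized_four T
  · intro g _ t ht
    exact ‹T.Normal›.conj_mem t ht g
  · intro a ha b hb haa hbb hab ha1 hb1
    by_contra hne
    exact twoInv_false (T := T) (a := ⟨a, ha⟩) (b := ⟨b, hb⟩) (Subtype.ext haa) (Subtype.ext hbb)
      (Subtype.ext hab) (fun h => ha1 (congrArg Subtype.val h))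
      (fun h => hb1 (congrArg Subtype.val h)) (fun h => hne (congrArg Subtype.val h))

/-- normal Z-subgroups of `A₄` are trivial -/
theorem eq_bot_of_normal_alt_four (T : Subgroup (alternatingGroup (Fin 4))) [hn : T.Normal]
    [IsZGroup T] : T = ⊥ := by
  have h1 : T.map (alternatingGroup (Fin 4)).subtype = ⊥ := by
    apply eq_bot_of_normalized_four
    · rintro g hg _ ⟨t, ht, rfl⟩
      have hg' : g ∈ alternatingGroup (Fin 4) := Perm.mem_alternatingGroup.mpr hg
      exact ⟨⟨g, hg'⟩ * t * ⟨g, hg'⟩⁻¹, hn.conj_mem t ht ⟨g, hg'⟩, rfl⟩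
    · rintro _ ⟨a, ha, rfl⟩ _ ⟨b, hb, rfl⟩ haa hbb hab ha1 hb1
      by_contra hne
      apply twoInv_false (T := T) (a := ⟨a, ha⟩) (b := ⟨b, hb⟩)
      · apply Subtype.ext; apply Subtype.ext; exact haa
      · apply Subtype.ext; apply Subtype.ext; exact hbb
      · apply Subtype.ext; apply Subtype.ext; exact hab
      · intro h; apply ha1
        have := congrArg (fun x : T => ((x : alternatingGroup (Fin 4)) : Perm (Fin 4))) h
        exact this
      · intro h; apply hb1
        have := congrArg (fun x : T => ((x : alternatingGroup (Fin 4)) : Perm (Fin 4))) h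
        exact this
      · intro h; apply hne
        have := congrArg (fun x : T => ((x : alternatingGroup (Fin 4)) : Perm (Fin 4))) h
        exact this
  rw [eq_bot_iff]
  intro t ht
  have : ((t : Perm (Fin 4))) ∈ T.map (alternatingGroup (Fin 4)).subtype := ⟨t, ht, rfl⟩
  rw [h1, mem_bot] at this
  rw [mem_bot]
  exact Subtype.ext this

end Cfsg.Agent.Lib.Helper17.Zs
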