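/-
helper17: Zassenhaus cluster.  The six quotient types: degree five facts, the class `Big`, and the
bound on exponent-two quotients.
-/
import Mathlib
import Cfsg.Agent.Lib.Helper17.ZsSixC

set_option autoImplicit false

namespace Cfsg.Agent.Lib.Helper17.Zs

open Subgroup Equiv

universe u v

/-- the target groups `A₄, S₄, A₅, S₅`: no nontrivial normal Z-subgroup, not commutative -/
def Big (Q : Type*) [Group Q] : Prop :=
  (∀ T : Subgroup Q, T.Normal → IsZGroup T → T = ⊥) ∧ ¬ ∀ x y : Q, x * y = y * x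

theorem q_facts : q₁ * q₁ = 1 ∧ q₂ * q₂ = 1 ∧ q₁ * q₂ = q₂ * q₁ ∧ q₁ ≠ 1 ∧ q₂ ≠ 1 ∧ q₁ ≠ q₂ ∧
    sσ * q₁ ≠ q₁ * sσ := by decide

theorem big_perm_four : Big (Perm (Fin 4)) := by
  refine ⟨fun T hT hZ => eq_bot_of_normal_perm_four T, ?_⟩
  intro h
  have := h kc kv₁
  revert this
  decide

theorem big_alt_four : Big (alternatingGroup (Fin 4)) := by
  refine ⟨fun T hT hZ => eq_bot_of_normal_alt_four T, ?_⟩
  intro h
  obtain ⟨-, -, -, -, -, -, hs1, -, -, hsc⟩ := kv_facts
  have := h ⟨kc, Perm.mem_alternatingGroup.mpr hsc⟩ ⟨kv₁, Perm.mem_alternatingGroup.mpr hs1⟩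
  have h2 : kc * kv₁ = kv₁ * kc := congrArg Subtype.val this
  revert h2
  decide

theorem big_perm_five : Big (Perm (Fin 5)) := by
  obtain ⟨h11, h22, h12, hn1, hn2, hne, hnc⟩ := q_facts
  refine ⟨fun T hT hZ => ?_, ?_⟩
  · by_contra hne'
    have hnt : Nontrivial T := (Subgroup.nontrivial_iff_ne_bot T).mpr hne'
    have hle : alternatingGroup (Fin 5) ≤ T :=
      Equiv.Perm.alternatingGroup_le_of_normal (by simp) hnt
    exact twoInv_false (T := T) (a := ⟨q₁, hle q₁_mem⟩) (b := ⟨q₂, hle q₂_mem⟩)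
      (Subtype.ext h11) (Subtype.ext h22) (Subtype.ext h12)
      (fun h => hn1 (congrArg Subtype.val h)) (fun h => hn2 (congrArg Subtype.val h))
      (fun h => hne (congrArg Subtype.val h))
  · intro h
    exact hnc (h sσ q₁)

theorem big_alt_five : Big (alternatingGroup (Fin 5)) := by
  obtain ⟨h11, h22, h12, hn1, hn2, hne, hnc⟩ := q_facts
  refine ⟨fun T hT hZ => ?_, ?_⟩
  · rcases hT.eq_bot_or_eq_top with h | h
    · exact h
    · exfalso
      have hm : ∀ x : alternatingGroup (Fin 5), x ∈ T := fun x => h ▸ mem_top x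
      apply twoInv_false (T := T) (a := ⟨⟨q₁, q₁_mem⟩, hm _⟩) (b := ⟨⟨q₂, q₂_mem⟩, hm _⟩)
      · apply Subtype.ext; apply Subtype.ext; exact h11
      · apply Subtype.ext; apply Subtype.ext; exact h22
      · apply Subtype.ext; apply Subtype.ext; exact h12
      · intro h'; apply hn1
        exact congrArg (fun x : T => ((x : alternatingGroup (Fin 5)) : Perm (Fin 5))) h'
      · intro h'; apply hn2
        exact congrArg (fun x : T => ((x : alternatingGroup (Fin 5)) : Perm (Fin 5))) h'
      · intro h'; apply hne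
        exact congrArg (fun x : T => ((x : alternatingGroup (Fin 5)) : Perm (Fin 5))) h'
  · intro h
    have := h ⟨sσ, sσ_mem⟩ ⟨q₁, q₁_mem⟩
    exact hnc (congrArg Subtype.val this)

theorem Big.not_isZGroup {Q : Type*} [Group Q] [Finite Q] (hQ : Big Q) : ¬ IsZGroup Q := by
  intro hZ
  have h1 : (⊤ : Subgroup Q) = ⊥ := hQ.1 ⊤ inferInstance inferInstance
  apply hQ.2
  intro x y
  have hx : x ∈ (⊤ : Subgroup Q) := mem_top x
  have hy : y ∈ (⊤ : Subgroup Q) := mem_top y
  rw [h1, mem_bot] at hx hy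
  rw [hx, hy]

theorem dih_two_facts : ∀ d : DihedralGroup 2, d * d = 1 := by decide

theorem dih_two_comm : ∀ d e : DihedralGroup 2, d * e = e * d := by decide

theorem not_isZGroup_dih_two : ¬ IsZGroup (DihedralGroup 2) := by
  intro hZ
  exact twoInv_false (T := DihedralGroup 2) (a := DihedralGroup.r 1) (b := DihedralGroup.sr 0)
    (by decide) (by decide) (by decide) (by decide) (by decide) (by decide)

/-- powers of an involution -/
theorem pow_of_sq_eq_one {E : Type*} [Group E] {α : E} (h : α * α = 1) (k : ℕ) :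
    α ^ k = 1 ∨ α ^ k = α := by
  induction k with
  | zero => left; simp
  | succ k ih =>
    rcases ih with h1 | h1
    · right; rw [pow_succ, h1, one_mul]
    · left; rw [pow_succ, h1, h]

theorem zpow_of_sq_eq_one {E : Type*} [Group E] {α : E} (h : α * α = 1) (k : ℤ) :
    α ^ k = 1 ∨ α ^ k = α := by
  have hinv : α⁻¹ = α := inv_eq_of_mul_eq_one_left h
  rcases Int.eq_nat_or_neg k with ⟨n, rfl | rfl⟩
  · rw [zpow_natCast]; exact pow_of_sq_eq_one h n
  · rw [zpow_neg, zpow_natCast, ← inv_pow, hinv]; exact pow_of_sq_eq_one h n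

/-- a group of exponent two that is an image of a cyclic or quaternion group has order at most 4 -/
theorem card_le_four_of_exponent_two {S E : Type*} [Group S] [Group E] [Finite S]
    (hS : IsCyclic S ∨ ∃ m : ℕ, NeZero m ∧ Nonempty (S ≃* QuaternionGroup m))
    (hE : ∀ x : E, x * x = 1)
    (g : S →* E) (hg : Function.Surjective g) : Nat.card E ≤ 4 := by
  have key : ∃ α β : E, ∀ x : E, x = 1 ∨ x = α ∨ x = β ∨ x = β * α := by
    rcases hS with hc | ⟨m, hm, ⟨e⟩⟩
    · obtain ⟨s, hs⟩ := hc.exists_generator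
      refine ⟨g s, 1, fun x => ?_⟩
      obtain ⟨y, rfl⟩ := hg x
      obtain ⟨k, rfl⟩ := mem_zpowers_iff.mp (hs y)
      rw [map_zpow]
      rcases zpow_of_sq_eq_one (hE (g s)) k with h | h
      · exact Or.inl h
      · exact Or.inr (Or.inl h)
    · refine ⟨g (e.symm (QuaternionGroup.a 1)), g (e.symm (QuaternionGroup.xa 0)), fun x => ?_⟩
      obtain ⟨y, rfl⟩ := hg x
      obtain ⟨q, rfl⟩ := e.symm.surjective y
      have ha : ∀ i : ZMod (2 * m), (QuaternionGroup.a i : QuaternionGroup m)
          = (QuaternionGroup.a 1) ^ i.val := by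
        intro i
        rw [QuaternionGroup.a_one_pow, ZMod.natCast_zmod_val]
      have hα : ∀ i : ZMod (2 * m), g (e.symm (QuaternionGroup.a i)) = 1 ∨
          g (e.symm (QuaternionGroup.a i)) = g (e.symm (QuaternionGroup.a 1)) := by
        intro i
        rw [ha i, map_pow, map_pow]
        exact pow_of_sq_eq_one (hE _) _
      rcases q with i | i
      · rcases hα i with h | h
        · exact Or.inl h
        · exact Or.inr (Or.inl h)
      · have hx : (QuaternionGroup.xa i : QuaternionGroup m)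
            = QuaternionGroup.xa 0 * QuaternionGroup.a i := by
          rw [QuaternionGroup.xa_mul_a, zero_add]
        rw [hx, map_mul, map_mul]
        rcases hα i with h | h
        · rw [h, mul_one]; exact Or.inr (Or.inr (Or.inl rfl))
        · rw [h]; exact Or.inr (Or.inr (Or.inr rfl))
  obtain ⟨α, β, h⟩ := key
  let f : Fin 4 → E := ![1, α, β, β * α]
  have hf : Function.Surjective f := by
    intro x
    rcases h x with h | h | h | h
    · exact ⟨0, h.symm⟩
    · exact ⟨1, h.symm⟩
    · exact ⟨2, h.symm⟩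
    · exact ⟨3, h.symm⟩
  have := Nat.card_le_card_of_surjective f hf
  simpa using this

end Cfsg.Agent.Lib.Helper17.Zs
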