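/-
helper17: Zassenhaus cluster.  The six quotient types: uniqueness, existence in the nonsolvable
case, and the final theorem.
-/
import Mathlib
import Cfsg.Agent.Lib.Helper17.ZsSixB
import Cfsg.Agent.Lib.Helper17.ZsSixD

set_option autoImplicit false

namespace Cfsg.Agent.Lib.Helper17.Zs

open Subgroup Equiv

universe u v

section uniq
variable {G : Type u} [Group G] [Finite G]

omit [Finite G] in
/-- three classes of quotient types -/
theorem SixType.cases {N : Subgroup G} (h : SixType G N) :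
    N = ⊤ ∨ (∃ f : G →* DihedralGroup 2, Function.Surjective f ∧ f.ker = N) ∨
    ∃ (Q : Type) (_ : Group Q) (_ : Finite Q) (f : G →* Q),
      Function.Surjective f ∧ f.ker = N ∧ Big Q := by
  rcases h with h | h | ⟨f, hf, hk⟩ | ⟨f, hf, hk⟩ | ⟨f, hf, hk⟩ | ⟨f, hf, hk⟩
  · exact Or.inl h
  · exact Or.inr (Or.inl h)
  · exact Or.inr (Or.inr ⟨_, inferInstance, inferInstance, f, hf, hk, big_alt_four⟩)
  · exact Or.inr (Or.inr ⟨_, inferInstance, inferInstance, f, hf, hk, big_perm_four⟩)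
  · exact Or.inr (Or.inr ⟨_, inferInstance, inferInstance, f, hf, hk, big_alt_five⟩)
  · exact Or.inr (Or.inr ⟨_, inferInstance, inferInstance, f, hf, hk, big_perm_five⟩)

omit [Finite G] in
/-- a normal Z-subgroup lies in the kernel of a map onto a big group -/
theorem le_ker_of_big {Q : Type*} [Group Q] (hQ : Big Q) (f : G →* Q)
    (hf : Function.Surjective f) (N₂ : Subgroup G) [hn : N₂.Normal] [Finite N₂] [IsZGroup N₂] :
    N₂ ≤ f.ker := by
  have hTn : (N₂.map f).Normal := hn.map f hf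
  have hTZ : IsZGroup (N₂.map f) :=
    IsZGroup.of_surjective (f := f.subgroupMap N₂) (f.subgroupMap_surjective N₂)
  have hbot := hQ.1 _ hTn hTZ
  intro x hx
  rw [MonoidHom.mem_ker]
  have h1 : f x ∈ N₂.map f := ⟨x, hx, rfl⟩
  rw [hbot, mem_bot] at h1
  exact h1

/-- a normal subgroup containing all squares has index at most four -/
theorem index_le_four (h : HasFree.{u, v} G) (N₀ : Subgroup G) [N₀.Normal]
    (hsq : ∀ x : G, x * x ∈ N₀) : N₀.index ≤ 4 := by
  have : Fact (Nat.Prime 2) := ⟨Nat.prime_two⟩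
  obtain ⟨P⟩ : Nonempty (Sylow 2 G) := inferInstance
  have hP : IsCyclic (P : Subgroup G) ∨
      ∃ m : ℕ, NeZero m ∧ Nonempty ((P : Subgroup G) ≃* QuaternionGroup m) := by
    rcases Cfsg.Agent.Lib.Helper18.isCyclic_or_quaternion_of_unique_involution P.isPGroup'
      (h.subgroup (P : Subgroup G)).involution_unique with hc | ⟨n, -, he⟩
    · exact Or.inl hc
    · exact Or.inr ⟨2 ^ n, inferInstance, he⟩
  have hE : ∀ x : G ⧸ N₀, x * x = 1 := by
    intro x
    induction x using QuotientGroup.induction_on with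
    | H g =>
      rw [← QuotientGroup.mk_mul, QuotientGroup.eq_one_iff]
      exact hsq g
  have hEp : IsPGroup 2 (G ⧸ N₀) := by
    intro x
    exact ⟨1, by rw [pow_one, pow_two]; exact hE x⟩
  have hπ : Function.Surjective (QuotientGroup.mk' N₀) := QuotientGroup.mk'_surjective N₀
  have hmap : (P : Subgroup G).map (QuotientGroup.mk' N₀) = ⊤ := by
    have h1 := (P.mapSurjective hπ).is_maximal' (Q := ⊤) (hEp.to_subgroup ⊤) le_top
    rw [Sylow.coe_mapSurjective] at h1
    exact h1.symm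
  have hg : Function.Surjective ((QuotientGroup.mk' N₀).comp (P : Subgroup G).subtype) := by
    intro x
    have hx : x ∈ (P : Subgroup G).map (QuotientGroup.mk' N₀) := by rw [hmap]; exact mem_top x
    obtain ⟨s, hs, rfl⟩ := hx
    exact ⟨⟨s, hs⟩, rfl⟩
  rw [Subgroup.index_eq_card]
  exact card_le_four_of_exponent_two hP hE _ hg

/-- **Uniqueness** of the normal Z-subgroup with quotient of one of the six types -/
theorem sixType_unique (h : HasFree.{u, v} G) (N₁ N₂ : Subgroup G) [hn₁ : N₁.Normal]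
    [hn₂ : N₂.Normal] [hZ₁ : IsZGroup N₁] [hZ₂ : IsZGroup N₂] (h₁ : SixType G N₁)
    (h₂ : SixType G N₂) : N₁ = N₂ := by
  -- if one of them is everything, so is the other
  have top_case : ∀ (N N' : Subgroup G) [N'.Normal] [IsZGroup N], N = ⊤ → SixType G N' →
      N' = ⊤ := by
    intro N N' _ hZ hN hN'
    have hGZ : IsZGroup G := by
      subst hN
      exact IsZGroup.of_surjective (f := (⊤ : Subgroup G).subtype)
        (fun x => ⟨⟨x, mem_top x⟩, rfl⟩)
    rcases hN'.cases with h' | ⟨f, hf, -⟩ | ⟨Q, _, _, f, hf, -, hQ⟩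
    · exact h'
    · exact (not_isZGroup_dih_two (IsZGroup.of_surjective hf)).elim
    · exact (hQ.not_isZGroup (IsZGroup.of_surjective hf)).elim
  -- big versus Klein
  have big_klein : ∀ (N N' : Subgroup G) [N.Normal] [N'.Normal] [IsZGroup N] [IsZGroup N']
      (Q : Type) [Group Q] (f : G →* Q), Function.Surjective f → f.ker = N → Big Q →
      (f' : G →* DihedralGroup 2) → f'.ker = N' → False := by
    intro N N' _ _ _ _ Q _ f hf hk hQ f' hk'
    have hle : N' ≤ f.ker := le_ker_of_big hQ f hf N'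
    apply hQ.2
    intro x y
    obtain ⟨a, rfl⟩ := hf x
    obtain ⟨b, rfl⟩ := hf y
    have h1 : a * b * a⁻¹ * b⁻¹ ∈ N' := by
      rw [← hk', MonoidHom.mem_ker]
      simp only [map_mul, map_inv]
      rw [dih_two_comm (f' a) (f' b)]
      group
    have h2 := hle h1
    rw [MonoidHom.mem_ker] at h2
    simp only [map_mul, map_inv] at h2
    calc f a * f b = (f a * f b * (f a)⁻¹ * (f b)⁻¹) * (f b * f a) := by group
      _ = f b * f a := by rw [h2, one_mul]
  rcases h₁.cases with e₁ | ⟨f₁, hf₁, hk₁⟩ | ⟨Q₁, _, _, f₁, hf₁, hk₁, hQ₁⟩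
  · rw [e₁, top_case N₁ N₂ e₁ h₂]
  · rcases h₂.cases with e₂ | ⟨f₂, hf₂, hk₂⟩ | ⟨Q₂, _, _, f₂, hf₂, hk₂, hQ₂⟩
    · rw [e₂, top_case N₂ N₁ e₂ h₁]
    · -- Klein versus Klein
      have hidx : ∀ (f : G →* DihedralGroup 2), Function.Surjective f → f.ker.index = 4 := by
        intro f hf
        rw [Subgroup.index_ker, MonoidHom.range_eq_top.mpr hf, Subgroup.card_top,
          Nat.card_eq_fintype_card, DihedralGroup.card]
      have hsq : ∀ x : G, x * x ∈ N₁ ⊓ N₂ := by
        intro x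
        rw [Subgroup.mem_inf, ← hk₁, ← hk₂, MonoidHom.mem_ker, MonoidHom.mem_ker, map_mul, map_mul]
        exact ⟨dih_two_facts _, dih_two_facts _⟩
      have h4 := index_le_four h (N₁ ⊓ N₂) hsq
      have key : ∀ N : Subgroup G, N.index = 4 → N₁ ⊓ N₂ ≤ N → N₁ ⊓ N₂ = N := by
        intro N hN hle
        have h1 := Subgroup.relIndex_mul_index hle
        rw [hN] at h1
        have h2 : (N₁ ⊓ N₂).relIndex N = 1 := by
          obtain ⟨r, hr⟩ : ∃ r : ℕ, r = (N₁ ⊓ N₂).relIndex N := ⟨_, rfl⟩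
          obtain ⟨i, hi⟩ : ∃ i : ℕ, i = (N₁ ⊓ N₂).index := ⟨_, rfl⟩
          rw [← hr, ← hi] at h1
          rw [← hi] at h4
          rw [← hr]
          have hi0 : i ≠ 0 := by
            rw [hi]; exact Subgroup.index_ne_zero_of_finite
          have h3 : r ≠ 0 := by
            intro h0; rw [h0, zero_mul] at h1; omega
          omega
        exact le_antisymm hle (Subgroup.relIndex_eq_one.mp h2)
      have e1 := key N₁ (hk₁ ▸ hidx f₁ hf₁) inf_le_left
      have e2 := key N₂ (hk₂ ▸ hidx f₂ hf₂) inf_le_right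
      rw [← e1, e2]
    · exact (big_klein N₂ N₁ Q₂ f₂ hf₂ hk₂ hQ₂ f₁ hk₁).elim
  · rcases h₂.cases with e₂ | ⟨f₂, hf₂, hk₂⟩ | ⟨Q₂, _, _, f₂, hf₂, hk₂, hQ₂⟩
    · rw [e₂, top_case N₂ N₁ e₂ h₁]
    · exact (big_klein N₁ N₂ Q₁ f₁ hf₁ hk₁ hQ₁ f₂ hk₂).elim
    · apply le_antisymm
      · rw [← hk₂]; exact le_ker_of_big hQ₂ f₂ hf₂ N₁
      · rw [← hk₁]; exact le_ker_of_big hQ₁ f₁ hf₁ N₂

end uniq

end Cfsg.Agent.Lib.Helper17.Zs
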