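/-
helper17: Zassenhaus cluster.  The six quotient types: existence in the nonsolvable case, and
the final theorem (existence and uniqueness of the normal Z-subgroup with quotient of one of the
six types).
-/
import Mathlib
import Cfsg.Agent.Lib.Helper17.ZsSixE

set_option autoImplicit false

namespace Cfsg.Agent.Lib.Helper17.Zs

open Subgroup Equiv

universe u v

section ex
variable {G : Type u} [Group G] [Finite G]

/-- existence in the nonsolvable case: `N = C_G(T3 G)` with quotient `A₅` or `S₅` -/
theorem exists_sixType_of_chart (h : HasFree.{u, v} G) {z : G} (A : ZsAx G z)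
    (hc : Chart z (T3 G) 5 120) :
    ∃ N : Subgroup G, N.Normal ∧ IsZGroup N ∧ SixType G N := by
  have h120 : Nat.card (Equiv.Perm (Fin 5)) = 120 := by
    rw [Nat.card_eq_fintype_card, Fintype.card_perm, Fintype.card_fin]; rfl
  obtain ⟨f, Φ, hf, hfk, hker, hΦ, -⟩ := exists_indAut A hc h120
  obtain ⟨N, hN⟩ : ∃ N : Subgroup G, N = centralizer (T3 G : Set G) := ⟨_, rfl⟩
  have hNn : N.Normal := by rw [hN]; infer_instance
  rw [← hN] at hker
  refine ⟨N, hNn, ?_, ?_⟩
  · -- the centralizer is a Z-group
    refine ⟨fun q hq P => ?_⟩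
    have : Fact q.Prime := ⟨hq⟩
    by_cases hq2 : q = 2
    · subst hq2
      have hPz : ∀ s : N, s ∈ P → (s : G) ∈ zpowers z := by
        intro s hs
        obtain ⟨k, hk⟩ := P.isPGroup' ⟨s, hs⟩
        have hk' : (s : G) ^ 2 ^ k = 1 := by
          have := congrArg (fun t : (P : Subgroup N) => (((t : N)) : G)) hk
          simpa using this
        rcases eq_of_two_pow A f hf hfk k (hN ▸ s.2) hk' with h1 | h1
        · rw [h1]; exact one_mem _
        · rw [h1]; exact mem_zpowers z
      let φ : (P : Subgroup N) →* zpowers z :=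
        (N.subtype.comp (P : Subgroup N).subtype).codRestrict (zpowers z)
          (fun s => hPz s.1 s.2)
      have hφ : Function.Injective φ := by
        intro s t hst
        have := congrArg Subtype.val hst
        apply Subtype.ext
        apply Subtype.ext
        exact this
      exact isCyclic_of_injective φ hφ
    · exact (h.subgroup N).isCyclic_sylow q hq2 P
  · -- the quotient is `A₅` or `S₅`
    have hb := Cfsg.Agent.Lib.Helper9.AltAut.conjNormal_bijective (α := Fin 5) (by simp) (by simp)
    let e : Equiv.Perm (Fin 5) ≃* MulAut (alternatingGroup (Fin 5)) :=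
      MulEquiv.ofBijective (MulAut.conjNormal : Perm (Fin 5) →* MulAut (alternatingGroup (Fin 5))) hb
    let Φ' : G →* Equiv.Perm (Fin 5) := e.symm.toMonoidHom.comp Φ
    have hΦ'k : Φ'.ker = N := by
      rw [← hker]
      ext x
      rw [MonoidHom.mem_ker, MonoidHom.mem_ker]
      show e.symm (Φ x) = 1 ↔ _
      rw [MulEquiv.map_eq_one_iff]
    have hΦ'l : ∀ l : T3 G, Φ' (l : G) = (f l : Equiv.Perm (Fin 5)) := by
      intro l
      show e.symm (Φ (l : G)) = _
      rw [MulEquiv.symm_apply_eq, hΦ l]
      show _ = MulAut.conjNormal ((f l : alternatingGroup (Fin 5)) : Equiv.Perm (Fin 5))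
      rw [MulAut.conjNormal_val]
    have hle : alternatingGroup (Fin 5) ≤ Φ'.range := by
      intro a ha
      obtain ⟨l, hl⟩ := hf ⟨a, ha⟩
      refine ⟨(l : G), ?_⟩
      rw [hΦ'l l, hl]
    have hdvd : Φ'.range.index ∣ 2 := by
      have := Subgroup.index_dvd_of_le hle
      rwa [alternatingGroup.index_eq_two] at this
    have h12 : Φ'.range.index = 1 ∨ Φ'.range.index = 2 := by
      have := Nat.le_of_dvd (by norm_num) hdvd
      have h0 : Φ'.range.index ≠ 0 := Subgroup.index_ne_zero_of_finite
      omega
    rcases h12 with h1 | h2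
    · right; right; right; right; right
      refine ⟨Φ', ?_, hΦ'k⟩
      rw [← MonoidHom.range_eq_top]
      exact Subgroup.index_eq_one.mp h1
    · right; right; right; right; left
      have hr : Φ'.range = alternatingGroup (Fin 5) :=
        Equiv.Perm.eq_alternatingGroup_of_index_eq_two h2
      let g : G →* alternatingGroup (Fin 5) :=
        Φ'.codRestrict (alternatingGroup (Fin 5)) (fun x => by rw [← hr]; exact ⟨x, rfl⟩)
      refine ⟨g, ?_, ?_⟩
      · rintro ⟨a, ha⟩
        rw [← hr] at ha
        obtain ⟨x, hx⟩ := ha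
        exact ⟨x, Subtype.ext hx⟩
      · rw [← hΦ'k]
        exact MonoidHom.ker_codRestrict _ _ _

/-- **The six quotient types**: existence -/
theorem exists_sixType (h : HasFree.{u, v} G) :
    ∃ N : Subgroup G, N.Normal ∧ IsZGroup N ∧ SixType G N := by
  rcases solvable_or_chart h with hs | ⟨z, A, hc⟩
  · have : Group.IsSolvable G := hs
    exact exists_sixType_of_solvable h
  · exact exists_sixType_of_chart h A hc

/-- **The six quotient types**: existence and uniqueness -/
theorem existsUnique_sixType (h : HasFree.{u, v} G) :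
    ∃! N : Subgroup G, N.Normal ∧ (∀ (p : ℕ) [Fact p.Prime] (P : Sylow p N), IsCyclic P) ∧
      SixType G N := by
  obtain ⟨N, hNn, hNZ, hN6⟩ := exists_sixType h
  refine ⟨N, ⟨hNn, fun p hp P => hNZ.isZGroup p hp.out P, hN6⟩, ?_⟩
  rintro N' ⟨hN'n, hN'Z, hN'6⟩
  have hZ' : IsZGroup N' := ⟨fun q hq P => @hN'Z q ⟨hq⟩ P⟩
  exact sixType_unique h N' N hN'6 hN6

end ex

end Cfsg.Agent.Lib.Helper17.Zs
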