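/-
helper17: sharply 3-transitive groups (Zassenhaus, odd case).  A linear group over the prime
field that is regular on the nonzero vectors and has even order has a subgroup of index two, or two
different subgroups of order three.
-/
import Mathlib
import Cfsg.Agent.Lib.Helper17.Sh3A
import Cfsg.Agent.Lib.Helper17.Sh3B
import Cfsg.Agent.Lib.Helper17.ZsSixF
import Cfsg.Agent.Lib.Helper17.ZsReg
import Cfsg.Agent.S0688

set_option autoImplicit false

namespace Cfsg.Agent.Lib.Helper17.Sh3

open Subgroup Cfsg.Agent.Lib.Helper17.Zs Cfsg.Agent.Lib.Helper17.ZsReg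
  Cfsg.Agent.Lib.Helper29.RegLin

universe u

section lift
variable {X : Type*} [Group X] [Finite X] {Q : Type*} [Group Q]
set_option linter.unusedSectionVars false

/-- lifting an element of order three when `9` does not divide the order of the group -/
theorem exists_lift_three (f : X →* Q) (h9 : ¬ 9 ∣ Nat.card X) {u : Q} (hu3 : u ^ 3 = 1)
    (hu1 : u ≠ 1) (x : X) (hx : f x = u) : ∃ x' : X, orderOf x' = 3 ∧ f x' = u := by
  have hou : orderOf u = 3 := orderOf_eq_prime hu3 hu1
  have h3 : 3 ∣ Nat.card X := by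
    have h1 : orderOf u ∣ orderOf x := by rw [← hx]; exact orderOf_map_dvd f x
    rw [hou] at h1
    exact dvd_trans h1 (orderOf_dvd_natCard x)
  obtain ⟨m, hm⟩ := h3
  have hm3 : ¬ 3 ∣ m := by
    rintro ⟨j, rfl⟩
    apply h9
    exact ⟨j, by rw [hm]; ring⟩
  obtain ⟨k, hk1, hk2⟩ : ∃ k : ℕ, k % 3 = 1 ∧ m ∣ k := by
    have : m % 3 = 1 ∨ m % 3 = 2 := by omega
    rcases this with h | h
    · exact ⟨m, h, dvd_rfl⟩
    · exact ⟨2 * m, by omega, Dvd.intro_left 2 rfl⟩
  have hfx : f (x ^ k) = u := by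
    rw [map_pow, hx]
    have : k = 3 * (k / 3) + 1 := by omega
    rw [this, pow_succ, pow_mul, hu3, one_pow, one_mul]
  refine ⟨x ^ k, ?_, hfx⟩
  apply orderOf_eq_prime
  · obtain ⟨j, rfl⟩ := hk2
    rw [← pow_mul]
    have : m * j * 3 = Nat.card X * j := by rw [hm]; ring
    rw [this, pow_mul, pow_card_eq_one', one_pow]
  · intro h1
    rw [h1, map_one] at hfx
    exact hu1 hfx.symm

/-- two independent elements of order three downstairs give two upstairs -/
theorem exists_two_three (f : X →* Q) (hf : Function.Surjective f) (h9 : ¬ 9 ∣ Nat.card X)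
    {u v : Q} (hu3 : u ^ 3 = 1) (hu1 : u ≠ 1) (hv3 : v ^ 3 = 1) (hv1 : v ≠ 1)
    (huv : v ∉ zpowers u) : ∃ x y : X, orderOf x = 3 ∧ orderOf y = 3 ∧ y ∉ zpowers x := by
  obtain ⟨x₀, hx₀⟩ := hf u
  obtain ⟨y₀, hy₀⟩ := hf v
  obtain ⟨x, hx, hfx⟩ := exists_lift_three f h9 hu3 hu1 x₀ hx₀
  obtain ⟨y, hy, hfy⟩ := exists_lift_three f h9 hv3 hv1 y₀ hy₀
  refine ⟨x, y, hx, hy, ?_⟩
  intro hmem
  apply huv
  obtain ⟨k, hk⟩ := mem_zpowers_iff.mp hmem
  refine mem_zpowers_iff.mpr ⟨k, ?_⟩
  rw [← hfx, ← hfy, ← hk, map_zpow]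

end lift

section alt

/-- two independent elements of order three in an alternating group -/
theorem alt_two_three' {α : Type*} [Fintype α] [DecidableEq α] {a b c d : α} (hab : a ≠ b)
    (hac : a ≠ c) (had : a ≠ d) (hbc : b ≠ c) (hbd : b ≠ d) (hcd : c ≠ d) :
    ∃ u v : alternatingGroup α, u ^ 3 = 1 ∧ u ≠ 1 ∧ v ^ 3 = 1 ∧ v ≠ 1 ∧ v ∉ zpowers u := by
  have hu : Equiv.Perm.IsThreeCycle (Equiv.swap a b * Equiv.swap a c) :=
    Equiv.Perm.isThreeCycle_swap_mul_swap_same hab hac hbc
  have hv : Equiv.Perm.IsThreeCycle (Equiv.swap a b * Equiv.swap a d) :=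
    Equiv.Perm.isThreeCycle_swap_mul_swap_same hab had hbd
  have hu3 : (Equiv.swap a b * Equiv.swap a c) ^ 3 = 1 := by
    rw [← hu.orderOf]; exact pow_orderOf_eq_one _
  have hv3 : (Equiv.swap a b * Equiv.swap a d) ^ 3 = 1 := by
    rw [← hv.orderOf]; exact pow_orderOf_eq_one _
  refine ⟨⟨_, hu.mem_alternatingGroup⟩, ⟨_, hv.mem_alternatingGroup⟩, ?_, ?_, ?_, ?_, ?_⟩
  · apply Subtype.ext
    rw [Subgroup.coe_pow, Subgroup.coe_one]
    exact hu3
  · intro h
    have h1 := congrArg Subtype.val h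
    simp only [Subgroup.coe_one] at h1
    have h2 := hu.orderOf
    rw [h1, orderOf_one] at h2
    omega
  · apply Subtype.ext
    rw [Subgroup.coe_pow, Subgroup.coe_one]
    exact hv3
  · intro h
    have h1 := congrArg Subtype.val h
    simp only [Subgroup.coe_one] at h1
    have h2 := hv.orderOf
    rw [h1, orderOf_one] at h2
    omega
  · intro hmem
    -- `u` fixes `d`, but `v` does not
    have hle : zpowers (⟨_, hu.mem_alternatingGroup⟩ : alternatingGroup α) ≤
        (MulAction.stabilizer (Equiv.Perm α) d).comap (alternatingGroup α).subtype := by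
      rw [Subgroup.zpowers_le, Subgroup.mem_comap, MulAction.mem_stabilizer_iff]
      show (Equiv.swap a b * Equiv.swap a c) d = d
      rw [Equiv.Perm.mul_apply, Equiv.swap_apply_of_ne_of_ne had.symm hcd.symm,
        Equiv.swap_apply_of_ne_of_ne had.symm hbd.symm]
    have := hle hmem
    rw [Subgroup.mem_comap, MulAction.mem_stabilizer_iff] at this
    have h3 : (Equiv.swap a b * Equiv.swap a d) d = d := this
    rw [Equiv.Perm.mul_apply, Equiv.swap_apply_right, Equiv.swap_apply_left] at h3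
    exact hbd h3

theorem alt_two_three_four :
    ∃ u v : alternatingGroup (Fin 4), u ^ 3 = 1 ∧ u ≠ 1 ∧ v ^ 3 = 1 ∧ v ≠ 1 ∧ v ∉ zpowers u :=
  alt_two_three' (a := (0 : Fin 4)) (b := 1) (c := 2) (d := 3) (by decide) (by decide) (by decide)
    (by decide) (by decide) (by decide)

theorem alt_two_three_five :
    ∃ u v : alternatingGroup (Fin 5), u ^ 3 = 1 ∧ u ≠ 1 ∧ v ^ 3 = 1 ∧ v ≠ 1 ∧ v ∉ zpowers u :=
  alt_two_three' (a := (0 : Fin 5)) (b := 1) (c := 2) (d := 3) (by decide) (by decide) (by decide)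
    (by decide) (by decide) (by decide)

end alt

section main
variable {p : ℕ} [Fact p.Prime] {V : Type u} [AddCommGroup V] [Module (ZMod p) V] [Finite V]

/-- **Dichotomy** for a linear group regular on the nonzero vectors, of even order -/
theorem exists_index_two_or_three (H : Subgroup (V ≃ₗ[ZMod p] V))
    (hreg : ∀ v w : V, v ≠ 0 → w ≠ 0 → ∃! h : H, (h : V ≃ₗ[ZMod p] V) v = w)
    (h2 : 2 ∣ Nat.card H) :
    (∃ M : Subgroup H, M.index = 2) ∨
      ∃ x y : H, orderOf x = 3 ∧ orderOf y = 3 ∧ y ∉ zpowers x := by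
  have : Finite (V ≃ₗ[ZMod p] V) :=
    Finite.of_injective (fun f => (f : V → V)) DFunLike.coe_injective
  have hreg' : ∀ v w : V, v ≠ 0 → w ≠ 0 → ∃! h : H, h • v = w := hreg
  have hnt : Nontrivial V := by
    by_contra hV
    rw [not_nontrivial_iff_subsingleton] at hV
    have h1 : Nat.card H = 1 := by
      rw [Nat.card_eq_one_iff_unique]
      refine ⟨⟨fun a b => ?_⟩, ⟨1⟩⟩
      apply Subtype.ext
      exact LinearEquiv.ext fun v => Subsingleton.elim _ _
    rw [h1] at h2
    omega
  obtain ⟨v₀, hv₀⟩ := exists_ne (0 : V)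
  have hfree : HasFree.{u, u} H := hasFree_of_regular hreg'
  by_contra hcon
  push Not at hcon
  obtain ⟨hno2, hno3⟩ := hcon
  -- elements of order three commute pairwise, so `H` is solvable
  have hcomm3 : ∀ t t' : H, orderOf t = 3 → orderOf t' = 3 → t * t' = t' * t := by
    intro t t' ht ht'
    obtain ⟨k, hk⟩ := mem_zpowers_iff.mp (hno3 t t' ht ht')
    rw [← hk]
    exact (Commute.zpow_right (Commute.refl t) k).eq
  have hT3c : ∀ y ∈ T3 H, y ∈ centralizer (T3 H : Set H) := by
    intro y hy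
    rw [centralizer_T3]
    intro t ht
    have hle : T3 H ≤ centralizer ({t} : Set H) := by
      unfold T3
      rw [Subgroup.closure_le]
      intro t' ht'
      rw [SetLike.mem_coe, Subgroup.mem_centralizer_singleton_iff]
      exact (hcomm3 t t' ht ht').symm
    have := hle hy
    rw [Subgroup.mem_centralizer_singleton_iff] at this
    exact this.symm
  have hsolv : Group.IsSolvable H := by
    apply solvable_of_abelian hfree
    intro x hx y hy
    have := hT3c y hy
    rw [Subgroup.mem_centralizer_iff] at this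
    exact this x hx
  by_cases hI : ∀ A : Subgroup H, A.Normal → IsCyclic A → ∃ W : Submodule (ZMod p) V,
      W ≠ ⊥ ∧ W ≠ ⊤ ∧ ∀ a ∈ A, ∀ v ∈ W, ((a : H) : V ≃ₗ[ZMod p] V) v ∈ W
  · -- the exceptional case
    have hcV := Cfsg.Agent.S0688.result H hreg hI hsolv
    have hcH : Nat.card H + 1 = Nat.card V := card_H_add_one hreg' hv₀
    have h9 : ¬ 9 ∣ Nat.card H := by
      rcases hcV with h | h | h | h <;> rw [h] at hcH <;> omega
    obtain ⟨N₀, hN₀n, hN₀Z, h6⟩ := exists_sixType hfree
    rcases h6 with h | ⟨f, hf, -⟩ | ⟨f, hf, -⟩ | ⟨f, hf, -⟩ | ⟨f, hf, -⟩ | ⟨f, hf, -⟩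
    · -- `H` is a Z-group
      have hGZ : IsZGroup H := by
        subst h
        exact IsZGroup.of_surjective (f := (⊤ : Subgroup H).subtype)
          (fun x => ⟨⟨x, mem_top x⟩, rfl⟩)
      have : Fact (Nat.Prime 2) := ⟨Nat.prime_two⟩
      obtain ⟨P⟩ : Nonempty (Sylow 2 H) := inferInstance
      obtain ⟨M, hM⟩ := exists_index_two_of_cyclic_sylow P (hGZ.isZGroup 2 Nat.prime_two P) h2
      exact hno2 M hM
    · -- Klein four quotient
      obtain ⟨M, hM⟩ := exists_index_two_of_surjective f hf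
        ⟨zpowers (DihedralGroup.r (1 : ZMod 2)), by
          have h1 := (zpowers (DihedralGroup.r (1 : ZMod 2))).card_mul_index
          rw [Nat.card_zpowers, DihedralGroup.orderOf_r_one, DihedralGroup.nat_card] at h1
          omega⟩
      exact hno2 M hM
    · obtain ⟨u, v, hu3, hu1, hv3, hv1, huv⟩ := alt_two_three_four
      obtain ⟨x, y, hx, hy, hxy⟩ := exists_two_three f hf h9 hu3 hu1 hv3 hv1 huv
      exact hxy (hno3 x y hx hy)
    · obtain ⟨M, hM⟩ := exists_index_two_of_surjective f hf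
        ⟨alternatingGroup (Fin 4), alternatingGroup.index_eq_two⟩
      exact hno2 M hM
    · obtain ⟨u, v, hu3, hu1, hv3, hv1, huv⟩ := alt_two_three_five
      obtain ⟨x, y, hx, hy, hxy⟩ := exists_two_three f hf h9 hu3 hu1 hv3 hv1 huv
      exact hxy (hno3 x y hx hy)
    · obtain ⟨M, hM⟩ := exists_index_two_of_surjective f hf
        ⟨alternatingGroup (Fin 5), alternatingGroup.index_eq_two⟩
      exact hno2 M hM
  · -- an irreducible cyclic normal subgroup: `H` is metacyclic
    push Not at hI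
    obtain ⟨A, hAn, hAc, hAirr⟩ := hI
    obtain ⟨C, hC⟩ : ∃ C : Subgroup H, C = centralizer (A : Set H) := ⟨_, rfl⟩
    have hCn : C.Normal := by rw [hC]; infer_instance
    have hAcomm : ∀ a b : A, a * b = b * a := by
      have := hAc
      intro a b
      let _ := IsCyclic.commGroup (α := A)
      exact mul_comm a b
    have hCmem : ∀ c : C, ∀ a ∈ A, a * (c : H) = (c : H) * a := by
      intro c a ha
      have h1 : (c : H) ∈ centralizer (A : Set H) := by rw [← hC]; exact c.2
      rw [Subgroup.mem_centralizer_iff] at h1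
      exact h1 a ha
    have hCcomm : ∀ c c' : C, c * c' = c' * c := by
      intro c c'
      apply Subtype.ext
      apply Subtype.ext
      show ((c : H) : V ≃ₗ[ZMod p] V) * ((c' : H) : V ≃ₗ[ZMod p] V) = _
      apply comm_of_centralizes_irreducible (A.map H.subtype)
      · rintro _ ⟨a, ha, rfl⟩ _ ⟨b, hb, rfl⟩
        have := hAcomm ⟨a, ha⟩ ⟨b, hb⟩
        have h1 := congrArg (fun t : A => ((t : H) : V ≃ₗ[ZMod p] V)) this
        exact h1
      · intro W hW
        by_contra hcon
        push Not at hcon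
        obtain ⟨a, ha, v, hv, hav⟩ := hAirr W hcon.1 hcon.2
        exact hav (hW _ ⟨a, ha, rfl⟩ v hv)
      · rintro _ ⟨a, ha, rfl⟩
        have := hCmem c a ha
        have h2 := congrArg (fun t : H => (t : V ≃ₗ[ZMod p] V)) this
        exact h2.symm
      · rintro _ ⟨a, ha, rfl⟩
        have := hCmem c' a ha
        have h2 := congrArg (fun t : H => (t : V ≃ₗ[ZMod p] V)) this
        exact h2.symm
    have hCcyc : IsCyclic C := (hfree.subgroup C).isCyclic_of_comm hCcomm
    have hq : ∀ x y : H, x * y * x⁻¹ * y⁻¹ ∈ C := by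
      intro x y
      have hS : ∀ φ ψ : MulAut A, φ * ψ = ψ * φ := by
        intro φ ψ
        apply (hAc.mulAutMulEquiv A).injective
        rw [map_mul, map_mul, mul_comm]
      have h1 : (MulAut.conjNormal (x * y * x⁻¹ * y⁻¹) : MulAut A) = 1 := by
        rw [map_mul, map_mul, map_mul, map_inv, map_inv]
        rw [hS (MulAut.conjNormal x) (MulAut.conjNormal y)]
        group
      rw [hC, Subgroup.mem_centralizer_iff]
      intro a ha
      have h3 := congrArg (fun φ : MulAut A => ((φ ⟨a, ha⟩ : A) : H)) h1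
      simp only [MulAut.conjNormal_apply, MulAut.one_apply] at h3
      obtain ⟨g, hg⟩ : ∃ g, g = x * y * x⁻¹ * y⁻¹ := ⟨_, rfl⟩
      rw [← hg] at h3 ⊢
      calc a * g = (g * a * g⁻¹) * g := by rw [h3]
        _ = g * a := by group
    obtain ⟨M, hM⟩ := exists_index_two_of_metacyclic C hCcyc hq h2
    exact hno2 M hM

end main

end Cfsg.Agent.Lib.Helper17.Sh3
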