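/-
helper17: sharply 3-transitive groups (Zassenhaus, odd case).  The regular normal elementary
abelian subgroup of a sharply 2-transitive group, in the abstract form of helper9's `Sharp2`
(transferred from S0680).
-/
import Mathlib
import Cfsg.Agent.S0680
import Cfsg.Agent.Lib.Helper9.Sharp2Kernel

set_option autoImplicit false

namespace Cfsg.Agent.Lib.Helper17.Sh3

open Subgroup Cfsg.Agent.Lib.Helper9

/-- **Regular normal subgroup** of a finite sharply 2-transitive group -/
theorem exists_kernel_gen {K X : Type*} [Group K] [MulAction K X] [Finite X]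
    (h : Sharp2 K X) (hX : 2 ≤ Nat.card X) :
    ∃ p j : ℕ, p.Prime ∧ 1 ≤ j ∧ Nat.card X = p ^ j ∧ ∃ N : Subgroup K, N.Normal ∧
      (∀ x y : X, ∃ n ∈ N, n • x = y) ∧ (∀ n ∈ N, ∀ x : X, n • x = x → n = 1) ∧
      (∀ n ∈ N, n ^ p = 1) ∧ (∀ n ∈ N, ∀ m ∈ N, n * m = m * n) := by
  classical
  let _ : Fintype X := Fintype.ofFinite X
  rw [Nat.card_eq_fintype_card] at hX ⊢
  obtain ⟨a, b, hab⟩ : ∃ a b : X, a ≠ b := Fintype.exists_pair_of_one_lt_card (by omega)
  obtain ⟨φ, hφdef⟩ : ∃ φ : K →* Equiv.Perm X, φ = MulAction.toPermHom K X := ⟨_, rfl⟩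
  have hφa : ∀ (k : K) (x : X), φ k x = k • x := by
    intro k x; rw [hφdef]; rfl
  have hφ : Function.Injective φ := by
    rw [injective_iff_map_eq_one]
    intro g hg
    have h1 : ∀ x : X, g • x = x := by
      intro x
      rw [← hφa, hg]; rfl
    exact h.uniq hab (h1 a) (h1 b)
  obtain ⟨G', hG'⟩ : ∃ G' : Subgroup (Equiv.Perm X), G' = φ.range := ⟨_, rfl⟩
  have hsm : ∀ (g : G') (x : X), g • x = (g : Equiv.Perm X) x := fun g x => rfl
  have hmemG' : ∀ g : G', ∃ k : K, φ k = (g : Equiv.Perm X) := by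
    intro g
    have h1 : (g : Equiv.Perm X) ∈ φ.range := by rw [← hG']; exact g.2
    exact h1
  have h2t : MulAction.IsMultiplyPretransitive G' X 2 := by
    refine ⟨fun x y => ?_⟩
    have hx : x 0 ≠ x 1 := fun e => by
      have := x.injective e; exact absurd this (by decide)
    have hy : y 0 ≠ y 1 := fun e => by
      have := y.injective e; exact absurd this (by decide)
    obtain ⟨k, hk0, hk1⟩ := h.ex hx hy
    refine ⟨⟨φ k, by rw [hG']; exact ⟨k, rfl⟩⟩, ?_⟩
    ext i
    rw [Function.Embedding.smul_apply, hsm]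
    show φ k (x i) = y i
    rw [hφa]
    fin_cases i
    · exact hk0
    · exact hk1
  have hsharp : ∀ x : Fin 2 ↪ X, MulAction.stabilizer G' x = ⊥ := by
    intro x
    rw [eq_bot_iff]
    intro g hg
    rw [MulAction.mem_stabilizer_iff] at hg
    have hx : x 0 ≠ x 1 := fun e => by
      have := x.injective e; exact absurd this (by decide)
    obtain ⟨k, hk⟩ := hmemG' g
    have h0 : k • x 0 = x 0 := by
      have := congrArg (fun f : Fin 2 ↪ X => f 0) hg
      rw [← hφa, hk]; exact this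
    have h1 : k • x 1 = x 1 := by
      have := congrArg (fun f : Fin 2 ↪ X => f 1) hg
      rw [← hφa, hk]; exact this
    have hk1 : k = 1 := h.uniq hx h0 h1
    rw [Subgroup.mem_bot]
    apply Subtype.ext
    rw [← hk, hk1, map_one]; rfl
  obtain ⟨p, j, hp, hj, hcard, hall⟩ := Cfsg.Agent.S0680.result G' hsharp hX
  have hpf : Fact p.Prime := ⟨hp⟩
  obtain ⟨P⟩ : Nonempty (Sylow p G') := inferInstance
  obtain ⟨hPn, hPc, hPe, hPt, -, hPm⟩ := hall hpf P
  refine ⟨p, j, hp, hj, hcard, ?_⟩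
  -- the map `K → G'`
  have hψ : ∀ k : K, φ k ∈ G' := fun k => by rw [hG']; exact ⟨k, rfl⟩
  let ψ : K →* G' := φ.codRestrict G' hψ
  have hψinj : Function.Injective ψ := by
    intro k k' hkk
    apply hφ
    exact congrArg Subtype.val hkk
  have hψa : ∀ (k : K) (x : X), ψ k • x = k • x := by
    intro k x
    rw [hsm]
    show φ k x = _
    rw [hφa]
  refine ⟨(P : Subgroup G').comap ψ, hPn.comap ψ, ?_, ?_, ?_, ?_⟩
  · intro x y
    obtain ⟨g, hg⟩ := hPt.exists_smul_eq x y
    obtain ⟨k, hk⟩ := hmemG' (g : G')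
    have hψk : ψ k = (g : G') := Subtype.ext hk
    refine ⟨k, ?_, ?_⟩
    · rw [Subgroup.mem_comap, hψk]; exact g.2
    · rw [← hψa, hψk]; exact hg
  · intro n hn x hx
    rw [Subgroup.mem_comap] at hn
    rcases (hPm (ψ n)).mp hn with h1 | h1
    · apply hψinj
      rw [h1, map_one]
    · exact absurd (by rw [hψa]; exact hx) (h1 x)
  · intro n hn
    rw [Subgroup.mem_comap] at hn
    apply hψinj
    rw [map_pow, map_one]
    exact hPe _ hn
  · intro n hn m hm
    rw [Subgroup.mem_comap] at hn hm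
    apply hψinj
    rw [map_mul, map_mul]
    have := hPc.is_comm.comm (⟨ψ n, hn⟩ : (P : Subgroup G')) ⟨ψ m, hm⟩
    exact congrArg Subtype.val this

end Cfsg.Agent.Lib.Helper17.Sh3
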