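/-
helper17: sharply 3-transitive groups (Zassenhaus, odd case).  Linearization of a regular action
on an elementary abelian group; the dichotomy in abstract form.
-/
import Mathlib
import Cfsg.Agent.Lib.Helper17.Sh3C

set_option autoImplicit false

namespace Cfsg.Agent.Lib.Helper17.Sh3

open Subgroup

section lin
variable {Hh : Type*} [Group Hh] {Nn : Type*} [CommGroup Nn] (p : ℕ) [Fact p.Prime]

/-- the `ZMod p`-module structure on an elementary abelian `p`-group -/
@[reducible] def zmodInst (hexp : ∀ n : Nn, n ^ p = 1) : Module (ZMod p) (Additive Nn) :=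
  AddCommGroup.zmodModule (n := p) (fun x => by
    show Additive.ofMul ((Additive.toMul x) ^ p) = 0
    rw [hexp]; rfl)

/-- the linear representation attached to an action by automorphisms -/
noncomputable def linRep [Module (ZMod p) (Additive Nn)] (φ : Hh →* MulAut Nn) :
    Hh →* (Additive Nn ≃ₗ[ZMod p] Additive Nn) where
  toFun := fun h => (MulEquiv.toAdditive (φ h)).toLinearEquiv
      (fun c x => ZMod.map_smul (MulEquiv.toAdditive (φ h)) c x)
  map_one' := by
    apply LinearEquiv.ext
    intro x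
    show Additive.ofMul (φ 1 (Additive.toMul x)) = x
    rw [map_one]; rfl
  map_mul' := by
    intro g h
    apply LinearEquiv.ext
    intro x
    show Additive.ofMul (φ (g * h) (Additive.toMul x)) = _
    rw [map_mul]; rfl

theorem linRep_apply [Module (ZMod p) (Additive Nn)] (φ : Hh →* MulAut Nn) (h : Hh)
    (x : Additive Nn) :
    linRep p φ h x = Additive.ofMul (φ h (Additive.toMul x)) := rfl

/-- **Dichotomy**, abstract form: a group of even order acting regularly on the nonidentity
elements of an elementary abelian `p`-group -/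
theorem exists_index_two_or_three_of_action [Finite Hh] [Finite Nn]
    (hexp : ∀ n : Nn, n ^ p = 1) (φ : Hh →* MulAut Nn)
    (hreg : ∀ n m : Nn, n ≠ 1 → m ≠ 1 → ∃! h : Hh, φ h n = m) (hnt : Nontrivial Nn)
    (h2 : 2 ∣ Nat.card Hh) :
    (∃ M : Subgroup Hh, M.index = 2) ∨
      ∃ x y : Hh, orderOf x = 3 ∧ orderOf y = 3 ∧ y ∉ zpowers x := by
  have : Module (ZMod p) (Additive Nn) := zmodInst p hexp
  obtain ⟨n₀, hn₀⟩ := exists_ne (1 : Nn)
  obtain ⟨ρ, hρdef⟩ : ∃ ρ : Hh →* (Additive Nn ≃ₗ[ZMod p] Additive Nn), ρ = linRep p φ :=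
    ⟨_, rfl⟩
  have hρa : ∀ (h : Hh) (x : Additive Nn), ρ h x = Additive.ofMul (φ h (Additive.toMul x)) := by
    intro h x; rw [hρdef]; rfl
  have hρinj : Function.Injective ρ := by
    rw [injective_iff_map_eq_one]
    intro h hh
    have h1 : φ h n₀ = n₀ := by
      have := hρa h (Additive.ofMul n₀)
      rw [hh] at this
      exact (Additive.ofMul.injective this).symm
    have h2' : φ 1 n₀ = n₀ := by rw [map_one]; rfl
    exact (hreg n₀ n₀ hn₀ hn₀).unique h1 h2'
  have hfin : Finite (Additive Nn) := ‹Finite Nn›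
  have hregV : ∀ v w : Additive Nn, v ≠ 0 → w ≠ 0 →
      ∃! h : ρ.range, ((h : Additive Nn ≃ₗ[ZMod p] Additive Nn)) v = w := by
    intro v w hv hw
    have hv' : Additive.toMul v ≠ 1 := fun e => hv (Additive.toMul.injective e)
    have hw' : Additive.toMul w ≠ 1 := fun e => hw (Additive.toMul.injective e)
    obtain ⟨h, hh, huniq⟩ := hreg _ _ hv' hw'
    refine ⟨⟨ρ h, ⟨h, rfl⟩⟩, ?_, ?_⟩
    · show ρ h v = w
      rw [hρa, hh]; rfl
    · rintro ⟨_, ⟨h', rfl⟩⟩ hh'
      have h3 : ρ h' v = w := hh'
      rw [hρa] at h3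
      have h4 : φ h' (Additive.toMul v) = Additive.toMul w := Additive.ofMul.injective h3
      have := huniq h' h4
      apply Subtype.ext
      show ρ h' = ρ h
      rw [this]
  let e : Hh ≃* ρ.range := MonoidHom.ofInjective hρinj
  have h2r : 2 ∣ Nat.card ρ.range := by
    rw [← Nat.card_congr e.toEquiv]; exact h2
  rcases exists_index_two_or_three ρ.range hregV h2r with ⟨M, hM⟩ | ⟨x, y, hx, hy, hxy⟩
  · left
    exact exists_index_two_of_surjective e.toMonoidHom e.surjective ⟨M, hM⟩
  · right
    refine ⟨e.symm x, e.symm y, ?_, ?_, ?_⟩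
    · rw [MulEquiv.orderOf_eq]; exact hx
    · rw [MulEquiv.orderOf_eq]; exact hy
    · intro hmem
      apply hxy
      obtain ⟨k, hk⟩ := mem_zpowers_iff.mp hmem
      refine mem_zpowers_iff.mpr ⟨k, ?_⟩
      apply e.symm.injective
      rw [map_zpow]; exact hk

end lin

end Cfsg.Agent.Lib.Helper17.Sh3
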