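/-
helper17: sharply 3-transitive groups (Zassenhaus, odd case).  The two-point stabilizer of a
sharply 3-transitive group of even degree has a subgroup of index two (invariant under the
involution interchanging the two points).
-/
import Mathlib
import Cfsg.Agent.Lib.Helper17.Sh3D
import Cfsg.Agent.Lib.Helper17.Sh3E
import Cfsg.Agent.Lib.Helper9.Sharp3
import Cfsg.Agent.S0728

set_option autoImplicit false

namespace Cfsg.Agent.Lib.Helper17.Sh3

open Subgroup MulAction Cfsg.Agent.Lib.Helper9

section act
variable {G α : Type*} [Group G] [MulAction G α]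

/-- the two-point stabilizer acting on the kernel of the one-point stabilizer: regularity -/
theorem regular_on_kernel (h : Sharp3 G α) {a b : α} (hab : a ≠ b)
    (N : Subgroup (stabilizer G a)) [hNn : N.Normal]
    (hsemi : ∀ n ∈ N, ∀ x : SubMulAction.ofStabilizer G a, n • x = x → n = 1)
    (ι : ↥(stabilizer G a ⊓ stabilizer G b) →* stabilizer G a)
    (hι : ∀ g, ((ι g : stabilizer G a) : G) = (g : G)) :
    ∀ n m : N, n ≠ 1 → m ≠ 1 →
      ∃! g : ↥(stabilizer G a ⊓ stabilizer G b), (MulAut.conjNormal (ι g) : MulAut N) n = m := by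
  have h2 := h.sharp2_stabilizer a
  let o : SubMulAction.ofStabilizer G a := ⟨b, Ne.symm hab⟩
  have hmove : ∀ n : N, n ≠ 1 → (n : stabilizer G a) • o ≠ o := by
    intro n hn hfix
    apply hn
    exact Subtype.ext (hsemi n n.2 o hfix)
  have hιo : ∀ g, ι g • o = o := by
    intro g
    apply Subtype.ext
    show ((ι g : stabilizer G a) : G) • b = b
    rw [hι]
    exact (Subgroup.mem_inf.mp g.2).2
  intro n m hn hm
  obtain ⟨g, hgo, hgx⟩ := h2.ex (Ne.symm (hmove n hn)) (Ne.symm (hmove m hm))
  have hgb : (g : G) • b = b := congrArg Subtype.val hgo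
  let g' : ↥(stabilizer G a ⊓ stabilizer G b) := ⟨(g : G), Subgroup.mem_inf.mpr ⟨g.2, hgb⟩⟩
  have hιg' : ι g' = g := Subtype.ext (hι g')
  refine ⟨g', ?_, ?_⟩
  · apply Subtype.ext
    rw [MulAut.conjNormal_apply, hιg']
    have hmem : g * (n : stabilizer G a) * g⁻¹ ∈ N := hNn.conj_mem n n.2 g
    have h1 : ((m : stabilizer G a)⁻¹ * (g * (n : stabilizer G a) * g⁻¹)) = 1 := by
      apply hsemi _ (N.mul_mem (N.inv_mem m.2) hmem) o
      rw [mul_smul, mul_smul, mul_smul, inv_smul_eq_iff]
      have : g⁻¹ • o = o := by rw [inv_smul_eq_iff, hgo]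
      rw [this]
      exact hgx
    exact (inv_mul_eq_one.mp h1).symm
  · intro k hk
    have hk' : (ι k) * (n : stabilizer G a) * (ι k)⁻¹ = (m : stabilizer G a) := by
      have := congrArg Subtype.val hk
      rw [MulAut.conjNormal_apply] at this
      exact this
    have hg'' : g * (n : stabilizer G a) * g⁻¹ = (m : stabilizer G a) := by
      have hmem : g * (n : stabilizer G a) * g⁻¹ ∈ N := hNn.conj_mem n n.2 g
      have h1 : ((m : stabilizer G a)⁻¹ * (g * (n : stabilizer G a) * g⁻¹)) = 1 := by
        apply hsemi _ (N.mul_mem (N.inv_mem m.2) hmem) o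
        rw [mul_smul, mul_smul, mul_smul, inv_smul_eq_iff]
        have : g⁻¹ • o = o := by rw [inv_smul_eq_iff, hgo]
        rw [this]
        exact hgx
      exact (inv_mul_eq_one.mp h1).symm
    -- `g⁻¹ * ι k` commutes with `n`, hence fixes `o` and `n • o`
    have hcomm : (g⁻¹ * ι k) * (n : stabilizer G a) = (n : stabilizer G a) * (g⁻¹ * ι k) := by
      have e1 : ι k * (n : stabilizer G a) = (m : stabilizer G a) * ι k := by
        rw [← hk']; group
      have e2 : g * (n : stabilizer G a) = (m : stabilizer G a) * g := by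
        rw [← hg'']; group
      calc (g⁻¹ * ι k) * (n : stabilizer G a) = g⁻¹ * (ι k * (n : stabilizer G a)) := by group
        _ = g⁻¹ * ((m : stabilizer G a) * ι k) := by rw [e1]
        _ = g⁻¹ * ((m : stabilizer G a) * g) * g⁻¹ * ι k := by group
        _ = g⁻¹ * (g * (n : stabilizer G a)) * g⁻¹ * ι k := by rw [e2]
        _ = (n : stabilizer G a) * (g⁻¹ * ι k) := by group
    have hfo : (g⁻¹ * ι k) • o = o := by
      rw [mul_smul, hιo, inv_smul_eq_iff, hgo]
    have hfx : (g⁻¹ * ι k) • ((n : stabilizer G a) • o) = (n : stabilizer G a) • o := by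
      rw [← mul_smul, hcomm, mul_smul, hfo]
    have hone : g⁻¹ * ι k = 1 := h2.uniq (Ne.symm (hmove n hn)) hfo hfx
    have hkg : ι k = g := by
      have := inv_mul_eq_one.mp hone
      exact this.symm
    apply Subtype.ext
    have := congrArg (fun t : stabilizer G a => (t : G)) hkg
    simp only [hι] at this
    exact this

end act

section perm
variable {α : Type*} [Fintype α] [DecidableEq α]

/-- the two-point stabilizer of a sharply 3-transitive group of even degree has a subgroup of
index two -/
theorem exists_index_two_stab (heven : Even (Fintype.card α)) (h6 : 6 ≤ Fintype.card α)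
    (G : Subgroup (Equiv.Perm α)) (h3 : MulAction.IsMultiplyPretransitive G α 3)
    (hsharp : ∀ x : Fin 3 ↪ α, MulAction.stabilizer G x = ⊥) {a b : α} (hab : a ≠ b) :
    ∃ M : Subgroup ↥(stabilizer G a ⊓ stabilizer G b), M.index = 2 := by
  have hS3 : Sharp3 G α := sharp3_of_isMultiplyPretransitive h3 hsharp
  have h2 := hS3.sharp2_stabilizer a
  have hXcard : Nat.card (SubMulAction.ofStabilizer G a) + 1 = Fintype.card α := by
    rw [SubMulAction.nat_card_ofStabilizer_add_one_eq G a, Nat.card_eq_fintype_card]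
  obtain ⟨p, j, hp, hj, hXp, N, hNn, htr, hsemi, hexp, hcomm⟩ :=
    exists_kernel_gen h2 (by omega)
  have hpf : Fact p.Prime := ⟨hp⟩
  let o : SubMulAction.ofStabilizer G a := ⟨b, Ne.symm hab⟩
  let _ : CommGroup N :=
    { (inferInstance : Group N) with
      mul_comm := fun x y => Subtype.ext (hcomm x x.2 y y.2) }
  have hexp' : ∀ n : N, n ^ p = 1 := fun n => Subtype.ext (hexp n n.2)
  let ι : ↥(stabilizer G a ⊓ stabilizer G b) →* stabilizer G a :=
    Subgroup.inclusion inf_le_left
  have hι : ∀ g, ((ι g : stabilizer G a) : G) = (g : G) := fun g => rfl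
  let φ : ↥(stabilizer G a ⊓ stabilizer G b) →* MulAut N :=
    (MulAut.conjNormal : stabilizer G a →* MulAut N).comp ι
  have hreg : ∀ n m : N, n ≠ 1 → m ≠ 1 →
      ∃! g : ↥(stabilizer G a ⊓ stabilizer G b), φ g n = m :=
    regular_on_kernel hS3 hab N hsemi ι hι
  -- cardinalities
  have hNcard : Nat.card N = Nat.card (SubMulAction.ofStabilizer G a) := by
    apply Nat.card_congr
    refine Equiv.ofBijective (fun n : N => (n : stabilizer G a) • o) ⟨?_, ?_⟩
    · intro n m hnm
      simp only at hnm
      have h1 : ((m : stabilizer G a)⁻¹ * (n : stabilizer G a)) = 1 := by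
        apply hsemi _ (N.mul_mem (N.inv_mem m.2) n.2) o
        rw [mul_smul, hnm, inv_smul_smul]
      exact Subtype.ext (inv_mul_eq_one.mp h1).symm
    · intro x
      obtain ⟨n, hn, hnx⟩ := htr o x
      exact ⟨⟨n, hn⟩, hnx⟩
  have hNfin : Finite N := inferInstance
  have hnt : Nontrivial N := by
    rw [← Finite.one_lt_card_iff_nontrivial, hNcard]
    omega
  obtain ⟨n₀, hn₀⟩ := exists_ne (1 : N)
  have hHcard : Nat.card ↥(stabilizer G a ⊓ stabilizer G b) + 1 = Nat.card N := by
    rw [← Nat.card_congr (Equiv.optionSubtypeNe (1 : N)), Finite.card_option]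
    congr 1
    apply Nat.card_congr
    refine Equiv.ofBijective
      (fun g => (⟨φ g n₀, fun e => hn₀ ((φ g).injective (e.trans (map_one _).symm))⟩ :
        {x : N // x ≠ 1})) ⟨?_, ?_⟩
    · intro g g' hgg
      have h1 : φ g n₀ = φ g' n₀ := congrArg Subtype.val hgg
      exact (hreg n₀ (φ g' n₀) hn₀
        (fun e => hn₀ ((φ g').injective (e.trans (map_one _).symm)))).unique h1 rfl
    · rintro ⟨m, hm⟩
      obtain ⟨g, hg, -⟩ := hreg n₀ m hn₀ hm
      exact ⟨g, Subtype.ext hg⟩
  have h2H : 2 ∣ Nat.card ↥(stabilizer G a ⊓ stabilizer G b) := by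
    obtain ⟨r, hr⟩ := heven
    omega
  rcases exists_index_two_or_three_of_action p hexp' φ hreg hnt h2H with hM | ⟨x, y, hx, hy, hxy⟩
  · exact hM
  · exfalso
    have hinj : Function.Injective (stabilizer G a ⊓ stabilizer G b).subtype :=
      Subgroup.subtype_injective _
    have hA : (zpowers x).map (stabilizer G a ⊓ stabilizer G b).subtype ≤
        stabilizer G a ⊓ stabilizer G b := Subgroup.map_subtype_le _
    have hB : (zpowers y).map (stabilizer G a ⊓ stabilizer G b).subtype ≤
        stabilizer G a ⊓ stabilizer G b := Subgroup.map_subtype_le _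
    have hA3 : Nat.card ((zpowers x).map (stabilizer G a ⊓ stabilizer G b).subtype) = 3 := by
      rw [Subgroup.card_map_of_injective hinj, Nat.card_zpowers, hx]
    have hB3 : Nat.card ((zpowers y).map (stabilizer G a ⊓ stabilizer G b).subtype) = 3 := by
      rw [Subgroup.card_map_of_injective hinj, Nat.card_zpowers, hy]
    have hAB := Cfsg.Agent.S0728.result heven h6 G h3 hsharp hab _ _ hA hB hA3 hB3
    have := Subgroup.map_injective hinj hAB
    apply hxy
    rw [this]
    exact mem_zpowers y

end perm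

end Cfsg.Agent.Lib.Helper17.Sh3
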