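/-
helper17: sharply 3-transitive groups (Zassenhaus, odd case).  A linear group over the prime
field, regular on the nonzero vectors of a space of odd dimension, with a commutative subgroup of
index two, is commutative.
-/
import Mathlib
import Cfsg.Agent.Lib.Helper17.RegLinField

set_option autoImplicit false

namespace Cfsg.Agent.Lib.Helper17.Sh3

open Cfsg.Agent.Lib.Helper29.RegLin Cfsg.Agent.Lib.Helper17.RegLinField
open scoped IsMulCommutative

section sq

/-- a finite commutative domain of characteristic not two with a nontrivial involutory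
automorphism has square order -/
theorem card_eq_sq_of_involution {E : Type*} [CommRing E] [NoZeroDivisors E] [Finite E]
    (h2 : (2 : E) ≠ 0) (θ : E ≃+* E) (hθ : ∀ x, θ (θ x) = x) (hne : ∃ x, θ x ≠ x) :
    ∃ r : ℕ, Nat.card E = r * r := by
  let E₀ : AddSubgroup E :=
    { carrier := {x | θ x = x}
      zero_mem' := map_zero θ
      add_mem' := by
        intro a b ha hb
        show θ (a + b) = a + b
        rw [map_add, ha, hb]
      neg_mem' := by
        intro a ha
        show θ (-a) = -a
        rw [map_neg, ha] }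
  let E₁ : AddSubgroup E :=
    { carrier := {x | θ x = -x}
      zero_mem' := by show θ 0 = -0; rw [map_zero, neg_zero]
      add_mem' := by
        intro a b ha hb
        show θ (a + b) = -(a + b)
        rw [map_add, ha, hb, neg_add]
      neg_mem' := by
        intro a ha
        show θ (-a) = - -a
        rw [map_neg, ha] }
  have hE₀ : ∀ x, x ∈ E₀ ↔ θ x = x := fun x => Iff.rfl
  have hE₁ : ∀ x, x ∈ E₁ ↔ θ x = -x := fun x => Iff.rfl
  obtain ⟨x₀, hx₀⟩ := hne
  obtain ⟨u, hu⟩ : ∃ u, u = x₀ - θ x₀ := ⟨_, rfl⟩
  have hu0 : u ≠ 0 := by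
    rw [hu]; intro h; exact hx₀ (sub_eq_zero.mp h).symm
  have huθ : θ u = -u := by
    rw [hu, map_sub, hθ]; ring
  have hcard : Nat.card E₀ = Nat.card E₁ := by
    apply le_antisymm
    · apply Nat.card_le_card_of_injective
        (fun a : E₀ => (⟨u * a, by rw [hE₁, map_mul, huθ, (hE₀ _).mp a.2]; ring⟩ : E₁))
      intro a b hab
      have := congrArg Subtype.val hab
      exact Subtype.ext (mul_left_cancel₀ hu0 this)
    · apply Nat.card_le_card_of_injective
        (fun a : E₁ => (⟨u * a, by rw [hE₀, map_mul, huθ, (hE₁ _).mp a.2]; ring⟩ : E₀))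
      intro a b hab
      have := congrArg Subtype.val hab
      exact Subtype.ext (mul_left_cancel₀ hu0 this)
  have two_inj : ∀ x y : E, 2 * x = 2 * y → x = y := fun x y h => mul_left_cancel₀ h2 h
  have hprod : Nat.card E = Nat.card (E₀ × E₁) := by
    apply le_antisymm
    · apply Nat.card_le_card_of_injective
        (fun x : E => ((⟨x + θ x, by rw [hE₀, map_add, hθ]; ring⟩ : E₀),
          (⟨x - θ x, by rw [hE₁, map_sub, hθ]; ring⟩ : E₁)))
      intro x y hxy
      have h1 : x + θ x = y + θ y := congrArg (fun t : E₀ × E₁ => (t.1 : E)) hxy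
      have h3 : x - θ x = y - θ y := congrArg (fun t : E₀ × E₁ => (t.2 : E)) hxy
      apply two_inj
      calc 2 * x = (x + θ x) + (x - θ x) := by ring
        _ = (y + θ y) + (y - θ y) := by rw [h1, h3]
        _ = 2 * y := by ring
    · apply Nat.card_le_card_of_injective (fun t : E₀ × E₁ => (t.1 : E) + (t.2 : E))
      rintro ⟨a, b⟩ ⟨a', b'⟩ hab
      simp only at hab
      have ha := (hE₀ _).mp a.2
      have ha' := (hE₀ _).mp a'.2
      have hb := (hE₁ _).mp b.2
      have hb' := (hE₁ _).mp b'.2
      have h3 := congrArg θ hab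
      rw [map_add, map_add, ha, ha', hb, hb'] at h3
      have e1 : (a : E) = a' := by
        apply two_inj
        calc 2 * (a : E) = ((a : E) + b) + ((a : E) + -b) := by ring
          _ = ((a' : E) + b') + ((a' : E) + -b') := by rw [hab, h3]
          _ = 2 * (a' : E) := by ring
      have e2 : (b : E) = b' := by
        apply two_inj
        calc 2 * (b : E) = ((a : E) + b) - ((a : E) + -b) := by ring
          _ = ((a' : E) + b') - ((a' : E) + -b') := by rw [hab, h3]
          _ = 2 * (b' : E) := by ring
      exact Prod.ext (Subtype.ext e1) (Subtype.ext e2)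
  refine ⟨Nat.card E₀, ?_⟩
  rw [hprod, Nat.card_prod, ← hcard]

end sq

section main
variable {p : ℕ} [Fact p.Prime] {V : Type*} [AddCommGroup V] [Module (ZMod p) V]
variable {H : Subgroup (V ≃ₗ[ZMod p] V)}

/-- conjugation by an element of `H` preserves `F_p[A]` for normal `A` -/
theorem conj_mem_algA (A : Subgroup H) [hAn : A.Normal] (h : H) {x : Module.End (ZMod p) V}
    (hx : x ∈ algA A) :
    LinearEquiv.conjAlgEquiv (ZMod p) (h : V ≃ₗ[ZMod p] V) x ∈ algA A := by
  unfold algA at hx ⊢
  induction hx using Algebra.adjoin_induction with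
  | mem x hx =>
    obtain ⟨a, rfl⟩ := hx
    rw [← toEnd_conj]
    exact Algebra.subset_adjoin ⟨⟨h * a * h⁻¹, hAn.conj_mem a a.2 h⟩, rfl⟩
  | algebraMap r => rw [AlgEquiv.commutes]; exact Subalgebra.algebraMap_mem _ r
  | add y z _ _ hy hz => rw [map_add]; exact add_mem hy hz
  | mul y z _ _ hy hz => rw [map_mul]; exact mul_mem hy hz

/-- evaluation at `v` maps `F_p[A]` onto the orbit span -/
theorem evalAt_surjective (A : Subgroup H) (v : V) : Function.Surjective (evalAt A v) := by
  rintro ⟨w, hw⟩
  have : ∃ x : algA A, (x : Module.End (ZMod p) V) v = w := by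
    unfold Wv at hw
    induction hw using Submodule.span_induction with
    | mem w hw =>
      obtain ⟨a, rfl⟩ := hw
      exact ⟨⟨toEnd H a, toEnd_mem_algA A a⟩, rfl⟩
    | zero => exact ⟨0, by simp⟩
    | add y z _ _ hy hz =>
      obtain ⟨x₁, h₁⟩ := hy
      obtain ⟨x₂, h₂⟩ := hz
      exact ⟨x₁ + x₂, by rw [← h₁, ← h₂]; simp⟩
    | smul c y _ hy =>
      obtain ⟨x₁, h₁⟩ := hy
      exact ⟨c • x₁, by rw [← h₁]; simp⟩
  obtain ⟨x, hx⟩ := this
  exact ⟨x, Subtype.ext hx⟩

variable [Finite V]

/-- **commutativity**: odd dimension and a commutative subgroup of index two -/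
theorem comm_of_index_two_odd (hreg : ∀ v w : V, v ≠ 0 → w ≠ 0 → ∃! h : H, h • v = w)
    (A : Subgroup H) (hA2 : A.index = 2) (hAc : ∀ a b : A, a * b = b * a) (hp2 : p ≠ 2)
    {f : ℕ} (hf : Odd f) (hV : Nat.card V = p ^ f) : ∀ x y : H, x * y = y * x := by
  classical
  have hpp : p.Prime := Fact.out
  have : Finite (V ≃ₗ[ZMod p] V) :=
    Finite.of_injective (fun f => (f : V → V)) DFunLike.coe_injective
  have : Finite (Module.End (ZMod p) V) :=
    Finite.of_injective (fun f => (f : V → V)) DFunLike.coe_injective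
  have hAn : A.Normal := Subgroup.normal_of_index_eq_two hA2
  have hnt : Nontrivial V := by
    rw [← Finite.one_lt_card_iff_nontrivial, hV]
    obtain ⟨k, rfl⟩ := hf
    calc 1 < p := hpp.one_lt
      _ = p ^ 1 := (pow_one p).symm
      _ ≤ p ^ (2 * k + 1) := Nat.pow_le_pow_right hpp.pos (by omega)
  obtain ⟨v, hv⟩ := exists_ne (0 : V)
  have hcomm := isMulCommutative_algA A hAc
  have hnzd := noZeroDivisors_algA hreg A hAc hv
  have hntE := nontrivial_algA A hv
  -- the orbit span is everything
  have hHcard : Nat.card H + 1 = Nat.card V := card_H_add_one hreg hv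
  have hAcard : Nat.card A * 2 = Nat.card H := by rw [← hA2]; exact A.card_mul_index
  have hWtop : Wv A v = ⊤ := by
    apply submodule_eq_of_le_of_card_ge le_top
    have h1 := card_dvd_card_Wv_sub_one hreg A (v := v)
    have hWpos : 2 ≤ Nat.card (Wv A v) := by
      have : Nontrivial (Wv A v) :=
        ⟨⟨⟨v, mem_Wv_self A v⟩, 0, fun h => hv (congrArg Subtype.val h)⟩⟩
      exact Finite.one_lt_card
    have hle : Nat.card A ≤ Nat.card (Wv A v) - 1 := Nat.le_of_dvd (by omega) h1
    have hdvd : Nat.card (Wv A v) ∣ Nat.card V := by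
      have := AddSubgroup.card_addSubgroup_dvd_card (Wv A v).toAddSubgroup
      exact this
    obtain ⟨m, hm⟩ := hdvd
    have hVodd : Odd (Nat.card V) := by
      rw [hV]
      exact Odd.pow (hpp.odd_of_ne_two hp2)
    have hm1 : m = 1 := by
      by_contra hne
      have hm0 : m ≠ 0 := by
        rintro rfl
        rw [mul_zero] at hm
        rw [hm] at hHcard
        omega
      have hm2 : m ≠ 2 := by
        rintro rfl
        rw [hm] at hVodd
        exact (Nat.not_even_iff_odd.mpr hVodd) ⟨Nat.card (Wv A v), by ring⟩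
      have hm3 : 3 ≤ m := by omega
      have : Nat.card (Wv A v) * 3 ≤ Nat.card V := by
        rw [hm]; exact Nat.mul_le_mul_left _ hm3
      omega
    rw [hm1, mul_one] at hm
    rw [Nat.card_congr (Submodule.topEquiv (R := ZMod p) (M := V)).toEquiv, hm]
  have hEcard : Nat.card (algA A) = Nat.card V := by
    have hbij : Function.Bijective (evalAt A v) :=
      ⟨evalAt_injective hreg A hAc hv, evalAt_surjective A v⟩
    rw [Nat.card_congr (Equiv.ofBijective _ hbij), hWtop]
    exact Nat.card_congr (Submodule.topEquiv (R := ZMod p) (M := V)).toEquiv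
  -- every element of `H` centralizes `A`
  have key : ∀ h : H, ∀ a : A, h * (a : H) * h⁻¹ = a := by
    intro h a₁
    by_contra hcon
    have hhh : h * h ∈ A := by
      rw [Subgroup.mul_mem_iff_of_index_two hA2]
    let c := LinearEquiv.conjAlgEquiv (ZMod p) (h : V ≃ₗ[ZMod p] V)
    have hcc : ∀ x ∈ algA A, c (c x) = x := by
      intro x hx
      apply LinearMap.ext
      intro w
      have h1 := commute_algA A hAc (toEnd_mem_algA A ⟨h * h, hhh⟩) hx
      have h2 := congrArg (fun g : Module.End (ZMod p) V =>
        g ((h : V ≃ₗ[ZMod p] V).symm ((h : V ≃ₗ[ZMod p] V).symm w))) h1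
      simp only [Module.End.mul_apply] at h2
      have h3 : ∀ y : V, toEnd H (⟨h * h, hhh⟩ : A) y =
          (h : V ≃ₗ[ZMod p] V) ((h : V ≃ₗ[ZMod p] V) y) := fun y => rfl
      rw [h3, h3, LinearEquiv.apply_symm_apply, LinearEquiv.apply_symm_apply] at h2
      show (h : V ≃ₗ[ZMod p] V) ((h : V ≃ₗ[ZMod p] V)
        (x ((h : V ≃ₗ[ZMod p] V).symm ((h : V ≃ₗ[ZMod p] V).symm w)))) = x w
      exact h2
    let θ : algA A ≃+* algA A :=
      { toFun := fun x => ⟨c x, conj_mem_algA A h x.2⟩
        invFun := fun x => ⟨c x, conj_mem_algA A h x.2⟩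
        left_inv := fun x => Subtype.ext (hcc x x.2)
        right_inv := fun x => Subtype.ext (hcc x x.2)
        map_mul' := fun x y => Subtype.ext (map_mul c (x : Module.End (ZMod p) V) y)
        map_add' := fun x y => Subtype.ext (map_add c (x : Module.End (ZMod p) V) y) }
    have hθ : ∀ x, θ (θ x) = x := fun x => Subtype.ext (hcc x x.2)
    have hne : ∃ x, θ x ≠ x := by
      refine ⟨⟨toEnd H a₁, toEnd_mem_algA A a₁⟩, ?_⟩
      intro he
      apply hcon
      have h1 : c (toEnd H a₁) = toEnd H a₁ := congrArg Subtype.val he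
      rw [← toEnd_conj] at h1
      exact toEnd_injective h1
    have h2E : (2 : algA A) ≠ 0 := by
      intro h0
      have h1 : ((2 : algA A) : Module.End (ZMod p) V) v = 0 := by rw [h0]; rfl
      have h3 : ((2 : algA A) : Module.End (ZMod p) V) v = (2 : ZMod p) • v := by
        have : ((2 : algA A) : Module.End (ZMod p) V) = 2 := rfl
        rw [this, two_smul]
        show (2 : Module.End (ZMod p) V) v = v + v
        rw [show (2 : Module.End (ZMod p) V) = 1 + 1 by norm_num, LinearMap.add_apply,
          Module.End.one_apply]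
      rw [h3, smul_eq_zero] at h1
      rcases h1 with h1 | h1
      · have : ((2 : ℕ) : ZMod p) = 0 := by exact_mod_cast h1
        rw [ZMod.natCast_eq_zero_iff] at this
        have := (Nat.prime_dvd_prime_iff_eq hpp Nat.prime_two).mp this
        exact hp2 this
      · exact hv h1
    obtain ⟨r, hr⟩ := card_eq_sq_of_involution h2E θ hθ hne
    rw [hEcard, hV] at hr
    -- `p ^ f` is not a square for odd `f`
    obtain ⟨k, rfl⟩ := hf
    have h5 := congrArg (fun n => n.factorization p) hr
    simp only [Nat.factorization_pow, Nat.Prime.factorization_self hpp,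
      Finsupp.smul_apply, smul_eq_mul, mul_one] at h5
    have hr0 : r ≠ 0 := by
      rintro rfl
      rw [mul_zero] at hr
      exact absurd hr (pow_ne_zero _ hpp.ne_zero)
    rw [Nat.factorization_mul hr0 hr0, Finsupp.add_apply] at h5
    omega
  intro x y
  have hcent : ∀ h : H, ∀ a ∈ A, h * a = a * h := by
    intro h a ha
    have := key h ⟨a, ha⟩
    calc h * a = (h * a * h⁻¹) * h := by group
      _ = a * h := by rw [this]
  by_cases hx : x ∈ A
  · exact (hcent y x hx).symm
  · by_cases hy : y ∈ A
    · exact hcent x y hy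
    · have hxy : x⁻¹ * y ∈ A := by
        rw [Subgroup.mul_mem_iff_of_index_two hA2, inv_mem_iff]
        exact ⟨fun h => absurd h hx, fun h => absurd h hy⟩
      have h1 := hcent x _ hxy
      calc x * y = x * (x * (x⁻¹ * y)) := by group
        _ = x * ((x⁻¹ * y) * x) := by rw [h1]
        _ = y * x := by group

end main

end Cfsg.Agent.Lib.Helper17.Sh3
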