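/-
helper17: sharply 3-transitive groups (Zassenhaus, odd case).  An involutory automorphism with at
most two fixed points inverts an invariant subgroup of index two; commutativity in odd dimension,
abstract form.
-/
import Mathlib
import Cfsg.Agent.Lib.Helper17.Sh3E
import Cfsg.Agent.Lib.Helper17.Sh3G

set_option autoImplicit false

namespace Cfsg.Agent.Lib.Helper17.Sh3

open Subgroup

section inv
variable {X : Type*} [Group X] [Finite X]

/-- an involutory automorphism with at most two fixed points inverts every element of an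
invariant subgroup of index two -/
theorem inverts_of_index_two (σ : X ≃* X) (hσ : ∀ x, σ (σ x) = x)
    (N₀ : Subgroup X) (hN₀ : N₀.index = 2) (hinv : ∀ n ∈ N₀, σ n ∈ N₀) (z : X)
    (hfix : ∀ x, σ x = x → x = 1 ∨ x = z) : ∀ n ∈ N₀, σ n = n⁻¹ := by
  classical
  let _ : Fintype X := Fintype.ofFinite X
  have hψmem : ∀ x, σ x * x⁻¹ ∈ N₀ := by
    intro x
    rw [Subgroup.mul_mem_iff_of_index_two hN₀, inv_mem_iff]
    constructor
    · intro h
      have := hinv _ h
      rwa [hσ] at this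
    · exact hinv x
  have hψinv : ∀ x, σ (σ x * x⁻¹) = (σ x * x⁻¹)⁻¹ := by
    intro x
    rw [map_mul, hσ, map_inv, mul_inv_rev, inv_inv]
  obtain ⟨S, hS⟩ : ∃ S : Finset X, S = Finset.univ.image (fun x => σ x * x⁻¹) := ⟨_, rfl⟩
  have hfib : ∀ a ∈ Finset.univ.image (fun x => σ x * x⁻¹),
      (Finset.univ.filter (fun x => σ x * x⁻¹ = a)).card ≤ 2 := by
    intro a ha
    obtain ⟨k, -, rfl⟩ := Finset.mem_image.mp ha
    have hsub : Finset.univ.filter (fun x => σ x * x⁻¹ = σ k * k⁻¹) ⊆ {k, k * z} := by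
      intro x hx
      rw [Finset.mem_filter] at hx
      have h1 : σ (k⁻¹ * x) = k⁻¹ * x := by
        rw [map_mul, map_inv]
        have := hx.2
        calc (σ k)⁻¹ * σ x = (σ k)⁻¹ * (σ x * x⁻¹) * x := by group
          _ = (σ k)⁻¹ * (σ k * k⁻¹) * x := by rw [this]
          _ = k⁻¹ * x := by group
      rcases hfix _ h1 with h2 | h2
      · rw [Finset.mem_insert]; left; exact (inv_mul_eq_one.mp h2).symm
      · rw [Finset.mem_insert, Finset.mem_singleton]; right; rw [← h2]; group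
    exact (Finset.card_le_card hsub).trans Finset.card_le_two
  have h1 := Finset.card_le_mul_card_image (Finset.univ : Finset X) 2 hfib
  rw [← hS] at h1
  obtain ⟨T, hT⟩ : ∃ T : Finset X, T = Finset.univ.filter (· ∈ N₀) := ⟨_, rfl⟩
  have hTcard : T.card = Nat.card N₀ := by
    rw [hT, Nat.card_eq_fintype_card, Fintype.card_subtype]
  have hXcard : Nat.card N₀ * 2 = (Finset.univ : Finset X).card := by
    rw [Finset.card_univ, ← Nat.card_eq_fintype_card, ← hN₀]
    exact N₀.card_mul_index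
  have hST : S ⊆ T := by
    intro a ha
    rw [hS] at ha
    obtain ⟨x, -, rfl⟩ := Finset.mem_image.mp ha
    rw [hT, Finset.mem_filter]
    exact ⟨Finset.mem_univ _, hψmem x⟩
  intro n hn
  have hnS : n ∈ S := by
    by_contra hnS
    have hsub : S ⊆ T.erase n := by
      intro a ha
      rw [Finset.mem_erase]
      exact ⟨fun e => hnS (e ▸ ha), hST ha⟩
    have hnT : n ∈ T := by rw [hT, Finset.mem_filter]; exact ⟨Finset.mem_univ _, hn⟩
    have h2 := Finset.card_le_card hsub
    rw [Finset.card_erase_of_mem hnT] at h2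
    have hTpos : 0 < T.card := Finset.card_pos.mpr ⟨n, hnT⟩
    omega
  rw [hS] at hnS
  obtain ⟨x, -, rfl⟩ := Finset.mem_image.mp hnS
  exact hψinv x

omit [Finite X] in
/-- a group inverted elementwise by an automorphism is commutative -/
theorem comm_of_inverted (σ : X ≃* X) (N₀ : Subgroup X) (h : ∀ n ∈ N₀, σ n = n⁻¹) :
    ∀ a ∈ N₀, ∀ b ∈ N₀, a * b = b * a := by
  intro a ha b hb
  have h1 := h (a * b) (N₀.mul_mem ha hb)
  rw [map_mul, h a ha, h b hb, mul_inv_rev] at h1
  have h2 := congrArg (fun t => t⁻¹) h1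
  simp only [mul_inv_rev, inv_inv] at h2
  exact h2.symm

end inv

section lin
variable {Hh : Type*} [Group Hh] {Nn : Type*} [CommGroup Nn] (p : ℕ) [Fact p.Prime]

/-- **commutativity**, abstract form -/
theorem comm_of_action [Finite Hh] [Finite Nn]
    (hexp : ∀ n : Nn, n ^ p = 1) (φ : Hh →* MulAut Nn)
    (hreg : ∀ n m : Nn, n ≠ 1 → m ≠ 1 → ∃! h : Hh, φ h n = m) (hnt : Nontrivial Nn)
    (hp2 : p ≠ 2) {f : ℕ} (hf : Odd f) (hN : Nat.card Nn = p ^ f)
    (N₀ : Subgroup Hh) (hN₀ : N₀.index = 2) (hc : ∀ a ∈ N₀, ∀ b ∈ N₀, a * b = b * a) :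
    ∀ x y : Hh, x * y = y * x := by
  have : Module (ZMod p) (Additive Nn) := zmodInst p hexp
  obtain ⟨n₀, hn₀⟩ := exists_ne (1 : Nn)
  obtain ⟨ρ, hρdef⟩ : ∃ ρ : Hh →* (Additive Nn ≃ₗ[ZMod p] Additive Nn), ρ = linRep p φ :=
    ⟨_, rfl⟩
  have hρa : ∀ (h : Hh) (x : Additive Nn), ρ h x = Additive.ofMul (φ h (Additive.toMul x)) := by
    intro h x; rw [hρdef]; rfl
  have hρinj : Function.Injective ρ := by
    rw [injective_iff_map_eq_one]
    intro h hh
    have h1 : φ h n₀ = n₀ := by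
      have := hρa h (Additive.ofMul n₀)
      rw [hh] at this
      exact (Additive.ofMul.injective this).symm
    have h2' : φ 1 n₀ = n₀ := by rw [map_one]; rfl
    exact (hreg n₀ n₀ hn₀ hn₀).unique h1 h2'
  have hfin : Finite (Additive Nn) := ‹Finite Nn›
  have hregV : ∀ v w : Additive Nn, v ≠ 0 → w ≠ 0 →
      ∃! h : ρ.range, ((h : Additive Nn ≃ₗ[ZMod p] Additive Nn)) v = w := by
    intro v w hv hw
    have hv' : Additive.toMul v ≠ 1 := fun e => hv (Additive.toMul.injective e)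
    have hw' : Additive.toMul w ≠ 1 := fun e => hw (Additive.toMul.injective e)
    obtain ⟨h, hh, huniq⟩ := hreg _ _ hv' hw'
    refine ⟨⟨ρ h, ⟨h, rfl⟩⟩, ?_, ?_⟩
    · show ρ h v = w
      rw [hρa, hh]; rfl
    · rintro ⟨_, ⟨h', rfl⟩⟩ hh'
      have h3 : ρ h' v = w := hh'
      rw [hρa] at h3
      have h4 : φ h' (Additive.toMul v) = Additive.toMul w := Additive.ofMul.injective h3
      have := huniq h' h4
      apply Subtype.ext
      show ρ h' = ρ h
      rw [this]
  have hregV' : ∀ v w : Additive Nn, v ≠ 0 → w ≠ 0 → ∃! h : ρ.range, h • v = w := hregV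
  let e : Hh ≃* ρ.range := MonoidHom.ofInjective hρinj
  have hA2 : (N₀.map (e : Hh →* ρ.range)).index = 2 := by
    rw [Subgroup.index_map_equiv]; exact hN₀
  have hAc : ∀ a b : (N₀.map (e : Hh →* ρ.range)), a * b = b * a := by
    rintro ⟨_, ⟨a, ha, rfl⟩⟩ ⟨_, ⟨b, hb, rfl⟩⟩
    apply Subtype.ext
    show (e : Hh →* ρ.range) a * (e : Hh →* ρ.range) b = (e : Hh →* ρ.range) b * (e : Hh →* ρ.range) a
    rw [← map_mul, ← map_mul, hc a ha b hb]
  have hV : Nat.card (Additive Nn) = p ^ f := hN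
  have hcomm := comm_of_index_two_odd hregV' (N₀.map (e : Hh →* ρ.range)) hA2 hAc hp2 hf hV
  intro x y
  apply e.injective
  rw [map_mul, map_mul]
  exact hcomm (e x) (e y)

end lin

end Cfsg.Agent.Lib.Helper17.Sh3
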