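/-
helper17: sharply 3-transitive groups (Zassenhaus, odd case).  The two-point stabilizer of a
sharply 3-transitive group of degree `p ^ f + 1`, `p` and `f` odd, is commutative.
-/
import Mathlib
import Cfsg.Agent.Lib.Helper17.Sh3F
import Cfsg.Agent.Lib.Helper17.Sh3H

set_option autoImplicit false

namespace Cfsg.Agent.Lib.Helper17.Sh3

open Subgroup MulAction Cfsg.Agent.Lib.Helper9

section data
variable {G α : Type*} [Group G] [MulAction G α] [Finite α]

/-- the kernel of the one-point stabilizer with the regular action of the two-point stabilizer -/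
theorem exists_kernel_data (h : Sharp3 G α) (h3 : 3 ≤ Nat.card α) {a b : α} (hab : a ≠ b) :
    ∃ p j : ℕ, p.Prime ∧ 1 ≤ j ∧ Nat.card α = p ^ j + 1 ∧
      ∃ (N : Subgroup (stabilizer G a)) (_ : N.Normal), (∀ x y : N, x * y = y * x) ∧
        (∀ n : N, n ^ p = 1) ∧ Nat.card N = p ^ j ∧
        Nat.card ↥(stabilizer G a ⊓ stabilizer G b) + 1 = Nat.card N ∧
        ∀ n m : N, n ≠ 1 → m ≠ 1 → ∃! g : ↥(stabilizer G a ⊓ stabilizer G b),
          (MulAut.conjNormal (Subgroup.inclusion inf_le_left g : stabilizer G a) : MulAut N) n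
            = m := by
  have h2 := h.sharp2_stabilizer a
  have hXcard : Nat.card (SubMulAction.ofStabilizer G a) + 1 = Nat.card α :=
    SubMulAction.nat_card_ofStabilizer_add_one_eq G a
  obtain ⟨p, j, hp, hj, hXp, N, hNn, htr, hsemi, hexp, hcomm⟩ :=
    exists_kernel_gen h2 (by omega)
  classical
  let o : SubMulAction.ofStabilizer G a := ⟨b, Ne.symm hab⟩
  have hfinK : Finite (stabilizer G a) := by
    have : 1 < Nat.card (SubMulAction.ofStabilizer G a) := by omega
    rw [Finite.one_lt_card_iff_nontrivial] at this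
    obtain ⟨x, y, hxy⟩ := this
    exact h2.finite_group hxy
  have hNcard : Nat.card N = Nat.card (SubMulAction.ofStabilizer G a) := by
    apply Nat.card_congr
    refine Equiv.ofBijective (fun n : N => (n : stabilizer G a) • o) ⟨?_, ?_⟩
    · intro n m hnm
      simp only at hnm
      have h1 : ((m : stabilizer G a)⁻¹ * (n : stabilizer G a)) = 1 := by
        apply hsemi _ (N.mul_mem (N.inv_mem m.2) n.2) o
        rw [mul_smul, hnm, inv_smul_smul]
      exact Subtype.ext (inv_mul_eq_one.mp h1).symm
    · intro x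
      obtain ⟨n, hn, hnx⟩ := htr o x
      exact ⟨⟨n, hn⟩, hnx⟩
  have hreg := regular_on_kernel h hab N hsemi (Subgroup.inclusion inf_le_left) (fun g => rfl)
  have hNfin : Finite N := inferInstance
  have hnt : Nontrivial N := by
    rw [← Finite.one_lt_card_iff_nontrivial, hNcard]
    omega
  obtain ⟨n₀, hn₀⟩ := exists_ne (1 : N)
  refine ⟨p, j, hp, hj, by omega, N, hNn, fun x y => Subtype.ext (hcomm x x.2 y y.2),
    fun n => Subtype.ext (hexp n n.2), by rw [hNcard, hXp], ?_, hreg⟩
  let φ : ↥(stabilizer G a ⊓ stabilizer G b) →* MulAut N :=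
    (MulAut.conjNormal : stabilizer G a →* MulAut N).comp (Subgroup.inclusion inf_le_left)
  have hreg' : ∀ n m : N, n ≠ 1 → m ≠ 1 →
      ∃! g : ↥(stabilizer G a ⊓ stabilizer G b), φ g n = m := hreg
  rw [← Nat.card_congr (Equiv.optionSubtypeNe (1 : N)), Finite.card_option]
  congr 1
  apply Nat.card_congr
  refine Equiv.ofBijective
    (fun g => (⟨φ g n₀, fun e => hn₀ ((φ g).injective (e.trans (map_one _).symm))⟩ :
      {x : N // x ≠ 1})) ⟨?_, ?_⟩
  · intro g g' hgg
    have h1 : φ g n₀ = φ g' n₀ := congrArg Subtype.val hgg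
    exact (hreg' n₀ (φ g' n₀) hn₀
      (fun e => hn₀ ((φ g').injective (e.trans (map_one _).symm)))).unique h1 rfl
  · rintro ⟨m, hm⟩
    obtain ⟨g, hg, -⟩ := hreg' n₀ m hn₀ hm
    exact ⟨g, Subtype.ext hg⟩

end data

section perm
variable {α : Type*} [Fintype α] [DecidableEq α]

/-- the two-point stabilizer is commutative when `p` and `f` are odd -/
theorem stab_comm {p f : ℕ} (hp : p.Prime) (hp2 : p ≠ 2) (hfo : Odd f)
    (hα : Fintype.card α = p ^ f + 1) (G : Subgroup (Equiv.Perm α))
    (h3 : MulAction.IsMultiplyPretransitive G α 3)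
    (hsharp : ∀ x : Fin 3 ↪ α, MulAction.stabilizer G x = ⊥) {a b c : α} (hab : a ≠ b)
    (hac : a ≠ c) (hbc : b ≠ c) :
    ∀ x y : ↥(stabilizer G a ⊓ stabilizer G b), x * y = y * x := by
  have hS3 : Sharp3 G α := sharp3_of_isMultiplyPretransitive h3 hsharp
  have hf1 : 1 ≤ f := by obtain ⟨k, rfl⟩ := hfo; omega
  have hq3 : 3 ≤ p ^ f := by
    have h1 : 3 ≤ p := by
      have := hp.two_le
      omega
    calc 3 ≤ p := h1
      _ = p ^ 1 := (pow_one p).symm
      _ ≤ p ^ f := Nat.pow_le_pow_right hp.pos hf1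
  have hodd : Odd (p ^ f) := Odd.pow (hp.odd_of_ne_two hp2)
  obtain ⟨p', j, hp', hj, hcard, N, hNn, hNc, hNe, hNcard, hHcard, hreg⟩ :=
    exists_kernel_data hS3 (by rw [Nat.card_eq_fintype_card]; omega) hab
  rw [Nat.card_eq_fintype_card, hα] at hcard
  have hpj : p ^ f = p' ^ j := by omega
  -- the primes and exponents agree
  have hpp' : p = p' := by
    have h1 : p ∣ p' ^ j := by rw [← hpj]; exact dvd_pow_self p (by omega)
    exact (Nat.prime_dvd_prime_iff_eq hp hp').mp (hp.dvd_of_dvd_pow h1)
  subst hpp'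
  have hfj : f = j := Nat.pow_right_injective hp.two_le hpj
  subst hfj
  have hpf : Fact p.Prime := ⟨hp⟩
  let _ : CommGroup N := { (inferInstance : Group N) with mul_comm := hNc }
  let φ : ↥(stabilizer G a ⊓ stabilizer G b) →* MulAut N :=
    (MulAut.conjNormal : stabilizer G a →* MulAut N).comp (Subgroup.inclusion inf_le_left)
  have hreg' : ∀ n m : N, n ≠ 1 → m ≠ 1 →
      ∃! g : ↥(stabilizer G a ⊓ stabilizer G b), φ g n = m := hreg
  have hnt : Nontrivial N := by
    rw [← Finite.one_lt_card_iff_nontrivial, hNcard]; omega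
  by_cases h6 : 6 ≤ Fintype.card α
  · -- the general case
    have heven : Even (Fintype.card α) := by
      rw [hα]; exact Odd.add_one hodd
    -- the involution `t`
    obtain ⟨t, hta, htb, htc⟩ := hS3.ex hab hac hbc (Ne.symm hab) hbc hac
    have htt : t * t = 1 := by
      apply hS3.uniq hab hac hbc
      · rw [mul_smul, hta, htb]
      · rw [mul_smul, htb, hta]
      · rw [mul_smul, htc, htc]
    have htinv : t⁻¹ = t := inv_eq_of_mul_eq_one_right htt
    have ht1 : t ≠ 1 := by
      rintro rfl
      rw [one_smul] at hta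
      exact hab hta
    have hnorm : ∀ h ∈ stabilizer G a ⊓ stabilizer G b,
        t * h * t⁻¹ ∈ stabilizer G a ⊓ stabilizer G b := by
      intro h hh
      obtain ⟨ha, hb⟩ := Subgroup.mem_inf.mp hh
      rw [MulAction.mem_stabilizer_iff] at ha hb
      rw [htinv]
      refine Subgroup.mem_inf.mpr ⟨?_, ?_⟩
      · rw [MulAction.mem_stabilizer_iff, mul_smul, mul_smul, hta, hb, htb]
      · rw [MulAction.mem_stabilizer_iff, mul_smul, mul_smul, htb, ha, hta]
    have hσσ : ∀ h : G, t * (t * h * t⁻¹) * t⁻¹ = h := by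
      intro h
      rw [htinv]
      calc t * (t * h * t) * t = (t * t) * h * (t * t) := by group
        _ = h := by rw [htt, one_mul, mul_one]
    let σ : ↥(stabilizer G a ⊓ stabilizer G b) ≃* ↥(stabilizer G a ⊓ stabilizer G b) :=
      { toFun := fun h => ⟨t * h * t⁻¹, hnorm h h.2⟩
        invFun := fun h => ⟨t * h * t⁻¹, hnorm h h.2⟩
        left_inv := fun h => Subtype.ext (hσσ h)
        right_inv := fun h => Subtype.ext (hσσ h)
        map_mul' := by
          intro h k
          apply Subtype.ext
          show t * ((h : G) * (k : G)) * t⁻¹ = (t * (h : G) * t⁻¹) * (t * (k : G) * t⁻¹)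
          group }
    have hσ : ∀ x, σ (σ x) = x := fun h => Subtype.ext (hσσ h)
    obtain ⟨N₀, hN₀, hN₀σ⟩ := exists_invariant_index_two σ hσ
      (exists_index_two_stab heven h6 G h3 hsharp hab)
    -- fixed points of `σ`
    have hfixc : ∀ x : ↥(stabilizer G a ⊓ stabilizer G b), σ x = x → t • ((x : G) • c) = (x : G) • c := by
      intro x hx
      have h1 : t * (x : G) * t⁻¹ = x := congrArg Subtype.val hx
      have h2 : t * (x : G) = (x : G) * t := by
        calc t * (x : G) = (t * (x : G) * t⁻¹) * t := by group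
          _ = (x : G) * t := by rw [h1]
      rw [← mul_smul, h2, mul_smul, htc]
    have hxeq : ∀ x y : ↥(stabilizer G a ⊓ stabilizer G b), (x : G) • c = (y : G) • c → x = y := by
      intro x y hxy
      apply Subtype.ext
      have hx := Subgroup.mem_inf.mp x.2
      have hy := Subgroup.mem_inf.mp y.2
      apply hS3.eq_of_three hab hac hbc
      · rw [MulAction.mem_stabilizer_iff.mp hx.1, MulAction.mem_stabilizer_iff.mp hy.1]
      · rw [MulAction.mem_stabilizer_iff.mp hx.2, MulAction.mem_stabilizer_iff.mp hy.2]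
      · exact hxy
    have hfix : ∃ z : ↥(stabilizer G a ⊓ stabilizer G b), ∀ x, σ x = x → x = 1 ∨ x = z := by
      by_cases hw : ∃ z : ↥(stabilizer G a ⊓ stabilizer G b), σ z = z ∧ z ≠ 1
      · obtain ⟨z, hz, hz1⟩ := hw
        refine ⟨z, fun x hx => ?_⟩
        by_contra hcon
        push Not at hcon
        -- three fixed points of `t`
        have hzc : (z : G) • c ≠ c := by
          intro e
          apply hz1
          apply hxeq
          rw [e]; exact (one_smul _ _).symm
        have hxc : (x : G) • c ≠ c := by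
          intro e
          apply hcon.1
          apply hxeq
          rw [e]; exact (one_smul _ _).symm
        have hxz : (x : G) • c ≠ (z : G) • c := fun e => hcon.2 (hxeq x z e)
        exact ht1 (hS3.uniq (Ne.symm hxc) (Ne.symm hzc) hxz htc (hfixc x hx) (hfixc z hz))
      · push Not at hw
        refine ⟨1, fun x hx => ?_⟩
        left
        by_contra hx1
        exact hx1 (hw x hx)
    obtain ⟨z, hz⟩ := hfix
    have hinv := inverts_of_index_two σ hσ N₀ hN₀ hN₀σ z hz
    have hN₀c := comm_of_inverted σ N₀ hinv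
    exact comm_of_action p hNe φ hreg' hnt hp2 hfo hNcard N₀ hN₀ hN₀c
  · -- degree four: the stabilizer has order two
    have hq : p ^ f = 3 := by
      obtain ⟨k, hk⟩ := hodd
      rw [hk] at hq3 hα
      rw [hk]
      omega
    have h2 : Nat.card ↥(stabilizer G a ⊓ stabilizer G b) = 2 := by
      rw [hNcard, hq] at hHcard
      omega
    have : Fact (Nat.Prime 2) := ⟨Nat.prime_two⟩
    have hcyc : IsCyclic ↥(stabilizer G a ⊓ stabilizer G b) := isCyclic_of_prime_card h2
    intro x y
    let _ := IsCyclic.commGroup (α := ↥(stabilizer G a ⊓ stabilizer G b))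
    exact mul_comm x y

end perm

end Cfsg.Agent.Lib.Helper17.Sh3
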