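/-
helper17: sharply 3-transitive groups (Zassenhaus, odd case).  The Kerby–Tits identity forces an
involutory multiplicative map of a field with fixed points `±1` to be the inversion.
-/
import Mathlib

set_option autoImplicit false

namespace Cfsg.Agent.Lib.Helper17.Sh3

/-- an involutory multiplicative map `τ` with `τ (τ x + 1) = 1 - τ (x + 1)` and fixed points
`±1` only is the inversion -/
theorem inv_of_kt {F : Type*} [Field F] (h2 : (2 : F) ≠ 0) (τ : F → F)
    (hmul : ∀ x y : F, x ≠ 0 → y ≠ 0 → τ (x * y) = τ x * τ y)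
    (hne : ∀ x : F, x ≠ 0 → τ x ≠ 0)
    (hinvol : ∀ x : F, x ≠ 0 → τ (τ x) = x)
    (hfix : ∀ x : F, x ≠ 0 → τ x = x → x = 1 ∨ x = -1)
    (hkt : ∀ x : F, x ≠ 0 → x ≠ -1 → τ (τ x + 1) = 1 - τ (x + 1)) :
    ∀ x : F, x ≠ 0 → τ x = x⁻¹ := by
  have h11 : (1 : F) ≠ -1 := by
    intro h
    apply h2
    have : (2 : F) = 1 + 1 := by norm_num
    rw [this]
    nth_rewrite 2 [h]
    ring
  have hτ1 : τ 1 = 1 := by
    have h1 := hmul 1 1 one_ne_zero one_ne_zero
    rw [mul_one] at h1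
    have h3 := hne 1 one_ne_zero
    have : τ 1 * (τ 1 - 1) = 0 := by
      rw [mul_sub, mul_one, ← h1, sub_self]
    rcases mul_eq_zero.mp this with h | h
    · exact absurd h h3
    · exact sub_eq_zero.mp h
  have hm1 : (-1 : F) ≠ 0 := neg_ne_zero.mpr one_ne_zero
  have hτm1 : τ (-1) = -1 := by
    have h1 := hmul (-1) (-1) hm1 hm1
    rw [neg_mul_neg, mul_one, hτ1] at h1
    have h3 : (τ (-1) - 1) * (τ (-1) + 1) = 0 := by
      have : (τ (-1) - 1) * (τ (-1) + 1) = τ (-1) * τ (-1) - 1 := by ring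
      rw [this, ← h1, sub_self]
    rcases mul_eq_zero.mp h3 with h | h
    · exfalso
      have h4 : τ (-1) = 1 := sub_eq_zero.mp h
      have h5 := hinvol (-1) hm1
      rw [h4, hτ1] at h5
      exact h11 h5
    · exact eq_neg_of_add_eq_zero_left h
  -- the sign character
  obtain ⟨u, hu⟩ : ∃ u : F → F, u = fun x => τ x * x := ⟨_, rfl⟩
  have hux : ∀ x, u x = τ x * x := fun x => by rw [hu]
  have hu0 : ∀ x, x ≠ 0 → u x ≠ 0 := fun x hx => by
    rw [hux]; exact mul_ne_zero (hne x hx) hx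
  have hupm : ∀ x, x ≠ 0 → u x = 1 ∨ u x = -1 := by
    intro x hx
    apply hfix _ (hu0 x hx)
    rw [hux, hmul _ _ (hne x hx) hx, hinvol x hx, mul_comm]
  have humul : ∀ x y, x ≠ 0 → y ≠ 0 → u (x * y) = u x * u y := by
    intro x y hx hy
    rw [hux, hux, hux, hmul x y hx hy]; ring
  have hu1 : u 1 = 1 := by rw [hux, hτ1, mul_one]
  have hum1 : u (-1) = 1 := by rw [hux, hτm1]; ring
  have huinv : ∀ x, x ≠ 0 → u x⁻¹ * u x = 1 := by
    intro x hx
    rw [← humul _ _ (inv_ne_zero hx) hx, inv_mul_cancel₀ hx, hu1]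
  have hτ_of_u : ∀ x, x ≠ 0 → u x = 1 → τ x = x⁻¹ := by
    intro x hx h
    rw [hux] at h
    exact eq_inv_of_mul_eq_one_left h
  by_contra hcon
  push Not at hcon
  obtain ⟨x₀, hx₀, hx₀τ⟩ := hcon
  have hux₀ : u x₀ = -1 := by
    rcases hupm x₀ hx₀ with h | h
    · exact absurd (hτ_of_u x₀ hx₀ h) hx₀τ
    · exact h
  have hux₀inv : u x₀⁻¹ = -1 := by
    have := huinv x₀ hx₀
    rw [hux₀] at this
    have h3 : u x₀⁻¹ = -(u x₀⁻¹ * -1) := by ring
    rw [h3, this]
  -- the key element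
  have hkey : ∃ x : F, x ≠ 0 ∧ u x = 1 ∧ x + 1 ≠ 0 ∧ u (x + 1) = -1 := by
    by_contra hno
    push Not at hno
    have hS1 : ∀ x : F, x ≠ 0 → u x = 1 → x + 1 = 0 ∨ u (x + 1) = 1 := by
      intro x hx hx1
      by_cases h0 : x + 1 = 0
      · exact Or.inl h0
      · right
        rcases hupm (x + 1) h0 with h | h
        · exact h
        · exact absurd h (hno x hx hx1 h0)
    have hSadd : ∀ a b : F, (a = 0 ∨ u a = 1) → (b = 0 ∨ u b = 1) →
        (a + b = 0 ∨ u (a + b) = 1) := by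
      intro a b ha hb
      by_cases hb0 : b = 0
      · rw [hb0, add_zero]; exact ha
      by_cases ha0 : a = 0
      · rw [ha0, zero_add]; exact hb
      have hua : u a = 1 := ha.resolve_left ha0
      have hub : u b = 1 := hb.resolve_left hb0
      have hubinv : u b⁻¹ = 1 := by
        have := huinv b hb0
        rw [hub, mul_one] at this
        exact this
      have hab : a * b⁻¹ ≠ 0 := mul_ne_zero ha0 (inv_ne_zero hb0)
      have huab : u (a * b⁻¹) = 1 := by
        rw [humul _ _ ha0 (inv_ne_zero hb0), hua, hubinv, mul_one]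
      have e : a + b = (a * b⁻¹ + 1) * b := by
        field_simp
      rcases hS1 _ hab huab with h | h
      · left; rw [e, h, zero_mul]
      · by_cases h0 : a * b⁻¹ + 1 = 0
        · left; rw [e, h0, zero_mul]
        · right
          rw [e, humul _ _ h0 hb0, h, hub, mul_one]
    have hSm1 : ((-1 : F) = 0 ∨ u (-1) = 1) := Or.inr hum1
    by_cases hx1 : (x₀ + 1 = 0 ∨ u (x₀ + 1) = 1)
    · have := hSadd _ _ hx1 hSm1
      rw [add_neg_cancel_right] at this
      rcases this with h | h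
      · exact hx₀ h
      · rw [hux₀] at h
        exact h11 h.symm
    · push Not at hx1
      obtain ⟨h0, h1⟩ := hx1
      have hu' : u (x₀ + 1) = -1 := (hupm _ h0).resolve_left h1
      have h3 : u ((x₀ + 1) * x₀⁻¹) = 1 := by
        rw [humul _ _ h0 (inv_ne_zero hx₀), hu', hux₀inv]; ring
      have := hSadd _ _ (Or.inr h3 : ((x₀ + 1) * x₀⁻¹ = 0 ∨ u ((x₀ + 1) * x₀⁻¹) = 1)) hSm1
      have e : (x₀ + 1) * x₀⁻¹ + -1 = x₀⁻¹ := by
        field_simp
        ring
      rw [e] at this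
      rcases this with h | h
      · exact inv_ne_zero hx₀ h
      · rw [hux₀inv] at h
        exact h11 h.symm
  obtain ⟨x, hx0, hux1, hx1, hux2⟩ := hkey
  have hxm1 : x ≠ -1 := by
    intro h
    apply hx1
    rw [h]; ring
  have hτx : τ x = x⁻¹ := hτ_of_u x hx0 hux1
  have hτx1 : τ (x + 1) = -(x + 1)⁻¹ := by
    have h := hux2
    rw [hux] at h
    have h3 : τ (x + 1) = (τ (x + 1) * (x + 1)) * (x + 1)⁻¹ := by
      field_simp
    rw [h3, h]; ring
  have hτxinv : τ x⁻¹ = x := by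
    have h := hinvol x hx0
    rw [hτx] at h
    exact h
  have hk := hkt x hx0 hxm1
  rw [hτx, hτx1] at hk
  have e1 : x⁻¹ + 1 = (x + 1) * x⁻¹ := by
    field_simp
    ring
  rw [e1, hmul _ _ hx1 (inv_ne_zero hx0), hτx1, hτxinv] at hk
  -- `-(x+1)⁻¹ * x = 1 + (x+1)⁻¹`
  have h5 : -x = (x + 1) + 1 := by
    have h6 : -(x + 1)⁻¹ * x * (x + 1) = (1 - -(x + 1)⁻¹) * (x + 1) := by rw [hk]
    have l : -(x + 1)⁻¹ * x * (x + 1) = -x := by
      field_simp
    have r : (1 - -(x + 1)⁻¹) * (x + 1) = (x + 1) + 1 := by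
      field_simp
      ring
    rw [l, r] at h6
    exact h6
  apply hx1
  have h7 : 2 * (x + 1) = 0 := by
    have : 2 * (x + 1) = (x + 1) + 1 - -x := by ring
    rw [this, ← h5, sub_self]
  rcases mul_eq_zero.mp h7 with h | h
  · exact absurd h h2
  · exact h

end Cfsg.Agent.Lib.Helper17.Sh3
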