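/-
helper17: sharply 3-transitive groups (Zassenhaus, odd case).  In a sharply 3-transitive group
on the projective line over a field of odd characteristic containing the affine maps, the element
exchanging `∞` and `0` and fixing `1` is the inversion (Kerby–Tits identity).
-/
import Mathlib
import Cfsg.Agent.Lib.Helper17.Sh3J
import Cfsg.Agent.Lib.Helper9.Sharp3

set_option autoImplicit false

namespace Cfsg.Agent.Lib.Helper17.Sh3

open MulAction Cfsg.Agent.Lib.Helper9

/-- the element exchanging `∞` and `0` and fixing `1` is the inversion -/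
theorem moebius_inv {K : Type*} [Field K] {G α : Type*} [Group G] [MulAction G α]
    (hS : Sharp3 G α) (h2 : (2 : K) ≠ 0) (e : Option K ≃ α)
    (haff : ∀ a b : K, a ≠ 0 → ∃ g : G, g • e none = e none ∧
      ∀ x : K, g • e (some x) = e (some (a * x + b)))
    (t : G) (htI : t • e none = e (some 0)) (ht0 : t • e (some 0) = e none)
    (ht1 : t • e (some 1) = e (some 1)) :
    ∀ x : K, x ≠ 0 → t • e (some x) = e (some x⁻¹) := by
  have hns : ∀ x : K, e none ≠ e (some x) := fun x h => by
    have := e.injective h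
    exact absurd this (by simp)
  have hss' : ∀ x y : K, e (some x) = e (some y) → x = y := fun x y h =>
    Option.some_injective _ (e.injective h)
  have hss : ∀ x y : K, x ≠ y → e (some x) ≠ e (some y) := fun x y hxy h => hxy (hss' x y h)
  have h11 : (1 : K) ≠ -1 := by
    intro h
    apply h2
    have : (2 : K) = 1 + 1 := by norm_num
    rw [this]
    nth_rewrite 2 [h]
    ring
  have hm10 : (-1 : K) ≠ 0 := neg_ne_zero.mpr one_ne_zero
  have htt : t * t = 1 := by
    apply hS.uniq (hns 0) (hns 1) (hss 0 1 zero_ne_one)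
    · rw [mul_smul, htI, ht0]
    · rw [mul_smul, ht0, htI]
    · rw [mul_smul, ht1, ht1]
  have htt' : ∀ a : α, t • t • a = a := fun a => by rw [← mul_smul, htt, one_smul]
  -- the map `τ`
  have hex : ∀ x : K, ∃ y : K, x ≠ 0 → t • e (some x) = e (some y) := by
    intro x
    by_cases hx : x = 0
    · exact ⟨0, fun h => absurd hx h⟩
    · rcases h : e.symm (t • e (some x)) with _ | y
      · exfalso
        have h1 : t • e (some x) = e none := by rw [← h, Equiv.apply_symm_apply]
        rw [← ht0] at h1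
        exact hx (hss' _ _ (MulAction.injective t h1))
      · refine ⟨y, fun _ => ?_⟩
        rw [← h, Equiv.apply_symm_apply]
  choose τ hτ using hex
  have hne : ∀ x : K, x ≠ 0 → τ x ≠ 0 := by
    intro x hx h
    have h1 := hτ x hx
    rw [h, ← htI] at h1
    exact hns x (MulAction.injective t h1).symm
  have hinvol : ∀ x : K, x ≠ 0 → τ (τ x) = x := by
    intro x hx
    have h1 := hτ (τ x) (hne x hx)
    rw [← hτ x hx, htt'] at h1
    exact (hss' _ _ h1).symm
  have hτ1 : τ 1 = 1 := by
    have h1 := hτ 1 one_ne_zero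
    rw [ht1] at h1
    exact (hss' _ _ h1).symm
  have hmul : ∀ x y : K, x ≠ 0 → y ≠ 0 → τ (x * y) = τ x * τ y := by
    intro x y hx hy
    obtain ⟨m, hmI, hm'⟩ := haff x 0 hx
    have hm : ∀ w : K, m • e (some w) = e (some (x * w)) := fun w => by rw [hm' w, add_zero]
    obtain ⟨m₂, hm₂I, hm₂'⟩ := haff (τ x) 0 (hne x hx)
    have hm₂ : ∀ w : K, m₂ • e (some w) = e (some (τ x * w)) := fun w => by
      rw [hm₂' w, add_zero]
    have hconj : t * m * t = m₂ := by
      apply hS.eq_of_three (hns 0) (hns 1) (hss 0 1 zero_ne_one)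
      · rw [mul_smul, mul_smul, htI, hm, mul_zero, ht0, hm₂I]
      · rw [mul_smul, mul_smul, ht0, hmI, htI, hm₂, mul_zero]
      · rw [mul_smul, mul_smul, ht1, hm, mul_one, hτ x hx, hm₂, mul_one]
    have h1 := hτ (x * y) (mul_ne_zero hx hy)
    rw [← hm y] at h1
    have h3 : t • m • e (some y) = (t * m * t) • (t • e (some y)) := by
      rw [mul_smul, mul_smul, htt']
    rw [h3, hconj, hτ y hy, hm₂] at h1
    exact (hss' _ _ h1).symm
  have hτm1 : τ (-1) = -1 := by
    have h1 := hmul (-1) (-1) hm10 hm10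
    rw [neg_mul_neg, mul_one, hτ1] at h1
    have h3 : (τ (-1) - 1) * (τ (-1) + 1) = 0 := by
      have : (τ (-1) - 1) * (τ (-1) + 1) = τ (-1) * τ (-1) - 1 := by ring
      rw [this, ← h1, sub_self]
    rcases mul_eq_zero.mp h3 with h | h
    · exfalso
      have h4 : τ (-1) = 1 := sub_eq_zero.mp h
      have h5 := hinvol (-1) hm10
      rw [h4, hτ1] at h5
      exact h11 h5
    · exact eq_neg_of_add_eq_zero_left h
  have hfix : ∀ x : K, x ≠ 0 → τ x = x → x = 1 ∨ x = -1 := by
    intro x hx hτx
    by_contra hcon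
    push Not at hcon
    have h1 : t = 1 := by
      apply hS.uniq (hss 1 (-1) h11) (hss 1 x (Ne.symm hcon.1)) (hss (-1) x (Ne.symm hcon.2))
      · exact ht1
      · rw [hτ (-1) hm10, hτm1]
      · rw [hτ x hx, hτx]
    rw [h1, one_smul] at htI
    exact hns 0 htI
  have hkt : ∀ x : K, x ≠ 0 → x ≠ -1 → τ (τ x + 1) = 1 - τ (x + 1) := by
    intro x hx hx1
    obtain ⟨n₁, hnI, hn'⟩ := haff 1 1 one_ne_zero
    have hn : ∀ w : K, n₁ • e (some w) = e (some (w + 1)) := fun w => by rw [hn' w, one_mul]
    obtain ⟨z, hzI, hz'⟩ := haff (-1) 0 hm10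
    have hz : ∀ w : K, z • e (some w) = e (some (-w)) := fun w => by
      rw [hz' w, add_zero, neg_one_mul]
    have hid : t * n₁ * t = n₁ * z * t * n₁ := by
      apply hS.eq_of_three (hns 0) (hns (-1)) (hss 0 (-1) (Ne.symm hm10))
      · rw [mul_smul, mul_smul, htI, hn, zero_add, ht1, mul_smul, mul_smul, mul_smul, hnI, htI,
          hz, neg_zero, hn, zero_add]
      · rw [mul_smul, mul_smul, ht0, hnI, htI, mul_smul, mul_smul, mul_smul, hn, zero_add, ht1,
          hz, hn, neg_add_cancel]
      · rw [mul_smul, mul_smul, hτ (-1) hm10, hτm1, hn, neg_add_cancel, ht0, mul_smul, mul_smul,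
          mul_smul, hn, neg_add_cancel, ht0, hzI, hnI]
    have hτx1 : τ x + 1 ≠ 0 := by
      intro h
      have h4 : τ x = -1 := eq_neg_of_add_eq_zero_left h
      have h5 := hinvol x hx
      rw [h4, hτm1] at h5
      exact hx1 h5.symm
    have hx10 : x + 1 ≠ 0 := fun h => hx1 (eq_neg_of_add_eq_zero_left h)
    have h1 : (t * n₁ * t) • e (some x) = e (some (τ (τ x + 1))) := by
      rw [mul_smul, mul_smul, hτ x hx, hn, hτ _ hτx1]
    have h3 : (n₁ * z * t * n₁) • e (some x) = e (some (-τ (x + 1) + 1)) := by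
      rw [mul_smul, mul_smul, mul_smul, hn, hτ _ hx10, hz, hn]
    rw [hid, h3] at h1
    rw [← hss' _ _ h1]
    ring
  intro x hx
  rw [hτ x hx, inv_of_kt h2 τ hmul hne hinvol hfix hkt x hx]

end Cfsg.Agent.Lib.Helper17.Sh3
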