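/-
helper17: sharply 3-transitive groups (Zassenhaus, odd case).  Final assembly: a sharply
3-transitive permutation group of degree `p ^ f + 1`, `p` and `f` odd, is `PGL(2, p ^ f)`.
-/
import Mathlib
import Cfsg.Agent.Lib.Helper17.Sh3I
import Cfsg.Agent.Lib.Helper17.Sh3K
import Cfsg.Agent.Lib.Helper9.Sharp3PGL

set_option autoImplicit false

universe v

namespace Cfsg.Agent.Lib.Helper17.Sh3

open MulAction Cfsg.Agent.Lib.Helper9 Cfsg.Agent.Lib.Helper5.NFBuild

/-- **Zassenhaus**: sharply 3-transitive of degree `p ^ f + 1`, `p` and `f` odd, implies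
`PGL(2, K)`. -/
theorem exists_field_iso_odd {α : Type v} [Fintype α] [DecidableEq α] {p f : ℕ} (hp : p.Prime)
    (hp2 : p ≠ 2) (hfo : Odd f) (hα : Fintype.card α = p ^ f + 1) (G : Subgroup (Equiv.Perm α))
    (h3t : MulAction.IsMultiplyPretransitive G α 3)
    (hsharp : ∀ x : Fin 3 ↪ α, MulAction.stabilizer G x = ⊥) :
    ∃ (K : Type v) (_ : Field K), Nat.card K = p ^ f ∧
      Nonempty (G ≃* Matrix.ProjGenLinGroup (Fin 2) K) := by
  classical
  have h : Sharp3 G α := sharp3_of_isMultiplyPretransitive h3t hsharp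
  have hf1 : 1 ≤ f := by obtain ⟨k, rfl⟩ := hfo; omega
  have hq3 : 3 ≤ p ^ f := by
    have h1 : 3 ≤ p := by
      have := hp.two_le
      omega
    calc 3 ≤ p := h1
      _ = p ^ 1 := (pow_one p).symm
      _ ≤ p ^ f := Nat.pow_le_pow_right hp.pos hf1
  have hodd : Odd (p ^ f) := Odd.pow (hp.odd_of_ne_two hp2)
  have hα' : Nat.card α = p ^ f + 1 := by rw [Nat.card_eq_fintype_card, hα]
  have h3 : 3 ≤ Nat.card α := by omega
  obtain ⟨pI, p0, p1, hI0, hI1, h01⟩ := three_points h3
  have : FaithfulSMul G α := h.faithful hI0 hI1 h01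
  have h2 := h.sharp2_stabilizer pI
  have hX : Nat.card (SubMulAction.ofStabilizer G pI) = p ^ f := by
    have := SubMulAction.nat_card_ofStabilizer_add_one_eq G pI
    omega
  obtain ⟨p', j, hp', hj, hXp, N, hNn, htr, hsemi, hexp, hNcomm⟩ :=
    exists_kernel_gen h2 (by omega)
  let o : SubMulAction.ofStabilizer G pI := ⟨p0, Ne.symm hI0⟩
  let e : SubMulAction.ofStabilizer G pI := ⟨p1, Ne.symm hI1⟩
  have hoe : o ≠ e := fun he => h01 (congrArg Subtype.val he)
  choose nn hnn_mem hnn_smul using (fun x : SubMulAction.ofStabilizer G pI => htr o x)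
  have hhex : ∀ x : SubMulAction.ofStabilizer G pI, ∃ g : stabilizer G pI,
      x ≠ o → (g • o = o ∧ g • e = x) := by
    intro x
    by_cases hx : x = o
    · exact ⟨1, fun hne => absurd hx hne⟩
    · obtain ⟨g, hg⟩ := h2.ex hoe (Ne.symm hx)
      exact ⟨g, fun _ => hg⟩
  choose hh hhh using hhex
  have S : Spec N o e nn hh :=
    { hoe := hoe
      normal := hNn
      nn_mem := hnn_mem
      nn_smul := hnn_smul
      nn_uniq := by
        intro n hn a hna
        have h1 : (nn a)⁻¹ * n = 1 := by
          apply hsemi _ (N.mul_mem (N.inv_mem (hnn_mem a)) hn) o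
          rw [mul_smul, hna, inv_smul_eq_iff, hnn_smul a]
        exact (inv_mul_eq_one.mp h1).symm
      hh_fix := fun a ha => (hhh a ha).1
      hh_smul := fun a ha => (hhh a ha).2
      hh_uniq := by
        intro k hk a ha hka
        have h1 : (hh a)⁻¹ * k = 1 := by
          apply h2.uniq hoe
          · rw [mul_smul, hk, inv_smul_eq_iff, (hhh a ha).1]
          · rw [mul_smul, hka, inv_smul_eq_iff, (hhh a ha).2]
        exact (inv_mul_eq_one.mp h1).symm }
  -- commutativity
  have hstabc := stab_comm hp hp2 hfo hα G h3t hsharp hI0 hI1 h01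
  have hHcomm : ∀ a b : SubMulAction.ofStabilizer G pI, a ≠ o → b ≠ o →
      hh a * hh b = hh b * hh a := by
    intro a b ha hb
    apply Subtype.ext
    have ha0 : ((hh a : stabilizer G pI) : G) • p0 = p0 := congrArg Subtype.val (hhh a ha).1
    have hb0 : ((hh b : stabilizer G pI) : G) • p0 = p0 := congrArg Subtype.val (hhh b hb).1
    have hc := hstabc ⟨((hh a : stabilizer G pI) : G), ⟨(hh a).2, ha0⟩⟩
      ⟨((hh b : stabilizer G pI) : G), ⟨(hh b).2, hb0⟩⟩
    have hc' := congrArg Subtype.val hc
    exact hc'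
  let nf : Cfsg.NearField (SubMulAction.ofStabilizer G pI) := S.nearField
  have hadd : ∀ a b : SubMulAction.ofStabilizer G pI, a + b = b + a := by
    intro a b
    show nn b • a = nn a • b
    conv_lhs => rw [← hnn_smul a]
    conv_rhs => rw [← hnn_smul b]
    rw [← mul_smul, ← mul_smul, hNcomm _ (hnn_mem b) _ (hnn_mem a)]
  have hmul : ∀ a b : SubMulAction.ofStabilizer G pI, a * b = b * a := by
    intro a b
    show nfMul o hh a b = nfMul o hh b a
    unfold nfMul
    by_cases ha : a = o
    · by_cases hb : b = o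
      · rw [ha, hb]
      · simp only [ha, hb, if_true, if_false]
        exact (hhh b hb).1
    · by_cases hb : b = o
      · simp only [ha, hb, if_true, if_false]
        exact ((hhh a ha).1).symm
      · simp only [ha, hb, if_false]
        conv_lhs => rw [← (hhh a ha).2]
        conv_rhs => rw [← (hhh b hb).2]
        rw [← mul_smul, ← mul_smul, hHcomm a b ha hb]
  let fld : Field (SubMulAction.ofStabilizer G pI) :=
    fieldOfNearField (SubMulAction.ofStabilizer G pI) hadd hmul
  refine ⟨SubMulAction.ofStabilizer G pI, fld, hX, ?_⟩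
  -- the characteristic is odd
  have hchar : (2 : SubMulAction.ofStabilizer G pI) ≠ 0 := by
    intro h20
    have h1 : addOrderOf (1 : SubMulAction.ofStabilizer G pI) ∣ 2 := by
      apply addOrderOf_dvd_of_nsmul_eq_zero
      rw [nsmul_eq_mul, mul_one]
      exact_mod_cast h20
    have h4 : addOrderOf (1 : SubMulAction.ofStabilizer G pI) ∣
        Nat.card (SubMulAction.ofStabilizer G pI) := addOrderOf_dvd_natCard _
    rw [hX] at h4
    have h5 : addOrderOf (1 : SubMulAction.ofStabilizer G pI) ≠ 1 := by
      intro h6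
      rw [AddMonoid.addOrderOf_eq_one_iff] at h6
      exact one_ne_zero h6
    have h6 : addOrderOf (1 : SubMulAction.ofStabilizer G pI) = 2 := by
      rcases (Nat.dvd_prime Nat.prime_two).mp h1 with h7 | h7
      · exact absurd h7 h5
      · exact h7
    rw [h6] at h4
    obtain ⟨k, hk⟩ := hodd
    omega
  -- the bijection
  let e' : Option (SubMulAction.ofStabilizer G pI) ≃ α :=
    { toFun := fun y => y.elim pI (fun x => x.1)
      invFun := fun a => if ha : a = pI then none else some ⟨a, ha⟩
      left_inv := by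
        intro y
        cases y with
        | none => simp
        | some x =>
          have hx : (x : α) ≠ pI := SubMulAction.neq_of_mem_ofStabilizer G pI
          simp [hx]
      right_inv := by
        intro a
        by_cases ha : a = pI
        · simp [ha]
        · simp [ha] }
  have he'none : e' none = pI := rfl
  have he'some : ∀ x : SubMulAction.ofStabilizer G pI, e' (some x) = x.1 := fun x => rfl
  have hzero : (0 : SubMulAction.ofStabilizer G pI) = o := rfl
  have hone : (1 : SubMulAction.ofStabilizer G pI) = e := rfl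
  have haff : ∀ a b : SubMulAction.ofStabilizer G pI, a ≠ 0 → ∃ g : G, g • e' none = e' none ∧
      ∀ x : SubMulAction.ofStabilizer G pI, g • e' (some x) = e' (some (a * x + b)) := by
    intro a b ha
    refine ⟨((nn b * hh a : stabilizer G pI) : G), ?_, ?_⟩
    · rw [he'none]
      exact (nn b * hh a).2
    · intro x
      rw [he'some, he'some]
      have := S.repr' a b ha x
      have h5 : ((nn b * hh a) • x : SubMulAction.ofStabilizer G pI) = a * x + b := by
        rw [this, hmul a x]
        rfl
      rw [← h5]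
      rfl
  apply Moeb.pgl2_of_moebius e' haff
  · -- inversion
    obtain ⟨t, htI, ht0, ht1⟩ := h.ex hI0 hI1 h01 (Ne.symm hI0) (fun hh' => h01 hh') hI1
    refine ⟨t, ?_, ?_, ?_⟩
    · rw [he'none]
      exact htI
    · rw [he'none]
      exact ht0
    · exact moebius_inv h hchar e' haff t htI ht0 ht1
  · -- the stabiliser is affine
    intro g hg
    rw [he'none] at hg
    obtain ⟨a, b, ha, hx⟩ := S.repr ⟨g, hg⟩
    refine ⟨a, b, ha, ?_⟩
    intro x
    rw [he'some, he'some]
    have h5 : ((⟨g, hg⟩ : stabilizer G pI) • x : SubMulAction.ofStabilizer G pI) = a * x + b := by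
      rw [hx x, hmul a x]
      rfl
    rw [← h5]
    rfl

/-- Zassenhaus' theorem (odd case) with the field in `Type`. -/
theorem exists_galoisField_iso_odd {α : Type v} [Fintype α] [DecidableEq α] {p f : ℕ}
    (hp : p.Prime) (hp2 : p ≠ 2) (hfo : Odd f) (hα : Fintype.card α = p ^ f + 1)
    (G : Subgroup (Equiv.Perm α)) (h3t : MulAction.IsMultiplyPretransitive G α 3)
    (hsharp : ∀ x : Fin 3 ↪ α, MulAction.stabilizer G x = ⊥) :
    ∃ (F : Type) (_ : Field F) (_ : Fintype F), Fintype.card F = p ^ f ∧
      Nonempty (G ≃* Matrix.ProjGenLinGroup (Fin 2) F) := by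
  obtain ⟨K, fK, hK, ⟨iso⟩⟩ := exists_field_iso_odd hp hp2 hfo hα G h3t hsharp
  have : Fact (Nat.Prime p) := ⟨hp⟩
  have hf0 : f ≠ 0 := by obtain ⟨k, rfl⟩ := hfo; omega
  have : Finite K := Nat.finite_of_card_ne_zero (by
    rw [hK]; exact pow_ne_zero _ hp.pos.ne')
  let _ : Fintype K := Fintype.ofFinite K
  have : Finite (GaloisField p f) := Nat.finite_of_card_ne_zero (by
    rw [GaloisField.card p f hf0]; exact pow_ne_zero _ hp.pos.ne')
  let _ : Fintype (GaloisField p f) := Fintype.ofFinite _
  have hc : Fintype.card K = Fintype.card (GaloisField p f) := by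
    rw [← Nat.card_eq_fintype_card, ← Nat.card_eq_fintype_card, hK, GaloisField.card p f hf0]
  refine ⟨GaloisField p f, inferInstance, inferInstance, ?_, ⟨iso.trans (pglCongr ?_)⟩⟩
  · rw [← Nat.card_eq_fintype_card, GaloisField.card p f hf0]
  · exact FiniteField.ringEquivOfCardEq hc

end Cfsg.Agent.Lib.Helper17.Sh3
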