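/-
helper17: extending a sign character from the Borel subgroup of a split rank-one group
`G = B ∪ B s K` to the whole group.
-/
import Mathlib

set_option autoImplicit false

namespace Cfsg.Agent.Lib.Helper17.Sh3

/-- **Extension of a sign character** from `B` to `G = B ∪ B s K`: if `χ` is multiplicative on
`B`, trivial on `K`, invariant under `s` on a complement of `K` in `B`, and the `B`-part of
`s k s` (`k ∈ K`, `k ≠ 1`) has constant sign `ε`, then `χ` extends to a homomorphism on `G`. -/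
theorem exists_hom_extension {G : Type*} [Group G] (B K : Subgroup G) (hKB : K ≤ B) (s : G)
    (hs2 : s * s = 1) (hsB : s ∉ B)
    (χ : G → ℤˣ) (hχmul : ∀ x ∈ B, ∀ y ∈ B, χ (x * y) = χ x * χ y) (hχK : ∀ k ∈ K, χ k = 1)
    (hdec : ∀ b ∈ B, ∃ h ∈ B, ∃ k ∈ K, b = h * k ∧ s * h * s ∈ B ∧ χ (s * h * s) = χ h)
    (hG : ∀ g : G, g ∈ B ∨ ∃ b ∈ B, ∃ k ∈ K, g = b * s * k)
    (ε : ℤˣ) (hε : ∀ k ∈ K, k ≠ 1 → ∃ b ∈ B, ∃ k' ∈ K, s * k * s = b * s * k' ∧ χ b = ε) :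
    ∃ φ : G →* ℤˣ, (∀ b ∈ B, φ b = χ b) ∧ φ s = ε := by
  classical
  have hsinv : s⁻¹ = s := inv_eq_of_mul_eq_one_right hs2
  have hεε : ε * ε = 1 := Int.units_mul_self ε
  have hχ1 : χ 1 = 1 := hχK 1 K.one_mem
  -- `B s K` is disjoint from `B`
  have hW0 : ∀ b ∈ B, ∀ k ∈ K, b * s * k ∉ B := by
    intro b hb k hk hmem
    apply hsB
    have h1 : s = b⁻¹ * (b * s * k) * k⁻¹ := by group
    rw [h1]
    exact B.mul_mem (B.mul_mem (B.inv_mem hb) hmem) (B.inv_mem (hKB hk))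
  -- the `B`-part is well defined up to sign
  have hW : ∀ b ∈ B, ∀ b' ∈ B, ∀ k ∈ K, ∀ k' ∈ K, b * s * k = b' * s * k' → χ b = χ b' := by
    intro b hb b' hb' k hk k' hk' heq
    have h1 : b'⁻¹ * b = s * (k' * k⁻¹) * s := by
      have h2 : b = b' * s * k' * k⁻¹ * s⁻¹ := by rw [← heq]; group
      rw [h2, hsinv]; group
    by_cases hkk : k' * k⁻¹ = 1
    · rw [hkk, mul_one, hs2] at h1
      have : b = b' := by
        have := inv_mul_eq_one.mp h1
        exact this.symm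
      rw [this]
    · exfalso
      obtain ⟨β, hβ, κ, hκ, h3, -⟩ := hε _ (K.mul_mem hk' (K.inv_mem hk)) hkk
      apply hW0 β hβ κ hκ
      rw [← h3, ← h1]
      exact B.mul_mem (B.inv_mem hb') hb
  -- the function
  obtain ⟨φ₀, hP1, hP2⟩ : ∃ φ₀ : G → ℤˣ, (∀ g ∈ B, φ₀ g = χ g) ∧
      (∀ b ∈ B, ∀ k ∈ K, φ₀ (b * s * k) = χ b * ε) := by
    have hex : ∀ g : G, ∃ b : G, g ∉ B → b ∈ B ∧ ∃ k ∈ K, g = b * s * k := by
      intro g
      rcases hG g with hg | ⟨b, hb, k, hk, hgk⟩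
      · exact ⟨1, fun h => absurd hg h⟩
      · exact ⟨b, fun _ => ⟨hb, k, hk, hgk⟩⟩
    choose β hβ using hex
    refine ⟨fun g => if g ∈ B then χ g else χ (β g) * ε, ?_, ?_⟩
    · intro g hg
      simp only [hg, if_true]
    · intro b hb k hk
      have hn := hW0 b hb k hk
      simp only [hn, if_false]
      obtain ⟨hβB, k', hk', hgk⟩ := hβ _ hn
      rw [hW _ hβB b hb k' hk' k hk hgk.symm]
  -- right multiplication by `B`
  have hR1 : ∀ g : G, ∀ b ∈ B, φ₀ (g * b) = φ₀ g * χ b := by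
    intro g b hb
    rcases hG g with hg | ⟨b₁, hb₁, k₁, hk₁, rfl⟩
    · rw [hP1 _ (B.mul_mem hg hb), hP1 _ hg, hχmul _ hg _ hb]
    · obtain ⟨h, hh, k₂, hk₂, hdec1, hshs, hχh⟩ := hdec (k₁ * b) (B.mul_mem (hKB hk₁) hb)
      have h1 : b₁ * s * k₁ * b = (b₁ * (s * h * s)) * s * k₂ := by
        calc b₁ * s * k₁ * b = b₁ * s * (k₁ * b) := by group
          _ = b₁ * s * (h * k₂) := by rw [hdec1]
          _ = b₁ * (s * h * (s * s)) * k₂ := by rw [hs2]; group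
          _ = (b₁ * (s * h * s)) * s * k₂ := by group
      rw [h1, hP2 _ (B.mul_mem hb₁ hshs) _ hk₂, hP2 _ hb₁ _ hk₁, hχmul _ hb₁ _ hshs, hχh]
      have h2 : χ h = χ b := by
        have h3 : χ (k₁ * b) = χ (h * k₂) := by rw [hdec1]
        rw [hχmul _ (hKB hk₁) _ hb, hχmul _ hh _ (hKB hk₂), hχK _ hk₁, hχK _ hk₂, one_mul,
          mul_one] at h3
        exact h3.symm
      rw [h2]
      rw [mul_assoc, mul_assoc, mul_comm (χ b) ε]
  -- right multiplication by `s`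
  have hR2 : ∀ g : G, φ₀ (g * s) = φ₀ g * ε := by
    intro g
    rcases hG g with hg | ⟨b₁, hb₁, k₁, hk₁, rfl⟩
    · have h1 : g * s = g * s * 1 := by group
      rw [h1, hP2 _ hg _ K.one_mem, hP1 _ hg]
    · by_cases hk1 : k₁ = 1
      · rw [hk1, hP2 _ hb₁ _ K.one_mem]
        have h1 : b₁ * s * 1 * s = b₁ := by
          calc b₁ * s * 1 * s = b₁ * (s * s) := by group
            _ = b₁ := by rw [hs2, mul_one]
        rw [h1, hP1 _ hb₁, mul_assoc, hεε, mul_one]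
      · obtain ⟨β, hβ, κ, hκ, h3, hχβ⟩ := hε _ hk₁ hk1
        have h1 : b₁ * s * k₁ * s = (b₁ * β) * s * κ := by
          calc b₁ * s * k₁ * s = b₁ * (s * k₁ * s) := by group
            _ = b₁ * (β * s * κ) := by rw [h3]
            _ = (b₁ * β) * s * κ := by group
        rw [h1, hP2 _ (B.mul_mem hb₁ hβ) _ hκ, hP2 _ hb₁ _ hk₁, hχmul _ hb₁ _ hβ, hχβ]
  -- multiplicativity
  have hmul : ∀ g' g : G, φ₀ (g' * g) = φ₀ g' * φ₀ g := by
    intro g' g
    rcases hG g with hg | ⟨b, hb, k, hk, rfl⟩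
    · rw [hR1 _ _ hg, hP1 _ hg]
    · have h1 : g' * (b * s * k) = g' * b * s * k := by group
      rw [h1, hR1 _ _ (hKB hk), hχK _ hk, mul_one, hR2, hR1 _ _ hb, hP2 _ hb _ hk, mul_assoc]
  have hone : φ₀ 1 = 1 := by rw [hP1 _ B.one_mem, hχ1]
  refine ⟨MonoidHom.mk ⟨φ₀, hone⟩ hmul, ?_, ?_⟩
  · intro b hb
    exact hP1 b hb
  · show φ₀ s = ε
    have h1 : s = 1 * s * 1 := by group
    rw [h1, hP2 _ B.one_mem _ K.one_mem, hχ1, one_mul]

end Cfsg.Agent.Lib.Helper17.Sh3
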