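/-
helper17: a sharply 3-transitive group of even degree has a subgroup of index two
(abstract part: from an `s`-invariant subgroup of index two of the two-point stabilizer).
-/
import Mathlib
import Cfsg.Agent.Lib.Helper17.Sh3D
import Cfsg.Agent.Lib.Helper17.Sh3M
import Cfsg.Agent.Lib.Helper9.Sharp3

set_option autoImplicit false

namespace Cfsg.Agent.Lib.Helper17.Sh3

open Subgroup MulAction Cfsg.Agent.Lib.Helper9

section act
variable {G α : Type*} [Group G] [MulAction G α]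

/-- the kernel of a point stabilizer of a finite sharply 3-transitive group, as a subgroup of
the whole group -/
theorem exists_kernel_sub [Finite α] (h : Sharp3 G α) (h3 : 3 ≤ Nat.card α) (a : α) :
    ∃ K : Subgroup G, (∀ k ∈ K, k • a = a) ∧
      (∀ x y : α, x ≠ a → y ≠ a → ∃ k ∈ K, k • x = y) ∧
      (∀ k ∈ K, ∀ x : α, x ≠ a → k • x = x → k = 1) ∧
      (∀ g : G, g • a = a → ∀ k ∈ K, g * k * g⁻¹ ∈ K) := by
  have hX : Nat.card (SubMulAction.ofStabilizer G a) + 1 = Nat.card α :=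
    SubMulAction.nat_card_ofStabilizer_add_one_eq G a
  obtain ⟨p, j, -, -, -, N, hN, htr, hsemi, -, -⟩ :=
    exists_kernel_gen (h.sharp2_stabilizer a) (by omega)
  refine ⟨N.map (MulAction.stabilizer G a).subtype, ?_, ?_, ?_, ?_⟩
  · rintro n ⟨m, -, rfl⟩
    exact m.2
  · intro x y hx hy
    obtain ⟨n, hn, hnx⟩ := htr ⟨x, hx⟩ ⟨y, hy⟩
    refine ⟨n, ⟨n, hn, rfl⟩, ?_⟩
    exact congrArg Subtype.val hnx
  · rintro n ⟨m, hm, rfl⟩ x hx hfix
    have : m = 1 := hsemi m hm ⟨x, hx⟩ (Subtype.ext hfix)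
    rw [this]; rfl
  · rintro g hg n ⟨m, hm, rfl⟩
    refine ⟨⟨g, hg⟩ * m * ⟨g, hg⟩⁻¹, hN.conj_mem m hm _, ?_⟩
    simp

/-- **The sign character of a sharply 3-transitive group**, from an `s`-invariant subgroup `N`
of index two of the two-point stabilizer. -/
theorem exists_sign_hom (hS : Sharp3 G α) {a b c : α} (hab : a ≠ b) (hac : a ≠ c) (hbc : b ≠ c)
    (s : G) (hsa : s • a = b) (hsb : s • b = a) (hsc : s • c = c)
    (K : Subgroup G) (hK1 : ∀ k ∈ K, k • a = a)
    (hK2 : ∀ x y : α, x ≠ a → y ≠ a → ∃ k ∈ K, k • x = y)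
    (hK3 : ∀ k ∈ K, ∀ x : α, x ≠ a → k • x = x → k = 1)
    (hK4 : ∀ g : G, g • a = a → ∀ k ∈ K, g * k * g⁻¹ ∈ K)
    (N : Subgroup G) (hN1 : ∀ n ∈ N, n • a = a ∧ n • b = b)
    (hN2 : ∀ x y : G, x • a = a → x • b = b → y • a = a → y • b = b →
      (x * y ∈ N ↔ (x ∈ N ↔ y ∈ N)))
    (hN3 : ∀ n ∈ N, s * n * s ∈ N) :
    ∃ φ : G →* ℤˣ, ∀ h : G, h • a = a → h • b = b → (φ h = 1 ↔ h ∈ N) := by
  classical
  have hs2 : s * s = 1 := by
    apply hS.uniq hab hac hbc
    · rw [mul_smul, hsa, hsb]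
    · rw [mul_smul, hsb, hsa]
    · rw [mul_smul, hsc, hsc]
  have hsinv : s⁻¹ = s := inv_eq_of_mul_eq_one_right hs2
  have hsB : s ∉ stabilizer G a := by
    rw [mem_stabilizer_iff, hsa]
    exact Ne.symm hab
  have hKB : K ≤ stabilizer G a := fun k hk => mem_stabilizer_iff.mpr (hK1 k hk)
  have hKb : ∀ k ∈ K, k • b = b → k = 1 := fun k hk hkb => hK3 k hk b (Ne.symm hab) hkb
  have hm11 : (-1 : ℤˣ) ≠ 1 := by decide
  -- the character on the point stabilizer
  obtain ⟨χ, hχdef⟩ : ∃ χ : G → ℤˣ, χ = fun g => if ∃ k ∈ K, k * g ∈ N then 1 else -1 :=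
    ⟨_, rfl⟩
  have hχP : ∀ g : G, χ g = 1 ↔ ∃ k ∈ K, k * g ∈ N := by
    intro g
    rw [hχdef]
    by_cases hP : ∃ k ∈ K, k * g ∈ N
    · simp only [hP, if_true]
    · simp only [hP, if_false]
      exact ⟨fun h => absurd h hm11, fun h => absurd h (by simp)⟩
  have hχpm : ∀ g : G, χ g = 1 ∨ χ g = -1 := fun g => Int.units_eq_one_or (χ g)
  -- reduction to the two-point stabilizer
  have hL1 : ∀ g : G, g • a = a → ∃ k ∈ K, (k * g) • a = a ∧ (k * g) • b = b := by
    intro g hg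
    have hgb : g • b ≠ a := by
      intro h
      rw [← hg] at h
      exact hab (MulAction.injective g h).symm
    obtain ⟨k, hk, hkb⟩ := hK2 (g • b) b hgb (Ne.symm hab)
    exact ⟨k, hk, by rw [mul_smul, hg, hK1 k hk], by rw [mul_smul, hkb]⟩
  have hL2 : ∀ g : G, ∀ k ∈ K, (k * g) • a = a → (k * g) • b = b →
      ((∃ k' ∈ K, k' * g ∈ N) ↔ k * g ∈ N) := by
    intro g k hk hka hkb
    constructor
    · rintro ⟨k', hk', hN'⟩
      have h1 : k * k'⁻¹ = 1 := by
        apply hKb _ (K.mul_mem hk (K.inv_mem hk'))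
        have h2 : k * k'⁻¹ = (k * g) * (k' * g)⁻¹ := by group
        rw [h2, mul_smul, inv_smul_eq_iff.mpr ((hN1 _ hN').2).symm, hkb]
      have h3 : k = k' := by
        have := mul_inv_eq_one.mp h1
        exact this
      rw [h3]; exact hN'
    · intro h
      exact ⟨k, hk, h⟩
  have hχH : ∀ h : G, h • a = a → h • b = b → (χ h = 1 ↔ h ∈ N) := by
    intro h ha hb
    rw [hχP]
    have := hL2 h 1 K.one_mem (by rw [one_mul]; exact ha) (by rw [one_mul]; exact hb)
    rw [one_mul] at this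
    exact this
  have hχmul : ∀ x ∈ stabilizer G a, ∀ y ∈ stabilizer G a, χ (x * y) = χ x * χ y := by
    intro x hx y hy
    rw [mem_stabilizer_iff] at hx hy
    obtain ⟨kx, hkx, hxa, hxb⟩ := hL1 x hx
    obtain ⟨ky, hky, hya, hyb⟩ := hL1 y hy
    have hk'' : kx * (x * ky * x⁻¹) ∈ K := K.mul_mem hkx (hK4 x hx ky hky)
    have heq : kx * (x * ky * x⁻¹) * (x * y) = (kx * x) * (ky * y) := by group
    have hxya : (kx * (x * ky * x⁻¹) * (x * y)) • a = a := by
      rw [heq, mul_smul, hya, hxa]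
    have hxyb : (kx * (x * ky * x⁻¹) * (x * y)) • b = b := by
      rw [heq, mul_smul, hyb, hxb]
    have h1 := hL2 (x * y) _ hk'' hxya hxyb
    rw [heq, hN2 _ _ hxa hxb hya hyb, ← hL2 x kx hkx hxa hxb, ← hL2 y ky hky hya hyb,
      ← hχP, ← hχP, ← hχP] at h1
    have hne : ∀ u : ℤˣ, u ≠ 1 → u = -1 := fun u hu =>
      (Int.units_eq_one_or u).resolve_left hu
    rcases hχpm x with h2 | h2 <;> rcases hχpm y with h3 | h3
    · have h4 : χ (x * y) = 1 := h1.mpr ⟨fun _ => h3, fun _ => h2⟩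
      rw [h4, h2, h3, one_mul]
    · have h4 : χ (x * y) ≠ 1 := by
        intro h5
        have h6 := (h1.mp h5).mp h2
        rw [h3] at h6
        exact hm11 h6
      rw [hne _ h4, h2, h3, one_mul]
    · have h4 : χ (x * y) ≠ 1 := by
        intro h5
        have h6 := (h1.mp h5).mpr h3
        rw [h2] at h6
        exact hm11 h6
      rw [hne _ h4, h2, h3, mul_one]
    · have h4 : χ (x * y) = 1 := by
        apply h1.mpr
        constructor
        · intro h5
          rw [h2] at h5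
          exact absurd h5 hm11
        · intro h5
          rw [h3] at h5
          exact absurd h5 hm11
      rw [h4, h2, h3]
      decide
  have hχK : ∀ k ∈ K, χ k = 1 := by
    intro k hk
    rw [hχP]
    exact ⟨k⁻¹, K.inv_mem hk, by rw [inv_mul_cancel]; exact N.one_mem⟩
  have hχ1 : χ 1 = 1 := hχK 1 K.one_mem
  have hχinv : ∀ x ∈ stabilizer G a, χ x * χ x⁻¹ = 1 := by
    intro x hx
    rw [← hχmul x hx x⁻¹ ((stabilizer G a).inv_mem hx), mul_inv_cancel, hχ1]
  -- conjugation by `s` on the two-point stabilizer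
  have hsH : ∀ h : G, h • a = a → h • b = b →
      (s * h * s) • a = a ∧ (s * h * s) • b = b ∧ χ (s * h * s) = χ h := by
    intro h ha hb
    have h1 : (s * h * s) • a = a := by rw [mul_smul, mul_smul, hsa, hb, hsb]
    have h2 : (s * h * s) • b = b := by rw [mul_smul, mul_smul, hsb, ha, hsa]
    refine ⟨h1, h2, ?_⟩
    have h3 : s * h * s ∈ N ↔ h ∈ N := by
      constructor
      · intro h4
        have h5 := hN3 _ h4
        have h6 : s * (s * h * s) * s = h := by
          calc s * (s * h * s) * s = (s * s) * h * (s * s) := by group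
            _ = h := by rw [hs2, one_mul, mul_one]
        rw [h6] at h5
        exact h5
      · exact hN3 h
    rcases hχpm h with h4 | h4
    · rw [h4, hχH _ h1 h2, h3, ← hχH h ha hb, h4]
    · rcases hχpm (s * h * s) with h5 | h5
      · exfalso
        rw [hχH _ h1 h2, h3, ← hχH h ha hb, h4] at h5
        exact hm11 h5
      · rw [h4, h5]
  -- decomposition of the point stabilizer
  have hdec : ∀ g ∈ stabilizer G a, ∃ h ∈ stabilizer G a, ∃ k ∈ K, g = h * k ∧
      s * h * s ∈ stabilizer G a ∧ χ (s * h * s) = χ h := by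
    intro g hg
    rw [mem_stabilizer_iff] at hg
    have hginv : g⁻¹ • a = a := by rw [inv_smul_eq_iff, hg]
    have hgb : g⁻¹ • b ≠ a := by
      intro h
      rw [← hginv] at h
      exact hab (MulAction.injective g⁻¹ h).symm
    obtain ⟨k, hk, hkb⟩ := hK2 (g⁻¹ • b) b hgb (Ne.symm hab)
    have hka : (g * k⁻¹) • a = a := by
      rw [mul_smul, inv_smul_eq_iff.mpr (hK1 k hk).symm, hg]
    have hkb' : (g * k⁻¹) • b = b := by
      rw [mul_smul, inv_smul_eq_iff.mpr hkb.symm, smul_inv_smul]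
    obtain ⟨h1, -, h3⟩ := hsH _ hka hkb'
    exact ⟨g * k⁻¹, mem_stabilizer_iff.mpr hka, k, hk, by group, mem_stabilizer_iff.mpr h1, h3⟩
  -- Bruhat decomposition
  have hG : ∀ g : G, g ∈ stabilizer G a ∨ ∃ g' ∈ stabilizer G a, ∃ k ∈ K, g = g' * s * k := by
    intro g
    by_cases hg : g • a = a
    · left; exact mem_stabilizer_iff.mpr hg
    · right
      have hginv : g⁻¹ • a ≠ a := by
        intro h
        apply hg
        rw [inv_smul_eq_iff] at h
        exact h.symm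
      obtain ⟨k, hk, hkb⟩ := hK2 (g⁻¹ • a) b hginv (Ne.symm hab)
      refine ⟨g * k⁻¹ * s, ?_, k, hk, ?_⟩
      · rw [mem_stabilizer_iff, mul_smul, mul_smul, hsa, inv_smul_eq_iff.mpr hkb.symm,
          smul_inv_smul]
      · calc g = g * k⁻¹ * (s * s) * k := by rw [hs2]; group
          _ = g * k⁻¹ * s * s * k := by group
  -- the constant
  obtain ⟨k₀, hk₀, hk₀c⟩ := hK2 b c (Ne.symm hab) (Ne.symm hac)
  have hk₀1 : k₀ ≠ 1 := by
    intro h
    rw [h, one_smul] at hk₀c
    exact hbc hk₀c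
  have hnotB : ∀ k ∈ K, k ≠ 1 → s * k * s ∉ stabilizer G a := by
    intro k hk hk1 hmem
    rw [mem_stabilizer_iff, mul_smul, mul_smul, hsa] at hmem
    have h1 : k • b = b := by
      have h2 : s • (k • b) = s • b := by rw [hmem, hsb]
      exact MulAction.injective s h2
    exact hk1 (hKb k hk h1)
  obtain ⟨β₀, hβ₀, κ₀, hκ₀, hβκ⟩ := (hG (s * k₀ * s)).resolve_left (hnotB k₀ hk₀ hk₀1)
  have hε : ∀ k ∈ K, k ≠ 1 → ∃ g ∈ stabilizer G a, ∃ k' ∈ K, s * k * s = g * s * k' ∧
      χ g = χ β₀ := by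
    intro k hk hk1
    -- `k` is conjugate to `k₀` under the two-point stabilizer
    have h0a : k₀ • b ≠ a := by
      intro h
      have : k₀ • b = k₀ • a := by rw [h, hK1 k₀ hk₀]
      exact hab (MulAction.injective k₀ this).symm
    have h0b : k₀ • b ≠ b := fun h => hk₀1 (hKb k₀ hk₀ h)
    have h1a : k • b ≠ a := by
      intro h
      have : k • b = k • a := by rw [h, hK1 k hk]
      exact hab (MulAction.injective k this).symm
    have h1b : k • b ≠ b := fun h => hk1 (hKb k hk h)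
    obtain ⟨h, hha, hhb, hhk⟩ := hS.ex hab (Ne.symm h0a) (Ne.symm h0b) hab (Ne.symm h1a)
      (Ne.symm h1b)
    have hconj : h * k₀ * h⁻¹ = k := by
      have h2 : k⁻¹ * (h * k₀ * h⁻¹) = 1 := by
        apply hKb _ (K.mul_mem (K.inv_mem hk) (hK4 h hha k₀ hk₀))
        rw [mul_smul, mul_smul, mul_smul, inv_smul_eq_iff.mpr hhb.symm, hhk, inv_smul_smul]
      exact (inv_mul_eq_one.mp h2).symm
    obtain ⟨hs1, hs2', hs3⟩ := hsH h hha hhb
    have hhB : h ∈ stabilizer G a := mem_stabilizer_iff.mpr hha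
    have hshsB : s * h * s ∈ stabilizer G a := mem_stabilizer_iff.mpr hs1
    refine ⟨(s * h * s) * β₀ * h⁻¹, ?_, (s * h * s) * κ₀ * (s * h * s)⁻¹, ?_, ?_, ?_⟩
    · exact (stabilizer G a).mul_mem ((stabilizer G a).mul_mem hshsB hβ₀)
        ((stabilizer G a).inv_mem hhB)
    · exact hK4 _ hs1 κ₀ hκ₀
    · rw [← hconj]
      have e1 : s * (h * k₀ * h⁻¹) * s = (s * h * s) * (s * k₀ * s) * (s * h⁻¹ * s) := by
        calc s * (h * k₀ * h⁻¹) * s
            = s * h * (s * s) * k₀ * (s * s) * h⁻¹ * s := by rw [hs2]; group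
          _ = (s * h * s) * (s * k₀ * s) * (s * h⁻¹ * s) := by group
      have e2 : s * h⁻¹ * s = (s * h * s)⁻¹ := by
        rw [mul_inv_rev, mul_inv_rev, hsinv]; group
      have e3 : s * (s * h * s)⁻¹ * s = h⁻¹ := by
        rw [mul_inv_rev, mul_inv_rev, hsinv]
        calc s * (s * (h⁻¹ * s)) * s = (s * s) * h⁻¹ * (s * s) := by group
          _ = h⁻¹ := by rw [hs2, one_mul, mul_one]
      rw [e1, hβκ, e2]
      calc s * h * s * (β₀ * s * κ₀) * (s * h * s)⁻¹
          = s * h * s * β₀ * (s * (s * h * s)⁻¹ * (s * s)) * ((s * h * s) * κ₀ * (s * h * s)⁻¹) := by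
            rw [hs2]; group
        _ = s * h * s * β₀ * (s * (s * h * s)⁻¹ * s) * s * ((s * h * s) * κ₀ * (s * h * s)⁻¹) := by
            group
        _ = s * h * s * β₀ * h⁻¹ * s * (s * h * s * κ₀ * (s * h * s)⁻¹) := by rw [e3]
    · rw [hχmul _ ((stabilizer G a).mul_mem hshsB hβ₀) _ ((stabilizer G a).inv_mem hhB),
        hχmul _ hshsB _ hβ₀, hs3, mul_comm (χ h) (χ β₀), mul_assoc, hχinv h hhB, mul_one]
  obtain ⟨φ, hφ, -⟩ := exists_hom_extension (stabilizer G a) K hKB s hs2 hsB χ hχmul hχK hdec hG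
    (χ β₀) hε
  refine ⟨φ, fun h ha hb => ?_⟩
  rw [hφ h (mem_stabilizer_iff.mpr ha)]
  exact hχH h ha hb

end act

end Cfsg.Agent.Lib.Helper17.Sh3
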