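/-
helper17: a sharply 3-transitive group of even degree has a subgroup of index two
(a surjective homomorphism onto the group of units of the integers).
-/
import Mathlib
import Cfsg.Agent.Lib.Helper17.Sh3I
import Cfsg.Agent.Lib.Helper17.Sh3N
import Cfsg.Agent.S0729

set_option autoImplicit false

namespace Cfsg.Agent.Lib.Helper17.Sh3

open Subgroup MulAction Cfsg.Agent.Lib.Helper9

/-- **A sharply 3-transitive permutation group of even degree has a subgroup of index two.** -/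
theorem exists_surjective_sign_perm {α : Type*} [Fintype α] [DecidableEq α]
    (heven : Even (Fintype.card α)) (h4 : 4 ≤ Fintype.card α) (G : Subgroup (Equiv.Perm α))
    (h3 : MulAction.IsMultiplyPretransitive G α 3)
    (hsharp : ∀ x : Fin 3 ↪ α, MulAction.stabilizer G x = ⊥) :
    ∃ φ : G →* ℤˣ, Function.Surjective φ := by
  have hS3 : Sharp3 G α := sharp3_of_isMultiplyPretransitive h3 hsharp
  have hc3 : 3 ≤ Nat.card α := by rw [Nat.card_eq_fintype_card]; omega
  obtain ⟨a, b, c, hab, hac, hbc⟩ := Fintype.two_lt_card_iff.mp (show 2 < Fintype.card α by omega)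
  obtain ⟨s, hsa, hsb, hsc⟩ := hS3.ex hab hac hbc (Ne.symm hab) hbc hac
  have hs2 : s * s = 1 := by
    apply hS3.uniq hab hac hbc
    · rw [mul_smul, hsa, hsb]
    · rw [mul_smul, hsb, hsa]
    · rw [mul_smul, hsc, hsc]
  have hsinv : s⁻¹ = s := inv_eq_of_mul_eq_one_right hs2
  obtain ⟨K, hK1, hK2, hK3, hK4⟩ := exists_kernel_sub hS3 hc3 a
  -- the subgroup of index two of the two-point stabilizer
  obtain ⟨N, hNle, hNidx, hNs⟩ : ∃ N : Subgroup G, N ≤ stabilizer G a ⊓ stabilizer G b ∧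
      N.relIndex (stabilizer G a ⊓ stabilizer G b) = 2 ∧ ∀ n ∈ N, s * n * s⁻¹ ∈ N := by
    by_cases h6 : 6 ≤ Fintype.card α
    · obtain ⟨N, h1, -, h2, h3'⟩ :=
        Cfsg.Agent.S0729.result heven h6 G h3 hsharp hab hac hbc s hsa hsb hsc
      exact ⟨N, h1, h2, h3'⟩
    · have hc4 : Fintype.card α = 4 := by
        obtain ⟨k, hk⟩ := heven
        omega
      refine ⟨⊥, bot_le, ?_, ?_⟩
      · rw [Subgroup.relIndex_bot_left]
        obtain ⟨p, j, -, -, hcard, N', -, -, -, hN'card, hHcard, -⟩ :=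
          exists_kernel_data hS3 hc3 hab
        rw [Nat.card_eq_fintype_card, hc4] at hcard
        omega
      · intro n hn
        rw [Subgroup.mem_bot] at hn
        rw [hn, mul_one, hsinv, hs2]
        exact Subgroup.one_mem _
  have hmemH : ∀ x : G, x • a = a → x • b = b → x ∈ stabilizer G a ⊓ stabilizer G b :=
    fun x ha hb => Subgroup.mem_inf.mpr ⟨mem_stabilizer_iff.mpr ha, mem_stabilizer_iff.mpr hb⟩
  have hN1 : ∀ n ∈ N, n • a = a ∧ n • b = b := by
    intro n hn
    obtain ⟨h1, h2⟩ := Subgroup.mem_inf.mp (hNle hn)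
    exact ⟨mem_stabilizer_iff.mp h1, mem_stabilizer_iff.mp h2⟩
  have hN2 : ∀ x y : G, x • a = a → x • b = b → y • a = a → y • b = b →
      (x * y ∈ N ↔ (x ∈ N ↔ y ∈ N)) := by
    intro x y hxa hxb hya hyb
    have hidx : (N.subgroupOf (stabilizer G a ⊓ stabilizer G b)).index = 2 := hNidx
    have := Subgroup.mul_mem_iff_of_index_two hidx
      (a := (⟨x, hmemH x hxa hxb⟩ : ↥(stabilizer G a ⊓ stabilizer G b)))
      (b := (⟨y, hmemH y hya hyb⟩ : ↥(stabilizer G a ⊓ stabilizer G b)))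
    simp only [Subgroup.mem_subgroupOf, Subgroup.coe_mul] at this
    exact this
  have hN3 : ∀ n ∈ N, s * n * s ∈ N := by
    intro n hn
    have := hNs n hn
    rw [hsinv] at this
    exact this
  obtain ⟨φ, hφ⟩ := exists_sign_hom hS3 hab hac hbc s hsa hsb hsc K hK1 hK2 hK3 hK4 N hN1 hN2 hN3
  refine ⟨φ, ?_⟩
  -- an element outside `N`
  have hnle : ¬ (stabilizer G a ⊓ stabilizer G b) ≤ N := by
    intro hle
    have := Subgroup.relIndex_eq_one.mpr hle
    rw [hNidx] at this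
    omega
  obtain ⟨h, hhH, hhN⟩ := SetLike.not_le_iff_exists.mp hnle
  obtain ⟨h1, h2⟩ := Subgroup.mem_inf.mp hhH
  rw [mem_stabilizer_iff] at h1 h2
  have hφh : φ h = -1 := by
    rcases Int.units_eq_one_or (φ h) with h5 | h5
    · exact absurd ((hφ h h1 h2).mp h5) hhN
    · exact h5
  intro u
  rcases Int.units_eq_one_or u with hu | hu
  · exact ⟨1, by rw [map_one, hu]⟩
  · exact ⟨h, by rw [hφh, hu]⟩

/-- **A faithful sharply 3-transitive group of even degree has a subgroup of index two.** -/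
theorem exists_surjective_sign {G Ω : Type*} [Group G] [MulAction G Ω] [Fintype Ω]
    [FaithfulSMul G Ω] (heven : Even (Fintype.card Ω)) (h4 : 4 ≤ Fintype.card Ω)
    (h3 : MulAction.IsMultiplyPretransitive G Ω 3)
    (hsharp : ∀ t : Fin 3 ↪ Ω, MulAction.stabilizer G t = ⊥) :
    ∃ φ : G →* ℤˣ, Function.Surjective φ := by
  classical
  obtain ⟨ρ, hρdef⟩ : ∃ ρ : G →* Equiv.Perm Ω, ρ = MulAction.toPermHom G Ω := ⟨_, rfl⟩
  have hρa : ∀ (g : G) (x : Ω), ρ g x = g • x := by
    intro g x; rw [hρdef]; rfl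
  have hρinj : Function.Injective ρ := by
    rw [hρdef]; exact MulAction.toPerm_injective
  obtain ⟨G', hG'⟩ : ∃ G' : Subgroup (Equiv.Perm Ω), G' = ρ.range := ⟨_, rfl⟩
  have hsm : ∀ (g : G') (x : Ω), g • x = (g : Equiv.Perm Ω) x := fun g x => rfl
  have hmemG' : ∀ g : G', ∃ k : G, ρ k = (g : Equiv.Perm Ω) := by
    intro g
    have h1 : (g : Equiv.Perm Ω) ∈ ρ.range := by rw [← hG']; exact g.2
    exact h1
  have hρmem : ∀ g : G, ρ g ∈ G' := fun g => by rw [hG']; exact ⟨g, rfl⟩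
  have h3' : MulAction.IsMultiplyPretransitive G' Ω 3 := by
    refine ⟨fun x y => ?_⟩
    obtain ⟨g, hg⟩ := h3.exists_smul_eq x y
    refine ⟨⟨ρ g, hρmem g⟩, ?_⟩
    ext i
    rw [Function.Embedding.smul_apply, hsm]
    show ρ g (x i) = y i
    rw [hρa, ← hg]
    rfl
  have hsharp' : ∀ t : Fin 3 ↪ Ω, MulAction.stabilizer G' t = ⊥ := by
    intro t
    rw [eq_bot_iff]
    intro g hg
    rw [MulAction.mem_stabilizer_iff] at hg
    obtain ⟨k, hk⟩ := hmemG' g
    have hk1 : k ∈ MulAction.stabilizer G t := by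
      rw [MulAction.mem_stabilizer_iff]
      ext i
      rw [Function.Embedding.smul_apply, ← hρa, hk]
      have := congrArg (fun f : Fin 3 ↪ Ω => f i) hg
      exact this
    rw [hsharp t, Subgroup.mem_bot] at hk1
    rw [Subgroup.mem_bot]
    apply Subtype.ext
    rw [← hk, hk1, map_one]; rfl
  obtain ⟨φ, hφ⟩ := exists_surjective_sign_perm heven h4 G' h3' hsharp'
  refine ⟨φ.comp (ρ.codRestrict G' hρmem), ?_⟩
  intro u
  obtain ⟨g', hg'⟩ := hφ u
  obtain ⟨k, hk⟩ := hmemG' g'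
  refine ⟨k, ?_⟩
  rw [MonoidHom.comp_apply, ← hg']
  congr 1
  exact Subtype.ext hk

end Cfsg.Agent.Lib.Helper17.Sh3
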