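/-
helper17: a Zassenhaus group which is sharply 3-transitive of even degree is not simple;
consequences for simple Zassenhaus groups with two-point stabilizers of even order.
-/
import Mathlib
import Cfsg.Agent.Lib.Helper17.Sh3O
import Cfsg.Agent.Lib.Helper5.ZPslF
import Cfsg.Agent.S0741

set_option autoImplicit false

namespace Cfsg.Agent.Lib.Helper17.Sh3

open Subgroup MulAction Cfsg.Agent.Lib.Helper9 Cfsg.Agent.Lib.Helper5.ZPsl
  Cfsg.Agent.Lib.Helper5.Zass Cfsg.Agent.Lib.Helper5.ZassOdd

variable {G Ω : Type*} [Group G] [MulAction G Ω]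

/-- in a simple Zassenhaus group with two-point stabilizers of even order `d`, the degree is
`2 d + 2` -/
theorem card_eq_of_simple_even [Finite G] [Fintype Ω] (hZ : Cfsg.IsZassenhausGroup G Ω)
    [IsSimpleGroup G] {a b : Ω} (hab : a ≠ b)
    (heven : Even (Nat.card ↥(stabilizer G a ⊓ stabilizer G b))) :
    2 * Nat.card ↥(stabilizer G a ⊓ stabilizer G b) + 2 = Fintype.card Ω := by
  classical
  have hfaith : FaithfulSMul G Ω := hZ.1
  have h4 := zass_four hZ
  have hle := Cfsg.Agent.S0741.result hZ hab heven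
  obtain ⟨d, hd⟩ : ∃ d, d = Nat.card ↥(stabilizer G a ⊓ stabilizer G b) := ⟨_, rfl⟩
  rw [← hd] at hle heven ⊢
  rcases Nat.lt_or_ge (Fintype.card Ω - 2) (2 * d) with hlt | hge
  · exfalso
    obtain ⟨h3, hsharp⟩ := sharp_three_of_large hZ hab (by rw [← hd]; exact hlt)
    have hS3 : Sharp3 G Ω := sharp3_of_isMultiplyPretransitive h3 hsharp
    have hc3 : 3 ≤ Nat.card Ω := by rw [Nat.card_eq_fintype_card]; omega
    obtain ⟨p, j, -, -, hcard, N', -, -, -, hN'card, hHcard, -⟩ :=
      exists_kernel_data hS3 hc3 hab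
    rw [Nat.card_eq_fintype_card] at hcard
    rw [← hd] at hHcard
    have hdeq : d + 2 = Fintype.card Ω := by omega
    have hevenΩ : Even (Fintype.card Ω) := by
      rw [← hdeq]
      exact heven.add (by decide)
    obtain ⟨φ, hφ⟩ := exists_surjective_sign hevenΩ h4 h3 hsharp
    rcases IsSimpleGroup.eq_bot_or_eq_top_of_normal φ.ker inferInstance with hk | hk
    · -- injective: `G` is too small
      have hinj : Function.Injective φ := (MonoidHom.ker_eq_bot_iff φ).mp hk
      have h1 := Nat.card_le_card_of_injective φ hinj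
      have hu : Nat.card ℤˣ = 2 := by rw [Nat.card_eq_fintype_card, Fintype.card_units_int]
      rw [hu] at h1
      have h2 := two_trans_card hZ.2.1 hab
      rw [← hd] at h2
      have hdpos : 0 < d := by rw [hd]; exact Nat.card_pos
      have h5 : 4 * 3 * 1 ≤ Fintype.card Ω * (Fintype.card Ω - 1) * d :=
        Nat.mul_le_mul (Nat.mul_le_mul h4 (by omega)) hdpos
      omega
    · -- trivial: not surjective
      obtain ⟨g, hg⟩ := hφ (-1)
      have h1 : g ∈ φ.ker := by rw [hk]; exact Subgroup.mem_top g
      rw [MonoidHom.mem_ker] at h1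
      rw [h1] at hg
      exact absurd hg (by decide)
  · omega

end Cfsg.Agent.Lib.Helper17.Sh3
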