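/-
helper17: the two-point stabilizer of a Zassenhaus group acts fixed-point-freely on the kernel
of the point stabilizer (it is a Frobenius complement); cyclic when commutative.
-/
import Mathlib
import Cfsg.Agent.Lib.Helper17.ZsHas
import Cfsg.Agent.Lib.Helper5.ZassNormal

set_option autoImplicit false

namespace Cfsg.Agent.Lib.Helper17.Sh3

open Subgroup MulAction Cfsg.Agent.Lib.Helper5.Zass Cfsg.Agent.Lib.Helper17.Zs

universe u v

variable {G : Type u} {Ω : Type v} [Group G] [MulAction G Ω]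

/-- the two-point stabilizer of a Zassenhaus group has a free linear representation -/
theorem hasFree_two_point [Finite G] [Finite Ω] (hZ : Cfsg.IsZassenhausGroup G Ω) {a b : Ω}
    (hab : a ≠ b) (hnt : Nontrivial ↥(stabilizer G a ⊓ stabilizer G b : Subgroup G)) :
    HasFree.{u, u} ↥(stabilizer G a ⊓ stabilizer G b : Subgroup G) := by
  classical
  obtain ⟨K, hK1, hK2, hK3, hK4⟩ := zass_kernel hZ a
  have hLmem : ∀ g : ↥(stabilizer G a), (g : G) • a = a := fun g => mem_stabilizer_iff.mp g.2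
  obtain ⟨KL, hKL⟩ : ∃ KL : Subgroup ↥(stabilizer G a), KL = K.subgroupOf (stabilizer G a) :=
    ⟨_, rfl⟩
  have hKLmem : ∀ n : ↥(stabilizer G a), n ∈ KL ↔ PK a (n : G) := by
    intro n; rw [hKL, Subgroup.mem_subgroupOf, hK1]
  have hKLn : KL.Normal := by
    refine ⟨fun n hn g => ?_⟩
    rw [hKLmem] at hn ⊢
    have hga : (g : G) • a = a := hLmem g
    obtain ⟨hna, hn'⟩ := hn
    refine ⟨?_, ?_⟩
    · change ((g : G) * (n : G) * (g : G)⁻¹) • a = a
      rw [mul_smul, mul_smul, inv_smul_eq_iff.mpr hga.symm, hna, hga]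
    · rcases hn' with h1 | h1
      · left
        change (g : G) * (n : G) * (g : G)⁻¹ = 1
        rw [h1]; group
      · right
        intro c hc
        change ((g : G) * (n : G) * (g : G)⁻¹) • c = c at hc
        have h2 : (n : G) • ((g : G)⁻¹ • c) = (g : G)⁻¹ • c := by
          have := congrArg (fun z => (g : G)⁻¹ • z) hc
          simpa [mul_smul] using this
        have h3 := h1 _ h2
        rw [inv_smul_eq_iff] at h3
        rw [h3, hga]
  have hKLnt : Nontrivial KL := by
    obtain ⟨b', c', hb', hc', hbc'⟩ := zass_two_more hZ a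
    obtain ⟨k, hk, hkc⟩ := hK3 b' c' hb' hc'
    have hkL : k ∈ stabilizer G a := mem_stabilizer_iff.mpr ((hK1 k).mp hk).1
    have h1 : (⟨k, hkL⟩ : ↥(stabilizer G a)) ∈ KL := by
      rw [hKL, Subgroup.mem_subgroupOf]; exact hk
    refine ⟨⟨⟨⟨k, hkL⟩, h1⟩, 1, ?_⟩⟩
    intro h
    have h2 : k = 1 := congrArg (fun z : KL => ((z : ↥(stabilizer G a)) : G)) h
    rw [h2, one_smul] at hkc
    exact hbc' hkc
  let α : ↥(stabilizer G a ⊓ stabilizer G b : Subgroup G) →* MulAut KL :=
    (MulAut.conjNormal : ↥(stabilizer G a) →* MulAut KL).comp (Subgroup.inclusion inf_le_left)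
  have hα : ∀ (g : ↥(stabilizer G a ⊓ stabilizer G b : Subgroup G)) (k : KL),
      (((α g k : KL) : ↥(stabilizer G a)) : G) = (g : G) * (k : G) * (g : G)⁻¹ := by
    intro g k
    rfl
  refine hasFree_of_fpf α ?_
  intro g hg k hk
  by_contra hk1
  obtain ⟨kG, hkGdef⟩ : ∃ kG : G, kG = ((k : ↥(stabilizer G a)) : G) := ⟨_, rfl⟩
  obtain ⟨gG, hgGdef⟩ : ∃ gG : G, gG = (g : G) := ⟨_, rfl⟩
  have hkG : kG ≠ 1 := by
    intro h
    apply hk1
    apply Subtype.ext
    apply Subtype.ext
    rw [← hkGdef, h]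
    rfl
  have hPK : PK a kG := by
    rw [hkGdef]
    exact (hKLmem (k : ↥(stabilizer G a))).mp k.2
  obtain ⟨hka, hkfix⟩ := hPK
  have hkfix' : ∀ c : Ω, kG • c = c → c = a := hkfix.resolve_left hkG
  have hcomm : gG * kG * gG⁻¹ = kG := by
    rw [hkGdef, hgGdef, ← hα, hk]
  have hga : gG • a = a := by
    rw [hgGdef]
    exact mem_stabilizer_iff.mp (Subgroup.mem_inf.mp g.2).1
  have hgb : gG • b = b := by
    rw [hgGdef]
    exact mem_stabilizer_iff.mp (Subgroup.mem_inf.mp g.2).2
  have hkb_ne_b : kG • b ≠ b := fun h => hab (hkfix' b h).symm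
  have hkb_ne_a : kG • b ≠ a := by
    intro h
    have h2 : kG • b = kG • a := by rw [h, hka]
    exact hab (MulAction.injective _ h2).symm
  have hgkb : gG • (kG • b) = kG • b := by
    have h1 : gG * kG = kG * gG := by
      calc gG * kG = (gG * kG * gG⁻¹) * gG := by group
        _ = kG * gG := by rw [hcomm]
    rw [← mul_smul, h1, mul_smul, hgb]
  apply hg
  apply Subtype.ext
  have h1 : gG = 1 :=
    hZ.2.2.1 gG a b _ hab (Ne.symm hkb_ne_b) (Ne.symm hkb_ne_a) hga hgb hgkb
  rw [← hgGdef, h1]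
  rfl

end Cfsg.Agent.Lib.Helper17.Sh3
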