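/-
Helper lemmas (helper17) for S3048 (Aschbacher–Guralnick–Segev reduction for Sidki pairs):
generic tools. A minimal counterexample `(G, V)` to "a Sidki pair meets `O_2`" has `F*(G)` simple and
`G = V F*(G)`.
-/
import Mathlib
import Cfsg.Prelude.Def_SubgroupEmbedding
import Cfsg.Prelude.Def_Local
import Cfsg.Agent.Lib.Helper17.CharP
import Cfsg.Agent.Lib.Helper12.Cores

set_option autoImplicit false
universe u

namespace Cfsg.Agent.Lib.Helper17.SidkiRed

open Cfsg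

variable {G : Type u} [Group G]

theorem eq_one_of_sq_of_odd {x : G} (hx : Odd (orderOf x)) (h : x * x = 1) : x = 1 := by
  have h2 : x ^ 2 = 1 := by rw [pow_two]; exact h
  have h3 : orderOf x ∣ 2 := orderOf_dvd_of_pow_eq_one h2
  rcases (Nat.dvd_prime Nat.prime_two).1 h3 with h4 | h4
  · exact orderOf_eq_one_iff.1 h4
  · rw [h4] at hx; exact absurd hx (by decide)

theorem mem_of_sq_mem_of_odd {H : Subgroup G} {g : G} (hg : Odd (orderOf g)) (h : g * g ∈ H) :
    g ∈ H := by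
  obtain ⟨k, hk⟩ := hg
  have h1 : g = (g * g) ^ (k + 1) := by
    rw [← pow_two, ← pow_mul]
    have h2 : 2 * (k + 1) = orderOf g + 1 := by omega
    rw [h2, pow_succ, pow_orderOf_eq_one, one_mul]
  rw [h1]
  exact H.pow_mem h _

theorem odd_orderOf_mul {x y : G} (hx : Odd (orderOf x)) (hy : Odd (orderOf y))
    (hxy : x * y = y * x) : Odd (orderOf (x * y)) := by
  have h1 : orderOf (x * y) ∣ Nat.lcm (orderOf x) (orderOf y) :=
    (show Commute x y from hxy).orderOf_mul_dvd_lcm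
  have h2 : Nat.lcm (orderOf x) (orderOf y) ∣ orderOf x * orderOf y := Nat.lcm_dvd_mul _ _
  exact Odd.of_dvd_nat (hx.mul hy) (h1.trans h2)

theorem odd_orderOf_inv {x : G} (hx : Odd (orderOf x)) : Odd (orderOf x⁻¹) := by
  rwa [orderOf_inv]

theorem orderOf_conj' (x g : G) : orderOf (g * x * g⁻¹) = orderOf x := by
  have h := (MulAut.conj g).orderOf_eq x
  simpa [MulAut.conj_apply] using h

theorem odd_orderOf_conj {x : G} (hx : Odd (orderOf x)) (g : G) : Odd (orderOf (g * x * g⁻¹)) := by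
  rwa [orderOf_conj']

/-- an odd-order element inverted by an element of a normal subgroup lies in it -/
theorem mem_normal_of_inverted (C : Subgroup G) [hC : C.Normal] {d g : G} (hd : d ∈ C)
    (hg : Odd (orderOf g)) (hinv : d * g * d⁻¹ = g⁻¹) : g ∈ C := by
  have h1 : (g * g)⁻¹ ∈ C := by
    have h2 : (g * g)⁻¹ = d * (g * d⁻¹ * g⁻¹) := by
      calc (g * g)⁻¹ = g⁻¹ * g⁻¹ := by group
        _ = (d * g * d⁻¹) * g⁻¹ := by rw [hinv]
        _ = d * (g * d⁻¹ * g⁻¹) := by group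
    rw [h2]
    exact C.mul_mem hd (hC.conj_mem _ (C.inv_mem hd) g)
  have h3 : g * g ∈ C := by
    have := C.inv_mem h1
    rwa [inv_inv] at this
  exact mem_of_sq_mem_of_odd hg h3

/-- the inductive hypothesis on smaller groups -/
def MinG (G : Type u) [Group G] : Prop :=
  ∀ (H : Type u) [Group H] [Finite H] (W : Subgroup H), Nat.card H < Nat.card G →
    Cfsg.IsElementaryAbelian 2 W → W ≠ ⊥ → Cfsg.IsSidkiPair W → W ⊓ Cfsg.pCore 2 H ≠ ⊥

theorem card_lt_of_ne_top [Finite G] {H : Subgroup G} (hH : H ≠ ⊤) : Nat.card H < Nat.card G := by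
  apply lt_of_le_of_ne (Subgroup.card_le_card_group H)
  intro h
  exact hH ((Subgroup.card_eq_iff_eq_top H).mp h)

theorem isElementaryAbelian_of_le {W V : Subgroup G} (hV : Cfsg.IsElementaryAbelian 2 V)
    (hWV : W ≤ V) : Cfsg.IsElementaryAbelian 2 W := by
  refine ⟨⟨⟨fun a b => ?_⟩⟩, fun a ha => hV.2 a (hWV ha)⟩
  have := hV.1
  have h1 : (⟨a.1, hWV a.2⟩ : V) * ⟨b.1, hWV b.2⟩ = ⟨b.1, hWV b.2⟩ * ⟨a.1, hWV a.2⟩ :=
    mul_comm' _ _
  apply Subtype.ext
  have h2 := congrArg Subtype.val h1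
  simpa using h2

theorem comm_of_ea {V : Subgroup G} (hV : Cfsg.IsElementaryAbelian 2 V) {a b : G} (ha : a ∈ V)
    (hb : b ∈ V) : a * b = b * a := by
  have := hV.1
  have h1 : (⟨a, ha⟩ : V) * ⟨b, hb⟩ = ⟨b, hb⟩ * ⟨a, ha⟩ := mul_comm' _ _
  exact congrArg Subtype.val h1

theorem sq_of_ea {V : Subgroup G} (hV : Cfsg.IsElementaryAbelian 2 V) {a : G} (ha : a ∈ V) :
    a * a = 1 := by
  have := hV.2 a ha
  rwa [pow_two] at this

theorem inv_of_ea {V : Subgroup G} (hV : Cfsg.IsElementaryAbelian 2 V) {a : G} (ha : a ∈ V) :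
    a⁻¹ = a := inv_eq_of_mul_eq_one_right (sq_of_ea hV ha)

theorem isPGroup_of_ea {V : Subgroup G} (hV : Cfsg.IsElementaryAbelian 2 V) : IsPGroup 2 V := by
  intro a
  refine ⟨1, ?_⟩
  apply Subtype.ext
  simpa using hV.2 a.1 a.2


/-- the key consequence of minimality: a proper subgroup `H` with a relative Sidki pair `W` has an
element of `W` in a 2-subgroup normalized by `H`. -/
theorem exists_core_elt [Finite G] (hminG : MinG G) (H W : Subgroup G) (hH : H ≠ ⊤) (hWH : W ≤ H)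
    (hW : Cfsg.IsElementaryAbelian 2 W) (hW1 : W ≠ ⊥)
    (hS : ∀ h ∈ H, ∀ w ∈ W, Odd (orderOf h) → w * h * w⁻¹ = h⁻¹ →
      ∃ w' ∈ W, w' ≠ 1 ∧ w' * h = h * w') :
    ∃ w ∈ W, w ≠ 1 ∧ ∃ Q : Subgroup G, w ∈ Q ∧ Q ≤ H ∧ IsPGroup 2 Q ∧
      H ≤ Subgroup.normalizer (Q : Set G) := by
  have hcard : Nat.card H < Nat.card G := card_lt_of_ne_top hH
  have hea : Cfsg.IsElementaryAbelian 2 (W.subgroupOf H) := by
    refine ⟨⟨⟨fun a b => ?_⟩⟩, fun a ha => ?_⟩
    · apply Subtype.ext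
      apply Subtype.ext
      have h1 := comm_of_ea hW (a := (a.1 : G)) (b := (b.1 : G)) a.2 b.2
      simpa using h1
    · apply Subtype.ext
      have h1 := hW.2 (a : G) ha
      simpa using h1
  have hne : W.subgroupOf H ≠ ⊥ := by
    intro h
    apply hW1
    rw [eq_bot_iff]
    intro w hw
    have h1 : (⟨w, hWH hw⟩ : H) ∈ W.subgroupOf H := hw
    rw [h] at h1
    have h2 := Subgroup.mem_bot.1 h1
    exact Subgroup.mem_bot.2 (congrArg Subtype.val h2)
  have hSid : Cfsg.IsSidkiPair (W.subgroupOf H) := by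
    intro h v hv hodd hinv
    have hodd' : Odd (orderOf (h : G)) := by rwa [Subgroup.orderOf_coe]
    have hinv' : (v : G) * h * (v : G)⁻¹ = (h : G)⁻¹ := by
      have := congrArg Subtype.val hinv
      simpa using this
    obtain ⟨w', hw'W, hw'1, hw'c⟩ := hS h h.2 v hv hodd' hinv'
    refine ⟨⟨w', hWH hw'W⟩, hw'W, ?_, ?_⟩
    · intro h1
      exact hw'1 (congrArg Subtype.val h1)
    · exact Subtype.ext hw'c
  have hmain := hminG ↥H (W.subgroupOf H) hcard hea hne hSid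
  obtain ⟨x, hx, hx1⟩ : ∃ x : ↥H, x ∈ W.subgroupOf H ⊓ Cfsg.pCore 2 ↥H ∧ x ≠ 1 := by
    by_contra hcon
    push Not at hcon
    apply hmain
    rw [eq_bot_iff]
    intro x hx
    exact Subgroup.mem_bot.2 (hcon x hx)
  refine ⟨(x : G), hx.1, fun h => hx1 (Subtype.ext h), (Cfsg.pCore 2 ↥H).map H.subtype,
    ⟨x, hx.2, rfl⟩, Subgroup.map_subtype_le _, (pCore_isPGroup 2 ↥H).map _, ?_⟩
  haveI : (Cfsg.pCore 2 ↥H).Normal := pCore_normal 2 ↥H
  intro h hh
  have h1 : (⟨h, hh⟩ : H) ∈ Subgroup.normalizer ((Cfsg.pCore 2 ↥H : Subgroup ↥H) : Set ↥H) := by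
    rw [Subgroup.normalizer_eq_top]
    exact Subgroup.mem_top _
  exact Subgroup.le_normalizer_map H.subtype ⟨⟨h, hh⟩, h1, rfl⟩

/-- a 2-subgroup `Q` normalized by `H` centralizes every normal subgroup of `H` without nontrivial
normal 2-subgroups -/
theorem commute_of_core {Q H N : Subgroup G} (hQ : IsPGroup 2 Q) (hQH : Q ≤ H)
    (hHQ : H ≤ Subgroup.normalizer (Q : Set G)) (hNH : N ≤ H)
    (hHN : H ≤ Subgroup.normalizer (N : Set G))
    (hN : ∀ R : Subgroup G, R ≤ N → IsPGroup 2 R → N ≤ Subgroup.normalizer (R : Set G) → R = ⊥) :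
    ∀ q ∈ Q, ∀ n ∈ N, q * n = n * q := by
  have hR : Q ⊓ N = ⊥ := by
    apply hN _ inf_le_right (hQ.to_le inf_le_left)
    intro n hn
    rw [Subgroup.mem_normalizer_iff]
    intro x
    have h1 := (Subgroup.mem_normalizer_iff.1 (hHQ (hNH hn))) x
    have h2 := (Subgroup.mem_normalizer_iff.1 (hHN (hNH hn))) x
    rw [Subgroup.mem_inf, Subgroup.mem_inf, h1, h2]
  intro q hq n hn
  have h1 : q * n * q⁻¹ * n⁻¹ ∈ Q ⊓ N := by
    constructor
    · have h2 : n * q⁻¹ * n⁻¹ ∈ Q :=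
        (Subgroup.mem_normalizer_iff.1 (hHQ (hNH hn)) q⁻¹).1 (Q.inv_mem hq)
      have h3 : q * n * q⁻¹ * n⁻¹ = q * (n * q⁻¹ * n⁻¹) := by group
      rw [h3]
      exact Q.mul_mem hq h2
    · have h2 : q * n * q⁻¹ ∈ N := (Subgroup.mem_normalizer_iff.1 (hHN (hQH hq)) n).1 hn
      exact N.mul_mem h2 (N.inv_mem hn)
  rw [hR, Subgroup.mem_bot] at h1
  calc q * n = (q * n * q⁻¹ * n⁻¹) * (n * q) := by group
    _ = n * q := by rw [h1, one_mul]

/-- if `O_2(G) = 1`, a normal subgroup has no nontrivial normal 2-subgroups -/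
theorem no_normal_two_sub (hO : Cfsg.pCore 2 G = ⊥) (N : Subgroup G) [hN : N.Normal]
    (R : Subgroup G) (hRN : R ≤ N) (hR : IsPGroup 2 R)
    (hNR : N ≤ Subgroup.normalizer (R : Set G)) : R = ⊥ := by
  have : (Cfsg.pCore 2 ↥N).Characteristic := Cfsg.Agent.Lib.Helper12.pCore_characteristic' 2
  have hn : ((Cfsg.pCore 2 ↥N).map N.subtype).Normal := ConjAct.normal_of_characteristic_of_normal
  have hp : IsPGroup 2 ((Cfsg.pCore 2 ↥N).map N.subtype) := (pCore_isPGroup 2 ↥N).map _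
  have h1 : (Cfsg.pCore 2 ↥N).map N.subtype ≤ Cfsg.pCore 2 G := le_pCore _ hn hp
  have h2 : R.subgroupOf N ≤ Cfsg.pCore 2 ↥N := by
    apply le_pCore
    · exact (Subgroup.normal_subgroupOf_iff_le_normalizer hRN).2 hNR
    · exact hR.comap_subtype
  rw [eq_bot_iff, ← hO]
  intro r hr
  exact h1 ⟨⟨r, hRN hr⟩, h2 hr, rfl⟩

theorem no_normal_two_sub' (hO : Cfsg.pCore 2 G = ⊥) (M : Subgroup G) (hM : M.Normal)
    (hp : IsPGroup 2 M) : M = ⊥ := by
  rw [eq_bot_iff, ← hO]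
  exact le_pCore M hM hp

/-- if `E` normalizes `L` and consists of involutions, squares of elements of `L ⊔ E` lie in `L` -/
theorem sq_mem_of_mem_sup {L E : Subgroup G} (hE : E ≤ Subgroup.normalizer (L : Set G))
    (hE2 : ∀ e ∈ E, e * e = 1) {h : G} (hh : h ∈ L ⊔ E) : h * h ∈ L := by
  have h1 : (h : G) ∈ ((L ⊔ E : Subgroup G) : Set G) := hh
  rw [Subgroup.coe_mul_of_right_le_normalizer_left L E hE] at h1
  obtain ⟨l, hl, e, he, rfl⟩ := h1
  have h2 : e * l * e⁻¹ ∈ L := (Subgroup.mem_normalizer_iff.1 (hE he) l).1 hl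
  have h3 : e⁻¹ = e := inv_eq_of_mul_eq_one_right (hE2 e he)
  have h4 : l * e * (l * e) = l * (e * l * e⁻¹) * (e * e) := by group
  rw [h4, hE2 e he, mul_one]
  exact L.mul_mem hl h2

theorem odd_mem_of_mem_sup {L E : Subgroup G} (hE : E ≤ Subgroup.normalizer (L : Set G))
    (hE2 : ∀ e ∈ E, e * e = 1) {h : G} (hh : h ∈ L ⊔ E) (hodd : Odd (orderOf h)) : h ∈ L :=
  mem_of_sq_mem_of_odd hodd (sq_mem_of_mem_sup hE hE2 hh)

/-- existence of a minimal `P`-subgroup -/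
theorem exists_minimal_subgroup [Finite G] (P : Subgroup G → Prop) (h : ∃ N, P N) :
    ∃ N, P N ∧ ∀ M, P M → M ≤ N → M = N := by
  classical
  obtain ⟨N₀, hN₀⟩ := h
  have hwf : WellFounded (fun A B : Subgroup G => Nat.card A < Nat.card B) :=
    (measure (fun A : Subgroup G => Nat.card A)).wf
  obtain ⟨N, hN, hmin⟩ := hwf.has_min {N | P N} ⟨N₀, hN₀⟩
  refine ⟨N, hN, fun M hM hMN => ?_⟩
  by_contra hne
  have hlt : Nat.card M < Nat.card N := by
    apply lt_of_le_of_ne (Subgroup.card_le_of_le hMN)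
    intro h
    exact hne (Subgroup.eq_of_le_of_card_ge hMN h.ge)
  exact hmin M hM hlt

end Cfsg.Agent.Lib.Helper17.SidkiRed
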