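/-
Helper lemmas (helper17) for S3048: the minimal counterexample context and the case of a nonabelian
minimal normal subgroup `N` with `N V < G`.
-/
import Cfsg.Agent.Lib.Helper17.SidkiRedA

set_option autoImplicit false
universe u

namespace Cfsg.Agent.Lib.Helper17.SidkiRed

open Cfsg

variable {G : Type u} [Group G]

/-- the minimal counterexample context (with `O_2(G) = 1` already derived) -/
structure MC (V : Subgroup G) : Prop where
  ea : Cfsg.IsElementaryAbelian 2 V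
  ne : V ≠ ⊥
  sidki : Cfsg.IsSidkiPair V
  core : Cfsg.pCore 2 G = ⊥
  minG : MinG G
  minV : ∀ W : Subgroup G, Nat.card W < Nat.card V → Cfsg.IsElementaryAbelian 2 W → W ≠ ⊥ →
    ¬ Cfsg.IsSidkiPair W

namespace MC

variable [Finite G] {V : Subgroup G}

theorem sq (h : MC V) {a : G} (ha : a ∈ V) : a * a = 1 := sq_of_ea h.ea ha

theorem inv (h : MC V) {a : G} (ha : a ∈ V) : a⁻¹ = a := inv_of_ea h.ea ha

theorem comm (h : MC V) {a b : G} (ha : a ∈ V) (hb : b ∈ V) : a * b = b * a :=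
  comm_of_ea h.ea ha hb

/-- `(*)`: if `N V < G` for a normal subgroup `N`, then `C_V(N) ≠ 1`. -/
theorem star (h : MC V) (N : Subgroup G) [hN : N.Normal] (hNV : N ⊔ V ≠ ⊤) :
    ∃ v ∈ V, v ≠ 1 ∧ ∀ n ∈ N, v * n = n * v := by
  obtain ⟨w, hwV, hw1, Q, hwQ, hQH, hQ2, hHQ⟩ := exists_core_elt h.minG (N ⊔ V) V hNV le_sup_right
    h.ea h.ne (fun x _ w hw hodd hinv => h.sidki x w hw hodd hinv)
  refine ⟨w, hwV, hw1, ?_⟩
  have hnorm : N ⊔ V ≤ Subgroup.normalizer (N : Set G) := by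
    rw [Subgroup.normalizer_eq_top]; exact le_top
  exact commute_of_core hQ2 hQH hHQ le_sup_left hnorm
    (fun R hRN hR hNR => no_normal_two_sub h.core N R hRN hR hNR) w hwQ

/-- a normal subgroup containing `V` is everything -/
theorem normal_ge (h : MC V) (M : Subgroup G) [hM : M.Normal] (hVM : V ≤ M) : M = ⊤ := by
  by_contra hne
  obtain ⟨w, hwV, hw1, Q, hwQ, hQH, hQ2, hHQ⟩ := exists_core_elt h.minG M V hne hVM
    h.ea h.ne (fun x _ w hw hodd hinv => h.sidki x w hw hodd hinv)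
  have := no_normal_two_sub h.core M Q hQH hQ2 hHQ
  rw [this, Subgroup.mem_bot] at hwQ
  exact hw1 hwQ

/-- a proper nontrivial subgroup of `V` is not a Sidki pair -/
theorem notSidki (h : MC V) (D : Subgroup G) (hDV : D ≤ V) (hD : D ≠ V) (hD1 : D ≠ ⊥) :
    ∃ d ∈ D, ∃ g : G, Odd (orderOf g) ∧ d * g * d⁻¹ = g⁻¹ ∧
      ∀ d' ∈ D, d' ≠ 1 → d' * g ≠ g * d' := by
  have hlt : Nat.card D < Nat.card V := by
    apply lt_of_le_of_ne (Subgroup.card_le_of_le hDV)
    intro hc
    exact hD (Subgroup.eq_of_le_of_card_ge hDV hc.ge)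
  have h1 := h.minV D hlt (isElementaryAbelian_of_le h.ea hDV) hD1
  unfold Cfsg.IsSidkiPair at h1
  push Not at h1
  obtain ⟨g, d, hd, hodd, hinv, hno⟩ := h1
  exact ⟨d, hd, g, hodd, hinv, hno⟩

/-- Case B: a normal subgroup `N ≠ 1` with trivial centre and `N V < G` is impossible. -/
theorem caseB (h : MC V) (N : Subgroup G) [hN : N.Normal] (hN1 : N ≠ ⊥)
    (hZ : ∀ n ∈ N, (∀ m ∈ N, n * m = m * n) → n = 1) (hNV : N ⊔ V ≠ ⊤) : False := by
  classical
  set C : Subgroup G := Subgroup.centralizer (N : Set G) with hC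
  haveI hCn : C.Normal := Subgroup.normal_centralizer
  have hCmem : ∀ x, x ∈ C ↔ ∀ n ∈ N, x * n = n * x := by
    intro x
    rw [hC, Subgroup.mem_centralizer_iff]
    constructor
    · intro hx n hn; exact (hx n hn).symm
    · intro hx n hn; exact (hx n hn).symm
  have hCN : ∀ z, z ∈ C → z ∈ N → z = 1 := fun z hzC hzN => hZ z hzN ((hCmem z).1 hzC)
  set D : Subgroup G := V ⊓ C with hD
  have hD1 : D ≠ ⊥ := by
    obtain ⟨v, hvV, hv1, hvc⟩ := h.star N hNV
    intro hbot
    have : v ∈ D := ⟨hvV, (hCmem v).2 hvc⟩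
    rw [hbot, Subgroup.mem_bot] at this
    exact hv1 this
  have hDV : D ≠ V := by
    intro heq
    have hVC : V ≤ C := by rw [← heq]; exact inf_le_right
    have hCtop := h.normal_ge C hVC
    obtain ⟨n, hn, hn1⟩ := (Subgroup.ne_bot_iff_exists_ne_one).1 hN1 |> fun ⟨a, ha⟩ =>
      (⟨a.1, a.2, fun hh => ha (Subtype.ext hh)⟩ : ∃ n : G, n ∈ N ∧ n ≠ 1)
    apply hn1
    apply hZ n hn
    intro m hm
    have : m ∈ C := by rw [hCtop]; exact Subgroup.mem_top _
    exact ((hCmem m).1 this n hn).symm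
  obtain ⟨d, hdD, g, hgodd, hginv, hgno⟩ := h.notSidki D inf_le_left hDV hD1
  have hgC : g ∈ C := mem_normal_of_inverted C hdD.2 hgodd hginv
  -- E = C_V(g)
  set E : Subgroup G := V ⊓ Subgroup.centralizer ({g} : Set G) with hE
  have hEmem : ∀ x, x ∈ E ↔ x ∈ V ∧ x * g = g * x := by
    intro x
    rw [hE, Subgroup.mem_inf, Subgroup.mem_centralizer_iff]
    constructor
    · rintro ⟨h1, h2⟩; exact ⟨h1, (h2 g rfl).symm⟩
    · rintro ⟨h1, h2⟩
      refine ⟨h1, ?_⟩
      intro y hy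
      rw [Set.mem_singleton_iff] at hy
      rw [hy]; exact h2.symm
  have hE1 : E ≠ ⊥ := by
    obtain ⟨w, hwV, hw1, hwc⟩ := h.sidki g d hdD.1 hgodd hginv
    intro hbot
    have : w ∈ E := (hEmem w).2 ⟨hwV, hwc⟩
    rw [hbot, Subgroup.mem_bot] at this
    exact hw1 this
  have hEV : E ≤ V := inf_le_left
  have hED : ∀ x, x ∈ E → x ∈ D → x = 1 := by
    intro x hxE hxD
    by_contra hx1
    exact hgno x hxD hx1 ((hEmem x).1 hxE).2
  have hEnorm : E ≤ Subgroup.normalizer (N : Set G) := by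
    rw [Subgroup.normalizer_eq_top]; exact le_top
  have hE2 : ∀ e ∈ E, e * e = 1 := fun e he => h.sq (hEV he)
  have hHtop : N ⊔ E ≠ ⊤ := by
    intro htop
    apply hNV
    rw [eq_top_iff, ← htop]
    exact sup_le_sup_left hEV N
  obtain ⟨e₀, he₀E, he₀1, Q, he₀Q, hQH, hQ2, hHQ⟩ := exists_core_elt h.minG (N ⊔ E) E hHtop
    le_sup_right (isElementaryAbelian_of_le h.ea hEV) hE1 (by
      intro x hx e he hodd hinv
      have hxN : x ∈ N := odd_mem_of_mem_sup hEnorm hE2 hx hodd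
      have heV : e ∈ V := hEV he
      have heg : e * g = g * e := ((hEmem e).1 he).2
      have hgx : g * x = x * g := ((hCmem g).1 hgC x hxN)
      have hdx : d * x = x * d := ((hCmem d).1 hdD.2 x hxN)
      have hde : d * e = e * d := h.comm hdD.1 heV
      have hinv2 : (d * e) * (g * x) * (d * e)⁻¹ = (g * x)⁻¹ := by
        have h1 : e * g * e⁻¹ = g := by rw [heg]; group
        have h2 : d * x * d⁻¹ = x := by rw [hdx]; group
        have h3 : d * x⁻¹ * d⁻¹ = x⁻¹ := by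
          calc d * x⁻¹ * d⁻¹ = (d * x * d⁻¹)⁻¹ := by group
            _ = x⁻¹ := by rw [h2]
        calc (d * e) * (g * x) * (d * e)⁻¹
            = d * ((e * g * e⁻¹) * (e * x * e⁻¹)) * d⁻¹ := by group
          _ = d * (g * x⁻¹) * d⁻¹ := by rw [h1, hinv]
          _ = (d * g * d⁻¹) * (d * x⁻¹ * d⁻¹) := by group
          _ = g⁻¹ * x⁻¹ := by rw [hginv, h3]
          _ = (x * g)⁻¹ := by group
          _ = (g * x)⁻¹ := by rw [hgx]
      obtain ⟨w, hwV, hw1, hwc⟩ := h.sidki (g * x) (d * e) (V.mul_mem hdD.1 heV)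
        (odd_orderOf_mul hgodd hodd hgx) hinv2
      -- `w` centralizes both `g` and `x`
      have hwgC : w * g * w⁻¹ ∈ C := hCn.conj_mem g hgC w
      have hwxN : w * x * w⁻¹ ∈ N := hN.conj_mem x hxN w
      have hkey : (w * g * w⁻¹) * (w * x * w⁻¹) = g * x := by
        calc (w * g * w⁻¹) * (w * x * w⁻¹) = (w * (g * x)) * w⁻¹ := by group
          _ = (g * x * w) * w⁻¹ := by rw [hwc]
          _ = g * x := by group
      have hz : g⁻¹ * (w * g * w⁻¹) = x * (w * x * w⁻¹)⁻¹ := by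
        calc g⁻¹ * (w * g * w⁻¹) = g⁻¹ * ((w * g * w⁻¹) * (w * x * w⁻¹)) * (w * x * w⁻¹)⁻¹ := by
              group
          _ = g⁻¹ * (g * x) * (w * x * w⁻¹)⁻¹ := by rw [hkey]
          _ = x * (w * x * w⁻¹)⁻¹ := by group
      have hz1 : g⁻¹ * (w * g * w⁻¹) = 1 := by
        apply hCN
        · exact C.mul_mem (C.inv_mem hgC) hwgC
        · rw [hz]; exact N.mul_mem hxN (N.inv_mem hwxN)
      have hwg : w * g = g * w := by
        have : w * g * w⁻¹ = g := by
          calc w * g * w⁻¹ = g * (g⁻¹ * (w * g * w⁻¹)) := by group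
            _ = g := by rw [hz1, mul_one]
        calc w * g = (w * g * w⁻¹) * w := by group
          _ = g * w := by rw [this]
      have hwx : w * x = x * w := by
        have h5 : x * (w * x * w⁻¹)⁻¹ = 1 := by rw [← hz]; exact hz1
        have : w * x * w⁻¹ = x := by
          have h6 : x = w * x * w⁻¹ := by
            calc x = (x * (w * x * w⁻¹)⁻¹) * (w * x * w⁻¹) := by group
              _ = w * x * w⁻¹ := by rw [h5, one_mul]
          exact h6.symm
        calc w * x = (w * x * w⁻¹) * w := by group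
          _ = x * w := by rw [this]
      exact ⟨w, (hEmem w).2 ⟨hwV, hwg⟩, hw1, hwx⟩)
  have hnorm : N ⊔ E ≤ Subgroup.normalizer (N : Set G) := by
    rw [Subgroup.normalizer_eq_top]; exact le_top
  have hcomm := commute_of_core hQ2 hQH hHQ le_sup_left hnorm
    (fun R hRN hR hNR => no_normal_two_sub h.core N R hRN hR hNR) e₀ he₀Q
  exact he₀1 (hED e₀ he₀E ⟨hEV he₀E, (hCmem e₀).2 hcomm⟩)

end MC

end Cfsg.Agent.Lib.Helper17.SidkiRed
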