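/-
Helper lemmas (helper17) for S3048: an abelian minimal normal subgroup is impossible in a minimal
counterexample.
-/
import Cfsg.Agent.Lib.Helper17.SidkiRedB
import Cfsg.Agent.S0200
import Cfsg.Agent.S3012

set_option autoImplicit false
universe u

namespace Cfsg.Agent.Lib.Helper17.SidkiRed

open Cfsg

variable {G : Type u} [Group G]

theorem le_normalizer_of_commute (R X : Subgroup G) (h : ∀ x ∈ X, ∀ r ∈ R, x * r = r * x) :
    X ≤ Subgroup.normalizer (R : Set G) := by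
  intro x hx
  rw [Subgroup.mem_normalizer_iff]
  intro r
  constructor
  · intro hr
    have : x * r * x⁻¹ = r := by rw [h x hx r hr]; group
    rw [this]; exact hr
  · intro hr
    have h1 := h x hx _ hr
    have : r = x * r * x⁻¹ := by
      calc r = x⁻¹ * ((x * r * x⁻¹) * x) := by group
        _ = x⁻¹ * (x * (x * r * x⁻¹)) := by rw [h1]
        _ = x * r * x⁻¹ := by group
    rw [this]; exact hr

theorem isPGroup_zpowers_of_sq {w : G} (hw : w * w = 1) : IsPGroup 2 (Subgroup.zpowers w) := by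
  rintro ⟨z, hz⟩
  obtain ⟨i, rfl⟩ := Subgroup.mem_zpowers_iff.1 hz
  refine ⟨1, Subtype.ext ?_⟩
  have h1 : (w ^ i) ^ 2 = 1 := by
    rw [← zpow_natCast, ← zpow_mul, mul_comm, zpow_mul, zpow_natCast, pow_two, hw, one_zpow]
  simpa using h1

theorem isPGroup_zpowers_of_pow {y : G} {k : ℕ} (hy : y ^ (2 ^ k) = 1) :
    IsPGroup 2 (Subgroup.zpowers y) := by
  rintro ⟨z, hz⟩
  obtain ⟨i, rfl⟩ := Subgroup.mem_zpowers_iff.1 hz
  refine ⟨k, Subtype.ext ?_⟩
  have h1 : (y ^ i) ^ (2 ^ k) = 1 := by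
    rw [← zpow_natCast, ← zpow_mul, mul_comm, zpow_mul, zpow_natCast, hy, one_zpow]
  simpa using h1

theorem commute_zpowers {x w : G} (h : x * w = w * x) : ∀ r ∈ Subgroup.zpowers w, x * r = r * x := by
  intro r hr
  obtain ⟨i, rfl⟩ := Subgroup.mem_zpowers_iff.1 hr
  exact ((show Commute x w from h).zpow_right i)

theorem isElementaryAbelian_map {H : Type*} [Group H] {V : Subgroup G}
    (hV : Cfsg.IsElementaryAbelian 2 V) (f : G →* H) : Cfsg.IsElementaryAbelian 2 (V.map f) := by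
  refine ⟨⟨⟨fun a b => ?_⟩⟩, ?_⟩
  · obtain ⟨a', ha', haa⟩ := a.2
    obtain ⟨b', hb', hbb⟩ := b.2
    apply Subtype.ext
    show (a : H) * (b : H) = (b : H) * (a : H)
    rw [← haa, ← hbb, ← map_mul, ← map_mul, comm_of_ea hV ha' hb']
  · rintro _ ⟨a, ha, rfl⟩
    rw [← map_pow, hV.2 a ha, map_one]

namespace MC

variable [Finite G] {V : Subgroup G}

/-- a nontrivial central normal subgroup of odd order is impossible -/
theorem central_contra (h : MC V) (N : Subgroup G) [hN : N.Normal] (hN1 : N ≠ ⊥)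
    (hNodd : ∀ n ∈ N, Odd (orderOf n)) (hcent : ∀ n ∈ N, ∀ x : G, x * n = n * x) : False := by
  classical
  have hcard : Nat.card (G ⧸ N) < Nat.card G := by
    rw [Subgroup.card_eq_card_quotient_mul_card_subgroup N]
    have h1 : 1 < Nat.card N := (Subgroup.one_lt_card_iff_ne_bot N).mpr hN1
    have h2 : 0 < Nat.card (G ⧸ N) := Nat.card_pos
    nlinarith
  have hVN : V ⊓ N = ⊥ := by
    rw [eq_bot_iff]
    intro v hv
    exact Subgroup.mem_bot.2 (eq_one_of_sq_of_odd (hNodd v hv.2) (h.sq hv.1))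
  set W : Subgroup (G ⧸ N) := V.map (QuotientGroup.mk' N) with hW
  have hWea : Cfsg.IsElementaryAbelian 2 W := isElementaryAbelian_map h.ea _
  have hker : ∀ v ∈ V, QuotientGroup.mk' N v = 1 → v = 1 := by
    intro v hv h1
    have hvN : v ∈ N := by
      rw [← QuotientGroup.ker_mk' N]; exact h1
    have : v ∈ V ⊓ N := ⟨hv, hvN⟩
    rw [hVN] at this
    exact Subgroup.mem_bot.1 this
  have hW1 : W ≠ ⊥ := by
    intro hbot
    apply h.ne
    rw [eq_bot_iff]
    intro v hv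
    have h1 : QuotientGroup.mk' N v ∈ W := ⟨v, hv, rfl⟩
    rw [hbot, Subgroup.mem_bot] at h1
    exact Subgroup.mem_bot.2 (hker v hv h1)
  have hWS : Cfsg.IsSidkiPair W := Cfsg.Agent.S3012.result V N h.ea h.ne h.sidki hVN
  have hmain := h.minG (G ⧸ N) W hcard hWea hW1 hWS
  obtain ⟨xb, hxb, hxb1⟩ : ∃ x : G ⧸ N, x ∈ W ⊓ Cfsg.pCore 2 (G ⧸ N) ∧ x ≠ 1 := by
    by_contra hcon
    push Not at hcon
    apply hmain
    rw [eq_bot_iff]
    intro x hx
    exact Subgroup.mem_bot.2 (hcon x hx)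
  obtain ⟨v, hvV, rfl⟩ := hxb.1
  have hv1 : v ≠ 1 := by
    intro hv; apply hxb1; rw [hv, map_one]
  have hv2 : orderOf v = 2 := by
    apply orderOf_eq_prime
    · rw [pow_two]; exact h.sq hvV
    · exact hv1
  obtain ⟨y, hy1, hyodd, hyinv⟩ := Cfsg.Agent.S0200.result v hv2 (by
    intro M hM hM2 hvM
    have := no_normal_two_sub' h.core M hM hM2
    rw [this, Subgroup.mem_bot] at hvM
    exact hv1 hvM)
  haveI hPn : (Cfsg.pCore 2 (G ⧸ N)).Normal := pCore_normal 2 _
  have hyb_odd : Odd (orderOf (QuotientGroup.mk' N y)) :=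
    Odd.of_dvd_nat hyodd (orderOf_map_dvd _ y)
  have hyb_inv : QuotientGroup.mk' N v * QuotientGroup.mk' N y * (QuotientGroup.mk' N v)⁻¹ =
      (QuotientGroup.mk' N y)⁻¹ := by
    rw [← map_inv, ← map_mul, ← map_mul, hyinv, map_inv]
  have hybP : QuotientGroup.mk' N y ∈ Cfsg.pCore 2 (G ⧸ N) :=
    mem_normal_of_inverted _ hxb.2 hyb_odd hyb_inv
  obtain ⟨k, hk⟩ := (pCore_isPGroup 2 (G ⧸ N)) ⟨_, hybP⟩
  have hk' : (QuotientGroup.mk' N y) ^ (2 ^ k) = 1 := by
    have := congrArg Subtype.val hk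
    simpa using this
  have hyb1 : QuotientGroup.mk' N y = 1 := by
    have h1 : orderOf (QuotientGroup.mk' N y) ∣ 2 ^ k := orderOf_dvd_of_pow_eq_one hk'
    have h2 : Nat.Coprime (orderOf (QuotientGroup.mk' N y)) (2 ^ k) :=
      Nat.Coprime.pow_right k (Nat.coprime_two_right.2 hyb_odd)
    have h3 : orderOf (QuotientGroup.mk' N y) = 1 := Nat.Coprime.eq_one_of_dvd h2 h1
    exact orderOf_eq_one_iff.1 h3
  have hyN : y ∈ N := by
    rw [← QuotientGroup.ker_mk' N]; exact hyb1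
  have hc := hcent y hyN v
  apply hy1
  apply eq_one_of_sq_of_odd hyodd
  have h5 : y⁻¹ = y := by
    rw [← hyinv, hc]; group
  calc y * y = y * y⁻¹ := by rw [h5]
    _ = 1 := by group


/-- Case A: an abelian minimal normal subgroup is impossible. -/
theorem caseA (h : MC V) (N : Subgroup G) [hN : N.Normal] (hN1 : N ≠ ⊥)
    (hmin : ∀ M : Subgroup G, M.Normal → M ≤ N → M = ⊥ ∨ M = N)
    (hab : ∀ a ∈ N, ∀ b ∈ N, a * b = b * a) : False := by
  classical
  -- elements of `N` have odd order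
  have hNodd : ∀ n ∈ N, Odd (orderOf n) := by
    intro n hn
    have hpos : orderOf n ≠ 0 := (orderOf_pos n).ne'
    obtain ⟨k, m, hm, hkm⟩ := Nat.exists_eq_two_pow_mul_odd hpos
    have hy : (n ^ m) ^ (2 ^ k) = 1 := by
      rw [← pow_mul, mul_comm, ← hkm, pow_orderOf_eq_one]
    have hynN : n ^ m ∈ N := N.pow_mem hn m
    have hR : Subgroup.zpowers (n ^ m) = ⊥ := by
      apply no_normal_two_sub h.core N _ _ (isPGroup_zpowers_of_pow hy)
      · apply le_normalizer_of_commute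
        intro x hx r hr
        exact commute_zpowers (hab x hx _ hynN) r hr
      · rw [Subgroup.zpowers_le]; exact hynN
    have hy1 : n ^ m = 1 := by
      have : n ^ m ∈ Subgroup.zpowers (n ^ m) := Subgroup.mem_zpowers _
      rw [hR, Subgroup.mem_bot] at this
      exact this
    exact Odd.of_dvd_nat hm (orderOf_dvd_of_pow_eq_one hy1)
  set C : Subgroup G := Subgroup.centralizer (N : Set G) with hC
  haveI hCn : C.Normal := Subgroup.normal_centralizer
  have hCmem : ∀ x, x ∈ C ↔ ∀ n ∈ N, x * n = n * x := by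
    intro x
    rw [hC, Subgroup.mem_centralizer_iff]
    constructor
    · intro hx n hn; exact (hx n hn).symm
    · intro hx n hn; exact (hx n hn).symm
  have hNC : N ≤ C := fun a ha => (hCmem a).2 (fun b hb => hab a ha b hb)
  -- `C V = G`
  have hCV : C ⊔ V = ⊤ := by
    by_contra hne
    obtain ⟨w, hwV, hw1, Q, hwQ, hQH, hQ2, hHQ⟩ := exists_core_elt h.minG (C ⊔ V) V hne
      le_sup_right h.ea h.ne (fun x _ w hw hodd hinv => h.sidki x w hw hodd hinv)
    have hnorm : C ⊔ V ≤ Subgroup.normalizer (C : Set G) := by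
      rw [Subgroup.normalizer_eq_top]; exact le_top
    have hcomm := commute_of_core hQ2 hQH hHQ le_sup_left hnorm
      (fun R hRN hR hNR => no_normal_two_sub h.core C R hRN hR hNR) w hwQ
    have hwC : w ∈ C := (hCmem w).2 (fun n hn => hcomm n (hNC hn))
    have hR : Subgroup.zpowers w = ⊥ := by
      apply no_normal_two_sub h.core C _ _ (isPGroup_zpowers_of_sq (h.sq hwV))
      · apply le_normalizer_of_commute
        intro x hx r hr
        exact commute_zpowers (hcomm x hx).symm r hr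
      · rw [Subgroup.zpowers_le]; exact hwC
    have : w ∈ Subgroup.zpowers w := Subgroup.mem_zpowers _
    rw [hR, Subgroup.mem_bot] at this
    exact hw1 this
  -- elements of `V` outside `C` invert `N`
  have hinvN : ∀ u ∈ V, u ∉ C → ∀ n ∈ N, u * n * u⁻¹ = n⁻¹ := by
    intro u huV huC
    let M : Subgroup G :=
      { carrier := {n | n ∈ N ∧ u * n * u⁻¹ = n⁻¹}
        one_mem' := ⟨N.one_mem, by group⟩
        mul_mem' := by
          rintro a b ⟨ha, ha'⟩ ⟨hb, hb'⟩
          refine ⟨N.mul_mem ha hb, ?_⟩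
          have h1 : a⁻¹ * b⁻¹ = b⁻¹ * a⁻¹ := hab _ (N.inv_mem ha) _ (N.inv_mem hb)
          calc u * (a * b) * u⁻¹ = (u * a * u⁻¹) * (u * b * u⁻¹) := by group
            _ = a⁻¹ * b⁻¹ := by rw [ha', hb']
            _ = b⁻¹ * a⁻¹ := h1
            _ = (a * b)⁻¹ := by group
        inv_mem' := by
          rintro a ⟨ha, ha'⟩
          refine ⟨N.inv_mem ha, ?_⟩
          calc u * a⁻¹ * u⁻¹ = (u * a * u⁻¹)⁻¹ := by group
            _ = (a⁻¹)⁻¹ := by rw [ha'] }
    have hMN : M ≤ N := fun a ha => ha.1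
    have hMnormal : M.Normal := by
      constructor
      intro n hn x
      have hx : x ∈ C ⊔ V := by rw [hCV]; exact Subgroup.mem_top _
      have hx' : x ∈ ((C ⊔ V : Subgroup G) : Set G) := hx
      rw [Subgroup.normal_mul] at hx'
      obtain ⟨c, hc, v, hv, rfl⟩ := hx'
      have hvn : v * n * v⁻¹ ∈ N := hN.conj_mem n hn.1 v
      have h1 : c * v * n * (c * v)⁻¹ = v * n * v⁻¹ := by
        have h2 := (hCmem c).1 hc _ hvn
        calc c * v * n * (c * v)⁻¹ = (c * (v * n * v⁻¹)) * c⁻¹ := by group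
          _ = ((v * n * v⁻¹) * c) * c⁻¹ := by rw [h2]
          _ = v * n * v⁻¹ := by group
      rw [h1]
      refine ⟨hvn, ?_⟩
      have huv : u * v = v * u := h.comm huV hv
      have huv' : u * v * n * v⁻¹ * u⁻¹ = v * (u * n * u⁻¹) * v⁻¹ := by
        calc u * v * n * v⁻¹ * u⁻¹ = (u * v) * n * (u * v)⁻¹ := by group
          _ = (v * u) * n * (v * u)⁻¹ := by rw [huv]
          _ = v * (u * n * u⁻¹) * v⁻¹ := by group
      calc u * (v * n * v⁻¹) * u⁻¹ = u * v * n * v⁻¹ * u⁻¹ := by group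
        _ = v * (u * n * u⁻¹) * v⁻¹ := huv'
        _ = v * n⁻¹ * v⁻¹ := by rw [hn.2]
        _ = (v * n * v⁻¹)⁻¹ := by group
    have hM1 : M ≠ ⊥ := by
      have hex : ∃ n ∈ N, u * n ≠ n * u := by
        by_contra hcon
        push Not at hcon
        exact huC ((hCmem u).2 hcon)
      obtain ⟨n, hn, hne⟩ := hex
      have hun : u * n * u⁻¹ ∈ N := hN.conj_mem n hn u
      have hx : n⁻¹ * (u * n * u⁻¹) ∈ M := by
        refine ⟨N.mul_mem (N.inv_mem hn) hun, ?_⟩
        have hu2 : u * u = 1 := h.sq huV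
        have hui : u⁻¹ = u := h.inv huV
        calc u * (n⁻¹ * (u * n * u⁻¹)) * u⁻¹
            = (u * n * u⁻¹)⁻¹ * ((u * u) * n * (u⁻¹ * u⁻¹)) := by group
          _ = (u * n * u⁻¹)⁻¹ * n := by rw [hui, hu2]; group
          _ = (n⁻¹ * (u * n * u⁻¹))⁻¹ := by group
      intro hbot
      rw [hbot, Subgroup.mem_bot] at hx
      apply hne
      calc u * n = n * (n⁻¹ * (u * n * u⁻¹)) * u := by group
        _ = n * u := by rw [hx, mul_one]
    rcases hmin M hMnormal hMN with h0 | h0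
    · exact absurd h0 hM1
    · intro n hn
      have : n ∈ M := by rw [h0]; exact hn
      exact this.2
  obtain ⟨h0, hh0N, hh01⟩ : ∃ n : G, n ∈ N ∧ n ≠ 1 := by
    by_contra hcon
    push Not at hcon
    apply hN1
    rw [eq_bot_iff]
    intro x hx
    exact Subgroup.mem_bot.2 (hcon x hx)
  have hh0odd : Odd (orderOf h0) := hNodd h0 hh0N
  set D : Subgroup G := V ⊓ C with hD
  by_cases hDV : D = V
  · -- `N` is central
    have hVC : V ≤ C := by rw [← hDV]; exact inf_le_right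
    have hCtop := h.normal_ge C hVC
    apply h.central_contra N hN1 hNodd
    intro n hn x
    have : x ∈ C := by rw [hCtop]; exact Subgroup.mem_top _
    exact (hCmem x).1 this n hn
  · have hD1 : D ≠ ⊥ := by
      intro hbot
      obtain ⟨u, huV, hu1⟩ : ∃ u : G, u ∈ V ∧ u ≠ 1 := by
        by_contra hcon
        push Not at hcon
        apply h.ne
        rw [eq_bot_iff]
        intro x hx
        exact Subgroup.mem_bot.2 (hcon x hx)
      have hnotC : ∀ w ∈ V, w ≠ 1 → w ∉ C := by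
        intro w hw hw1 hwC
        have : w ∈ D := ⟨hw, hwC⟩
        rw [hbot, Subgroup.mem_bot] at this
        exact hw1 this
      have hinv := hinvN u huV (hnotC u huV hu1) h0 hh0N
      obtain ⟨w, hwV, hw1, hwc⟩ := h.sidki h0 u huV hh0odd hinv
      have hinv' := hinvN w hwV (hnotC w hwV hw1) h0 hh0N
      apply hh01
      apply eq_one_of_sq_of_odd hh0odd
      have h5 : h0⁻¹ = h0 := by
        rw [← hinv', hwc]; group
      calc h0 * h0 = h0 * h0⁻¹ := by rw [h5]
        _ = 1 := by group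
    obtain ⟨d, hdD, g, hgodd, hginv, hgno⟩ := h.notSidki D inf_le_left hDV hD1
    have hgC : g ∈ C := mem_normal_of_inverted C hdD.2 hgodd hginv
    obtain ⟨w, hwV, hw1, hwg⟩ := h.sidki g d hdD.1 hgodd hginv
    have hwC : w ∉ C := fun hwC => hgno w ⟨hwV, hwC⟩ hw1 hwg
    have hwh : w * h0 * w⁻¹ = h0⁻¹ := hinvN w hwV hwC h0 hh0N
    have hgh : g * h0 = h0 * g := (hCmem g).1 hgC h0 hh0N
    have hdh : d * h0⁻¹ * d⁻¹ = h0⁻¹ := by
      have := (hCmem d).1 hdD.2 _ (N.inv_mem hh0N)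
      rw [this]; group
    have hwgc : w * g * w⁻¹ = g := by rw [hwg]; group
    have hinv2 : (d * w) * (g * h0) * (d * w)⁻¹ = (g * h0)⁻¹ := by
      calc (d * w) * (g * h0) * (d * w)⁻¹
          = d * ((w * g * w⁻¹) * (w * h0 * w⁻¹)) * d⁻¹ := by group
        _ = d * (g * h0⁻¹) * d⁻¹ := by rw [hwgc, hwh]
        _ = (d * g * d⁻¹) * (d * h0⁻¹ * d⁻¹) := by group
        _ = g⁻¹ * h0⁻¹ := by rw [hginv, hdh]
        _ = (h0 * g)⁻¹ := by group
        _ = (g * h0)⁻¹ := by rw [hgh]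
    obtain ⟨w', hw'V, hw'1, hw'c⟩ := h.sidki (g * h0) (d * w) (V.mul_mem hdD.1 hwV)
      (odd_orderOf_mul hgodd hh0odd hgh) hinv2
    by_cases hw'C : w' ∈ C
    · -- then `w'` centralizes `g`
      have h1 : w' * h0 = h0 * w' := (hCmem w').1 hw'C h0 hh0N
      apply hgno w' ⟨hw'V, hw'C⟩ hw'1
      have h2 : w' * g * h0 = g * w' * h0 := by
        calc w' * g * h0 = w' * (g * h0) := by group
          _ = g * h0 * w' := hw'c
          _ = g * (h0 * w') := by group
          _ = g * (w' * h0) := by rw [h1]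
          _ = g * w' * h0 := by group
      exact mul_right_cancel h2
    · have hw'h : w' * h0 * w'⁻¹ = h0⁻¹ := hinvN w' hw'V hw'C h0 hh0N
      -- `w' g w'⁻¹ = g h0 h0`
      have h1 : w' * g * w'⁻¹ = g * h0 * h0 := by
        have h2 : (w' * g * w'⁻¹) * (w' * h0 * w'⁻¹) = g * h0 := by
          calc (w' * g * w'⁻¹) * (w' * h0 * w'⁻¹) = (w' * (g * h0)) * w'⁻¹ := by group
            _ = (g * h0 * w') * w'⁻¹ := by rw [hw'c]
            _ = g * h0 := by group
        rw [hw'h] at h2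
        calc w' * g * w'⁻¹ = (w' * g * w'⁻¹ * h0⁻¹) * h0 := by group
          _ = g * h0 * h0 := by rw [h2]
      -- `e = w w'` centralizes `N`
      set e : G := w * w' with he
      have heV : e ∈ V := V.mul_mem hwV hw'V
      have heN : ∀ n ∈ N, e * n * e⁻¹ = n := by
        intro n hn
        have h3 : w' * n * w'⁻¹ = n⁻¹ := hinvN w' hw'V hw'C n hn
        have h4 : w * n⁻¹ * w⁻¹ = (n⁻¹)⁻¹ := hinvN w hwV hwC _ (N.inv_mem hn)
        calc e * n * e⁻¹ = w * (w' * n * w'⁻¹) * w⁻¹ := by rw [he]; group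
          _ = w * n⁻¹ * w⁻¹ := by rw [h3]
          _ = n := by rw [h4, inv_inv]
      have hwh' : w * h0⁻¹ * w⁻¹ = h0 := by
        have := hinvN w hwV hwC _ (N.inv_mem hh0N)
        rw [this, inv_inv]
      have hwh'' : w * h0 * w⁻¹ = h0⁻¹ := hwh
      have heg : e * g * e⁻¹ = g * h0⁻¹ * h0⁻¹ := by
        calc e * g * e⁻¹ = w * (w' * g * w'⁻¹) * w⁻¹ := by rw [he]; group
          _ = w * (g * h0 * h0) * w⁻¹ := by rw [h1]
          _ = (w * g * w⁻¹) * (w * h0 * w⁻¹) * (w * h0 * w⁻¹) := by group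
          _ = g * h0⁻¹ * h0⁻¹ := by rw [hwgc, hwh'']
      have heh : e * h0⁻¹ * e⁻¹ = h0⁻¹ := heN _ (N.inv_mem hh0N)
      have hee : e * e = 1 := h.sq heV
      have hfin : g = g * h0⁻¹ * h0⁻¹ * h0⁻¹ * h0⁻¹ := by
        calc g = (e * e) * g * (e * e)⁻¹ := by rw [hee]; group
          _ = e * (e * g * e⁻¹) * e⁻¹ := by group
          _ = e * (g * h0⁻¹ * h0⁻¹) * e⁻¹ := by rw [heg]
          _ = (e * g * e⁻¹) * (e * h0⁻¹ * e⁻¹) * (e * h0⁻¹ * e⁻¹) := by group
          _ = g * h0⁻¹ * h0⁻¹ * h0⁻¹ * h0⁻¹ := by rw [heg, heh]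
      have h4 : (h0 * h0) * (h0 * h0) = 1 := by
        have h5 : h0⁻¹ * h0⁻¹ * h0⁻¹ * h0⁻¹ = 1 := by
          have h6 : g * (h0⁻¹ * h0⁻¹ * h0⁻¹ * h0⁻¹) = g * 1 := by
            rw [mul_one]
            calc g * (h0⁻¹ * h0⁻¹ * h0⁻¹ * h0⁻¹) = g * h0⁻¹ * h0⁻¹ * h0⁻¹ * h0⁻¹ := by group
              _ = g := hfin.symm
          exact mul_left_cancel h6
        calc (h0 * h0) * (h0 * h0) = (h0⁻¹ * h0⁻¹ * h0⁻¹ * h0⁻¹)⁻¹ := by
              simp only [mul_inv_rev, inv_inv, mul_assoc]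
          _ = 1 := by rw [h5, inv_one]
      have hsqodd : Odd (orderOf (h0 * h0)) := odd_orderOf_mul hh0odd hh0odd rfl
      have h7 : h0 * h0 = 1 := eq_one_of_sq_of_odd hsqodd h4
      exact hh01 (eq_one_of_sq_of_odd hh0odd h7)

end MC

end Cfsg.Agent.Lib.Helper17.SidkiRed
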