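/-
Helper lemmas (helper17) for S3048: conjugates of a minimal `N`-invariant subgroup `L` of a minimal
normal subgroup `N`.
-/
import Cfsg.Agent.Lib.Helper17.SidkiRedC

set_option autoImplicit false
universe u

namespace Cfsg.Agent.Lib.Helper17.SidkiRed

open Cfsg

variable {G : Type u} [Group G]

/-- the conjugate `x L x⁻¹` -/
def cj (x : G) (L : Subgroup G) : Subgroup G := L.map (MulAut.conj x).toMonoidHom

theorem mem_cj {x y : G} {L : Subgroup G} : y ∈ cj x L ↔ x⁻¹ * y * x ∈ L := by
  unfold cj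
  constructor
  · rintro ⟨l, hl, rfl⟩
    have : x⁻¹ * ((MulAut.conj x).toMonoidHom l) * x = l := by
      simp [MulAut.conj_apply, mul_assoc]
    rw [this]; exact hl
  · intro h
    refine ⟨x⁻¹ * y * x, h, ?_⟩
    simp [MulAut.conj_apply, mul_assoc]

theorem conj_mem_cj {x l : G} {L : Subgroup G} (hl : l ∈ L) : x * l * x⁻¹ ∈ cj x L := by
  rw [mem_cj]
  have : x⁻¹ * (x * l * x⁻¹) * x = l := by group
  rw [this]; exact hl

theorem cj_one (L : Subgroup G) : cj 1 L = L := by
  ext y; rw [mem_cj]; simp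

theorem card_cj [Finite G] (x : G) (L : Subgroup G) : Nat.card (cj x L) = Nat.card L := by
  unfold cj
  exact Subgroup.card_map_of_injective (MulAut.conj x).injective

theorem mem_normalizer_iff_cj {x : G} {L : Subgroup G} [Finite G] :
    x ∈ Subgroup.normalizer (L : Set G) ↔ cj x L = L := by
  constructor
  · intro hx
    ext y
    rw [mem_cj]
    have hx' : x⁻¹ ∈ Subgroup.normalizer (L : Set G) := Subgroup.inv_mem _ hx
    have := (Subgroup.mem_normalizer_iff.1 hx' y)
    rw [inv_inv] at this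
    exact this.symm
  · intro h
    have hx' : x⁻¹ ∈ Subgroup.normalizer (L : Set G) := by
      rw [Subgroup.mem_normalizer_iff]
      intro y
      rw [inv_inv, ← mem_cj, h]
    have := Subgroup.inv_mem _ hx'
    rwa [inv_inv] at this

/-- data: `N` minimal normal, `L` minimal `N`-invariant subgroup of `N` -/
structure LData (N L : Subgroup G) : Prop where
  normal : N.Normal
  minN : ∀ M : Subgroup G, M.Normal → M ≤ N → M = ⊥ ∨ M = N
  center : ∀ n ∈ N, (∀ m ∈ N, n * m = m * n) → n = 1
  le : L ≤ N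
  ne : L ≠ ⊥
  inv : N ≤ Subgroup.normalizer (L : Set G)
  minL : ∀ M : Subgroup G, M ≤ L → N ≤ Subgroup.normalizer (M : Set G) → M = ⊥ ∨ M = L

namespace LData

variable [Finite G] {N L : Subgroup G}

theorem cj_le (d : LData N L) (x : G) : cj x L ≤ N := by
  intro y hy
  rw [mem_cj] at hy
  have h1 := d.normal.conj_mem _ (d.le hy) x
  have : x * (x⁻¹ * y * x) * x⁻¹ = y := by group
  rwa [this] at h1

theorem cj_inv (d : LData N L) (x : G) : N ≤ Subgroup.normalizer (cj x L : Set G) := by
  intro n hn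
  rw [Subgroup.mem_normalizer_iff]
  intro y
  rw [mem_cj, mem_cj]
  have h1 : x⁻¹ * n * x ∈ N := by
    have := d.normal.conj_mem n hn x⁻¹
    rwa [inv_inv] at this
  have h2 := Subgroup.mem_normalizer_iff.1 (d.inv h1) (x⁻¹ * y * x)
  have h3 : x⁻¹ * n * x * (x⁻¹ * y * x) * (x⁻¹ * n * x)⁻¹ = x⁻¹ * (n * y * n⁻¹) * x := by group
  rw [h3] at h2
  exact h2

/-- `N` is generated by the conjugates of `L` -/
theorem le_of_conj (d : LData N L) (T : Subgroup G) (hT : ∀ g : G, ∀ l ∈ L, g * l * g⁻¹ ∈ T) :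
    N ≤ T := by
  have h1 : Subgroup.normalClosure (L : Set G) = N := by
    have hn : (Subgroup.normalClosure (L : Set G)).Normal := Subgroup.normalClosure_normal
    have hle : Subgroup.normalClosure (L : Set G) ≤ N := by
      haveI := d.normal
      exact Subgroup.normalClosure_le_normal d.le
    rcases d.minN _ hn hle with h0 | h0
    · exfalso
      apply d.ne
      rw [eq_bot_iff, ← h0]
      exact Subgroup.le_normalClosure
    · exact h0
  rw [← h1]
  unfold Subgroup.normalClosure
  rw [Subgroup.closure_le]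
  intro a ha
  rw [Group.mem_conjugatesOfSet_iff] at ha
  obtain ⟨l, hl, hconj⟩ := ha
  rw [isConj_iff] at hconj
  obtain ⟨c, rfl⟩ := hconj
  exact hT c l hl

/-- two conjugates of `L` are equal or commute elementwise -/
theorem dichotomy0 (d : LData N L) (x : G) :
    cj x L = L ∨ ∀ a ∈ L, ∀ b ∈ cj x L, a * b = b * a := by
  have hM : L ⊓ cj x L = ⊥ ∨ L ⊓ cj x L = L := by
    apply d.minL _ inf_le_left
    intro n hn
    rw [Subgroup.mem_normalizer_iff]
    intro y
    have h1 := Subgroup.mem_normalizer_iff.1 (d.inv hn) y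
    have h2 := Subgroup.mem_normalizer_iff.1 (d.cj_inv x hn) y
    rw [Subgroup.mem_inf, Subgroup.mem_inf, h1, h2]
  rcases hM with h0 | h0
  · right
    intro a ha b hb
    have h1 : a * b * a⁻¹ * b⁻¹ ∈ L ⊓ cj x L := by
      constructor
      · have h2 : b * a⁻¹ * b⁻¹ ∈ L :=
          (Subgroup.mem_normalizer_iff.1 (d.inv (d.cj_le x hb)) a⁻¹).1 (L.inv_mem ha)
        have h3 : a * b * a⁻¹ * b⁻¹ = a * (b * a⁻¹ * b⁻¹) := by group
        rw [h3]; exact L.mul_mem ha h2
      · have h2 : a * b * a⁻¹ ∈ cj x L :=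
          (Subgroup.mem_normalizer_iff.1 (d.cj_inv x (d.le ha)) b).1 hb
        exact (cj x L).mul_mem h2 ((cj x L).inv_mem hb)
    rw [h0, Subgroup.mem_bot] at h1
    calc a * b = (a * b * a⁻¹ * b⁻¹) * (b * a) := by group
      _ = b * a := by rw [h1, one_mul]
  · left
    have hle : L ≤ cj x L := by
      intro y hy
      have : y ∈ L ⊓ cj x L := by rw [h0]; exact hy
      exact this.2
    have hcard : Nat.card (cj x L) ≤ Nat.card L := (card_cj x L).le
    exact (Subgroup.eq_of_le_of_card_ge hle hcard).symm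

theorem cj_mul (x y : G) (L : Subgroup G) : cj (x * y) L = cj x (cj y L) := by
  ext z
  rw [mem_cj, mem_cj, mem_cj]
  have : (x * y)⁻¹ * z * (x * y) = y⁻¹ * (x⁻¹ * z * x) * y := by group
  rw [this]

theorem dichotomy (d : LData N L) (x y : G) :
    cj x L = cj y L ∨ ∀ a ∈ cj x L, ∀ b ∈ cj y L, a * b = b * a := by
  rcases d.dichotomy0 (x⁻¹ * y) with h0 | h0
  · left
    have : cj y L = cj x (cj (x⁻¹ * y) L) := by
      rw [← cj_mul]; congr 1; group
    rw [this, h0]
  · right
    intro a ha b hb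
    rw [mem_cj] at ha hb
    have hb' : x⁻¹ * b * x ∈ cj (x⁻¹ * y) L := by
      rw [mem_cj]
      have : (x⁻¹ * y)⁻¹ * (x⁻¹ * b * x) * (x⁻¹ * y) = y⁻¹ * b * y := by group
      rw [this]; exact hb
    have h1 := h0 _ ha _ hb'
    calc a * b = x * ((x⁻¹ * a * x) * (x⁻¹ * b * x)) * x⁻¹ := by group
      _ = x * ((x⁻¹ * b * x) * (x⁻¹ * a * x)) * x⁻¹ := by rw [h1]
      _ = b * a := by group

/-- `L` is not abelian -/
theorem not_abelian (d : LData N L) : ¬ ∀ a ∈ L, ∀ b ∈ L, a * b = b * a := by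
  intro hab
  have h1 : N ≤ Subgroup.centralizer (L : Set G) := by
    apply d.le_of_conj
    intro g l hl
    rw [Subgroup.mem_centralizer_iff]
    intro a ha
    rcases d.dichotomy0 g with h0 | h0
    · have : g * l * g⁻¹ ∈ L := by rw [← h0]; exact conj_mem_cj hl
      exact hab a ha _ this
    · exact h0 a ha _ (conj_mem_cj hl)
  obtain ⟨l, hl, hl1⟩ : ∃ l : G, l ∈ L ∧ l ≠ 1 := by
    by_contra hcon
    push Not at hcon
    apply d.ne
    rw [eq_bot_iff]
    intro x hx
    exact Subgroup.mem_bot.2 (hcon x hx)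
  apply hl1
  apply d.center l (d.le hl)
  intro m hm
  exact (Subgroup.mem_centralizer_iff.1 (h1 hm) l hl)

/-- `Z(L) = 1` -/
theorem center_L (d : LData N L) : ∀ a ∈ L, (∀ b ∈ L, a * b = b * a) → a = 1 := by
  intro a ha hcomm
  have hM : L ⊓ Subgroup.centralizer (L : Set G) = ⊥ ∨ L ⊓ Subgroup.centralizer (L : Set G) = L := by
    apply d.minL _ inf_le_left
    intro n hn
    rw [Subgroup.mem_normalizer_iff]
    intro y
    have h1 := Subgroup.mem_normalizer_iff.1 (d.inv hn) y
    rw [Subgroup.mem_inf, Subgroup.mem_inf, ← h1]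
    constructor
    · rintro ⟨hy, hyc⟩
      refine ⟨hy, ?_⟩
      rw [Subgroup.mem_centralizer_iff] at hyc ⊢
      intro l hl
      have hl' : n⁻¹ * l * n ∈ L := by
        have := Subgroup.mem_normalizer_iff.1 (Subgroup.inv_mem _ (d.inv hn)) l
        rw [inv_inv] at this
        exact this.1 hl
      have h2 := hyc _ hl'
      calc l * (n * y * n⁻¹) = n * ((n⁻¹ * l * n) * y) * n⁻¹ := by group
        _ = n * (y * (n⁻¹ * l * n)) * n⁻¹ := by rw [h2]
        _ = n * y * n⁻¹ * l := by group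
    · rintro ⟨hy, hyc⟩
      refine ⟨hy, ?_⟩
      rw [Subgroup.mem_centralizer_iff] at hyc ⊢
      intro l hl
      have hl' : n * l * n⁻¹ ∈ L := (Subgroup.mem_normalizer_iff.1 (d.inv hn) l).1 hl
      have h2 := hyc _ hl'
      calc l * y = n⁻¹ * ((n * l * n⁻¹) * (n * y * n⁻¹)) * n := by group
        _ = n⁻¹ * ((n * y * n⁻¹) * (n * l * n⁻¹)) * n := by rw [h2]
        _ = y * l := by group
  rcases hM with h0 | h0
  · have : a ∈ L ⊓ Subgroup.centralizer (L : Set G) := by
      refine Subgroup.mem_inf.2 ⟨ha, ?_⟩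
      rw [Subgroup.mem_centralizer_iff]
      intro b hb
      exact (hcomm b hb).symm
    rw [h0, Subgroup.mem_bot] at this
    exact this
  · exfalso
    apply d.not_abelian
    intro x hx y hy
    have : x ∈ L ⊓ Subgroup.centralizer (L : Set G) := by rw [h0]; exact hx
    exact (Subgroup.mem_centralizer_iff.1 this.2 y hy).symm

/-- `L` is not a 2-group -/
theorem not_two_group (d : LData N L) : ¬ IsPGroup 2 L := by
  intro hp
  haveI : Nontrivial L := (Subgroup.nontrivial_iff_ne_bot L).2 d.ne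
  haveI : Fact (Nat.Prime 2) := ⟨Nat.prime_two⟩
  have hc := hp.center_nontrivial
  obtain ⟨z, hz⟩ := exists_ne (1 : Subgroup.center L)
  apply hz
  apply Subtype.ext
  apply Subtype.ext
  have hz' := z.2
  rw [Subgroup.mem_center_iff] at hz'
  apply d.center_L (z : L) (z : L).2
  intro b hb
  have := hz' ⟨b, hb⟩
  have h2 := congrArg Subtype.val this
  simpa using h2.symm

/-- `L` has a nontrivial element of odd order -/
theorem exists_odd (d : LData N L) : ∃ l ∈ L, l ≠ 1 ∧ Odd (orderOf l) := by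
  by_contra hcon
  push Not at hcon
  apply d.not_two_group
  intro ⟨a, ha⟩
  have hpos : orderOf a ≠ 0 := (orderOf_pos a).ne'
  obtain ⟨k, m, hm, hkm⟩ := Nat.exists_eq_two_pow_mul_odd hpos
  have hord : orderOf (a ^ (2 ^ k)) = m := by
    rw [orderOf_pow_of_dvd (pow_ne_zero _ (by norm_num)) (by rw [hkm]; exact dvd_mul_right _ _), hkm,
      Nat.mul_div_cancel_left _ (pow_pos (by norm_num) _)]
  have h1 : a ^ (2 ^ k) = 1 := by
    by_contra hne
    exact hcon _ (L.pow_mem ha _) hne (by rw [hord]; exact hm)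
  refine ⟨k, Subtype.ext ?_⟩
  simpa using h1

/-- `L` has no nontrivial normal 2-subgroups -/
theorem no_two_sub (d : LData N L) (R : Subgroup G) (hRL : R ≤ L) (hR : IsPGroup 2 R)
    (hLR : L ≤ Subgroup.normalizer (R : Set G)) : R = ⊥ := by
  have h1 : N ≤ Subgroup.normalizer (R : Set G) := by
    apply d.le_of_conj
    intro g l hl
    rcases d.dichotomy0 g with h0 | h0
    · have : g * l * g⁻¹ ∈ L := by rw [← h0]; exact conj_mem_cj hl
      exact hLR this
    · have hc : ∀ r ∈ R, (g * l * g⁻¹) * r = r * (g * l * g⁻¹) :=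
        fun r hr => (h0 r (hRL hr) _ (conj_mem_cj hl)).symm
      have := le_normalizer_of_commute R (Subgroup.zpowers (g * l * g⁻¹)) (by
        intro x hx r hr
        obtain ⟨i, rfl⟩ := Subgroup.mem_zpowers_iff.1 hx
        exact ((show Commute (g * l * g⁻¹) r from hc r hr).zpow_left i))
      exact this (Subgroup.mem_zpowers _)
  rcases d.minL R hRL h1 with h0 | h0
  · exact h0
  · exfalso
    apply d.not_two_group
    rw [← h0]; exact hR

end LData

end Cfsg.Agent.Lib.Helper17.SidkiRed
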