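/-
Helper lemmas (helper17) for S3048: the case `G = N V` with `N` a nonabelian minimal normal subgroup:
`N` is simple and `C_G(N) = 1`.
-/
import Cfsg.Agent.Lib.Helper17.SidkiRedD

set_option autoImplicit false
universe u

namespace Cfsg.Agent.Lib.Helper17.SidkiRed

open Cfsg

variable {G : Type u} [Group G] [Finite G] {V N L : Subgroup G}

/-- `C_G(N) = 1` when `G = N V` -/
theorem MC.centralizer_trivial (h : MC V) (N : Subgroup G) [hN : N.Normal]
    (hZ : ∀ n ∈ N, (∀ m ∈ N, n * m = m * n) → n = 1) (hNV : N ⊔ V = ⊤) :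
    ∀ x : G, (∀ n ∈ N, x * n = n * x) → x = 1 := by
  set C : Subgroup G := Subgroup.centralizer (N : Set G) with hC
  have hCn : C.Normal := Subgroup.normal_centralizer
  have hCmem : ∀ x, x ∈ C ↔ ∀ n ∈ N, x * n = n * x := by
    intro x
    rw [hC, Subgroup.mem_centralizer_iff]
    constructor
    · intro hx n hn; exact (hx n hn).symm
    · intro hx n hn; exact (hx n hn).symm
  have hsq : ∀ c ∈ C, c * c = 1 := by
    intro c hc
    have hc' : c ∈ ((N ⊔ V : Subgroup G) : Set G) := by rw [hNV]; exact Set.mem_univ _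
    rw [Subgroup.normal_mul] at hc'
    obtain ⟨n, hn, v, hv, rfl⟩ := hc'
    have h1 : n * v * (n * v) = n * (v * n * v⁻¹) * (v * v) := by group
    have h2 : n * v * (n * v) ∈ N := by
      rw [h1, h.sq hv, mul_one]
      exact N.mul_mem hn (hN.conj_mem n hn v)
    apply hZ _ h2
    exact (hCmem _).1 (C.mul_mem hc hc)
  have hp : IsPGroup 2 C := by
    intro c
    refine ⟨1, Subtype.ext ?_⟩
    have := hsq c.1 c.2
    simpa [pow_two] using this
  have hbot := no_normal_two_sub' h.core C hCn hp
  intro x hx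
  have : x ∈ C := (hCmem x).2 hx
  rw [hbot, Subgroup.mem_bot] at this
  exact this

/-- in the situation `G = N V`, `V` normalizes the minimal `N`-invariant subgroup `L` -/
theorem MC.normalizes (h : MC V) (d : LData N L) (hNV : N ⊔ V = ⊤)
    (hcent : ∀ x : G, (∀ n ∈ N, x * n = n * x) → x = 1) :
    V ≤ Subgroup.normalizer (L : Set G) := by
  classical
  by_contra hnot
  obtain ⟨v, hvV, hvL⟩ : ∃ v ∈ V, v ∉ Subgroup.normalizer (L : Set G) := by
    by_contra hcon
    push Not at hcon
    exact hnot hcon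
  haveI := d.normal
  set V₁ : Subgroup G := V ⊓ Subgroup.normalizer (L : Set G) with hV₁
  have hV₁V : V₁ ≤ V := inf_le_left
  have hV₁L : V₁ ≤ Subgroup.normalizer (L : Set G) := inf_le_right
  have hcjv : cj v L ≠ L := fun hc => hvL (mem_normalizer_iff_cj.2 hc)
  -- an element of `L` lying in a different conjugate is trivial
  have hmeet : ∀ x : G, cj x L ≠ L → ∀ z ∈ L, z ∈ cj x L → z = 1 := by
    intro x hx z hzL hzx
    rcases d.dichotomy0 x with h0 | h0
    · exact absurd h0 hx
    · apply d.center_L z hzL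
      intro b hb
      exact (h0 b hb z hzx).symm
  -- `V₁ ≠ 1`
  have hV₁ne : V₁ ≠ ⊥ := by
    intro hbot
    have hV₁1 : ∀ x ∈ V, x ∈ Subgroup.normalizer (L : Set G) → x = 1 := by
      intro x hx hxL
      have : x ∈ V₁ := ⟨hx, hxL⟩
      rw [hbot, Subgroup.mem_bot] at this
      exact this
    obtain ⟨h₁, hh₁L, hh₁1, hh₁odd⟩ := d.exists_odd
    set a : G := h₁⁻¹ with ha
    set b : G := v * h₁ * v⁻¹ with hb
    have haL : a ∈ L := L.inv_mem hh₁L
    have hbL : b ∈ cj v L := conj_mem_cj hh₁L
    have ha1 : a ≠ 1 := by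
      intro h1; apply hh₁1; rw [ha, inv_eq_one] at h1; exact h1
    have hLv : ∀ x ∈ L, ∀ y ∈ cj v L, x * y = y * x := by
      rcases d.dichotomy0 v with h0 | h0
      · exact absurd h0 hcjv
      · exact h0
    have hab : a * b = b * a := hLv a haL b hbL
    have hvi : v⁻¹ = v := h.inv hvV
    have hinv : v * (a * b) * v⁻¹ = (a * b)⁻¹ := by
      have h1 : v * a * v⁻¹ = b⁻¹ := by rw [ha, hb]; group
      have h2 : v * b * v⁻¹ = a⁻¹ := by
        rw [ha, hb, inv_inv]
        calc v * (v * h₁ * v⁻¹) * v⁻¹ = (v * v) * h₁ * (v * v)⁻¹ := by group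
          _ = h₁ := by rw [h.sq hvV]; group
      calc v * (a * b) * v⁻¹ = (v * a * v⁻¹) * (v * b * v⁻¹) := by group
        _ = b⁻¹ * a⁻¹ := by rw [h1, h2]
        _ = (a * b)⁻¹ := by group
    have haodd : Odd (orderOf a) := odd_orderOf_inv hh₁odd
    have hbodd : Odd (orderOf b) := odd_orderOf_conj hh₁odd v
    have habodd : Odd (orderOf (a * b)) := odd_orderOf_mul haodd hbodd hab
    obtain ⟨w, hwV, hw1, hwc⟩ := h.sidki (a * b) v hvV habodd hinv
    rcases d.dichotomy0 w with h0 | h0
    · exact hw1 (hV₁1 w hwV (mem_normalizer_iff_cj.2 h0))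
    · rcases d.dichotomy w v with h1 | h1
      · -- `w = v`
        have h2 : cj (v⁻¹ * w) L = L := by
          rw [LData.cj_mul, h1, ← LData.cj_mul, inv_mul_cancel, cj_one]
        have h3 : v⁻¹ * w = 1 :=
          hV₁1 _ (V.mul_mem (V.inv_mem hvV) hwV) (mem_normalizer_iff_cj.2 h2)
        have hwv : w = v := by
          calc w = v * (v⁻¹ * w) := by group
            _ = v := by rw [h3, mul_one]
        rw [hwv] at hwc
        have h4 : (a * b)⁻¹ = a * b := by
          rw [← hinv, hwc]; group
        have h5 : a * b = 1 := by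
          apply eq_one_of_sq_of_odd habodd
          calc a * b * (a * b) = (a * b) * (a * b)⁻¹ := by rw [h4]
            _ = 1 := by group
        have h6 : a = b⁻¹ := eq_inv_of_mul_eq_one_left h5
        apply ha1
        apply hmeet v hcjv a haL
        rw [h6]
        exact (cj v L).inv_mem hbL
      · -- all of `L` centralizes `a`
        apply ha1
        apply d.center_L a haL
        intro l hl
        set c : G := w * l * w⁻¹ with hc
        have hcw : c ∈ cj w L := conj_mem_cj hl
        have hca : a * c = c * a := h0 a haL c hcw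
        have hcb : c * b = b * c := h1 c hcw b hbL
        have hcab : c * (a * b) = (a * b) * c := by
          calc c * (a * b) = (c * a) * b := by group
            _ = (a * c) * b := by rw [hca]
            _ = a * (c * b) := by group
            _ = a * (b * c) := by rw [hcb]
            _ = (a * b) * c := by group
        have hwc' : w⁻¹ * (a * b) = (a * b) * w⁻¹ := by
          calc w⁻¹ * (a * b) = w⁻¹ * ((a * b) * w) * w⁻¹ := by group
            _ = w⁻¹ * (w * (a * b)) * w⁻¹ := by rw [hwc]
            _ = (a * b) * w⁻¹ := by group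
        have hlab : l * (a * b) = (a * b) * l := by
          calc l * (a * b) = w⁻¹ * c * (w * (a * b)) := by rw [hc]; group
            _ = w⁻¹ * c * ((a * b) * w) := by rw [hwc]
            _ = w⁻¹ * (c * (a * b)) * w := by group
            _ = w⁻¹ * ((a * b) * c) * w := by rw [hcab]
            _ = (w⁻¹ * (a * b)) * c * w := by group
            _ = ((a * b) * w⁻¹) * c * w := by rw [hwc']
            _ = (a * b) * l := by rw [hc]; group
        have hlb : l * b = b * l := hLv l hl b hbL
        have h7 : (l * a) * b = (a * l) * b := by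
          calc (l * a) * b = l * (a * b) := by group
            _ = (a * b) * l := hlab
            _ = a * (b * l) := by group
            _ = a * (l * b) := by rw [hlb]
            _ = (a * l) * b := by group
        exact (mul_right_cancel h7).symm
  -- the pair `(L V₁, V₁)`
  have hHle : L ⊔ V₁ ≤ Subgroup.normalizer (L : Set G) := sup_le Subgroup.le_normalizer hV₁L
  have hHtop : L ⊔ V₁ ≠ ⊤ := by
    intro htop
    apply hvL
    apply hHle
    rw [htop]; exact Subgroup.mem_top _
  have hV₁sq : ∀ e ∈ V₁, e * e = 1 := fun e he => h.sq (hV₁V he)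
  obtain ⟨u, huV₁, hu1, Q, huQ, hQH, hQ2, hHQ⟩ := exists_core_elt h.minG (L ⊔ V₁) V₁ hHtop
    le_sup_right (isElementaryAbelian_of_le h.ea hV₁V) hV₁ne (by
      intro x hx u hu hodd hinv
      have hxL : x ∈ L := odd_mem_of_mem_sup hV₁L hV₁sq hx hodd
      by_cases hx1 : x = 1
      · obtain ⟨w', hw', hw'1⟩ : ∃ w' : G, w' ∈ V₁ ∧ w' ≠ 1 := by
          by_contra hcon
          push Not at hcon
          apply hV₁ne
          rw [eq_bot_iff]
          intro y hy
          exact Subgroup.mem_bot.2 (hcon y hy)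
        exact ⟨w', hw', hw'1, by rw [hx1, mul_one, one_mul]⟩
      · obtain ⟨w, hwV, hw1, hwc⟩ := h.sidki x u (hV₁V hu) hodd hinv
        refine ⟨w, Subgroup.mem_inf.2 ⟨hwV, ?_⟩, hw1, hwc⟩
        rw [mem_normalizer_iff_cj]
        by_contra hne
        apply hx1
        apply hmeet w hne x hxL
        have : x = w * x * w⁻¹ := by rw [hwc]; group
        rw [this]
        exact conj_mem_cj hxL)
  have hcomm := commute_of_core hQ2 hQH hHQ le_sup_left hHle
    (fun R hRL hR hLR => d.no_two_sub R hRL hR hLR) u huQ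
  -- `u` centralizes `N`
  apply hu1
  apply hcent
  have hN : N ≤ Subgroup.centralizer ({u} : Set G) := by
    apply d.le_of_conj
    intro g l hl
    have hg : g ∈ ((N ⊔ V : Subgroup G) : Set G) := by rw [hNV]; exact Set.mem_univ _
    rw [Subgroup.normal_mul] at hg
    obtain ⟨n, hn, x, hx, rfl⟩ := hg
    have h1 : n * x * l * (n * x)⁻¹ ∈ cj x L := by
      have h2 : x * l * x⁻¹ ∈ cj x L := conj_mem_cj hl
      have h3 := (Subgroup.mem_normalizer_iff.1 (d.cj_inv x hn) _).1 h2
      have h4 : n * x * l * (n * x)⁻¹ = n * (x * l * x⁻¹) * n⁻¹ := by group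
      rw [h4]; exact h3
    rw [mem_cj] at h1
    set l' : G := x⁻¹ * (n * x * l * (n * x)⁻¹) * x with hl'
    have h5 : n * x * l * (n * x)⁻¹ = x * l' * x⁻¹ := by rw [hl']; group
    rw [h5, Subgroup.mem_centralizer_iff]
    intro y hy
    rw [Set.mem_singleton_iff] at hy
    rw [hy]
    have hux : u * x = x * u := h.comm (hV₁V huV₁) hx
    have hul : u * l' = l' * u := hcomm l' h1
    have hux' : u * x⁻¹ = x⁻¹ * u := by
      calc u * x⁻¹ = x⁻¹ * (x * u) * x⁻¹ := by group
        _ = x⁻¹ * (u * x) * x⁻¹ := by rw [hux]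
        _ = x⁻¹ * u := by group
    calc u * (x * l' * x⁻¹) = (u * x) * l' * x⁻¹ := by group
      _ = (x * u) * l' * x⁻¹ := by rw [hux]
      _ = x * (u * l') * x⁻¹ := by group
      _ = x * (l' * u) * x⁻¹ := by rw [hul]
      _ = x * l' * (u * x⁻¹) := by group
      _ = x * l' * (x⁻¹ * u) := by rw [hux']
      _ = x * l' * x⁻¹ * u := by group
  intro n hn
  have := Subgroup.mem_centralizer_iff.1 (hN hn) u rfl
  exact this

/-- Case C: if `G = N V` for a nonabelian minimal normal subgroup `N`, then `N` is simple. -/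
theorem MC.caseC (h : MC V) (N : Subgroup G) [hN : N.Normal] (hN1 : N ≠ ⊥)
    (hmin : ∀ M : Subgroup G, M.Normal → M ≤ N → M = ⊥ ∨ M = N)
    (hZ : ∀ n ∈ N, (∀ m ∈ N, n * m = m * n) → n = 1) (hNV : N ⊔ V = ⊤) :
    IsSimpleGroup ↥N := by
  classical
  have hcent := h.centralizer_trivial N hZ hNV
  obtain ⟨L, ⟨hLN, hL1, hLinv⟩, hLmin⟩ := exists_minimal_subgroup
    (fun L : Subgroup G => L ≤ N ∧ L ≠ ⊥ ∧ N ≤ Subgroup.normalizer (L : Set G))
    ⟨N, le_rfl, hN1, Subgroup.le_normalizer⟩
  have d : LData N L :=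
    { normal := hN
      minN := hmin
      center := hZ
      le := hLN
      ne := hL1
      inv := hLinv
      minL := by
        intro M hML hNM
        by_cases hM : M = ⊥
        · exact Or.inl hM
        · exact Or.inr (hLmin M ⟨hML.trans hLN, hM, hNM⟩ hML) }
  have hVL := h.normalizes d hNV hcent
  have hLnormal : L.Normal := by
    have h1 : Subgroup.normalizer (L : Set G) = ⊤ := by
      rw [eq_top_iff, ← hNV]
      exact sup_le hLinv hVL
    exact Subgroup.normalizer_eq_top_iff.1 h1
  have hLeq : L = N := by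
    rcases hmin L hLnormal hLN with h0 | h0
    · exact absurd h0 hL1
    · exact h0
  haveI : Nontrivial ↥N := (Subgroup.nontrivial_iff_ne_bot N).2 hN1
  refine ⟨fun K hK => ?_⟩
  have hKle : K.map N.subtype ≤ L := by rw [hLeq]; exact Subgroup.map_subtype_le K
  have hKinv : N ≤ Subgroup.normalizer ((K.map N.subtype : Subgroup G) : Set G) := by
    intro n hn
    have h1 : (⟨n, hn⟩ : N) ∈ Subgroup.normalizer ((K : Subgroup ↥N) : Set ↥N) := by
      rw [Subgroup.normalizer_eq_top]
      exact Subgroup.mem_top _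
    exact Subgroup.le_normalizer_map N.subtype ⟨⟨n, hn⟩, h1, rfl⟩
  rcases d.minL _ hKle hKinv with h0 | h0
  · left
    exact (Subgroup.map_eq_bot_iff_of_injective K N.subtype_injective).1 h0
  · right
    rw [eq_top_iff]
    intro x _
    have hx : (x : G) ∈ K.map N.subtype := by
      rw [h0, hLeq]; exact x.2
    obtain ⟨k, hk, hkx⟩ := hx
    have : k = x := Subtype.ext hkx
    rw [← this]; exact hk

end Cfsg.Agent.Lib.Helper17.SidkiRed
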