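/-
Helper lemmas (helper17) for S3048: `O_2(G) = 1` in a minimal counterexample, and `F*(G) = N` for a
simple normal subgroup `N` with trivial centralizer; final assembly.
-/
import Cfsg.Agent.Lib.Helper17.SidkiRedE
import Cfsg.Agent.Lib.Helper8.Components

set_option autoImplicit false
universe u

namespace Cfsg.Agent.Lib.Helper17.SidkiRed

open Cfsg
open scoped commutatorElement

theorem pCore_quot_eq_bot' {M : Type*} [Group M] [Finite M] [hn : (Cfsg.pCore 2 M).Normal] :
    Cfsg.pCore 2 (M ⧸ Cfsg.pCore 2 M) = ⊥ := by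
  haveI : Fact (Nat.Prime 2) := ⟨Nat.prime_two⟩
  set O := Cfsg.pCore 2 M with hO
  set Nb := Cfsg.pCore 2 (M ⧸ O) with hNb
  haveI : Nb.Normal := pCore_normal 2 _
  have hN : Nb.comap (QuotientGroup.mk' O) ≤ O := by
    apply le_pCore
    · infer_instance
    · intro ⟨g, hg⟩
      obtain ⟨k, hk⟩ := (pCore_isPGroup 2 (M ⧸ O)) ⟨QuotientGroup.mk' O g, hg⟩
      have hk' : (QuotientGroup.mk' O g) ^ (2 ^ k) = 1 := by
        have := congrArg Subtype.val hk
        simpa using this
      rw [← map_pow, QuotientGroup.mk'_apply, QuotientGroup.eq_one_iff] at hk'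
      obtain ⟨m, hm⟩ := (pCore_isPGroup 2 M) ⟨g ^ (2 ^ k), hk'⟩
      have hm' : (g ^ (2 ^ k)) ^ (2 ^ m) = 1 := by
        have := congrArg Subtype.val hm
        simpa using this
      refine ⟨k + m, Subtype.ext ?_⟩
      simp only [Subgroup.coe_pow, Subgroup.coe_one]
      rw [pow_add, pow_mul]
      exact hm'
  rw [eq_bot_iff]
  intro x hx
  obtain ⟨y, rfl⟩ := QuotientGroup.mk'_surjective O x
  have : y ∈ O := hN hx
  rw [Subgroup.mem_bot]
  exact (QuotientGroup.eq_one_iff y).mpr this

/-- Step 1: `O_2(G) = 1` -/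
theorem core_eq_bot {G : Type u} [Group G] [Finite G] (V : Subgroup G)
    (hV : Cfsg.IsElementaryAbelian 2 V) (hV1 : V ≠ ⊥) (hS : Cfsg.IsSidkiPair V)
    (hVO : V ⊓ Cfsg.pCore 2 G = ⊥) (hminG : MinG G) : Cfsg.pCore 2 G = ⊥ := by
  by_contra hQ
  haveI hQn : (Cfsg.pCore 2 G).Normal := pCore_normal 2 G
  have hcard : Nat.card (G ⧸ Cfsg.pCore 2 G) < Nat.card G := by
    rw [Subgroup.card_eq_card_quotient_mul_card_subgroup (Cfsg.pCore 2 G)]
    have h1 : 1 < Nat.card (Cfsg.pCore 2 G) := (Subgroup.one_lt_card_iff_ne_bot _).mpr hQ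
    have h2 : 0 < Nat.card (G ⧸ Cfsg.pCore 2 G) := Nat.card_pos
    nlinarith
  set W : Subgroup (G ⧸ Cfsg.pCore 2 G) := V.map (QuotientGroup.mk' (Cfsg.pCore 2 G)) with hW
  have hWea : Cfsg.IsElementaryAbelian 2 W := isElementaryAbelian_map hV _
  have hW1 : W ≠ ⊥ := by
    intro hbot
    apply hV1
    rw [eq_bot_iff]
    intro v hv
    have h1 : QuotientGroup.mk' (Cfsg.pCore 2 G) v ∈ W := ⟨v, hv, rfl⟩
    rw [hbot, Subgroup.mem_bot] at h1
    have hvQ : v ∈ Cfsg.pCore 2 G := by
      rw [← QuotientGroup.ker_mk' (Cfsg.pCore 2 G)]; exact h1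
    have : v ∈ V ⊓ Cfsg.pCore 2 G := ⟨hv, hvQ⟩
    rw [hVO] at this
    exact this
  have hWS : Cfsg.IsSidkiPair W := Cfsg.Agent.S3012.result V (Cfsg.pCore 2 G) hV hV1 hS hVO
  have hmain := hminG (G ⧸ Cfsg.pCore 2 G) W hcard hWea hW1 hWS
  apply hmain
  rw [pCore_quot_eq_bot', inf_bot_eq]

theorem isQuasisimple_of_simple {K : Type*} [Group K] [hK : IsSimpleGroup K]
    (hna : ¬ ∀ a b : K, a * b = b * a) : Cfsg.IsQuasisimple K := by
  have hcenter : Subgroup.center K = ⊥ := by
    rcases hK.eq_bot_or_eq_top_of_normal (Subgroup.center K) inferInstance with h0 | h0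
    · exact h0
    · exfalso
      apply hna
      intro a b
      have : a ∈ Subgroup.center K := by rw [h0]; exact Subgroup.mem_top _
      exact ((Subgroup.mem_center_iff.1 this) b).symm
  constructor
  · constructor
    rcases hK.eq_bot_or_eq_top_of_normal (commutator K) inferInstance with h0 | h0
    · exfalso
      apply hna
      intro a b
      have h1 : ⁅a, b⁆ ∈ commutator K := by
        rw [commutator_def]
        exact Subgroup.commutator_mem_commutator (Subgroup.mem_top a) (Subgroup.mem_top b)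
      rw [h0, Subgroup.mem_bot, commutatorElement_def] at h1
      calc a * b = (a * b * a⁻¹ * b⁻¹) * (b * a) := by group
        _ = b * a := by rw [h1, one_mul]
    · exact h0
  · haveI : Nontrivial (K ⧸ Subgroup.center K) := by
      obtain ⟨x, hx⟩ := exists_ne (1 : K)
      refine ⟨⟨QuotientGroup.mk' _ x, 1, ?_⟩⟩
      intro h1
      have : x ∈ Subgroup.center K := by
        rw [← QuotientGroup.ker_mk' (Subgroup.center K)]; exact h1
      rw [hcenter, Subgroup.mem_bot] at this
      exact hx this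
    exact IsSimpleGroup.isSimpleGroup_of_surjective (QuotientGroup.mk' (Subgroup.center K))
      (QuotientGroup.mk'_surjective _)

/-- `F*(G) = N` for a nonabelian simple normal subgroup with trivial centralizer -/
theorem fstar_eq_of_simple_normal {G : Type*} [Group G] [Finite G] (N : Subgroup G) [hN : N.Normal]
    [hs : IsSimpleGroup ↥N] (hna : ¬ ∀ a ∈ N, ∀ b ∈ N, a * b = b * a)
    (hcent : ∀ x : G, (∀ n ∈ N, x * n = n * x) → x = 1) :
    Cfsg.generalizedFittingSubgroup G = N := by
  have hq : Cfsg.IsQuasisimple ↥N := by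
    apply isQuasisimple_of_simple
    intro hc
    apply hna
    intro a ha b hb
    exact congrArg Subtype.val (hc ⟨a, ha⟩ ⟨b, hb⟩)
  have hcomp : Cfsg.IsComponent N := ⟨hN.isSubnormal, hq⟩
  have hcomm : ∀ A : Subgroup G, ⁅N, A⁆ = ⊥ → A = ⊥ := by
    intro A hA
    rw [eq_bot_iff]
    intro a ha
    rw [Subgroup.mem_bot]
    apply hcent
    intro n hn
    have h1 : ⁅n, a⁆ ∈ ⁅N, A⁆ := Subgroup.commutator_mem_commutator hn ha
    rw [hA, Subgroup.mem_bot, commutatorElement_def] at h1
    calc a * n = (n * a * n⁻¹ * a⁻¹)⁻¹ * (n * a) := by group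
      _ = n * a := by rw [h1, inv_one, one_mul]
  have hlayer : Cfsg.layer G = N := by
    apply le_antisymm
    · apply sSup_le
      intro K hK
      rcases Cfsg.Agent.Lib.Helper8.component_le_or_commutator_eq_bot K N hK hN.isSubnormal with h | h
      · exact h
      · have : K = ⊥ := hcomm K (by rw [Subgroup.commutator_comm]; exact h)
        rw [this]; exact bot_le
    · exact le_sSup hcomp
  have hfit : Cfsg.fittingSubgroup G = ⊥ := by
    rw [eq_bot_iff]
    apply sSup_le
    rintro M ⟨hMn, hMnil⟩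
    have hsolv : Group.IsSolvable ↥M := inferInstance
    have hinv : N ≤ Subgroup.normalizer (M : Set G) := by
      rw [Subgroup.normalizer_eq_top]; exact le_top
    have := Cfsg.Agent.Lib.Helper8.component_commutator_solvable_eq_bot N M hcomp hsolv hinv
    rw [hcomm M this]
  unfold Cfsg.generalizedFittingSubgroup
  rw [hlayer, hfit, sup_bot_eq]

end Cfsg.Agent.Lib.Helper17.SidkiRed
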