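/-
Helper lemmas (helper17) for S3755: an elementary abelian 2-group `A` acting faithfully on an odd order group `K`,
both acting on an elementary abelian 2-group `V` (`K` faithfully) with `|V : C_V(A)| < |A|²`, yields an involution
of `A` inverting an element of order 3 of `K`.
-/
import Mathlib
import Cfsg.Prelude.Def_Transfer
import Cfsg.Agent.Lib.Helper8.Hyperplane
import Cfsg.Agent.Lib.Helper17.Card
import Cfsg.Agent.S0028

set_option autoImplicit false

namespace Cfsg.Agent.Lib.Helper17

open Subgroup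

theorem commute_of_pow_commute_of_coprime {X : Type*} [Group X] [Finite X] {d u : X} {m : ℕ}
    (h : Commute (d ^ m) u) (hcop : m.Coprime (orderOf d)) : Commute d u := by
  obtain ⟨s, hs⟩ := exists_pow_eq_self_of_coprime hcop
  rw [← hs]
  exact h.pow_left s

/-- If `d` of odd order normalizes the elementary abelian 2-group `U` and centralizes a subgroup `C₀` of index at
most 4 in `U`, then `d ^ 3` centralizes `U`. -/
theorem pow_three_mem_centralizer {X : Type*} [Group X] [Finite X] (U C₀ : Subgroup X) (d : X)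
    (hU2 : ∀ u ∈ U, u ^ 2 = 1)
    (hdU : d ∈ normalizer (U : Set X)) (hC₀U : C₀ ≤ U) (hC₀d : d ∈ centralizer (C₀ : Set X))
    (hidx : C₀.relIndex U ≤ 4) (hodd : Odd (orderOf d)) :
    d ^ 3 ∈ centralizer (U : Set X) := by
  classical
  rw [Subgroup.mem_centralizer_iff]
  intro u hu
  have hconj : ∀ i : ℕ, d ^ i * u * (d ^ i)⁻¹ ∈ U := fun i =>
    (Subgroup.mem_normalizer_iff.mp (Subgroup.pow_mem _ hdU i) u).mp hu
  have hdc : ∀ (i : ℕ), ∀ c ∈ C₀, d ^ i * c = c * d ^ i := by
    intro i c hc
    have h1 : Commute d c := (Subgroup.mem_centralizer_iff.mp hC₀d c hc).symm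
    exact (h1.pow_left i).eq
  let f : Fin 5 → ↥U ⧸ C₀.subgroupOf U := fun i =>
    QuotientGroup.mk (⟨d ^ (i : ℕ) * u * (d ^ (i : ℕ))⁻¹, hconj i⟩ : U)
  haveI : Fintype (↥U ⧸ C₀.subgroupOf U) := Fintype.ofFinite _
  have hcard : Fintype.card (↥U ⧸ C₀.subgroupOf U) < Fintype.card (Fin 5) := by
    rw [Fintype.card_fin, ← Nat.card_eq_fintype_card]
    have : Nat.card (↥U ⧸ C₀.subgroupOf U) = C₀.relIndex U := by
      rw [Subgroup.relIndex, Subgroup.index_eq_card]
    omega
  obtain ⟨i, j, hij, hfij⟩ := Fintype.exists_ne_map_eq_of_card_lt f hcard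
  -- key: for i < j get the conclusion
  have key : ∀ i j : ℕ, i < j → j < 5 →
      (d ^ i * u * (d ^ i)⁻¹)⁻¹ * (d ^ j * u * (d ^ j)⁻¹) ∈ C₀ → u * d ^ 3 = d ^ 3 * u := by
    intro i j hij hj hc
    set k := j - i with hk
    have hjk : j = i + k := by omega
    set c := (d ^ i * u * (d ^ i)⁻¹)⁻¹ * (d ^ j * u * (d ^ j)⁻¹) with hcdef
    have h1 : c = d ^ i * (u⁻¹ * (d ^ k * u * (d ^ k)⁻¹)) * (d ^ i)⁻¹ := by
      rw [hcdef, hjk, pow_add]; group
    have h2 : u⁻¹ * (d ^ k * u * (d ^ k)⁻¹) = c := by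
      have h3 := hdc i c hc
      have : u⁻¹ * (d ^ k * u * (d ^ k)⁻¹) = (d ^ i)⁻¹ * c * d ^ i := by
        rw [h1]; group
      rw [this, mul_assoc, ← h3]; group
    have h3 : d ^ k * u * (d ^ k)⁻¹ = u * c := by rw [← h2]; group
    have hcU : c ∈ U := hC₀U hc
    have hc2 : c * c = 1 := by rw [← pow_two]; exact hU2 c hcU
    have h4 : d ^ k * c * (d ^ k)⁻¹ = c := by rw [hdc k c hc]; group
    have h5 : (d ^ k) ^ 2 * u * ((d ^ k) ^ 2)⁻¹ = u := by
      calc (d ^ k) ^ 2 * u * ((d ^ k) ^ 2)⁻¹
          = d ^ k * (d ^ k * u * (d ^ k)⁻¹) * (d ^ k)⁻¹ := by group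
        _ = d ^ k * (u * c) * (d ^ k)⁻¹ := by rw [h3]
        _ = (d ^ k * u * (d ^ k)⁻¹) * (d ^ k * c * (d ^ k)⁻¹) := by group
        _ = u * c * c := by rw [h3, h4]
        _ = u := by rw [mul_assoc, hc2, mul_one]
    have h6 : Commute ((d ^ k) ^ 2) u := by
      show (d ^ k) ^ 2 * u = u * (d ^ k) ^ 2
      calc (d ^ k) ^ 2 * u = ((d ^ k) ^ 2 * u * ((d ^ k) ^ 2)⁻¹) * (d ^ k) ^ 2 := by group
        _ = u * (d ^ k) ^ 2 := by rw [h5]
    have hoddk : Odd (orderOf (d ^ k)) := Odd.of_dvd_nat hodd (orderOf_pow_dvd k)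
    have h7 : Commute (d ^ k) u :=
      commute_of_pow_commute_of_coprime h6 (Nat.coprime_two_left.mpr hoddk)
    have hk4 : k = 1 ∨ k = 2 ∨ k = 3 ∨ k = 4 := by omega
    have h8 : Commute (d ^ 3) u := by
      rcases hk4 with h | h | h | h
      · rw [h, pow_one] at h7; exact h7.pow_left 3
      · rw [h] at h7
        exact (commute_of_pow_commute_of_coprime h7 (Nat.coprime_two_left.mpr hodd)).pow_left 3
      · rw [h] at h7; exact h7
      · rw [h] at h7
        have : Nat.Coprime 4 (orderOf d) := by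
          have : Nat.Coprime (2 ^ 2) (orderOf d) :=
            Nat.Coprime.pow_left 2 (Nat.coprime_two_left.mpr hodd)
          simpa using this
        exact (commute_of_pow_commute_of_coprime h7 this).pow_left 3
    exact h8.eq.symm
  have hq : ∀ i j : Fin 5, f i = f j →
      (d ^ (i : ℕ) * u * (d ^ (i : ℕ))⁻¹)⁻¹ * (d ^ (j : ℕ) * u * (d ^ (j : ℕ))⁻¹) ∈ C₀ := by
    intro i j h
    have := QuotientGroup.eq.mp h
    rw [Subgroup.mem_subgroupOf] at this
    simpa using this
  rcases lt_or_gt_of_ne (fun h => hij (Fin.ext h) : (i : ℕ) ≠ j) with h | h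
  · exact key i j h j.2 (hq i j hfij)
  · exact key j i h i.2 (hq j i hfij.symm)


theorem mem_normalizer_inf_centralizer {X : Type*} [Group X] (V B : Subgroup X) {g : X}
    (hgV : g ∈ normalizer (V : Set X)) (hgB : g ∈ centralizer (B : Set X)) :
    g ∈ normalizer ((V ⊓ centralizer (B : Set X) : Subgroup X) : Set X) := by
  apply Subgroup.inf_normalizer_le_normalizer_inf
  exact Subgroup.mem_inf.mpr ⟨hgV, Subgroup.le_normalizer hgB⟩

theorem isElementaryAbelian_of_le {X : Type*} [Group X] {p : ℕ} {A B : Subgroup X}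
    (hA : Cfsg.IsElementaryAbelian p A) (hBA : B ≤ A) : Cfsg.IsElementaryAbelian p B :=
  ⟨⟨⟨fun x y => Subtype.ext (Cfsg.Agent.Lib.Helper8.elemAb_comm hA (hBA x.2) (hBA y.2))⟩⟩,
    fun b hb => hA.2 b (hBA hb)⟩

theorem isPGroup_of_isElementaryAbelian {X : Type*} [Group X] {p : ℕ} {A : Subgroup X}
    (hA : Cfsg.IsElementaryAbelian p A) : IsPGroup p A := by
  rintro ⟨g, hg⟩
  exact ⟨1, Subtype.ext (by simpa using hA.2 g hg)⟩

/-- Main induction. -/
theorem exists_inverted_order_three {X : Type*} [Group X] [Finite X] (V K : Subgroup X)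
    (hV : Cfsg.IsElementaryAbelian 2 V) (hKodd : Odd (Nat.card K))
    (hKV : K ≤ normalizer (V : Set X)) (hKfaith : K ⊓ centralizer (V : Set X) = ⊥) :
    ∀ n : ℕ, ∀ A : Subgroup X, Nat.card A = n → Cfsg.IsElementaryAbelian 2 A →
      A ≤ normalizer (K : Set X) → A ≤ normalizer (V : Set X) → A ⊓ centralizer (K : Set X) = ⊥ →
      (V ⊓ centralizer (A : Set X)).relIndex V < Nat.card A ^ 2 →
      ∃ a ∈ A, ∃ e ∈ K, orderOf e = 3 ∧ a * e * a⁻¹ = e⁻¹ := by
  intro n
  induction n using Nat.strong_induction_on with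
  | _ n ih =>
  intro A hAn hA hAK hAV hAfaith hsmall
  haveI h2 : Fact (Nat.Prime 2) := ⟨Nat.prime_two⟩
  have hKcop : (Nat.card K).Coprime 2 := (Nat.coprime_two_left.mpr hKodd).symm
  have hAp : IsPGroup 2 A := isPGroup_of_isElementaryAbelian hA
  have hVp : IsPGroup 2 V := isPGroup_of_isElementaryAbelian hV
  have hA1 : A ≠ ⊥ := by
    rintro rfl
    have h1 : V ⊓ centralizer ((⊥ : Subgroup X) : Set X) = V := by
      rw [inf_eq_left]
      intro v _
      rw [Subgroup.mem_centralizer_iff]
      intro x hx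
      rw [Subgroup.coe_bot, Set.mem_singleton_iff] at hx
      subst hx; simp
    rw [h1, Subgroup.relIndex_self, Subgroup.card_bot] at hsmall
    omega
  have hnc : ¬ K ≤ centralizer (A : Set X) := by
    intro hc
    apply hA1
    rw [eq_bot_iff, ← hAfaith]
    exact le_inf le_rfl (Subgroup.le_centralizer_iff.mp hc)
  have hcop : (Nat.card A).Coprime (Nat.card K) := by
    obtain ⟨k, hk⟩ := IsPGroup.iff_card.mp hAp
    rw [hk]
    exact (Nat.Coprime.pow_right k hKcop).symm
  obtain ⟨B, hBA, hBi, hBn⟩ := Cfsg.Agent.Lib.Helper8.exists_index_p_centralizer_not_le 2 A K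
    (centralizer (A : Set X)) hA hA1 hAK hcop hnc
  have hcardAB : Nat.card A = 2 * Nat.card B := by
    have e1 := card_eq_relIndex_mul_card_inf A B
    rwa [hBi, inf_eq_right.mpr hBA] at e1
  by_cases hB : (V ⊓ centralizer (B : Set X)).relIndex V < Nat.card B ^ 2
  · have hBpos : 0 < Nat.card B := Nat.card_pos
    have hBlt : Nat.card B < n := by omega
    have hBfaith : B ⊓ centralizer (K : Set X) = ⊥ := by
      rw [eq_bot_iff, ← hAfaith]
      exact inf_le_inf_right _ hBA
    obtain ⟨a, ha, e, he, h3, hinv⟩ := ih (Nat.card B) hBlt B rfl (isElementaryAbelian_of_le hA hBA)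
      (hBA.trans hAK) (hBA.trans hAV) hBfaith hB
    exact ⟨a, hBA ha, e, he, h3, hinv⟩
  · push Not at hB
    obtain ⟨y, hy, hyn⟩ := SetLike.not_le_iff_exists.mp hBn
    obtain ⟨hyK, hyB⟩ := Subgroup.mem_inf.mp hy
    obtain ⟨a, haA, hax⟩ := Subgroup.relIndex_eq_two_iff.mp hBi
    have haB : a ∉ B := by
      have := hax 1 A.one_mem
      rcases this with ⟨h, _⟩ | ⟨_, h⟩
      · exact absurd B.one_mem ‹_›
      · simpa using h
    have hcases : ∀ c ∈ A, c ∈ B ∨ c * a ∈ B := by
      intro c hc
      rcases hax c hc with ⟨h, _⟩ | ⟨h, _⟩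
      · exact Or.inr h
      · exact Or.inl h
    have haa : a * a = 1 := by rw [← pow_two]; exact hA.2 a haA
    have hainv : a⁻¹ = a := inv_eq_of_mul_eq_one_right haa
    have haBc : a ∈ centralizer (B : Set X) := by
      rw [Subgroup.mem_centralizer_iff]
      intro b hb
      exact Cfsg.Agent.Lib.Helper8.elemAb_comm hA (hBA hb) haA
    -- elements commuting with `B` and `a` commute with `A`
    have hgen : ∀ g : X, g ∈ centralizer (B : Set X) → a * g = g * a → g ∈ centralizer (A : Set X) := by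
      intro g hgB hga
      rw [Subgroup.mem_centralizer_iff]
      intro c hc
      rcases hcases c hc with h | h
      · exact Subgroup.mem_centralizer_iff.mp hgB c h
      · have h1 := Subgroup.mem_centralizer_iff.mp hgB (c * a) h
        have : c * g * a = g * c * a := by
          calc c * g * a = c * (g * a) := by group
            _ = c * (a * g) := by rw [hga]
            _ = c * a * g := by group
            _ = g * (c * a) := h1
            _ = g * c * a := by group
        exact mul_right_cancel this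
    have hay : a * y ≠ y * a := fun h => hyn (hgen y hyB h)
    set d := a * y * a⁻¹ * y⁻¹ with hd
    have hdK : d ∈ K := by
      rw [hd]
      exact K.mul_mem ((Subgroup.mem_normalizer_iff.mp (hAK haA) y).mp hyK) (K.inv_mem hyK)
    have hd1 : d ≠ 1 := by
      intro h
      apply hay
      have : a * y = d * (y * a) := by rw [hd]; group
      rw [this, h, one_mul]
    have hinv : a * d * a⁻¹ = d⁻¹ := by
      symm
      apply inv_eq_of_mul_eq_one_right
      rw [hd, hainv]
      calc a * y * a * y⁻¹ * (a * (a * y * a * y⁻¹) * a)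
          = a * y * a * y⁻¹ * (a * a) * (y * a * y⁻¹ * a) := by group
        _ = a * y * a * y⁻¹ * 1 * (y * a * y⁻¹ * a) := by rw [haa]
        _ = a * y * (a * a) * y⁻¹ * a := by group
        _ = a * y * 1 * y⁻¹ * a := by rw [haa]
        _ = a * a := by group
        _ = 1 := haa
    have hdB : d ∈ centralizer (B : Set X) := by
      rw [hd]
      exact Subgroup.mul_mem _ (Subgroup.mul_mem _ (Subgroup.mul_mem _ haBc hyB)
        (Subgroup.inv_mem _ haBc)) (Subgroup.inv_mem _ hyB)
    have hdV : d ∈ normalizer (V : Set X) := hKV hdK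
    set U := V ⊓ centralizer (B : Set X) with hU
    have hUV : U ≤ V := inf_le_left
    have hUp : IsPGroup 2 U := hVp.to_le hUV
    have hU2 : ∀ u ∈ U, u ^ 2 = 1 := fun u hu => hV.2 u (hUV hu)
    have hCA : V ⊓ centralizer (A : Set X) = U ⊓ centralizer ({a} : Set X) := by
      ext g
      simp only [Subgroup.mem_inf, hU]
      constructor
      · rintro ⟨hgV, hgA⟩
        refine ⟨⟨hgV, Subgroup.centralizer_le (by exact_mod_cast hBA) hgA⟩, ?_⟩
        rw [Subgroup.mem_centralizer_iff]
        intro x hx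
        rw [Set.mem_singleton_iff] at hx
        subst hx
        exact Subgroup.mem_centralizer_iff.mp hgA x haA
      · rintro ⟨⟨hgV, hgB⟩, hga⟩
        refine ⟨hgV, hgen g hgB ?_⟩
        exact Subgroup.mem_centralizer_iff.mp hga a rfl
    set U₁ := U ⊓ centralizer ({a} : Set X) with hU₁
    set r := U₁.relIndex U with hr
    have hrm : r * U.relIndex V = (V ⊓ centralizer (A : Set X)).relIndex V := by
      rw [hCA]
      exact Subgroup.relIndex_mul_relIndex _ _ _ inf_le_left hUV
    have hmpos : 0 < U.relIndex V := by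
      have : U.relIndex V ∣ Nat.card V := Subgroup.relIndex_dvd_card U V
      exact Nat.pos_of_dvd_of_pos this Nat.card_pos
    have hr4 : r < 4 := by
      have h1 : r * U.relIndex V < (2 * Nat.card B) ^ 2 := by rw [hrm, ← hcardAB]; exact hsmall
      have h2' : (2 * Nat.card B) ^ 2 = 4 * Nat.card B ^ 2 := by ring
      rw [h2'] at h1
      have h3 : r * U.relIndex V < 4 * U.relIndex V :=
        lt_of_lt_of_le h1 (Nat.mul_le_mul_left 4 hB)
      exact lt_of_mul_lt_mul_right h3 (Nat.zero_le _)
    have hr2 : r ≤ 2 := by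
      have h1 : r ∣ Nat.card U := Subgroup.relIndex_dvd_card U₁ U
      obtain ⟨k, hk⟩ := IsPGroup.iff_card.mp hUp
      rw [hk] at h1
      obtain ⟨j, _, hj⟩ := (Nat.dvd_prime_pow Nat.prime_two).mp h1
      rcases j with _ | _ | j
      · rw [hj]; norm_num
      · rw [hj]; norm_num
      · exfalso
        rw [hj] at hr4
        have : 2 ^ 2 ≤ 2 ^ (j + 1 + 1) := Nat.pow_le_pow_right (by norm_num) (by omega)
        omega
    -- the conjugate `a' = y a y⁻¹`
    set a' := y * a * y⁻¹ with ha'
    set U₂ := U ⊓ centralizer ({a'} : Set X) with hU₂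
    have hyV : y ∈ normalizer (V : Set X) := hKV hyK
    have hyU : y ∈ normalizer (U : Set X) := mem_normalizer_inf_centralizer V B hyV hyB
    have hmapU : U.map (MulAut.conj y).toMonoidHom = U := by
      apply Subgroup.eq_of_le_of_card_ge
      · rintro _ ⟨u, hu, rfl⟩
        have : (MulAut.conj y).toMonoidHom u = y * u * y⁻¹ := by simp [MulAut.conj_apply]
        rw [this]
        exact (Subgroup.mem_normalizer_iff.mp hyU u).mp hu
      · rw [Subgroup.card_map_of_injective (MulAut.conj y).injective]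
    have hmapU₁ : U₁.map (MulAut.conj y).toMonoidHom ≤ U₂ := by
      rintro _ ⟨u, hu, rfl⟩
      have : (MulAut.conj y).toMonoidHom u = y * u * y⁻¹ := by simp [MulAut.conj_apply]
      rw [this]
      obtain ⟨huU, hua⟩ := Subgroup.mem_inf.mp hu
      refine Subgroup.mem_inf.mpr ⟨(Subgroup.mem_normalizer_iff.mp hyU u).mp huU, ?_⟩
      rw [Subgroup.mem_centralizer_iff]
      intro x hx
      rw [Set.mem_singleton_iff] at hx
      subst hx
      have h1 : a * u = u * a := Subgroup.mem_centralizer_iff.mp hua a rfl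
      calc y * a * y⁻¹ * (y * u * y⁻¹) = y * (a * u) * y⁻¹ := by group
        _ = y * (u * a) * y⁻¹ := by rw [h1]
        _ = y * u * y⁻¹ * (y * a * y⁻¹) := by group
    have hr₂ : U₂.relIndex U ≤ 2 := by
      have h1 : (U₁.map (MulAut.conj y).toMonoidHom).relIndex (U.map (MulAut.conj y).toMonoidHom)
          = r := Subgroup.relIndex_map_map_of_injective U₁ U (MulAut.conj y).injective
      rw [hmapU] at h1
      have h2' : U₂.relIndex U ∣ (U₁.map (MulAut.conj y).toMonoidHom).relIndex U :=
        Subgroup.relIndex_dvd_of_le_left U hmapU₁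
      rw [h1] at h2'
      have hrpos : 0 < r := by
        have : r ∣ Nat.card U := Subgroup.relIndex_dvd_card U₁ U
        exact Nat.pos_of_dvd_of_pos this Nat.card_pos
      exact (Nat.le_of_dvd hrpos h2').trans hr2
    set C₀ := U₁ ⊓ U₂ with hC₀
    have hC₀U : C₀ ≤ U := inf_le_left.trans inf_le_left
    have hC₀idx : C₀.relIndex U ≤ 4 := by
      calc C₀.relIndex U ≤ U₁.relIndex U * U₂.relIndex U := Subgroup.relIndex_inf_le
        _ ≤ 2 * 2 := Nat.mul_le_mul hr2 hr₂
    have hdC₀ : d ∈ centralizer (C₀ : Set X) := by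
      rw [Subgroup.mem_centralizer_iff]
      intro c hc
      obtain ⟨hc1, hc2⟩ := Subgroup.mem_inf.mp hc
      have h1 : a * c = c * a := Subgroup.mem_centralizer_iff.mp (Subgroup.mem_inf.mp hc1).2 a rfl
      have h2' : a' * c = c * a' := Subgroup.mem_centralizer_iff.mp (Subgroup.mem_inf.mp hc2).2 a' rfl
      have h3 : a'⁻¹ * c = c * a'⁻¹ := by
        calc a'⁻¹ * c = a'⁻¹ * (c * a') * a'⁻¹ := by group
          _ = a'⁻¹ * (a' * c) * a'⁻¹ := by rw [h2']
          _ = c * a'⁻¹ := by group
      have hda : d = a * a'⁻¹ := by rw [hd, ha']; group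
      rw [hda]
      calc c * (a * a'⁻¹) = (c * a) * a'⁻¹ := by group
        _ = (a * c) * a'⁻¹ := by rw [h1]
        _ = a * (c * a'⁻¹) := by group
        _ = a * (a'⁻¹ * c) := by rw [h3]
        _ = a * a'⁻¹ * c := by group
    have hdU : d ∈ normalizer (U : Set X) := mem_normalizer_inf_centralizer V B hdV hdB
    have hdodd : Odd (orderOf d) :=
      Odd.of_dvd_nat hKodd (Subgroup.orderOf_dvd_natCard K hdK)
    have hd3 : d ^ 3 ∈ centralizer (U : Set X) :=
      pow_three_mem_centralizer U C₀ d hU2 hdU hC₀U hdC₀ hC₀idx hdodd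
    by_cases h3 : 3 ∣ orderOf d
    · refine ⟨a, haA, d ^ (orderOf d / 3), K.pow_mem hdK _, ?_, ?_⟩
      · have hpos : 0 < orderOf d := orderOf_pos d
        have hne : orderOf d / 3 ≠ 0 := by
          obtain ⟨m, hm⟩ := h3
          rw [hm]
          have : 0 < m := by
            rcases Nat.eq_zero_or_pos m with h | h
            · rw [h] at hm; omega
            · exact h
          rw [Nat.mul_div_cancel_left m (by norm_num : 0 < 3)]
          omega
        have hdvd : orderOf d / 3 ∣ orderOf d := Nat.div_dvd_of_dvd h3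
        rw [orderOf_pow_of_dvd hne hdvd]
        obtain ⟨m, hm⟩ := h3
        have hmpos' : 0 < m := by
          rcases Nat.eq_zero_or_pos m with h | h
          · rw [h] at hm; omega
          · exact h
        rw [hm, Nat.mul_div_cancel_left m (by norm_num : 0 < 3)]
        exact Nat.mul_div_cancel 3 hmpos'
      · rw [← conj_pow, hinv, inv_pow]
    · exfalso
      have hcop3 : Nat.Coprime 3 (orderOf d) :=
        (Nat.Prime.coprime_iff_not_dvd Nat.prime_three).mpr h3
      have hdcU : d ∈ centralizer (U : Set X) := by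
        rw [Subgroup.mem_centralizer_iff]
        intro u hu
        have h1 : Commute (d ^ 3) u := (Subgroup.mem_centralizer_iff.mp hd3 u hu).symm
        exact (commute_of_pow_commute_of_coprime h1 hcop3).eq.symm
      -- Thompson P × Q
      have hPQ := Cfsg.Agent.S0028.result 2 B (Subgroup.zpowers d) V (hAp.to_le hBA)
        (by
          rw [Nat.card_zpowers]
          exact (Nat.coprime_two_left.mpr hdodd).symm)
        hVp
        (by
          intro b hb
          rw [Subgroup.mem_centralizer_iff]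
          intro x hx
          obtain ⟨k, rfl⟩ := Subgroup.mem_zpowers_iff.mp hx
          have h1 : Commute d b := (Subgroup.mem_centralizer_iff.mp hdB b hb).symm
          exact (h1.zpow_left k).eq)
        (hBA.trans hAV)
        (Subgroup.zpowers_le.mpr hdV)
        (by
          intro u hu
          rw [Subgroup.mem_centralizer_iff]
          intro x hx
          obtain ⟨k, rfl⟩ := Subgroup.mem_zpowers_iff.mp hx
          have h1 : Commute d u := (Subgroup.mem_centralizer_iff.mp hdcU u hu).symm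
          exact (h1.zpow_left k).eq)
      have hdV' : d ∈ K ⊓ centralizer (V : Set X) :=
        Subgroup.mem_inf.mpr ⟨hdK, hPQ (Subgroup.mem_zpowers d)⟩
      rw [hKfaith, Subgroup.mem_bot] at hdV'
      exact hd1 hdV'

end Cfsg.Agent.Lib.Helper17
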