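import Mathlib
import Cfsg.Agent.Lib.Helper19.FrobSolvA
import Cfsg.Agent.Lib.Helper20.SL23

/-!
helper17: a finite solvable group with at most one involution, of even order, without a normal
subgroup of index `2`, has `X / O(X) ≅ SL(2,3)`.
-/

set_option autoImplicit false
set_option linter.style.haveILetI false

namespace Cfsg.Agent.Lib.Helper17.SolvNoIndexTwo

/-- pull back an index-2 normal subgroup along a surjection -/
theorem exists_index_two_of_surjective {X Y : Type*} [Group X] [Group Y] (π : X →* Y)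
    (hπ : Function.Surjective π) (h : ∃ N : Subgroup Y, N.Normal ∧ N.index = 2) :
    ∃ N : Subgroup X, N.Normal ∧ N.index = 2 := by
  obtain ⟨N, hN, hi⟩ := h
  exact ⟨N.comap π, inferInstance, by rw [Subgroup.index_comap_of_surjective _ hπ, hi]⟩

/-- a nontrivial finite 2-group has a normal subgroup of index 2 -/
theorem exists_index_two_of_isPGroup {Y : Type*} [Group Y] [Finite Y] (hY : IsPGroup 2 Y)
    [Nontrivial Y] : ∃ N : Subgroup Y, N.Normal ∧ N.index = 2 := by
  haveI : Fact (Nat.Prime 2) := ⟨Nat.prime_two⟩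
  obtain ⟨k, hk⟩ := IsPGroup.iff_card.mp hY
  have hk0 : k ≠ 0 := by
    intro h0
    rw [h0, pow_zero] at hk
    have := Finite.one_lt_card (α := Y)
    omega
  obtain ⟨j, rfl⟩ : ∃ j, k = j + 1 := ⟨k - 1, by omega⟩
  obtain ⟨K, hK⟩ := Sylow.exists_subgroup_card_pow_prime (G := Y) 2 (n := j)
    (by rw [hk, pow_succ]; exact dvd_mul_right _ _)
  have hidx : K.index = 2 := by
    have h1 := Subgroup.card_mul_index K
    rw [hK, hk, pow_succ] at h1
    exact Nat.eq_of_mul_eq_mul_left (by positivity) h1
  exact ⟨K, Subgroup.normal_of_index_eq_two hidx, hidx⟩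

/-- a section of the right cardinality is the whole group -/
theorem mulEquiv_of_section_card {Y S : Type*} [Group Y] [Finite Y] [Group S] (H K : Subgroup Y)
    [(K.subgroupOf H).Normal] (e : (H ⧸ K.subgroupOf H) ≃* S) (hcard : Nat.card S = Nat.card Y) :
    Nonempty (Y ≃* S) := by
  have h1 : Nat.card H = Nat.card (H ⧸ K.subgroupOf H) * Nat.card (K.subgroupOf H) :=
    Subgroup.card_eq_card_quotient_mul_card_subgroup _
  rw [Nat.card_congr e.toEquiv, hcard] at h1
  have h2 : Nat.card H ≤ Nat.card Y := Subgroup.card_le_card_group H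
  have h3 : 0 < Nat.card (K.subgroupOf H) := Nat.card_pos
  have h4 : 0 < Nat.card Y := Nat.card_pos
  have h5 : Nat.card (K.subgroupOf H) = 1 := by
    by_contra hne
    have : 2 ≤ Nat.card (K.subgroupOf H) := by omega
    nlinarith
  have h6 : Nat.card H = Nat.card Y := by rw [h1, h5, mul_one]
  have hH : H = ⊤ := Subgroup.eq_top_of_card_eq _ h6
  have hbot : K.subgroupOf H = ⊥ := Subgroup.eq_bot_of_card_eq _ h5
  let f : H →* S := e.toMonoidHom.comp (QuotientGroup.mk' (K.subgroupOf H))
  have hfinj : Function.Injective f := by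
    rw [injective_iff_map_eq_one]
    intro x hx
    have h7 : QuotientGroup.mk' (K.subgroupOf H) x = 1 := by
      apply e.injective
      rw [map_one]
      exact hx
    have h8 : x ∈ K.subgroupOf H := by
      rwa [QuotientGroup.mk'_apply, QuotientGroup.eq_one_iff] at h7
    rw [hbot] at h8
    exact Subgroup.mem_bot.mp h8
  have hfsurj : Function.Surjective f :=
    e.surjective.comp (QuotientGroup.mk'_surjective _)
  have e1 : H ≃* S := MulEquiv.ofBijective f ⟨hfinj, hfsurj⟩
  have e2 : H ≃* Y := (MulEquiv.subgroupCongr hH).trans Subgroup.topEquiv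
  exact ⟨e2.symm.trans e1⟩

/-- a surjection onto `ℤˣ` gives a normal subgroup of index 2 -/
theorem exists_index_two_of_surjective_units {Y : Type*} [Group Y] (f : Y →* ℤˣ)
    (hf : Function.Surjective f) : ∃ N : Subgroup Y, N.Normal ∧ N.index = 2 := by
  refine ⟨f.ker, inferInstance, ?_⟩
  rw [Subgroup.index_ker, MonoidHom.range_eq_top.mpr hf, Subgroup.card_top,
    Nat.card_eq_fintype_card, Fintype.card_units_int]

open Cfsg.Agent.Lib.Helper23.Q8Aut Cfsg.Agent.Lib.Helper23.RankOne in
/-- the case of trivial odd core -/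
theorem sl23_of_core_trivial {Y : Type*} [Group Y] [Finite Y] [Group.IsSolvable Y] [Nontrivial Y]
    (hO : Cfsg.pPrimeCore 2 Y = ⊥)
    (huniq : ∀ s t : Y, orderOf s = 2 → orderOf t = 2 → s = t)
    (hno : ¬ ∃ N : Subgroup Y, N.Normal ∧ N.index = 2) :
    Nat.card Y = 24 ∧ Nonempty (Y ≃* Matrix.SpecialLinearGroup (Fin 2) (ZMod 3)) := by
  classical
  haveI : Fact (Nat.Prime 2) := ⟨Nat.prime_two⟩
  obtain ⟨R, hR⟩ : ∃ R : Subgroup Y, R = Cfsg.pCore 2 Y := ⟨_, rfl⟩
  haveI hRn : R.Normal := by rw [hR]; exact Cfsg.Agent.Lib.Helper1.pCore_normal 2 Y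
  have hRp : IsPGroup 2 R := by rw [hR]; exact Cfsg.Agent.Lib.Helper1.pCore_isPGroup 2 Y
  have hF : Cfsg.fittingSubgroup Y = R := by
    rw [hR]
    exact Cfsg.Agent.Lib.Helper9.fittingSubgroup_eq_pCore_of_pPrimeCore_eq_bot 2 hO
  have hCQ : Subgroup.centralizer (R : Set Y) ≤ R := by
    have := Cfsg.Agent.S0044.result (G := Y)
    rwa [hF] at this
  have huniqR : ∀ s t : R, orderOf s = 2 → orderOf t = 2 → s = t := by
    intro s t hs ht
    apply Subtype.ext
    apply huniq
    · rw [Subgroup.orderOf_coe, hs]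
    · rw [Subgroup.orderOf_coe, ht]
  have h2grp : IsPGroup 2 Y → False := fun hY => hno (exists_index_two_of_isPGroup hY)
  rcases Cfsg.Agent.Lib.Helper18.isCyclic_or_quaternion_of_unique_involution hRp huniqR with
    hcyc | ⟨n, hn1, ⟨ε⟩⟩
  · exact (h2grp (isPGroup_of_odd_aut_trivial R hRp hCQ (cyclic_odd_aut hRp))).elim
  · rcases n with _ | _ | n
    · omega
    · -- Q8
      have e : R ≃* Q := ε
      have hdvd : Nat.card Y ∣ 48 := Cfsg.Agent.Lib.Helper23.Q8Normal.card_dvd R e hCQ
      have hR8 : Nat.card R = 8 := by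
        rw [Nat.card_congr e.toEquiv, Nat.card_eq_fintype_card, QuaternionGroup.card]
      have h8 : 8 ∣ Nat.card Y := by
        rw [← hR8]; exact Subgroup.card_subgroup_dvd_card R
      have hcases : Nat.card Y = 8 ∨ Nat.card Y = 16 ∨ Nat.card Y = 24 ∨ Nat.card Y = 48 := by
        obtain ⟨c, hc⟩ := h8
        have hc6 : c ∣ 6 := by
          have : 8 * c ∣ 8 * 6 := by rw [← hc]; exact hdvd
          exact (Nat.mul_dvd_mul_iff_left (by norm_num)).mp this
        have hcle : c ≤ 6 := Nat.le_of_dvd (by norm_num) hc6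
        have hcpos : 0 < c := by
          rcases Nat.eq_zero_or_pos c with h | h
          · rw [h, mul_zero] at hc
            have := Nat.card_pos (α := Y)
            omega
          · exact h
        interval_cases c <;> omega
      rcases hcases with h | h | h | h
      · exact (h2grp (IsPGroup.of_card (n := 3) (by rw [h]; norm_num))).elim
      · exact (h2grp (IsPGroup.of_card (n := 4) (by rw [h]; norm_num))).elim
      · refine ⟨h, ?_⟩
        -- an element of order 3
        haveI : Fact (Nat.Prime 3) := ⟨Nat.prime_three⟩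
        obtain ⟨g, hg⟩ := exists_prime_orderOf_dvd_card' (G := Y) 3 (by rw [h]; norm_num)
        have hgN : g ∈ Subgroup.normalizer (R : Set Y) := by
          rw [Subgroup.normalizer_eq_top]; trivial
        have hgC : g ∉ Subgroup.centralizer (R : Set Y) := by
          intro hgC
          have hgR : g ∈ R := hCQ hgC
          have h1 : orderOf (⟨g, hgR⟩ : R) ∣ Nat.card R := orderOf_dvd_natCard _
          rw [Subgroup.orderOf_mk, hg, hR8] at h1
          omega
        obtain ⟨H, K, hKn, ⟨e'⟩⟩ := Cfsg.Agent.Lib.Helper20.SL23.exists_section R hRp e g hgN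
          (by rw [hg]; decide) hgC
        haveI := hKn
        exact mulEquiv_of_section_card H K e' (by rw [Cfsg.Agent.Lib.Helper20.SL23.card_SL23, h])
      · exfalso
        apply hno
        obtain ⟨ψ⟩ := mulAut_equiv_perm
        have hsurj := Cfsg.Agent.Lib.Helper23.Q8Normal.Θ_surjective R e hCQ h
        let f : Y →* ℤˣ := (Equiv.Perm.sign (α := Fin 4)).comp
          (ψ.toMonoidHom.comp (Cfsg.Agent.Lib.Helper23.Q8Normal.Θ R e))
        apply exists_index_two_of_surjective_units f
        exact (Equiv.Perm.sign_surjective (Fin 4)).comp (ψ.surjective.comp hsurj)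
    · -- larger quaternion
      exfalso
      apply h2grp
      apply isPGroup_of_odd_aut_trivial R hRp hCQ
      apply odd_aut_congr ε
      intro θ k hk hθ
      exact Cfsg.Agent.Lib.Helper23.QuatOdd.mulAut_eq_one_of_odd (n := n + 1 + 1) (by omega) θ k hk hθ

open Cfsg.Agent.Lib.Helper18.AmbivalentSolv in
/-- `X / O(X) ≅ SL(2,3)` for a solvable group of even order with at most one involution and no
normal subgroup of index two -/
theorem quotient_core_sl23 {X : Type*} [Group X] [Finite X] [Group.IsSolvable X]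
    (huniq : ∀ s t : X, orderOf s = 2 → orderOf t = 2 → s = t) (heven : 2 ∣ Nat.card X)
    (hno : ¬ ∃ N : Subgroup X, N.Normal ∧ N.index = 2) :
    ∃ (D : Subgroup X) (_ : D.Normal), Odd (Nat.card D) ∧ Nat.card X = 24 * Nat.card D ∧
      Nonempty ((X ⧸ D) ≃* Matrix.SpecialLinearGroup (Fin 2) (ZMod 3)) := by
  classical
  haveI : Fact (Nat.Prime 2) := ⟨Nat.prime_two⟩
  obtain ⟨D, hD⟩ : ∃ D : Subgroup X, D = Cfsg.pPrimeCore 2 X := ⟨_, rfl⟩
  haveI hDn : D.Normal := by rw [hD]; exact Cfsg.Agent.Lib.Helper1.pPrimeCore_normal 2 X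
  have hDc : (Nat.card D).Coprime 2 := by
    rw [hD]; exact Cfsg.Agent.Lib.Helper12.pPrimeCore_coprime 2
  have hDodd : Odd (Nat.card D) := Nat.Coprime.odd_of_right hDc
  have huniq' : ∀ s t : X ⧸ D, orderOf s = 2 → orderOf t = 2 → s = t := by
    intro s t hs ht
    obtain ⟨s0, hs0, rfl⟩ := exists_lift_involution D hDodd s hs
    obtain ⟨t0, ht0, rfl⟩ := exists_lift_involution D hDodd t ht
    rw [huniq s0 t0 hs0 ht0]
  have hO : Cfsg.pPrimeCore 2 (X ⧸ D) = ⊥ := by
    subst hD
    exact Cfsg.Agent.Lib.Helper9.pPrimeCore_quotient_eq_bot 2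
  have hcardq : Nat.card X = Nat.card (X ⧸ D) * Nat.card D :=
    Subgroup.card_eq_card_quotient_mul_card_subgroup D
  haveI : Nontrivial (X ⧸ D) := by
    rw [← Finite.one_lt_card_iff_nontrivial]
    by_contra hcon
    have h1 : Nat.card (X ⧸ D) = 1 := by
      have := Nat.card_pos (α := X ⧸ D)
      omega
    rw [h1, one_mul] at hcardq
    rw [hcardq] at heven
    obtain ⟨k, hk⟩ := hDodd
    omega
  have hno' : ¬ ∃ N : Subgroup (X ⧸ D), N.Normal ∧ N.index = 2 := fun h =>
    hno (exists_index_two_of_surjective (QuotientGroup.mk' D) (QuotientGroup.mk'_surjective D) h)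
  obtain ⟨h24, hiso⟩ := sl23_of_core_trivial hO huniq' hno'
  exact ⟨D, hDn, hDodd, by rw [hcardq, h24], hiso⟩

/-- a central normal Hall subgroup is a direct factor -/
theorem mulEquiv_prod_of_central_coprime {G : Type*} [Group G] [Finite G] (D : Subgroup G)
    [D.Normal] (hcent : ∀ d ∈ D, ∀ g : G, d * g = g * d)
    (hcop : (Nat.card D).Coprime D.index) : Nonempty (G ≃* (G ⧸ D) × D) := by
  obtain ⟨K, hK⟩ := Subgroup.exists_right_complement'_of_coprime hcop
  have hdisj : ∀ x : G, x ∈ D → x ∈ K → x = 1 := by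
    intro x hxD hxK
    have := hK.disjoint
    rw [Subgroup.disjoint_def] at this
    exact this hxD hxK
  have hcard : Nat.card D * Nat.card K = Nat.card G := hK.card_mul_card
  -- `K ≃* G ⧸ D`
  let ι : K →* G ⧸ D := (QuotientGroup.mk' D).comp K.subtype
  have hιinj : Function.Injective ι := by
    rw [injective_iff_map_eq_one]
    intro k hk
    have h1 : (k : G) ∈ D := by
      have : QuotientGroup.mk' D (k : G) = 1 := hk
      rwa [QuotientGroup.mk'_apply, QuotientGroup.eq_one_iff] at this
    exact Subtype.ext (hdisj _ h1 k.2)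
  have hιbij : Function.Bijective ι := by
    apply Function.Injective.bijective_of_nat_card_le hιinj
    have h1 : Nat.card G = Nat.card (G ⧸ D) * Nat.card D :=
      Subgroup.card_eq_card_quotient_mul_card_subgroup D
    have h2 : 0 < Nat.card D := Nat.card_pos
    have h3 : Nat.card (G ⧸ D) * Nat.card D = Nat.card K * Nat.card D := by
      rw [← h1, ← hcard, mul_comm]
    exact (Nat.eq_of_mul_eq_mul_right h2 h3).le
  have e1 : K ≃* G ⧸ D := MulEquiv.ofBijective ι hιbij
  -- `K × D ≃* G`
  let φ : K × D →* G := MonoidHom.noncommCoprod K.subtype D.subtype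
    (fun k d => (hcent d d.2 k).symm)
  have hφinj : Function.Injective φ := by
    rw [injective_iff_map_eq_one]
    rintro ⟨k, d⟩ hkd
    have h1 : (k : G) * (d : G) = 1 := hkd
    have h2 : (k : G) = (d : G)⁻¹ := eq_inv_of_mul_eq_one_left h1
    have h3 : (k : G) = 1 := hdisj _ (h2 ▸ D.inv_mem d.2) k.2
    have h4 : (d : G) = 1 := by rw [h3, one_mul] at h1; exact h1
    ext
    · exact h3
    · exact h4
  have hφbij : Function.Bijective φ := by
    apply Function.Injective.bijective_of_nat_card_le hφinj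
    rw [Nat.card_prod, ← hcard, mul_comm]
  have e2 : K × D ≃* G := MulEquiv.ofBijective φ hφbij
  exact ⟨e2.symm.trans (MulEquiv.prodCongr e1 (MulEquiv.refl D))⟩

/-- a normal subgroup of order `5` is central when there is no normal subgroup of index two -/
theorem central_of_card_five {X : Type*} [Group X] [Finite X] (D : Subgroup X) [D.Normal]
    (hD5 : Nat.card D = 5) (hno : ¬ ∃ N : Subgroup X, N.Normal ∧ N.index = 2) :
    ∀ d ∈ D, ∀ g : X, d * g = g * d := by
  haveI : Fact (Nat.Prime 5) := ⟨by norm_num⟩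
  haveI : IsCyclic D := isCyclic_of_prime_card hD5
  let φ : X →* MulAut D := MulAut.conjNormal
  have hcardAut : Nat.card (MulAut D) = 4 := by
    rw [IsCyclic.card_mulAut, hD5]
    decide
  have hrange : Nat.card φ.range ∣ 4 := by
    rw [← hcardAut]; exact Subgroup.card_subgroup_dvd_card _
  have htriv : Nat.card φ.range = 1 := by
    by_contra hne
    apply hno
    have hle : Nat.card φ.range ≤ 4 := Nat.le_of_dvd (by norm_num) hrange
    have hpos : 0 < Nat.card φ.range := Nat.card_pos
    have hp : IsPGroup 2 φ.range := by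
      have h24 : Nat.card φ.range = 2 ∨ Nat.card φ.range = 4 := by
        interval_cases (Nat.card φ.range) <;> simp_all
      rcases h24 with h | h
      · exact IsPGroup.of_card (n := 1) (by rw [h]; norm_num)
      · exact IsPGroup.of_card (n := 2) (by rw [h]; norm_num)
    haveI : Nontrivial φ.range := by
      rw [← Finite.one_lt_card_iff_nontrivial]
      omega
    exact exists_index_two_of_surjective φ.rangeRestrict φ.rangeRestrict_surjective
      (exists_index_two_of_isPGroup hp)
  have hbot : φ.range = ⊥ := Subgroup.eq_bot_of_card_eq _ htriv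
  intro d hd g
  have h1 : φ g = 1 := by
    have : φ g ∈ φ.range := ⟨g, rfl⟩
    rw [hbot] at this
    exact Subgroup.mem_bot.mp this
  have h2 := congrArg (fun θ : MulAut D => ((θ ⟨d, hd⟩ : D) : X)) h1
  simp only [φ, MulAut.conjNormal_apply, MulAut.one_apply] at h2
  have h3 : g * d = d * g := mul_inv_eq_iff_eq_mul.mp h2
  exact h3.symm

/-- **Classification**: the solvable groups of order `24, 48, 120, 528` with at most one involution
and no normal subgroup of index two -/
theorem classify {X : Type*} [Group X] [Finite X] [Group.IsSolvable X]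
    (huniq : ∀ s t : X, orderOf s = 2 → orderOf t = 2 → s = t)
    (hcard : Nat.card X = 24 ∨ Nat.card X = 48 ∨ Nat.card X = 120 ∨ Nat.card X = 528)
    (hno : ¬ ∃ N : Subgroup X, N.Normal ∧ N.index = 2) :
    (Nat.card X = 24 ∧ Nonempty (X ≃* Matrix.SpecialLinearGroup (Fin 2) (ZMod 3))) ∨
    (Nat.card X = 120 ∧
      Nonempty (X ≃* Matrix.SpecialLinearGroup (Fin 2) (ZMod 3) × Multiplicative (ZMod 5))) := by
  have heven : 2 ∣ Nat.card X := by
    rcases hcard with h | h | h | h <;> rw [h] <;> norm_num
  obtain ⟨D, hDn, hDodd, hc, ⟨e⟩⟩ := quotient_core_sl23 huniq heven hno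
  haveI := hDn
  have hD15 : Nat.card D = 1 ∨ Nat.card D = 5 := by
    obtain ⟨k, hk⟩ := hDodd
    rcases hcard with h | h | h | h <;> omega
  rcases hD15 with h1 | h5
  · left
    refine ⟨by rw [hc, h1], ?_⟩
    have hbot : D = ⊥ := Subgroup.eq_bot_of_card_eq _ h1
    have hinj : Function.Injective (QuotientGroup.mk' D) := by
      rw [injective_iff_map_eq_one]
      intro x hx
      rw [QuotientGroup.mk'_apply, QuotientGroup.eq_one_iff, hbot] at hx
      exact Subgroup.mem_bot.mp hx
    exact ⟨(MulEquiv.ofBijective (QuotientGroup.mk' D)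
      ⟨hinj, QuotientGroup.mk'_surjective D⟩).trans e⟩
  · right
    refine ⟨by rw [hc, h5], ?_⟩
    have hcent := central_of_card_five D h5 hno
    have hidx : D.index = 24 := by
      have := Subgroup.card_mul_index D
      rw [h5, hc, h5] at this
      omega
    obtain ⟨e2⟩ := mulEquiv_prod_of_central_coprime D hcent (by rw [h5, hidx]; norm_num)
    haveI : Fact (Nat.Prime 5) := ⟨by norm_num⟩
    have hZ5 : Nat.card (Multiplicative (ZMod 5)) = 5 := by
      rw [Nat.card_congr Multiplicative.toAdd, Nat.card_zmod]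
    exact ⟨e2.trans (MulEquiv.prodCongr e (mulEquivOfPrimeCardEq (p := 5) h5 hZ5))⟩

end Cfsg.Agent.Lib.Helper17.SolvNoIndexTwo
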