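import Mathlib
import Cfsg.Agent.Lib.Helper27.SpUDefs

/-!
S2316 leaf market (planner helper27), leaf L8 `card_TIsub_mul` (helper17):
`#{t.i. d-subspaces} * |GL_d(q)| = #{t.i. d-tuples}` (fibre the tuples over their spans).
-/

set_option autoImplicit false

namespace Cfsg.Agent.Lib.Helper27.SpU

open Cfsg Matrix Cfsg.Agent.S0775

namespace L8aux

variable {F : Type*} [Field F] {m : ℕ}

lemma TIsub_span {d : ℕ} (s : Tup F m d) (hs : TI d s) :
    TIsub (Submodule.span F (Set.range s)) := by
  intro u hu v hv
  induction hu using Submodule.span_induction with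
  | mem x hx =>
    obtain ⟨i, rfl⟩ := hx
    induction hv using Submodule.span_induction with
    | mem y hy =>
      obtain ⟨j, rfl⟩ := hy
      exact hs.2 i j
    | zero => simp [Cfsg.sympForm]
    | add a b _ _ ha hb =>
      have : Cfsg.sympForm m F (s i) (a + b) = Cfsg.sympForm m F (s i) a + Cfsg.sympForm m F (s i) b := by
        simp [Cfsg.sympForm, Matrix.mulVec_add, dotProduct_add]
      rw [this, ha, hb, add_zero]
    | smul c a _ ha =>
      have : Cfsg.sympForm m F (s i) (c • a) = c * Cfsg.sympForm m F (s i) a := by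
        simp [Cfsg.sympForm, Matrix.mulVec_smul, dotProduct_smul]
      rw [this, ha, mul_zero]
  | zero => simp [Cfsg.sympForm]
  | add a b _ _ ha hb =>
    have : Cfsg.sympForm m F (a + b) v = Cfsg.sympForm m F a v + Cfsg.sympForm m F b v := by
      simp [Cfsg.sympForm, add_dotProduct]
    rw [this, ha, hb, add_zero]
  | smul c a _ ha =>
    have : Cfsg.sympForm m F (c • a) v = c * Cfsg.sympForm m F a v := by
      simp [Cfsg.sympForm, smul_dotProduct]
    rw [this, ha, mul_zero]

/-- the span map from t.i. tuples to t.i. subspaces -/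
noncomputable def spanMap (d : ℕ) (s : {s : Tup F m d // TI d s}) :
    {W : Submodule F (Fin m ⊕ Fin m → F) // TIsub W ∧ Module.finrank F W = d} :=
  ⟨Submodule.span F (Set.range s.1), TIsub_span s.1 s.2, by
    rw [finrank_span_eq_card s.2.1, Fintype.card_fin]⟩

end L8aux

open L8aux in
theorem card_TIsub_mul {F : Type*} [Field F] [Fintype F] (m d : ℕ) :
    Nat.card {W : Submodule F (Fin m ⊕ Fin m → F) // TIsub W ∧ Module.finrank F W = d} *
      ∏ i : Fin d, (Fintype.card F ^ d - Fintype.card F ^ (i : ℕ)) =
      ∏ i ∈ Finset.range d, (Fintype.card F ^ (2 * m - i) - Fintype.card F ^ i) := by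
  classical
  rw [← card_TI (F := F) (m := m) d]
  have hfin : Finite {W : Submodule F (Fin m ⊕ Fin m → F) // TIsub W ∧ Module.finrank F W = d} :=
    inferInstance
  let _ : Fintype {W : Submodule F (Fin m ⊕ Fin m → F) // TIsub W ∧ Module.finrank F W = d} :=
    Fintype.ofFinite _
  have hfinT : Finite (Tup F m d) := by
    unfold Tup
    infer_instance
  have hfib : ∀ W : {W : Submodule F (Fin m ⊕ Fin m → F) // TIsub W ∧ Module.finrank F W = d},
      Nat.card {s : {s : Tup F m d // TI d s} // spanMap d s = W} =
        ∏ i : Fin d, (Fintype.card F ^ d - Fintype.card F ^ (i : ℕ)) := by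
    intro W
    rw [← card_bases W.1 d W.2.2 W.2.1]
    apply Nat.card_congr
    refine
      { toFun := fun s => ⟨s.1.1, s.1.2, ?_⟩
        invFun := fun y => ⟨⟨y.1, y.2.1⟩, ?_⟩
        left_inv := fun _ => rfl
        right_inv := fun _ => rfl }
    · have := congrArg Subtype.val s.2
      exact this
    · apply Subtype.ext
      exact y.2.2
  have h1 : Nat.card {s : Tup F m d // TI d s} =
      Nat.card {W : Submodule F (Fin m ⊕ Fin m → F) // TIsub W ∧ Module.finrank F W = d} *
        ∏ i : Fin d, (Fintype.card F ^ d - Fintype.card F ^ (i : ℕ)) := by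
    have hfinS : Finite {s : Tup F m d // TI d s} := Subtype.finite
    have hfinF : ∀ a : {W : Submodule F (Fin m ⊕ Fin m → F) // TIsub W ∧ Module.finrank F W = d},
        Finite {x : {s : Tup F m d // TI d s} // spanMap d x = a} := fun a => Subtype.finite
    rw [Nat.card_congr (Equiv.sigmaFiberEquiv (spanMap (F := F) (m := m) d)).symm, Nat.card_sigma]
    simp only [hfib, Finset.sum_const, Finset.card_univ, smul_eq_mul, Nat.card_eq_fintype_card]
  exact h1.symm

end Cfsg.Agent.Lib.Helper27.SpU
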