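import Mathlib
import Cfsg.Agent.Lib.Helper27.GGAsm
import Cfsg.Agent.Lib.Helper6.GGC9
import Cfsg.Agent.Lib.Helper23.DefectZeroIrr
import Cfsg.Agent.Lib.Helper17.BlkDefZero

/-!
# The unique irreducible character of `p`-defect zero in a finite group with a split (B,N)-pair

Abstract end-glue for S4538: for `R : SplitBN P U q` with `U` a Sylow `p`-subgroup, the Steinberg
function is the only irreducible character of `p`-defect zero, hence there is exactly one block
of defect zero.
-/

set_option autoImplicit false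

namespace Cfsg.Agent.Lib.Helper17.SplitBNDefZero

open Cfsg Cfsg.Agent.Lib.Helper3.BN Cfsg.Agent.Lib.Helper3.WordLen Cfsg.Agent.Lib.Helper6.BNSt
open Cfsg.Agent.Lib.Helper6.CoxRed Cfsg.Agent.Lib.Helper27.GG Cfsg.Agent.Lib.Helper24

universe u

variable {G : Type u} [Group G] [Finite G] {P : Cfsg.BNPair G} {U : Subgroup G} {q : ℕ}

/-- In a split (B,N)-pair the index of `B ∩ n₀ B n₀⁻¹` in `B` is `|U|`. -/
theorem index_BStab_w0 (R : SplitBN P U q) :
    (BStab P (repW P (w0 P))).index = Nat.card U := by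
  have hq : ∀ s, ∀ hs : s ∈ P.S, Nat.card (C P (sb P s hs)) = q * Nat.card P.B := by
    intro s hs
    have hs' := hs
    rw [R.hS] at hs'
    obtain ⟨i, rfl⟩ := hs'
    exact R.hcardC i hs
  have h1 : Nat.card (C P (w0 P)) = q ^ len (Sbar P) (w0 P) * Nat.card P.B :=
    Cfsg.Agent.Lib.Helper7.card_C P q hq _ (w0 P) rfl
  have h2 : C P (w0 P) = dc P (repW P (w0 P)) := by
    rw [← C_mk P (repW_mem P (w0 P)), mkW_repW]
  rw [h2, Cfsg.Agent.Lib.Helper6.GG.card_dc_eq P (repW P (w0 P))] at h1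
  have hBpos : 0 < Nat.card P.B := Nat.card_pos
  rw [R.hcardU]
  exact Nat.eq_of_mul_eq_mul_right hBpos h1

/-- The degree of the Steinberg function is `|U|`. -/
theorem stFun_one_eq_card_U (R : SplitBN P U q) (Sfin : Finset G)
    (hSfin : (Sfin : Set G) = P.S) : stFun P Sfin 1 = (Nat.card U : ℂ) := by
  rw [stFun_one P Sfin hSfin, ← index_BStab_w0 R]
  rfl

/-- In a finite group with a split (B,N)-pair whose `U` is a Sylow `p`-subgroup, there is exactly
one irreducible character of `p`-defect zero. -/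
theorem existsUnique_defZero (R : SplitBN P U q) (ψ : U →* ℂˣ)
    (hψ : ∀ i, ∃ x : U, (x : G) ∈ R.X i ∧ ψ x ≠ 1) (Sfin : Finset G)
    (hSfin : (Sfin : Set G) = P.S) (p : ℕ) [Fact p.Prime] (hUp : IsPGroup p U)
    (hUsyl : Nat.card U = p ^ (Nat.card G).factorization p) :
    ∃! χ : IrrCharacter G, (Nat.card G).factorization p ≤
      (charDegree (χ : G → ℂ)).factorization p := by
  classical
  have hp : p.Prime := Fact.out
  have : Fintype G := Fintype.ofFinite G
  have hirr : IsIrrCharacter G (stFun P Sfin) := isIrrCharacter_stFun P Sfin hSfin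
  refine ⟨⟨stFun P Sfin, hirr⟩, ?_, ?_⟩
  · show (Nat.card G).factorization p ≤ (charDegree (stFun P Sfin)).factorization p
    have h1 : charDegree (stFun P Sfin) = Nat.card U := by
      unfold charDegree
      rw [stFun_one_eq_card_U R Sfin hSfin]
      simp
    rw [h1, hUsyl, hp.factorization_pow]
    simp
  · intro χ hχ
    have hdpos := irr_charDegree_pos χ
    have hdvd : p ^ (Nat.card G).factorization p ∣ charDegree (χ : G → ℂ) :=
      (hp.pow_dvd_iff_le_factorization hdpos.ne').mpr hχ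
    have hvan : ∀ u ∈ U, u ≠ 1 → (χ : G → ℂ) u = 0 := by
      intro u hu hu1
      have hpu : p ∣ orderOf u := by
        obtain ⟨k, hk⟩ := hUp ⟨u, hu⟩
        have h2 : orderOf (⟨u, hu⟩ : U) ∣ p ^ k := orderOf_dvd_of_pow_eq_one hk
        rw [Subgroup.orderOf_mk] at h2
        obtain ⟨j, _, hoj⟩ := (Nat.dvd_prime_pow hp).mp h2
        rcases Nat.eq_zero_or_pos j with rfl | hjpos
        · rw [pow_zero, orderOf_eq_one_iff] at hoj
          exact absurd hoj hu1
        · rw [hoj]
          exact dvd_pow_self p hjpos.ne'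
      exact Cfsg.Agent.Lib.Helper23.irr_eq_zero_of_defect_zero χ p hp hdvd u hpu
    have := Cfsg.Agent.Lib.Helper27.GGAsm.eq_stFun R ψ hψ Sfin hSfin (χ : G → ℂ) χ.2 hvan
    exact Subtype.ext this

/-- Exactly one block of defect zero. -/
theorem card_defect_zero_blocks_eq_one (R : SplitBN P U q) (ψ : U →* ℂˣ)
    (hψ : ∀ i, ∃ x : U, (x : G) ∈ R.X i ∧ ψ x ≠ 1) (Sfin : Finset G)
    (hSfin : (Sfin : Set G) = P.S) (p : ℕ) [Fact p.Prime] (hUp : IsPGroup p U)
    (hUsyl : Nat.card U = p ^ (Nat.card G).factorization p)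
    (M : Ideal AlgInt) (hM : IsPModular p M) :
    Nat.card {B : Set (IrrCharacter G) // IsPBlock M B ∧ blockDefect p B = 0} = 1 :=
  Cfsg.Agent.Lib.Helper17.BlkDefZero.card_eq_one_of_existsUnique p M hM
    (existsUnique_defZero R ψ hψ Sfin hSfin p hUp hUsyl)

end Cfsg.Agent.Lib.Helper17.SplitBNDefZero
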