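/-
helper17: commuting involutions acting on a subgroup of odd order.
If `C_O(t) = C_O(s)` for commuting involutions `t, s` normalizing the odd-order subgroup `O`,
then `t * s` centralizes `O`.  (Elementary: `o = c * y` with `c` fixed, `y` inverted by `t`.)
-/
import Mathlib

set_option autoImplicit false

namespace Cfsg.Agent.Lib.Helper17.StdCore

variable {X : Type*} [Group X]

theorem exists_sqrt_of_odd {w : X} (hw : Odd (orderOf w)) : ∃ n : ℕ, (w ^ n) ^ 2 = w := by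
  obtain ⟨m, hm⟩ := hw
  refine ⟨m + 1, ?_⟩
  rw [← pow_mul]
  have : (m + 1) * 2 = orderOf w + 1 := by omega
  rw [this, pow_succ, pow_orderOf_eq_one, one_mul]

theorem odd_orderOf_of_mem (O : Subgroup X) [Finite O] (hO : Odd (Nat.card O)) {w : X} (hw : w ∈ O) :
    Odd (orderOf w) := by
  have h1 : orderOf (⟨w, hw⟩ : O) ∣ Nat.card O := orderOf_dvd_natCard _
  rw [Subgroup.orderOf_mk] at h1
  exact Odd.of_dvd_nat hO h1

theorem eq_one_of_mul_self_of_odd (O : Subgroup X) [Finite O] (hO : Odd (Nat.card O)) {c : X}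
    (hc : c ∈ O) (h2 : c * c = 1) : c = 1 := by
  have hodd := odd_orderOf_of_mem O hO hc
  have hd : orderOf c ∣ 2 := orderOf_dvd_of_pow_eq_one (by rw [pow_two]; exact h2)
  have h1 : orderOf c = 1 := by
    rcases (Nat.dvd_prime Nat.prime_two).mp hd with h | h
    · exact h
    · rw [h] at hodd; exact absurd hodd (by decide)
  exact orderOf_eq_one_iff.mp h1

/-- the commutator-like element `o⁻¹ * (t o t⁻¹)` is inverted by the involution `t`. -/
theorem conj_inv_mul_conj {t : X} (ht : t * t = 1) (o : X) :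
    t * (o⁻¹ * (t * o * t⁻¹)) * t⁻¹ = (o⁻¹ * (t * o * t⁻¹))⁻¹ := by
  have hti : t⁻¹ = t := inv_eq_of_mul_eq_one_left ht
  rw [hti, eq_inv_iff_mul_eq_one]
  have h1 : ∀ z, t * (t * z) = z := fun z => by rw [← mul_assoc, ht, one_mul]
  simp only [mul_assoc, h1, one_mul, mul_inv_cancel_left, inv_mul_cancel_left, ht]

theorem conj_pow (t w : X) (n : ℕ) : t * w ^ n * t⁻¹ = (t * w * t⁻¹) ^ n := by
  have := map_pow (MulAut.conj t) w n
  rw [MulAut.conj_apply, MulAut.conj_apply] at this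
  exact this

/-- decomposition `o = c * y` with `c` fixed and `y` inverted by the involution `t`. -/
theorem exists_decomp (O : Subgroup X) [Finite O] (hO : Odd (Nat.card O)) (t : X) (ht : t * t = 1)
    (htO : ∀ o ∈ O, t * o * t⁻¹ ∈ O) (o : X) (ho : o ∈ O) :
    ∃ c ∈ O, ∃ y ∈ O, o = c * y ∧ t * c * t⁻¹ = c ∧ t * y * t⁻¹ = y⁻¹ := by
  set w := o⁻¹ * (t * o * t⁻¹) with hw
  have hwO : w ∈ O := O.mul_mem (O.inv_mem ho) (htO o ho)
  obtain ⟨n, hn⟩ := exists_sqrt_of_odd (odd_orderOf_of_mem O hO hwO)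
  have hwinv : t * w * t⁻¹ = w⁻¹ := conj_inv_mul_conj ht o
  have hy0 : t * w ^ n * t⁻¹ = (w ^ n)⁻¹ := by
    rw [conj_pow, hwinv, inv_pow]
  have how : o * w = t * o * t⁻¹ := by rw [hw]; group
  refine ⟨o * w ^ n, O.mul_mem ho (O.pow_mem hwO n), (w ^ n)⁻¹, O.inv_mem (O.pow_mem hwO n),
    by group, ?_, ?_⟩
  · have e : t * (o * w ^ n) * t⁻¹ = (t * o * t⁻¹) * (t * w ^ n * t⁻¹) := by group
    rw [e, hy0, ← how]
    nth_rewrite 1 [← hn]
    group
  · have e : t * (w ^ n)⁻¹ * t⁻¹ = (t * w ^ n * t⁻¹)⁻¹ := by group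
    rw [e, hy0]

/-- if every `s`-fixed element of `O` is `t`-fixed, then every element of `O` inverted by `t` is
inverted by `s`. -/
theorem inverts_of_fix_le (O : Subgroup X) [Finite O] (hO : Odd (Nat.card O)) (t s : X)
    (ht : t * t = 1) (hs : s * s = 1) (hts : t * s = s * t)
    (hsO : ∀ o ∈ O, s * o * s⁻¹ ∈ O)
    (hfix : ∀ o ∈ O, s * o * s⁻¹ = o → t * o * t⁻¹ = o)
    (y : X) (hy : y ∈ O) (hty : t * y * t⁻¹ = y⁻¹) : s * y * s⁻¹ = y⁻¹ := by
  set w := y⁻¹ * (s * y * s⁻¹) with hw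
  have hwO : w ∈ O := O.mul_mem (O.inv_mem hy) (hsO y hy)
  obtain ⟨n, hn⟩ := exists_sqrt_of_odd (odd_orderOf_of_mem O hO hwO)
  have hwinv : s * w * s⁻¹ = w⁻¹ := conj_inv_mul_conj hs y
  have hv : s * w ^ n * s⁻¹ = (w ^ n)⁻¹ := by rw [conj_pow, hwinv, inv_pow]
  have hyw : y * w = s * y * s⁻¹ := by rw [hw]; group
  have hcO : y * w ^ n ∈ O := O.mul_mem hy (O.pow_mem hwO n)
  have hsc : s * (y * w ^ n) * s⁻¹ = y * w ^ n := by
    have e : s * (y * w ^ n) * s⁻¹ = (s * y * s⁻¹) * (s * w ^ n * s⁻¹) := by group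
    rw [e, hv, ← hyw]
    nth_rewrite 1 [← hn]
    group
  have htc := hfix _ hcO hsc
  -- but `t` inverts `y * w^n`
  have hti : t⁻¹ = t := inv_eq_of_mul_eq_one_left ht
  have hsi : s⁻¹ = s := inv_eq_of_mul_eq_one_left hs
  have htw : t * w * t⁻¹ = y * w⁻¹ * y⁻¹ := by
    have e : t * w * t⁻¹ = (t * y * t⁻¹)⁻¹ * (t * s * y * s⁻¹ * t⁻¹) := by rw [hw]; group
    rw [e, hts]
    have e2 : s * t * y * s⁻¹ * t⁻¹ = s * (t * y * t⁻¹) * s⁻¹ := by
      calc s * t * y * s⁻¹ * t⁻¹ = s * t * y * (t * s)⁻¹ := by group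
        _ = s * t * y * (s * t)⁻¹ := by rw [hts]
        _ = s * (t * y * t⁻¹) * s⁻¹ := by group
    rw [e2, hty, hw]; group
  have htv : t * w ^ n * t⁻¹ = y * (w ^ n)⁻¹ * y⁻¹ := by
    rw [conj_pow, htw]
    have := conj_pow y w⁻¹ n
    rw [← this, inv_pow]
  have htc2 : t * (y * w ^ n) * t⁻¹ = (y * w ^ n)⁻¹ := by
    have e : t * (y * w ^ n) * t⁻¹ = (t * y * t⁻¹) * (t * w ^ n * t⁻¹) := by group
    rw [e, hty, htv]; group
  have hc1 : y * w ^ n = 1 := by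
    apply eq_one_of_mul_self_of_odd O hO hcO
    have : (y * w ^ n)⁻¹ = y * w ^ n := by rw [← htc2, htc]
    calc y * w ^ n * (y * w ^ n) = (y * w ^ n)⁻¹ * (y * w ^ n) := by rw [this]
      _ = 1 := inv_mul_cancel _
  have hv2 : w ^ n = y⁻¹ := eq_inv_of_mul_eq_one_right hc1
  have hw2 : w = y⁻¹ * y⁻¹ := by rw [← hn, hv2, pow_two]
  have : y⁻¹ * (s * y * s⁻¹) = y⁻¹ * y⁻¹ := by rw [← hw2]
  exact mul_left_cancel this

/-- if `C_O(t) = C_O(s)` then `t * s` centralizes `O`. -/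
theorem centralizes_of_fix_eq (O : Subgroup X) [Finite O] (hO : Odd (Nat.card O)) (t s : X)
    (ht : t * t = 1) (hs : s * s = 1) (hts : t * s = s * t)
    (htO : ∀ o ∈ O, t * o * t⁻¹ ∈ O) (hsO : ∀ o ∈ O, s * o * s⁻¹ ∈ O)
    (hfix : ∀ o ∈ O, s * o * s⁻¹ = o → t * o * t⁻¹ = o)
    (hfix' : ∀ o ∈ O, t * o * t⁻¹ = o → s * o * s⁻¹ = o)
    (o : X) (ho : o ∈ O) : (t * s) * o * (t * s)⁻¹ = o := by
  obtain ⟨c, hc, y, hy, rfl, hct, hyt⟩ := exists_decomp O hO t ht htO o ho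
  have hcs := hfix' c hc hct
  have hys := inverts_of_fix_le O hO t s ht hs hts hsO hfix y hy hyt
  have e : (t * s) * (c * y) * (t * s)⁻¹ = t * ((s * c * s⁻¹) * (s * y * s⁻¹)) * t⁻¹ := by group
  rw [e, hcs, hys]
  have e2 : t * (c * y⁻¹) * t⁻¹ = (t * c * t⁻¹) * (t * y * t⁻¹)⁻¹ := by group
  rw [e2, hct, hyt, inv_inv]

end Cfsg.Agent.Lib.Helper17.StdCore
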