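/-
helper17: standard subgroup `P` with `m_2(C(P)) ≤ 1`, `|Z(P)|` odd; an element `g` normalizing a
Sylow 2-subgroup `S` of `N(P)` with `g² ∈ S`, `g ∉ S`, `t^g ∈ P C(P)`:  then `[P, O(X)] = 1`.
-/
import Cfsg.Agent.Lib.Helper17.StdCoreA
import Cfsg.Agent.Lib.Helper17.Basic
import Cfsg.Agent.Lib.Helper10.PGroupBasic
import Cfsg.Agent.Lib.Helper24.TISylow
import Cfsg.Agent.Lib.Helper9.Quasisimple
import Cfsg.Agent.Lib.Helper12.PPrimeP
import Cfsg.Prelude.Def_CaseTheorems
import Cfsg.Prelude.Def_Local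

set_option autoImplicit false

open scoped commutatorElement

namespace Cfsg.Agent.Lib.Helper17.StdCore

variable {X : Type*} [Group X]

/-- rank ≤ 1: two commuting involutions of `K` coincide. -/
theorem no_klein [Finite X] {K : Subgroup X} (hr : Cfsg.PRankLE 2 1 ↥K) {a b : X} (ha : a ∈ K)
    (hb : b ∈ K) (ha2 : a * a = 1) (hb2 : b * b = 1) (hab : a * b = b * a) :
    a = 1 ∨ b = 1 ∨ a = b := by
  by_contra hcon
  have ha1 : a ≠ 1 := fun h => hcon (Or.inl h)
  have hb1 : b ≠ 1 := fun h => hcon (Or.inr (Or.inl h))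
  have hne : a ≠ b := fun h => hcon (Or.inr (Or.inr h))
  let a' : ↥K := ⟨a, ha⟩
  let b' : ↥K := ⟨b, hb⟩
  have hab' : a' * b' = b' * a' := Subtype.ext hab
  have hk : ∀ x ∈ ({a', b'} : Set ↥K), ∀ y ∈ ({a', b'} : Set ↥K), x * y = y * x := by
    intro x hx y hy
    rcases hx with rfl | rfl <;> rcases hy with rfl | rfl
    · rfl
    · exact hab'
    · exact hab'.symm
    · rfl
  have hc : IsMulCommutative (Subgroup.closure ({a', b'} : Set ↥K)) :=
    Subgroup.isMulCommutative_closure hk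
  have hexp : ∀ x ∈ Subgroup.closure ({a', b'} : Set ↥K), x ^ 2 = 1 := by
    intro x hx
    induction hx using Subgroup.closure_induction with
    | mem x hx =>
      rcases hx with rfl | rfl
      · apply Subtype.ext; simp only [a', pow_two]; exact ha2
      · apply Subtype.ext; simp only [b', pow_two]; exact hb2
    | one => simp
    | mul x y hx hy ihx ihy =>
      have hcomm : Commute x y := setLike_mul_comm hx hy
      rw [hcomm.mul_pow, ihx, ihy, one_mul]
    | inv x hx ih => rw [inv_pow, ih, inv_one]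
  have hcard := hr _ hc hexp
  have := Fintype.ofFinite ↥(Subgroup.closure ({a', b'} : Set ↥K))
  rw [Nat.card_eq_fintype_card] at hcard
  have h3 : 2 < Fintype.card ↥(Subgroup.closure ({a', b'} : Set ↥K)) := by
    rw [Fintype.two_lt_card_iff]
    refine ⟨1, ⟨a', Subgroup.subset_closure (by simp)⟩, ⟨b', Subgroup.subset_closure (by simp)⟩,
      ?_, ?_, ?_⟩
    · intro h
      apply ha1
      have := congrArg (fun z : ↥(Subgroup.closure ({a', b'} : Set ↥K)) => ((z : ↥K) : X)) h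
      simpa [a'] using this.symm
    · intro h
      apply hb1
      have := congrArg (fun z : ↥(Subgroup.closure ({a', b'} : Set ↥K)) => ((z : ↥K) : X)) h
      simpa [b'] using this.symm
    · intro h
      apply hne
      have := congrArg (fun z : ↥(Subgroup.closure ({a', b'} : Set ↥K)) => ((z : ↥K) : X)) h
      simpa [a', b'] using this
  omega

/-- tight embedding: an element commuting with an involution of `K` normalizes `K`. -/
theorem mem_normalizer_of_commute_involution [Finite X] {K : Subgroup X}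
    (hte : Cfsg.IsTightlyEmbedded K) {t : X} (ht : orderOf t = 2) (htK : t ∈ K) {c : X}
    (hc : c * t = t * c) : c ∈ Subgroup.normalizer (K : Set X) := by
  by_contra hcn
  have hodd := hte.2 c hcn
  have htm : t ∈ K ⊓ K.map (MulAut.conj c).toMonoidHom := by
    refine ⟨htK, t, htK, ?_⟩
    show c * t * c⁻¹ = t
    rw [hc]; group
  have h2 : orderOf (⟨t, htm⟩ : ↥(K ⊓ K.map (MulAut.conj c).toMonoidHom)) ∣ Nat.card _ :=
    orderOf_dvd_natCard _
  rw [Subgroup.orderOf_mk, ht] at h2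
  exact (Nat.not_even_iff_odd.mpr hodd) (even_iff_two_dvd.mpr h2)

theorem comm_mul_left_central {c p q : X} (hcp : Commute c p) (hcq : Commute c q) :
    ⁅c * p, q⁆ = ⁅p, q⁆ := by
  have h1 : Commute c (p * q * p⁻¹) := (hcp.mul_right hcq).mul_right hcp.inv_right
  calc ⁅c * p, q⁆ = c * (p * q * p⁻¹) * c⁻¹ * q⁻¹ := by rw [commutatorElement_def]; group
    _ = (p * q * p⁻¹) * c * c⁻¹ * q⁻¹ := by rw [h1.eq]
    _ = ⁅p, q⁆ := by rw [commutatorElement_def]; group

theorem comm_mul_right_central {d p q : X} (hdp : Commute d p) (hdq : Commute d q) :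
    ⁅p, d * q⁆ = ⁅p, q⁆ := by
  have h1 : Commute d (p * q * p⁻¹ * q⁻¹) :=
    ((hdp.mul_right hdq).mul_right hdp.inv_right).mul_right hdq.inv_right
  calc ⁅p, d * q⁆ = (p * d * p⁻¹ * d⁻¹) * (d * (p * q * p⁻¹ * q⁻¹) * d⁻¹) := by
        rw [commutatorElement_def]; group
    _ = (p * d * p⁻¹ * d⁻¹) * ((p * q * p⁻¹ * q⁻¹) * d * d⁻¹) := by rw [h1.eq]
    _ = (d * p * p⁻¹ * d⁻¹) * ((p * q * p⁻¹ * q⁻¹) * d * d⁻¹) := by rw [hdp.eq]
    _ = ⁅p, q⁆ := by rw [commutatorElement_def]; group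

/-- an element normalizing the perfect subgroup `P` and acting trivially on `P / Z(P)`
centralizes `P`. -/
theorem mem_centralizer_of_perfect {P : Subgroup X} (hperf : Group.IsPerfect ↥P) {o : X}
    (hoN : o ∈ Subgroup.normalizer (P : Set X))
    (h : ∀ p ∈ P, o * p * o⁻¹ * p⁻¹ ∈ Subgroup.centralizer (P : Set X)) :
    o ∈ Subgroup.centralizer (P : Set X) := by
  have hPP : ⁅P, P⁆ = P := Subgroup.isPerfect_iff.mp hperf
  have hle : ⁅P, P⁆ ≤ P ⊓ Subgroup.centralizer ({o} : Set X) := by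
    rw [Subgroup.commutator_le]
    intro p hp q hq
    refine ⟨?_, ?_⟩
    · rw [commutatorElement_def]
      exact P.mul_mem (P.mul_mem (P.mul_mem hp hq) (P.inv_mem hp)) (P.inv_mem hq)
    · show ⁅p, q⁆ ∈ Subgroup.centralizer ({o} : Set X)
      rw [Subgroup.mem_centralizer_singleton_iff]
      have hcp := h p hp
      have hcq := h q hq
      have hcpP : o * p * o⁻¹ * p⁻¹ ∈ P :=
        P.mul_mem ((Subgroup.mem_normalizer_iff.mp hoN p).mp hp) (P.inv_mem hp)
      have hcqP : o * q * o⁻¹ * q⁻¹ ∈ P :=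
        P.mul_mem ((Subgroup.mem_normalizer_iff.mp hoN q).mp hq) (P.inv_mem hq)
      rw [Subgroup.mem_centralizer_iff] at hcp hcq
      have e1 : o * ⁅p, q⁆ * o⁻¹ = ⁅(o * p * o⁻¹ * p⁻¹) * p, (o * q * o⁻¹ * q⁻¹) * q⁆ := by
        rw [commutatorElement_def, commutatorElement_def]; group
      have e2 : ⁅(o * p * o⁻¹ * p⁻¹) * p, (o * q * o⁻¹ * q⁻¹) * q⁆ = ⁅p, q⁆ := by
        have c1 : Commute (o * p * o⁻¹ * p⁻¹) p := (hcp p hp).symm
        have c2 : Commute (o * p * o⁻¹ * p⁻¹) (o * q * o⁻¹ * q⁻¹) := (hcp _ hcqP).symm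
        have c3 : Commute (o * p * o⁻¹ * p⁻¹) q := (hcp q hq).symm
        have c4 : Commute (o * q * o⁻¹ * q⁻¹) p := (hcq p hp).symm
        have c5 : Commute (o * q * o⁻¹ * q⁻¹) q := (hcq q hq).symm
        rw [comm_mul_left_central c1 (c2.mul_right c3)]
        exact comm_mul_right_central c4 c5
      have e3 : o * ⁅p, q⁆ * o⁻¹ = ⁅p, q⁆ := e1.trans e2
      exact (calc o * ⁅p, q⁆ = (o * ⁅p, q⁆ * o⁻¹) * o := by group
        _ = ⁅p, q⁆ * o := by rw [e3]).symm
  rw [hPP] at hle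
  rw [Subgroup.mem_centralizer_iff]
  intro p hp
  have : p ∈ Subgroup.centralizer ({o} : Set X) := (hle hp).2
  rw [Subgroup.mem_centralizer_singleton_iff] at this
  exact this

theorem mem_centralizer_of_mem_center_subtype {P : Subgroup X} {x : X} (hx : x ∈ P)
    (h : (⟨x, hx⟩ : ↥P) ∈ Subgroup.center ↥P) : x ∈ Subgroup.centralizer (P : Set X) := by
  rw [Subgroup.mem_centralizer_iff]
  intro p hp
  have := (Subgroup.mem_center_iff.mp h) ⟨p, hp⟩
  exact congrArg Subtype.val this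

end Cfsg.Agent.Lib.Helper17.StdCore
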