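/-
helper17: main lemma for S3153.
-/
import Cfsg.Agent.Lib.Helper17.StdCoreB

set_option autoImplicit false
set_option maxHeartbeats 1600000

open scoped commutatorElement

namespace Cfsg.Agent.Lib.Helper17.StdCore

variable {X : Type*} [Group X] [Finite X]

theorem core_main' (P N K S' : Subgroup X) (hN : N = Subgroup.normalizer (P : Set X))
    (hK : K = Subgroup.centralizer (P : Set X)) (hq : Cfsg.IsQuasisimple ↥P)
    (hte : Cfsg.IsTightlyEmbedded K) (hNK : N = Subgroup.normalizer (K : Set X))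
    (hr : Cfsg.PRankLE 2 1 ↥K)
    (hZ : Odd (Nat.card ↥(Subgroup.center ↥P)))
    (S : Sylow 2 ↥N) (hS' : S' = (S : Subgroup ↥N).map N.subtype) (t : X) (ht : orderOf t = 2)
    (htS : t ∈ S') (htP : t ∈ K)
    (g : X) (hgN : ∀ s ∈ S', g * s * g⁻¹ ∈ S') (hgS : g ∉ S') (hg2 : g ^ 2 ∈ S')
    (hgt : g * t * g⁻¹ ∈ P ⊔ K) :
    ⁅P, Cfsg.oddCore X⁆ = ⊥ ∧ ∃ a ∈ P, a * a = 1 ∧ a ≠ 1 := by
  classical
  have : Fact (Nat.Prime 2) := ⟨Nat.prime_two⟩
  have ht2 : t * t = 1 := by rw [← pow_two, ← ht, pow_orderOf_eq_one]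
  have ht1 : t ≠ 1 := by
    intro h; rw [h, orderOf_one] at ht; omega
  have hS'N : S' ≤ N := by rw [hS']; exact Subgroup.map_subtype_le _
  have hS'p : IsPGroup 2 S' := by rw [hS']; exact S.isPGroup'.map _
  have hKN : ∀ n ∈ N, ∀ k ∈ K, n * k * n⁻¹ ∈ K := by
    intro n hn k hk
    have hn' : n ∈ Subgroup.normalizer (K : Set X) := by rw [← hNK]; exact hn
    exact (Subgroup.mem_normalizer_iff.mp hn' k).mp hk
  have hPK : ∀ p ∈ P, ∀ k ∈ K, p * k = k * p := fun p hp k hk => by
    rw [hK] at hk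
    exact Subgroup.mem_centralizer_iff.mp hk p hp
  -- `t` is central in `S'`
  have hcenter : ∀ σ ∈ S', σ * t = t * σ := by
    let Q : Subgroup ↥S' := K.subgroupOf S'
    have hQn : Q.Normal := by
      constructor
      intro n hn σ
      rw [Subgroup.mem_subgroupOf] at hn ⊢
      exact hKN σ.1 (hS'N σ.2) n.1 hn
    have hQne : Q ≠ ⊥ := by
      intro h
      have hm : (⟨t, htS⟩ : ↥S') ∈ Q := by rw [Subgroup.mem_subgroupOf]; exact htP
      rw [h, Subgroup.mem_bot] at hm
      exact ht1 (congrArg Subtype.val hm)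
    obtain ⟨x, hxQ, hxc, hx1⟩ :=
      Cfsg.Agent.Lib.Helper10.exists_mem_center_of_normal_ne_bot 2 hS'p Q hQne
    let Z : Subgroup ↥S' := Q ⊓ Subgroup.center ↥S'
    have hZp : IsPGroup 2 Z := hS'p.to_subgroup Z
    have hZne : Nat.card Z ≠ 1 := by
      intro h
      have hb := Subgroup.card_eq_one.mp h
      have hxZ : x ∈ Z := ⟨hxQ, hxc⟩
      rw [hb, Subgroup.mem_bot] at hxZ
      exact hx1 hxZ
    have h2 : 2 ∣ Nat.card Z := (hZp.card_eq_or_dvd).resolve_left hZne
    obtain ⟨z, hz⟩ := exists_prime_orderOf_dvd_card' 2 h2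
    have hzX : orderOf ((z : ↥S') : X) = 2 := by
      rw [Subgroup.orderOf_coe, Subgroup.orderOf_coe]; exact hz
    have hzK : ((z : ↥S') : X) ∈ K := Subgroup.mem_subgroupOf.mp z.2.1
    have hzc : ∀ σ ∈ S', σ * ((z : ↥S') : X) = ((z : ↥S') : X) * σ := by
      intro σ hσ
      have := (Subgroup.mem_center_iff.mp z.2.2) ⟨σ, hσ⟩
      exact congrArg Subtype.val this
    have hzz : ((z : ↥S') : X) * ((z : ↥S') : X) = 1 := by
      rw [← pow_two, ← hzX, pow_orderOf_eq_one]
    rcases no_klein hr hzK htP hzz ht2 (hzc t htS).symm with h | h | h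
    · rw [h, orderOf_one] at hzX; omega
    · exact absurd h ht1
    · rw [← h]; exact hzc
  set s := g * t * g⁻¹ with hs
  have hsS : s ∈ S' := hgN t htS
  have hs2 : s * s = 1 := by
    calc s * s = g * (t * t) * g⁻¹ := by rw [hs]; group
      _ = 1 := by rw [ht2]; group
  have hs1 : s ≠ 1 := by
    intro h
    apply ht1
    have e : g⁻¹ * s * g = t := by rw [hs]; group
    rw [← e, h]; group
  have hts : t * s = s * t := (hcenter s hsS).symm
  have hgsg : g * s * g⁻¹ = t := by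
    have h1 := hcenter (g ^ 2) hg2
    have h1' : g * g * t = t * (g * g) := by rw [← pow_two]; exact h1
    calc g * s * g⁻¹ = (g * g * t) * (g * g)⁻¹ := by rw [hs]; group
      _ = t := by rw [h1']; group
  have hst : s ≠ t := by
    intro hst
    have hgc : g * t = t * g := by
      calc g * t = (g * t * g⁻¹) * g := by group
        _ = t * g := by rw [← hs, hst]
    have hgN' : g ∈ N := by
      rw [hNK]
      exact mem_normalizer_of_commute_involution hte ht htP hgc
    let gh : ↥N := ⟨g, hgN'⟩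
    have hnorm : gh ∈ Subgroup.normalizer ((S : Subgroup ↥N) : Set ↥N) := by
      apply Cfsg.Agent.Lib.Helper17.mem_normalizer_of_forall_conj_mem
      intro x hx
      have hx' : (x : X) ∈ S' := by rw [hS']; exact ⟨x, hx, rfl⟩
      have hgx := hgN _ hx'
      rw [hS'] at hgx
      obtain ⟨y, hy, hyx⟩ := hgx
      have hyeq : y = gh * x * gh⁻¹ := Subtype.ext (by simpa using hyx)
      rw [← hyeq]; exact hy
    have hgh2 : gh ^ 2 ∈ (S : Subgroup ↥N) := by
      have hg2' := hg2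
      rw [hS'] at hg2'
      obtain ⟨y, hy, hyx⟩ := hg2'
      have hyeq : y = gh ^ 2 := Subtype.ext (by simpa using hyx)
      rw [← hyeq]; exact hy
    obtain ⟨j, hj⟩ := S.isPGroup' ⟨gh ^ 2, hgh2⟩
    have hpow : gh ^ (2 ^ (j + 1)) = 1 := by
      have h1 := congrArg Subtype.val hj
      rw [pow_succ', pow_mul]
      simpa using h1
    obtain ⟨k, -, hk2⟩ := (Nat.dvd_prime_pow Nat.prime_two).mp (orderOf_dvd_of_pow_eq_one hpow)
    have hmem := Cfsg.Agent.Lib.Helper24.mem_sylow_of_mem_normalizer_of_orderOf S gh hnorm k hk2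
    apply hgS
    rw [hS']
    exact ⟨gh, hmem, rfl⟩
  -- decomposition of `s`
  have hPnK : P ≤ Subgroup.normalizer (K : Set X) := by rw [← hNK, hN]; exact Subgroup.le_normalizer
  have hsmem : s ∈ ((P ⊔ K : Subgroup X) : Set X) := hgt
  rw [Subgroup.coe_mul_of_left_le_normalizer_right P K hPnK] at hsmem
  obtain ⟨p, hp, k, hk, hpk⟩ := hsmem
  have hp' : p ∈ P := hp
  have hk_ : k ∈ K := hk
  set z0 := p * p with hz0
  have hkk : p * p * (k * k) = 1 := by
    have h := hs2
    rw [← hpk] at h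
    calc p * p * (k * k) = p * (p * k) * k := by group
      _ = p * (k * p) * k := by rw [hPK p hp' k hk_]
      _ = (p * k) * (p * k) := by group
      _ = 1 := h
  have hz0K : z0 ∈ K := by
    have e : z0 = (k * k)⁻¹ := eq_inv_of_mul_eq_one_left hkk
    rw [e]; exact K.inv_mem (K.mul_mem hk_ hk_)
  have hz0P : z0 ∈ P := P.mul_mem hp' hp'
  have odd_of_central : ∀ x : X, x ∈ P → x ∈ K → Odd (orderOf x) := by
    intro x hxP hxK
    have hc : (⟨x, hxP⟩ : ↥P) ∈ Subgroup.center ↥P := by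
      rw [Subgroup.mem_center_iff]
      intro q
      apply Subtype.ext
      rw [hK] at hxK
      exact Subgroup.mem_centralizer_iff.mp hxK q.1 q.2
    have h1 : orderOf (⟨⟨x, hxP⟩, hc⟩ : ↥(Subgroup.center ↥P)) ∣
        Nat.card ↥(Subgroup.center ↥P) := orderOf_dvd_natCard _
    rw [Subgroup.orderOf_mk, Subgroup.orderOf_mk] at h1
    exact Odd.of_dvd_nat hZ h1
  obtain ⟨n, hn⟩ := exists_sqrt_of_odd (odd_of_central z0 hz0P hz0K)
  set z := (z0 ^ n)⁻¹ with hz
  have hzP : z ∈ P := P.inv_mem (P.pow_mem hz0P n)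
  have hzK : z ∈ K := K.inv_mem (K.pow_mem hz0K n)
  have hzz : z * z = z0⁻¹ := by rw [hz, ← mul_inv_rev, ← pow_two, hn]
  set a := p * z with ha
  set k' := z⁻¹ * k with hk'
  have haP : a ∈ P := P.mul_mem hp' hzP
  have hk'K : k' ∈ K := K.mul_mem (K.inv_mem hzK) hk_
  have ha2 : a * a = 1 := by
    calc a * a = p * (z * p) * z := by rw [ha]; group
      _ = p * (p * z) * z := by rw [hPK p hp' z hzK]
      _ = z0 * (z * z) := by rw [hz0]; group
      _ = 1 := by rw [hzz, mul_inv_cancel]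
  have hsak : s = a * k' := by rw [ha, hk', ← hpk]; group
  have hak : a * k' = k' * a := hPK a haP k' hk'K
  have hk'2 : k' * k' = 1 := by
    have h := hs2
    rw [hsak] at h
    calc k' * k' = (a * a) * (k' * k') := by rw [ha2, one_mul]
      _ = a * (a * k') * k' := by group
      _ = a * (k' * a) * k' := by rw [hak]
      _ = (a * k') * (a * k') := by group
      _ = 1 := h
  have hat : a * t = t * a := hPK a haP t htP
  have hait : a⁻¹ * t = t * a⁻¹ := by
    calc a⁻¹ * t = a⁻¹ * (t * a) * a⁻¹ := by group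
      _ = a⁻¹ * (a * t) * a⁻¹ := by rw [hat]
      _ = t * a⁻¹ := by group
  have htk' : k' * t = t * k' := by
    have hk's : k' = a⁻¹ * s := by rw [hsak]; group
    rw [hk's]
    calc a⁻¹ * s * t = a⁻¹ * (s * t) := by group
      _ = a⁻¹ * (t * s) := by rw [hts]
      _ = (a⁻¹ * t) * s := by group
      _ = t * a⁻¹ * s := by rw [hait]
      _ = t * (a⁻¹ * s) := by group
  have hk1 : k' = 1 ∨ k' = t := by
    rcases no_klein hr hk'K htP hk'2 ht2 htk' with h | h | h
    · exact Or.inl h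
    · exact absurd h ht1
    · exact Or.inr h
  have ha1 : a ≠ 1 := by
    intro h
    rw [h, one_mul] at hsak
    rcases hk1 with h' | h'
    · exact hs1 (hsak.trans h')
    · exact hst (hsak.trans h')
  -- the core
  set O := Cfsg.oddCore X with hO
  have hOn : O.Normal := Cfsg.Agent.Lib.Helper12.pPrimeCore_normal' 2
  have hOodd : Odd (Nat.card O) :=
    Nat.Coprime.odd_of_right (Cfsg.Agent.Lib.Helper12.pPrimeCore_coprime (X := X) 2)
  have haO : a ∉ O := fun h => ha1 (eq_one_of_mul_self_of_odd O hOodd h ha2)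
  have hM : O.subgroupOf P ≤ Subgroup.center ↥P := by
    apply Cfsg.Agent.Lib.Helper9.IsQuasisimple_normal_le_center hq
    intro htop
    have hm : (⟨a, haP⟩ : ↥P) ∈ O.subgroupOf P := by rw [htop]; trivial
    exact haO (Subgroup.mem_subgroupOf.mp hm)
  have hF10 : ∀ o ∈ O, t * o * t⁻¹ = o → o ∈ K := by
    intro o hoO hot
    have hoc : o * t = t * o := by
      calc o * t = (t * o * t⁻¹) * t := by rw [hot]
        _ = t * o := by group
    have hoN : o ∈ N := by
      rw [hNK]; exact mem_normalizer_of_commute_involution hte ht htP hoc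
    rw [hN] at hoN
    rw [hK]
    apply mem_centralizer_of_perfect hq.1 hoN
    intro q hqP
    have h1 : o * q * o⁻¹ * q⁻¹ ∈ P :=
      P.mul_mem ((Subgroup.mem_normalizer_iff.mp hoN q).mp hqP) (P.inv_mem hqP)
    have h2 : o * q * o⁻¹ * q⁻¹ ∈ O := by
      have e : o * q * o⁻¹ * q⁻¹ = o * (q * o⁻¹ * q⁻¹) := by group
      rw [e]; exact O.mul_mem hoO (hOn.conj_mem _ (O.inv_mem hoO) q)
    exact mem_centralizer_of_mem_center_subtype h1 (hM (Subgroup.mem_subgroupOf.mpr h2))
  have hF11 : ∀ d ∈ O, s * d * s⁻¹ = d → t * d * t⁻¹ = d := by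
    intro d hdO hds
    have hd0O : g⁻¹ * d * g ∈ O := by
      have := hOn.conj_mem d hdO g⁻¹
      simpa using this
    have hd0t : t * (g⁻¹ * d * g) * t⁻¹ = g⁻¹ * d * g := by
      have e : g⁻¹ * (s * d * s⁻¹) * g = t * (g⁻¹ * d * g) * t⁻¹ := by rw [hs]; group
      rw [← e, hds]
    have hd0K := hF10 _ hd0O hd0t
    have hda : d * (g * a * g⁻¹) = (g * a * g⁻¹) * d := by
      have h := hPK a haP _ hd0K
      calc d * (g * a * g⁻¹) = g * ((g⁻¹ * d * g) * a) * g⁻¹ := by group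
        _ = g * (a * (g⁻¹ * d * g)) * g⁻¹ := by rw [h]
        _ = (g * a * g⁻¹) * d := by group
    have hdsc : d * s = s * d := by
      calc d * s = (s * d * s⁻¹) * s := by rw [hds]
        _ = s * d := by group
    have htdec : t = (g * a * g⁻¹) * (g * k' * g⁻¹) := by rw [← hgsg, hsak]; group
    have hdk : d * (g * k' * g⁻¹) = (g * k' * g⁻¹) * d := by
      rcases hk1 with h | h
      · rw [h]; group
      · rw [h, ← hs]; exact hdsc
    have hdt : d * t = t * d := by
      rw [htdec]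
      calc d * (g * a * g⁻¹ * (g * k' * g⁻¹)) = (d * (g * a * g⁻¹)) * (g * k' * g⁻¹) := by group
        _ = (g * a * g⁻¹) * (d * (g * k' * g⁻¹)) := by rw [hda]; group
        _ = g * a * g⁻¹ * (g * k' * g⁻¹) * d := by rw [hdk]; group
    calc t * d * t⁻¹ = (d * t) * t⁻¹ := by rw [hdt]
      _ = d := by group
  have hF12 : ∀ d ∈ O, t * d * t⁻¹ = d → s * d * s⁻¹ = d := by
    intro d hdO hdt
    have hd1O : g * d * g⁻¹ ∈ O := hOn.conj_mem d hdO g
    have hd1s : s * (g * d * g⁻¹) * s⁻¹ = g * d * g⁻¹ := by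
      calc s * (g * d * g⁻¹) * s⁻¹ = g * (t * d * t⁻¹) * g⁻¹ := by rw [hs]; group
        _ = g * d * g⁻¹ := by rw [hdt]
    have h := hF11 _ hd1O hd1s
    have hsg : s = g⁻¹ * t * g := by rw [← hgsg]; group
    calc s * d * s⁻¹ = g⁻¹ * (t * (g * d * g⁻¹) * t⁻¹) * g := by rw [hsg]; group
      _ = g⁻¹ * (g * d * g⁻¹) * g := by rw [h]
      _ = d := by group
  have hcent : ∀ o ∈ O, (t * s) * o * (t * s)⁻¹ = o :=
    centralizes_of_fix_eq O hOodd t s ht2 hs2 hts (fun o ho => hOn.conj_mem o ho t)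
      (fun o ho => hOn.conj_mem o ho s) hF11 hF12
  set C := Subgroup.centralizer (O : Set X) with hC
  have hCn : C.Normal := Subgroup.normal_centralizer
  have huC : t * s ∈ C := by
    rw [hC, Subgroup.mem_centralizer_iff]
    intro o ho
    have h := hcent o ho
    calc o * (t * s) = ((t * s) * o * (t * s)⁻¹) * (t * s) := by rw [h]
      _ = (t * s) * o := by group
  have hcomC : ∀ q ∈ P, a * q * a⁻¹ * q⁻¹ ∈ C := by
    intro q hqP
    have hqt : q * t = t * q := hPK q hqP t htP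
    rcases hk1 with h | h
    · have hs_a : s = a := by rw [hsak, h, mul_one]
      rw [hs_a] at huC
      have h1 : q * (t * a) * q⁻¹ ∈ C := hCn.conj_mem _ huC q
      have h2 : (t * a) * (q * (t * a) * q⁻¹)⁻¹ ∈ C := C.mul_mem huC (C.inv_mem h1)
      have h3 : t⁻¹ * ((t * a) * (q * (t * a) * q⁻¹)⁻¹) * t⁻¹⁻¹ ∈ C := hCn.conj_mem _ h2 t⁻¹
      have hqt' : t⁻¹ * q⁻¹ = q⁻¹ * t⁻¹ := by rw [← mul_inv_rev, ← mul_inv_rev, hqt]
      have e : t⁻¹ * ((t * a) * (q * (t * a) * q⁻¹)⁻¹) * t⁻¹⁻¹ = a * q * a⁻¹ * q⁻¹ := by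
        calc t⁻¹ * ((t * a) * (q * (t * a) * q⁻¹)⁻¹) * t⁻¹⁻¹
            = a * q * a⁻¹ * (t⁻¹ * q⁻¹) * t := by group
          _ = a * q * a⁻¹ * (q⁻¹ * t⁻¹) * t := by rw [hqt']
          _ = a * q * a⁻¹ * q⁻¹ := by group
      rw [← e]; exact h3
    · have hu : t * s = a := by
        rw [hsak, h]
        calc t * (a * t) = (t * a) * t := by group
          _ = (a * t) * t := by rw [hat]
          _ = a * (t * t) := by group
          _ = a := by rw [ht2, mul_one]
      rw [hu] at huC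
      have h1 : q * a⁻¹ * q⁻¹ ∈ C := hCn.conj_mem _ (C.inv_mem huC) q
      have e : a * q * a⁻¹ * q⁻¹ = a * (q * a⁻¹ * q⁻¹) := by group
      rw [e]; exact C.mul_mem huC h1
  have hPC : P ≤ C := by
    by_contra hPC
    have hM2 : C.subgroupOf P ≤ Subgroup.center ↥P := by
      apply Cfsg.Agent.Lib.Helper9.IsQuasisimple_normal_le_center hq
      intro htop
      apply hPC
      intro x hx
      have hm : (⟨x, hx⟩ : ↥P) ∈ C.subgroupOf P := by rw [htop]; trivial
      exact Subgroup.mem_subgroupOf.mp hm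
    have haK : a ∈ K := by
      rw [hK]
      apply mem_centralizer_of_perfect hq.1 (Subgroup.le_normalizer haP)
      intro q hqP
      have h1 : a * q * a⁻¹ * q⁻¹ ∈ P :=
        P.mul_mem (P.mul_mem (P.mul_mem haP hqP) (P.inv_mem haP)) (P.inv_mem hqP)
      exact mem_centralizer_of_mem_center_subtype h1
        (hM2 (Subgroup.mem_subgroupOf.mpr (hcomC q hqP)))
    have hodd := odd_of_central a haP haK
    have h2 : orderOf a = 2 := orderOf_eq_prime (by rw [pow_two]; exact ha2) ha1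
    rw [h2] at hodd
    exact absurd hodd (by decide)
  refine ⟨?_, a, haP, ha2, ha1⟩
  rw [Subgroup.commutator_eq_bot_iff_le_centralizer]
  exact hPC

theorem core_main (P : Subgroup X) (hP : Cfsg.IsStandardSubgroup P)
    (hr : Cfsg.PRankLE 2 1 ↥(Subgroup.centralizer (P : Set X)))
    (hZ : Odd (Nat.card ↥(Subgroup.center ↥P)))
    (S : Sylow 2 ↥(Subgroup.normalizer (P : Set X))) (t : X) (ht : orderOf t = 2)
    (htS : t ∈ (S : Subgroup ↥(Subgroup.normalizer (P : Set X))).map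
      (Subgroup.normalizer (P : Set X)).subtype)
    (htP : t ∈ Subgroup.centralizer (P : Set X))
    (g : X)
    (hgN : ∀ s ∈ (S : Subgroup ↥(Subgroup.normalizer (P : Set X))).map
      (Subgroup.normalizer (P : Set X)).subtype, g * s * g⁻¹ ∈
        (S : Subgroup ↥(Subgroup.normalizer (P : Set X))).map
          (Subgroup.normalizer (P : Set X)).subtype)
    (hgS : g ∉ (S : Subgroup ↥(Subgroup.normalizer (P : Set X))).map
      (Subgroup.normalizer (P : Set X)).subtype)
    (hg2 : g ^ 2 ∈ (S : Subgroup ↥(Subgroup.normalizer (P : Set X))).map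
      (Subgroup.normalizer (P : Set X)).subtype)
    (hgt : g * t * g⁻¹ ∈ P ⊔ Subgroup.centralizer (P : Set X)) :
    ⁅P, Cfsg.oddCore X⁆ = ⊥ ∧ ∃ a ∈ P, a * a = 1 ∧ a ≠ 1 :=
  core_main' P _ _ _ rfl rfl hP.1 hP.2.1 hP.2.2.2 hr hZ S rfl t ht htS htP g hgN hgS hg2 hgt

end Cfsg.Agent.Lib.Helper17.StdCore
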