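/-
helper17: a 2-component containing a perfect subgroup `P` that centralizes `O(X)` and contains an
involution is quasisimple.
-/
import Cfsg.Agent.Lib.Helper17.StdCoreA
import Cfsg.Agent.Lib.Helper9.PComponent4
import Cfsg.Agent.Lib.Helper12.PPrimeP
import Cfsg.Agent.Lib.Helper17.Basic

set_option autoImplicit false

open scoped commutatorElement

namespace Cfsg.Agent.Lib.Helper17.StdCore

variable {X : Type*} [Group X] [Finite X]

theorem pComponent_isQuasisimple_of_le (P : Subgroup X) (hperf : Group.IsPerfect ↥P)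
    (hcore : ⁅P, Cfsg.pPrimeCore 2 X⁆ = ⊥) (a : X) (haP : a ∈ P) (ha2 : a * a = 1) (ha1 : a ≠ 1)
    (L : Subgroup X) (hL : Cfsg.IsPComponent 2 L) (hPL : P ≤ L) : Cfsg.IsQuasisimple ↥L := by
  classical
  have : Fact (Nat.Prime 2) := ⟨Nat.prime_two⟩
  rw [Cfsg.Agent.Lib.Helper9.IsPComponent_isQuasisimple_iff hL,
    Cfsg.Agent.Lib.Helper9.pPrimeCoreIn_eq_inf_of_subnormal 2 hL.1]
  set O := Cfsg.pPrimeCore 2 X with hO
  have hOn : O.Normal := Cfsg.Agent.Lib.Helper12.pPrimeCore_normal' 2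
  have hOodd : Odd (Nat.card O) :=
    Nat.Coprime.odd_of_right (Cfsg.Agent.Lib.Helper12.pPrimeCore_coprime (X := X) 2)
  have haO : a ∉ O := fun h => ha1 (eq_one_of_mul_self_of_odd O hOodd h ha2)
  have hPO : P ≤ Subgroup.centralizer (O : Set X) :=
    Subgroup.commutator_eq_bot_iff_le_centralizer.mp hcore
  set H := L ⊓ Subgroup.centralizer ((L ⊓ O : Subgroup X) : Set X) with hH
  have hHL : H ≤ L := inf_le_left
  have hPH : P ≤ H := by
    refine le_inf hPL ?_
    exact hPO.trans (Subgroup.centralizer_le (by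
      intro x hx; exact (Subgroup.mem_inf.mp hx).2))
  have hLn : L ≤ Subgroup.normalizer (H : Set X) := by
    intro l hl
    apply Cfsg.Agent.Lib.Helper17.mem_normalizer_of_forall_conj_mem
    intro h hh
    refine ⟨L.mul_mem (L.mul_mem hl hh.1) (L.inv_mem hl), ?_⟩
    show l * h * l⁻¹ ∈ Subgroup.centralizer ((L ⊓ O : Subgroup X) : Set X)
    rw [Subgroup.mem_centralizer_iff]
    intro m hm
    have hm' : l⁻¹ * m * l ∈ L ⊓ O := by
      refine ⟨L.mul_mem (L.mul_mem (L.inv_mem hl) hm.1) hl, ?_⟩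
      have := hOn.conj_mem m hm.2 l⁻¹
      simpa using this
    have hc := (Subgroup.mem_centralizer_iff.mp hh.2) _ hm'
    calc m * (l * h * l⁻¹) = l * ((l⁻¹ * m * l) * h) * l⁻¹ := by group
      _ = l * (h * (l⁻¹ * m * l)) * l⁻¹ := by rw [hc]
      _ = l * h * l⁻¹ * m := by group
  have hHsn : H.IsSubnormal :=
    Cfsg.Agent.Lib.Helper9.isSubnormal_of_le_normalizer hHL hL.1 hLn
  set π := QuotientGroup.mk' O with hπ
  have hqs : Cfsg.IsQuasisimple ↥(L.map π) := hL.2.1.2
  have hHn : ((H.map π).subgroupOf (L.map π)).Normal := by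
    constructor
    intro n hn x
    rw [Subgroup.mem_subgroupOf] at hn ⊢
    obtain ⟨h, hh, hhn⟩ := hn
    obtain ⟨l, hl, hlx⟩ := x.2
    refine ⟨l * h * l⁻¹, (Subgroup.mem_normalizer_iff.mp (hLn hl) h).mp hh, ?_⟩
    rw [map_mul, map_mul, map_inv, hhn, hlx]
    rfl
  by_cases htop : (H.map π).subgroupOf (L.map π) = ⊤
  · have hmapeq : H.map π = L.map π := by
      apply le_antisymm (Subgroup.map_mono hHL)
      intro x hx
      have hm : (⟨x, hx⟩ : ↥(L.map π)) ∈ (H.map π).subgroupOf (L.map π) := by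
        rw [htop]; trivial
      exact Subgroup.mem_subgroupOf.mp hm
    have hHeq : H = L := hL.2.2 H hHsn hHL hmapeq
    rw [Subgroup.commutator_eq_bot_iff_le_centralizer]
    intro l hl
    have hl' : l ∈ H := by rw [hHeq]; exact hl
    exact hl'.2
  · exfalso
    have hcen := Cfsg.Agent.Lib.Helper9.IsQuasisimple_normal_le_center hqs
      ((H.map π).subgroupOf (L.map π)) htop
    -- commutators of `P` lie in `O`
    have hPP : ⁅P, P⁆ = P := Subgroup.isPerfect_iff.mp hperf
    have hle : ⁅P, P⁆ ≤ O := by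
      rw [Subgroup.commutator_le]
      intro p hp q hq
      have hpL : π p ∈ L.map π := ⟨p, hPL hp, rfl⟩
      have hqL : π q ∈ L.map π := ⟨q, hPL hq, rfl⟩
      have hpH : (⟨π p, hpL⟩ : ↥(L.map π)) ∈ (H.map π).subgroupOf (L.map π) := by
        rw [Subgroup.mem_subgroupOf]; exact ⟨p, hPH hp, rfl⟩
      have hpc := hcen hpH
      have hcomm := (Subgroup.mem_center_iff.mp hpc) ⟨π q, hqL⟩
      have hcomm' : π q * π p = π p * π q := congrArg Subtype.val hcomm
      have h1 : π ⁅p, q⁆ = 1 := by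
        rw [map_commutatorElement, commutatorElement_eq_one_iff_mul_comm]
        exact hcomm'.symm
      exact (QuotientGroup.eq_one_iff _).mp h1
    rw [hPP] at hle
    exact haO (hle haP)

end Cfsg.Agent.Lib.Helper17.StdCore
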