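import Mathlib
import Cfsg.Prelude.Def_SylowChains
import Cfsg.Agent.Lib.Helper12.Alperin
import Cfsg.Agent.Lib.Helper12.PComplement
import Cfsg.Agent.Lib.Helper12.Cores
import Cfsg.Agent.Lib.Helper17.SylowGraph
import Cfsg.Agent.Lib.Helper17.CoprimeGen

/-!
helper17: in a finite group `Γ` with Sylow `p`-subgroup `R`:
* `gen0 R`, the subgroup generated by the normalizers of the nontrivial subgroups of `R`;
* `compStab_le_gen0`: the stabilizer of the connected component of `R` in the Sylow graph lies in `gen0 R`;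
* `exists_min_normal`: if a proper subgroup `M` contains all those normalizers (a strongly `p`-embedded subgroup)
  then `Γ` has a smallest normal subgroup of order divisible by `p`.
-/

set_option autoImplicit false
set_option linter.unusedSectionVars false
set_option linter.unusedSimpArgs false
set_option linter.style.haveILetI false
open scoped Pointwise

namespace Cfsg.Agent.Lib.Helper17

open Cfsg.Agent.Lib.Helper12


theorem eq_one_of_mem_isPGroup_of_mem_coprime' {H : Type*} [Group H] [Finite H] {p : ℕ}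
    {P R : Subgroup H} (hP : IsPGroup p P) (hR : (Nat.card R).Coprime p)
    {g : H} (hgP : g ∈ P) (hgR : g ∈ R) : g = 1 := by
  obtain ⟨k, hk⟩ := hP ⟨g, hgP⟩
  have hk' : g ^ (p ^ k) = 1 := by
    have := congrArg Subtype.val hk
    simpa using this
  have h1 : orderOf g ∣ p ^ k := orderOf_dvd_of_pow_eq_one hk'
  have h2 : orderOf g ∣ Nat.card R := by
    have : orderOf (⟨g, hgR⟩ : R) ∣ Nat.card R := orderOf_dvd_natCard _
    rwa [Subgroup.orderOf_mk] at this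
  have h3 : (orderOf g).Coprime (orderOf g) :=
    Nat.Coprime.coprime_dvd_left h2 (Nat.Coprime.coprime_dvd_right h1 (Nat.Coprime.pow_right k hR))
  have h4 : orderOf g = 1 := (Nat.coprime_self _).mp h3
  exact orderOf_eq_one_iff.mp h4

theorem not_dvd_relIndex_sup' {L : Type*} [Group L] [Finite L] {p : ℕ} [Fact p.Prime]
    (Z K : Subgroup L) [K.Normal] (hK : (Nat.card K).Coprime p) : ¬ p ∣ Z.relIndex (Z ⊔ K) := by
  have hp : p.Prime := Fact.out
  intro hdvd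
  have h1 : Z.relIndex (Z ⊔ K) * Nat.card Z = Nat.card (Z ⊔ K : Subgroup L) := by
    have := Subgroup.relIndex_mul_relIndex ⊥ Z (Z ⊔ K) bot_le le_sup_left
    rw [Subgroup.relIndex_bot_left, Subgroup.relIndex_bot_left] at this
    rw [mul_comm]; exact this
  have h2 : Nat.card (Z ⊔ K : Subgroup L) ∣ Nat.card Z * Nat.card K := card_sup_dvd_of_normal Z K
  have h3 : Z.relIndex (Z ⊔ K) ∣ Nat.card K := by
    have h4 : Z.relIndex (Z ⊔ K) * Nat.card Z ∣ Nat.card K * Nat.card Z := by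
      rw [h1, mul_comm (Nat.card K)]; exact h2
    exact Nat.dvd_of_mul_dvd_mul_right Nat.card_pos h4
  have h5 : p ∣ Nat.card K := dvd_trans hdvd h3
  have h6 : p ∣ Nat.gcd (Nat.card K) p := Nat.dvd_gcd h5 dvd_rfl
  rw [hK] at h6
  exact hp.one_lt.ne' (Nat.dvd_one.mp h6)

section
variable {Γ : Type*} [Group Γ] [Finite Γ] {p : ℕ} [Fact p.Prime]

/-- the subgroup generated by the normalizers of the nontrivial subgroups of `R` -/
def gen0 (R : Subgroup Γ) : Subgroup Γ :=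
  ⨆ U : {U : Subgroup Γ // U ≠ ⊥ ∧ U ≤ R}, Subgroup.normalizer ((U : Subgroup Γ) : Set Γ)

theorem normalizer_le_gen0 {R U : Subgroup Γ} (hU : U ≠ ⊥) (hUR : U ≤ R) :
    Subgroup.normalizer (U : Set Γ) ≤ gen0 R :=
  le_iSup (fun U : {U : Subgroup Γ // U ≠ ⊥ ∧ U ≤ R} =>
    Subgroup.normalizer ((U : Subgroup Γ) : Set Γ)) ⟨U, hU, hUR⟩

theorem normalizer_le_gen0_of_le_smul (R : Sylow p Γ) {n : Γ} (hn : n ∈ gen0 (R : Subgroup Γ))
    {U : Subgroup Γ} (hU : U ≠ ⊥) (hUR : U ≤ ((n • R : Sylow p Γ) : Subgroup Γ)) :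
    Subgroup.normalizer (U : Set Γ) ≤ gen0 (R : Subgroup Γ) := by
  have hU₀R : cj n⁻¹ U ≤ (R : Subgroup Γ) := by
    rintro _ ⟨u, hu, rfl⟩
    have := hUR hu
    rw [mem_sylow_smul_iff] at this
    simpa [MulAut.conj_apply] using this
  have hU₀ne : cj n⁻¹ U ≠ ⊥ := by
    intro h
    apply hU
    have h1 := card_cj n⁻¹ U
    rw [h, Subgroup.card_bot] at h1
    exact Subgroup.card_eq_one.mp h1.symm
  intro m hm
  have h1 : n⁻¹ * m * n ∈ Subgroup.normalizer ((cj n⁻¹ U : Subgroup Γ) : Set Γ) := by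
    rw [← cj_normalizer]
    refine ⟨m, hm, ?_⟩
    simp [MulAut.conj_apply]
  have h2 := normalizer_le_gen0 hU₀ne hU₀R h1
  have h3 : m = n * (n⁻¹ * m * n) * n⁻¹ := by group
  rw [h3]
  exact mul_mem (mul_mem hn h2) (inv_mem hn)

theorem smul_mem_of_adj (R : Sylow p Γ) :
    ∀ (k : ℕ) (S S' : Sylow p Γ),
      Nat.card (S : Subgroup Γ) - Nat.card ((S : Subgroup Γ) ⊓ (S' : Subgroup Γ) : Subgroup Γ) = k →
      (∃ n ∈ gen0 (R : Subgroup Γ), S = n • R) → (S : Subgroup Γ) ⊓ (S' : Subgroup Γ) ≠ ⊥ →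
      ∃ n ∈ gen0 (R : Subgroup Γ), S' = n • R := by
  intro k
  induction k using Nat.strong_induction_on with
  | _ k IH =>
  intro S S' hk hS hne
  obtain ⟨n, hn, rfl⟩ := hS
  have hcardS : ∀ A B : Sylow p Γ, Nat.card (A : Subgroup Γ) = Nat.card (B : Subgroup Γ) := by
    intro A B; rw [Sylow.card_eq_multiplicity, Sylow.card_eq_multiplicity]
  have hcardle : ∀ A B : Sylow p Γ, Nat.card ((A : Subgroup Γ) ⊓ (B : Subgroup Γ) : Subgroup Γ) ≤
      Nat.card (A : Subgroup Γ) := fun A B => Subgroup.card_le_of_le inf_le_left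
  obtain ⟨U, hU⟩ : ∃ U : Subgroup Γ, U = ((n • R : Sylow p Γ) : Subgroup Γ) ⊓ (S' : Subgroup Γ) :=
    ⟨_, rfl⟩
  have hUne : U ≠ ⊥ := by rw [hU]; exact hne
  have hUS₁ : U ≤ ((n • R : Sylow p Γ) : Subgroup Γ) := by rw [hU]; exact inf_le_left
  have hUS₂ : U ≤ (S' : Subgroup Γ) := by rw [hU]; exact inf_le_right
  by_cases hUS : U = ((n • R : Sylow p Γ) : Subgroup Γ)
  · have hle : ((n • R : Sylow p Γ) : Subgroup Γ) ≤ (S' : Subgroup Γ) := by rw [← hUS]; exact hUS₂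
    have heq : ((n • R : Sylow p Γ) : Subgroup Γ) = (S' : Subgroup Γ) :=
      Subgroup.eq_of_le_of_card_ge hle (le_of_eq (hcardS _ _))
    exact ⟨n, hn, (Sylow.ext heq).symm⟩
  · have hUS' : U ≠ (S' : Subgroup Γ) := by
      intro h
      have hle : (S' : Subgroup Γ) ≤ ((n • R : Sylow p Γ) : Subgroup Γ) := by rw [← h]; exact hUS₁
      have heq := Subgroup.eq_of_le_of_card_ge hle (le_of_eq (hcardS _ _))
      exact hUS (h.trans heq)
    obtain ⟨M, hMdef⟩ : ∃ M : Subgroup Γ, M = Subgroup.normalizer (U : Set Γ) := ⟨_, rfl⟩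
    have hA₁ : Nat.card U < Nat.card ↥(((n • R : Sylow p Γ) : Subgroup Γ) ⊓ M) := by
      rw [hMdef]; exact card_lt_card_inf_normalizer (n • R).2 hUS₁ hUS
    have hA₂ : Nat.card U < Nat.card ↥((S' : Subgroup Γ) ⊓ M) := by
      rw [hMdef]; exact card_lt_card_inf_normalizer S'.2 hUS₂ hUS'
    have hMgen : M ≤ gen0 (R : Subgroup Γ) := by
      rw [hMdef]; exact normalizer_le_gen0_of_le_smul R hn hUne hUS₁
    have hUM : U ≤ M := by rw [hMdef]; exact Subgroup.le_normalizer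
    have hA₁p : IsPGroup p ((((n • R : Sylow p Γ) : Subgroup Γ) ⊓ M).subgroupOf M) :=
      ((n • R).2.to_le inf_le_left).comap_subtype
    have hA₂p : IsPGroup p (((S' : Subgroup Γ) ⊓ M).subgroupOf M) :=
      (S'.2.to_le inf_le_left).comap_subtype
    obtain ⟨V, hV⟩ := hA₁p.exists_le_sylow
    obtain ⟨V₂, hV₂⟩ := hA₂p.exists_le_sylow
    obtain ⟨m, hm⟩ := MulAction.exists_smul_eq ↥M V V₂
    have hVp : IsPGroup p ((V : Subgroup ↥M).map M.subtype) := V.2.map _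
    obtain ⟨Rs, hRs⟩ := hVp.exists_le_sylow
    have hA₁Rs : ((n • R : Sylow p Γ) : Subgroup Γ) ⊓ M ≤ (Rs : Subgroup Γ) := by
      intro a ha
      exact hRs ⟨⟨a, ha.2⟩, hV (Subgroup.mem_subgroupOf.mpr ha), rfl⟩
    have hA₁in : ((n • R : Sylow p Γ) : Subgroup Γ) ⊓ M ≤
        ((n • R : Sylow p Γ) : Subgroup Γ) ⊓ (Rs : Subgroup Γ) := le_inf inf_le_left hA₁Rs
    have hc1 := Subgroup.card_le_of_le hA₁in
    have hc2 := hcardle (n • R) Rs
    have hc0 := hcardle (n • R) S'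
    have hkU : Nat.card (((n • R : Sylow p Γ) : Subgroup Γ) ⊓ (S' : Subgroup Γ) : Subgroup Γ) = Nat.card U := by
      rw [hU]
    obtain ⟨n₁, hn₁, hRs_eq⟩ := IH
      (Nat.card ((n • R : Sylow p Γ) : Subgroup Γ) -
        Nat.card (((n • R : Sylow p Γ) : Subgroup Γ) ⊓ (Rs : Subgroup Γ) : Subgroup Γ)) (by omega)
      (n • R) Rs rfl ⟨n, hn, rfl⟩ (by
        intro hb
        apply hUne
        rw [eq_bot_iff, ← hb]
        exact (le_inf hUS₁ hUM).trans hA₁in)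
    -- the second leg
    have hA₂S'' : (S' : Subgroup Γ) ⊓ M ≤ (((m : Γ) • Rs : Sylow p Γ) : Subgroup Γ) := by
      intro a ha
      have h1 : (⟨a, ha.2⟩ : ↥M) ∈ (V₂ : Subgroup ↥M) := hV₂ (Subgroup.mem_subgroupOf.mpr ha)
      rw [← hm, mem_sylow_smul_iff] at h1
      rw [mem_sylow_smul_iff]
      have h2 : ((m⁻¹ * ⟨a, ha.2⟩ * m : ↥M) : Γ) ∈ (Rs : Subgroup Γ) := hRs ⟨_, h1, rfl⟩
      simpa using h2
    have hA₂in : (S' : Subgroup Γ) ⊓ M ≤
        (((m : Γ) • Rs : Sylow p Γ) : Subgroup Γ) ⊓ (S' : Subgroup Γ) := le_inf hA₂S'' inf_le_left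
    have hc3 := Subgroup.card_le_of_le hA₂in
    have hc4 := hcardle ((m : Γ) • Rs) S'
    have hc5 := hcardS ((m : Γ) • Rs) (n • R)
    exact IH
      (Nat.card (((m : Γ) • Rs : Sylow p Γ) : Subgroup Γ) -
        Nat.card ((((m : Γ) • Rs : Sylow p Γ) : Subgroup Γ) ⊓ (S' : Subgroup Γ) : Subgroup Γ)) (by omega)
      ((m : Γ) • Rs) S' rfl ⟨(m : Γ) * n₁, mul_mem (hMgen m.2) hn₁, by rw [hRs_eq, mul_smul]⟩ (by
        intro hb
        apply hUne
        rw [eq_bot_iff, ← hb]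
        exact (le_inf hUS₂ hUM).trans hA₂in)

/-- the stabilizer of the connected component of `R` is generated by normalizers of nontrivial
subgroups of `R` -/
theorem compStab_le_gen0 (R : Sylow p Γ) (hR : (R : Subgroup Γ) ≠ ⊥) :
    compStab p R ≤ gen0 (R : Subgroup Γ) := by
  have key : ∀ S : Sylow p Γ, SylConn p R S → ∃ n ∈ gen0 (R : Subgroup Γ), S = n • R := by
    intro S h
    unfold SylConn at h
    induction h with
    | refl => exact ⟨1, one_mem _, (one_smul _ _).symm⟩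
    | tail _ hbc ih => exact smul_mem_of_adj R _ _ _ rfl ih hbc.2
  intro g hg
  obtain ⟨n, hn, hgn⟩ := key _ (mem_compStab.mp hg)
  have h1 : (n⁻¹ * g) • R = R := by rw [mul_smul, hgn, inv_smul_smul]
  have h2 : n⁻¹ * g ∈ Subgroup.normalizer ((R : Subgroup Γ) : Set Γ) :=
    Sylow.smul_eq_iff_mem_normalizer.mp h1
  have h3 := normalizer_le_gen0 hR le_rfl h2
  have : g = n * (n⁻¹ * g) := by group
  rw [this]; exact mul_mem hn h3

/-- a normal subgroup of order divisible by `p` meets `R` in an element of order `p` -/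
theorem exists_mem_sylow_inf_of_dvd (R : Sylow p Γ) (Y : Subgroup Γ) [hY : Y.Normal]
    (h : p ∣ Nat.card Y) : ∃ e ∈ (R : Subgroup Γ) ⊓ Y, orderOf e = p := by
  obtain ⟨e', he'⟩ := exists_prime_orderOf_dvd_card' (G := ↥Y) p h
  have hord : orderOf (e' : Γ) = p := by rw [Subgroup.orderOf_coe]; exact he'
  have hzp : IsPGroup p (Subgroup.zpowers (e' : Γ)) := by
    apply IsPGroup.of_card (n := 1)
    rw [Nat.card_zpowers, hord, pow_one]
  obtain ⟨Q, hQ⟩ := hzp.exists_le_sylow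
  obtain ⟨g, hg⟩ := MulAction.exists_smul_eq Γ R Q
  have h1 : (e' : Γ) ∈ ((g • R : Sylow p Γ) : Subgroup Γ) := by
    rw [hg]; exact hQ (Subgroup.mem_zpowers _)
  rw [mem_sylow_smul_iff] at h1
  refine ⟨g⁻¹ * (e' : Γ) * g, ⟨h1, ?_⟩, ?_⟩
  · have := hY.conj_mem (e' : Γ) e'.2 g⁻¹
    simpa using this
  · have h2 : g⁻¹ * (e' : Γ) * g = (MulAut.conj g⁻¹) (e' : Γ) := by simp [MulAut.conj_apply]
    rw [h2, MulEquiv.orderOf_eq, hord]

theorem centralizer_singleton_le_of_mem (R : Sylow p Γ) (M : Subgroup Γ)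
    (hM : ∀ U : Subgroup Γ, U ≠ ⊥ → U ≤ (R : Subgroup Γ) → Subgroup.normalizer (U : Set Γ) ≤ M)
    {x : Γ} (hx : x ∈ (R : Subgroup Γ)) (hx1 : x ≠ 1) : Subgroup.centralizer ({x} : Set Γ) ≤ M := by
  have hne : Subgroup.zpowers x ≠ ⊥ := by
    intro h
    exact hx1 (Subgroup.zpowers_eq_bot.mp h)
  have hle : Subgroup.zpowers x ≤ (R : Subgroup Γ) := Subgroup.zpowers_le.mpr hx
  refine le_trans ?_ (hM _ hne hle)
  intro c hc
  apply Subgroup.mem_normalizer_fintype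
  intro n hn
  obtain ⟨k, rfl⟩ := Subgroup.mem_zpowers_iff.mp hn
  have hcx : Commute c x := by
    have := Subgroup.mem_centralizer_iff.mp hc x (Set.mem_singleton x)
    exact this.symm
  have hck : Commute c (x ^ k) := hcx.zpow_right k
  have : c * x ^ k * c⁻¹ = x ^ k := by rw [hck.eq, mul_inv_cancel_right]
  rw [this]; exact hn

/-- if a proper subgroup `M` contains the normalizers of all nontrivial subgroups of `R`, the orders of
two normal subgroups divisible by `p` have intersection of order divisible by `p` -/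
theorem dvd_card_inf_of_normal (R : Sylow p Γ) (M : Subgroup Γ)
    (hM : ∀ U : Subgroup Γ, U ≠ ⊥ → U ≤ (R : Subgroup Γ) → Subgroup.normalizer (U : Set Γ) ≤ M)
    (hMtop : M ≠ ⊤) (Y₁ Y₂ : Subgroup Γ) [hY₁ : Y₁.Normal] [hY₂ : Y₂.Normal]
    (h₁ : p ∣ Nat.card Y₁) (h₂ : p ∣ Nat.card Y₂) : p ∣ Nat.card (Y₁ ⊓ Y₂ : Subgroup Γ) := by
  have hp : p.Prime := Fact.out
  by_contra hnd
  apply hMtop
  have hDcop : (Nat.card (Y₁ ⊓ Y₂ : Subgroup Γ)).Coprime p :=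
    ((Nat.Prime.coprime_iff_not_dvd hp).mpr hnd).symm
  obtain ⟨e₁, he₁, ho₁⟩ := exists_mem_sylow_inf_of_dvd R Y₁ h₁
  obtain ⟨e₂, he₂, ho₂⟩ := exists_mem_sylow_inf_of_dvd R Y₂ h₂
  have he₁R : e₁ ∈ (R : Subgroup Γ) := (Subgroup.mem_inf.mp he₁).1
  have he₁Y : e₁ ∈ Y₁ := (Subgroup.mem_inf.mp he₁).2
  have he₂R : e₂ ∈ (R : Subgroup Γ) := (Subgroup.mem_inf.mp he₂).1
  have he₂Y : e₂ ∈ Y₂ := (Subgroup.mem_inf.mp he₂).2
  have hne₁ : e₁ ≠ 1 := by
    intro h; rw [h, orderOf_one] at ho₁; exact hp.one_lt.ne ho₁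
  have hne₂ : e₂ ≠ 1 := by
    intro h; rw [h, orderOf_one] at ho₂; exact hp.one_lt.ne ho₂
  have htriv : ∀ g : Γ, g ∈ (R : Subgroup Γ) → g ∈ Y₁ ⊓ Y₂ → g = 1 := fun g h1 h2 =>
    eq_one_of_mem_isPGroup_of_mem_coprime' R.2 hDcop h1 h2
  -- `e₁`, `e₂` commute
  have hcomm : e₁ * e₂ = e₂ * e₁ := by
    have hc : e₁ * e₂ * e₁⁻¹ * e₂⁻¹ = 1 := by
      apply htriv
      · exact mul_mem (mul_mem (mul_mem he₁R he₂R) (inv_mem he₁R)) (inv_mem he₂R)
      · refine Subgroup.mem_inf.mpr ⟨?_, ?_⟩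
        · have h1 := hY₁.conj_mem e₁⁻¹ (inv_mem he₁Y) e₂
          have h2 : e₁ * e₂ * e₁⁻¹ * e₂⁻¹ = e₁ * (e₂ * e₁⁻¹ * e₂⁻¹) := by group
          rw [h2]; exact mul_mem he₁Y h1
        · have h1 := hY₂.conj_mem e₂ he₂Y e₁
          exact mul_mem h1 (inv_mem he₂Y)
    have : e₁ * e₂ = (e₁ * e₂ * e₁⁻¹ * e₂⁻¹) * (e₂ * e₁) := by group
    rw [this, hc, one_mul]
  have hRne : (R : Subgroup Γ) ≠ ⊥ := by
    intro h
    have := he₁R
    rw [h, Subgroup.mem_bot] at this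
    exact hne₁ this
  have hRM : (R : Subgroup Γ) ≤ M := Subgroup.le_normalizer.trans (hM _ hRne le_rfl)
  have hcent := fun {x : Γ} => centralizer_singleton_le_of_mem R M hM (x := x)
  -- `D ≤ M`
  have hDM : Y₁ ⊓ Y₂ ≤ M := by
    obtain ⟨A, hA⟩ : ∃ A : Subgroup Γ, A = Subgroup.closure ({e₁, e₂} : Set Γ) := ⟨_, rfl⟩
    have hAR : A ≤ (R : Subgroup Γ) := by
      rw [hA, Subgroup.closure_le]
      rintro x (rfl | rfl)
      · exact he₁R
      · exact he₂R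
    have hk : ∀ x ∈ ({e₁, e₂} : Set Γ), ∀ y ∈ ({e₁, e₂} : Set Γ), x * y = y * x := by
      rintro x (rfl | rfl) y (rfl | rfl)
      · rfl
      · exact hcomm
      · exact hcomm.symm
      · rfl
    haveI : IsMulCommutative A := by
      subst hA
      exact Subgroup.isMulCommutative_closure hk
    have hAp : IsPGroup p A := R.2.to_le hAR
    have hcop : (Nat.card A).Coprime (Nat.card (Y₁ ⊓ Y₂ : Subgroup Γ)) := by
      obtain ⟨j, hj⟩ := (IsPGroup.iff_card (p := p)).mp hAp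
      rw [hj]
      exact Nat.Coprime.pow_left j hDcop.symm
    have hAN : A ≤ Subgroup.normalizer ((Y₁ ⊓ Y₂ : Subgroup Γ) : Set Γ) := by
      rw [Subgroup.normalizer_eq_top]; exact le_top
    have he₁A : e₁ ∈ A := by rw [hA]; exact Subgroup.subset_closure (by simp)
    have he₂A : e₂ ∈ A := by rw [hA]; exact Subgroup.subset_closure (by simp)
    have hpow₁ : e₁ ^ p ∈ Subgroup.centralizer ((Y₁ ⊓ Y₂ : Subgroup Γ) : Set Γ) := by
      rw [← ho₁, pow_orderOf_eq_one]; exact one_mem _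
    have hpow₂ : e₂ ^ p ∈ Subgroup.centralizer ((Y₁ ⊓ Y₂ : Subgroup Γ) : Set Γ) := by
      rw [← ho₂, pow_orderOf_eq_one]; exact one_mem _
    have hgen := le_iSup_centralizer_pair A (Y₁ ⊓ Y₂) hAN hcop p hnd e₁ e₂ he₁A he₂A hpow₁ hpow₂
    refine hgen.trans (sup_le (iSup_le fun j => ?_) ?_)
    · refine inf_le_right.trans (hcent (mul_mem he₁R (pow_mem he₂R j)) ?_)
      intro h
      apply hne₁
      apply htriv _ he₁R
      refine Subgroup.mem_inf.mpr ⟨he₁Y, ?_⟩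
      have : e₁ = (e₂ ^ j)⁻¹ := eq_inv_of_mul_eq_one_left h
      rw [this]; exact inv_mem (pow_mem he₂Y j)
    · exact inf_le_right.trans (hcent he₂R hne₂)
  -- `Y₁ ≤ M`
  have hY₁M : Y₁ ≤ M := by
    intro y hy
    obtain ⟨R₂, hR₂⟩ : ∃ R₂ : Subgroup Γ, R₂ = (R : Subgroup Γ) ⊓ Y₂ := ⟨_, rfl⟩
    have hR₂ne : R₂ ≠ ⊥ := by
      intro h
      have : e₂ ∈ R₂ := by rw [hR₂]; exact he₂
      rw [h, Subgroup.mem_bot] at this
      exact hne₂ this
    have hR₂R : R₂ ≤ (R : Subgroup Γ) := by rw [hR₂]; exact inf_le_left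
    have hR₂p : IsPGroup p R₂ := R.2.to_le hR₂R
    have hQle : cj y⁻¹ R₂ ≤ R₂ ⊔ (Y₁ ⊓ Y₂) := by
      rintro _ ⟨r, hr, rfl⟩
      have hr2 : r ∈ Y₂ := by rw [hR₂] at hr; exact (Subgroup.mem_inf.mp hr).2
      have h1 : r⁻¹ * y⁻¹ * r * y ∈ Y₁ ⊓ Y₂ := by
        refine Subgroup.mem_inf.mpr ⟨?_, ?_⟩
        · have := hY₁.conj_mem y⁻¹ (inv_mem hy) r⁻¹
          have h2 : r⁻¹ * y⁻¹ * r * y = (r⁻¹ * y⁻¹ * r⁻¹⁻¹) * y := by group
          rw [h2]; exact mul_mem this hy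
        · have := hY₂.conj_mem r hr2 y⁻¹
          have h2 : r⁻¹ * y⁻¹ * r * y = r⁻¹ * (y⁻¹ * r * y⁻¹⁻¹) := by group
          rw [h2]; exact mul_mem (inv_mem hr2) this
      have h2 : (MulAut.conj y⁻¹).toMonoidHom r = r * (r⁻¹ * y⁻¹ * r * y) := by
        simp [MulAut.conj_apply]; group
      rw [h2]
      exact mul_mem (Subgroup.mem_sup_left hr) (Subgroup.mem_sup_right h1)
    obtain ⟨h, hh, hconj⟩ := exists_conj_mem_of_relIndex R₂ (R₂ ⊔ (Y₁ ⊓ Y₂)) (cj y⁻¹ R₂) hR₂p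
      (not_dvd_relIndex_sup' R₂ (Y₁ ⊓ Y₂) hDcop) hQle (hR₂p.map _)
    have hN : h * y⁻¹ ∈ Subgroup.normalizer (R₂ : Set Γ) := by
      apply Subgroup.mem_normalizer_fintype
      intro r hr
      have h1 := hconj _ ⟨r, hr, rfl⟩
      have h2 : h * y⁻¹ * r * (h * y⁻¹)⁻¹ = h * ((MulAut.conj y⁻¹).toMonoidHom r) * h⁻¹ := by
        simp [MulAut.conj_apply]; group
      rw [h2]; exact h1
    have hhM : h ∈ M := by
      have : R₂ ⊔ (Y₁ ⊓ Y₂) ≤ M := sup_le (hR₂R.trans hRM) hDM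
      exact this hh
    have h3 : h * y⁻¹ ∈ M := hM _ hR₂ne hR₂R hN
    have h4 : y = (h * y⁻¹)⁻¹ * h := by group
    rw [h4]; exact mul_mem (inv_mem h3) hhM
  -- Frattini
  rw [eq_top_iff]
  intro γ _
  obtain ⟨R₁, hR₁⟩ : ∃ R₁ : Subgroup Γ, R₁ = (R : Subgroup Γ) ⊓ Y₁ := ⟨_, rfl⟩
  have hR₁ne : R₁ ≠ ⊥ := by
    intro h
    have : e₁ ∈ R₁ := by rw [hR₁]; exact he₁
    rw [h, Subgroup.mem_bot] at this
    exact hne₁ this
  have hR₁R : R₁ ≤ (R : Subgroup Γ) := by rw [hR₁]; exact inf_le_left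
  have hR₁p : IsPGroup p R₁ := R.2.to_le hR₁R
  have hidx : ¬ p ∣ R₁.relIndex Y₁ := by
    rw [hR₁]
    exact sylow_inf_relIndex R ⊤ Y₁ le_top le_top (fun h _ k hk => hY₁.conj_mem k hk h)
  have hQle : cj γ⁻¹ R₁ ≤ Y₁ := by
    rintro _ ⟨r, hr, rfl⟩
    have hr1 : r ∈ Y₁ := by rw [hR₁] at hr; exact (Subgroup.mem_inf.mp hr).2
    exact hY₁.conj_mem r hr1 γ⁻¹
  obtain ⟨h, hh, hconj⟩ := exists_conj_mem_of_relIndex R₁ Y₁ (cj γ⁻¹ R₁) hR₁p hidx hQle (hR₁p.map _)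
  have hN : h * γ⁻¹ ∈ Subgroup.normalizer (R₁ : Set Γ) := by
    apply Subgroup.mem_normalizer_fintype
    intro r hr
    have h1 := hconj _ ⟨r, hr, rfl⟩
    have h2 : h * γ⁻¹ * r * (h * γ⁻¹)⁻¹ = h * ((MulAut.conj γ⁻¹).toMonoidHom r) * h⁻¹ := by
      simp [MulAut.conj_apply]; group
    rw [h2]; exact h1
  have h3 : h * γ⁻¹ ∈ M := hM _ hR₁ne hR₁R hN
  have h4 : γ = (h * γ⁻¹)⁻¹ * h := by group
  rw [h4]; exact mul_mem (inv_mem h3) (hY₁M hh)

/-- a finite group with a "strongly `p`-embedded" subgroup has a smallest normal subgroup of order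
divisible by `p` -/
theorem exists_min_normal (R : Sylow p Γ) (M : Subgroup Γ)
    (hM : ∀ U : Subgroup Γ, U ≠ ⊥ → U ≤ (R : Subgroup Γ) → Subgroup.normalizer (U : Set Γ) ≤ M)
    (hMtop : M ≠ ⊤) (hp : p ∣ Nat.card Γ) :
    ∃ X : Subgroup Γ, X.Normal ∧ p ∣ Nat.card X ∧
      ∀ Y : Subgroup Γ, Y.Normal → p ∣ Nat.card Y → X ≤ Y := by
  classical
  have hex : ∃ n : ℕ, ∃ Y : Subgroup Γ, Y.Normal ∧ p ∣ Nat.card Y ∧ Nat.card Y = n :=
    ⟨Nat.card (⊤ : Subgroup Γ), ⊤, inferInstance, by rwa [Subgroup.card_top], rfl⟩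
  obtain ⟨X, hXn, hXp, hXcard⟩ := Nat.find_spec hex
  refine ⟨X, hXn, hXp, fun Y hYn hYp => ?_⟩
  haveI := hXn
  haveI := hYn
  have h1 := dvd_card_inf_of_normal R M hM hMtop X Y hXp hYp
  have h2 : Nat.find hex ≤ Nat.card (X ⊓ Y : Subgroup Γ) :=
    Nat.find_min' hex ⟨X ⊓ Y, inferInstance, h1, rfl⟩
  have h3 : X ⊓ Y = X := Subgroup.eq_of_le_of_card_ge inf_le_left (by rw [hXcard]; exact h2)
  rw [← h3]; exact inf_le_right

end

end Cfsg.Agent.Lib.Helper17
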