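import Mathlib
import Cfsg.Prelude.Def_SylowChains
import Cfsg.Prelude.Def_Transfer
import Cfsg.Agent.Lib.Helper12.Alperin
import Cfsg.Agent.Lib.Helper12.Cores
import Cfsg.Agent.Lib.Helper12.PComplement
import Cfsg.Agent.Lib.Helper16.Irreducible
import Cfsg.Agent.Lib.Helper16.PCore
import Cfsg.Agent.Lib.Helper17.SylowGen

/-!
helper17: local analysis at `N = N_G(T)` modulo `T` for the strong Alperin–Goldschmidt theorem:
either `N` is generated by the `N_N(U)`, `T < U ≤ R` (`R` a Sylow `p`-subgroup of `N`), or `N/T` is not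
Sylow-chain-connected and has a smallest normal subgroup of order divisible by `p`.
-/

set_option autoImplicit false
set_option linter.unusedSectionVars false
set_option linter.unusedSimpArgs false
set_option linter.style.haveILetI false
open scoped Pointwise

namespace Cfsg.Agent.Lib.Helper17

open Cfsg.Agent.Lib.Helper12

section
variable {G : Type*} [Group G] [Finite G] {p : ℕ} [Fact p.Prime]

theorem relIndex_comap_map_eq_card (T N : Subgroup G) (hTN : T ≤ N) [hn : (T.subgroupOf N).Normal]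
    (Z : Subgroup (↥N ⧸ T.subgroupOf N)) :
    T.relIndex ((Z.comap (QuotientGroup.mk' (T.subgroupOf N))).map N.subtype) = Nat.card Z := by
  have hTX : T ≤ (Z.comap (QuotientGroup.mk' (T.subgroupOf N))).map N.subtype := by
    intro t ht
    refine ⟨⟨t, hTN ht⟩, Subgroup.mem_comap.mpr ?_, rfl⟩
    have : (QuotientGroup.mk' (T.subgroupOf N)) ⟨t, hTN ht⟩ = 1 := by
      rw [QuotientGroup.mk'_apply, QuotientGroup.eq_one_iff, Subgroup.mem_subgroupOf]
      exact ht
    rw [this]; exact one_mem _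
  have h1 : T.relIndex ((Z.comap (QuotientGroup.mk' (T.subgroupOf N))).map N.subtype) * Nat.card T =
      Nat.card ↥((Z.comap (QuotientGroup.mk' (T.subgroupOf N))).map N.subtype) := by
    have := Subgroup.relIndex_mul_relIndex ⊥ T _ bot_le hTX
    rw [Subgroup.relIndex_bot_left, Subgroup.relIndex_bot_left] at this
    rw [mul_comm]; exact this
  have h2 : Nat.card ↥((Z.comap (QuotientGroup.mk' (T.subgroupOf N))).map N.subtype) =
      Nat.card ↥(T.subgroupOf N) * Nat.card Z := by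
    rw [Subgroup.card_map_of_injective (Subgroup.subtype_injective N)]
    exact card_comap_mk' _ Z
  have h3 : Nat.card ↥(T.subgroupOf N) = Nat.card T :=
    Nat.card_congr (Subgroup.subgroupOfEquivOfLe hTN).toEquiv
  rw [h2, h3, mul_comm] at h1
  exact Nat.eq_of_mul_eq_mul_left Nat.card_pos h1

/-- The dichotomy at a tame subgroup `T < R`. -/
theorem ess_dichotomy (T N R : Subgroup G) (hTN : T ≤ N)
    [hn : (T.subgroupOf N).Normal] (hRp : IsPGroup p R) (hTR : T ≤ R) (hRN : R ≤ N)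
    (hR : ¬ p ∣ R.relIndex N) (hTne : T ≠ R) :
    (N ≤ ⨆ U : {U : Subgroup G // T < U ∧ U ≤ R},
        N ⊓ Subgroup.normalizer ((U : Subgroup G) : Set G)) ∨
    (¬ Cfsg.IsSylowChainConnected p (↥N ⧸ T.subgroupOf N) ∧
      ∃ X : Subgroup G, T ≤ X ∧ X ≤ N ∧ (X.subgroupOf N).Normal ∧ p ∣ T.relIndex X ∧
        ∀ Y : Subgroup G, T ≤ Y → Y ≤ N → (Y.subgroupOf N).Normal → p ∣ T.relIndex Y → X ≤ Y) := by
  have hπ : Function.Surjective (QuotientGroup.mk' (T.subgroupOf N)) :=
    QuotientGroup.mk'_surjective _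
  have hRp' : IsPGroup p (R.subgroupOf N) := hRp.comap_subtype
  obtain ⟨R', hR'⟩ : ∃ R' : Sylow p ↥N, (R' : Subgroup ↥N) = R.subgroupOf N := ⟨hRp'.toSylow hR, rfl⟩
  obtain ⟨Rb, hRb⟩ : ∃ Rb : Sylow p (↥N ⧸ T.subgroupOf N),
      (Rb : Subgroup (↥N ⧸ T.subgroupOf N)) = (R.subgroupOf N).map (QuotientGroup.mk' (T.subgroupOf N)) :=
    ⟨R'.mapSurjective hπ, by rw [Sylow.coe_mapSurjective, hR']⟩
  have hker : ∀ x : ↥N, (QuotientGroup.mk' (T.subgroupOf N)) x = 1 ↔ (x : G) ∈ T := by
    intro x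
    rw [QuotientGroup.mk'_apply, QuotientGroup.eq_one_iff, Subgroup.mem_subgroupOf]
  have hRbne : (Rb : Subgroup (↥N ⧸ T.subgroupOf N)) ≠ ⊥ := by
    intro h
    apply hTne
    apply le_antisymm hTR
    intro r hr
    have h1 : (QuotientGroup.mk' (T.subgroupOf N)) ⟨r, hRN hr⟩ ∈
        (Rb : Subgroup (↥N ⧸ T.subgroupOf N)) := by
      rw [hRb]; exact ⟨⟨r, hRN hr⟩, Subgroup.mem_subgroupOf.mpr hr, rfl⟩
    rw [h, Subgroup.mem_bot] at h1
    exact (hker _).mp h1
  -- pull back from `Rb` to `R`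
  have hpull : ∀ x : ↥N, (QuotientGroup.mk' (T.subgroupOf N)) x ∈
      (Rb : Subgroup (↥N ⧸ T.subgroupOf N)) → (x : G) ∈ R := by
    intro x hx
    rw [hRb] at hx
    obtain ⟨r, hr, hrx⟩ := hx
    have h1 : (QuotientGroup.mk' (T.subgroupOf N)) (r⁻¹ * x) = 1 := by
      rw [map_mul, map_inv, hrx, inv_mul_cancel]
    have h2 := (hker _).mp h1
    have h3 : (x : G) = (r : G) * ((r⁻¹ * x : ↥N) : G) := by
      simp
    rw [h3]
    exact mul_mem (Subgroup.mem_subgroupOf.mp hr) (hTR h2)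
  by_cases hcs : compStab p Rb = ⊤
  · left
    have hgen : gen0 (Rb : Subgroup (↥N ⧸ T.subgroupOf N)) = ⊤ := by
      rw [eq_top_iff, ← hcs]; exact compStab_le_gen0 Rb hRbne
    have key : ∀ γ ∈ gen0 (Rb : Subgroup (↥N ⧸ T.subgroupOf N)),
        ∃ m' : ↥N, (QuotientGroup.mk' (T.subgroupOf N)) m' = γ ∧
          (m' : G) ∈ ⨆ U : {U : Subgroup G // T < U ∧ U ≤ R},
            N ⊓ Subgroup.normalizer ((U : Subgroup G) : Set G) := by
      intro γ hγ
      unfold gen0 at hγ
      refine Subgroup.iSup_induction _ (C := fun γ => ∃ m' : ↥N,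
          (QuotientGroup.mk' (T.subgroupOf N)) m' = γ ∧
          (m' : G) ∈ ⨆ U : {U : Subgroup G // T < U ∧ U ≤ R},
            N ⊓ Subgroup.normalizer ((U : Subgroup G) : Set G)) hγ ?_ ?_ ?_
      · rintro ⟨Ub, hUbne, hUbR⟩ γ hγ
        obtain ⟨m', rfl⟩ := hπ γ
        refine ⟨m', rfl, ?_⟩
        have hTU : T ≤ (Ub.comap (QuotientGroup.mk' (T.subgroupOf N))).map N.subtype := by
          intro t ht
          refine ⟨⟨t, hTN ht⟩, Subgroup.mem_comap.mpr ?_, rfl⟩
          rw [(hker _).mpr ht]; exact one_mem _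
        have hUR : (Ub.comap (QuotientGroup.mk' (T.subgroupOf N))).map N.subtype ≤ R := by
          rintro _ ⟨u, hu, rfl⟩
          exact hpull u (hUbR (Subgroup.mem_comap.mp hu))
        have hTU' : T < (Ub.comap (QuotientGroup.mk' (T.subgroupOf N))).map N.subtype := by
          refine lt_of_le_of_ne hTU ?_
          intro heq
          obtain ⟨⟨a, haU⟩, ha1⟩ := Subgroup.ne_bot_iff_exists_ne_one.mp hUbne
          obtain ⟨u, rfl⟩ := hπ a
          have h1 : (u : G) ∈ (Ub.comap (QuotientGroup.mk' (T.subgroupOf N))).map N.subtype :=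
            ⟨u, Subgroup.mem_comap.mpr haU, rfl⟩
          rw [← heq] at h1
          apply ha1
          exact Subtype.ext ((hker u).mpr h1)
        have hmU : (m' : G) ∈ Subgroup.normalizer
            (((Ub.comap (QuotientGroup.mk' (T.subgroupOf N))).map N.subtype : Subgroup G) : Set G) := by
          apply Subgroup.mem_normalizer_fintype
          rintro _ ⟨u, hu, rfl⟩
          refine ⟨m' * u * m'⁻¹, Subgroup.mem_comap.mpr ?_, by simp⟩
          rw [map_mul, map_mul, map_inv]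
          exact (Subgroup.mem_normalizer_iff.mp hγ _).mp (Subgroup.mem_comap.mp hu)
        exact Subgroup.mem_iSup_of_mem (⟨_, hTU', hUR⟩ : {U : Subgroup G // T < U ∧ U ≤ R})
          (Subgroup.mem_inf.mpr ⟨m'.2, hmU⟩)
      · exact ⟨1, map_one _, one_mem _⟩
      · rintro x y ⟨a, rfl, ha⟩ ⟨b, rfl, hb⟩
        exact ⟨a * b, map_mul _ _ _, by simpa using mul_mem ha hb⟩
    intro m hm
    obtain ⟨m', hm', hm'gen⟩ := key ((QuotientGroup.mk' (T.subgroupOf N)) ⟨m, hm⟩)
      (by rw [hgen]; trivial)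
    have h1 : (QuotientGroup.mk' (T.subgroupOf N)) (m'⁻¹ * ⟨m, hm⟩) = 1 := by
      rw [map_mul, map_inv, hm', inv_mul_cancel]
    have h2 : (m' : G)⁻¹ * m ∈ T := by
      have := (hker _).mp h1
      simpa using this
    have hTgen : T ≤ ⨆ U : {U : Subgroup G // T < U ∧ U ≤ R},
        N ⊓ Subgroup.normalizer ((U : Subgroup G) : Set G) := by
      intro t ht
      exact Subgroup.mem_iSup_of_mem (⟨R, lt_of_le_of_ne hTR hTne, le_rfl⟩ :
        {U : Subgroup G // T < U ∧ U ≤ R})
        (Subgroup.mem_inf.mpr ⟨hTN ht, Subgroup.le_normalizer (hTR ht)⟩)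
    have h3 : m = (m' : G) * ((m' : G)⁻¹ * m) := by group
    rw [h3]
    exact mul_mem hm'gen (hTgen h2)
  · right
    constructor
    · intro hconn
      apply hcs
      rw [eq_top_iff]
      intro g _
      rw [mem_compStab]
      exact sylConn_of_isSylowChainConnected hconn _ _
    · have hMn : ∀ U : Subgroup (↥N ⧸ T.subgroupOf N), U ≠ ⊥ →
          U ≤ (Rb : Subgroup (↥N ⧸ T.subgroupOf N)) →
          Subgroup.normalizer (U : Set (↥N ⧸ T.subgroupOf N)) ≤ compStab p Rb := by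
        intro U hU hUR g hg
        rw [mem_compStab]
        obtain ⟨⟨x, hxU⟩, hx1⟩ := Subgroup.ne_bot_iff_exists_ne_one.mp hU
        have hx1' : x ≠ 1 := fun h => hx1 (Subtype.ext h)
        refine SylConn.of_mem (x := x) (hUR hxU) ?_ hx1'
        rw [mem_sylow_smul_iff]
        have := (Subgroup.mem_normalizer_iff.mp (inv_mem hg) x).mp hxU
        rw [inv_inv] at this
        exact hUR this
      have hpΓ : p ∣ Nat.card (↥N ⧸ T.subgroupOf N) := by
        rcases Rb.2.card_eq_or_dvd with h | h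
        · exact absurd (Subgroup.card_eq_one.mp h) hRbne
        · exact dvd_trans h (Subgroup.card_subgroup_dvd_card _)
      obtain ⟨Xb, hXbn, hXbp, hXbmin⟩ := exists_min_normal Rb (compStab p Rb) hMn hcs hpΓ
      refine ⟨(Xb.comap (QuotientGroup.mk' (T.subgroupOf N))).map N.subtype, ?_, ?_, ?_, ?_, ?_⟩
      · intro t ht
        refine ⟨⟨t, hTN ht⟩, Subgroup.mem_comap.mpr ?_, rfl⟩
        rw [(hker _).mpr ht]; exact one_mem _
      · exact Subgroup.map_subtype_le _
      · have : ((Xb.comap (QuotientGroup.mk' (T.subgroupOf N))).map N.subtype).subgroupOf N =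
            Xb.comap (QuotientGroup.mk' (T.subgroupOf N)) :=
          Subgroup.comap_map_eq_self_of_injective (Subgroup.subtype_injective N) _
        rw [this]
        exact hXbn.comap _
      · rw [relIndex_comap_map_eq_card T N hTN Xb]; exact hXbp
      · intro Y hTY hYN hYn hYp
        have hYmap : ((Y.subgroupOf N).map (QuotientGroup.mk' (T.subgroupOf N))).Normal :=
          hYn.map _ hπ
        have hcomap : ((Y.subgroupOf N).map (QuotientGroup.mk' (T.subgroupOf N))).comap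
            (QuotientGroup.mk' (T.subgroupOf N)) = Y.subgroupOf N := by
          rw [Subgroup.comap_map_eq, QuotientGroup.ker_mk']
          apply sup_eq_left.mpr
          intro t ht
          rw [Subgroup.mem_subgroupOf] at ht ⊢
          exact hTY ht
        have hYeq : (((Y.subgroupOf N).map (QuotientGroup.mk' (T.subgroupOf N))).comap
            (QuotientGroup.mk' (T.subgroupOf N))).map N.subtype = Y := by
          rw [hcomap]; exact Subgroup.map_subgroupOf_eq_of_le hYN
        have hcard := relIndex_comap_map_eq_card T N hTN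
          ((Y.subgroupOf N).map (QuotientGroup.mk' (T.subgroupOf N)))
        rw [hYeq] at hcard
        have hle := hXbmin _ hYmap (by rw [← hcard]; exact hYp)
        calc (Xb.comap (QuotientGroup.mk' (T.subgroupOf N))).map N.subtype
            ≤ (((Y.subgroupOf N).map (QuotientGroup.mk' (T.subgroupOf N))).comap
                (QuotientGroup.mk' (T.subgroupOf N))).map N.subtype :=
              Subgroup.map_mono (Subgroup.comap_mono hle)
          _ = Y := hYeq

/-- `R ∩ X` is a Sylow `p`-subgroup of the normal subgroup `X` of `N`. -/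
theorem not_dvd_relIndex_inf_of_normal (N R X : Subgroup G) (hRp : IsPGroup p R)
    (hR : ¬ p ∣ R.relIndex N) (hXN : X ≤ N) [hXn : (X.subgroupOf N).Normal] :
    ¬ p ∣ (R ⊓ X).relIndex X := by
  have hRp' : IsPGroup p (R.subgroupOf N) := hRp.comap_subtype
  obtain ⟨R', hR'⟩ : ∃ R' : Sylow p ↥N, (R' : Subgroup ↥N) = R.subgroupOf N :=
    ⟨hRp'.toSylow hR, rfl⟩
  have h0 := sylow_inf_relIndex R' ⊤ (X.subgroupOf N) le_top le_top
    (fun h _ k hk => hXn.conj_mem k hk h)
  rw [hR'] at h0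
  have h1 : R.subgroupOf N ⊓ X.subgroupOf N = (R ⊓ X).subgroupOf N := by
    ext x
    simp [Subgroup.mem_subgroupOf]
  rw [h1, Subgroup.relIndex_subgroupOf hXN] at h0
  exact h0

/-- Frattini plus `X = O^p(X)(R ∩ X)`: for `X` normal in `N` and `R` a Sylow `p`-subgroup of `N`,
`N = O^p(X) N_N(R ∩ X)`. -/
theorem exists_mul_of_normal_sylow (N R X : Subgroup G) (hRp : IsPGroup p R) (hRN : R ≤ N)
    (hR : ¬ p ∣ R.relIndex N) (hXN : X ≤ N) [hXn : (X.subgroupOf N).Normal] :
    ∀ m ∈ N, ∃ x ∈ (Cfsg.pResidual p ↥X).map X.subtype,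
      ∃ m' ∈ N ⊓ Subgroup.normalizer ((R ⊓ X : Subgroup G) : Set G), m = x * m' := by
  have hp : p.Prime := Fact.out
  have hUp : IsPGroup p (R ⊓ X : Subgroup G) := hRp.to_le inf_le_left
  have hidx : ¬ p ∣ (R ⊓ X).relIndex X := not_dvd_relIndex_inf_of_normal N R X hRp hR hXN
  have hXconj : ∀ n ∈ N, ∀ x ∈ X, n * x * n⁻¹ ∈ X := by
    intro n hn x hx
    have := hXn.conj_mem ⟨x, hXN hx⟩ (Subgroup.mem_subgroupOf.mpr hx) ⟨n, hn⟩
    exact Subgroup.mem_subgroupOf.mp this
  have hUp' : IsPGroup p ((R ⊓ X : Subgroup G).subgroupOf X) := hUp.comap_subtype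
  obtain ⟨S, hS⟩ : ∃ S : Sylow p ↥X, (S : Subgroup ↥X) = (R ⊓ X : Subgroup G).subgroupOf X :=
    ⟨hUp'.toSylow hidx, rfl⟩
  have htop : Cfsg.pResidual p ↥X ⊔ (S : Subgroup ↥X) = ⊤ :=
    Cfsg.Agent.Lib.Helper16.eq_top_of_sylow_le_of_pResidual_le S le_sup_right le_sup_left
  haveI : (Cfsg.pResidual p ↥X).Normal := Cfsg.Agent.Lib.Helper16.pResidual_normal
  intro m hm
  have hle : cj m (R ⊓ X) ≤ X := by
    rintro _ ⟨u, hu, rfl⟩
    exact hXconj m hm u (Subgroup.mem_inf.mp hu).2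
  obtain ⟨x₀, hx₀, hconj⟩ := exists_conj_mem_of_relIndex (R ⊓ X) X (cj m (R ⊓ X)) hUp hidx hle
    (hUp.map _)
  have hN : x₀ * m ∈ Subgroup.normalizer ((R ⊓ X : Subgroup G) : Set G) := by
    apply Subgroup.mem_normalizer_fintype
    intro u hu
    have h1 := hconj _ ⟨u, hu, rfl⟩
    have h2 : x₀ * m * u * (x₀ * m)⁻¹ = x₀ * ((MulAut.conj m).toMonoidHom u) * x₀⁻¹ := by
      simp [MulAut.conj_apply]; group
    rw [h2]; exact h1
  -- decompose `x₀⁻¹`
  have h3 : (⟨x₀⁻¹, inv_mem hx₀⟩ : ↥X) ∈ Cfsg.pResidual p ↥X ⊔ (S : Subgroup ↥X) := by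
    rw [htop]; trivial
  rw [Subgroup.mem_sup_of_normal_left] at h3
  obtain ⟨o, ho, u, hu, hou⟩ := h3
  have hu' : (u : G) ∈ R ⊓ X := by
    rw [hS, Subgroup.mem_subgroupOf] at hu
    exact hu
  have hou' : (o : G) * (u : G) = x₀⁻¹ := by
    have := congrArg Subtype.val hou
    simpa using this
  refine ⟨(o : G), ⟨o, ho, rfl⟩, (u : G) * (x₀ * m), ?_, ?_⟩
  · refine Subgroup.mem_inf.mpr ⟨?_, ?_⟩
    · exact mul_mem (hRN (Subgroup.mem_inf.mp hu').1) (mul_mem (hXN hx₀) hm)
    · exact mul_mem (Subgroup.le_normalizer hu') hN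
  · rw [← mul_assoc, hou']; group

end

end Cfsg.Agent.Lib.Helper17
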