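import Mathlib
import Cfsg.Prelude.Def_SylowChains
import Cfsg.Prelude.Def_Transfer
import Cfsg.Prelude.Def_Local
import Cfsg.Agent.Lib.Helper12.Goldschmidt
import Cfsg.Agent.Lib.Helper17.StrongAG1

/-!
helper17: the strong form of the Alperin–Goldschmidt fusion theorem (essential subgroups, steps in
`O^p(X)`, a final factor in `N_G(P)`).
-/

set_option autoImplicit false
set_option linter.unusedSectionVars false
set_option linter.unusedSimpArgs false
set_option linter.style.haveILetI false
open scoped Pointwise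

namespace Cfsg.Agent.Lib.Helper17

open Cfsg.Agent.Lib.Helper12

section
variable {G : Type*} [Group G] [Finite G] {p : ℕ} [Fact p.Prime]

/-- an essential step: the conditions of the strong Alperin–Goldschmidt theorem on `(H, X, x)` -/
def EssStep (P : Sylow p G) (H X : Subgroup G) (x : G) : Prop :=
  H ≤ (P : Subgroup G) ∧
  ¬ p ∣ ((P : Subgroup G) ⊓ Subgroup.normalizer (H : Set G)).relIndex (Subgroup.normalizer (H : Set G)) ∧
  (P : Subgroup G) ⊓ Subgroup.centralizer (H : Set G) ≤ H ∧
  (Cfsg.pPrimePCore p ↥(Subgroup.normalizer (H : Set G))).map (Subgroup.normalizer (H : Set G)).subtype =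
    H ⊔ Subgroup.centralizer (H : Set G) ∧
  ¬ Cfsg.IsSylowChainConnected p
      (↥(Subgroup.normalizer (H : Set G)) ⧸ H.subgroupOf (Subgroup.normalizer (H : Set G))) ∧
  (H ≤ X ∧ X ≤ Subgroup.normalizer (H : Set G) ∧
    (X.subgroupOf (Subgroup.normalizer (H : Set G))).Normal ∧ p ∣ H.relIndex X ∧
    ∀ Y : Subgroup G, H ≤ Y → Y ≤ Subgroup.normalizer (H : Set G) →
      (Y.subgroupOf (Subgroup.normalizer (H : Set G))).Normal → p ∣ H.relIndex Y → X ≤ Y) ∧
  x ∈ (Cfsg.pResidual p ↥X).map X.subtype

/-- chains of essential steps carrying the set `A` along -/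
def SChain (P : Sylow p G) : Set G → List (Subgroup G × Subgroup G × G) → Prop
  | _, [] => True
  | A, (H, X, x) :: l => EssStep P H X x ∧ A ⊆ (H : Set G) ∧ SChain P (cjs x A) l

/-- the product of the conjugating elements -/
def sprod (l : List (Subgroup G × Subgroup G × G)) : G := (l.map (fun t => t.2.2)).prod

theorem sprod_nil : sprod ([] : List (Subgroup G × Subgroup G × G)) = 1 := rfl

theorem sprod_cons (H X : Subgroup G) (x : G) (l : List (Subgroup G × Subgroup G × G)) :
    sprod ((H, X, x) :: l) = x * sprod l := by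
  simp [sprod]

theorem sprod_append (l₁ l₂ : List (Subgroup G × Subgroup G × G)) :
    sprod (l₁ ++ l₂) = sprod l₁ * sprod l₂ := by
  simp [sprod]

theorem SChain.append (P : Sylow p G) {A : Set G} {l₁ l₂ : List (Subgroup G × Subgroup G × G)}
    (h₁ : SChain P A l₁) (h₂ : SChain P (cjs (sprod l₁) A) l₂) : SChain P A (l₁ ++ l₂) := by
  induction l₁ generalizing A with
  | nil =>
    rw [sprod_nil, cjs_one] at h₂
    exact h₂
  | cons a l ih =>
    obtain ⟨H, X, x⟩ := a
    obtain ⟨hE, hA, hl⟩ := h₁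
    refine ⟨hE, hA, ?_⟩
    apply ih hl
    rw [sprod_cons, cjs_mul] at h₂
    exact h₂

theorem SChain.mono (P : Sylow p G) {A B : Set G} (hBA : B ⊆ A)
    {l : List (Subgroup G × Subgroup G × G)} (h : SChain P A l) : SChain P B l := by
  induction l generalizing A B with
  | nil => trivial
  | cons a l ih =>
    obtain ⟨H, X, x⟩ := a
    obtain ⟨hE, hA, hl⟩ := h
    exact ⟨hE, hBA.trans hA, ih (cjs_mono x hBA) hl⟩

/-- `g = c · (essential chain) · y` with `c ∈ C_G(A)`, `y ∈ N_G(P)` -/
def SR (P : Sylow p G) (A : Set G) (g : G) : Prop :=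
  ∃ c ∈ Subgroup.centralizer A, ∃ l : List (Subgroup G × Subgroup G × G), SChain P A l ∧
    ∃ y ∈ Subgroup.normalizer ((P : Subgroup G) : Set G), g = c * sprod l * y

theorem SR.of_normalizer (P : Sylow p G) (A : Set G) {y : G}
    (hy : y ∈ Subgroup.normalizer ((P : Subgroup G) : Set G)) : SR P A y :=
  ⟨1, one_mem _, [], trivial, y, hy, by simp [sprod_nil]⟩

theorem SR.mul_right (P : Sylow p G) {A : Set G} {g y : G} (h : SR P A g)
    (hy : y ∈ Subgroup.normalizer ((P : Subgroup G) : Set G)) : SR P A (g * y) := by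
  obtain ⟨c, hc, l, hl, y', hy', rfl⟩ := h
  exact ⟨c, hc, l, hl, y' * y, mul_mem hy' hy, by group⟩

theorem SR.mul_left (P : Sylow p G) {A : Set G} {g c : G} (hc : c ∈ Subgroup.centralizer A)
    (h : SR P A g) : SR P A (c * g) := by
  obtain ⟨c', hc', l, hl, y', hy', rfl⟩ := h
  exact ⟨c * c', mul_mem hc hc', l, hl, y', hy', by group⟩

theorem SR.mono (P : Sylow p G) {A B : Set G} (hBA : B ⊆ A) {g : G} (h : SR P A g) : SR P B g := by
  obtain ⟨c, hc, l, hl, y, hy, rfl⟩ := h
  exact ⟨c, Subgroup.centralizer_le hBA hc, l, hl.mono P hBA, y, hy, rfl⟩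

/-- prepend a chain -/
theorem SR.of_prefix (P : Sylow p G) {A : Set G} {c : G} (hc : c ∈ Subgroup.centralizer A)
    {l : List (Subgroup G × Subgroup G × G)} (hl : SChain P A l) {g' : G}
    (h : SR P (cjs (c * sprod l) A) g') : SR P A (c * sprod l * g') := by
  have hcjs : cjs (c * sprod l) A = cjs (sprod l) A := by
    rw [cjs_mul, cjs_eq_of_mem_centralizer hc]
  rw [hcjs] at h
  obtain ⟨c', hc', l', hl', y', hy', rfl⟩ := h
  refine ⟨c * (sprod l * c' * (sprod l)⁻¹), mul_mem hc (conj_mem_centralizer_of_cjs hc'), l ++ l',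
    hl.append P hl', y', hy', ?_⟩
  rw [sprod_append]; group

theorem SChain.get (P : Sylow p G) {A : Set G} {l : List (Subgroup G × Subgroup G × G)}
    (h : SChain P A l) (i : ℕ) (hi : i < l.length) :
    EssStep P (l[i]).1 (l[i]).2.1 (l[i]).2.2 ∧
      cjs (((l.map (fun t => t.2.2)).take i).prod) A ⊆ ((l[i]).1 : Subgroup G) := by
  induction l generalizing A i with
  | nil => simp at hi
  | cons a l ih =>
    obtain ⟨H, X, x⟩ := a
    obtain ⟨hE, hA, hl⟩ := h
    cases i with
    | zero =>
      simp only [List.getElem_cons_zero, List.take_zero, List.prod_nil]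
      rw [cjs_one]
      exact ⟨hE, hA⟩
    | succ j =>
      have hj : j < l.length := by simpa using hi
      simp only [List.map_cons, List.take_succ_cons, List.prod_cons, List.getElem_cons_succ]
      rw [cjs_mul]
      exact ih hl j hj

theorem cj_one' (T : Subgroup G) : cj (1 : G) T = T := by
  rw [cj_def]
  ext x
  simp

theorem tame_cj (P : Sylow p G) {y : G} (hy : y ∈ Subgroup.normalizer ((P : Subgroup G) : Set G))
    {V : Subgroup G} (hV : V ∈ tameFamily P) : cj y V ∈ tameFamily P := by
  have hyP : cj y (P : Subgroup G) = (P : Subgroup G) := cj_eq_of_mem_normalizer hy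
  refine ⟨?_, ?_⟩
  · have := cj_mono y hV.1
    rwa [hyP] at this
  · have h1 : (P : Subgroup G) ⊓ Subgroup.normalizer ((cj y V : Subgroup G) : Set G) =
        cj y ((P : Subgroup G) ⊓ Subgroup.normalizer (V : Set G)) := by
      rw [cj_inf, cj_normalizer, hyP]
    rw [h1, ← cj_normalizer, cj_relIndex]
    exact hV.2

/-- the local step: elements of `N_G(T)`, `T` tame -/
theorem sl_step (P : Sylow p G) (T : Subgroup G) (hT : T ∈ tameFamily P)
    (hTne : T ≠ (P : Subgroup G))
    (IH : ∀ T' : Subgroup G, T' ≤ (P : Subgroup G) → Nat.card T < Nat.card T' →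
      ∀ g' : G, cj g'⁻¹ T' ≤ (P : Subgroup G) → SR P (T' : Set G) g')
    (m : G) (hm : m ∈ Subgroup.normalizer (T : Set G)) : SR P (T : Set G) m := by
  by_cases hC : (P : Subgroup G) ⊓ Subgroup.centralizer (T : Set G) ≤ T
  · obtain ⟨T₂, hTT₂, hT₂P, hgold, hfr⟩ := gold_step P hT hC
    by_cases hT₂ : T₂ = T
    · obtain ⟨-, -, hCle, hdir⟩ := hgold hT₂
      obtain ⟨-, hd2, hcomm, -, hsup⟩ := hdir
      have h4 : (Cfsg.pPrimePCore p ↥(Subgroup.normalizer (T : Set G))).map
          (Subgroup.normalizer (T : Set G)).subtype = T ⊔ Subgroup.centralizer (T : Set G) := by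
        apply le_antisymm
        · rw [← hsup]
          refine sup_le ?_ le_sup_left
          refine le_trans ?_ le_sup_right
          intro a ha
          exact Subgroup.mem_centralizer_iff.mpr (fun b hb => (hcomm a ha b hb).symm)
        · exact sup_le hd2 hCle
      obtain ⟨R, hRdef⟩ : ∃ R : Subgroup G,
          R = (P : Subgroup G) ⊓ Subgroup.normalizer (T : Set G) := ⟨_, rfl⟩
      have hRp : IsPGroup p R := by rw [hRdef]; exact P.2.to_le inf_le_left
      have hTR : T ≤ R := by rw [hRdef]; exact le_inf hT.1 Subgroup.le_normalizer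
      have hRN : R ≤ Subgroup.normalizer (T : Set G) := by rw [hRdef]; exact inf_le_right
      have hRP : R ≤ (P : Subgroup G) := by rw [hRdef]; exact inf_le_left
      have hR : ¬ p ∣ R.relIndex (Subgroup.normalizer (T : Set G)) := by rw [hRdef]; exact hT.2
      have hTneR : T ≠ R := by
        intro h
        have := card_lt_card_inf_normalizer P.2 hT.1 hTne
        rw [← hRdef, ← h] at this
        exact lt_irrefl _ this
      rcases ess_dichotomy T (Subgroup.normalizer (T : Set G)) R Subgroup.le_normalizer hRp hTR hRN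
        hR hTneR with hgen | ⟨hconn, X, hTX, hXN, hXn, hXp, hXmin⟩
      · -- generated by normalizers of larger subgroups
        have key : ∀ m ∈ ⨆ U : {U : Subgroup G // T < U ∧ U ≤ R},
            Subgroup.normalizer (T : Set G) ⊓ Subgroup.normalizer ((U : Subgroup G) : Set G),
            m ∈ Subgroup.normalizer (T : Set G) ∧
            ∀ y₁ ∈ Subgroup.normalizer ((P : Subgroup G) : Set G),
              SR P ((cj y₁ T : Subgroup G) : Set G) (y₁ * m * y₁⁻¹) := by
          intro m hm
          refine Subgroup.iSup_induction _ (C := fun m => m ∈ Subgroup.normalizer (T : Set G) ∧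
            ∀ y₁ ∈ Subgroup.normalizer ((P : Subgroup G) : Set G),
              SR P ((cj y₁ T : Subgroup G) : Set G) (y₁ * m * y₁⁻¹)) hm ?_ ?_ ?_
          · rintro ⟨U, hTU, hUR⟩ m hmU
            have hm1 : m ∈ Subgroup.normalizer (T : Set G) := (Subgroup.mem_inf.mp hmU).1
            have hm2 : m ∈ Subgroup.normalizer (U : Set G) := (Subgroup.mem_inf.mp hmU).2
            refine ⟨hm1, fun y₁ hy₁ => ?_⟩
            have hUP : U ≤ (P : Subgroup G) := hUR.trans hRP
            have hU₁P : cj y₁ U ≤ (P : Subgroup G) := by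
              have := cj_mono y₁ hUP
              rwa [cj_eq_of_mem_normalizer hy₁] at this
            have hcard : Nat.card T < Nat.card ↥(cj y₁ U) := by
              rw [card_cj]
              exact lt_of_not_ge (fun h => hTU.ne (Subgroup.eq_of_le_of_card_ge hTU.le h))
            have hnorm : y₁ * m * y₁⁻¹ ∈ Subgroup.normalizer ((cj y₁ U : Subgroup G) : Set G) := by
              rw [← cj_normalizer]
              exact ⟨m, hm2, by simp [MulAut.conj_apply]⟩
            have := IH (cj y₁ U) hU₁P hcard (y₁ * m * y₁⁻¹)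
              (by rw [cj_eq_of_mem_normalizer (inv_mem hnorm)]; exact hU₁P)
            exact this.mono P (SetLike.coe_subset_coe.mpr (cj_mono y₁ hTU.le))
          · refine ⟨one_mem _, fun y₁ hy₁ => ?_⟩
            have : y₁ * 1 * y₁⁻¹ = 1 := by group
            rw [this]
            exact SR.of_normalizer P _ (one_mem _)
          · rintro x z ⟨hx, hxC⟩ ⟨hz, hzC⟩
            refine ⟨mul_mem hx hz, fun y₁ hy₁ => ?_⟩
            obtain ⟨c, hc, l, hl, y₂, hy₂, hxeq⟩ := hxC y₁ hy₁
            have hz' := hzC (y₂ * y₁) (mul_mem hy₂ hy₁)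
            have hw : c * sprod l = y₁ * x * y₁⁻¹ * y₂⁻¹ := by rw [hxeq]; group
            have hcjs : cjs (c * sprod l) ((cj y₁ T : Subgroup G) : Set G) =
                ((cj (y₂ * y₁) T : Subgroup G) : Set G) := by
              rw [cjs_coe, hw, cj_mul]
              have e : (y₁ * x * y₁⁻¹ * y₂⁻¹)⁻¹ * y₁ = (y₂ * y₁) * x⁻¹ := by group
              rw [e, ← cj_mul, cj_eq_of_mem_normalizer (inv_mem hx)]
            have h1 := SR.of_prefix P hc hl (by rw [hcjs]; exact hz')
            have h2 := h1.mul_right P hy₂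
            have e : c * sprod l * (y₂ * y₁ * z * (y₂ * y₁)⁻¹) * y₂ = y₁ * (x * z) * y₁⁻¹ := by
              rw [hw]; group
            rw [e] at h2
            exact h2
        obtain ⟨-, h⟩ := key m (hgen hm)
        have h1 := h 1 (one_mem _)
        rw [cj_one'] at h1
        simpa using h1
      · -- the essential case
        haveI := hXn
        obtain ⟨x, hx, m', hm', rfl⟩ := exists_mul_of_normal_sylow
          (Subgroup.normalizer (T : Set G)) R X hRp hRN hR hXN m hm
        have hidx := not_dvd_relIndex_inf_of_normal (Subgroup.normalizer (T : Set G)) R X hRp hR hXN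
        have hTU : T ≤ R ⊓ X := le_inf hTR hTX
        have hTUne : T ≠ R ⊓ X := by
          intro h
          apply hidx
          rw [← h]; exact hXp
        have hlt : Nat.card T < Nat.card ↥(R ⊓ X) :=
          lt_of_not_ge (fun h => hTUne (Subgroup.eq_of_le_of_card_ge hTU h))
        have hUP : R ⊓ X ≤ (P : Subgroup G) := inf_le_left.trans hRP
        have hm'2 : m' ∈ Subgroup.normalizer ((R ⊓ X : Subgroup G) : Set G) :=
          (Subgroup.mem_inf.mp hm').2
        have h1 := IH (R ⊓ X) hUP hlt m'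
          (by rw [cj_eq_of_mem_normalizer (inv_mem hm'2)]; exact hUP)
        have h2 : SR P (T : Set G) m' := h1.mono P (SetLike.coe_subset_coe.mpr hTU)
        have hE : EssStep P T X x :=
          ⟨hT.1, hT.2, hC, h4, hconn, ⟨hTX, hXN, hXn, hXp, hXmin⟩, hx⟩
        have hxN : x ∈ Subgroup.normalizer (T : Set G) := by
          obtain ⟨x', -, rfl⟩ := hx
          exact hXN x'.2
        have hl : SChain P (T : Set G) [(T, X, x)] := ⟨hE, le_rfl, trivial⟩
        have h3 := SR.of_prefix P (one_mem _) hl (g' := m') (by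
          rw [sprod_cons, sprod_nil, one_mul, mul_one, cjs_coe,
            cj_eq_of_mem_normalizer (inv_mem hxN)]
          exact h2)
        simpa [sprod_cons, sprod_nil] using h3
    · obtain ⟨u, hu, y, hy, rfl⟩ := hfr m hm
      apply SR.mul_left P hu
      have hlt : Nat.card T < Nat.card T₂ :=
        lt_of_not_ge (fun h => hT₂ (Subgroup.eq_of_le_of_card_ge hTT₂ h).symm)
      have hy2 : y ∈ Subgroup.normalizer (T₂ : Set G) := (Subgroup.mem_inf.mp hy).2
      have := IH T₂ hT₂P hlt y (by rw [cj_eq_of_mem_normalizer (inv_mem hy2)]; exact hT₂P)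
      exact this.mono P (SetLike.coe_subset_coe.mpr hTT₂)
  · obtain ⟨c, hc, y, hy, rfl⟩ := exists_mul_of_tame P hT hm
    apply SR.mul_left P hc
    have hUU₁ : T ≤ T ⊔ ((P : Subgroup G) ⊓ Subgroup.centralizer (T : Set G)) := le_sup_left
    have hU₁P : T ⊔ ((P : Subgroup G) ⊓ Subgroup.centralizer (T : Set G)) ≤ (P : Subgroup G) :=
      sup_le hT.1 inf_le_left
    have hlt : Nat.card T <
        Nat.card ↥(T ⊔ ((P : Subgroup G) ⊓ Subgroup.centralizer (T : Set G))) := by
      apply lt_of_not_ge
      intro h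
      have e := Subgroup.eq_of_le_of_card_ge hUU₁ h
      exact hC (le_sup_right.trans e.ge)
    have hy2 : y ∈ Subgroup.normalizer
        ((T ⊔ ((P : Subgroup G) ⊓ Subgroup.centralizer (T : Set G)) : Subgroup G) : Set G) :=
      (Subgroup.mem_inf.mp hy).2
    have := IH _ hU₁P hlt y (by rw [cj_eq_of_mem_normalizer (inv_mem hy2)]; exact hU₁P)
    exact this.mono P (SetLike.coe_subset_coe.mpr hUU₁)

/-- the tame case of the main theorem -/
theorem sr_tame (P : Sylow p G) (T : Subgroup G) (hT : T ∈ tameFamily P)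
    (hTne : T ≠ (P : Subgroup G))
    (IH : ∀ T' : Subgroup G, T' ≤ (P : Subgroup G) → Nat.card T < Nat.card T' →
      ∀ g' : G, cj g'⁻¹ T' ≤ (P : Subgroup G) → SR P (T' : Set G) g')
    (g : G) (hTg : cj g⁻¹ T ≤ (P : Subgroup G)) : SR P (T : Set G) g := by
  have hTQ : T ≤ cj g (P : Subgroup G) := by
    have := cj_mono g hTg
    rwa [cj_cj_inv] at this
  have hQp : IsPGroup p ↥(cj g (P : Subgroup G)) := by
    rw [cj_def]; exact P.2.map _
  have hTQne : T ≠ cj g (P : Subgroup G) := by
    intro h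
    apply hTne
    apply Subgroup.eq_of_le_of_card_ge hT.1
    rw [← card_cj g (P : Subgroup G), ← h]
  have hcard := card_lt_card_inf_normalizer hQp hTQ hTQne
  obtain ⟨n, hn, hconj⟩ := exists_conj_mem_of_relIndex
    ((P : Subgroup G) ⊓ Subgroup.normalizer (T : Set G)) (Subgroup.normalizer (T : Set G))
    (cj g (P : Subgroup G) ⊓ Subgroup.normalizer (T : Set G)) (P.2.to_le inf_le_left) hT.2
    inf_le_right (hQp.to_le inf_le_left)
  obtain ⟨c, hc, l, hl, y, hy, hneq⟩ := sl_step P T hT hTne IH n⁻¹ (inv_mem hn)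
  have hw : (c * sprod l)⁻¹ = y * n := by
    have : c * sprod l = n⁻¹ * y⁻¹ := by rw [hneq]; group
    rw [this]; group
  have hle : cj (c * sprod l)⁻¹ (cj g (P : Subgroup G) ⊓ Subgroup.normalizer (T : Set G)) ≤
      (P : Subgroup G) ⊓ cj ((c * sprod l)⁻¹ * g) (P : Subgroup G) := by
    apply le_inf
    · rw [hw, ← cj_mul]
      have h1 : cj n (cj g (P : Subgroup G) ⊓ Subgroup.normalizer (T : Set G)) ≤ (P : Subgroup G) := by
        rintro _ ⟨q, hq, rfl⟩
        have := (Subgroup.mem_inf.mp (hconj q hq)).1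
        simpa [MulAut.conj_apply] using this
      have := cj_mono y h1
      rwa [cj_eq_of_mem_normalizer hy] at this
    · rw [← cj_mul]
      exact cj_mono _ inf_le_left
  have hcard'' : Nat.card T <
      Nat.card ↥((P : Subgroup G) ⊓ cj ((c * sprod l)⁻¹ * g) (P : Subgroup G)) := by
    refine lt_of_lt_of_le ?_ (Subgroup.card_le_of_le hle)
    rw [card_cj]; exact hcard
  have h1 := IH _ inf_le_left hcard'' ((c * sprod l)⁻¹ * g) (by
    refine (cj_mono _ inf_le_right).trans ?_
    rw [cj_inv_cj])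
  have h2 : SR P (cjs (c * sprod l) (T : Set G)) ((c * sprod l)⁻¹ * g) := by
    apply h1.mono P
    rw [cjs_coe]
    exact SetLike.coe_subset_coe.mpr
      ((cj_mono _ (le_inf hTQ Subgroup.le_normalizer)).trans hle)
  have h3 := SR.of_prefix P hc hl h2
  have e : c * sprod l * ((c * sprod l)⁻¹ * g) = g := by group
  rwa [e] at h3

/-- the main theorem, for subgroups -/
theorem sr_main (P : Sylow p G) :
    ∀ (d : ℕ) (T : Subgroup G), T ≤ (P : Subgroup G) →
      Nat.card (P : Subgroup G) - Nat.card T = d →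
      ∀ g : G, cj g⁻¹ T ≤ (P : Subgroup G) → SR P (T : Set G) g := by
  intro d
  induction d using Nat.strong_induction_on with
  | _ d IHd =>
  intro T hTP hd g hTg
  have hcardle : ∀ T' : Subgroup G, T' ≤ (P : Subgroup G) →
      Nat.card T' ≤ Nat.card (P : Subgroup G) := fun T' hT' => Subgroup.card_le_of_le hT'
  by_cases hTeq : T = (P : Subgroup G)
  · subst hTeq
    have hgN : g ∈ Subgroup.normalizer (((P : Subgroup G) : Subgroup G) : Set G) := by
      have := mem_normalizer_of_cj_eq (cj_eq_of_le hTg)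
      simpa using inv_mem this
    exact SR.of_normalizer P _ hgN
  · have IH : ∀ T' : Subgroup G, T' ≤ (P : Subgroup G) → Nat.card T < Nat.card T' →
        ∀ g' : G, cj g'⁻¹ T' ≤ (P : Subgroup G) → SR P (T' : Set G) g' := by
      intro T' hT' hlt g' hg'
      apply IHd (Nat.card (P : Subgroup G) - Nat.card T') _ T' hT' rfl g' hg'
      have := hcardle T' hT'
      have := hcardle T hTP
      omega
    obtain ⟨b, V, hV, hbV, hbN⟩ := exists_tame_conj P hTP
    have hlt := card_lt_card_inf_normalizer P.2 hTP hTeq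
    have hTTa : T ≤ (P : Subgroup G) ⊓ Subgroup.normalizer (T : Set G) :=
      le_inf hTP Subgroup.le_normalizer
    obtain ⟨c, hc, l, hl, y, hy, hbeq⟩ := IH _ inf_le_left hlt b⁻¹
      (by rw [inv_inv]; exact hbN.trans inf_le_left)
    have hc' : c ∈ Subgroup.centralizer (T : Set G) :=
      Subgroup.centralizer_le (SetLike.coe_subset_coe.mpr hTTa) hc
    have hl' : SChain P (T : Set G) l := hl.mono P (SetLike.coe_subset_coe.mpr hTTa)
    have hw : (c * sprod l)⁻¹ = y * b := by
      have : c * sprod l = b⁻¹ * y⁻¹ := by rw [hbeq]; group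
      rw [this]; group
    have hT₁ : cj y V ∈ tameFamily P := tame_cj P hy hV
    have hV' : cj y V = cj (c * sprod l)⁻¹ T := by rw [hw, ← cj_mul, hbV]
    have hcjs : cjs (c * sprod l) (T : Set G) = ((cj y V : Subgroup G) : Set G) := by
      rw [cjs_coe, hV']
    have hcardV : Nat.card ↥(cj y V) = Nat.card T := by rw [card_cj, ← hbV, card_cj]
    have hT₁ne : cj y V ≠ (P : Subgroup G) := by
      intro h
      apply hTeq
      apply Subgroup.eq_of_le_of_card_ge hTP
      rw [← h, hcardV]
    have IH₁ : ∀ T' : Subgroup G, T' ≤ (P : Subgroup G) → Nat.card ↥(cj y V) < Nat.card T' →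
        ∀ g' : G, cj g'⁻¹ T' ≤ (P : Subgroup G) → SR P (T' : Set G) g' := by
      intro T' hT' hlt'
      apply IH T' hT'
      rwa [hcardV] at hlt'
    have hTg₁ : cj ((c * sprod l)⁻¹ * g)⁻¹ (cj y V) ≤ (P : Subgroup G) := by
      rw [hV', cj_mul]
      have : ((c * sprod l)⁻¹ * g)⁻¹ * (c * sprod l)⁻¹ = g⁻¹ := by group
      rw [this]; exact hTg
    have h2 := sr_tame P (cj y V) hT₁ hT₁ne IH₁ ((c * sprod l)⁻¹ * g) hTg₁
    have h3 := SR.of_prefix P hc' hl' (by rw [hcjs]; exact h2)
    have e : c * sprod l * ((c * sprod l)⁻¹ * g) = g := by group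
    rwa [e] at h3

/-- The strong Alperin–Goldschmidt theorem. -/
theorem strong_alperin_goldschmidt (P : Sylow p G) (A : Set G) (hA : A ⊆ (P : Set G)) (g : G)
    (hAg : (fun a => g⁻¹ * a * g) '' A ⊆ (P : Set G)) :
    ∃ (n : ℕ) (H X : Fin n → Subgroup G) (x : Fin n → G) (c y : G),
      c ∈ Subgroup.centralizer A ∧ y ∈ Subgroup.normalizer ((P : Subgroup G) : Set G) ∧
      g = c * (List.ofFn x).prod * y ∧
      ∀ i : Fin n, EssStep P (H i) (X i) (x i) ∧
        (fun a => (((List.ofFn x).take i.val).prod)⁻¹ * a * ((List.ofFn x).take i.val).prod) '' A ⊆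
          (H i : Set G) := by
  have h1 : Subgroup.closure A ≤ (P : Subgroup G) := (Subgroup.closure_le _).mpr hA
  have h2 : cj g⁻¹ (Subgroup.closure A) ≤ (P : Subgroup G) := by
    rw [cj_def, MonoidHom.map_closure, Subgroup.closure_le]
    rintro _ ⟨a, ha, rfl⟩
    apply hAg
    exact ⟨a, ha, by simp⟩
  obtain ⟨c, hc, l, hl, y, hy, hg⟩ := (sr_main P _ _ h1 rfl g h2).mono P Subgroup.subset_closure
  have hofFn : List.ofFn (fun i : Fin l.length => (l.get i).2.2) = l.map (fun t => t.2.2) := by
    apply List.ext_getElem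
    · simp
    · intro i h1 h2
      simp
  refine ⟨l.length, fun i => (l.get i).1, fun i => (l.get i).2.1, fun i => (l.get i).2.2, c, y,
    hc, hy, ?_, ?_⟩
  · rw [hofFn]; exact hg
  · intro i
    rw [hofFn]
    exact hl.get P i.val i.isLt

end

end Cfsg.Agent.Lib.Helper17
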