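import Mathlib
import Cfsg.Agent.Lib.Helper17.Su2MULTIIbOf

/-! helper17: S2153 market "SU2", leaf MULT `mult_IIa` in `_of` form (P1 as a hypothesis). -/

set_option autoImplicit false

namespace Cfsg.Agent.Lib.Helper17.Su2Leaf

open MulAction Pointwise Cfsg.Agent.Lib.Helper11.Su2

variable {F V G : Type*} [Field F] [AddCommGroup V] [Module F V] [Group G] [DistribMulAction G V]
variable (S : Setting F V G)

theorem mult_IIa_of [Finite V] {n : ℕ} (hV : Nat.card V = 4 ^ n) (hn : 6 ≤ n) {x : V} (hx0 : x ≠ 0)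
    (hx : S.h x x = 0) (U : AddSubgroup V) (hxU : ∀ a : F, a • x ∈ U)
    (hUx : ∀ u ∈ U, S.h u x = 0) (hU0 : ∀ u ∈ U, S.h u u = 0) (hcard : 32 ≤ Nat.card U)
    (hP1 : ∀ U' : AddSubgroup V, Nat.card U' * Nat.card (S.perp U') = Nat.card V)
    {w1 : V} (hw1 : w1 ∈ U) (hw1' : S.om • w1 ∉ U) (hperp : ∀ u ∈ U, S.h u w1 = 0) :
    ∃ u0 ∈ U, (∀ a : F, u0 ≠ a • x) ∧ ∃ g : Fin 3 → G, (∀ i, g i • x = x) ∧
      (∀ i, u0 ∈ g i • (U : Set V)) ∧ Function.Injective (fun i => g i • (U : Set V)) := by
  classical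
  have hw1w1 : S.h w1 w1 = 0 := hU0 w1 hw1
  have hw1x : S.h w1 x = 0 := hUx w1 hw1
  have hxw1 : S.h x w1 = 0 := S.h_eq_zero_symm hw1x
  -- multiples of `w1` in `U`
  have hmult : ∀ e : F, e • w1 ∈ U → e = 0 ∨ e = 1 := by
    intro e he
    rcases S.h4 e with h | h | h | h
    · exact Or.inl h
    · exact Or.inr h
    · rw [h] at he; exact absurd he hw1'
    · rw [h, add_smul, one_smul] at he
      exfalso; apply hw1'
      have := U.add_mem he hw1
      rwa [S.vadd_add_cancel_right] at this
  -- the subgroups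
  let A : AddSubgroup V :=
    { carrier := {a | S.h a x = 0 ∧ S.h a w1 = 0}
      add_mem' := by
        rintro a b ⟨ha1, ha2⟩ ⟨hb1, hb2⟩
        exact ⟨by rw [S.h_add_left, ha1, hb1, add_zero], by rw [S.h_add_left, ha2, hb2, add_zero]⟩
      zero_mem' := ⟨S.h_zero_left _, S.h_zero_left _⟩
      neg_mem' := by
        rintro a ha
        rw [S.vneg]; exact ha }
  let U2 : AddSubgroup V :=
    { carrier := {v | v ∈ U ∨ v + S.om • w1 ∈ U}
      add_mem' := by
        rintro a b (ha | ha) (hb | hb)
        · exact Or.inl (U.add_mem ha hb)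
        · right
          have := U.add_mem ha hb
          rwa [← add_assoc] at this
        · right
          have := U.add_mem ha hb
          have h2 : a + S.om • w1 + b = a + b + S.om • w1 := by abel
          rwa [h2] at this
        · left
          have := U.add_mem ha hb
          have h2 : a + S.om • w1 + (b + S.om • w1) = a + b + (S.om • w1 + S.om • w1) := by abel
          rwa [h2, S.vadd_self, add_zero] at this
      zero_mem' := Or.inl U.zero_mem
      neg_mem' := by
        rintro a ha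
        rw [S.vneg]; exact ha }
  have hU2card : 2 * Nat.card U ≤ Nat.card U2 := by
    let f : U × Bool → U2 := fun p =>
      if p.2 then ⟨(p.1 : V) + S.om • w1, Or.inr (by
        rw [S.vadd_add_cancel_right]; exact p.1.2)⟩ else ⟨p.1, Or.inl p.1.2⟩
    have hf : Function.Injective f := by
      rintro ⟨u, b⟩ ⟨u', b'⟩ h
      cases b <;> cases b'
      · simp only [f, Bool.false_eq_true, if_false, Subtype.mk.injEq] at h
        exact Prod.ext (Subtype.ext h) rfl
      · exfalso
        simp only [f, Bool.false_eq_true, if_false, if_true, Subtype.mk.injEq] at h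
        apply hw1'
        have h3 : S.om • w1 = (u : V) + u' := by
          rw [h, add_comm, ← add_assoc, S.vadd_self, zero_add]
        rw [h3]; exact U.add_mem u.2 u'.2
      · exfalso
        simp only [f, Bool.false_eq_true, if_false, if_true, Subtype.mk.injEq] at h
        apply hw1'
        have h3 : S.om • w1 = (u : V) + u' := by
          rw [← h, ← add_assoc, S.vadd_self, zero_add]
        rw [h3]; exact U.add_mem u.2 u'.2
      · simp only [f, if_true, Subtype.mk.injEq] at h
        exact Prod.ext (Subtype.ext (add_right_cancel h)) rfl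
    have := Nat.card_le_card_of_injective f hf
    rwa [Nat.card_prod, Nat.card_eq_fintype_card (α := Bool), Fintype.card_bool, mul_comm] at this
  let B : AddSubgroup V := S.perp U2
  have hA16 : Nat.card V ≤ 16 * Nat.card A := card_perp_two_ge S x w1
  have hlt : 2 * Nat.card B < Nat.card A := by
    have h1 := hP1 U2
    have hBpos : 0 < Nat.card B := Nat.card_pos
    have h2 : 64 * Nat.card B ≤ Nat.card V := by
      rw [← h1]
      exact Nat.mul_le_mul_right _ (by omega)
    omega
  obtain ⟨a1, ha1, a2, ha2, ha1B, ha2B, ha12B⟩ := exists_two_not_mem A B hlt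
  obtain ⟨c1, hc1⟩ := S.exists_tr_eq (S.h_self_mem a1)
  obtain ⟨c2, hc2⟩ := S.exists_tr_eq (S.h_self_mem a2)
  have hc0 : (0 : F) + 0 * 0 = S.h (0 : V) 0 := by rw [S.h_zero_left]; ring
  -- the key lemma
  have key : ∀ (a a' : V) (c c' : F), S.h a w1 = 0 → S.h a' w1 = 0 → c + c * c = S.h a a →
      c' + c' * c' = S.h a' a' →
      S.gq w1 a c • (U : Set V) = S.gq w1 a' c' • (U : Set V) → a + a' ∈ B := by
    intro a a' c c' ha ha' hc hc' heq
    have hU : ∀ u ∈ U, S.h u (a + a') = 0 ∨ S.h u (a + a') = 1 := by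
      intro u hu
      have hmem : S.gq w1 a c • u ∈ S.gq w1 a' c' • (U : Set V) := by
        rw [← heq]; exact Set.smul_mem_smul_set hu
      obtain ⟨u', hu', hue⟩ := hmem
      have hue' : S.gq w1 a' c' • u' = S.gq w1 a c • u := hue
      rw [gqw_smul_zero S hw1w1 ha hc (hperp u hu),
        gqw_smul_zero S hw1w1 ha' hc' (hperp u' hu')] at hue'
      have h3 : (S.h u a + S.h u' a') • w1 = u + u' := by
        have e1 := S.vadd_self u
        have e2 := S.vadd_self (S.h u' a' • w1)
        linear_combination (norm := module) e2 - hue' - e1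
      have h4 := hmult _ (by rw [h3]; exact U.add_mem hu hu')
      have h5 : u' = u + (S.h u a + S.h u' a') • w1 := by
        rw [h3, S.vadd_add_cancel_left]
      have h6 : S.h u' a' = S.h u a' := by
        rw [h5, S.h_add_left, S.h_smul_left, S.h_eq_zero_symm ha', mul_zero, add_zero]
      rw [S.h_add_right, ← h6]
      exact h4
    intro v hv
    have hw1aa : S.h (S.om • w1) (a + a') = 0 := by
      rw [S.h_smul_left, S.h_add_right, S.h_eq_zero_symm ha, S.h_eq_zero_symm ha']; ring
    rcases hv with hv | hv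
    · exact (S.tr_eq_zero_iff _).mpr (hU v hv)
    · have h7 : S.h v (a + a') = S.h (v + S.om • w1) (a + a') := by
        rw [S.h_add_left, hw1aa, add_zero]
      rw [h7]
      exact (S.tr_eq_zero_iff _).mpr (hU _ hv)
  have hone : (1 : G) = S.gq w1 0 0 := (S.gq_zero hw1w1).symm
  have h01 : (1 : G) • (U : Set V) ≠ S.gq w1 a1 c1 • (U : Set V) := by
    intro heq
    rw [hone] at heq
    have h := key a1 0 c1 0 ha1.2 (S.h_zero_left _) hc1 hc0 heq.symm
    rw [add_zero] at h; exact ha1B h
  have h02 : (1 : G) • (U : Set V) ≠ S.gq w1 a2 c2 • (U : Set V) := by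
    intro heq
    rw [hone] at heq
    have h := key a2 0 c2 0 ha2.2 (S.h_zero_left _) hc2 hc0 heq.symm
    rw [add_zero] at h; exact ha2B h
  have h12 : S.gq w1 a1 c1 • (U : Set V) ≠ S.gq w1 a2 c2 • (U : Set V) := by
    intro heq
    exact ha12B (key a1 a2 c1 c2 ha1.2 ha2.2 hc1 hc2 heq)
  have hfixx : ∀ (a : V) (c : F), a ∈ A → c + c * c = S.h a a → S.gq w1 a c • x = x := by
    intro a c ha hc
    rw [gqw_smul_zero S hw1w1 ha.2 hc hxw1, S.h_eq_zero_symm ha.1, zero_smul, add_zero]
  have hfixw : ∀ (a : V) (c : F), a ∈ A → c + c * c = S.h a a → S.gq w1 a c • w1 = w1 :=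
    fun a c ha hc => S.gq_smul_self hw1w1 ha.2 hc
  refine ⟨w1, hw1, ?_, ![1, S.gq w1 a1 c1, S.gq w1 a2 c2], ?_, ?_, ?_⟩
  · intro a hwa
    apply hw1'
    rw [hwa, smul_smul]
    exact hxU _
  · intro i
    fin_cases i
    · exact one_smul _ _
    · exact hfixx a1 c1 ha1 hc1
    · exact hfixx a2 c2 ha2 hc2
  · intro i
    fin_cases i
    · exact ⟨w1, hw1, one_smul _ _⟩
    · exact ⟨w1, hw1, hfixw a1 c1 ha1 hc1⟩
    · exact ⟨w1, hw1, hfixw a2 c2 ha2 hc2⟩
  · intro i j hij
    fin_cases i <;> fin_cases j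
    · rfl
    · exact absurd hij h01
    · exact absurd hij h02
    · exact absurd hij.symm h01
    · rfl
    · exact absurd hij h12
    · exact absurd hij.symm h02
    · exact absurd hij.symm h12
    · rfl

end Cfsg.Agent.Lib.Helper17.Su2Leaf
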