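import Mathlib
import Cfsg.Agent.Lib.Helper17.Su2MULTIIaOf
import Cfsg.Agent.Lib.Helper24.Su2P1

/-! helper17: S2153 market "SU2", leaf MULT `mult_IIa` (exact signature of notes/S2153_leaves.lean). -/

set_option autoImplicit false

namespace Cfsg.Agent.Lib.Helper17.Su2Leaf

open MulAction Pointwise Cfsg.Agent.Lib.Helper11.Su2

variable {F V G : Type*} [Field F] [AddCommGroup V] [Module F V] [Group G] [DistribMulAction G V]
variable (S : Setting F V G)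

theorem mult_IIa [Finite V] {n : ℕ} (hV : Nat.card V = 4 ^ n) (hn : 6 ≤ n) {x : V} (hx0 : x ≠ 0)
    (hx : S.h x x = 0) (U : AddSubgroup V) (hxU : ∀ a : F, a • x ∈ U)
    (hUx : ∀ u ∈ U, S.h u x = 0) (hU0 : ∀ u ∈ U, S.h u u = 0) (hcard : 32 ≤ Nat.card U)
    {w1 : V} (hw1 : w1 ∈ U) (hw1' : S.om • w1 ∉ U) (hperp : ∀ u ∈ U, S.h u w1 = 0) :
    ∃ u0 ∈ U, (∀ a : F, u0 ≠ a • x) ∧ ∃ g : Fin 3 → G, (∀ i, g i • x = x) ∧
      (∀ i, u0 ∈ g i • (U : Set V)) ∧ Function.Injective (fun i => g i • (U : Set V)) :=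
  mult_IIa_of S hV hn hx0 hx U hxU hUx hU0 hcard
    (fun U' => Cfsg.Agent.Lib.Helper24.Su2Leaf.card_mul_card_perp S U') hw1 hw1' hperp

end Cfsg.Agent.Lib.Helper17.Su2Leaf
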