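import Mathlib
import Cfsg.Agent.Lib.Helper5.TWU.Defs
import Cfsg.Agent.Lib.Helper8.TW.Defs
import Cfsg.Agent.Lib.Helper22.TWExtBasic
import Cfsg.Agent.Lib.Helper22.TWExtMore
import Cfsg.Agent.Lib.Helper14.TWIIDefs
import Cfsg.Agent.Lib.Helper14.TWUIIDefs
import Cfsg.Agent.Lib.Helper19.TWU3Tool

/-!
# S5672 (C7 unitary) — STAGE II (sub-planner helper14): leaf E1 `nilU_erase` (helper17)
-/

set_option autoImplicit false
set_option linter.unusedSectionVars false
set_option linter.unusedVariables false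

namespace Cfsg.Agent.Lib.Helper17.TWUIILeaf
open Matrix Cfsg.Geo Cfsg.Agent.Lib.Helper18.AschA89 Cfsg.Agent.Lib.Helper8.TW Cfsg.Agent.Lib.Helper5.TWU
  Cfsg.Agent.Lib.Helper14.TWII Cfsg.Agent.Lib.Helper14.TWUII
open Cfsg.Agent.Lib.Helper20.UT (hv)
open Cfsg.Agent.Lib.Helper23.TWUQ (NSp)

variable {F : Type*} [Field F] [Fintype F] {t k q : ℕ}

/-- **E1** -/
theorem nilU_erase (i : Fin (t + 1)) (y : Fin (t + 1) → Fin k → F) :
    nilU q (Finset.univ.erase i) y =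
      ext i (Matrix.vecMulVec (pt fun j => y (i.succAbove j)) (dag q (pt fun j => y (i.succAbove j)))) := by
  classical
  have e1 : Matrix.vecMulVec (pt fun j => y (i.succAbove j)) (dag q (pt fun j => y (i.succAbove j))) =
      Cfsg.Agent.Lib.Helper19.TWU3.vv q (pt fun j => y (i.succAbove j)) (pt fun j => y (i.succAbove j)) := rfl
  rw [e1, Cfsg.Agent.Lib.Helper19.TWU3Leaf.vv_pt, Cfsg.Agent.Lib.Helper22.TWLeaf.ext_ptens,
    Cfsg.Agent.Lib.Helper19.TWU3Leaf.nilU_eq_ptens]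
  congr 1
  funext j
  rcases Fin.eq_self_or_eq_succAbove i j with rfl | ⟨j', rfl⟩
  · rw [Fin.insertNth_apply_same]
    simp [Cfsg.Agent.Lib.Helper19.TWU3.famU]
  · rw [Fin.insertNth_apply_succAbove]
    simp [Cfsg.Agent.Lib.Helper19.TWU3.famU, Fin.succAbove_ne]

end Cfsg.Agent.Lib.Helper17.TWUIILeaf
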