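import Mathlib
import Cfsg.Agent.Lib.Helper29.RegLin
import Cfsg.Agent.Lib.Helper17.RegLinField
import Cfsg.Agent.Lib.Helper17.RegLinSemi

/-!
helper17: linear groups `H` over the prime field that are *transitive* on the nonzero vectors
(no regularity): orbit spans of a normal subgroup form a spread; the enveloping algebra of a
reducible normal subgroup acts freely, hence is a field (Wedderburn) and the subgroup is abelian;
an irreducible abelian normal subgroup gives a semilinear structure.
-/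

set_option autoImplicit false
set_option linter.style.haveILetI false

namespace Cfsg.Agent.Lib.Helper17.TransLin

open Cfsg.Agent.Lib.Helper29.RegLin Cfsg.Agent.Lib.Helper17.RegLinField
  Cfsg.Agent.Lib.Helper17.RegLinSemi
open scoped IsMulCommutative

variable {p : ℕ} [Fact p.Prime] {V : Type*} [AddCommGroup V] [Module (ZMod p) V]
variable {H : Subgroup (V ≃ₗ[ZMod p] V)}

section tr

variable (htr : ∀ v w : V, v ≠ 0 → w ≠ 0 → ∃ h : H, h • v = w)
include htr

theorem card_Wv_eq (N : Subgroup H) [N.Normal] {v w : V} (hv : v ≠ 0) (hw : w ≠ 0) :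
    Nat.card ↥(Wv N w) = Nat.card ↥(Wv N v) := by
  obtain ⟨h, hh⟩ := htr v w hv hw
  rw [← hh, ← map_Wv, card_map_eq]

variable [Finite V]

theorem Wv_eq_of_mem (N : Subgroup H) [N.Normal] {u v : V} (hv : v ≠ 0) (hu : u ≠ 0)
    (huv : u ∈ Wv N v) : Wv N u = Wv N v :=
  submodule_eq_of_le_of_card_ge (Wv_le N (fun a _ hx => Wv_invariant N v a hx) huv)
    (card_Wv_eq htr N hu hv).le

theorem Wv_disjoint (N : Subgroup H) [N.Normal] {v w : V} (hv : v ≠ 0) (hw : w ∉ Wv N v)
    {x : V} (hxv : x ∈ Wv N v) (hxw : x ∈ Wv N w) : x = 0 := by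
  by_contra hx
  have hw0 : w ≠ 0 := by
    rintro rfl
    exact hw (zero_mem _)
  have h1 := Wv_eq_of_mem htr N hv hx hxv
  have h2 := Wv_eq_of_mem htr N hw0 hx hxw
  apply hw
  rw [← h1, h2]
  exact mem_Wv_self N w

theorem card_sq_le (N : Subgroup H) [N.Normal] {v w : V} (hv : v ≠ 0) (hw : w ∉ Wv N v) :
    Nat.card ↥(Wv N v) * Nat.card ↥(Wv N v) ≤ Nat.card V := by
  have hw0 : w ≠ 0 := by
    rintro rfl
    exact hw (zero_mem _)
  have hc := card_Wv_eq htr N hv hw0
  calc Nat.card ↥(Wv N v) * Nat.card ↥(Wv N v)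
      = Nat.card (↥(Wv N v) × ↥(Wv N w)) := by rw [Nat.card_prod, hc]
    _ ≤ Nat.card V := by
      apply Nat.card_le_card_of_injective (fun x : ↥(Wv N v) × ↥(Wv N w) => (x.1 : V) + (x.2 : V))
      rintro ⟨⟨x, hx⟩, ⟨y, hy⟩⟩ ⟨⟨x', hx'⟩, ⟨y', hy'⟩⟩ hxy
      simp only at hxy
      have h1 : x - x' = y' - y := by
        rw [sub_eq_sub_iff_add_eq_add, hxy]; abel
      have h2 : x - x' = 0 :=
        Wv_disjoint htr N hv hw (sub_mem hx hx') (h1 ▸ sub_mem hy' hy)
      have h3 : y' - y = 0 := by rw [← h1, h2]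
      rw [sub_eq_zero] at h2 h3
      subst h2; subst h3; rfl

/-- if `x ∈ F_p[N]` kills `u ≠ 0`, it kills everything outside the orbit span of `u` -/
theorem apply_eq_zero_of_notMem (N : Subgroup H) [N.Normal] {x : Module.End (ZMod p) V}
    (hx : x ∈ algA N) {u : V} (hu : u ≠ 0) (hxu : x u = 0) {w : V} (hw : w ∉ Wv N u) : x w = 0 := by
  by_contra hxw
  have hw0 : w ≠ 0 := by
    rintro rfl
    exact hw (zero_mem _)
  have ht0 : u + w ≠ 0 := by
    intro h
    apply hw
    have : w = -u := by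
      rw [eq_neg_iff_add_eq_zero, add_comm]; exact h
    rw [this]
    exact neg_mem (mem_Wv_self N u)
  have hxt : x (u + w) = x w := by rw [map_add, hxu, zero_add]
  have h1 : Wv N (x w) = Wv N w := Wv_eq_of_mem htr N hw0 hxw (apply_mem_Wv N hx w)
  have h2 : Wv N (x w) = Wv N (u + w) :=
    Wv_eq_of_mem htr N ht0 hxw (hxt ▸ apply_mem_Wv N hx (u + w))
  have h3 : u + w ∈ Wv N w := by
    rw [← h1, h2]
    exact mem_Wv_self N _
  have h4 : u ∈ Wv N w := by
    have := sub_mem h3 (mem_Wv_self N w)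
    rwa [add_sub_cancel_right] at this
  have h5 : Wv N u = Wv N w := Wv_eq_of_mem htr N hw0 hu h4
  apply hw
  rw [h5]
  exact mem_Wv_self N w

/-- for a reducible normal subgroup, `F_p[N]` acts freely -/
theorem eq_zero_of_apply_eq_zero_of_reducible (N : Subgroup H) [N.Normal] {v w : V} (hv : v ≠ 0)
    (hw : w ∉ Wv N v) {x : Module.End (ZMod p) V} (hx : x ∈ algA N) {u : V} (hu : u ≠ 0)
    (hxu : x u = 0) : x = 0 := by
  obtain ⟨w', hw'⟩ : ∃ w' : V, w' ∉ Wv N u := by
    by_contra hcon
    push Not at hcon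
    have htop : Wv N u = ⊤ := eq_top_iff.mpr fun y _ => hcon y
    have hc := card_Wv_eq htr N hu hv
    have hvtop : Wv N v = ⊤ := by
      apply submodule_eq_of_le_of_card_ge le_top
      rw [hc, htop]
    apply hw
    rw [hvtop]
    trivial
  have hw'0 : w' ≠ 0 := by
    rintro rfl
    exact hw' (zero_mem _)
  have hxw' : x w' = 0 := apply_eq_zero_of_notMem htr N hx hu hxu hw'
  apply LinearMap.ext
  intro y
  rw [LinearMap.zero_apply]
  by_cases hy : y ∈ Wv N u
  · by_cases hy0 : y = 0
    · rw [hy0, map_zero]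
    · apply apply_eq_zero_of_notMem htr N hx hw'0 hxw'
      intro hy'
      exact hy0 (Wv_disjoint htr N hu hw' hy hy')
  · exact apply_eq_zero_of_notMem htr N hx hu hxu hy

/-- for a reducible normal subgroup, `F_p[N]` is a domain -/
theorem noZeroDivisors_of_reducible (N : Subgroup H) [N.Normal] {v w : V} (hv : v ≠ 0)
    (hw : w ∉ Wv N v) : NoZeroDivisors (algA N) := by
  refine ⟨fun {x y} hxy => ?_⟩
  by_cases hy : y = 0
  · exact Or.inr hy
  left
  have hyv : (y : Module.End (ZMod p) V) v ≠ 0 := by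
    intro h
    apply hy
    apply Subtype.ext
    exact eq_zero_of_apply_eq_zero_of_reducible htr N hv hw y.2 hv h
  have h1 : ((x * y : algA N) : Module.End (ZMod p) V) = 0 := by rw [hxy]; rfl
  have h2 : (x : Module.End (ZMod p) V) ((y : Module.End (ZMod p) V) v) = 0 := by
    have := congrArg (fun f : Module.End (ZMod p) V => f v) h1
    simpa using this
  apply Subtype.ext
  exact eq_zero_of_apply_eq_zero_of_reducible htr N hv hw x.2 hyv h2

/-- a reducible normal subgroup is abelian -/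
theorem comm_of_reducible (N : Subgroup H) [N.Normal] {v w : V} (hv : v ≠ 0)
    (hw : w ∉ Wv N v) : ∀ a ∈ N, ∀ b ∈ N, a * b = b * a := by
  haveI : Finite (Module.End (ZMod p) V) :=
    Finite.of_injective (fun f => (f : V → V)) DFunLike.coe_injective
  haveI : NoZeroDivisors (algA N) := noZeroDivisors_of_reducible htr N hv hw
  haveI := nontrivial_algA N hv
  haveI : IsDomain (algA N) := NoZeroDivisors.to_isDomain _
  have hfield : IsField (algA N) := Finite.isDomain_to_isField _
  intro a ha b hb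
  have h1 := hfield.mul_comm ⟨toEnd H a, toEnd_mem_algA N ⟨a, ha⟩⟩ ⟨toEnd H b, toEnd_mem_algA N ⟨b, hb⟩⟩
  have h2 : toEnd H a * toEnd H b = toEnd H b * toEnd H a := congrArg Subtype.val h1
  rw [← map_mul, ← map_mul] at h2
  exact toEnd_injective h2

/-- faithfulness of `F_p[A]` on every nonzero vector, `A` abelian normal -/
theorem eq_zero_of_apply_eq_zero (A : Subgroup H) [A.Normal] (hAc : ∀ a b : A, a * b = b * a)
    {x : Module.End (ZMod p) V} (hx : x ∈ algA A) {v : V} (hv : v ≠ 0) (hxv : x v = 0) :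
    x = 0 := by
  have hW : ∀ u ∈ Wv A v, x u = 0 := by
    intro u hu
    unfold Wv at hu
    induction hu using Submodule.span_induction with
    | mem u hu =>
      obtain ⟨a, rfl⟩ := hu
      show x (a • v) = 0
      rw [apply_smul A hAc hx, hxv, smul_zero]
    | zero => exact map_zero x
    | add y z _ _ hy hz => rw [map_add, hy, hz, add_zero]
    | smul c y _ hy => rw [map_smul, hy, smul_zero]
  apply LinearMap.ext
  intro w
  rw [LinearMap.zero_apply]
  by_cases hw : w ∈ Wv A v
  · exact hW w hw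
  · exact apply_eq_zero_of_notMem htr A hx hv hxv hw

theorem noZeroDivisors_algA (A : Subgroup H) [A.Normal] (hAc : ∀ a b : A, a * b = b * a)
    {v : V} (hv : v ≠ 0) : NoZeroDivisors (algA A) := by
  refine ⟨fun {x y} hxy => ?_⟩
  by_cases hy : y = 0
  · exact Or.inr hy
  left
  have hyv : (y : Module.End (ZMod p) V) v ≠ 0 := by
    intro h
    apply hy
    apply Subtype.ext
    exact eq_zero_of_apply_eq_zero htr A hAc y.2 hv h
  have h1 : ((x * y : algA A) : Module.End (ZMod p) V) = 0 := by rw [hxy]; rfl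
  have h2 : (x : Module.End (ZMod p) V) ((y : Module.End (ZMod p) V) v) = 0 := by
    have := congrArg (fun f : Module.End (ZMod p) V => f v) h1
    simpa using this
  apply Subtype.ext
  exact eq_zero_of_apply_eq_zero htr A hAc x.2 hyv h2

theorem evalV_injective (A : Subgroup H) [A.Normal] (hAc : ∀ a b : A, a * b = b * a)
    {v : V} (hv : v ≠ 0) : Function.Injective (evalV A v) := by
  rw [← LinearMap.ker_eq_bot, LinearMap.ker_eq_bot']
  intro x hx
  apply Subtype.ext
  exact eq_zero_of_apply_eq_zero htr A hAc x.2 hv hx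

omit htr [Finite V] in
theorem range_evalV (A : Subgroup H) (v : V) : LinearMap.range (evalV A v) = Wv A v := by
  apply le_antisymm
  · rintro _ ⟨x, rfl⟩
    exact apply_mem_Wv A x.2 v
  · apply Submodule.span_le.2
    rintro _ ⟨a, rfl⟩
    exact ⟨⟨toEnd H a, toEnd_mem_algA A a⟩, rfl⟩

/-- the orbit span of `v` has as many elements as `F_p[A]` -/
theorem card_Wv_eq_card_algA (A : Subgroup H) [A.Normal] (hAc : ∀ a b : A, a * b = b * a)
    {v : V} (hv : v ≠ 0) : Nat.card ↥(Wv A v) = Nat.card ↥(algA A) := by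
  rw [← range_evalV A v]
  exact (Nat.card_congr (LinearEquiv.ofInjective (evalV A v) (evalV_injective htr A hAc hv)).toEquiv).symm

/-- **Semilinear structure** (transitive version): if the abelian normal subgroup `A` is
irreducible (the orbit span of `v₀` is everything), `V` is identified with a field on which `H`
acts by `x ↦ a * σ x`. -/
theorem exists_semilinear
    (A : Subgroup H) [A.Normal] (hAc : ∀ a b : A, a * b = b * a) {v₀ : V} (hv₀ : v₀ ≠ 0)
    (htop : Wv A v₀ = ⊤) :
    ∃ (F : Type) (_ : Field F) (_ : Fintype F) (e : V ≃+ F), e v₀ = 1 ∧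
      ∀ h : H, ∃ (a : F) (σ : F ≃+* F), ∀ v : V, e (h • v) = a * σ (e v) := by
  haveI : Finite (Module.End (ZMod p) V) :=
    Finite.of_injective (fun f => (f : V → V)) DFunLike.coe_injective
  haveI := isMulCommutative_algA A hAc
  haveI := noZeroDivisors_algA htr A hAc hv₀
  haveI := nontrivial_algA A hv₀
  haveI : IsDomain (algA A) := NoZeroDivisors.to_isDomain _
  obtain ⟨F, iF, iFt, ⟨ψ⟩⟩ := exists_field_model (R := algA A)
  have hinj : Function.Injective (evalV A v₀) := evalV_injective htr A hAc hv₀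
  have hsurj : Function.Surjective (evalV A v₀) := by
    intro v
    have : v ∈ LinearMap.range (evalV A v₀) := by rw [range_evalV, htop]; trivial
    exact this
  obtain ⟨E, hE⟩ : ∃ E : algA A ≃ₗ[ZMod p] V, ∀ x, E x = evalV A v₀ x :=
    ⟨LinearEquiv.ofBijective (evalV A v₀) ⟨hinj, hsurj⟩, fun x => rfl⟩
  obtain ⟨e, he⟩ : ∃ e : V ≃+ F, ∀ v, e v = ψ (E.symm v) :=
    ⟨E.symm.toAddEquiv.trans ψ.toAddEquiv, fun v => rfl⟩
  refine ⟨F, iF, iFt, e, ?_, ?_⟩
  · rw [he]
    have : E.symm v₀ = 1 := by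
      rw [LinearEquiv.symm_apply_eq, hE, evalV_apply]
      rfl
    rw [this, map_one]
  · intro h
    obtain ⟨aR, haR⟩ : ∃ aR : algA A, aR = E.symm (h • v₀) := ⟨_, rfl⟩
    refine ⟨ψ aR, ψ.symm.trans ((conjRingEquiv A h).trans ψ), ?_⟩
    intro v
    rw [he, he]
    show ψ (E.symm (h • v)) = ψ aR * ψ (conjRingEquiv A h (ψ.symm (ψ (E.symm v))))
    rw [RingEquiv.symm_apply_apply, ← map_mul]
    congr 1
    rw [LinearEquiv.symm_apply_eq, hE, evalV_apply]
    obtain ⟨x, hx⟩ : ∃ x : algA A, x = E.symm v := ⟨_, rfl⟩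
    rw [← hx]
    have hv : v = (x : Module.End (ZMod p) V) v₀ := by
      rw [← evalV_apply, ← hE, hx, LinearEquiv.apply_symm_apply]
    have haR' : (aR : Module.End (ZMod p) V) v₀ = h • v₀ := by
      rw [← evalV_apply, ← hE, haR, LinearEquiv.apply_symm_apply]
    have hcomm : aR * conjRingEquiv A h x = conjRingEquiv A h x * aR := mul_comm _ _
    rw [hcomm]
    show h • v = ((conjRingEquiv A h x : algA A) : Module.End (ZMod p) V)
      ((aR : Module.End (ZMod p) V) v₀)
    rw [haR', conjRingEquiv_coe, hv]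
    show toEnd H h ((x : Module.End (ZMod p) V) v₀) =
      toEnd H h ((x : Module.End (ZMod p) V) (toEnd H h⁻¹ (toEnd H h v₀)))
    have : toEnd H h⁻¹ (toEnd H h v₀) = v₀ := by
      rw [← Module.End.mul_apply, ← map_mul, inv_mul_cancel, map_one]
      rfl
    rw [this]

end tr

end Cfsg.Agent.Lib.Helper17.TransLin
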