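import Mathlib
import Cfsg.Agent.Lib.Helper17.TransLinA

/-!
helper17: for `H ≤ GL(V)` transitive on nonzero vectors and `A` an abelian normal subgroup,
`K = F_p[A]` is a field of order `p^d`; `A` is cyclic of order dividing `p^d - 1` and
`|H : C_H(A)|` divides `d` (Galois group of a finite field).
-/

set_option autoImplicit false
set_option linter.style.haveILetI false

namespace Cfsg.Agent.Lib.Helper17.TransLin

open Cfsg.Agent.Lib.Helper29.RegLin Cfsg.Agent.Lib.Helper17.RegLinField
  Cfsg.Agent.Lib.Helper17.RegLinSemi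
open scoped IsMulCommutative

variable {p : ℕ} [Fact p.Prime] {V : Type*} [AddCommGroup V] [Module (ZMod p) V]
variable {H : Subgroup (V ≃ₗ[ZMod p] V)}

theorem conjRingEquiv_one (A : Subgroup H) [A.Normal] (x : algA A) :
    conjRingEquiv A (1 : H) x = x := by
  apply Subtype.ext
  rw [conjRingEquiv_coe, inv_one, map_one, one_mul, mul_one]

theorem conjRingEquiv_mul (A : Subgroup H) [A.Normal] (h h' : H) (x : algA A) :
    conjRingEquiv A (h * h') x = conjRingEquiv A h (conjRingEquiv A h' x) := by
  apply Subtype.ext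
  rw [conjRingEquiv_coe, conjRingEquiv_coe, conjRingEquiv_coe, mul_inv_rev, map_mul, map_mul]
  simp only [mul_assoc]

theorem conjRingEquiv_algebraMap (A : Subgroup H) [A.Normal] (h : H) (c : ZMod p) :
    conjRingEquiv A h (algebraMap (ZMod p) (algA A) c) = algebraMap (ZMod p) (algA A) c := by
  apply Subtype.ext
  rw [conjRingEquiv_coe]
  have h1 : ((algebraMap (ZMod p) (algA A) c : algA A) : Module.End (ZMod p) V) =
      algebraMap (ZMod p) (Module.End (ZMod p) V) c := rfl
  rw [h1, ← Algebra.commutes, mul_assoc, ← map_mul, mul_inv_cancel, map_one, mul_one]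

/-- elements of `C_H(A)` commute with `F_p[A]` -/
theorem commute_algA_of_mem_centralizer (A : Subgroup H) {h : H}
    (hh : h ∈ Subgroup.centralizer (A : Set H)) {x : Module.End (ZMod p) V} (hx : x ∈ algA A) :
    toEnd H h * x = x * toEnd H h := by
  unfold algA at hx
  induction hx using Algebra.adjoin_induction with
  | mem x hx =>
    obtain ⟨a, rfl⟩ := hx
    rw [← map_mul, ← map_mul]
    congr 1
    exact ((Subgroup.mem_centralizer_iff.mp hh) a a.2).symm
  | algebraMap r => exact (Algebra.commutes r _).symm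
  | add y z _ _ hy hz => rw [mul_add, add_mul, hy, hz]
  | mul y z _ _ hy hz => rw [← mul_assoc, hy, mul_assoc, hz, mul_assoc]

theorem conjRingEquiv_eq_self_iff (A : Subgroup H) [A.Normal] (h : H) :
    (∀ x : algA A, conjRingEquiv A h x = x) ↔ h ∈ Subgroup.centralizer (A : Set H) := by
  constructor
  · intro hx
    rw [Subgroup.mem_centralizer_iff]
    intro a ha
    have h1 := congrArg Subtype.val (hx ⟨toEnd H a, toEnd_mem_algA A ⟨a, ha⟩⟩)
    rw [conjRingEquiv_coe] at h1
    have h2 : toEnd H (h * a * h⁻¹) = toEnd H a := by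
      rw [map_mul, map_mul]; exact h1
    have h3 := toEnd_injective h2
    calc a * h = (h * a * h⁻¹) * h := by rw [h3]
      _ = h * a := by group
  · intro hh x
    apply Subtype.ext
    rw [conjRingEquiv_coe, commute_algA_of_mem_centralizer A hh x.2, mul_assoc, ← map_mul,
      mul_inv_cancel, map_one, mul_one]

section tr

variable (htr : ∀ v w : V, v ≠ 0 → w ≠ 0 → ∃ h : H, h • v = w) [Finite V]
include htr

/-- the field `F_p[A]`, transported to `Type` -/
theorem exists_model (A : Subgroup H) [A.Normal] (hAc : ∀ a b : A, a * b = b * a) {v₀ : V}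
    (hv₀ : v₀ ≠ 0) : ∃ (F : Type) (_ : Field F) (_ : Fintype F), Nonempty (algA A ≃+* F) := by
  haveI : Finite (Module.End (ZMod p) V) :=
    Finite.of_injective (fun f => (f : V → V)) DFunLike.coe_injective
  haveI := isMulCommutative_algA A hAc
  haveI := noZeroDivisors_algA htr A hAc hv₀
  haveI := nontrivial_algA A hv₀
  haveI : IsDomain (algA A) := NoZeroDivisors.to_isDomain _
  exact exists_field_model (R := algA A)

/-- arithmetic facts about an abelian normal subgroup -/
theorem field_facts (A : Subgroup H) [A.Normal] (hAc : ∀ a b : A, a * b = b * a) {v₀ : V}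
    (hv₀ : v₀ ≠ 0) :
    ∃ d : ℕ, 1 ≤ d ∧ Nat.card (algA A) = p ^ d ∧
      (Subgroup.centralizer (A : Set H)).index ∣ d ∧ Nat.card A ∣ p ^ d - 1 ∧ IsCyclic A := by
  haveI : Finite (V ≃ₗ[ZMod p] V) := Finite.of_injective (fun f => (f : V → V)) DFunLike.coe_injective
  haveI : Finite (Module.End (ZMod p) V) :=
    Finite.of_injective (fun f => (f : V → V)) DFunLike.coe_injective
  obtain ⟨F, iF, iFt, ⟨ψ⟩⟩ := exists_model htr A hAc hv₀
  letI : Algebra (ZMod p) F :=
    RingHom.toAlgebra ((ψ : algA A →+* F).comp (algebraMap (ZMod p) (algA A)))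
  have halg : ∀ c : ZMod p, algebraMap (ZMod p) F c = ψ (algebraMap (ZMod p) (algA A) c) :=
    fun c => rfl
  haveI : Module.Finite (ZMod p) F := Module.Finite.of_finite
  have hcardF : Nat.card F = p ^ Module.finrank (ZMod p) F := by
    rw [Module.natCard_eq_pow_finrank (K := ZMod p), Nat.card_zmod]
  have hd : 1 ≤ Module.finrank (ZMod p) F := Module.finrank_pos
  -- the embedding of `A` in `F`
  let fA : A →* F :=
    { toFun := fun a => ψ ⟨toEnd H a, toEnd_mem_algA A a⟩
      map_one' := by
        have : (⟨toEnd H ((1 : A) : H), toEnd_mem_algA A 1⟩ : algA A) = 1 := by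
          apply Subtype.ext
          simp
        rw [this, map_one]
      map_mul' := fun a b => by
        have : (⟨toEnd H ((a * b : A) : H), toEnd_mem_algA A (a * b)⟩ : algA A) =
            ⟨toEnd H a, toEnd_mem_algA A a⟩ * ⟨toEnd H b, toEnd_mem_algA A b⟩ := by
          apply Subtype.ext
          simp
        rw [this, map_mul] }
  have hfA : Function.Injective fA := by
    intro a b hab
    have h1 : (⟨toEnd H a, toEnd_mem_algA A a⟩ : algA A) = ⟨toEnd H b, toEnd_mem_algA A b⟩ :=
      ψ.injective hab
    exact Subtype.ext (toEnd_injective (congrArg Subtype.val h1))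
  have hcyc : IsCyclic A := isCyclic_of_injective_ringHom fA hfA
  have hdvd : Nat.card A ∣ p ^ Module.finrank (ZMod p) F - 1 := by
    rw [← hcardF, ← Nat.card_units]
    refine Subgroup.card_dvd_of_injective fA.toHomUnits ?_
    intro a b hab
    apply hfA
    have := congrArg Units.val hab
    simpa using this
  -- the Galois action
  let σ : H → (F ≃ₐ[ZMod p] F) := fun h =>
    AlgEquiv.ofRingEquiv (f := ψ.symm.trans ((conjRingEquiv A h).trans ψ)) (by
      intro c
      rw [halg]
      show ψ (conjRingEquiv A h (ψ.symm (ψ (algebraMap (ZMod p) (algA A) c)))) = _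
      rw [RingEquiv.symm_apply_apply, conjRingEquiv_algebraMap])
  have hσ : ∀ (h : H) (y : F), σ h y = ψ (conjRingEquiv A h (ψ.symm y)) := fun h y => rfl
  let Φ : H →* (F ≃ₐ[ZMod p] F) :=
    { toFun := σ
      map_one' := by
        apply AlgEquiv.ext
        intro y
        rw [hσ, conjRingEquiv_one, RingEquiv.apply_symm_apply]
        rfl
      map_mul' := fun h h' => by
        apply AlgEquiv.ext
        intro y
        rw [AlgEquiv.mul_apply, hσ, hσ, hσ, conjRingEquiv_mul, RingEquiv.symm_apply_apply] }
  have hker : Φ.ker = Subgroup.centralizer (A : Set H) := by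
    ext h
    rw [MonoidHom.mem_ker, ← conjRingEquiv_eq_self_iff]
    constructor
    · intro hh x
      have h1 := congrArg (fun τ : F ≃ₐ[ZMod p] F => τ (ψ x)) hh
      have h2 : σ h (ψ x) = ψ x := h1
      rw [hσ, RingEquiv.symm_apply_apply] at h2
      exact ψ.injective h2
    · intro hh
      apply AlgEquiv.ext
      intro y
      show σ h y = y
      rw [hσ, hh, RingEquiv.apply_symm_apply]
  refine ⟨Module.finrank (ZMod p) F, hd, ?_, ?_, hdvd, hcyc⟩
  · rw [← hcardF]
    exact Nat.card_congr ψ.toEquiv
  · rw [← hker, Subgroup.index_ker, ← IsGalois.card_aut_eq_finrank (ZMod p) F]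
    exact Subgroup.card_subgroup_dvd_card _

end tr

end Cfsg.Agent.Lib.Helper17.TransLin
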