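import Mathlib
import Cfsg.Agent.Lib.Helper17.TransLinB
import Cfsg.Agent.Lib.Helper17.DedekindVec
import Cfsg.Agent.Lib.Helper17.Class2Aut

/-!
helper17: dimension bound.  `H ≤ GL(V)` transitive on nonzero vectors, `A` abelian normal,
`K = F_p[A]`, `|V| = |K|^m`.  If `A ≤ N ≤ C_H(A)` with `[N,N] ≤ A` and `Z(N) ≤ A`, then
`|N : A| ≤ m^2` (coset representatives of `A` in `N` are `K`-linearly independent in `End_K(V)`,
by Dedekind's independence of characters).
-/

set_option autoImplicit false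
set_option linter.style.haveILetI false

namespace Cfsg.Agent.Lib.Helper17.TransLin

open Cfsg.Agent.Lib.Helper29.RegLin Cfsg.Agent.Lib.Helper17.RegLinField
  Cfsg.Agent.Lib.Helper17.RegLinSemi
open scoped IsMulCommutative commutatorElement

variable {p : ℕ} [Fact p.Prime] {V : Type*} [AddCommGroup V] [Module (ZMod p) V]
variable {H : Subgroup (V ≃ₗ[ZMod p] V)}

/-- the commutator homomorphism `y ↦ ⁅t, y⁆` from `N` to `A` -/
def commHomN (A N : Subgroup H) (hNC : N ≤ Subgroup.centralizer (A : Set H))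
    (hcomm : ∀ x ∈ N, ∀ y ∈ N, ⁅x, y⁆ ∈ A) (t : H) (ht : t ∈ N) : N →* A where
  toFun y := ⟨⁅t, (y : H)⁆, hcomm t ht y y.2⟩
  map_one' := by
    apply Subtype.ext
    simp [commutatorElement_def]
  map_mul' x y := by
    apply Subtype.ext
    simp only [Subgroup.coe_mul]
    rw [Class2Sq.commElt_mul_right]
    have hz := (Subgroup.mem_centralizer_iff.mp (hNC x.2)) _ (hcomm t ht y y.2)
    rw [← hz, mul_assoc, mul_inv_cancel, mul_one]

theorem commHomN_apply (A N : Subgroup H) (hNC : N ≤ Subgroup.centralizer (A : Set H))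
    (hcomm : ∀ x ∈ N, ∀ y ∈ N, ⁅x, y⁆ ∈ A) (t : H) (ht : t ∈ N) (y : N) :
    ((commHomN A N hNC hcomm t ht y : A) : H) = ⁅t, (y : H)⁆ := rfl

/-- the embedding of `A` into a model of the field `F_p[A]` -/
def lamHom (A : Subgroup H) {F : Type*} [Field F] (ψ : algA A ≃+* F) : A →* F where
  toFun a := ψ ⟨toEnd H a, toEnd_mem_algA A a⟩
  map_one' := by
    have : (⟨toEnd H ((1 : A) : H), toEnd_mem_algA A 1⟩ : algA A) = 1 := by
      apply Subtype.ext
      simp
    rw [this, map_one]
  map_mul' a b := by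
    have : (⟨toEnd H ((a * b : A) : H), toEnd_mem_algA A (a * b)⟩ : algA A) =
        ⟨toEnd H a, toEnd_mem_algA A a⟩ * ⟨toEnd H b, toEnd_mem_algA A b⟩ := by
      apply Subtype.ext
      simp
    rw [this, map_mul]

theorem lamHom_apply (A : Subgroup H) {F : Type*} [Field F] (ψ : algA A ≃+* F) (a : A) :
    lamHom A ψ a = ψ ⟨toEnd H a, toEnd_mem_algA A a⟩ := rfl

theorem lamHom_injective (A : Subgroup H) {F : Type*} [Field F] (ψ : algA A ≃+* F) :
    Function.Injective (lamHom A ψ) := by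
  intro a b hab
  have h1 : (⟨toEnd H a, toEnd_mem_algA A a⟩ : algA A) = ⟨toEnd H b, toEnd_mem_algA A b⟩ :=
    ψ.injective hab
  exact Subtype.ext (toEnd_injective (congrArg Subtype.val h1))

section tr

variable (htr : ∀ v w : V, v ≠ 0 → w ≠ 0 → ∃ h : H, h • v = w) [Finite V]
include htr

theorem card_le_sq (A N : Subgroup H) [hAn : A.Normal] (hAc : ∀ a b : A, a * b = b * a)
    {v₀ : V} (hv₀ : v₀ ≠ 0) (hAN : A ≤ N) (hNC : N ≤ Subgroup.centralizer (A : Set H))
    (hcomm : ∀ x ∈ N, ∀ y ∈ N, ⁅x, y⁆ ∈ A)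
    (hZ : ∀ x ∈ N, (∀ y ∈ N, x * y = y * x) → x ∈ A) :
    ∃ m : ℕ, Nat.card V = Nat.card (algA A) ^ m ∧ Nat.card N ≤ Nat.card A * (m * m) := by
  classical
  haveI : Finite (V ≃ₗ[ZMod p] V) := Finite.of_injective (fun f => (f : V → V)) DFunLike.coe_injective
  haveI : Finite (Module.End (ZMod p) V) :=
    Finite.of_injective (fun f => (f : V → V)) DFunLike.coe_injective
  obtain ⟨F, iF, iFt, ⟨ψ⟩⟩ := exists_model htr A hAc hv₀
  obtain ⟨ι, hι⟩ : ∃ ι : F →+* Module.End (ZMod p) V, ∀ x : algA A, ι (ψ x) = (x : Module.End (ZMod p) V) := by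
    refine ⟨(algA A).val.toRingHom.comp (ψ.symm : F →+* algA A), fun x => ?_⟩
    show ((ψ.symm (ψ x) : algA A) : Module.End (ZMod p) V) = x
    rw [RingEquiv.symm_apply_apply]
  have hιmem : ∀ c : F, ι c ∈ algA A := by
    intro c
    rw [← ψ.apply_symm_apply c, hι]
    exact (ψ.symm c).2
  letI iMod : Module F V := Module.compHom V ι
  have hsmul : ∀ (c : F) (v : V), c • v = ι c v := fun c v => rfl
  haveI : Module.Finite F V := Module.Finite.of_finite
  refine ⟨Module.finrank F V, ?_, ?_⟩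
  · rw [Module.natCard_eq_pow_finrank (K := F) (V := V), Nat.card_congr ψ.toEquiv]
  -- elements of `C_H(A)` are `F`-linear
  have hlin : ∀ x ∈ Subgroup.centralizer (A : Set H), ∀ (c : F) (v : V),
      x • (c • v) = c • (x • v) := by
    intro x hx c v
    rw [hsmul, hsmul]
    have h1 := commute_algA_of_mem_centralizer A hx (hιmem c)
    exact congrArg (fun f : Module.End (ZMod p) V => f v) h1
  obtain ⟨ρ, hρ⟩ : ∃ ρ : N → (V →ₗ[F] V), ∀ (x : N) (v : V), ρ x v = (x : H) • v :=
    ⟨fun x =>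
      { toFun := fun v => (x : H) • v
        map_add' := smul_add _
        map_smul' := fun c v => hlin x (hNC x.2) c v }, fun x v => rfl⟩
  -- scalars
  have hlam : ∀ (a : A) (v : V), (a : H) • v = lamHom A ψ a • v := by
    intro a v
    rw [hsmul, lamHom_apply, hι]
    rfl
  -- the index set
  obtain ⟨Q, hQ⟩ : ∃ Q : Type _, Q = (N ⧸ A.subgroupOf N) := ⟨_, rfl⟩
  subst hQ
  letI : Fintype (N ⧸ A.subgroupOf N) := Fintype.ofFinite _
  obtain ⟨rep, hrep⟩ : ∃ rep : (N ⧸ A.subgroupOf N) → N, ∀ q, (QuotientGroup.mk (rep q) : N ⧸ A.subgroupOf N) = q :=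
    ⟨Quotient.out, fun q => Quotient.out_eq q⟩
  -- characters
  obtain ⟨χ, hχ⟩ : ∃ χ : (N ⧸ A.subgroupOf N) → (N →* F), ∀ q y,
      χ q y = lamHom A ψ (commHomN A N hNC hcomm ((rep q : H)⁻¹) (inv_mem (rep q).2) y) :=
    ⟨fun q => (lamHom A ψ).comp (commHomN A N hNC hcomm ((rep q : H)⁻¹) (inv_mem (rep q).2)),
      fun q y => rfl⟩
  have hχinj : Function.Injective χ := by
    intro q q' hqq
    have h1 : ∀ y ∈ N, ⁅((rep q : H))⁻¹, y⁆ = ⁅((rep q' : H))⁻¹, y⁆ := by
      intro y hy
      have h2 := congrArg (fun f : N →* F => f ⟨y, hy⟩) hqq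
      simp only [hχ] at h2
      have h3 := lamHom_injective A ψ h2
      exact congrArg Subtype.val h3
    have h4 : ((rep q' : H))⁻¹⁻¹ * ((rep q : H))⁻¹ ∈ A := by
      apply hZ _ (mul_mem (inv_mem (inv_mem (rep q').2)) (inv_mem (rep q).2))
      intro y hy
      exact Class2Aut.commute_of_commutator_eq (h1 y hy)
    rw [inv_inv] at h4
    -- conjugate into `(rep q)⁻¹ * rep q'`
    have h5 : ((rep q : H))⁻¹ * (rep q' : H) ∈ A := by
      have := hAn.conj_mem _ h4 ((rep q : H))⁻¹
      rw [inv_inv] at this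
      have h6 : ((rep q : H))⁻¹ * ((rep q' : H) * ((rep q : H))⁻¹) * (rep q : H) =
          ((rep q : H))⁻¹ * (rep q' : H) := by group
      rwa [h6] at this
    rw [← hrep q, ← hrep q', QuotientGroup.eq, Subgroup.mem_subgroupOf]
    exact h5
  -- linear independence
  have hli : LinearIndependent F (fun q => ρ (rep q)) := by
    rw [Fintype.linearIndependent_iff]
    intro g hg q₀
    have hpt : ∀ v : V, ∑ q, g q • ((rep q : H) • v) = 0 := by
      intro v
      have h1 := congrArg (fun f : V →ₗ[F] V => f v) hg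
      simp only [LinearMap.sum_apply, LinearMap.smul_apply, LinearMap.zero_apply, hρ] at h1
      exact h1
    have hkey : ∀ y : N, ∑ q, χ q y • (g q • ((rep q : H) • v₀)) = 0 := by
      intro y
      have h1 := hpt ((y : H)⁻¹ • v₀)
      have h2 := congrArg (fun u => (y : H) • u) h1
      simp only [smul_zero, Finset.smul_sum] at h2
      rw [← h2]
      apply Finset.sum_congr rfl
      intro q _
      rw [hlin (y : H) (hNC y.2), smul_comm (χ q y) (g q)]
      congr 1
      -- `y • t • y⁻¹ • v₀ = χ(y) • t • v₀`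
      rw [hχ, ← hlin (rep q : H) (hNC (rep q).2), ← hlam, commHomN_apply, smul_smul, smul_smul,
        smul_smul]
      congr 1
      simp only [commutatorElement_def]
      group
    have hzero := DedekindVec.eq_zero_of_sum_smul_eq_zero χ hχinj
      (fun q => g q • ((rep q : H) • v₀)) hkey q₀
    rcases smul_eq_zero.mp hzero with h | h
    · exact h
    · exact absurd h (smul_ne_zero' hv₀ _)
  have hcard := hli.fintype_card_le_finrank
  rw [Module.finrank_linearMap, ← Nat.card_eq_fintype_card] at hcard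
  have h1 : Nat.card N = Nat.card (N ⧸ A.subgroupOf N) * Nat.card (A.subgroupOf N) :=
    Subgroup.card_eq_card_quotient_mul_card_subgroup _
  have h2 : Nat.card (A.subgroupOf N) = Nat.card A :=
    Nat.card_congr (Subgroup.subgroupOfEquivOfLe hAN).toEquiv
  rw [h1, h2, mul_comm]
  exact Nat.mul_le_mul_left _ hcard

end tr

end Cfsg.Agent.Lib.Helper17.TransLin
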