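import Mathlib
import Cfsg.Agent.Lib.Helper17.TransLinA
import Cfsg.Agent.Lib.Helper17.TransLinB
import Cfsg.Agent.Lib.Helper17.TransLinDim
import Cfsg.Agent.Lib.Helper17.RegLinIrr
import Cfsg.Agent.Lib.Helper17.Class2Sq
import Cfsg.Agent.Lib.Helper17.Class2Aut
import Cfsg.Agent.Lib.Helper17.ExistsClass2
import Cfsg.Agent.Lib.Helper17.HuppertArith

/-!
helper17: **Huppert's theorem** for subgroups `H ≤ GL(V)`, `V` a finite vector space over the
prime field: a solvable `H` transitive on the nonzero vectors is semilinear over a field structure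
on `V`, or `|V| ∈ {9, 25, 49, 121, 529, 81}`.
-/

set_option autoImplicit false
set_option linter.style.haveILetI false

namespace Cfsg.Agent.Lib.Helper17.TransLin

open Cfsg.Agent.Lib.Helper29.RegLin Cfsg.Agent.Lib.Helper17.RegLinField
  Cfsg.Agent.Lib.Helper17.RegLinSemi
open scoped IsMulCommutative commutatorElement

/-- in a finite cyclic group, the elements killed by a prime `r` lie in any subgroup of order `r` -/
theorem mem_zpowers_of_pow_prime_eq_one {G : Type*} [Group G] [Finite G] [IsCyclic G] {r : ℕ}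
    (hr : r.Prime) {z c : G} (hz : orderOf z = r) (hc : c ^ r = 1) : c ∈ Subgroup.zpowers z := by
  letI : CommGroup G := IsCyclic.commGroup
  obtain ⟨T, hT⟩ : ∃ T : Subgroup G, T = (powMonoidHom r : G →* G).ker := ⟨_, rfl⟩
  have hmem : ∀ a : G, a ∈ T ↔ a ^ r = 1 := by
    intro a
    rw [hT, MonoidHom.mem_ker, powMonoidHom_apply]
  have hzT : Subgroup.zpowers z ≤ T := by
    rw [Subgroup.zpowers_le, hmem, ← hz, pow_orderOf_eq_one]
  have hexp : Monoid.exponent T ∣ r := by
    apply Monoid.exponent_dvd_of_forall_pow_eq_one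
    intro a
    apply Subtype.ext
    exact (hmem a).mp a.2
  rw [IsCyclic.exponent_eq_card] at hexp
  have hle : Nat.card T ≤ Nat.card (Subgroup.zpowers z) := by
    rw [Nat.card_zpowers, hz]
    exact Nat.le_of_dvd hr.pos hexp
  have heq : Subgroup.zpowers z = T := Subgroup.eq_of_le_of_card_ge hzT hle
  rw [heq, hmem]
  exact hc

variable {p : ℕ} [Fact p.Prime] {V : Type*} [AddCommGroup V] [Module (ZMod p) V]
variable {H : Subgroup (V ≃ₗ[ZMod p] V)}

section tr

variable (htr : ∀ v w : V, v ≠ 0 → w ≠ 0 → ∃ h : H, h • v = w) [Finite V]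
include htr

/-- orbit–stabilizer: `|V| - 1` divides `|H|` -/
theorem card_sub_one_dvd {v₀ : V} (hv₀ : v₀ ≠ 0) : Nat.card V - 1 ∣ Nat.card H := by
  have horb : MulAction.orbit H v₀ = {v : V | v ≠ 0} := by
    ext w
    constructor
    · rintro ⟨h, rfl⟩
      exact smul_ne_zero' hv₀ h
    · intro hw
      obtain ⟨h, hh⟩ := htr v₀ w hv₀ hw
      exact ⟨h, hh⟩
  have h1 : (MulAction.orbit H v₀).ncard = Nat.card V - 1 := by
    rw [horb]
    have : {v : V | v ≠ 0} = (Set.univ : Set V) \ {0} := by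
      ext v; simp
    rw [this, Set.ncard_sdiff (by simp), Set.ncard_univ, Set.ncard_singleton]
  rw [← h1, ← MulAction.index_stabilizer]
  exact Subgroup.index_dvd_card _

/-- structure of `C_H(A)` for a maximal abelian normal subgroup `A` with `C_H(A) ≠ A` -/
theorem structure_facts [hsol : Group.IsSolvable H]
    (A : Subgroup H) [hAn : A.Normal] (hAc : ∀ a b : A, a * b = b * a)
    (hmax : ∀ B : Subgroup H, B.Normal → (∀ a ∈ B, ∀ b ∈ B, a * b = b * a) → A ≤ B → B ≤ A)
    {v₀ : V} (hv₀ : v₀ ≠ 0) [hcycA : IsCyclic A]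
    (hne : A ≠ Subgroup.centralizer (A : Set H)) :
    ∃ r k m : ℕ, r.Prime ∧ 1 ≤ k ∧ Nat.card V = Nat.card (algA A) ^ m ∧ r ^ k ≤ m ∧
      r ∣ Nat.card A ∧
      Nat.card (Subgroup.centralizer (A : Set H)) ∣
        Nat.card A * (r ^ (2 * k) * HuppertArith.glc (2 * k) r) := by
  classical
  haveI : Finite (V ≃ₗ[ZMod p] V) := Finite.of_injective (fun f => (f : V → V)) DFunLike.coe_injective
  obtain ⟨C, hC⟩ : ∃ C : Subgroup H, C = Subgroup.centralizer (A : Set H) := ⟨_, rfl⟩
  haveI hCn : C.Normal := by rw [hC]; infer_instance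
  have hAC : A ≤ C := by
    intro a ha
    rw [hC, Subgroup.mem_centralizer_iff]
    intro b hb
    exact congrArg Subtype.val (hAc ⟨b, hb⟩ ⟨a, ha⟩)
  have hsolC : Group.IsSolvable C := inferInstance
  rw [← hC] at hne ⊢
  obtain ⟨r, N, hr, hNn, hAN, hNC, hANne, hcomm, hexp⟩ :=
    ExistsClass2.exists_class_two A C hAC hne hsolC
  haveI := hNn
  haveI : Fact r.Prime := ⟨hr⟩
  have hNC' : N ≤ Subgroup.centralizer (A : Set H) := hC ▸ hNC
  have hcommNA : ∀ n ∈ N, ∀ a ∈ A, n * a = a * n := by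
    intro n hn a ha
    exact (Subgroup.mem_centralizer_iff.mp (hNC' hn) a ha).symm
  -- `N` is not abelian
  have hNnab : ¬ ∀ a ∈ N, ∀ b ∈ N, a * b = b * a := by
    intro h
    exact hANne (le_antisymm hAN (hmax N hNn h hAN))
  -- `Z(N) ≤ A`
  have hZ : ∀ x ∈ N, (∀ y ∈ N, x * y = y * x) → x ∈ A := by
    intro x hx hxy
    have hB : N ⊓ Subgroup.centralizer (N : Set H) ≤ A := by
      apply hmax _ inferInstance
      · intro a ha b hb
        rw [Subgroup.mem_inf] at ha hb
        exact Subgroup.mem_centralizer_iff.mp hb.2 a ha.1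
      · intro a ha
        rw [Subgroup.mem_inf]
        refine ⟨hAN ha, ?_⟩
        rw [Subgroup.mem_centralizer_iff]
        intro n hn
        exact hcommNA n hn a ha
    apply hB
    rw [Subgroup.mem_inf]
    refine ⟨hx, ?_⟩
    rw [Subgroup.mem_centralizer_iff]
    intro y hy
    exact (hxy y hy).symm
  -- `N` is irreducible
  have hNtop : ∀ u : V, u ≠ 0 → Wv N u = ⊤ := by
    intro u hu
    by_contra hcon
    obtain ⟨w, hw⟩ : ∃ w, w ∉ Wv N u := by
      by_contra h
      push Not at h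
      exact hcon (eq_top_iff.mpr fun y _ => h y)
    exact hNnab (comm_of_reducible htr N hu hw)
  have hirr : ∀ W : Submodule (ZMod p) V,
      (∀ n ∈ N, ∀ v ∈ W, ((n : H) : V ≃ₗ[ZMod p] V) v ∈ W) → W = ⊥ ∨ W = ⊤ := by
    intro W hW
    by_cases hWb : W = ⊥
    · exact Or.inl hWb
    right
    obtain ⟨u, huW, hu0⟩ := Submodule.exists_mem_ne_zero_of_ne_bot hWb
    rw [eq_top_iff, ← hNtop u hu0]
    exact Wv_le N (fun a x hx => hW a a.2 x hx) huW
  -- `C_H(N) ≤ A`
  have hcent : ∀ g : H, (∀ x ∈ N, g * x = x * g) → g ∈ A := by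
    intro g hg
    have hB : Subgroup.centralizer (N : Set H) ≤ A := by
      apply hmax _ inferInstance (RegLinIrr.comm_centralizer_of_irreducible N hv₀ hirr)
      intro a ha
      rw [Subgroup.mem_centralizer_iff]
      intro n hn
      exact hcommNA n hn a ha
    apply hB
    rw [Subgroup.mem_centralizer_iff]
    intro x hx
    exact (hg x hx).symm
  -- a nontrivial commutator
  obtain ⟨x, hx, y, hy, hxy⟩ : ∃ x ∈ N, ∃ y ∈ N, ⁅x, y⁆ ≠ 1 := by
    by_contra hcon
    push Not at hcon
    apply hNnab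
    intro a ha b hb
    exact commutatorElement_eq_one_iff_mul_comm.mp (hcon a ha b hb)
  have hpowr : ∀ a ∈ N, ∀ b ∈ N, ⁅a, b⁆ ^ r = 1 := by
    intro a ha b hb
    have h1 := map_pow (commHomN A N hNC' hcomm a ha) ⟨b, hb⟩ r
    have h2 := congrArg (fun t : A => (t : H)) h1
    simp only [Subgroup.coe_pow, commHomN_apply] at h2
    rw [← h2, commutatorElement_eq_one_iff_mul_comm]
    exact hcommNA a ha _ (hexp b hb)
  have hord : orderOf ⁅x, y⁆ = r := orderOf_eq_prime (hpowr x hx y hy) hxy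
  have hrA : r ∣ Nat.card A := by
    have h1 : orderOf (⟨⁅x, y⁆, hcomm x hx y hy⟩ : A) = r := by
      rw [← hord]
      exact Subgroup.orderOf_mk _ _
    rw [← h1]
    exact orderOf_dvd_natCard _
  -- `|N : A|` is an even power of `r`
  obtain ⟨k, hk⟩ : ∃ k : ℕ, Nat.card N = Nat.card A * r ^ (2 * k) := by
    obtain ⟨z', hz'⟩ : ∃ z' : N, (z' : H) = ⁅x, y⁆ :=
      ⟨⁅(⟨x, hx⟩ : N), (⟨y, hy⟩ : N)⁆, by simp [commutatorElement_def]⟩
    have hcoe : ∀ a b : N, ((⁅a, b⁆ : N) : H) = ⁅(a : H), (b : H)⁆ := by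
      intro a b
      simp [commutatorElement_def]
    have hz'ord : orderOf z' = r := by
      rw [← hord, ← hz']
      exact (Subgroup.orderOf_coe z').symm
    have hcenter : ∀ g : N, g ∈ Subgroup.center N ↔ (g : H) ∈ A := by
      intro g
      rw [Subgroup.mem_center_iff]
      constructor
      · intro hg
        apply hZ _ g.2
        intro n hn
        have := congrArg Subtype.val (hg ⟨n, hn⟩)
        exact this.symm
      · intro hg n
        apply Subtype.ext
        exact hcommNA n n.2 _ hg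
    have hZ₀ : Subgroup.zpowers z' ≤ Subgroup.center N := by
      rw [Subgroup.zpowers_le, hcenter, hz']
      exact hcomm x hx y hy
    have hz : Nat.card (Subgroup.zpowers z') = r := by rw [Nat.card_zpowers, hz'ord]
    haveI : IsCyclic (A.subgroupOf N) :=
      isCyclic_of_surjective (Subgroup.subgroupOfEquivOfLe hAN).symm
        (Subgroup.subgroupOfEquivOfLe hAN).symm.surjective
    have hc : ∀ a b : N, ⁅a, b⁆ ∈ Subgroup.zpowers z' := by
      intro a b
      have hmemA : ⁅a, b⁆ ∈ A.subgroupOf N := by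
        rw [Subgroup.mem_subgroupOf, hcoe]
        exact hcomm _ a.2 _ b.2
      have hz'A : z' ∈ A.subgroupOf N := by
        rw [Subgroup.mem_subgroupOf, hz']
        exact hcomm x hx y hy
      have h1 : orderOf (⟨z', hz'A⟩ : A.subgroupOf N) = r := by
        rw [← hz'ord]
        exact Subgroup.orderOf_mk _ _
      have h2 : (⟨⁅a, b⁆, hmemA⟩ : A.subgroupOf N) ^ r = 1 := by
        apply Subtype.ext
        apply Subtype.ext
        simp only [Subgroup.coe_pow, Subgroup.coe_one, hcoe]
        exact hpowr _ a.2 _ b.2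
      have h3 := mem_zpowers_of_pow_prime_eq_one hr h1 h2
      obtain ⟨n, hn⟩ := Subgroup.mem_zpowers_iff.mp h3
      rw [Subgroup.mem_zpowers_iff]
      refine ⟨n, ?_⟩
      have := congrArg Subtype.val hn
      simpa using this
    obtain ⟨k, hk⟩ := Class2Sq.card_eq_center_mul hr (Subgroup.zpowers z') hZ₀ hz hc
    refine ⟨k, ?_⟩
    rw [hk]
    congr 1
    have h1 : Subgroup.center N = A.subgroupOf N := by
      ext g
      rw [hcenter, Subgroup.mem_subgroupOf]
    rw [h1]
    exact Nat.card_congr (Subgroup.subgroupOfEquivOfLe hAN).toEquiv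
  have hk1 : 1 ≤ k := by
    by_contra hcon
    have hk0 : k = 0 := by omega
    rw [hk0, mul_zero, pow_zero, mul_one] at hk
    exact hANne (Subgroup.eq_of_le_of_card_ge hAN hk.le)
  -- the dimension bound
  obtain ⟨m, hm1, hm2⟩ := card_le_sq htr A N hAc hv₀ hAN hNC' hcomm hZ
  have hrm : r ^ k ≤ m := by
    rw [hk] at hm2
    have h1 : r ^ (2 * k) ≤ m * m := Nat.le_of_mul_le_mul_left hm2 Nat.card_pos
    have h2 : r ^ (2 * k) = r ^ k * r ^ k := by rw [two_mul, pow_add]
    rw [h2] at h1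
    exact Nat.mul_self_le_mul_self_iff.mp h1
  -- the order of `C`
  have hCdvd : Nat.card C ∣ Nat.card A * (r ^ (2 * k) * HuppertArith.glc (2 * k) r) := by
    haveI : IsCyclic (A.subgroupOf C) :=
      isCyclic_of_surjective (Subgroup.subgroupOfEquivOfLe hAC).symm
        (Subgroup.subgroupOfEquivOfLe hAC).symm.surjective
    have hcA : Nat.card (A.subgroupOf C) = Nat.card A :=
      Nat.card_congr (Subgroup.subgroupOfEquivOfLe hAC).toEquiv
    have hcN : Nat.card (N.subgroupOf C) = Nat.card N :=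
      Nat.card_congr (Subgroup.subgroupOfEquivOfLe hNC).toEquiv
    have hcoe : ∀ a b : C, ((⁅a, b⁆ : C) : H) = ⁅(a : H), (b : H)⁆ := by
      intro a b
      simp [commutatorElement_def]
    have h1 := Class2Aut.card_dvd r (A.subgroupOf C) (N.subgroupOf C)
      (by
        intro a ha
        rw [Subgroup.mem_subgroupOf] at ha
        rw [Subgroup.mem_center_iff]
        intro g
        apply Subtype.ext
        have hg : (g : H) ∈ Subgroup.centralizer (A : Set H) := hC ▸ g.2
        exact (Subgroup.mem_centralizer_iff.mp hg _ ha).symm)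
      (by
        intro a ha
        rw [Subgroup.mem_subgroupOf] at ha ⊢
        exact hAN ha)
      (by rw [hcA]; exact hrA)
      (by
        intro a ha b hb
        rw [Subgroup.mem_subgroupOf] at ha hb ⊢
        rw [hcoe]
        exact hcomm _ ha _ hb)
      (by
        intro a ha
        rw [Subgroup.mem_subgroupOf] at ha ⊢
        rw [Subgroup.coe_pow]
        exact hexp _ ha)
      (by
        intro g hg
        rw [Subgroup.mem_subgroupOf]
        apply hcent
        intro n hn
        have := hg ⟨n, hNC hn⟩ (by rw [Subgroup.mem_subgroupOf]; exact hn)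
        exact congrArg Subtype.val this)
      (2 * k) (by rw [hcA, hcN, hk])
    rw [hcN, hk] at h1
    unfold HuppertArith.glc
    rw [mul_assoc] at h1
    exact h1
  exact ⟨r, k, m, hr, hk1, hm1, hrm, hrA, hCdvd⟩

/-- **Huppert's theorem** for subgroups of `GL(V)`. -/
theorem huppert [Nontrivial V] [hsol : Group.IsSolvable H] :
    (∃ (F : Type) (_ : Field F) (_ : Fintype F) (e : V ≃+ F),
        ∀ h : H, ∃ (a : F) (σ : F ≃+* F), ∀ v : V, e (h • v) = a * σ (e v)) ∨
    HuppertArith.Sgood (Nat.card V) := by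
  classical
  have hp : p.Prime := Fact.out
  haveI : Finite (V ≃ₗ[ZMod p] V) := Finite.of_injective (fun f => (f : V → V)) DFunLike.coe_injective
  obtain ⟨v₀, hv₀⟩ := exists_ne (0 : V)
  by_cases hirr : ∃ A : Subgroup H, A.Normal ∧ (∀ a b : A, a * b = b * a) ∧ Wv A v₀ = ⊤
  · obtain ⟨A, hAn, hAc, htop⟩ := hirr
    haveI := hAn
    obtain ⟨F, iF, iFt, e, -, he⟩ := exists_semilinear htr A hAc hv₀ htop
    exact Or.inl ⟨F, iF, iFt, e, he⟩
  right
  push Not at hirr
  -- a maximal abelian normal subgroup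
  obtain ⟨A, -, hAmax⟩ := Set.Finite.exists_le_maximal
    (s := {B : Subgroup H | B.Normal ∧ ∀ a ∈ B, ∀ b ∈ B, a * b = b * a}) (Set.toFinite _)
    (a := ⊥) ⟨inferInstance, by
      intro a ha b hb
      rw [Subgroup.mem_bot] at ha hb
      rw [ha, hb]⟩
  obtain ⟨⟨hAn, hAc'⟩, hmax'⟩ := hAmax
  haveI := hAn
  have hAc : ∀ a b : A, a * b = b * a := fun a b => Subtype.ext (hAc' a a.2 b b.2)
  have hmax : ∀ B : Subgroup H, B.Normal → (∀ a ∈ B, ∀ b ∈ B, a * b = b * a) → A ≤ B → B ≤ A :=
    fun B hBn hBc hAB => hmax' ⟨hBn, hBc⟩ hAB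
  obtain ⟨d, hd1, hK, hidx, hAdvd, hcyc⟩ := field_facts htr A hAc hv₀
  haveI := hcyc
  have hdiv := card_sub_one_dvd htr hv₀
  obtain ⟨C, hC⟩ : ∃ C : Subgroup H, C = Subgroup.centralizer (A : Set H) := ⟨_, rfl⟩
  have hHC : Nat.card C * C.index = Nat.card H := Subgroup.card_mul_index C
  rw [← hC] at hidx
  by_cases hCA : A = Subgroup.centralizer (A : Set H)
  · -- `C_H(A) = A`: impossible
    exfalso
    have hred : Wv A v₀ ≠ ⊤ := hirr A hAn hAc
    obtain ⟨w, hw⟩ : ∃ w, w ∉ Wv A v₀ := by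
      by_contra h
      push Not at h
      exact hred (eq_top_iff.mpr fun y _ => h y)
    have hsq := card_sq_le htr A hv₀ hw
    rw [card_Wv_eq_card_algA htr A hAc hv₀, hK] at hsq
    obtain ⟨m, hm1, -⟩ := card_le_sq htr A A hAc hv₀ le_rfl
      (by
        intro a ha
        rw [Subgroup.mem_centralizer_iff]
        intro b hb
        exact hAc' b hb a ha)
      (by
        intro x hx y hy
        rw [commutatorElement_def]
        exact A.mul_mem (A.mul_mem (A.mul_mem hx hy) (A.inv_mem hx)) (A.inv_mem hy))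
      (fun x hx _ => hx)
    rw [hK] at hm1
    have hx2 : 2 ≤ p ^ d := by
      calc 2 ≤ p := hp.two_le
        _ = p ^ 1 := (pow_one p).symm
        _ ≤ p ^ d := Nat.pow_le_pow_right hp.pos hd1
    have hm2 : 2 ≤ m := by
      by_contra hcon
      have hm1' : m ≤ 1 := by omega
      have h1 : (p ^ d) ^ m ≤ (p ^ d) ^ 1 := Nat.pow_le_pow_right (by omega) hm1'
      rw [pow_one] at h1
      rw [hm1] at hsq
      nlinarith
    apply HuppertArith.no_small hp hd1 hm2
    rw [← hm1]
    apply hdiv.trans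
    have hCA' : C = A := hC.trans hCA.symm
    rw [← hHC, mul_comm]
    refine Nat.mul_dvd_mul hidx ?_
    rw [hCA']
    exact hAdvd
  · obtain ⟨r, k, m, hr, hk1, hm1, hrm, hrA, hCdvd⟩ :=
      structure_facts htr A hAc hmax hv₀ hCA
    rw [hK] at hm1
    rw [hm1]
    apply HuppertArith.main hp hd1 hr hk1 (hrA.trans hAdvd) hrm
    rw [← hm1]
    apply hdiv.trans
    rw [← hHC, ← hC] at *
    have h1 : Nat.card C * C.index ∣
        (Nat.card A * (r ^ (2 * k) * HuppertArith.glc (2 * k) r)) * d :=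
      Nat.mul_dvd_mul hCdvd hidx
    apply h1.trans
    have h2 : Nat.card A * (r ^ (2 * k) * HuppertArith.glc (2 * k) r) * d =
        d * Nat.card A * (r ^ (2 * k) * HuppertArith.glc (2 * k) r) := by ring
    rw [h2]
    exact Nat.mul_dvd_mul_right (Nat.mul_dvd_mul_left d hAdvd) _

end tr

end Cfsg.Agent.Lib.Helper17.TransLin
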