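import Mathlib
import Cfsg.Agent.Lib.Helper11.T23UDefs

/-!
S5801 conjunct (8), `q = 3` glue (helper17): the trichotomy on `finrank (R_x ⊓ g R_x) ∈ {0,1,2,3}`.
`finrank_FibA`, `finrank_mvS`, and `hNO_of_GB_GC`: from "no pair meets in dimension two" (GB) and
"a pair meeting in dimension one yields a pair meeting in dimension two" (GC) one gets the interface `hNO` of
`Helper11.T23UMain.model_of_NO`: every pair `(R_x, g R_x)`, `g ∈ M`, is opposite or equal.
-/

set_option autoImplicit false
set_option linter.unusedSectionVars false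
set_option linter.unusedVariables false

namespace Cfsg.Agent.Lib.Helper17.U23Tri
open Matrix Module
open Cfsg.Agent.Lib.Helper25.Tens Cfsg.Agent.Lib.Helper25.TensLeaf
open Cfsg.Agent.Lib.Helper20.UT Cfsg.Agent.Lib.Helper11.T23U

variable {F : Type*} [Field F] {a b : ℕ}

lemma ptR_injective {x : Fin a → F} (hx : x ≠ 0) : Function.Injective (ptR (b := b) x) := by
  rw [← LinearMap.ker_eq_bot, LinearMap.ker_eq_bot']
  intro y hy
  have : pt x y = 0 := hy
  rcases (pt_eq_zero_iff x y).mp this with h | h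
  · exact absurd h hx
  · exact h

/-- `finrank (x ⊗ B) = b` -/
theorem finrank_FibA {x : Fin a → F} (hx : x ≠ 0) : Module.finrank F (FibA (b := b) x) = b := by
  unfold FibA
  rw [LinearMap.finrank_range_of_inj (ptR_injective hx), Module.finrank_fin_fun]

/-- `mv g` preserves dimensions -/
theorem finrank_mvS {ι : Type} [Fintype ι] [DecidableEq ι] (g : GL ι F) (W : Submodule F (ι → F)) :
    Module.finrank F (mvS g W) = Module.finrank F W := by
  unfold mvS
  have hinj : Function.Injective (Matrix.toLin' (g : Matrix ι ι F)) := by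
    intro v w h
    have h1 : mv g v = mv g w := by
      simpa [mv, Matrix.toLin'_apply] using h
    exact mv_injective g h1
  exact (Submodule.equivMapOfInjective _ hinj W).finrank_eq.symm

/-- the trichotomy: GB + GC give the interface `hNO` -/
theorem hNO_of_GB_GC {M : Subgroup (GL (Idx a b) F)} {x : Fin a → F} (hx0 : x ≠ 0) (hb3 : b = 3)
    (hGB : ∀ g ∈ M, Module.finrank F ↥(FibA (b := b) x ⊓ mvS g (FibA (b := b) x)) = 2 → False)
    (hGC : ∀ g ∈ M, Module.finrank F ↥(FibA (b := b) x ⊓ mvS g (FibA (b := b) x)) = 1 →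
      ∃ g₁ ∈ M, Module.finrank F ↥(FibA (b := b) x ⊓ mvS g₁ (FibA (b := b) x)) = 2) :
    ∀ g ∈ M, FibA (b := b) x ⊓ mvS g (FibA (b := b) x) = ⊥ ∨
      mvS g (FibA (b := b) x) = FibA (b := b) x := by
  intro g hg
  have h3 : Module.finrank F (FibA (b := b) x) = 3 := by rw [finrank_FibA hx0, hb3]
  have hle : Module.finrank F ↥(FibA (b := b) x ⊓ mvS g (FibA (b := b) x)) ≤ 3 := by
    rw [← h3]
    exact Submodule.finrank_mono
      (inf_le_left : FibA (b := b) x ⊓ mvS g (FibA (b := b) x) ≤ FibA (b := b) x)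
  have hcases : Module.finrank F ↥(FibA (b := b) x ⊓ mvS g (FibA (b := b) x)) = 0 ∨
      Module.finrank F ↥(FibA (b := b) x ⊓ mvS g (FibA (b := b) x)) = 1 ∨
      Module.finrank F ↥(FibA (b := b) x ⊓ mvS g (FibA (b := b) x)) = 2 ∨
      Module.finrank F ↥(FibA (b := b) x ⊓ mvS g (FibA (b := b) x)) = 3 := by omega
  rcases hcases with h0 | h1 | h2 | h3'
  · left
    exact Submodule.finrank_eq_zero.mp h0
  · exfalso
    obtain ⟨g₁, hg₁, h2⟩ := hGC g hg h1
    exact hGB g₁ hg₁ h2
  · exact absurd h2 (fun h => hGB g hg h)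
  · right
    have heq : FibA (b := b) x ⊓ mvS g (FibA (b := b) x) = FibA (b := b) x :=
      Submodule.eq_of_le_of_finrank_le
        (inf_le_left : FibA (b := b) x ⊓ mvS g (FibA (b := b) x) ≤ FibA (b := b) x)
        (by rw [h3', h3])
    have hle2 : FibA (b := b) x ≤ mvS g (FibA (b := b) x) := by
      have h' : FibA (b := b) x ⊓ mvS g (FibA (b := b) x) ≤ mvS g (FibA (b := b) x) := inf_le_right
      rw [heq] at h'
      exact h'
    symm
    apply Submodule.eq_of_le_of_finrank_le hle2
    rw [finrank_mvS]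

end Cfsg.Agent.Lib.Helper17.U23Tri
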