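import Mathlib
import Cfsg.Agent.Lib.Helper17.U3KILLAux

/-!
Leaf `kill3_abs` of S2148 (market U3): no subgroup of order `224` in a group where
subgroups of order `7` have no centralizing involution.
-/

namespace Cfsg.Agent.Lib.Helper17.U3Leaf

open Subgroup

theorem kill3_core {K : Type*} [Group K] [Finite K] (hK : Nat.card K = 224)
    (hC : ∀ P : Subgroup K, Nat.card P = 7 →
      ∀ x ∈ Subgroup.centralizer (P : Set K), x * x = 1 → x = 1) : False := by
  have : Fact (Nat.Prime 7) := ⟨by norm_num⟩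
  obtain ⟨P⟩ : Nonempty (Sylow 7 K) := inferInstance
  have hP : Nat.card (P : Subgroup K) = 7 :=
    sylow_card_prime (m := 32) (by rw [hK]) (by norm_num) P
  have hn1 : Nat.card (Sylow 7 K) ≡ 1 [MOD 7] := card_sylow_modEq_one 7 K
  have hn3 : Nat.card (Sylow 7 K) ∣ (P : Subgroup K).index := P.card_dvd_index
  have hidx : (P : Subgroup K).index = 32 := by
    have := (P : Subgroup K).card_mul_index
    rw [hP, hK] at this; omega
  have hNn := card_normalizer_mul_card_sylow P
  rw [hK] at hNn
  have hcyc : IsCyclic (P : Subgroup K) := isCyclic_of_prime_card hP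
  obtain ⟨r, hr, hCr⟩ := card_normalizer_eq_card_centralizer_mul (P : Subgroup K) hcyc
  rw [hP, Nat.totient_prime (by norm_num)] at hr
  rw [hidx] at hn3
  generalize Nat.card (Sylow 7 K) = n at hn1 hn3 hNn
  generalize Nat.card ↥(normalizer ((P : Subgroup K) : Set K)) = N at hNn hCr
  have h2 : 2 ∣ Nat.card ↥(centralizer ((P : Subgroup K) : Set K)) := by
    generalize Nat.card ↥(centralizer ((P : Subgroup K) : Set K)) = c at hCr
    have hle : n ≤ 32 := Nat.le_of_dvd (by norm_num) hn3
    have hr6 : r ≤ 6 := Nat.le_of_dvd (by norm_num) hr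
    have hr0 : 0 < r := Nat.pos_of_dvd_of_pos hr (by norm_num)
    unfold Nat.ModEq at hn1
    subst hCr
    interval_cases n <;> simp at hn1 hn3 <;> interval_cases r <;> omega
  obtain ⟨x, hx⟩ := exists_prime_orderOf_dvd_card' 2 h2
  have hx1 : x ≠ 1 := by
    intro h; rw [h, orderOf_one] at hx; omega
  have hxx : x * x = 1 := by
    rw [← pow_two, ← hx]; exact pow_orderOf_eq_one x
  have := hC (P : Subgroup K) hP (x : K) x.2 (by exact_mod_cast congrArg Subtype.val hxx)
  exact hx1 (Subtype.ext this)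

/-- A6 KILL3-abs (`q = 3`, `|H| = 28 * 8`). -/
theorem kill3_abs {G : Type*} [Group G] [Finite G] (H : Subgroup G) (hH : Nat.card H = 224)
    (hN : ∀ R : Subgroup G, Nat.card R = 7 →
      Nat.card ↥(Subgroup.normalizer (R : Set G)) ≤ 168)
    (hC : ∀ R : Subgroup G, Nat.card R = 7 →
      ∀ g ∈ Subgroup.centralizer (R : Set G), g * g = 1 → g = 1) : False :=
  kill3_core hH (hC_transfer H 7 hC)

end Cfsg.Agent.Lib.Helper17.U3Leaf
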