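/-
helper17: S2524 leaf (ABS) `count_of_types`: the abstract counting argument for the four Weil characters.
-/
import Mathlib
import Cfsg.Prelude.Def_Characters
import Cfsg.Agent.Lib.Lead.CharMore

set_option autoImplicit false

namespace Cfsg.Agent.Lib.Helper17.WGABS

universe u

/-- (ABS) -/
theorem count_of_types {G : Type u} [Group G] [Finite G] (δ : G ≃* G) (β : ℝ) (d₁ d₂ : ℕ) (hd : d₁ ≠ d₂)
    (hd₁ : d₁ ≠ 1) (hd₂ : d₂ ≠ 1) (hβ₁ : (d₁ : ℝ) < β) (hβ₂ : (d₂ : ℝ) < β)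
    (t : {χ : Cfsg.IrrCharacter G // (χ : G → ℂ) 1 ≠ 1 ∧ ‖(χ : G → ℂ) 1‖ < β} → Bool × Bool)
    (ht : Function.Injective t)
    (hδ : ∀ χ : Cfsg.IrrCharacter G, (χ : G → ℂ) 1 ≠ 1 → ‖(χ : G → ℂ) 1‖ < β →
      (χ : G → ℂ) ∘ δ ≠ (χ : G → ℂ))
    (χ₁ χ₂ : Cfsg.IrrCharacter G) (h₁ : (χ₁ : G → ℂ) 1 = d₁) (h₂ : (χ₂ : G → ℂ) 1 = d₂) :
    Nat.card {χ : Cfsg.IrrCharacter G // (χ : G → ℂ) 1 = d₁} = 2 ∧
    Nat.card {χ : Cfsg.IrrCharacter G // (χ : G → ℂ) 1 = d₂} = 2 ∧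
    ∀ χ : Cfsg.IrrCharacter G, (χ : G → ℂ) 1 ≠ 1 → (χ : G → ℂ) 1 ≠ d₁ → (χ : G → ℂ) 1 ≠ d₂ →
      β ≤ ‖(χ : G → ℂ) 1‖ := by
  classical
  let _ : Fintype (Cfsg.IrrCharacter G) := Cfsg.Agent.CharLib.fintypeIrr G
  let τ : Cfsg.IrrCharacter G → Cfsg.IrrCharacter G :=
    fun χ => ⟨(χ : G → ℂ) ∘ δ, Cfsg.Agent.CharLib.IsIrrCharacter.comp_mulEquiv χ.2 δ⟩
  have hτ1 : ∀ χ : Cfsg.IrrCharacter G, (τ χ : G → ℂ) 1 = (χ : G → ℂ) 1 := by
    intro χ
    show (χ : G → ℂ) (δ 1) = _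
    rw [map_one]
  set S : Finset (Cfsg.IrrCharacter G) :=
    Finset.univ.filter (fun χ => (χ : G → ℂ) 1 ≠ 1 ∧ ‖(χ : G → ℂ) 1‖ < β) with hS
  set A : Finset (Cfsg.IrrCharacter G) :=
    Finset.univ.filter (fun χ => (χ : G → ℂ) 1 = d₁) with hA
  set B : Finset (Cfsg.IrrCharacter G) :=
    Finset.univ.filter (fun χ => (χ : G → ℂ) 1 = d₂) with hB
  have hScard : S.card ≤ 4 := by
    have h1 : Nat.card {χ : Cfsg.IrrCharacter G // (χ : G → ℂ) 1 ≠ 1 ∧ ‖(χ : G → ℂ) 1‖ < β} ≤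
        Nat.card (Bool × Bool) := Nat.card_le_card_of_injective t ht
    have h2 : Nat.card (Bool × Bool) = 4 := by
      rw [Nat.card_eq_fintype_card, Fintype.card_prod, Fintype.card_bool]
    rw [h2, Nat.card_eq_fintype_card, Fintype.card_subtype] at h1
    exact h1
  have hmemS : ∀ (d : ℕ), d ≠ 1 → (d : ℝ) < β → ∀ χ : Cfsg.IrrCharacter G,
      (χ : G → ℂ) 1 = d → χ ∈ S := by
    intro d hd1 hdβ χ hχ
    rw [hS, Finset.mem_filter]
    refine ⟨Finset.mem_univ _, ?_, ?_⟩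
    · rw [hχ]
      exact_mod_cast hd1
    · rw [hχ, Complex.norm_natCast]
      exact hdβ
  have hAS : A ⊆ S := by
    intro χ hχ
    rw [hA, Finset.mem_filter] at hχ
    exact hmemS d₁ hd₁ hβ₁ χ hχ.2
  have hBS : B ⊆ S := by
    intro χ hχ
    rw [hB, Finset.mem_filter] at hχ
    exact hmemS d₂ hd₂ hβ₂ χ hχ.2
  have hdisj : Disjoint A B := by
    rw [Finset.disjoint_left]
    intro χ hχA hχB
    rw [hA, Finset.mem_filter] at hχA
    rw [hB, Finset.mem_filter] at hχB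
    have : (d₁ : ℂ) = d₂ := by rw [← hχA.2, hχB.2]
    exact hd (by exact_mod_cast this)
  have htwo : ∀ (d : ℕ), d ≠ 1 → (d : ℝ) < β → ∀ χ : Cfsg.IrrCharacter G,
      (χ : G → ℂ) 1 = d → 2 ≤ (Finset.univ.filter
        (fun χ : Cfsg.IrrCharacter G => (χ : G → ℂ) 1 = d)).card := by
    intro d hd1 hdβ χ hχ
    have hχS := hmemS d hd1 hdβ χ hχ
    rw [hS, Finset.mem_filter] at hχS
    have hne : τ χ ≠ χ := by
      intro h
      exact hδ χ hχS.2.1 hχS.2.2 (congrArg Subtype.val h)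
    have : 1 < (Finset.univ.filter
        (fun χ : Cfsg.IrrCharacter G => (χ : G → ℂ) 1 = d)).card := by
      rw [Finset.one_lt_card]
      refine ⟨τ χ, ?_, χ, ?_, hne⟩
      · rw [Finset.mem_filter]
        exact ⟨Finset.mem_univ _, by rw [hτ1, hχ]⟩
      · rw [Finset.mem_filter]
        exact ⟨Finset.mem_univ _, hχ⟩
    exact this
  have hA2 : 2 ≤ A.card := htwo d₁ hd₁ hβ₁ χ₁ h₁
  have hB2 : 2 ≤ B.card := htwo d₂ hd₂ hβ₂ χ₂ h₂
  have hAB : A ∪ B ⊆ S := Finset.union_subset hAS hBS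
  have hcardAB : (A ∪ B).card = A.card + B.card := Finset.card_union_of_disjoint hdisj
  have hle : (A ∪ B).card ≤ S.card := Finset.card_le_card hAB
  have hAe : A.card = 2 := by omega
  have hBe : B.card = 2 := by omega
  have hSe : A ∪ B = S := Finset.eq_of_subset_of_card_le hAB (by omega)
  refine ⟨?_, ?_, ?_⟩
  · rw [Nat.card_eq_fintype_card, Fintype.card_subtype]
    exact hAe
  · rw [Nat.card_eq_fintype_card, Fintype.card_subtype]
    exact hBe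
  · intro χ hχ1 hχd₁ hχd₂
    by_contra hlt
    rw [not_le] at hlt
    have hχS : χ ∈ S := by
      rw [hS, Finset.mem_filter]
      exact ⟨Finset.mem_univ _, hχ1, hlt⟩
    rw [← hSe, Finset.mem_union, hA, hB, Finset.mem_filter, Finset.mem_filter] at hχS
    rcases hχS with h | h
    · exact hχd₁ h.2
    · exact hχd₂ h.2

end Cfsg.Agent.Lib.Helper17.WGABS
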