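/-
Helper lemmas (helper17): solvable `{p,q}`-groups (`p` odd) with abelian `q`-subgroups are
action-`p`-stable; Thompson's normal `p`-complement theorem in the form with `W(S)`.
-/
import Cfsg.Agent.Lib.Helper17.WStable3
import Cfsg.Agent.Lib.Helper12.ThompsonNPC
import Cfsg.Agent.Lib.Helper12.PStableSections
import Cfsg.Agent.Lib.Helper12.ThompsonConfig

set_option autoImplicit false

namespace Cfsg.Agent.Lib.Helper17

open scoped commutatorElement
open Cfsg.Agent.Lib.Helper4 Cfsg.Agent.Lib.Helper27 Cfsg.Agent.Lib.Helper12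

/-- `p`-stability of the action on a normal `p`-subgroup in a solvable `{p,q}`-group with abelian
`q`-subgroups. -/
theorem isPStableOn_of_isPQAb {X : Type*} [Group X] [Finite X] {p q : ℕ} [hp : Fact p.Prime]
    [Fact q.Prime] (hp2 : p ≠ 2) (hpq : p ≠ q) (hD : IsPQAb p q X) (V : Subgroup X) [V.Normal]
    (hVp : IsPGroup p V) : Cfsg.IsPStableOn p V := by
  intro a hquad
  exact mk_mem_pCore_of_quadratic hp2 hpq hD V hVp (Subgroup.centralizer (V : Set X))
    (fun x hx => Subgroup.mem_centralizer_iff.mpr (fun u hu => hx u hu)) a hquad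

/-- `p`-stability of the action on a normal section `K/N` with `K/N` a `p`-group, in a solvable
`{p,q}`-group with abelian `q`-subgroups. -/
theorem isPStableOnSection_of_isPQAb {X : Type*} [Group X] [Finite X] {p q : ℕ} [hp : Fact p.Prime]
    [Fact q.Prime] (hp2 : p ≠ 2) (hpq : p ≠ q) (hD : IsPQAb p q X) (K N : Subgroup X) [hKn : K.Normal]
    [hNn : N.Normal] (hKp : IsPGroup p K) : Cfsg.IsPStableOnSection p K N := by
  intro a hquad
  set π := QuotientGroup.mk' N with hπ
  have hπs : Function.Surjective π := QuotientGroup.mk'_surjective N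
  have hPn : (K.map π).Normal := hKn.map π hπs
  have hPp : IsPGroup p (K.map π) := hKp.map π
  have hquad' : ⁅⁅K.map π, Subgroup.zpowers (π a)⁆, Subgroup.zpowers (π a)⁆ = ⊥ := by
    rw [← MonoidHom.map_zpowers, ← Subgroup.map_commutator, ← Subgroup.map_commutator, eq_bot_iff]
    calc (⁅⁅K, Subgroup.zpowers a⁆, Subgroup.zpowers a⁆).map π ≤ N.map π := Subgroup.map_mono hquad
      _ = ⊥ := by rw [hπ, QuotientGroup.map_mk'_self]
  have h1 := mk_mem_pCore_of_quadratic hp2 hpq (hD.quotient N) (K.map π) hPp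
    (Subgroup.centralizer ((K.map π : Subgroup (X ⧸ N)) : Set (X ⧸ N)))
    (fun x hx => Subgroup.mem_centralizer_iff.mpr (fun u hu => hx u hu)) (π a) hquad'
  set C := Subgroup.centralizer ((K.map π : Subgroup (X ⧸ N)) : Set (X ⧸ N)) with hC
  set f : X →* (X ⧸ N) ⧸ C := (QuotientGroup.mk' C).comp π with hf
  have hfs : Function.Surjective f := (QuotientGroup.mk'_surjective C).comp hπs
  have hker : Cfsg.sectionKernel K N = (⊥ : Subgroup ((X ⧸ N) ⧸ C)).comap f := by
    unfold Cfsg.sectionKernel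
    rw [hf, ← Subgroup.comap_comap, MonoidHom.comap_bot, QuotientGroup.ker_mk']
  refine ⟨(Cfsg.pCore p ((X ⧸ N) ⧸ C)).comap f, (pCore_normal p _).comap f, ?_, ?_, h1⟩
  · rw [hker]
    exact Subgroup.comap_mono bot_le
  · obtain ⟨k, hk⟩ := IsPGroup.iff_card.1 (pCore_isPGroup p ((X ⧸ N) ⧸ C))
    refine ⟨k, ?_⟩
    rw [hker, Subgroup.relIndex_comap, Subgroup.map_comap_eq_self_of_surjective hfs,
      Subgroup.relIndex_bot_left, hk]

/-- Solvable `{p,q}`-groups (`p` odd) with abelian `q`-subgroups are `p`-stable in the action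
sense. -/
theorem isActionPStable_of_isPQAb {X : Type*} [Group X] [Finite X] {p q : ℕ} [hp : Fact p.Prime]
    [Fact q.Prime] (hp2 : p ≠ 2) (hpq : p ≠ q) (hD : IsPQAb p q X) : Cfsg.IsActionPStable p X := by
  refine ⟨?_, ?_, ?_⟩
  · intro V hVn hV
    exact isPStableOn_of_isPQAb hp2 hpq hD V (elemAb_isPGroup hV)
  · exact isPStableOnSection_of_isPQAb hp2 hpq hD _ _ (pCore_isPGroup p X)
  · intro S V hVn hV
    apply isPStableOn_of_isPQAb hp2 hpq (hD.subgroup _) V
    rintro ⟨v, hv⟩
    have h1 : (v : X) ∈ (S : Subgroup X) := by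
      have := hV (Subgroup.mem_map_of_mem _ hv)
      exact (Subgroup.map_subtype_le _) this
    obtain ⟨k, hk⟩ := S.isPGroup' ⟨_, h1⟩
    refine ⟨k, ?_⟩
    apply Subtype.ext
    apply Subtype.ext
    have := congrArg Subtype.val hk
    simpa using this

universe u

/-- `W` as a functor on groups. -/
def wFun (p : ℕ) : ∀ (Q : Type u) [Group Q], Subgroup Q := fun Q _ => Cfsg.stableNormalClosure p Q

theorem isCharPFunctor_wFun (p : ℕ) [Fact p.Prime] : Cfsg.IsCharPFunctor p (wFun.{u} p) := by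
  refine ⟨?_, ?_⟩
  · intro Q _ _ hQ hnt
    exact (stableNormalClosure_props hQ).2.2.2.1 hnt
  · intro Q R _ _ _ hQ φ
    exact (stableNormalClosure_props hQ).2.2.2.2 R φ

theorem inducedFunctor_wFun {G : Type u} [Group G] (p : ℕ) (P : Subgroup G) :
    Cfsg.inducedFunctor (wFun p) P = wOf p P := rfl

/-- **Thompson's normal `p`-complement theorem in the form with `W(S)`**. -/
theorem hasNormalPComplement_of_normalizer_wOf {G : Type u} [Group G] [Finite G] {p : ℕ}
    [Fact p.Prime] (hp : p ≠ 2) (S : Sylow p G)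
    (hN : Cfsg.HasNormalPComplement p ↥(Subgroup.normalizer (wOf p (S : Subgroup G) : Set G))) :
    Cfsg.HasNormalPComplement p G := by
  have hmin : ∀ (Y : Type u) [Group Y] [Finite Y], True →
      Subgroup.centralizer ((Cfsg.pCore p Y : Subgroup Y) : Set Y) ≤ Cfsg.pCore p Y →
      Cfsg.HasNormalPComplement p (Y ⧸ Cfsg.pCore p Y) →
      ∀ T : Sylow p Y, IsCoatom (T : Subgroup Y) →
        (Cfsg.inducedFunctor (wFun p) (T : Subgroup Y)).Normal := by
    intro Y _ _ _ hc hq T hT
    obtain ⟨q, hq', hpq, hsol, hdiv, hab⟩ := exists_prime_structure_of_coatom_sylow hq T hT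
    have hqf : Fact q.Prime := ⟨hq'⟩
    have hD : IsPQAb p q Y := ⟨hsol, hdiv, hab⟩
    rw [inducedFunctor_wFun]
    exact wOf_normal (isActionPStable_of_isPQAb hp hpq hD) hc T
  have := hasNormalPComplement_of_minimal_sections (wFun p) (isCharPFunctor_wFun p)
    (fun Y _ => True) (fun _ _ _ _ => trivial) (fun _ _ _ _ _ => trivial) hmin (Nat.card G) G rfl
    trivial S
  apply this
  rw [inducedFunctor_wFun]
  exact hN

end Cfsg.Agent.Lib.Helper17
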