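/-
Helper lemmas (helper17): in a `p`-solvable group whose quotient by `O_{p'}` is action-`p`-stable,
`N_G(W(S))` supplements `O_{p'}(G)`.
-/
import Cfsg.Agent.Lib.Helper17.WStable4
import Cfsg.Agent.Lib.Helper24.PSolvable

set_option autoImplicit false

namespace Cfsg.Agent.Lib.Helper17

open scoped commutatorElement
open Cfsg.Agent.Lib.Helper4 Cfsg.Agent.Lib.Helper27 Cfsg.Agent.Lib.Helper12

universe u

/-- If `G` is `p`-solvable and `G / O_{p'}(G)` is action-`p`-stable, then `G = O_{p'}(G) N_G(W(S))`. -/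
theorem pPrimeCore_sup_normalizer_wOf {G : Type u} [Group G] [Finite G] {p : ℕ} [Fact p.Prime]
    (hsep : Cfsg.IsPSolvable p G)
    (hst : Cfsg.IsActionPStable p (G ⧸ Cfsg.pPrimeCore p G)) (S : Sylow p G) :
    Cfsg.pPrimeCore p G ⊔ Subgroup.normalizer (wOf p (S : Subgroup G) : Set G) = ⊤ := by
  have hDcop : (Nat.card (Cfsg.pPrimeCore p G)).Coprime p := pPrimeCore_coprime p
  have hmk : Function.Surjective (QuotientGroup.mk' (Cfsg.pPrimeCore p G)) :=
    QuotientGroup.mk'_surjective _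
  have hsolv : Cfsg.IsPSolvable p (G ⧸ Cfsg.pPrimeCore p G) :=
    Cfsg.Agent.Lib.Helper24.isPSolvable_of_surjective p _ hmk hsep
  have hO : Cfsg.pPrimeCore p (G ⧸ Cfsg.pPrimeCore p G) = ⊥ :=
    Cfsg.Agent.Lib.Helper24.pPrimeCore_quotient_eq_bot' p
  have hc := centralizer_pCore_le_pCore p hsolv hO
  have hn := wOf_normal hst hc (S.mapSurjective hmk)
  rw [Sylow.coe_mapSurjective] at hn
  have hinj : ∀ x ∈ (S : Subgroup G), (QuotientGroup.mk' (Cfsg.pPrimeCore p G)) x = 1 → x = 1 := by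
    intro x hx h1
    have hxD : x ∈ Cfsg.pPrimeCore p G := (QuotientGroup.eq_one_iff x).mp h1
    have hdisj : Disjoint (S : Subgroup G) (Cfsg.pPrimeCore p G) := by
      apply Subgroup.disjoint_of_coprime_natCard
      obtain ⟨k, hk⟩ := IsPGroup.iff_card.mp S.2
      rw [hk]
      exact (Nat.Coprime.pow_right k hDcop).symm
    exact Subgroup.disjoint_def.mp hdisj hx hxD
  have hnat := inducedFunctor_map_of_injOn (wFun p) (isCharPFunctor_wFun p)
    (QuotientGroup.mk' (Cfsg.pPrimeCore p G)) (S : Subgroup G) S.2 hinj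
  rw [inducedFunctor_wFun, inducedFunctor_wFun] at hnat
  rw [hnat] at hn
  have hle := normalizer_map_mk_le (Cfsg.pPrimeCore p G) hDcop (wOf p (S : Subgroup G))
    (S.2.to_le (wOf_le p _))
  rw [Subgroup.normalizer_eq_top_iff.2 hn] at hle
  rw [eq_top_iff]
  intro g _
  obtain ⟨n, hn', hng⟩ := hle (Subgroup.mem_top (QuotientGroup.mk' (Cfsg.pPrimeCore p G) g))
  have h1 : n⁻¹ * g ∈ Cfsg.pPrimeCore p G := by
    rw [← QuotientGroup.eq_one_iff, QuotientGroup.mk_mul, QuotientGroup.mk_inv]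
    rw [QuotientGroup.mk'_apply, QuotientGroup.mk'_apply] at hng
    rw [hng]; group
  have hnorm : (Cfsg.pPrimeCore p G).Normal := inferInstance
  have h2 : g = (g * (n⁻¹ * g)⁻¹) * (n⁻¹ * g) := by group
  have h3 : g * (n⁻¹ * g)⁻¹ = n := by group
  rw [h2, h3]
  have h4 : n * (n⁻¹ * g) = (n * (n⁻¹ * g) * n⁻¹) * n := by group
  rw [h4]
  exact Subgroup.mul_mem _ (Subgroup.mem_sup_left (hnorm.conj_mem _ h1 n))
    (Subgroup.mem_sup_right hn')

end Cfsg.Agent.Lib.Helper17
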