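/-
helper17: Zassenhaus cluster.  A nonabelian group of class two with a free representation, all of
whose characteristic nonabelian subgroups are the whole group, is the quaternion group of order 8.
-/
import Mathlib
import Cfsg.Agent.Lib.Helper17.ZsMainD

set_option autoImplicit false

namespace Cfsg.Agent.Lib.Helper17.Zs

open Subgroup QuaternionGroup
open scoped commutatorElement

universe u v

/-- a generalized quaternion group of class at most two has order `8` (or less) -/
theorem quat_class_two {m : ℕ}
    (h : ∀ x y w : QuaternionGroup m, ⁅x, y⁆ * w = w * ⁅x, y⁆) : 2 * m ∣ 4 := by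
  have hc : ⁅(a 1 : QuaternionGroup m), (xa 0 : QuaternionGroup m)⁆ * (xa 0 * a 1) = a 1 * xa 0 := by group
  rw [xa_mul_a, a_mul_xa] at hc
  have hcen := h (a 1) (xa 0) (xa 0 : QuaternionGroup m)
  rcases hcase : ⁅(a 1 : QuaternionGroup m), (xa 0 : QuaternionGroup m)⁆ with k | k
  · rw [hcase] at hc hcen
    rw [a_mul_xa] at hc
    rw [a_mul_xa, xa_mul_a] at hcen
    have h1 : (0 + 1 - k : ZMod (2 * m)) = 0 - 1 := by
      injection hc
    have h2 : (0 - k : ZMod (2 * m)) = 0 + k := by
      injection hcen
    have hk : k = 2 := by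
      have : k = (0 + 1) - (0 - 1) := by rw [← h1]; ring
      rw [this]; ring
    rw [hk] at h2
    have h4 : ((4 : ℕ) : ZMod (2 * m)) = 0 := by
      have : (4 : ZMod (2 * m)) = (0 + 2) - (0 - 2) := by ring
      push_cast
      rw [this, ← h2]; ring
    exact (ZMod.natCast_eq_zero_iff 4 (2 * m)).mp h4
  · rw [hcase] at hc
    rw [xa_mul_xa] at hc
    exact absurd hc (by simp)

section quat
variable {N : Type u} [Group N] [Finite N]

/-- a nonabelian group of class two with a free representation, whose characteristic nonabelian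
subgroups are trivial, is `Q₈` -/
theorem equiv_quaternion_of_class_two (h : HasFree.{u, v} N)
    (hna : ¬ ∀ a b : N, a * b = b * a)
    (hc2 : ∀ x y w : N, ⁅x, y⁆ * w = w * ⁅x, y⁆)
    (hmin : ∀ K : Subgroup N, K.Characteristic → (¬ ∀ a ∈ K, ∀ b ∈ K, a * b = b * a) → K = ⊤) :
    Nonempty (N ≃* QuaternionGroup 2) := by
  have : Fact (Nat.Prime 2) := ⟨Nat.prime_two⟩
  -- nilpotency
  have hnil : Group.IsNilpotent N := by
    refine ⟨⟨2, ?_⟩⟩
    rw [eq_top_iff]
    intro x _
    rw [Subgroup.mem_upperCentralSeries_succ_iff]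
    intro y
    rw [Subgroup.upperCentralSeries_one, Subgroup.mem_center_iff]
    intro w
    exact (hc2 x y w).symm
  obtain ⟨P⟩ : Nonempty (Sylow 2 N) := inferInstance
  have hPn : (P : Subgroup N).Normal := inferInstance
  have hPchar : (P : Subgroup N).Characteristic := P.characteristic_of_normal hPn
  -- `P` is nonabelian
  have hPna : ¬ ∀ a ∈ (P : Subgroup N), ∀ b ∈ (P : Subgroup N), a * b = b * a := by
    intro hPab
    apply hna
    have hPcyc : IsCyclic (P : Subgroup N) := by
      apply (h.subgroup (P : Subgroup N)).isCyclic_of_comm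
      intro x y
      exact Subtype.ext (hPab x x.2 y y.2)
    have hZ : IsZGroup N := by
      refine ⟨fun q hq Q => ?_⟩
      have : Fact q.Prime := ⟨hq⟩
      by_cases hq2 : q = 2
      · subst hq2
        have : Unique (Sylow 2 N) := Sylow.unique_of_normal P hPn
        rw [Subsingleton.elim Q P]
        exact hPcyc
      · exact h.isCyclic_sylow q hq2 Q
    have hcyc : IsCyclic N := inferInstance
    let _ : CommGroup N := IsCyclic.commGroup
    exact fun a b => mul_comm a b
  have hPtop : (P : Subgroup N) = ⊤ := hmin _ hPchar hPna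
  have hN2 : IsPGroup 2 N := by
    intro g
    obtain ⟨k, hk⟩ := P.isPGroup' ⟨g, hPtop ▸ mem_top g⟩
    exact ⟨k, by simpa using congrArg Subtype.val hk⟩
  rcases Cfsg.Agent.Lib.Helper18.isCyclic_or_quaternion_of_unique_involution hN2
    h.involution_unique with hc | ⟨n, hn, ⟨e⟩⟩
  · exfalso
    apply hna
    let _ : CommGroup N := IsCyclic.commGroup
    exact fun a b => mul_comm a b
  · have hdvd : 2 * 2 ^ n ∣ 4 := by
      apply quat_class_two
      intro x y w
      have := hc2 (e.symm x) (e.symm y) (e.symm w)
      have h2 := congrArg e this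
      simpa [map_commutatorElement] using h2
    have hn1 : n = 1 := by
      have h1 : 2 * 2 ^ n ≤ 4 := Nat.le_of_dvd (by norm_num) hdvd
      have h2 : 2 ^ n ≤ 2 ^ 1 := by omega
      have h3 : n ≤ 1 := (Nat.pow_le_pow_iff_right (by norm_num)).mp h2
      omega
    subst hn1
    exact ⟨e⟩

end quat

end Cfsg.Agent.Lib.Helper17.Zs
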